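import Mathlib
import Cfsg.Prelude.Def_KGroupFacts

/-!
# General lemmas for the theory of Schur multipliers (helper18)

* `finite_commutator_of_central_ker`: central-by-finite groups have finite commutator subgroup
  (Schur), in the form used for central extensions.
* `surjective_of_comp_surjective_of_stem`: a homomorphism into a stem extension which is onto modulo
  the kernel is onto.
* `hom_ext_of_perfect_of_central`: two homomorphisms from a perfect group agreeing modulo a central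
  kernel are equal.
* `exists_central_complement`: splitting off a free abelian quotient inside a central subgroup.
-/

set_option autoImplicit false

namespace Cfsg.Agent.Lib.H18

universe u v w

open scoped commutatorElement

/-- If `ξ : X →* Q` has central kernel and `Q` is finite, then `X` has finitely many commutators. -/
theorem finite_commutatorSet_of_central_ker {X : Type*} {Q : Type*} [Group X] [Group Q] [Finite Q]
    (ξ : X →* Q) (hker : ξ.ker ≤ Subgroup.center X) : Finite (commutatorSet X) := by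
  classical
  -- a set-theoretic section of `ξ` on its range
  have hsec : ∀ q : ξ.range, ∃ x : X, ξ x = q := fun q => q.2
  choose e he using hsec
  have hdecomp : ∀ a : X, ∃ z ∈ Subgroup.center X, a = e ⟨ξ a, ⟨a, rfl⟩⟩ * z := by
    intro a
    refine ⟨(e ⟨ξ a, ⟨a, rfl⟩⟩)⁻¹ * a, hker ?_, by group⟩
    rw [MonoidHom.mem_ker, map_mul, map_inv, he]
    simp
  have hsub : commutatorSet X ⊆ Set.range (fun qr : ξ.range × ξ.range => ⁅e qr.1, e qr.2⁆) := by
    rintro _ ⟨a, b, rfl⟩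
    obtain ⟨z, hz, ha⟩ := hdecomp a
    obtain ⟨w, hw, hb⟩ := hdecomp b
    refine ⟨(⟨ξ a, ⟨a, rfl⟩⟩, ⟨ξ b, ⟨b, rfl⟩⟩), ?_⟩
    rw [Subgroup.mem_center_iff] at hz hw
    simp only
    conv_rhs => rw [ha, hb]
    simp only [commutatorElement_def]
    have h1 : ∀ g : X, g * z = z * g := hz
    have h2 : ∀ g : X, g * w = w * g := hw
    set x := e ⟨ξ a, ⟨a, rfl⟩⟩
    set y := e ⟨ξ b, ⟨b, rfl⟩⟩
    have e1 : (x * z)⁻¹ = x⁻¹ * z⁻¹ := by
      rw [mul_inv_rev]
      have := h1 x⁻¹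
      have h3 : z⁻¹ * x⁻¹ = x⁻¹ * z⁻¹ := by
        have : x⁻¹ * z = z * x⁻¹ := h1 x⁻¹
        calc z⁻¹ * x⁻¹ = z⁻¹ * (x⁻¹ * z) * z⁻¹ := by group
          _ = z⁻¹ * (z * x⁻¹) * z⁻¹ := by rw [this]
          _ = x⁻¹ * z⁻¹ := by group
      exact h3
    have e2 : (y * w)⁻¹ = y⁻¹ * w⁻¹ := by
      rw [mul_inv_rev]
      have : y⁻¹ * w = w * y⁻¹ := h2 y⁻¹
      calc w⁻¹ * y⁻¹ = w⁻¹ * (y⁻¹ * w) * w⁻¹ := by group
        _ = w⁻¹ * (w * y⁻¹) * w⁻¹ := by rw [this]
        _ = y⁻¹ * w⁻¹ := by group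
    rw [e1, e2]
    -- x z y w x⁻¹ z⁻¹ y⁻¹ w⁻¹ = x y x⁻¹ y⁻¹
    calc x * y * x⁻¹ * y⁻¹ = x * y * x⁻¹ * y⁻¹ * (z * z⁻¹) * (w * w⁻¹) := by group
      _ = x * z * (y * w) * (x⁻¹ * z⁻¹) * (y⁻¹ * w⁻¹) := by
        have hz' : ∀ g : X, g * z⁻¹ = z⁻¹ * g := by
          intro g
          have := h1 (z⁻¹ * g * z⁻¹)
          calc g * z⁻¹ = z * (z⁻¹ * g * z⁻¹) := by group
            _ = (z⁻¹ * g * z⁻¹) * z := (h1 _).symm
            _ = z⁻¹ * g := by group
        have hw' : ∀ g : X, g * w⁻¹ = w⁻¹ * g := by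
          intro g
          calc g * w⁻¹ = w * (w⁻¹ * g * w⁻¹) := by group
            _ = (w⁻¹ * g * w⁻¹) * w := (h2 _).symm
            _ = w⁻¹ * g := by group
        -- move all central elements to the right
        calc x * y * x⁻¹ * y⁻¹ * (z * z⁻¹) * (w * w⁻¹)
            = x * y * x⁻¹ * (y⁻¹ * z) * z⁻¹ * w * w⁻¹ := by group
          _ = x * y * x⁻¹ * (z * y⁻¹) * z⁻¹ * w * w⁻¹ := by rw [h1 y⁻¹]
          _ = x * y * (x⁻¹ * z) * y⁻¹ * z⁻¹ * w * w⁻¹ := by group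
          _ = x * y * (z * x⁻¹) * y⁻¹ * z⁻¹ * w * w⁻¹ := by rw [h1 x⁻¹]
          _ = x * (y * z) * x⁻¹ * y⁻¹ * z⁻¹ * w * w⁻¹ := by group
          _ = x * (z * y) * x⁻¹ * y⁻¹ * z⁻¹ * w * w⁻¹ := by rw [h1 y]
          _ = x * z * y * x⁻¹ * (y⁻¹ * z⁻¹) * w * w⁻¹ := by group
          _ = x * z * y * x⁻¹ * (z⁻¹ * y⁻¹) * w * w⁻¹ := by rw [hz' y⁻¹]
          _ = x * z * y * (x⁻¹ * z⁻¹) * (y⁻¹ * w) * w⁻¹ := by group
          _ = x * z * y * (x⁻¹ * z⁻¹) * (w * y⁻¹) * w⁻¹ := by rw [h2 y⁻¹]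
          _ = x * z * y * (x⁻¹ * z⁻¹ * w) * y⁻¹ * w⁻¹ := by group
          _ = x * z * y * (w * (x⁻¹ * z⁻¹)) * y⁻¹ * w⁻¹ := by rw [h2 (x⁻¹ * z⁻¹)]
          _ = x * z * (y * w) * (x⁻¹ * z⁻¹) * (y⁻¹ * w⁻¹) := by group
  haveI : Finite ξ.range := Finite.of_injective (fun q : ξ.range => (q : Q)) Subtype.val_injective
  exact (Set.finite_range _).subset hsub |>.to_subtype

/-- Schur: a group with a central subgroup of finite index (given as the kernel of a map to a finite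
group) has finite commutator subgroup. -/
theorem finite_commutator_of_central_ker {X : Type*} {Q : Type*} [Group X] [Group Q] [Finite Q]
    (ξ : X →* Q) (hker : ξ.ker ≤ Subgroup.center X) : Finite (commutator X) := by
  haveI := finite_commutatorSet_of_central_ker ξ hker
  infer_instance

/-- If `τ : Δ →* Q` has kernel inside `Z(Δ) ∩ Δ'` and `φ : X →* Δ` is such that `τ ∘ φ` is onto,
then `φ` is onto. -/
theorem surjective_of_comp_surjective_of_stem {X Δ Q : Type*} [Group X] [Group Δ] [Group Q]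
    (τ : Δ →* Q) (hc : τ.ker ≤ Subgroup.center Δ) (hd : τ.ker ≤ commutator Δ)
    (φ : X →* Δ) (hs : Function.Surjective (τ.comp φ)) : Function.Surjective φ := by
  have hdecomp : ∀ δ : Δ, ∃ x : X, ∃ k ∈ τ.ker, δ = φ x * k := by
    intro δ
    obtain ⟨x, hx⟩ := hs (τ δ)
    refine ⟨x, (φ x)⁻¹ * δ, ?_, by group⟩
    rw [MonoidHom.mem_ker, map_mul, map_inv]
    have : τ (φ x) = τ δ := hx
    rw [this]
    simp
  -- every commutator lies in the range of `φ`
  have hcomm : commutator Δ ≤ φ.range := by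
    rw [commutator_eq_closure, Subgroup.closure_le]
    rintro _ ⟨a, b, rfl⟩
    obtain ⟨x, k, hk, rfl⟩ := hdecomp a
    obtain ⟨y, l, hl, rfl⟩ := hdecomp b
    have hk' := Subgroup.mem_center_iff.mp (hc hk)
    have hl' := Subgroup.mem_center_iff.mp (hc hl)
    refine ⟨⁅x, y⁆, ?_⟩
    rw [map_commutatorElement]
    simp only [commutatorElement_def]
    set u := φ x
    set v := φ y
    have e1 : (u * k)⁻¹ = u⁻¹ * k⁻¹ := by
      rw [mul_inv_rev]
      have : u⁻¹ * k = k * u⁻¹ := hk' u⁻¹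
      calc k⁻¹ * u⁻¹ = k⁻¹ * (u⁻¹ * k) * k⁻¹ := by group
        _ = k⁻¹ * (k * u⁻¹) * k⁻¹ := by rw [this]
        _ = u⁻¹ * k⁻¹ := by group
    have e2 : (v * l)⁻¹ = v⁻¹ * l⁻¹ := by
      rw [mul_inv_rev]
      have : v⁻¹ * l = l * v⁻¹ := hl' v⁻¹
      calc l⁻¹ * v⁻¹ = l⁻¹ * (v⁻¹ * l) * l⁻¹ := by group
        _ = l⁻¹ * (l * v⁻¹) * l⁻¹ := by rw [this]
        _ = v⁻¹ * l⁻¹ := by group
    rw [e1, e2]
    have hk'' : ∀ g : Δ, g * k⁻¹ = k⁻¹ * g := by
      intro g
      calc g * k⁻¹ = k * (k⁻¹ * g * k⁻¹) := by group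
        _ = (k⁻¹ * g * k⁻¹) * k := (hk' _).symm
        _ = k⁻¹ * g := by group
    have hl'' : ∀ g : Δ, g * l⁻¹ = l⁻¹ * g := by
      intro g
      calc g * l⁻¹ = l * (l⁻¹ * g * l⁻¹) := by group
        _ = (l⁻¹ * g * l⁻¹) * l := (hl' _).symm
        _ = l⁻¹ * g := by group
    calc u * v * u⁻¹ * v⁻¹ = u * v * u⁻¹ * v⁻¹ * (k * k⁻¹) * (l * l⁻¹) := by group
      _ = u * v * u⁻¹ * (v⁻¹ * k) * k⁻¹ * l * l⁻¹ := by group
      _ = u * v * u⁻¹ * (k * v⁻¹) * k⁻¹ * l * l⁻¹ := by rw [hk' v⁻¹]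
      _ = u * v * (u⁻¹ * k) * v⁻¹ * k⁻¹ * l * l⁻¹ := by group
      _ = u * v * (k * u⁻¹) * v⁻¹ * k⁻¹ * l * l⁻¹ := by rw [hk' u⁻¹]
      _ = u * (v * k) * u⁻¹ * v⁻¹ * k⁻¹ * l * l⁻¹ := by group
      _ = u * (k * v) * u⁻¹ * v⁻¹ * k⁻¹ * l * l⁻¹ := by rw [hk' v]
      _ = u * k * v * u⁻¹ * (v⁻¹ * k⁻¹) * l * l⁻¹ := by group
      _ = u * k * v * u⁻¹ * (k⁻¹ * v⁻¹) * l * l⁻¹ := by rw [hk'' v⁻¹]
      _ = u * k * v * (u⁻¹ * k⁻¹) * (v⁻¹ * l) * l⁻¹ := by group
      _ = u * k * v * (u⁻¹ * k⁻¹) * (l * v⁻¹) * l⁻¹ := by rw [hl' v⁻¹]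
      _ = u * k * v * (u⁻¹ * k⁻¹ * l) * v⁻¹ * l⁻¹ := by group
      _ = u * k * v * (l * (u⁻¹ * k⁻¹)) * v⁻¹ * l⁻¹ := by rw [hl' (u⁻¹ * k⁻¹)]
      _ = u * k * (v * l) * (u⁻¹ * k⁻¹) * (v⁻¹ * l⁻¹) := by group
  intro δ
  obtain ⟨x, k, hk, rfl⟩ := hdecomp δ
  obtain ⟨y, hy⟩ := hcomm (hd hk)
  exact ⟨x * y, by rw [map_mul, hy]⟩

/-- Two homomorphisms from a perfect group which agree after composing with a map with central
kernel are equal. -/
theorem hom_ext_of_perfect_of_central {G X Q : Type*} [Group G] [Group X] [Group Q]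
    (hG : commutator G = ⊤) (ξ : X →* Q) (hker : ξ.ker ≤ Subgroup.center X)
    (η₁ η₂ : G →* X) (h : ξ.comp η₁ = ξ.comp η₂) : η₁ = η₂ := by
  have hd : ∀ g : G, η₁ g * (η₂ g)⁻¹ ∈ Subgroup.center X := by
    intro g
    apply hker
    rw [MonoidHom.mem_ker, map_mul, map_inv]
    have : ξ (η₁ g) = ξ (η₂ g) := DFunLike.congr_fun h g
    rw [this]
    simp
  let d : G →* Subgroup.center X :=
    { toFun := fun g => ⟨η₁ g * (η₂ g)⁻¹, hd g⟩
      map_one' := by
        apply Subtype.ext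
        simp
      map_mul' := by
        intro a b
        apply Subtype.ext
        have hb := Subgroup.mem_center_iff.mp (hd b)
        change η₁ (a * b) * (η₂ (a * b))⁻¹ = η₁ a * (η₂ a)⁻¹ * (η₁ b * (η₂ b)⁻¹)
        rw [map_mul, map_mul, mul_inv_rev]
        calc η₁ a * η₁ b * ((η₂ b)⁻¹ * (η₂ a)⁻¹)
            = η₁ a * (η₁ b * (η₂ b)⁻¹) * (η₂ a)⁻¹ := by group
          _ = η₁ a * ((η₂ a)⁻¹ * (η₁ b * (η₂ b)⁻¹)) := by
              rw [mul_assoc, hb (η₂ a)⁻¹]
          _ = η₁ a * (η₂ a)⁻¹ * (η₁ b * (η₂ b)⁻¹) := by group }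
  have hker' : d.ker = ⊤ := by
    rw [eq_top_iff, ← hG, commutator_eq_closure, Subgroup.closure_le]
    rintro _ ⟨a, c, rfl⟩
    rw [SetLike.mem_coe, MonoidHom.mem_ker, map_commutatorElement, commutatorElement_def]
    have hac : d a * d c = d c * d a := by
      apply Subtype.ext
      exact (Subgroup.mem_center_iff.mp (d c).2 (d a : X))
    rw [hac]
    group
  ext g
  have hg : g ∈ d.ker := by rw [hker']; trivial
  rw [MonoidHom.mem_ker] at hg
  have := congrArg Subtype.val hg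
  change η₁ g * (η₂ g)⁻¹ = 1 at this
  exact mul_inv_eq_one.mp this

/-- A finite group has a copy in any universe. -/
theorem exists_mulEquiv_universe (X : Type u) [Group X] [Finite X] :
    ∃ (Y : Type v) (_ : Group Y) (_ : Finite Y), Nonempty (X ≃* Y) := by
  obtain ⟨n, ⟨e⟩⟩ := Finite.exists_equiv_fin X
  let e' : ULift.{v} {i : ℕ // i < n} ≃ X :=
    Equiv.ulift.trans ((Fin.equivSubtype (n := n)).symm.trans e.symm)
  letI : Group (ULift.{v} {i : ℕ // i < n}) := e'.group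
  haveI : Finite (ULift.{v} {i : ℕ // i < n}) := Finite.of_equiv X e'.symm
  exact ⟨ULift.{v} {i : ℕ // i < n}, inferInstance, inferInstance, ⟨(e'.mulEquiv).symm⟩⟩

/-- Splitting lemma: let `Z` be a central subgroup of `E`, `f : E →* B` a homomorphism into a free
abelian group of finite rank, and `K ≤ Z` a subgroup with `f(K) = f(Z)`.  Then there is a subgroup
`S ≤ K` on which `f` is injective with `f(S) = f(Z)`. -/
theorem exists_central_complement {E B : Type*} [Group E] [CommGroup B]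
    {ι : Type*} [Finite ι] (b : Module.Basis ι ℤ (Additive B))
    (Z K : Subgroup E) (hZ : Z ≤ Subgroup.center E) (hKZ : K ≤ Z) (f : E →* B)
    (hK : ∀ z ∈ Z, ∃ k ∈ K, f k = f z) :
    ∃ S : Subgroup E, S ≤ K ∧ (∀ s ∈ S, f s = 1 → s = 1) ∧ ∀ z ∈ Z, ∃ s ∈ S, f s = f z := by
  classical
  letI : CommGroup K :=
    { (inferInstance : Group K) with
      mul_comm := fun a c => Subtype.ext (by
        have := Subgroup.mem_center_iff.mp (hZ (hKZ a.2))
        exact (this c.1).symm) }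
  let g₀ : K →* B := f.comp K.subtype
  let g : Additive K →ₗ[ℤ] Additive B := (MonoidHom.toAdditive g₀).toIntLinearMap
  have hg : ∀ k : K, g (Additive.ofMul k) = Additive.ofMul (f (k : E)) := fun k => rfl
  obtain ⟨n, ⟨bI⟩⟩ := Submodule.nonempty_basis_of_pid b (LinearMap.range g)
  haveI : Module.Free ℤ (LinearMap.range g) := Module.Free.of_basis bI
  obtain ⟨s, hs⟩ := Module.projective_lifting_property g.rangeRestrict LinearMap.id
    g.surjective_rangeRestrict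
  have hs' : ∀ i : LinearMap.range g, g (s i) = (i : Additive B) := by
    intro i
    have := LinearMap.congr_fun hs i
    simp only [LinearMap.coe_comp, Function.comp_apply, LinearMap.id_coe, id_eq] at this
    have h2 := congrArg Subtype.val this
    simpa using h2
  refine ⟨Subgroup.map K.subtype (AddSubgroup.toSubgroup' (LinearMap.range s).toAddSubgroup),
    (Subgroup.map_subtype_le _), ?_, ?_⟩
  · rintro _ ⟨k, hk, rfl⟩ hfk
    have hk' : Additive.ofMul k ∈ (LinearMap.range s).toAddSubgroup := hk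
    obtain ⟨i, hi⟩ := hk'
    have h1 : g (s i) = 0 := by
      rw [hi, hg]
      change Additive.ofMul (f (k : E)) = Additive.ofMul 1
      rw [show K.subtype k = (k : E) from rfl] at hfk
      rw [hfk]
    rw [hs'] at h1
    have h2 : i = 0 := Subtype.ext h1
    rw [h2, map_zero] at hi
    have h3 : k = 1 := by
      have : Additive.ofMul k = Additive.ofMul 1 := hi.symm
      exact Additive.ofMul.injective this
    rw [h3]
    rfl
  · intro z hz
    obtain ⟨k, hk, hkz⟩ := hK z hz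
    let i : LinearMap.range g := g.rangeRestrict (Additive.ofMul (⟨k, hk⟩ : K))
    refine ⟨((Additive.toMul (s i) : K) : E), ⟨Additive.toMul (s i), ?_, rfl⟩, ?_⟩
    · change Additive.ofMul (Additive.toMul (s i)) ∈ (LinearMap.range s).toAddSubgroup
      exact ⟨i, rfl⟩
    · have h1 := hs' i
      have h2 : g (s i) = Additive.ofMul (f ((Additive.toMul (s i) : K) : E)) := hg _
      rw [h2] at h1
      have h3 : (i : Additive B) = Additive.ofMul (f k) := rfl
      rw [h3] at h1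
      have := Additive.ofMul.injective h1
      rw [this, hkz]

end Cfsg.Agent.Lib.H18
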