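import Mathlib
import Cfsg.Prelude.Def_KGroupFacts
import Cfsg.Agent.Lib.H18.SchurBasic

/-!
# Schur covers via the Hopf construction (helper18)

For a group `Q` let `F = FreeGroup Q → Q` be the canonical presentation with kernel `R`,
`E = F/[F,R]` (`scE Q`), `π : E → Q` (`scπ Q`) with central kernel `Z = R/[F,R]` (`scZ Q`) and
`T = Z ∩ E'` (`scT Q`), the Schur multiplier.  Main results:

* `sc_lift`: `E → Q` maps to every central extension of `Q`;
* `sc_stem`: for a stem extension `τ : Δ → Q` the induced `φ : E → Δ` is onto with `φ(T) = ker τ`;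
* `sc_exists_complement`: for finite `Q`, complements `S` of `T` in `Z` exist inside any `K ≤ Z`
  with `KT = Z`;
* `sc_cover_*`: `E/S → Q` is a finite stem extension with kernel `≃* T`;
* `SchurT Q`, `hasSchurMultiplier_schurT`, `mulEquiv_schurT_of_hasSchurMultiplier`.
-/

set_option autoImplicit false

namespace Cfsg.Agent.Lib.H18

open scoped commutatorElement

universe u v w

section Construction

variable (Q : Type u) [Group Q]

/-- The canonical presentation `FreeGroup Q → Q`. -/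
def scπ₀ : FreeGroup Q →* Q := FreeGroup.lift id

theorem scπ₀_of (q : Q) : scπ₀ Q (FreeGroup.of q) = q := by
  simp [scπ₀]

theorem scπ₀_surjective : Function.Surjective (scπ₀ Q) := fun q => ⟨FreeGroup.of q, scπ₀_of Q q⟩

/-- `[F, R]`. -/
def scC : Subgroup (FreeGroup Q) := ⁅(⊤ : Subgroup (FreeGroup Q)), (scπ₀ Q).ker⁆

theorem scC_def : scC Q = ⁅(⊤ : Subgroup (FreeGroup Q)), (scπ₀ Q).ker⁆ := rfl

instance scC_normal : (scC Q).Normal := by
  rw [scC_def]
  infer_instance

theorem scC_le_ker : scC Q ≤ (scπ₀ Q).ker := by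
  rw [scC_def]
  exact Subgroup.commutator_le_right _ _

theorem scC_le_commutator : scC Q ≤ commutator (FreeGroup Q) := by
  rw [scC_def, commutator_def]
  exact Subgroup.commutator_mono le_rfl le_top

/-- `E = F/[F,R]`. -/
abbrev scE : Type u := FreeGroup Q ⧸ scC Q

/-- `π : E → Q`. -/
def scπ : scE Q →* Q := QuotientGroup.lift (scC Q) (scπ₀ Q) (fun _ hx => scC_le_ker Q hx)

theorem scπ_mk (x : FreeGroup Q) : scπ Q (QuotientGroup.mk x) = scπ₀ Q x := rfl

theorem scπ_surjective : Function.Surjective (scπ Q) := fun q => by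
  obtain ⟨x, hx⟩ := scπ₀_surjective Q q
  exact ⟨QuotientGroup.mk x, hx⟩

/-- `Z = ker π = R/[F,R]`. -/
def scZ : Subgroup (scE Q) := (scπ Q).ker

theorem mem_scZ {e : scE Q} : e ∈ scZ Q ↔ scπ Q e = 1 := MonoidHom.mem_ker

theorem scZ_le_center : scZ Q ≤ Subgroup.center (scE Q) := by
  intro z hz
  rw [Subgroup.mem_center_iff]
  intro g
  obtain ⟨r, rfl⟩ := QuotientGroup.mk_surjective z
  obtain ⟨x, rfl⟩ := QuotientGroup.mk_surjective g
  have hr : r ∈ (scπ₀ Q).ker := by
    rw [MonoidHom.mem_ker, ← scπ_mk]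
    exact (mem_scZ Q).mp hz
  have h1 : ⁅x, r⁆ ∈ scC Q := Subgroup.commutator_mem_commutator (Subgroup.mem_top x) hr
  have h2 : ((⁅x, r⁆ : FreeGroup Q) : scE Q) = 1 := (QuotientGroup.eq_one_iff _).mpr h1
  have h3 : x * r = ⁅x, r⁆ * (r * x) := by
    rw [commutatorElement_def]; group
  calc (x : scE Q) * (r : scE Q) = ((x * r : FreeGroup Q) : scE Q) := rfl
    _ = ((⁅x, r⁆ * (r * x) : FreeGroup Q) : scE Q) := by rw [h3]
    _ = ((⁅x, r⁆ : FreeGroup Q) : scE Q) * ((r * x : FreeGroup Q) : scE Q) := rfl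
    _ = (r : scE Q) * (x : scE Q) := by rw [h2, one_mul]; rfl

/-- `E → Q` maps to every central extension of `Q`. -/
theorem sc_lift {X : Type w} [Group X] (ξ : X →* Q) (hξ : Function.Surjective ξ)
    (hker : ξ.ker ≤ Subgroup.center X) : ∃ φ : scE Q →* X, ξ.comp φ = scπ Q := by
  classical
  choose s hs using hξ
  let ψ : FreeGroup Q →* X := FreeGroup.lift s
  have hψ : ξ.comp ψ = scπ₀ Q := by
    apply FreeGroup.ext_hom
    intro q
    simp [ψ, scπ₀, hs]
  have hψ' : ∀ x, ξ (ψ x) = scπ₀ Q x := fun x => DFunLike.congr_fun hψ x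
  have hkill : scC Q ≤ ψ.ker := by
    rw [scC_def, Subgroup.commutator_le]
    intro x _ r hr
    rw [MonoidHom.mem_ker, map_commutatorElement, commutatorElement_def]
    have hr' : ψ r ∈ Subgroup.center X := by
      apply hker
      rw [MonoidHom.mem_ker, hψ']
      exact hr
    have := Subgroup.mem_center_iff.mp hr' (ψ x)
    rw [this]
    group
  refine ⟨QuotientGroup.lift (scC Q) ψ (fun _ hx => hkill hx), ?_⟩
  apply QuotientGroup.monoidHom_ext
  ext x
  simp only [MonoidHom.coe_comp, Function.comp_apply, QuotientGroup.mk'_apply, QuotientGroup.lift_mk]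
  rw [hψ', scπ_mk]

/-- The map `E → F^{ab}`. -/
def scab : scE Q →* Abelianization (FreeGroup Q) :=
  QuotientGroup.lift (scC Q) Abelianization.of (fun x hx => by
    have : x ∈ (Abelianization.of (G := FreeGroup Q)).ker := by
      rw [Abelianization.ker_of]
      exact scC_le_commutator Q hx
    exact this)

theorem scab_mk (x : FreeGroup Q) : scab Q (QuotientGroup.mk x) = Abelianization.of x := rfl

theorem scab_ker : (scab Q).ker = commutator (scE Q) := by
  apply le_antisymm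
  · intro e he
    obtain ⟨x, rfl⟩ := QuotientGroup.mk_surjective e
    rw [MonoidHom.mem_ker, scab_mk] at he
    have hx : x ∈ commutator (FreeGroup Q) := by
      rw [← Abelianization.ker_of]
      exact he
    have h1 : (QuotientGroup.mk' (scC Q)) x ∈ (commutator (FreeGroup Q)).map (QuotientGroup.mk' (scC Q)) :=
      Subgroup.mem_map_of_mem _ hx
    rw [commutator_def, Subgroup.map_commutator] at h1
    rw [commutator_def]
    exact Subgroup.commutator_mono le_top le_top h1
  · exact Abelianization.commutator_subset_ker (scab Q)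

/-- The Schur multiplier `T = Z ∩ E'`. -/
def scT : Subgroup (scE Q) := scZ Q ⊓ commutator (scE Q)

theorem mem_scT {e : scE Q} : e ∈ scT Q ↔ e ∈ scZ Q ∧ e ∈ commutator (scE Q) := Iff.rfl

theorem scT_le_scZ : scT Q ≤ scZ Q := inf_le_left

theorem mem_scT_iff {e : scE Q} : e ∈ scT Q ↔ e ∈ scZ Q ∧ scab Q e = 1 := by
  rw [mem_scT, ← scab_ker, MonoidHom.mem_ker]

instance scT_finite [Finite Q] : Finite (scT Q) := by
  haveI : Finite (commutator (scE Q)) := finite_commutator_of_central_ker (scπ Q) (scZ_le_center Q)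
  exact Finite.of_injective (fun t : scT Q => (⟨t.1, t.2.2⟩ : commutator (scE Q)))
    (fun a b h => Subtype.ext (by
      have := congrArg (fun c : commutator (scE Q) => (c : scE Q)) h
      exact this))

/-- For a stem extension `τ : Δ → Q`, the induced map `E → Δ` is onto and maps `T` onto `ker τ`. -/
theorem sc_stem {Δ : Type w} [Group Δ] (τ : Δ →* Q) (hτ : Cfsg.IsStemExtension τ) :
    ∃ φ : scE Q →* Δ, τ.comp φ = scπ Q ∧ Function.Surjective φ ∧
      ∀ k ∈ τ.ker, ∃ t ∈ scT Q, φ t = k := by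
  obtain ⟨hsurj, hc, hd⟩ := hτ
  obtain ⟨φ, hφ⟩ := sc_lift Q τ hsurj hc
  have hφs : Function.Surjective φ := by
    apply surjective_of_comp_surjective_of_stem τ hc hd φ
    rw [hφ]
    exact scπ_surjective Q
  refine ⟨φ, hφ, hφs, ?_⟩
  intro k hk
  have h1 : k ∈ (commutator (scE Q)).map φ := by
    have : (commutator (scE Q)).map φ = commutator Δ := by
      rw [commutator_def, Subgroup.map_commutator, commutator_def]
      have : (⊤ : Subgroup (scE Q)).map φ = ⊤ := by
        rw [← MonoidHom.range_eq_map, MonoidHom.range_eq_top]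
        exact hφs
      rw [this]
    rw [this]
    exact hd hk
  obtain ⟨c, hc', rfl⟩ := h1
  refine ⟨c, ⟨?_, hc'⟩, rfl⟩
  change c ∈ scZ Q
  rw [mem_scZ, ← hφ]
  exact hk

end Construction

section Complement

variable (Q : Type u) [Group Q]

/-- `S` is a complement of `T` in `Z`. -/
structure IsScComplement (S : Subgroup (scE Q)) : Prop where
  le : S ≤ scZ Q
  inf : ∀ s ∈ S, s ∈ scT Q → s = 1
  sup : ∀ z ∈ scZ Q, ∃ s ∈ S, ∃ t ∈ scT Q, z = s * t

/-- For finite `Q`, complements of `T` in `Z` exist inside any `K ≤ Z` with `KT = Z`. -/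
theorem sc_exists_complement [Finite Q] (K : Subgroup (scE Q)) (hK : K ≤ scZ Q)
    (hKT : ∀ z ∈ scZ Q, ∃ k ∈ K, ∃ t ∈ scT Q, z = k * t) :
    ∃ S : Subgroup (scE Q), S ≤ K ∧ IsScComplement Q S := by
  have hK' : ∀ z ∈ scZ Q, ∃ k ∈ K, scab Q k = scab Q z := by
    intro z hz
    obtain ⟨k, hk, t, ht, rfl⟩ := hKT z hz
    refine ⟨k, hk, ?_⟩
    rw [map_mul, ((mem_scT_iff Q).mp ht).2, mul_one]
  obtain ⟨S, hSK, hS1, hS2⟩ := exists_central_complement
    (B := Abelianization (FreeGroup Q)) (FreeAbelianGroup.basis Q)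
    (scZ Q) K (scZ_le_center Q) hK (scab Q) hK'
  refine ⟨S, hSK, hSK.trans hK, ?_, ?_⟩
  · intro s hs hsT
    exact hS1 s hs ((mem_scT_iff Q).mp hsT).2
  · intro z hz
    obtain ⟨s, hs, hsz⟩ := hS2 z hz
    refine ⟨s, hs, s⁻¹ * z, ?_, by group⟩
    rw [mem_scT_iff]
    refine ⟨(scZ Q).mul_mem ((scZ Q).inv_mem (hK (hSK hs))) hz, ?_⟩
    rw [map_mul, map_inv, hsz]
    simp

theorem sc_exists_complement' [Finite Q] : ∃ S : Subgroup (scE Q), IsScComplement Q S := by
  obtain ⟨S, -, hS⟩ := sc_exists_complement Q (scZ Q) le_rfl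
    (fun z hz => ⟨z, hz, 1, Subgroup.one_mem _, by simp⟩)
  exact ⟨S, hS⟩

variable {Q}

theorem IsScComplement.normal {S : Subgroup (scE Q)} (hS : IsScComplement Q S) : S.Normal := by
  refine ⟨fun s hs g => ?_⟩
  have := Subgroup.mem_center_iff.mp (scZ_le_center Q (hS.le hs)) g
  rw [this]
  simpa using hs

/-- The cover `E/S → Q`. -/
def scσ (S : Subgroup (scE Q)) [S.Normal] (hS : S ≤ scZ Q) : scE Q ⧸ S →* Q :=
  QuotientGroup.lift S (scπ Q) (fun _ hx => (mem_scZ Q).mp (hS hx))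

theorem scσ_mk (S : Subgroup (scE Q)) [S.Normal] (hS : S ≤ scZ Q) (e : scE Q) :
    scσ S hS (QuotientGroup.mk e) = scπ Q e := rfl

theorem scσ_comp_mk (S : Subgroup (scE Q)) [S.Normal] (hS : S ≤ scZ Q) :
    (scσ S hS).comp (QuotientGroup.mk' S) = scπ Q := rfl

theorem scσ_surjective (S : Subgroup (scE Q)) [S.Normal] (hS : S ≤ scZ Q) :
    Function.Surjective (scσ S hS) := fun q => by
  obtain ⟨e, he⟩ := scπ_surjective Q q
  exact ⟨QuotientGroup.mk e, he⟩

theorem mem_ker_scσ (S : Subgroup (scE Q)) [S.Normal] (hS : S ≤ scZ Q) (e : scE Q) :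
    (QuotientGroup.mk e : scE Q ⧸ S) ∈ (scσ S hS).ker ↔ e ∈ scZ Q := by
  rw [MonoidHom.mem_ker, scσ_mk, mem_scZ]

theorem scσ_isStem {S : Subgroup (scE Q)} [S.Normal] (hS : IsScComplement Q S) :
    Cfsg.IsStemExtension (scσ S hS.le) := by
  refine ⟨scσ_surjective S hS.le, ?_, ?_⟩
  · intro x hx
    obtain ⟨e, rfl⟩ := QuotientGroup.mk_surjective x
    rw [mem_ker_scσ] at hx
    rw [Subgroup.mem_center_iff]
    intro g
    obtain ⟨g, rfl⟩ := QuotientGroup.mk_surjective g
    have := Subgroup.mem_center_iff.mp (scZ_le_center Q hx) g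
    calc (QuotientGroup.mk g : scE Q ⧸ S) * QuotientGroup.mk e = QuotientGroup.mk (g * e) := rfl
      _ = QuotientGroup.mk (e * g) := by rw [this]
      _ = QuotientGroup.mk e * QuotientGroup.mk g := rfl
  · intro x hx
    obtain ⟨e, rfl⟩ := QuotientGroup.mk_surjective x
    rw [mem_ker_scσ] at hx
    obtain ⟨s, hs, t, ht, rfl⟩ := hS.sup e hx
    have h1 : (QuotientGroup.mk (s * t) : scE Q ⧸ S) = QuotientGroup.mk t := by
      rw [QuotientGroup.mk_mul, (QuotientGroup.eq_one_iff s).mpr hs, one_mul]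
    rw [h1]
    have h2 : (QuotientGroup.mk' S) t ∈ (commutator (scE Q)).map (QuotientGroup.mk' S) :=
      Subgroup.mem_map_of_mem _ ((mem_scT Q).mp ht).2
    rw [commutator_def, Subgroup.map_commutator] at h2
    rw [commutator_def]
    exact Subgroup.commutator_mono le_top le_top h2

/-- The kernel of the cover is `T`. -/
noncomputable def scσ_kerEquiv {S : Subgroup (scE Q)} [S.Normal] (hS : IsScComplement Q S) :
    scT Q ≃* (scσ S hS.le).ker := by
  let ψ : scT Q →* (scσ S hS.le).ker :=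
    { toFun := fun t => ⟨QuotientGroup.mk (t : scE Q),
        (mem_ker_scσ S hS.le _).mpr (scT_le_scZ Q t.2)⟩
      map_one' := rfl
      map_mul' := fun _ _ => rfl }
  refine MulEquiv.ofBijective ψ ⟨?_, ?_⟩
  · rw [injective_iff_map_eq_one]
    intro t ht
    have h1 : (QuotientGroup.mk (t : scE Q) : scE Q ⧸ S) = 1 := congrArg Subtype.val ht
    rw [QuotientGroup.eq_one_iff] at h1
    exact Subtype.ext (hS.inf _ h1 t.2)
  · rintro ⟨x, hx⟩
    obtain ⟨e, rfl⟩ := QuotientGroup.mk_surjective x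
    rw [mem_ker_scσ] at hx
    obtain ⟨s, hs, t, ht, rfl⟩ := hS.sup e hx
    refine ⟨⟨t, ht⟩, Subtype.ext ?_⟩
    change (QuotientGroup.mk t : scE Q ⧸ S) = QuotientGroup.mk (s * t)
    rw [QuotientGroup.mk_mul, (QuotientGroup.eq_one_iff s).mpr hs, one_mul]

theorem scσ_finite [Finite Q] {S : Subgroup (scE Q)} [S.Normal] (hS : IsScComplement Q S) :
    Finite (scE Q ⧸ S) := by
  haveI : Finite (scσ S hS.le).ker := Finite.of_equiv _ (scσ_kerEquiv hS).toEquiv
  haveI : Finite ((scE Q ⧸ S) ⧸ (scσ S hS.le).ker) :=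
    Finite.of_equiv Q (QuotientGroup.quotientKerEquivOfSurjective _ (scσ_surjective S hS.le)).symm.toEquiv
  exact Finite.of_equiv _ (Subgroup.groupEquivQuotientProdSubgroup (s := (scσ S hS.le).ker)).symm

end Complement

section Multiplier

variable (Q : Type u) [Group Q]

/-- The Schur multiplier of `Q` as a commutative group. -/
def SchurT : Type u := scT Q

instance : CommGroup (SchurT Q) :=
  { (inferInstance : Group (scT Q)) with
    mul_comm := fun a b => Subtype.ext (by
      have := Subgroup.mem_center_iff.mp (scZ_le_center Q (scT_le_scZ Q a.2)) b.1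
      exact this.symm) }

instance [Finite Q] : Finite (SchurT Q) := scT_finite Q

/-- The identity map `scT Q ≃* SchurT Q`. -/
def schurTEquiv : scT Q ≃* SchurT Q := MulEquiv.refl _

/-- Every kernel of a stem extension of `Q` is a homomorphic image of `SchurT Q`. -/
theorem exists_surjective_schurT_ker {Δ : Type w} [Group Δ] (τ : Δ →* Q)
    (hτ : Cfsg.IsStemExtension τ) : ∃ p : SchurT Q →* τ.ker, Function.Surjective p := by
  obtain ⟨φ, hφ, -, hT⟩ := sc_stem Q τ hτ
  have hmem : ∀ t : scT Q, φ (t : scE Q) ∈ τ.ker := by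
    intro t
    rw [MonoidHom.mem_ker]
    have : τ (φ (t : scE Q)) = scπ Q (t : scE Q) := DFunLike.congr_fun hφ _
    rw [this]
    exact (mem_scZ Q).mp (scT_le_scZ Q t.2)
  let p : scT Q →* τ.ker :=
    { toFun := fun t => ⟨φ (t : scE Q), hmem t⟩
      map_one' := Subtype.ext (by simp)
      map_mul' := fun a b => Subtype.ext (by simp) }
  refine ⟨p.comp (schurTEquiv Q).symm.toMonoidHom, ?_⟩
  rintro ⟨k, hk⟩
  obtain ⟨t, ht, rfl⟩ := hT k hk
  exact ⟨schurTEquiv Q ⟨t, ht⟩, Subtype.ext rfl⟩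

/-- `SchurT Q` is the Schur multiplier of the finite group `Q`. -/
theorem hasSchurMultiplier_schurT [Finite Q] : Cfsg.HasSchurMultiplier Q (SchurT Q) := by
  obtain ⟨S, hS⟩ := sc_exists_complement' Q
  haveI := hS.normal
  refine ⟨⟨scE Q ⧸ S, inferInstance, scσ_finite hS, scσ S hS.le, scσ_isStem hS,
    ⟨(scσ_kerEquiv hS).symm.trans (schurTEquiv Q)⟩⟩, ?_⟩
  intro Γ _ _ σ hσ
  exact exists_surjective_schurT_ker Q σ hσ

/-- Uniqueness of the Schur multiplier. -/
theorem mulEquiv_schurT_of_hasSchurMultiplier [Finite Q] {A : Type v} [CommGroup A]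
    (hA : Cfsg.HasSchurMultiplier Q A) : Nonempty (A ≃* SchurT Q) := by
  obtain ⟨⟨Γ, _, _, σ, hσ, ⟨e⟩⟩, hA2⟩ := hA
  haveI : Finite A := Finite.of_equiv _ e.toEquiv
  -- `SchurT Q ↠ ker σ ≃ A`
  obtain ⟨p, hp⟩ := exists_surjective_schurT_ker Q σ hσ
  -- `A ↠ ker σ_S ≃ T`
  obtain ⟨S, hS⟩ := sc_exists_complement' Q
  haveI := hS.normal
  haveI := scσ_finite hS
  obtain ⟨q, hq⟩ := hA2 (scE Q ⧸ S) (scσ S hS.le) (scσ_isStem hS)
  have hq' : Function.Surjective ((schurTEquiv Q).toMonoidHom.comp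
      ((scσ_kerEquiv hS).symm.toMonoidHom.comp q)) := by
    simp only [MonoidHom.coe_comp, MulEquiv.coe_toMonoidHom]
    exact (schurTEquiv Q).surjective.comp ((scσ_kerEquiv hS).symm.surjective.comp hq)
  have hp' : Function.Surjective (e.toMonoidHom.comp p) := by
    simp only [MonoidHom.coe_comp, MulEquiv.coe_toMonoidHom]
    exact e.surjective.comp hp
  have hcard : Nat.card A = Nat.card (SchurT Q) :=
    le_antisymm (Nat.card_le_card_of_surjective _ hp') (Nat.card_le_card_of_surjective _ hq')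
  have hbij : Function.Bijective ((schurTEquiv Q).toMonoidHom.comp
      ((scσ_kerEquiv hS).symm.toMonoidHom.comp q)) :=
    hq'.bijective_of_nat_card_le hcard.le
  exact ⟨MulEquiv.ofBijective _ hbij⟩

/-- Transport of `HasSchurMultiplier` along an isomorphism of the multiplier. -/
theorem hasSchurMultiplier_of_mulEquiv {A : Type v} {B : Type w} [CommGroup A] [CommGroup B]
    (hA : Cfsg.HasSchurMultiplier Q A) (e : A ≃* B) : Cfsg.HasSchurMultiplier Q B := by
  obtain ⟨⟨Γ, i1, i2, σ, hσ, ⟨e'⟩⟩, hA2⟩ := hA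
  refine ⟨⟨Γ, i1, i2, σ, hσ, ⟨e'.trans e⟩⟩, ?_⟩
  intro Γ' _ _ σ' hσ'
  obtain ⟨q, hq⟩ := hA2 Γ' σ' hσ'
  refine ⟨q.comp e.symm.toMonoidHom, ?_⟩
  simp only [MonoidHom.coe_comp, MulEquiv.coe_toMonoidHom]
  exact hq.comp e.symm.surjective

end Multiplier

end Cfsg.Agent.Lib.H18
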