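import Mathlib
import Cfsg.Prelude.Def_KGroupFacts
import Cfsg.Agent.Lib.H18.SchurCover

/-!
# Schur covers, continued (helper18)

* `sc_cover_over`: every stem extension of a finite group is a quotient of a Schur cover `E/S`.
* `commutator_isPerfect_of_central`: if `ξ : X → Q` has central kernel and `ξ(X') = ξ(X)`, then `X'`
  is perfect.
* `isStemExtension_comp_mulEquiv`.
-/

set_option autoImplicit false

namespace Cfsg.Agent.Lib.H18

open scoped commutatorElement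

universe u v w

/-- Central factors drop out of commutators. -/
theorem commutatorElement_mul_central {X : Type*} [Group X] {z w : X}
    (hz : z ∈ Subgroup.center X) (hw : w ∈ Subgroup.center X) (x y : X) :
    ⁅x * z, y * w⁆ = ⁅x, y⁆ := by
  have hk' := Subgroup.mem_center_iff.mp hz
  have hl' := Subgroup.mem_center_iff.mp hw
  simp only [commutatorElement_def]
  have e1 : (x * z)⁻¹ = x⁻¹ * z⁻¹ := by
    rw [mul_inv_rev]
    have : x⁻¹ * z = z * x⁻¹ := hk' x⁻¹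
    calc z⁻¹ * x⁻¹ = z⁻¹ * (x⁻¹ * z) * z⁻¹ := by group
      _ = z⁻¹ * (z * x⁻¹) * z⁻¹ := by rw [this]
      _ = x⁻¹ * z⁻¹ := by group
  have e2 : (y * w)⁻¹ = y⁻¹ * w⁻¹ := by
    rw [mul_inv_rev]
    have : y⁻¹ * w = w * y⁻¹ := hl' y⁻¹
    calc w⁻¹ * y⁻¹ = w⁻¹ * (y⁻¹ * w) * w⁻¹ := by group
      _ = w⁻¹ * (w * y⁻¹) * w⁻¹ := by rw [this]
      _ = y⁻¹ * w⁻¹ := by group
  rw [e1, e2]
  have hk'' : ∀ g : X, g * z⁻¹ = z⁻¹ * g := by
    intro g
    calc g * z⁻¹ = z * (z⁻¹ * g * z⁻¹) := by group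
      _ = (z⁻¹ * g * z⁻¹) * z := (hk' _).symm
      _ = z⁻¹ * g := by group
  symm
  calc x * y * x⁻¹ * y⁻¹ = x * y * x⁻¹ * y⁻¹ * (z * z⁻¹) * (w * w⁻¹) := by group
    _ = x * y * x⁻¹ * (y⁻¹ * z) * z⁻¹ * w * w⁻¹ := by group
    _ = x * y * x⁻¹ * (z * y⁻¹) * z⁻¹ * w * w⁻¹ := by rw [hk' y⁻¹]
    _ = x * y * (x⁻¹ * z) * y⁻¹ * z⁻¹ * w * w⁻¹ := by group
    _ = x * y * (z * x⁻¹) * y⁻¹ * z⁻¹ * w * w⁻¹ := by rw [hk' x⁻¹]
    _ = x * (y * z) * x⁻¹ * y⁻¹ * z⁻¹ * w * w⁻¹ := by group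
    _ = x * (z * y) * x⁻¹ * y⁻¹ * z⁻¹ * w * w⁻¹ := by rw [hk' y]
    _ = x * z * y * x⁻¹ * (y⁻¹ * z⁻¹) * w * w⁻¹ := by group
    _ = x * z * y * x⁻¹ * (z⁻¹ * y⁻¹) * w * w⁻¹ := by rw [hk'' y⁻¹]
    _ = x * z * y * (x⁻¹ * z⁻¹) * (y⁻¹ * w) * w⁻¹ := by group
    _ = x * z * y * (x⁻¹ * z⁻¹) * (w * y⁻¹) * w⁻¹ := by rw [hl' y⁻¹]
    _ = x * z * y * (x⁻¹ * z⁻¹ * w) * y⁻¹ * w⁻¹ := by group
    _ = x * z * y * (w * (x⁻¹ * z⁻¹)) * y⁻¹ * w⁻¹ := by rw [hl' (x⁻¹ * z⁻¹)]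
    _ = x * z * (y * w) * (x⁻¹ * z⁻¹) * (y⁻¹ * w⁻¹) := by group

/-- If `ξ : X → Q` has central kernel and every value of `ξ` is attained on `X'`, then `X'` is
perfect. -/
theorem commutator_isPerfect_of_central {X Q : Type*} [Group X] [Group Q] (ξ : X →* Q)
    (hker : ξ.ker ≤ Subgroup.center X) (hs : ∀ x : X, ∃ c ∈ commutator X, ξ c = ξ x) :
    ⁅commutator X, commutator X⁆ = commutator X := by
  apply le_antisymm
  · exact Subgroup.commutator_le_left _ _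
  · have hdecomp : ∀ a : X, ∃ c ∈ commutator X, ∃ z ∈ Subgroup.center X, a = c * z := by
      intro a
      obtain ⟨c, hc, hca⟩ := hs a
      refine ⟨c, hc, c⁻¹ * a, hker ?_, by group⟩
      rw [MonoidHom.mem_ker, map_mul, map_inv, hca]
      simp
    conv_lhs => rw [commutator_eq_closure]
    rw [Subgroup.closure_le]
    rintro _ ⟨a, b, rfl⟩
    obtain ⟨c, hc, z, hz, rfl⟩ := hdecomp a
    obtain ⟨d, hd, w, hw, rfl⟩ := hdecomp b
    rw [commutatorElement_mul_central hz hw]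
    exact Subgroup.commutator_mem_commutator hc hd

/-- Composition of a stem extension with an isomorphism is a stem extension. -/
theorem isStemExtension_comp_mulEquiv {Y Γ Q : Type*} [Group Y] [Group Γ] [Group Q]
    (σ : Γ →* Q) (hσ : Cfsg.IsStemExtension σ) (e : Y ≃* Γ) :
    Cfsg.IsStemExtension (σ.comp e.toMonoidHom) := by
  obtain ⟨h1, h2, h3⟩ := hσ
  refine ⟨?_, ?_, ?_⟩
  · simp only [MonoidHom.coe_comp, MulEquiv.coe_toMonoidHom]
    exact h1.comp e.surjective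
  · intro y hy
    have hy' : e y ∈ σ.ker := hy
    have hc := Subgroup.mem_center_iff.mp (h2 hy')
    rw [Subgroup.mem_center_iff]
    intro g
    apply e.injective
    rw [map_mul, map_mul]
    exact hc (e g)
  · intro y hy
    have hy' : e y ∈ σ.ker := hy
    have hc : e y ∈ commutator Γ := h3 hy'
    have hmap : (commutator Y).map e.toMonoidHom = commutator Γ := by
      rw [commutator_def, Subgroup.map_commutator, commutator_def]
      have : (⊤ : Subgroup Y).map e.toMonoidHom = ⊤ := by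
        rw [← MonoidHom.range_eq_map, MonoidHom.range_eq_top]
        exact e.surjective
      rw [this]
    rw [← hmap] at hc
    obtain ⟨y', hy'c, hy'e⟩ := hc
    have : y' = y := e.injective hy'e
    rw [← this]
    exact hy'c

/-- Every stem extension `τ : Δ → Q` of a finite group `Q` is a quotient of a Schur cover `E/S`. -/
theorem sc_cover_over (Q : Type u) [Group Q] [Finite Q] {Δ : Type w} [Group Δ] (τ : Δ →* Q)
    (hτ : Cfsg.IsStemExtension τ) :
    ∃ (S : Subgroup (scE Q)) (hS : IsScComplement Q S) (_ : S.Normal) (β : scE Q ⧸ S →* Δ),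
      Function.Surjective β ∧ τ.comp β = scσ S hS.le := by
  obtain ⟨φ, hφ, hφs, hT⟩ := sc_stem Q τ hτ
  have hφ' : ∀ e, τ (φ e) = scπ Q e := fun e => DFunLike.congr_fun hφ e
  have hK : φ.ker ≤ scZ Q := by
    intro e he
    rw [mem_scZ, ← hφ', MonoidHom.mem_ker.mp he, map_one]
  have hKT : ∀ z ∈ scZ Q, ∃ k ∈ φ.ker, ∃ t ∈ scT Q, z = k * t := by
    intro z hz
    have h1 : φ z ∈ τ.ker := by
      rw [MonoidHom.mem_ker, hφ']
      exact (mem_scZ Q).mp hz
    obtain ⟨t, ht, htz⟩ := hT _ h1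
    refine ⟨z * t⁻¹, ?_, t, ht, by group⟩
    rw [MonoidHom.mem_ker, map_mul, map_inv, htz]
    simp
  obtain ⟨S, hSK, hS⟩ := sc_exists_complement Q φ.ker hK hKT
  haveI hSn := hS.normal
  refine ⟨S, hS, hSn, QuotientGroup.lift S φ (fun _ hx => hSK hx), ?_, ?_⟩
  · intro δ
    obtain ⟨e, rfl⟩ := hφs δ
    exact ⟨QuotientGroup.mk e, rfl⟩
  · apply QuotientGroup.monoidHom_ext
    ext e
    simp only [MonoidHom.coe_comp, Function.comp_apply, QuotientGroup.mk'_apply,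
      QuotientGroup.lift_mk]
    rw [hφ']
    rfl

end Cfsg.Agent.Lib.H18
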