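import Mathlib
import Cfsg.Prelude.Def_KGroupFacts

/-!
# Composing and pulling back stem extensions of perfect groups (helper18)
-/

set_option autoImplicit false

namespace Cfsg.Agent.Lib.H18.StemCompose

open scoped commutatorElement

section Compose

variable {E Q G : Type*} [Group E] [Group Q] [Group G]

/-- For a surjection onto a perfect group, every element agrees with a product of commutators. -/
theorem exists_mem_commutator_map_eq (τ : E →* Q) (hτ : Function.Surjective τ)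
    (hQ : commutator Q = ⊤) (e : E) : ∃ c ∈ commutator E, τ c = τ e := by
  have h1 : τ e ∈ (commutator E).map τ := by
    rw [commutator_def, Subgroup.map_commutator, ← MonoidHom.range_eq_map,
      MonoidHom.range_eq_top.mpr hτ, ← commutator_def, hQ]
    trivial
  obtain ⟨c, hc, hce⟩ := h1
  exact ⟨c, hc, hce⟩

/-- A stem extension of a perfect group is perfect. -/
theorem commutator_eq_top_of_stem (τ : E →* Q) (hτ : Function.Surjective τ)
    (hstem : τ.ker ≤ commutator E) (hQ : commutator Q = ⊤) : commutator E = ⊤ := by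
  rw [eq_top_iff]
  intro e _
  obtain ⟨c, hc, hce⟩ := exists_mem_commutator_map_eq τ hτ hQ e
  have hk : c⁻¹ * e ∈ τ.ker := by
    rw [MonoidHom.mem_ker, map_mul, map_inv, hce, inv_mul_cancel]
  have : e = c * (c⁻¹ * e) := by group
  rw [this]
  exact mul_mem hc (hstem hk)

open scoped IsMulCommutative in
/-- Grün's lemma: a central extension of a central extension of a perfect group is central. -/
theorem ker_comp_le_center (τ : E →* Q) (φ : Q →* G) (hτc : τ.ker ≤ Subgroup.center E)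
    (hφc : φ.ker ≤ Subgroup.center Q) (hE : commutator E = ⊤) :
    (φ.comp τ).ker ≤ Subgroup.center E := by
  intro k hk
  have hkc : τ k ∈ Subgroup.center Q := hφc (by simpa [MonoidHom.mem_ker] using hk)
  have hmem : ∀ g : E, g * k * g⁻¹ * k⁻¹ ∈ Subgroup.center E := by
    intro g
    apply hτc
    rw [MonoidHom.mem_ker, map_mul, map_mul, map_mul, map_inv, map_inv,
      Subgroup.mem_center_iff.mp hkc (τ g)]
    group
  let c : E →* Subgroup.center E :=
    { toFun := fun g => ⟨g * k * g⁻¹ * k⁻¹, hmem g⟩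
      map_one' := Subtype.ext (by simp)
      map_mul' := by
        intro g h
        apply Subtype.ext
        have hc := Subgroup.mem_center_iff.mp (hmem h)
        change g * h * k * (g * h)⁻¹ * k⁻¹ = (g * k * g⁻¹ * k⁻¹) * (h * k * h⁻¹ * k⁻¹)
        calc g * h * k * (g * h)⁻¹ * k⁻¹ = g * (h * k * h⁻¹ * k⁻¹) * (k * g⁻¹ * k⁻¹) := by group
          _ = (h * k * h⁻¹ * k⁻¹) * g * (k * g⁻¹ * k⁻¹) := by rw [hc g]
          _ = (h * k * h⁻¹ * k⁻¹) * (g * k * g⁻¹ * k⁻¹) := by group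
          _ = (g * k * g⁻¹ * k⁻¹) * (h * k * h⁻¹ * k⁻¹) := by rw [hc (g * k * g⁻¹ * k⁻¹)] }
  have hker : commutator E ≤ c.ker := Abelianization.commutator_subset_ker (A := Subgroup.center E) c
  rw [hE] at hker
  rw [Subgroup.mem_center_iff]
  intro g
  have hg : c g = 1 := MonoidHom.mem_ker.mp (hker (Subgroup.mem_top g))
  have hg' : g * k * g⁻¹ * k⁻¹ = 1 := congrArg Subtype.val hg
  calc g * k = (g * k * g⁻¹ * k⁻¹) * k * g := by group
    _ = k * g := by rw [hg', one_mul]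

/-- The composite of a stem extension with a perfect central extension is a stem extension. -/
theorem isStem_comp (τ : E →* Q) (φ : Q →* G) (hτ : Cfsg.IsStemExtension τ)
    (hφ : Function.Surjective φ) (hφc : φ.ker ≤ Subgroup.center Q) (hQ : commutator Q = ⊤) :
    Cfsg.IsStemExtension (φ.comp τ) := by
  have hE : commutator E = ⊤ := commutator_eq_top_of_stem τ hτ.1 hτ.2.2 hQ
  refine ⟨?_, ker_comp_le_center τ φ hτ.2.1 hφc hE, ?_⟩
  · rw [MonoidHom.coe_comp]
    exact hφ.comp hτ.1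
  · rw [hE]
    exact le_top

theorem card_eq_card_mul_card_ker [Finite E] (f : E →* Q) (hf : Function.Surjective f) :
    Nat.card E = Nat.card Q * Nat.card f.ker := by
  rw [Subgroup.card_eq_card_quotient_mul_card_subgroup f.ker,
    Nat.card_congr (QuotientGroup.quotientKerEquivOfSurjective f hf).toEquiv]

theorem card_ker_comp [Finite E] (τ : E →* Q) (φ : Q →* G) (hτ : Function.Surjective τ)
    (hφ : Function.Surjective φ) :
    Nat.card (φ.comp τ).ker = Nat.card φ.ker * Nat.card τ.ker := by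
  haveI : Finite Q := Finite.of_surjective τ hτ
  haveI : Finite G := Finite.of_surjective φ hφ
  have h1 := card_eq_card_mul_card_ker τ hτ
  have h2 := card_eq_card_mul_card_ker φ hφ
  have h3 := card_eq_card_mul_card_ker (φ.comp τ) (by rw [MonoidHom.coe_comp]; exact hφ.comp hτ)
  have hG : 0 < Nat.card G := Nat.card_pos
  rw [h2, h3, mul_assoc] at h1
  exact Nat.eq_of_mul_eq_mul_left hG h1

end Compose

section Pullback

variable {E₁ E₂ G : Type*} [Group E₁] [Group E₂] [Group G] (φ₁ : E₁ →* G) (φ₂ : E₂ →* G)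

/-- The fibre product. -/
def pull : Subgroup (E₁ × E₂) :=
  (φ₁.comp (MonoidHom.fst E₁ E₂)).eqLocus (φ₂.comp (MonoidHom.snd E₁ E₂))

theorem mem_pull {x : E₁ × E₂} : x ∈ pull φ₁ φ₂ ↔ φ₁ x.1 = φ₂ x.2 := Iff.rfl

/-- The second projection. -/
def pullSnd : pull φ₁ φ₂ →* E₂ := (MonoidHom.snd E₁ E₂).comp (pull φ₁ φ₂).subtype

/-- The first projection. -/
def pullFst : pull φ₁ φ₂ →* E₁ := (MonoidHom.fst E₁ E₂).comp (pull φ₁ φ₂).subtype

theorem pullSnd_apply (γ : pull φ₁ φ₂) : pullSnd φ₁ φ₂ γ = γ.1.2 := rfl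

theorem pullFst_apply (γ : pull φ₁ φ₂) : pullFst φ₁ φ₂ γ = γ.1.1 := rfl

variable {φ₁ φ₂}

theorem pullSnd_surjective (h₁ : Function.Surjective φ₁) : Function.Surjective (pullSnd φ₁ φ₂) := by
  intro y
  obtain ⟨x, hx⟩ := h₁ (φ₂ y)
  exact ⟨⟨(x, y), hx⟩, rfl⟩

theorem pullFst_surjective (h₂ : Function.Surjective φ₂) : Function.Surjective (pullFst φ₁ φ₂) := by
  intro x
  obtain ⟨y, hy⟩ := h₂ (φ₁ x)
  exact ⟨⟨(x, y), hy.symm⟩, rfl⟩

theorem fst_mem_ker_of_mem_ker_pullSnd {γ : pull φ₁ φ₂} (hγ : γ ∈ (pullSnd φ₁ φ₂).ker) :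
    γ.1.1 ∈ φ₁.ker := by
  rw [MonoidHom.mem_ker, pullSnd_apply] at hγ
  rw [MonoidHom.mem_ker, (mem_pull φ₁ φ₂).mp γ.2, hγ, map_one]

theorem snd_mem_ker_of_mem_ker_pullFst {γ : pull φ₁ φ₂} (hγ : γ ∈ (pullFst φ₁ φ₂).ker) :
    γ.1.2 ∈ φ₂.ker := by
  rw [MonoidHom.mem_ker, pullFst_apply] at hγ
  rw [MonoidHom.mem_ker, ← (mem_pull φ₁ φ₂).mp γ.2, hγ, map_one]

theorem ker_pullSnd_le_center (hc₁ : φ₁.ker ≤ Subgroup.center E₁) :
    (pullSnd φ₁ φ₂).ker ≤ Subgroup.center (pull φ₁ φ₂) := by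
  intro γ hγ
  have h1 := Subgroup.mem_center_iff.mp (hc₁ (fst_mem_ker_of_mem_ker_pullSnd hγ))
  rw [MonoidHom.mem_ker, pullSnd_apply] at hγ
  rw [Subgroup.mem_center_iff]
  intro δ
  apply Subtype.ext
  apply Prod.ext
  · exact h1 δ.1.1
  · change δ.1.2 * γ.1.2 = γ.1.2 * δ.1.2
    rw [hγ, one_mul, mul_one]

theorem ker_pullFst_le_center (hc₂ : φ₂.ker ≤ Subgroup.center E₂) :
    (pullFst φ₁ φ₂).ker ≤ Subgroup.center (pull φ₁ φ₂) := by
  intro γ hγ
  have h1 := Subgroup.mem_center_iff.mp (hc₂ (snd_mem_ker_of_mem_ker_pullFst hγ))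
  rw [MonoidHom.mem_ker, pullFst_apply] at hγ
  rw [Subgroup.mem_center_iff]
  intro δ
  apply Subtype.ext
  apply Prod.ext
  · change δ.1.1 * γ.1.1 = γ.1.1 * δ.1.1
    rw [hγ, one_mul, mul_one]
  · exact h1 δ.1.2

/-- The fibre product of two perfect central extensions with kernels of coprime exponents is
perfect. -/
theorem commutator_pull_eq_top (h₁ : Function.Surjective φ₁) (h₂ : Function.Surjective φ₂)
    (hp₁ : commutator E₁ = ⊤) (hp₂ : commutator E₂ = ⊤) (a b : ℕ) (hab : Nat.Coprime a b)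
    (ha : ∀ k ∈ φ₁.ker, k ^ a = 1) (hb : ∀ k ∈ φ₂.ker, k ^ b = 1) :
    commutator (pull φ₁ φ₂) = ⊤ := by
  rw [eq_top_iff]
  intro γ _
  rw [← Abelianization.ker_of, MonoidHom.mem_ker]
  have e1 : Abelianization.of γ ^ a = 1 := by
    obtain ⟨d, hd, hdγ⟩ := exists_mem_commutator_map_eq (pullSnd φ₁ φ₂) (pullSnd_surjective h₁)
      hp₂ γ
    have hκ : d⁻¹ * γ ∈ (pullSnd φ₁ φ₂).ker := by
      rw [MonoidHom.mem_ker, map_mul, map_inv, hdγ, inv_mul_cancel]
    have hκa : (d⁻¹ * γ) ^ a = 1 := by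
      apply Subtype.ext
      apply Prod.ext
      · have := ha _ (fst_mem_ker_of_mem_ker_pullSnd hκ)
        simpa using this
      · rw [MonoidHom.mem_ker, pullSnd_apply] at hκ
        change ((d⁻¹ * γ) ^ a).1.2 = 1
        have : ((d⁻¹ * γ) ^ a).1.2 = ((d⁻¹ * γ).1.2) ^ a := by simp
        rw [this, hκ, one_pow]
    have hd1 : Abelianization.of d = 1 := by
      rw [← MonoidHom.mem_ker, Abelianization.ker_of]; exact hd
    have : Abelianization.of γ = Abelianization.of (d⁻¹ * γ) := by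
      rw [map_mul, map_inv, hd1, inv_one, one_mul]
    rw [this, ← map_pow, hκa, map_one]
  have e2 : Abelianization.of γ ^ b = 1 := by
    obtain ⟨d, hd, hdγ⟩ := exists_mem_commutator_map_eq (pullFst φ₁ φ₂) (pullFst_surjective h₂)
      hp₁ γ
    have hκ : d⁻¹ * γ ∈ (pullFst φ₁ φ₂).ker := by
      rw [MonoidHom.mem_ker, map_mul, map_inv, hdγ, inv_mul_cancel]
    have hκb : (d⁻¹ * γ) ^ b = 1 := by
      apply Subtype.ext
      apply Prod.ext
      · rw [MonoidHom.mem_ker, pullFst_apply] at hκ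
        change ((d⁻¹ * γ) ^ b).1.1 = 1
        have : ((d⁻¹ * γ) ^ b).1.1 = ((d⁻¹ * γ).1.1) ^ b := by simp
        rw [this, hκ, one_pow]
      · have := hb _ (snd_mem_ker_of_mem_ker_pullFst hκ)
        simpa using this
    have hd1 : Abelianization.of d = 1 := by
      rw [← MonoidHom.mem_ker, Abelianization.ker_of]; exact hd
    have : Abelianization.of γ = Abelianization.of (d⁻¹ * γ) := by
      rw [map_mul, map_inv, hd1, inv_one, one_mul]
    rw [this, ← map_pow, hκb, map_one]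
  have hg : Abelianization.of γ ^ Nat.gcd a b = 1 := pow_gcd_eq_one.mpr ⟨e1, e2⟩
  rw [hab, pow_one] at hg
  exact hg

/-- The fibre product as a stem extension of the second factor. -/
theorem isStem_pullSnd (h₁ : Function.Surjective φ₁) (h₂ : Function.Surjective φ₂)
    (hc₁ : φ₁.ker ≤ Subgroup.center E₁)
    (hp₁ : commutator E₁ = ⊤) (hp₂ : commutator E₂ = ⊤) (a b : ℕ) (hab : Nat.Coprime a b)
    (ha : ∀ k ∈ φ₁.ker, k ^ a = 1) (hb : ∀ k ∈ φ₂.ker, k ^ b = 1) :
    Cfsg.IsStemExtension (pullSnd φ₁ φ₂) := by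
  refine ⟨pullSnd_surjective h₁, ker_pullSnd_le_center hc₁, ?_⟩
  rw [commutator_pull_eq_top h₁ h₂ hp₁ hp₂ a b hab ha hb]
  exact le_top

/-- Elements of the kernel of the first extension give elements of the kernel of `pullSnd`. -/
theorem orderOf_dvd_card_ker_pullSnd [Finite E₁] [Finite E₂] (x : E₁) (hx : φ₁ x = 1) :
    orderOf x ∣ Nat.card (pullSnd φ₁ φ₂).ker := by
  have hmem : ((x, 1) : E₁ × E₂) ∈ pull φ₁ φ₂ := by
    rw [mem_pull, hx, map_one]
  have hker : (⟨(x, 1), hmem⟩ : pull φ₁ φ₂) ∈ (pullSnd φ₁ φ₂).ker := by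
    rw [MonoidHom.mem_ker]; rfl
  let f : (pullSnd φ₁ φ₂).ker →* E₁ := (pullFst φ₁ φ₂).comp (pullSnd φ₁ φ₂).ker.subtype
  have hf : Function.Injective f := by
    intro γ δ h
    apply Subtype.ext
    apply Subtype.ext
    apply Prod.ext
    · exact h
    · have h1 : γ.1.1.2 = 1 := MonoidHom.mem_ker.mp γ.2
      have h2 : δ.1.1.2 = 1 := MonoidHom.mem_ker.mp δ.2
      rw [h1, h2]
  have h1 : orderOf (f ⟨⟨(x, 1), hmem⟩, hker⟩) = orderOf (⟨⟨(x, 1), hmem⟩, hker⟩ :
      (pullSnd φ₁ φ₂).ker) := orderOf_injective f hf _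
  have h2 : f ⟨⟨(x, 1), hmem⟩, hker⟩ = x := rfl
  rw [h2] at h1
  rw [h1]
  exact orderOf_dvd_natCard _

end Pullback

end Cfsg.Agent.Lib.H18.StemCompose
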