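import Mathlib
import Cfsg.Prelude.Def_KGroupFacts
import Cfsg.Prelude.Def_Characters
import Cfsg.Agent.Lib.H24.CharSchur
import Cfsg.Agent.Lib.H23.CentralMul
import Cfsg.Agent.Lib.H18.SchurCover

/-!
# The square of the exponent of the Schur multiplier divides the group order (helper18)
-/

set_option autoImplicit false

namespace Cfsg.Agent.Lib.H18

open Cfsg.Agent.Lib.H24 Cfsg.Agent.Lib.H23

section Central

variable {G : Type*} [Group G] [Finite G]

/-- For an irreducible character `χ` of degree `n` and a central element `z` of the commutator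
subgroup, `χ(z)/n` is an `n`-th root of unity (determinant argument). -/
theorem irr_central_pow (χ : Cfsg.IrrCharacter G) {z : G} (hz : z ∈ Subgroup.center G)
    (hz' : z ∈ commutator G) :
    ∃ n : ℕ, 0 < n ∧ (χ : G → ℂ) 1 = n ∧ ((χ : G → ℂ) z / n) ^ n = 1 := by
  obtain ⟨n, ρ, hirr, hχ⟩ := irr_exists_rep χ
  have hn := irreducible_dim_pos ρ hirr
  have h1 : (χ : G → ℂ) 1 = n := by
    rw [← hχ, Representation.char_one]
    simp
  refine ⟨n, hn, h1, ?_⟩
  have hT : ∀ g : G, ρ z ∘ₗ ρ g = ρ g ∘ₗ ρ z := by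
    intro g
    rw [← Module.End.mul_eq_comp, ← Module.End.mul_eq_comp, ← map_mul, ← map_mul,
      Subgroup.mem_center_iff.mp hz g]
  have hs := schur_scalar ρ hirr (ρ z) hT
  have hfr : Module.finrank ℂ (Fin n → ℂ) = n := by simp
  rw [hfr] at hs
  have htr : LinearMap.trace ℂ _ (ρ z) = (χ : G → ℂ) z := by
    rw [← hχ]
    rfl
  rw [htr] at hs
  let δ : G →* ℂ := LinearMap.det.comp ρ
  have hδ : δ z = 1 := by
    have hk : z ∈ δ.toHomUnits.ker := Abelianization.commutator_subset_ker δ.toHomUnits hz'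
    have := congrArg Units.val (MonoidHom.mem_ker.mp hk)
    simpa using this
  have hδ' : δ z = ((χ : G → ℂ) z / n) ^ n := by
    change LinearMap.det (ρ z) = _
    rw [hs, LinearMap.det_smul, hfr, LinearMap.det_id, mul_one]
  rw [← hδ', hδ]

end Central

section Main

variable {G : Type*} [Group G] [Finite G]

open scoped IsMulCommutative in
/-- If `Z` is a central subgroup contained in the commutator subgroup, then the square of its
exponent divides its index. -/
theorem exponent_sq_dvd_index_of_central_commutator (Z : Subgroup G)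
    (hZc : Z ≤ Subgroup.center G) (hZd : Z ≤ commutator G) :
    (Monoid.exponent Z) ^ 2 ∣ Z.index := by
  classical
  haveI : IsMulCommutative Z :=
    ⟨⟨fun a b => Subtype.ext (Subgroup.mem_center_iff.mp (hZc b.2) a.1)⟩⟩
  haveI : Fintype G := Fintype.ofFinite G
  haveI : Fintype Z := Fintype.ofFinite Z
  haveI : Fintype (Cfsg.IrrCharacter G) := Fintype.ofFinite _
  haveI : NeZero (Monoid.exponent Z) := ⟨Monoid.exponent_ne_zero_of_finite⟩
  -- degrees
  have hdeg : ∀ χ : Cfsg.IrrCharacter G, ∃ n : ℕ, 0 < n ∧ (χ : G → ℂ) 1 = n := irr_one_eq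
  choose d hd_pos hd using hdeg
  have hdne : ∀ χ, (d χ : ℂ) ≠ 0 := fun χ => by exact_mod_cast (hd_pos χ).ne'
  -- central characters
  have hω : ∀ (χ : Cfsg.IrrCharacter G) (z : Z), ((χ : G → ℂ) z / d χ) ^ d χ = 1 := by
    intro χ z
    obtain ⟨n, hn, h1, h2⟩ := irr_central_pow χ (hZc z.2) (hZd z.2)
    have : n = d χ := by exact_mod_cast (h1.symm.trans (hd χ))
    subst this
    exact h2
  have hω_ne : ∀ (χ : Cfsg.IrrCharacter G) (z : Z), (χ : G → ℂ) z / d χ ≠ 0 := by
    intro χ z h
    have := hω χ z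
    rw [h, zero_pow (hd_pos χ).ne'] at this
    exact zero_ne_one this
  let Ω : Cfsg.IrrCharacter G → (Z →* ℂˣ) := fun χ =>
    { toFun := fun z => Units.mk0 _ (hω_ne χ z)
      map_one' := by
        apply Units.ext
        change (χ : G → ℂ) ((1 : Z) : G) / d χ = 1
        rw [Subgroup.coe_one, hd χ, div_self (hdne χ)]
      map_mul' := by
        intro a b
        apply Units.ext
        change (χ : G → ℂ) ((a * b : Z) : G) / d χ
          = ((χ : G → ℂ) a / d χ) * ((χ : G → ℂ) b / d χ)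
        have := irr_mul_center χ (a : G) (hZc b.2)
        rw [hd χ] at this
        rw [Subgroup.coe_mul, div_mul_div_comm,
          div_eq_div_iff (hdne χ) (mul_ne_zero (hdne χ) (hdne χ))]
        linear_combination (d χ : ℂ) * this }
  have hΩ : ∀ χ (z : Z), ((Ω χ z : ℂˣ) : ℂ) = (χ : G → ℂ) z / d χ := fun _ _ => rfl
  -- a character of `Z` whose order is the exponent
  obtain ⟨eZ⟩ := CommGroup.monoidHom_mulEquiv_of_hasEnoughRootsOfUnity Z ℂ
  haveI : Finite (Z →* ℂˣ) := Finite.of_equiv _ eZ.symm.toEquiv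
  obtain ⟨l, hl⟩ := Monoid.exists_orderOf_eq_exponent
    (Monoid.ExponentExists.of_finite (G := (Z →* ℂˣ)))
  rw [Monoid.exponent_eq_of_mulEquiv eZ] at hl
  -- the double sum
  have hsum1 : ∑ z : Z, (((l z)⁻¹ : ℂˣ) : ℂ) *
      ∑ χ : Cfsg.IrrCharacter G, (χ : G → ℂ) 1 * (χ : G → ℂ) z = (Nat.card G : ℂ) := by
    rw [Finset.sum_eq_single (1 : Z)]
    · rw [sum_irr_one_mul, if_pos (Subgroup.coe_one Z), map_one, inv_one, Units.val_one, one_mul]
    · intro z _ hz
      have : ((z : Z) : G) ≠ 1 := fun h => hz (Subtype.ext h)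
      rw [sum_irr_one_mul, if_neg this, mul_zero]
    · intro h
      exact absurd (Finset.mem_univ _) h
  have hsum2 : ∑ z : Z, (((l z)⁻¹ : ℂˣ) : ℂ) *
      ∑ χ : Cfsg.IrrCharacter G, (χ : G → ℂ) 1 * (χ : G → ℂ) z
      = ∑ χ : Cfsg.IrrCharacter G, (d χ : ℂ) ^ 2 *
          (if Ω χ = l then (Fintype.card Z : ℂ) else 0) := by
    simp_rw [Finset.mul_sum]
    rw [Finset.sum_comm]
    refine Finset.sum_congr rfl (fun χ _ => ?_)
    have key : ∑ z : Z, ((((Ω χ) / l : Z →* ℂˣ) z : ℂˣ) : ℂ)
        = if Ω χ = l then (Fintype.card Z : ℂ) else 0 := by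
      by_cases h : Ω χ = l
      · rw [if_pos h, h]
        have h1 : ∀ z : Z, ((((l / l : Z →* ℂˣ) z : ℂˣ)) : ℂ) = 1 := by
          intro z
          rw [MonoidHom.div_apply, div_self', Units.val_one]
        simp_rw [h1]
        simp
      · rw [if_neg h]
        apply sum_hom_units_eq_zero ((Units.coeHom ℂ).comp ((Ω χ) / l))
        intro h1
        apply h
        ext z
        have hz := DFunLike.congr_fun h1 z
        simp only [MonoidHom.coe_comp, Function.comp_apply, Units.coeHom_apply,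
          MonoidHom.div_apply, MonoidHom.one_apply] at hz
        have h2 : Ω χ z / l z = 1 := Units.ext hz
        rw [div_eq_one] at h2
        rw [h2]
    rw [← key, Finset.mul_sum]
    refine Finset.sum_congr rfl (fun z _ => ?_)
    rw [MonoidHom.div_apply, Units.val_div_eq_div_val, hΩ, hd χ, Units.val_inv_eq_inv_val]
    field_simp
  have hdvd : ∀ χ : Cfsg.IrrCharacter G, Ω χ = l → Monoid.exponent Z ∣ d χ := by
    intro χ h
    rw [← hl]
    apply orderOf_dvd_of_pow_eq_one
    rw [← h]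
    ext z
    rw [MonoidHom.pow_apply, Units.val_pow_eq_pow_val, hΩ, hω, MonoidHom.one_apply, Units.val_one]
  have hnat : Nat.card G = ∑ χ : Cfsg.IrrCharacter G, (d χ) ^ 2 *
      (if Ω χ = l then Fintype.card Z else 0) := by
    apply Nat.cast_injective (R := ℂ)
    rw [← hsum1, hsum2, Nat.cast_sum]
    refine Finset.sum_congr rfl (fun χ _ => ?_)
    rw [Nat.cast_mul, Nat.cast_pow, Nat.cast_ite, Nat.cast_zero]
  have hdvd2 : Monoid.exponent Z ^ 2 * Fintype.card Z ∣ Nat.card G := by
    rw [hnat]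
    apply Finset.dvd_sum
    intro χ _
    by_cases h : Ω χ = l
    · rw [if_pos h]
      exact mul_dvd_mul (pow_dvd_pow_of_dvd (hdvd χ h) 2) dvd_rfl
    · rw [if_neg h, mul_zero]
      exact dvd_zero _
  rw [← Subgroup.card_mul_index Z, Nat.card_eq_fintype_card, mul_comm] at hdvd2
  exact Nat.dvd_of_mul_dvd_mul_left Fintype.card_pos hdvd2

end Main

end Cfsg.Agent.Lib.H18
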