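import Mathlib
import Cfsg.Prelude.Def_KGroupFacts
import Cfsg.Agent.Lib.H18.SchurCover
import Cfsg.Agent.Lib.H18.SchurExponent

/-!
# Restriction and corestriction for Schur multipliers (helper18)

For a subgroup `U` of a finite group `G` we build homomorphisms `res : M(G) → M(U)` and
`cor : M(U) → M(G)` on the Hopf models `scT` with `cor ∘ res = (·) ^ [G : U]`.  The restriction is
the norm map on relation modules; it needs the Nielsen–Schreier theorem to map the preimage of `U`
in the free group to the cover of `U`.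
-/

set_option autoImplicit false

namespace Cfsg.Agent.Lib.H18

open scoped commutatorElement Pointwise

universe u v w

section Transfer

/-- The transfer evaluated on an element all of whose conjugates lie in `H`. -/
theorem transfer_eq_prod_of_conj_mem {G : Type*} [Group G] {H : Subgroup G} {A : Type*}
    [CommGroup A] [H.FiniteIndex] [Fintype (G ⧸ H)] (ϕ : H →* A) (r : G)
    (hr : ∀ g : G, g⁻¹ * r * g ∈ H) :
    MonoidHom.transfer ϕ r = ∏ q : G ⧸ H, ϕ ⟨q.out⁻¹ * r * q.out, hr _⟩ := by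
  classical
  let T : H.LeftTransversal :=
    ⟨Set.range (Quotient.out : G ⧸ H → G), Subgroup.isComplement_range_left Quotient.out_eq'⟩
  have hT : ∀ q : G ⧸ H, (T.2.leftQuotientEquiv q : G) = q.out := fun q =>
    Subgroup.IsComplement.leftQuotientEquiv_apply (f := (Quotient.out : G ⧸ H → G))
      Quotient.out_eq' q
  have hfix : ∀ q : G ⧸ H, r⁻¹ • q = q := by
    intro q
    induction q using QuotientGroup.induction_on with
    | H g =>
      change ((r⁻¹ * g : G) : G ⧸ H) = (g : G ⧸ H)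
      rw [QuotientGroup.eq]
      have := hr g
      have h2 : (r⁻¹ * g)⁻¹ * g = g⁻¹ * r * g := by group
      rw [h2]; exact this
  rw [MonoidHom.transfer_def ϕ T, Subgroup.leftTransversals.diff]
  refine Finset.prod_congr (Finset.ext (by simp)) (fun q _ => ?_)
  congr 1
  apply Subtype.ext
  simp only []
  rw [Subgroup.smul_apply_eq_smul_apply_inv_smul, hfix, hT, smul_eq_mul, mul_assoc]

end Transfer

section Norm

variable {F : Type*} [Group F]

/-- Conjugation `r ↦ t⁻¹ r t` on a normal subgroup. -/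
def conjR (R : Subgroup F) [hRn : R.Normal] (t : F) (r : R) : R :=
  ⟨t⁻¹ * r * t, by
    have := hRn.conj_mem r r.2 t⁻¹
    rwa [inv_inv] at this⟩

theorem conjR_coe (R : Subgroup F) [R.Normal] (t : F) (r : R) :
    ((conjR R t r : R) : F) = t⁻¹ * r * t := rfl

theorem conjR_mul (R : Subgroup F) [R.Normal] (t : F) (r r' : R) :
    conjR R t (r * r') = conjR R t r * conjR R t r' := by
  apply Subtype.ext
  simp only [conjR_coe, Subgroup.coe_mul]
  group

theorem conjR_one (R : Subgroup F) [R.Normal] (t : F) : conjR R t (1 : R) = 1 := by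
  apply Subtype.ext
  simp only [conjR_coe, Subgroup.coe_one]
  group

theorem conjR_conjR (R : Subgroup F) [R.Normal] (t f : F) (r : R) :
    conjR R t (conjR R f r) = conjR R (f * t) r := by
  apply Subtype.ext
  simp only [conjR_coe]
  group

variable {S : Subgroup F} [Fintype (F ⧸ S)] {R : Subgroup F} [R.Normal] {A : Type*} [CommGroup A]

/-- The norm of an `S`-invariant homomorphism on the normal subgroup `R`. -/
noncomputable def normHom (κ : R →* A) : R →* A where
  toFun r := ∏ q : F ⧸ S, κ (conjR R q.out r)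
  map_one' := by
    simp only [conjR_one, map_one, Finset.prod_const_one]
  map_mul' r r' := by
    simp only [conjR_mul, map_mul, Finset.prod_mul_distrib]

theorem normHom_apply (κ : R →* A) (r : R) :
    normHom (S := S) κ r = ∏ q : F ⧸ S, κ (conjR R q.out r) := rfl

theorem normHom_conj (κ : R →* A) (hκ : ∀ s : F, s ∈ S → ∀ r : R, κ (conjR R s r) = κ r)
    (f : F) (r : R) : normHom (S := S) κ (conjR R f r) = normHom (S := S) κ r := by
  rw [normHom_apply, normHom_apply]
  have h1 : ∀ q : F ⧸ S, κ (conjR R q.out (conjR R f r)) = κ (conjR R (f • q).out r) := by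
    intro q
    rw [conjR_conjR]
    have hs : ((f • q).out)⁻¹ * (f * q.out) ∈ S := by
      rw [← QuotientGroup.eq, QuotientGroup.out_eq']
      conv_lhs => rw [← QuotientGroup.out_eq' q]
      rfl
    have h2 : f * q.out = (f • q).out * (((f • q).out)⁻¹ * (f * q.out)) := by group
    rw [h2, ← conjR_conjR, hκ _ hs]
  rw [Finset.prod_congr rfl (fun q _ => h1 q)]
  exact Equiv.prod_comp (MulAction.toPerm f) (fun q : F ⧸ S => κ (conjR R q.out r))

end Norm


section Free

/-- Homomorphisms out of a free group lift through surjections. -/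
theorem exists_lift_of_isFreeGroup {S : Type*} [Group S] [IsFreeGroup S] {Δ Q : Type*} [Group Δ]
    [Group Q] (ρ : Δ →* Q) (hρ : Function.Surjective ρ) (f : S →* Q) :
    ∃ μ : S →* Δ, ρ.comp μ = f := by
  choose s hs using hρ
  refine ⟨IsFreeGroup.lift (fun a => s (f (IsFreeGroup.of a))), ?_⟩
  apply IsFreeGroup.ext_hom
  intro a
  rw [MonoidHom.comp_apply, IsFreeGroup.lift_of, hs]

/-- The abelianization of a free group is torsion free. -/
theorem abelianization_freeGroup_eq_one_of_pow {Q : Type*} (x : Abelianization (FreeGroup Q))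
    (n : ℕ) (hn : n ≠ 0) (h : x ^ n = 1) : x = 1 := by
  have hnz : (n : ℤ) ≠ 0 := by exact_mod_cast hn
  let y : FreeAbelianGroup Q := Additive.ofMul x
  have h1 : (n : ℤ) • y = (n : ℤ) • (0 : FreeAbelianGroup Q) := by
    rw [smul_zero, natCast_zsmul]
    change Additive.ofMul (x ^ n) = 0
    rw [h]; rfl
  have h2 : y = 0 := (smul_right_inj hnz).mp h1
  exact h2

end Free


section ResCor

open scoped IsMulCommutative in
/-- Restriction and corestriction between the multipliers of a finite group and a subgroup. -/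
theorem exists_res_cor {G : Type u} [Group G] [Finite G] (U : Subgroup G) :
    ∃ (i : scT G →* scT U) (c : scT U →* scT G), ∀ a : scT G, c (i a) = a ^ U.index := by
  classical
  let π₀ : FreeGroup G →* G := scπ₀ G
  let S : Subgroup (FreeGroup G) := U.comap π₀
  let R : Subgroup (FreeGroup G) := π₀.ker
  have hRS : R ≤ S := fun r hr => by
    change π₀ r ∈ U
    rw [MonoidHom.mem_ker.mp hr]
    exact U.one_mem
  have hidx : S.index = U.index := Subgroup.index_comap_of_surjective U (scπ₀_surjective G)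
  haveI : S.FiniteIndex := ⟨by rw [hidx]; exact Subgroup.index_ne_zero_of_finite⟩
  haveI : Fintype (FreeGroup G ⧸ S) := S.fintypeQuotientOfFiniteIndex
  have hcard : Fintype.card (FreeGroup G ⧸ S) = U.index := by
    rw [← hidx, Subgroup.index_eq_card, Nat.card_eq_fintype_card]
  -- `μ : S → scE U` over `U`
  let f₀ : S →* U := π₀.subgroupComap U
  obtain ⟨μ, hμ⟩ := exists_lift_of_isFreeGroup (scπ U) (scπ_surjective U) f₀
  have hμ' : ∀ s : S, scπ U (μ s) = f₀ s := fun s => DFunLike.congr_fun hμ s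
  -- `lam : scE U → H ≤ scE G` over `U`
  let H : Subgroup (scE G) := U.comap (scπ G)
  let ξ : H →* U := (scπ G).subgroupComap U
  have hξs : Function.Surjective ξ :=
    MonoidHom.subgroupComap_surjective_of_surjective _ _ (scπ_surjective G)
  have hξk : ξ.ker ≤ Subgroup.center H := by
    intro x hx
    rw [Subgroup.mem_center_iff]
    intro y
    apply Subtype.ext
    have hx' : (x : scE G) ∈ scZ G := by
      rw [mem_scZ]
      exact congrArg Subtype.val (MonoidHom.mem_ker.mp hx)
    exact Subgroup.mem_center_iff.mp (scZ_le_center G hx') y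
  obtain ⟨lam, hlam⟩ := sc_lift U ξ hξs hξk
  have hlam' : ∀ d : scE U, ξ (lam d) = scπ U d := fun d => DFunLike.congr_fun hlam d
  let lam' : scE U →* scE G := H.subtype.comp lam
  have hlamπ : ∀ d : scE U, scπ G (lam' d) = (scπ U d : G) := by
    intro d
    have := congrArg Subtype.val (hlam' d)
    exact this
  let ν : FreeGroup G →* scE G := QuotientGroup.mk' (scC G)
  have hνπ : ∀ x : FreeGroup G, scπ G (ν x) = π₀ x := fun x => rfl
  -- the discrepancy `z : S → Z(scE G)`
  have hzmem : ∀ s : S, (ν s)⁻¹ * lam' (μ s) ∈ Subgroup.center (scE G) := by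
    intro s
    apply scZ_le_center G
    rw [mem_scZ, map_mul, map_inv, hνπ, hlamπ, hμ']
    change (π₀ s)⁻¹ * π₀ s = 1
    rw [inv_mul_cancel]
  let z : S →* Subgroup.center (scE G) := MonoidHom.mk' (fun s => ⟨(ν s)⁻¹ * lam' (μ s), hzmem s⟩)
    (by
      intro s s'
      apply Subtype.ext
      have hc := Subgroup.mem_center_iff.mp (hzmem s) (ν s')⁻¹
      change (ν ((s * s' : S) : FreeGroup G))⁻¹ * lam' (μ (s * s')) =
        ((ν s)⁻¹ * lam' (μ s)) * ((ν s')⁻¹ * lam' (μ s'))
      rw [Subgroup.coe_mul, map_mul, map_mul, map_mul]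
      calc (ν s * ν s')⁻¹ * (lam' (μ s) * lam' (μ s'))
          = (ν s')⁻¹ * ((ν s)⁻¹ * lam' (μ s)) * lam' (μ s') := by group
        _ = ((ν s)⁻¹ * lam' (μ s)) * (ν s')⁻¹ * lam' (μ s') := by rw [hc]
        _ = ((ν s)⁻¹ * lam' (μ s)) * ((ν s')⁻¹ * lam' (μ s')) := by rw [mul_assoc])
  have hz : ∀ s : S, ((z s : Subgroup.center (scE G)) : scE G) = (ν s)⁻¹ * lam' (μ s) := fun s => rfl
  -- commutative structure on `scZ U`
  haveI : IsMulCommutative (scZ U) :=
    ⟨⟨fun a b => Subtype.ext (Subgroup.mem_center_iff.mp (scZ_le_center U b.2) a.1)⟩⟩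
  haveI hRn : R.Normal := MonoidHom.normal_ker π₀
  -- `κ₁ : R → scZ U`
  have hκmem : ∀ r : R, (μ.comp (Subgroup.inclusion hRS)) r ∈ scZ U := by
    intro r
    rw [mem_scZ, MonoidHom.comp_apply, hμ']
    apply Subtype.ext
    change π₀ (r : FreeGroup G) = 1
    exact MonoidHom.mem_ker.mp r.2
  let κ₁ : R →* scZ U := MonoidHom.codRestrict (μ.comp (Subgroup.inclusion hRS)) (scZ U) hκmem
  have hκ₁ : ∀ r : R, ((κ₁ r : scZ U) : scE U) = μ ⟨r, hRS r.2⟩ := fun r => rfl
  have hκinv : ∀ s : FreeGroup G, s ∈ S → ∀ r : R, κ₁ (conjR R s r) = κ₁ r := by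
    intro s hs r
    apply Subtype.ext
    rw [hκ₁, hκ₁]
    have h1 : (⟨(conjR R s r : R), hRS (conjR R s r).2⟩ : S) =
        (⟨s, hs⟩ : S)⁻¹ * ⟨r, hRS r.2⟩ * ⟨s, hs⟩ := Subtype.ext rfl
    rw [h1, map_mul, map_mul, map_inv]
    have hc := Subgroup.mem_center_iff.mp (scZ_le_center U (hκmem r)) (μ ⟨s, hs⟩)⁻¹
    change (μ ⟨s, hs⟩)⁻¹ * μ ⟨r, hRS r.2⟩ = μ ⟨r, hRS r.2⟩ * (μ ⟨s, hs⟩)⁻¹ at hc
    rw [hc, inv_mul_cancel_right]
  let N₁ : R →* scZ U := normHom (S := S) κ₁
  have hN₁conj : ∀ (f : FreeGroup G) (r : R), N₁ (conjR R f r) = N₁ r :=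
    fun f r => normHom_conj κ₁ hκinv f r
  -- `N₁` kills `[F, R]`
  have hN₁C : ∀ r : R, (r : FreeGroup G) ∈ scC G → N₁ r = 1 := by
    have hle : scC G ≤ N₁.ker.map R.subtype := by
      rw [scC_def, Subgroup.commutator_le]
      intro f _ r hr
      refine ⟨conjR R f⁻¹ ⟨r, hr⟩ * (⟨r, hr⟩ : R)⁻¹, ?_, ?_⟩
      · rw [SetLike.mem_coe, MonoidHom.mem_ker, map_mul, map_inv, hN₁conj, mul_inv_cancel]
      · rw [Subgroup.subtype_apply, Subgroup.coe_mul, Subgroup.coe_inv, conjR_coe, inv_inv,
          commutatorElement_def]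
    intro r hr
    obtain ⟨r', hr', hrr'⟩ := hle hr
    have : r' = r := Subtype.ext hrr'
    rw [← this]
    exact MonoidHom.mem_ker.mp hr'
  -- descend to `scZ G`
  have hνRmem : ∀ r : R, (ν.comp R.subtype) r ∈ scZ G := by
    intro r
    rw [mem_scZ, MonoidHom.comp_apply, hνπ]
    exact MonoidHom.mem_ker.mp r.2
  let νR : R →* scZ G := MonoidHom.codRestrict (ν.comp R.subtype) (scZ G) hνRmem
  have hνR : ∀ r : R, ((νR r : scZ G) : scE G) = ν r := fun r => rfl
  have hνRs : Function.Surjective νR := by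
    rintro ⟨e, he⟩
    obtain ⟨x, rfl⟩ := QuotientGroup.mk_surjective e
    have hx : x ∈ R := by
      rw [MonoidHom.mem_ker]
      exact (mem_scZ G).mp he
    exact ⟨⟨x, hx⟩, Subtype.ext rfl⟩
  have hker : νR.ker ≤ N₁.ker := by
    intro r hr
    rw [MonoidHom.mem_ker] at hr ⊢
    apply hN₁C
    have h1 : ν r = 1 := by rw [← hνR, hr]; rfl
    exact (QuotientGroup.eq_one_iff _).mp h1
  let Nbar : scZ G →* scZ U := νR.liftOfSurjective hνRs ⟨N₁, hker⟩
  have hNbar : ∀ r : R, Nbar (νR r) = N₁ r := fun r =>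
    MonoidHom.liftOfRightInverse_comp_apply νR _ _ ⟨N₁, hker⟩ r
  -- the restriction map `i`
  have himem : ∀ a : scT G, ((Nbar ⟨a.1, scT_le_scZ G a.2⟩ : scZ U) : scE U) ∈ scT U := by
    intro a
    rw [mem_scT_iff]
    refine ⟨(Nbar _).2, ?_⟩
    have hn : orderOf a ≠ 0 := (orderOf_pos a).ne'
    apply abelianization_freeGroup_eq_one_of_pow _ (orderOf a) hn
    rw [← map_pow, ← Subgroup.coe_pow, ← map_pow]
    have h1 : (⟨a.1, scT_le_scZ G a.2⟩ : scZ G) ^ orderOf a = 1 := by
      apply Subtype.ext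
      rw [Subgroup.coe_pow, Subgroup.coe_one]
      change ((a ^ orderOf a : scT G) : scE G) = 1
      rw [pow_orderOf_eq_one]; rfl
    rw [h1, map_one, Subgroup.coe_one, map_one]
  let i : scT G →* scT U :=
    MonoidHom.codRestrict (((scZ U).subtype.comp Nbar).comp (Subgroup.inclusion (scT_le_scZ G)))
      (scT U) himem
  have hi : ∀ a : scT G, ((i a : scT U) : scE U) = (Nbar ⟨a.1, scT_le_scZ G a.2⟩ : scZ U) :=
    fun a => rfl
  -- the corestriction map `c`
  have hcmem : ∀ t : scT U, (lam'.comp (scT U).subtype) t ∈ scT G := by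
    intro t
    rw [mem_scT]
    constructor
    · rw [mem_scZ, MonoidHom.comp_apply, hlamπ]
      have := (mem_scZ U).mp t.2.1
      change ((scπ U (t : scE U) : U) : G) = 1
      rw [this]; rfl
    · have hle : (commutator (scE U)).map lam' ≤ commutator (scE G) := by
        rw [commutator_def, Subgroup.map_commutator, commutator_def]
        exact Subgroup.commutator_mono le_top le_top
      exact hle (Subgroup.mem_map_of_mem _ t.2.2)
  let c : scT U →* scT G := MonoidHom.codRestrict (lam'.comp (scT U).subtype) (scT G) hcmem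
  have hc : ∀ t : scT U, ((c t : scT G) : scE G) = lam' t := fun t => rfl
  refine ⟨i, c, ?_⟩
  intro a
  -- a representative `x ∈ R ∩ F'` of `a`
  obtain ⟨x, hx⟩ := QuotientGroup.mk_surjective a.1
  have ha := (mem_scT_iff G).mp a.2
  have hxR : x ∈ R := by
    rw [MonoidHom.mem_ker]
    have := (mem_scZ G).mp ha.1
    rw [← hx] at this
    exact this
  have hxc : x ∈ commutator (FreeGroup G) := by
    rw [← Abelianization.ker_of, MonoidHom.mem_ker, ← scab_mk, hx]
    exact ha.2
  let r : R := ⟨x, hxR⟩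
  have hνr : νR r = ⟨a.1, scT_le_scZ G a.2⟩ := Subtype.ext hx
  -- push forward along `lam'`
  have hΛmem : ∀ t : scZ U, (lam'.comp (scZ U).subtype) t ∈ Subgroup.center (scE G) := by
    intro t
    apply scZ_le_center G
    rw [mem_scZ, MonoidHom.comp_apply, hlamπ]
    have := (mem_scZ U).mp t.2
    change ((scπ U (t : scE U) : U) : G) = 1
    rw [this]; rfl
  let Λ : scZ U →* Subgroup.center (scE G) :=
    MonoidHom.codRestrict (lam'.comp (scZ U).subtype) (Subgroup.center (scE G)) hΛmem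
  have hΛ : ∀ t : scZ U, ((Λ t : Subgroup.center (scE G)) : scE G) = lam' t := fun t => rfl
  have hνcmem : ∀ r' : R, (ν.comp R.subtype) r' ∈ Subgroup.center (scE G) :=
    fun r' => scZ_le_center G (hνRmem r')
  let νc : R →* Subgroup.center (scE G) :=
    MonoidHom.codRestrict (ν.comp R.subtype) (Subgroup.center (scE G)) hνcmem
  have hνc : ∀ r' : R, ((νc r' : Subgroup.center (scE G)) : scE G) = ν r' := fun r' => rfl
  have hνcconj : ∀ (t : FreeGroup G) (r' : R), νc (conjR R t r') = νc r' := by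
    intro t r'
    apply Subtype.ext
    rw [hνc, hνc, conjR_coe, map_mul, map_mul, map_inv]
    have hcen := Subgroup.mem_center_iff.mp (hνcmem r') (ν t)⁻¹
    change (ν t)⁻¹ * ν r' = ν r' * (ν t)⁻¹ at hcen
    rw [hcen, inv_mul_cancel_right]
  have hsplit : ∀ r' : R, Λ (κ₁ r') = νc r' * z ⟨r', hRS r'.2⟩ := by
    intro r'
    apply Subtype.ext
    rw [hΛ, hκ₁, Subgroup.coe_mul, hνc, hz]
    change lam' (μ ⟨r', hRS r'.2⟩) = ν r' * ((ν r')⁻¹ * lam' (μ ⟨r', hRS r'.2⟩))
    rw [mul_inv_cancel_left]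
  have hconjS : ∀ g : FreeGroup G, g⁻¹ * x * g ∈ S := fun g => hRS (conjR R g r).2
  have htr : MonoidHom.transfer z x = 1 := by
    have h1 : commutator (FreeGroup G) ≤ (MonoidHom.transfer z).ker :=
      Abelianization.commutator_subset_ker _
    exact MonoidHom.mem_ker.mp (h1 hxc)
  have hΛN : Λ (N₁ r) = νc r ^ U.index := by
    change Λ (normHom (S := S) κ₁ r) = νc r ^ U.index
    rw [normHom_apply, map_prod]
    rw [Finset.prod_congr rfl (fun q _ => hsplit (conjR R q.out r))]
    rw [Finset.prod_mul_distrib, Finset.prod_congr rfl (fun q _ => hνcconj q.out r),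
      Finset.prod_const, Finset.card_univ, hcard]
    have h2 := transfer_eq_prod_of_conj_mem z x hconjS
    rw [htr] at h2
    have h3 : ∏ q : FreeGroup G ⧸ S, z ⟨(conjR R q.out r : R), hRS (conjR R q.out r).2⟩ = 1 :=
      h2.symm
    rw [h3, mul_one]
  apply Subtype.ext
  rw [hc, hi, ← hνr, hNbar, ← hΛ, hΛN, Subgroup.coe_pow, hνc, Subgroup.coe_pow]
  change ν x ^ U.index = (a : scE G) ^ U.index
  rw [← hx]
  rfl

end ResCor

section Split

theorem eq_one_of_pow_coprime {A : Type*} [Group A] (a : A) (m n : ℕ) (h : Nat.Coprime m n)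
    (hm : a ^ m = 1) (hn : a ^ n = 1) : a = 1 := by
  have h1 := orderOf_dvd_of_pow_eq_one hm
  have h2 := orderOf_dvd_of_pow_eq_one hn
  have h3 : orderOf a ∣ 1 := by
    have := Nat.dvd_gcd h1 h2
    rwa [h.gcd_eq_one] at this
  exact orderOf_eq_one_iff.mp (Nat.dvd_one.mp h3)

theorem exists_root_of_coprime {A : Type*} [Group A] (y : A) (m n : ℕ) (h : Nat.Coprime m n)
    (hn : y ^ n = 1) : ∃ s : ℤ, (y ^ s) ^ m = y := by
  refine ⟨Nat.gcdA m n, ?_⟩
  have h1 := Nat.gcd_eq_gcd_ab m n
  rw [h.gcd_eq_one, Nat.cast_one] at h1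
  have h2 : y ^ ((m : ℤ) * Nat.gcdA m n + (n : ℤ) * Nat.gcdB m n) = y := by
    rw [← h1, zpow_one]
  rw [zpow_add, zpow_mul, zpow_mul, zpow_natCast, zpow_natCast, hn, one_zpow, mul_one] at h2
  rw [← zpow_natCast, ← zpow_mul, mul_comm, zpow_mul, zpow_natCast]
  exact h2

theorem exists_direct_factor_of_res_cor {A B : Type*} [CommGroup A] [CommGroup B] (p m : ℕ)
    (hm : Nat.Coprime m p) (hB : ∀ b : B, ∃ k : ℕ, b ^ (p ^ k) = 1)
    (i : A →* B) (c : B →* A) (hci : ∀ a, c (i a) = a ^ m) :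
    ∃ C D : Subgroup B, C ⊓ D = ⊥ ∧ C ⊔ D = ⊤ ∧
      Nonempty (CommGroup.primaryComponent A p ≃* C) := by
  let j : CommGroup.primaryComponent A p →* B := i.comp (CommGroup.primaryComponent A p).subtype
  have hkey : ∀ a : A, a ∈ CommGroup.primaryComponent A p → a ^ m = 1 → a = 1 := by
    intro a ha ham
    obtain ⟨k, hk⟩ := ha
    exact eq_one_of_pow_coprime a m (p ^ k) (Nat.Coprime.pow_right k hm) ham hk
  have hj : Function.Injective j := by
    rw [injective_iff_map_eq_one]
    intro a ha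
    apply Subtype.ext
    apply hkey a.1 a.2
    rw [← hci]
    change c (j a) = 1
    rw [ha, map_one]
  refine ⟨j.range, c.ker, ?_, ?_, ⟨MonoidHom.ofInjective hj⟩⟩
  · rw [eq_bot_iff]
    rintro x ⟨⟨a, rfl⟩, hx⟩
    rw [Subgroup.mem_bot]
    have h1 : (a : A) ^ m = 1 := by
      rw [← hci]
      exact MonoidHom.mem_ker.mp hx
    have h2 := hkey a.1 a.2 h1
    change i a.1 = 1
    rw [h2, map_one]
  · rw [eq_top_iff]
    intro b _
    obtain ⟨k, hk⟩ := hB b
    have hcb : (c b) ^ (p ^ k) = 1 := by rw [← map_pow, hk, map_one]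
    obtain ⟨s, hs⟩ := exists_root_of_coprime (c b) m (p ^ k) (Nat.Coprime.pow_right k hm) hcb
    have hmem : (c b) ^ s ∈ CommGroup.primaryComponent A p := by
      refine ⟨k, ?_⟩
      rw [← zpow_natCast, ← zpow_mul, mul_comm, zpow_mul, zpow_natCast, hcb, one_zpow]
    have hb : b = j ⟨(c b) ^ s, hmem⟩ * (b * (j ⟨(c b) ^ s, hmem⟩)⁻¹) := by
      rw [mul_comm b, mul_inv_cancel_left]
    rw [hb]
    apply Subgroup.mul_mem_sup
    · exact ⟨_, rfl⟩
    · rw [MonoidHom.mem_ker, map_mul, map_inv]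
      change c b * (c (i ((c b) ^ s)))⁻¹ = 1
      rw [hci, hs, mul_inv_cancel]

/-- The `p`-part of the Schur multiplier of `G` is isomorphic to a direct factor of the multiplier
of a Sylow `p`-subgroup. -/
theorem primaryComponent_direct_factor_sylow {G : Type u} [Group G] [Finite G] (p : ℕ)
    [Fact p.Prime] (P : Sylow p G) {A : Type v} {B : Type w} [CommGroup A] [CommGroup B]
    (hA : Cfsg.HasSchurMultiplier G A) (hB : Cfsg.HasSchurMultiplier P B) :
    ∃ C D : Subgroup B, C ⊓ D = ⊥ ∧ C ⊔ D = ⊤ ∧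
      Nonempty (CommGroup.primaryComponent A p ≃* C) := by
  obtain ⟨eA⟩ := mulEquiv_schurT_of_hasSchurMultiplier G hA
  obtain ⟨eB⟩ := mulEquiv_schurT_of_hasSchurMultiplier P hB
  obtain ⟨i, c, hci⟩ := exists_res_cor (P : Subgroup G)
  -- `B` is a `p`-group
  have hBp : ∀ b : B, ∃ k : ℕ, b ^ (p ^ k) = 1 := by
    obtain ⟨⟨Γ, _, _, σ, ⟨hs, hc, hd⟩, ⟨e⟩⟩, -⟩ := hB
    have h := exponent_sq_dvd_index_of_central_commutator σ.ker hc hd
    rw [Monoid.exponent_eq_of_mulEquiv e, Subgroup.index_ker, MonoidHom.range_eq_top.mpr hs,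
      Subgroup.card_top] at h
    obtain ⟨n, hn⟩ := IsPGroup.iff_card.mp P.isPGroup'
    rw [hn] at h
    have h1 : Monoid.exponent B ∣ p ^ n := (dvd_pow_self _ two_ne_zero).trans h
    intro b
    exact ⟨n, Monoid.exponent_dvd_iff_forall_pow_eq_one.mp h1 b⟩
  have hcop : Nat.Coprime (P : Subgroup G).index p := by
    rw [Nat.coprime_comm, (Fact.out : p.Prime).coprime_iff_not_dvd]
    exact P.not_dvd_index
  let i' : A →* B := eB.symm.toMonoidHom.comp (i.comp eA.toMonoidHom)
  let c' : B →* A := eA.symm.toMonoidHom.comp (c.comp eB.toMonoidHom)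
  refine exists_direct_factor_of_res_cor p (P : Subgroup G).index hcop hBp i' c' ?_
  intro a
  have h1 : eB (eB.symm (i (eA a))) = i (eA a) := eB.apply_symm_apply _
  have h2 : c (i (eA a)) = (eA a) ^ (P : Subgroup G).index := hci _
  have h3 : eA.symm ((eA a) ^ (P : Subgroup G).index) = a ^ (P : Subgroup G).index := by
    rw [map_pow, MulEquiv.symm_apply_apply]
  calc c' (i' a) = eA.symm (c (eB (eB.symm (i (eA a))))) := rfl
    _ = eA.symm (c (i (eA a))) := congrArg (fun x => eA.symm (c x)) h1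
    _ = eA.symm ((eA a) ^ (P : Subgroup G).index) := congrArg (fun x => eA.symm x) h2
    _ = a ^ (P : Subgroup G).index := h3

end Split

end Cfsg.Agent.Lib.H18
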