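import Mathlib

set_option autoImplicit false

/-!
Helper library (helper18): powers of elements of `SL(2,R)` via the trace recursion
(`g² = t g - 1`), and order facts in `PSL(2,R)`.
-/

namespace Cfsg.Agent.Lib.H18

open Matrix

section
variable {R : Type*} [CommRing R]

/-- The recursion `f 0 = 0`, `f 1 = 1`, `f (n+2) = t * f (n+1) - f n`. -/
def trFib (t : R) : ℕ → R
  | 0 => 0
  | 1 => 1
  | (n + 2) => t * trFib t (n + 1) - trFib t n

@[simp] theorem trFib_zero (t : R) : trFib t 0 = 0 := rfl
@[simp] theorem trFib_one (t : R) : trFib t 1 = 1 := rfl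
theorem trFib_add_two (t : R) (n : ℕ) : trFib t (n + 2) = t * trFib t (n + 1) - trFib t n := rfl

/-- Anchor: forces the on-demand equation lemmas of `trFib` (`eq_1`, `eq_2`, `eq_3`, `eq_def`)
to be generated in this module, so that downstream modules reuse them instead of each
generating its own copy. -/
theorem trFib_eqns_anchor (t : R) (n : ℕ) :
    (trFib t 0 = 0 ∧ trFib t 1 = 1 ∧ trFib t (n + 2) = t * trFib t (n + 1) - trFib t n) ∧
      trFib t n = trFib t n :=
  ⟨⟨trFib.eq_1 t, trFib.eq_2 t, trFib.eq_3 t n⟩, by rw [trFib.eq_def]⟩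

/-- Cayley–Hamilton for `SL(2,R)`. -/
theorem sl2_mul_self (g : Matrix.SpecialLinearGroup (Fin 2) R) :
    g.1 * g.1 = (g.1 0 0 + g.1 1 1) • g.1 - 1 := by
  have hdet : g.1 0 0 * g.1 1 1 - g.1 0 1 * g.1 1 0 = 1 := by
    have := g.2
    rwa [Matrix.det_fin_two] at this
  ext i j
  fin_cases i <;> fin_cases j <;>
    simp [Matrix.mul_apply, Fin.sum_univ_two] <;>
    first
      | ring1
      | linear_combination (-1 : R) * hdet
      | linear_combination hdet

theorem sl2_pow_succ (g : Matrix.SpecialLinearGroup (Fin 2) R) (n : ℕ) :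
    g.1 ^ (n + 1) = trFib (g.1 0 0 + g.1 1 1) (n + 1) • g.1 -
      trFib (g.1 0 0 + g.1 1 1) n • (1 : Matrix (Fin 2) (Fin 2) R) := by
  induction n with
  | zero => simp
  | succ n ih =>
    rw [pow_succ, ih, trFib_add_two, sub_mul, smul_mul_assoc, sl2_mul_self, smul_mul_assoc, one_mul]
    module

end

end Cfsg.Agent.Lib.H18
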