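import Cfsg.Agent.Lib.H18.SL2MultField
import Cfsg.Agent.Lib.H18.SchurRes
import Cfsg.Agent.Lib.H18.SchurCover2
import Cfsg.Agent.Lib.H2.SL2Sylow
import Cfsg.Agent.Lib.H2.SL2CyclicSylow
import Cfsg.Agent.Lib.H2.SL2Quat
import Cfsg.Agent.Lib.H20.Schur
import Cfsg.Agent.Lib.H20.QuaternionStem
import Cfsg.Agent.Lib.H10.QdExtT
import Cfsg.Agent.Lib.H1.PCore

/-!
# The Schur multiplier of `SL₂(q)` is trivial for `q ≠ 4, 9` (helper18)

* `eq_one_of_sylow_trivial`: if a Sylow `r`-subgroup of `G` has trivial multiplier, the kernel of a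
  finite stem extension of `G` has no element of order `r` (via
  `primaryComponent_direct_factor_sylow`).
* `lifts_commute`: in a central extension of `SL₂(q)`, `q ≠ 4, 9`, the preimage of the upper
  unitriangular group is abelian (torus-invariant commutator form, `SL2Mult.biadd_eq_zero`).
* `sl2_stem_ker_eq_bot`, `sl2_hasCyclicSchurMultiplier_one`.
-/

set_option autoImplicit false

namespace Cfsg.Agent.Lib.H18.SL2Mult

open scoped commutatorElement Pointwise
open Cfsg.Agent.Lib.H18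

universe u

section Generic

/-- If a Sylow `r`-subgroup has trivial multiplier, kernels of stem extensions have no elements
of order `r`. -/
theorem eq_one_of_sylow_trivial {G : Type u} [Group G] [Finite G] (r : ℕ) [Fact r.Prime]
    (R : Sylow r G) (hR : Cfsg.HasCyclicSchurMultiplier R 1)
    (Γ : Type u) [Group Γ] [Finite Γ] (σ : Γ →* G) (hσ : Cfsg.IsStemExtension σ)
    (x : Γ) (hx : x ∈ σ.ker) (hxr : x ^ r = 1) : x = 1 := by
  have hr : r.Prime := Fact.out
  have hA : Cfsg.HasSchurMultiplier G (SchurT G) := hasSchurMultiplier_schurT G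
  obtain ⟨C, D, -, -, ⟨e⟩⟩ := primaryComponent_direct_factor_sylow r R hA hR
  have hsub : Subsingleton (Multiplicative (ZMod 1)) := by
    change Subsingleton (ZMod 1)
    infer_instance
  have hprim : ∀ y ∈ CommGroup.primaryComponent (SchurT G) r, y = 1 := by
    intro y hy
    have h1 : e ⟨y, hy⟩ = e 1 := Subsingleton.elim _ _
    have h2 := e.injective h1
    exact congrArg Subtype.val h2
  obtain ⟨π, hπ⟩ := hA.2 Γ σ hσ
  obtain ⟨y, hy⟩ := hπ ⟨x, hx⟩
  have hpos : 0 < orderOf y := orderOf_pos y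
  obtain ⟨k, m, hm, hkm⟩ := Nat.exists_eq_pow_mul_and_not_dvd hpos.ne' r hr.ne_one
  have h1 : y ^ m ∈ CommGroup.primaryComponent (SchurT G) r := by
    refine ⟨k, ?_⟩
    rw [← pow_mul, mul_comm, ← hkm, pow_orderOf_eq_one]
  have h2 : y ^ m = 1 := hprim _ h1
  have h3 : x ^ m = 1 := by
    have h4 : π (y ^ m) = 1 := by rw [h2, map_one]
    rw [map_pow, hy] at h4
    have := congrArg Subtype.val h4
    simpa using this
  have hcop : Nat.Coprime m r := by
    rw [Nat.coprime_comm, hr.coprime_iff_not_dvd]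
    exact hm
  exact eq_one_of_pow_coprime x m r hcop h3 hxr

/-- composing a stem extension with an isomorphism of the target. -/
theorem isStemExtension_mulEquiv_comp {Γ Q Q' : Type*} [Group Γ] [Group Q] [Group Q']
    (σ : Γ →* Q) (hσ : Cfsg.IsStemExtension σ) (e : Q ≃* Q') :
    Cfsg.IsStemExtension (e.toMonoidHom.comp σ) := by
  have hker : (e.toMonoidHom.comp σ).ker = σ.ker := by
    ext x
    simp [MonoidHom.mem_ker]
  refine ⟨e.surjective.comp hσ.1, ?_, ?_⟩
  · rw [hker]; exact hσ.2.1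
  · rw [hker]; exact hσ.2.2

/-- cyclic groups have trivial multiplier. -/
theorem hasCyclicSchurMultiplier_one_of_isCyclic {G : Type u} [Group G] [Finite G] [IsCyclic G] :
    Cfsg.HasCyclicSchurMultiplier G 1 := by
  apply Cfsg.Agent.Lib.H20.hasCyclicSchurMultiplier_one_of_ker
  intro Γ _ _ σ hσ
  obtain ⟨hsurj, hcen, hcomm⟩ := hσ
  have hab : IsMulCommutative Γ := MonoidHom.isMulCommutative_of_isCyclic_of_ker_le_center σ hcen
  rw [Subgroup.eq_bot_iff_forall]
  intro x hx
  have hx' := hcomm hx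
  rw [commutator_def] at hx'
  have : ⁅(⊤ : Subgroup Γ), (⊤ : Subgroup Γ)⁆ = ⊥ := by
    rw [Subgroup.commutator_eq_bot_iff_le_centralizer]
    intro y _
    rw [Subgroup.mem_centralizer_iff]
    intro z _
    exact hab.is_comm.comm z y
  rw [this] at hx'
  simpa using hx'

theorem quat_a_pow (n : ℕ) (j : ZMod (2 * n)) (k : ℕ) :
    (QuaternionGroup.a j : QuaternionGroup n) ^ k = QuaternionGroup.a (j * (k : ZMod (2 * n))) := by
  induction k with
  | zero => simp [QuaternionGroup.a_zero]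
  | succ k ih =>
    rw [pow_succ, ih, QuaternionGroup.a_mul_a]
    congr 1
    push_cast; ring

/-- groups isomorphic to a generalized quaternion (dicyclic) group have trivial multiplier. -/
theorem hasCyclicSchurMultiplier_one_of_quaternion {G : Type u} [Group G] [Finite G] (n : ℕ)
    [NeZero n] (e : G ≃* QuaternionGroup n) : Cfsg.HasCyclicSchurMultiplier G 1 := by
  apply Cfsg.Agent.Lib.H20.hasCyclicSchurMultiplier_one_of_ker
  intro Γ _ _ σ hσ
  have hσ' := isStemExtension_mulEquiv_comp σ hσ e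
  have hker : (e.toMonoidHom.comp σ).ker = σ.ker := by
    ext x
    simp [MonoidHom.mem_ker]
  obtain ⟨w, hkerw, hwn, hσw⟩ := Cfsg.Agent.Lib.H20.quaternion_stem n (e.toMonoidHom.comp σ) hσ'
  rw [hker] at hkerw
  rw [Subgroup.eq_bot_iff_forall]
  intro c hc
  have hc' := hkerw hc
  rw [← mem_powers_iff_mem_zpowers] at hc'
  obtain ⟨k, hk⟩ := hc'
  have hk' : w ^ k = c := hk
  subst hk'
  have h1 : (e.toMonoidHom.comp σ) (w ^ k) = 1 := by
    rw [← MonoidHom.mem_ker, hker]; exact hc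
  rw [map_pow, hσw, quat_a_pow, QuaternionGroup.one_def] at h1
  have h2 : ((-2 : ZMod (2 * n)) * (k : ZMod (2 * n))) = 0 := by
    injection h1
  have h3 : ((2 * k : ℕ) : ZMod (2 * n)) = 0 := by
    push_cast
    linear_combination (-1 : ZMod (2 * n)) * h2
  rw [ZMod.natCast_eq_zero_iff] at h3
  have h4 : n ∣ k := Nat.dvd_of_mul_dvd_mul_left (by norm_num) h3
  obtain ⟨j, rfl⟩ := h4
  rw [pow_mul, hwn, one_pow]

end Generic

section SL2

open Matrix Cfsg.Agent.Lib.H2.SL2

variable {F : Type*} [Field F]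

/-- the diagonal element `diag(t, t⁻¹)`. -/
def dSL (t : F) (ht : t ≠ 0) : SpecialLinearGroup (Fin 2) F :=
  ⟨!![t, 0; 0, t⁻¹], by simp [Matrix.det_fin_two_of, ht]⟩

theorem dSL_val (t : F) (ht : t ≠ 0) :
    ((dSL t ht : SpecialLinearGroup (Fin 2) F) : Matrix (Fin 2) (Fin 2) F) = !![t, 0; 0, t⁻¹] :=
  rfl

theorem dSL_conj (t : F) (ht : t ≠ 0) (a : F) :
    dSL t ht * uSL a * (dSL t ht)⁻¹ = uSL (t * t * a) := by
  rw [mul_inv_eq_iff_eq_mul]
  apply ext_entries <;> simp [mul_val, uSL_val, dSL_val]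
  field_simp

theorem uSL_comm (a c : F) : uSL a * uSL c = uSL c * uSL a := by
  rw [← uSL_add, ← uSL_add, add_comm]

/-- In a central extension of `SL₂(q)`, `q ≠ 4, 9`, lifts of upper unitriangular elements
commute. -/
theorem lifts_commute [Fintype F] (h4 : Fintype.card F ≠ 4) (h9 : Fintype.card F ≠ 9)
    {Γ : Type*} [Group Γ] (σ : Γ →* SpecialLinearGroup (Fin 2) F) (hσ : Function.Surjective σ)
    (hc : σ.ker ≤ Subgroup.center Γ) (x y : Γ) (hx : σ x ∈ U F) (hy : σ y ∈ U F) :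
    x * y = y * x := by
  choose lf hlf using fun a : F => hσ (uSL a)
  let _ : CommGroup (Subgroup.center Γ) :=
    { (inferInstance : Group (Subgroup.center Γ)) with
      mul_comm := fun a b => Subtype.ext (Subgroup.mem_center_iff.mp a.2 b.1).symm }
  -- commutators of lifts are central
  have hcen : ∀ x y : Γ, σ x ∈ U F → σ y ∈ U F → ⁅x, y⁆ ∈ Subgroup.center Γ := by
    intro x y hx hy
    apply hc
    obtain ⟨a, ha⟩ := (mem_U_iff _).1 hx
    obtain ⟨c, hc'⟩ := (mem_U_iff _).1 hy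
    rw [MonoidHom.mem_ker, map_commutatorElement, ← ha, ← hc', commutatorElement_eq_one_iff_mul_comm]
    exact uSL_comm a c
  -- independence of the lift
  have hindep : ∀ x x' y y' : Γ, σ x = σ x' → σ y = σ y' → ⁅x, y⁆ = ⁅x', y'⁆ := by
    intro x x' y y' hxx hyy
    have h1 : x⁻¹ * x' ∈ Subgroup.center Γ := by
      apply hc
      rw [MonoidHom.mem_ker, map_mul, map_inv, hxx, inv_mul_cancel]
    have h2 : y⁻¹ * y' ∈ Subgroup.center Γ := by
      apply hc
      rw [MonoidHom.mem_ker, map_mul, map_inv, hyy, inv_mul_cancel]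
    have := commutatorElement_mul_central h1 h2 x y
    rw [mul_inv_cancel_left, mul_inv_cancel_left] at this
    exact this.symm
  have hlfU : ∀ a : F, σ (lf a) ∈ U F := fun a => by rw [hlf]; exact uSL_mem a
  set b : F → F → Additive (Subgroup.center Γ) := fun a c =>
    Additive.ofMul ⟨⁅lf a, lf c⁆, hcen _ _ (hlfU a) (hlfU c)⟩ with hb
  have hbval : ∀ a c, ((Additive.toMul (b a c) : Subgroup.center Γ) : Γ) = ⁅lf a, lf c⁆ :=
    fun a c => rfl
  have hbext : ∀ (u v : Additive (Subgroup.center Γ)),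
      ((Additive.toMul u : Subgroup.center Γ) : Γ) = ((Additive.toMul v : Subgroup.center Γ) : Γ)
        → u = v := by
    intro u v h
    exact Additive.toMul.injective (Subtype.ext h)
  have hadd₁ : ∀ a a' c, b (a + a') c = b a c + b a' c := by
    intro a a' c
    apply hbext
    rw [hbval]
    change _ = ⁅lf a, lf c⁆ * ⁅lf a', lf c⁆
    have h1 : ⁅lf (a + a'), lf c⁆ = ⁅lf a * lf a', lf c⁆ := by
      apply hindep
      · rw [hlf, map_mul, hlf, hlf, uSL_add]
      · rfl
    rw [h1]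
    have h2 : ⁅lf a * lf a', lf c⁆ = lf a * ⁅lf a', lf c⁆ * (lf a)⁻¹ * ⁅lf a, lf c⁆ := by
      simp only [commutatorElement_def]
      group
    have h3 := Subgroup.mem_center_iff.mp (hcen _ _ (hlfU a') (hlfU c)) (lf a)
    rw [h2, h3, mul_inv_cancel_right]
    exact (Subgroup.mem_center_iff.mp (hcen _ _ (hlfU a') (hlfU c)) _).symm
  have hadd₂ : ∀ a c c', b a (c + c') = b a c + b a c' := by
    intro a c c'
    apply hbext
    rw [hbval]
    change _ = ⁅lf a, lf c⁆ * ⁅lf a, lf c'⁆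
    have h1 : ⁅lf a, lf (c + c')⁆ = ⁅lf a, lf c * lf c'⁆ := by
      apply hindep
      · rfl
      · rw [hlf, map_mul, hlf, hlf, uSL_add]
    rw [h1]
    have h2 : ⁅lf a, lf c * lf c'⁆ = ⁅lf a, lf c⁆ * (lf c * ⁅lf a, lf c'⁆ * (lf c)⁻¹) := by
      simp only [commutatorElement_def]
      group
    have h3 := Subgroup.mem_center_iff.mp (hcen _ _ (hlfU a) (hlfU c')) (lf c)
    rw [h2, h3, mul_inv_cancel_right]
  have hinv : ∀ t : F, t ≠ 0 → ∀ a c, b (t * t * a) (t * t * c) = b a c := by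
    intro t ht a c
    apply hbext
    rw [hbval, hbval]
    obtain ⟨h, hh⟩ := hσ (dSL t ht)
    have h1 : ⁅lf (t * t * a), lf (t * t * c)⁆ = ⁅h * lf a * h⁻¹, h * lf c * h⁻¹⁆ := by
      apply hindep
      · rw [hlf, map_mul, map_mul, map_inv, hh, hlf, dSL_conj]
      · rw [hlf, map_mul, map_mul, map_inv, hh, hlf, dSL_conj]
    have h2 : ⁅h * lf a * h⁻¹, h * lf c * h⁻¹⁆ = h * ⁅lf a, lf c⁆ * h⁻¹ := by
      simp only [commutatorElement_def]
      group
    have h3 := Subgroup.mem_center_iff.mp (hcen _ _ (hlfU a) (hlfU c)) h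
    rw [h1, h2, h3, mul_inv_cancel_right]
  have hzero : ∀ a c, b a c = 0 := by
    by_cases hprime : (Fintype.card F).Prime
    · -- prime field: everything is a multiple of `1`
      have : Fact (Fintype.card F).Prime := ⟨hprime⟩
      have hcard : Nat.card F = Fintype.card F := Nat.card_eq_fintype_card
      have hmem : ∀ a : F, a ∈ AddSubgroup.zmultiples (1 : F) := fun a =>
        mem_zmultiples_of_prime_card hcard one_ne_zero
      have h11 : b 1 1 = 0 := by
        apply hbext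
        rw [hbval, commutatorElement_self]
        rfl
      intro a c
      let φ : F →+ Additive (Subgroup.center Γ) := AddMonoidHom.mk' (fun a => b a c)
        (fun a a' => hadd₁ a a' c)
      let ψ : F →+ Additive (Subgroup.center Γ) := AddMonoidHom.mk' (fun c => b 1 c)
        (fun c c' => hadd₂ 1 c c')
      obtain ⟨k, hk⟩ := AddSubgroup.mem_zmultiples_iff.1 (hmem a)
      obtain ⟨l, hl⟩ := AddSubgroup.mem_zmultiples_iff.1 (hmem c)
      have e1 : b a c = k • b 1 c := by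
        change φ a = k • φ 1
        rw [← map_zsmul, hk]
      have e2 : b 1 c = l • b 1 1 := by
        change ψ c = l • ψ 1
        rw [← map_zsmul, hl]
      rw [e1, e2, h11, smul_zero, smul_zero]
    · obtain ⟨y0, w0, hy0, hw0, hyw, hne⟩ := exists_param h4 h9 hprime
      exact fun a c => biadd_eq_zero b hadd₁ hadd₂ hinv y0 w0 hy0 hw0 hyw hne a c
  obtain ⟨a, ha⟩ := (mem_U_iff _).1 hx
  obtain ⟨c, hc'⟩ := (mem_U_iff _).1 hy
  have h1 : ⁅x, y⁆ = ⁅lf a, lf c⁆ := by
    apply hindep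
    · rw [hlf, ha]
    · rw [hlf, hc']
  have h2 : ⁅lf a, lf c⁆ = 1 := by
    rw [← hbval, hzero]
    rfl
  rw [h2, commutatorElement_eq_one_iff_mul_comm] at h1
  exact h1

/-- the kernel of a finite stem extension of `SL₂(q)`, `q ≠ 4, 9`, has no element of order `p`. -/
theorem eq_one_of_pow_char [Fintype F] (p : ℕ) [Fact p.Prime] [CharP F p]
    (h4 : Fintype.card F ≠ 4) (h9 : Fintype.card F ≠ 9)
    {Γ : Type*} [Group Γ] [Finite Γ] (σ : Γ →* SpecialLinearGroup (Fin 2) F)
    (hσ : Cfsg.IsStemExtension σ) (x : Γ) (hx : x ∈ σ.ker) (hxp : x ^ p = 1) : x = 1 := by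
  obtain ⟨hsurj, hcen, hcomm⟩ := hσ
  obtain ⟨P⟩ : Nonempty (Sylow p Γ) := inferInstance
  have hab : ∀ a ∈ (P : Subgroup Γ), ∀ b ∈ (P : Subgroup Γ), a * b = b * a := by
    have hmap : IsPGroup p ((P : Subgroup Γ).map σ) := P.2.map σ
    obtain ⟨Q, hQ⟩ := hmap.exists_le_sylow
    obtain ⟨g, hg⟩ := MulAction.exists_smul_eq (SpecialLinearGroup (Fin 2) F)
      (USylow (F := F) p) Q
    obtain ⟨γ, hγ⟩ := hsurj g
    have key : ∀ a ∈ (P : Subgroup Γ), σ (γ⁻¹ * a * γ) ∈ U F := by
      intro a ha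
      have h1 : σ a ∈ (Q : Subgroup (SpecialLinearGroup (Fin 2) F)) := hQ ⟨a, ha, rfl⟩
      rw [← hg, Sylow.coe_subgroup_smul, coe_USylow, Cfsg.Agent.Lib.H1.mem_conj_smul_iff] at h1
      rw [map_mul, map_mul, map_inv, hγ]
      exact h1
    intro a ha b hb
    have h1 := lifts_commute h4 h9 σ hsurj hcen _ _ (key a ha) (key b hb)
    have h2 : γ⁻¹ * (a * b) * γ = γ⁻¹ * (b * a) * γ := by
      calc γ⁻¹ * (a * b) * γ = (γ⁻¹ * a * γ) * (γ⁻¹ * b * γ) := by group
        _ = (γ⁻¹ * b * γ) * (γ⁻¹ * a * γ) := h1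
        _ = γ⁻¹ * (b * a) * γ := by group
    exact mul_left_cancel (mul_right_cancel h2)
  exact Cfsg.Agent.Lib.H10.QdExt.eq_one_of_mem_center_commutator P hab (hcen hx) (hcomm hx) 1
    (by rwa [pow_one])

end SL2

section Main

open Matrix

/-- finite stem extensions of `SL₂(q)`, `q ≠ 4, 9`, are isomorphisms. -/
theorem sl2_stem_ker_eq_bot {F : Type u} [Field F] [Fintype F] (h4 : Fintype.card F ≠ 4)
    (h9 : Fintype.card F ≠ 9) (Γ : Type u) [Group Γ] [Finite Γ]
    (σ : Γ →* SpecialLinearGroup (Fin 2) F) (hσ : Cfsg.IsStemExtension σ) : σ.ker = ⊥ := by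
  obtain ⟨p, hchar⟩ := CharP.exists F
  obtain ⟨n, hp, hn⟩ := FiniteField.card F p
  have : Fact p.Prime := ⟨hp⟩
  rw [Subgroup.eq_bot_iff_forall]
  intro x hx
  by_contra hx1
  have hord : orderOf x ≠ 1 := by rwa [Ne, orderOf_eq_one_iff]
  obtain ⟨r, hr, hrd⟩ := Nat.exists_prime_and_dvd hord
  have : Fact r.Prime := ⟨hr⟩
  set x' := x ^ (orderOf x / r) with hx'
  have hx'mem : x' ∈ σ.ker := Subgroup.pow_mem _ hx _
  have hx'r : x' ^ r = 1 := by
    rw [hx', ← pow_mul, Nat.div_mul_cancel hrd, pow_orderOf_eq_one]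
  have hx'1 : x' ≠ 1 := by
    intro h
    have h1 := orderOf_dvd_of_pow_eq_one h
    have hpos := orderOf_pos x
    have hle := Nat.le_of_dvd (Nat.div_pos (Nat.le_of_dvd hpos hrd) hr.pos) h1
    have h2 : orderOf x / r < orderOf x := Nat.div_lt_self hpos hr.one_lt
    omega
  apply hx'1
  by_cases hrp : r = p
  · subst hrp
    exact eq_one_of_pow_char r h4 h9 σ hσ x' hx'mem hx'r
  · obtain ⟨R⟩ : Nonempty (Sylow r (SpecialLinearGroup (Fin 2) F)) := inferInstance
    apply eq_one_of_sylow_trivial r R ?_ Γ σ hσ x' hx'mem hx'r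
    by_cases hr2 : r = 2
    · subst hr2
      have hodd : Odd (Fintype.card F) := by
        rw [hn]
        rcases hp.eq_two_or_odd' with h2 | h2
        · exact absurd h2.symm hrp
        · exact h2.pow
      obtain ⟨k, hk, ⟨e⟩⟩ := Cfsg.Agent.Lib.H2.SL2Quat.main hodd R
      have : NeZero (2 ^ k) := ⟨by positivity⟩
      exact hasCyclicSchurMultiplier_one_of_quaternion (2 ^ k) e
    · have hcyc := Cfsg.Agent.Lib.H2.SL2Cyc.main p r hr2 hrp R
      exact hasCyclicSchurMultiplier_one_of_isCyclic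

/-- `SL₂(q)`, `q ≠ 4, 9`, has trivial Schur multiplier. -/
theorem sl2_hasCyclicSchurMultiplier_one {F : Type u} [Field F] [Fintype F]
    (h4 : Fintype.card F ≠ 4) (h9 : Fintype.card F ≠ 9) :
    Cfsg.HasCyclicSchurMultiplier (SpecialLinearGroup (Fin 2) F) 1 :=
  Cfsg.Agent.Lib.H20.hasCyclicSchurMultiplier_one_of_ker
    (fun Γ _ _ σ hσ => sl2_stem_ker_eq_bot h4 h9 Γ σ hσ)

end Main

end Cfsg.Agent.Lib.H18.SL2Mult
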