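/-
S4467 (architect helper15), piece F1A (helper18), generic part: in a minimal counterexample every proper normal subgroup
has a normal Sylow `p`-subgroup — stated with the pieces KERFAM, DEFL, SUBDIRECT as hypotheses.
-/
import Mathlib
import Cfsg.Prelude.Def_Characters
import Cfsg.Agent.Lib.H15.DXDefs

set_option autoImplicit false

namespace Cfsg.Agent.Lib.H18.DX

open Cfsg Cfsg.Agent.Lib.H15.DX

universe u

theorem card_lt_of_ne_top {G : Type*} [Group G] [Finite G] (M : Subgroup G) (hM : M ≠ ⊤) :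
    Nat.card M < Nat.card G := by
  apply lt_of_le_of_ne (Subgroup.card_le_card_group M)
  intro h
  exact hM ((Subgroup.card_eq_iff_eq_top M).mp h)

theorem sylow_normal_of_proper_normal_aux {p : ℕ} [Fact p.Prime] {G : Type u} [Group G] [Finite G] {χ : G → ℂ} {n : ℕ}
    (kerfam : ∀ (M : Subgroup G) [M.Normal] (x : M), x ≠ 1 →
      ∃ ψ : M → ℂ, IsIrrCharacter M ψ ∧ (∃ m : ℕ, ψ 1 = (m : ℂ) ∧ m ∣ n) ∧ ψ x ≠ ψ 1)
    (defl : ∀ (M : Type u) [Group M] [Finite M] (ψ : M → ℂ), IsIrrCharacter M ψ →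
      ∃ (K : Subgroup M) (_ : K.Normal) (ψ' : M ⧸ K → ℂ), IsIrrCharacter (M ⧸ K) ψ' ∧
        Faithful ψ' ∧ ψ' 1 = ψ 1 ∧ ∀ x : M, x ∈ K ↔ ψ x = ψ 1)
    (subdirect : ∀ (M : Type u) [Group M] [Finite M] (ι : Type u) (K : ι → Subgroup M) [∀ i, (K i).Normal],
      ⨅ i, K i = ⊥ → (∀ i, ∀ Q : Sylow p (M ⧸ K i), (Q : Subgroup (M ⧸ K i)).Normal) →
        ∀ S : Sylow p M, (S : Subgroup M).Normal)
    (c : Ctx p G χ n) (M : Subgroup G) [M.Normal] (hM : M ≠ ⊤) (S : Sylow p M) : (S : Subgroup M).Normal := by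
  classical
  haveI := c.solv
  let ι : Type u := {ψ : M → ℂ // IsIrrCharacter M ψ ∧ ∃ m : ℕ, ψ 1 = (m : ℂ) ∧ m ∣ n}
  have hD := fun i : ι => defl M i.1 i.2.1
  choose K hKn ψ' h1 h2 h3 h4 using hD
  haveI : ∀ i, (K i).Normal := hKn
  apply subdirect M ι K
  · rw [eq_bot_iff]
    intro x hx
    rw [Subgroup.mem_bot]
    by_contra hx1
    obtain ⟨ψ, hψ, hm, hne⟩ := kerfam M x hx1
    have hxi := (Subgroup.mem_iInf.mp hx) (⟨ψ, hψ, hm⟩ : ι)
    exact hne ((h4 ⟨ψ, hψ, hm⟩ x).mp hxi)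
  · intro i Q
    obtain ⟨m, hm1, hmn⟩ := i.2.2
    have hcard : Nat.card (M ⧸ K i) < Nat.card G := by
      have h5 : Nat.card (M ⧸ K i) ≤ Nat.card M :=
        Nat.le_of_dvd Nat.card_pos (Subgroup.card_quotient_dvd_card (K i))
      exact lt_of_le_of_lt h5 (card_lt_of_ne_top M hM)
    exact c.ih (M ⧸ K i) hcard inferInstance (ψ' i) (h1 i) (h2 i) m (by rw [h3 i, hm1])
      (fun hg => c.bad (hg.of_dvd hmn)) Q

end Cfsg.Agent.Lib.H18.DX
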