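import Cfsg.Agent.Lib.H18.FpfCyclicDegree2
import Cfsg.Agent.Lib.H7.Coprime
import Cfsg.Agent.Lib.H9.CoprimeGeneration
import Cfsg.Agent.Lib.H1.NoncyclicAbelian
import Cfsg.Agent.Lib.H22.OrderPSq
import Cfsg.Agent.Lib.H22.UniqueInvolution
import Cfsg.Agent.Lib.H22.UniqueOrderP
import Cfsg.Agent.Lib.H24.GlaubOver1
import Cfsg.Agent.Lib.H8.CohInduced
import Cfsg.Agent.Lib.L0.CharLinear

/-!
# The minimal configuration in Leonard's theorem for `p`-solvable groups (helper18)

`G = K P`, `K` a normal `q`-group, `P` a `p`-group not centralising `K`, every proper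
`P`-invariant subgroup of `K` centralised by `P`, and `C_K(x) = C_K(P)` for all `1 ≠ x ∈ P`.
Then every character `ψ` of `G` which is not constant on `K` has `ψ(1)² > |P|`
(`config_degree`).
-/

set_option autoImplicit false

namespace Cfsg.Agent.Lib.H18.Leonard

open Cfsg Cfsg.Agent.Lib.L0 Cfsg.Agent.Lib.H24 Cfsg.Agent.Lib.H24.Glaub
open scoped ComplexConjugate commutatorElement

universe u

theorem exists_large_cyclic (p : ℕ) [hp : Fact p.Prime] {R : Type u} [Group R] [Finite R]
    (hR : IsPGroup p R) (h1 : Cfsg.Agent.Lib.H22.AtMostOneOrderP p R) :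
    ∃ S : Subgroup R, IsCyclic S ∧
      (Nat.card S = Nat.card R ∨ (4 ≤ Nat.card S ∧ Nat.card R = 2 * Nat.card S)) := by
  have hcyc_case : IsCyclic R → ∃ S : Subgroup R, IsCyclic S ∧
      (Nat.card S = Nat.card R ∨ (4 ≤ Nat.card S ∧ Nat.card R = 2 * Nat.card S)) := by
    intro hc
    refine ⟨⊤, ?_, Or.inl ?_⟩
    · exact isCyclic_of_surjective (Subgroup.topEquiv (G := R)).symm.toMonoidHom
        (Subgroup.topEquiv (G := R)).symm.surjective
    · exact Nat.card_congr (Subgroup.topEquiv (G := R)).toEquiv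
  by_cases hp2 : p = 2
  · subst hp2
    rcases Cfsg.Agent.Lib.H22.cyclic_or_quaternion_of_atMostOne hR h1 with hc | ⟨n, hn, ⟨e⟩⟩
    · exact hcyc_case hc
    · haveI : NeZero (2 ^ n) := ⟨by positivity⟩
      refine ⟨Subgroup.zpowers (e.symm (QuaternionGroup.a 1)), inferInstance, Or.inr ?_⟩
      have hc1 : Nat.card (Subgroup.zpowers (e.symm (QuaternionGroup.a 1 : QuaternionGroup (2 ^ n))))
          = 2 * 2 ^ n := by
        rw [Nat.card_zpowers, MulEquiv.orderOf_eq, QuaternionGroup.orderOf_a_one]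
      have hc2 : Nat.card R = 4 * 2 ^ n := by
        rw [Nat.card_congr e.toEquiv, Nat.card_eq_fintype_card, QuaternionGroup.card]
      rw [hc1, hc2]
      constructor
      · have : 2 ^ 1 ≤ 2 ^ n := Nat.pow_le_pow_right (by norm_num) hn
        omega
      · ring
  · exact hcyc_case (Cfsg.Agent.Lib.H22.isCyclic_of_atMostOne_of_odd hp2 _ R rfl hR h1)


section config

variable {G : Type u} [Group G] [Finite G] (p q : ℕ) [hp : Fact p.Prime] [hq : Fact q.Prime]
  (K P : Subgroup G) [hKn : K.Normal]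

omit [Finite G] in
/-- a subgroup normalising `A` and `B` normalises `⁅A, B⁆` -/
theorem le_normalizer_commutator {A B N : Subgroup G} (hA : N ≤ Subgroup.normalizer (A : Set G))
    (hB : N ≤ Subgroup.normalizer (B : Set G)) :
    N ≤ Subgroup.normalizer ((⁅A, B⁆ : Subgroup G) : Set G) := by
  intro b hb
  rw [Subgroup.mem_normalizer_iff_map_conj_eq, Subgroup.map_commutator,
    Subgroup.mem_normalizer_iff_map_conj_eq.1 (hA hb),
    Subgroup.mem_normalizer_iff_map_conj_eq.1 (hB hb)]

omit [Finite G] in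
theorem le_normalizer_inf_centralizer {A N : Subgroup G}
    (hA : N ≤ Subgroup.normalizer (A : Set G)) :
    N ≤ Subgroup.normalizer ((A ⊓ Subgroup.centralizer (N : Set G) : Subgroup G) : Set G) := by
  have key : ∀ x ∈ N, ∀ c ∈ A ⊓ Subgroup.centralizer (N : Set G),
      x * c * x⁻¹ ∈ A ⊓ Subgroup.centralizer (N : Set G) := by
    intro x hx c hc
    refine Subgroup.mem_inf.mpr ⟨(Subgroup.mem_normalizer_iff.mp (hA hx) c).mp hc.1, ?_⟩
    rw [Subgroup.mem_centralizer_iff]
    intro y hy
    have h1 : x⁻¹ * y * x ∈ N := N.mul_mem (N.mul_mem (N.inv_mem hx) hy) hx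
    have h2 := (Subgroup.mem_centralizer_iff.mp hc.2) _ h1
    calc y * (x * c * x⁻¹) = x * ((x⁻¹ * y * x) * c) * x⁻¹ := by group
      _ = x * (c * (x⁻¹ * y * x)) * x⁻¹ := by rw [h2]
      _ = x * c * x⁻¹ * y := by group
  intro x hx
  rw [Subgroup.mem_normalizer_iff]
  intro c
  constructor
  · exact key x hx c
  · intro h
    have := key x⁻¹ (N.inv_mem hx) _ h
    simpa [mul_assoc] using this

include hp hq in
omit hKn in
theorem coprime_card (hP : IsPGroup p P) (hK : IsPGroup q K) (hpq : p ≠ q) :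
    (Nat.card P).Coprime (Nat.card K) := by
  obtain ⟨a, ha⟩ := hP.exists_card_eq
  obtain ⟨b, hb⟩ := hK.exists_card_eq
  rw [ha, hb]
  exact Nat.Coprime.pow _ _ ((Nat.coprime_primes hp.out hq.out).mpr hpq)

variable (hP : IsPGroup p P) (hK : IsPGroup q K) (hpq : p ≠ q)
  (hmin : ∀ Y : Subgroup G, Y ≤ K → P ≤ Subgroup.normalizer (Y : Set G) → Y ≠ K →
    Y ≤ Subgroup.centralizer (P : Set G))
  (hnc : ¬ K ≤ Subgroup.centralizer (P : Set G))

include hKn in
omit [Finite G] in
theorem le_normalizer_of_normal : P ≤ Subgroup.normalizer (K : Set G) := by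
  rw [Subgroup.normalizer_eq_top]; exact le_top

include hp hq hP hK hpq hmin hnc in
theorem commutator_eq_self : ⁅K, P⁆ = K := by
  by_contra hne
  have hle : ⁅K, P⁆ ≤ K := Subgroup.commutator_le_left K P
  have hPK : P ≤ Subgroup.normalizer (K : Set G) := le_normalizer_of_normal K P
  have hnorm : P ≤ Subgroup.normalizer ((⁅K, P⁆ : Subgroup G) : Set G) :=
    le_normalizer_commutator hPK Subgroup.le_normalizer
  have h1 := hmin _ hle hnorm hne
  have h2 : ⁅⁅K, P⁆, P⁆ = ⊥ := by
    rw [Subgroup.commutator_eq_bot_iff_le_centralizer]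
    exact h1
  have h3 := Cfsg.Agent.Lib.H7.commutator_eq_bot_of_commutator_commutator_eq_bot
    (coprime_card p q K P hP hK hpq) hPK h2
  apply hnc
  rw [← Subgroup.commutator_eq_bot_iff_le_centralizer]
  exact h3

include hp hq hP hK hpq hmin hnc in
theorem fixed_central : ∀ c ∈ K ⊓ Subgroup.centralizer (P : Set G), ∀ k ∈ K, c * k = k * c := by
  set C : Subgroup G := K ⊓ Subgroup.centralizer (P : Set G) with hC
  have hK1 : K ≠ ⊥ := by
    intro h
    apply hnc
    rw [h]; exact bot_le
  have hCK : C ≤ K := inf_le_left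
  have hPK : P ≤ Subgroup.normalizer (K : Set G) := le_normalizer_of_normal K P
  have hPC : P ≤ Subgroup.normalizer (C : Set G) := le_normalizer_inf_centralizer hPK
  have hY : ⁅K, C⁆ ≤ K := Subgroup.commutator_le_left K C
  have hYn : P ≤ Subgroup.normalizer ((⁅K, C⁆ : Subgroup G) : Set G) :=
    le_normalizer_commutator hPK hPC
  have hYne : ⁅K, C⁆ ≠ K := by
    apply Cfsg.Agent.Lib.H7.commutator_ne_self_of_isPGroup q hK (hK.to_le hCK) _ hK1
    rw [Subgroup.normalizer_eq_top]; exact le_top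
  have h1 := hmin _ hY hYn hYne
  have h2 : ⁅⁅K, C⁆, P⁆ = ⊥ := by
    rw [Subgroup.commutator_eq_bot_iff_le_centralizer]
    exact h1
  have h3 : ⁅⁅C, P⁆, K⁆ = ⊥ := by
    have : ⁅C, P⁆ = ⊥ := by
      rw [Subgroup.commutator_eq_bot_iff_le_centralizer]
      exact inf_le_right
    rw [this, Subgroup.commutator_bot_left]
  have h4 : ⁅⁅P, K⁆, C⁆ = ⊥ := Subgroup.commutator_commutator_eq_bot_of_rotate h2 h3
  rw [Subgroup.commutator_comm P K, commutator_eq_self p q K P hP hK hpq hmin hnc,
    Subgroup.commutator_eq_bot_iff_le_centralizer] at h4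
  intro c hc k hk
  exact (Subgroup.mem_centralizer_iff.mp (h4 hk) c hc)

variable (hfix : ∀ x ∈ P, x ≠ 1 →
    K ⊓ Subgroup.centralizer ({x} : Set G) = K ⊓ Subgroup.centralizer (P : Set G))

include hp hq hP hK hpq hnc hfix in
theorem atMostOne : Cfsg.Agent.Lib.H22.AtMostOneOrderP p ↥P := by
  by_contra h
  obtain ⟨E, hE, hEnc⟩ := Cfsg.Agent.Lib.H22.exists_noncyclic_sq_of_not_atMostOne hP h
  have hcomm : ∀ a b : E, a * b = b * a := fun a b =>
    (IsPGroup.isMulCommutative_of_card_eq_prime_sq hE).is_comm.comm a b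
  letI : CommGroup E := { (inferInstance : Group E) with mul_comm := hcomm }
  obtain ⟨p', hp', x, y, hx, hy, hx1, hxy⟩ :=
    Cfsg.Agent.Lib.H1.exists_independent_of_not_isCyclic (A := E) hEnc
  have hpp : p' = p := by
    haveI : Fact p'.Prime := ⟨hp'⟩
    have h1 : orderOf x = p' := orderOf_eq_prime hx hx1
    have h2 : orderOf x ∣ p ^ 2 := by
      rw [← hE]; exact orderOf_dvd_natCard x
    rw [h1] at h2
    exact (Nat.prime_dvd_prime_iff_eq hp' hp.out).mp (hp'.dvd_of_dvd_pow h2)
  subst hpp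
  have hPK : P ≤ Subgroup.normalizer (K : Set G) := le_normalizer_of_normal K P
  have hact : Cfsg.Agent.Lib.H1.CoprimeAction P K :=
    { normalizes := hPK
      coprime := coprime_card p' q K P hP hK hpq
      solvable := Or.inl (by
        haveI := hP.isNilpotent
        infer_instance) }
  have hKp : (Nat.card K).Coprime p' := by
    obtain ⟨b, hb⟩ := hK.exists_card_eq
    rw [hb]
    exact Nat.Coprime.pow_left _ ((Nat.coprime_primes hq.out hp.out).mpr (Ne.symm hpq))
  set x' : G := ((x : ↥P) : G) with hx'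
  set y' : G := ((y : ↥P) : G) with hy'
  have hx'P : x' ∈ P := (x : ↥P).2
  have hy'P : y' ∈ P := (y : ↥P).2
  have hxy' : x' * y' = y' * x' := by
    have := hcomm x y
    have h2 := congrArg (fun e : E => ((e : ↥P) : G)) this
    simpa using h2
  have hxp : x' ^ p' = 1 := by
    have h2 := congrArg (fun e : E => ((e : ↥P) : G)) hx
    simpa using h2
  have hyp : y' ^ p' = 1 := by
    have h2 := congrArg (fun e : E => ((e : ↥P) : G)) hy
    simpa using h2
  have hx1' : x' ≠ 1 := by
    intro h1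
    apply hx1
    apply Subtype.ext
    apply Subtype.ext
    exact h1
  have hxy1 : ∀ i : ℕ, x' ^ i * y' ≠ 1 := by
    intro i h1
    apply hxy i
    apply Subtype.ext
    apply Subtype.ext
    simpa using h1
  have hle := Cfsg.Agent.Lib.H9.le_of_centralizers_le (p := p') (A := P) (K := K)
    (W := K ⊓ Subgroup.centralizer (P : Set G)) hact hKp hx'P hy'P hxy' hxp hyp
    (hfix x' hx'P hx1').le
    (fun i => (hfix _ (P.mul_mem (P.pow_mem hx'P i) hy'P) (hxy1 i)).le)
  exact hnc (hle.trans inf_le_right)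

include hp hq hP hK hpq hnc hfix in
theorem mem_zpowers_of_pow_eq_one {x y : G} (hx : x ∈ P) (hx1 : x ≠ 1) (hxp : x ^ p = 1)
    (hy : y ∈ P) (hyp : y ^ p = 1) : y ∈ Subgroup.zpowers x := by
  have h := atMostOne p q K P hP hK hpq hnc hfix
  have h1 := h.mem_zpowers (x := (⟨x, hx⟩ : ↥P)) (y := (⟨y, hy⟩ : ↥P))
    (Subtype.ext (by simpa using hxp)) (fun h => hx1 (congrArg Subtype.val h))
    (Subtype.ext (by simpa using hyp))
  obtain ⟨k, hk⟩ := Subgroup.mem_zpowers_iff.mp h1
  rw [Subgroup.mem_zpowers_iff]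
  refine ⟨k, ?_⟩
  have := congrArg (Subtype.val : ↥P → G) hk
  simpa using this

include hp hq hP hK hpq hmin hnc hfix in
theorem commutator_zpowers_eq_self {x : G} (hx : x ∈ P) (hx1 : x ≠ 1) (hxp : x ^ p = 1) :
    ⁅K, Subgroup.zpowers x⁆ = K := by
  by_contra hne
  set X : Subgroup G := Subgroup.zpowers x with hX
  have hXP : X ≤ P := by rw [hX, Subgroup.zpowers_le]; exact hx
  have hPX : P ≤ Subgroup.normalizer (X : Set G) := by
    have key : ∀ g ∈ P, ∀ z ∈ X, g * z * g⁻¹ ∈ X := by
      intro g hg z hz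
      obtain ⟨k, rfl⟩ := Subgroup.mem_zpowers_iff.mp hz
      have h1 : g * x ^ k * g⁻¹ = (g * x * g⁻¹) ^ k := by
        rw [conj_zpow]
      rw [h1]
      apply X.zpow_mem
      apply mem_zpowers_of_pow_eq_one p q K P hP hK hpq hnc hfix hx hx1 hxp
        (P.mul_mem (P.mul_mem hg hx) (P.inv_mem hg))
      rw [conj_pow, hxp, mul_one, mul_inv_cancel]
    intro g hg
    rw [Subgroup.mem_normalizer_iff]
    intro z
    constructor
    · exact key g hg z
    · intro h
      have := key g⁻¹ (P.inv_mem hg) _ h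
      simpa [mul_assoc] using this
  have hPK : P ≤ Subgroup.normalizer (K : Set G) := le_normalizer_of_normal K P
  have hle : ⁅K, X⁆ ≤ K := Subgroup.commutator_le_left K X
  have hnorm : P ≤ Subgroup.normalizer ((⁅K, X⁆ : Subgroup G) : Set G) :=
    le_normalizer_commutator hPK hPX
  have h1 := hmin _ hle hnorm hne
  have h2 : ⁅⁅K, X⁆, X⁆ = ⊥ := by
    rw [Subgroup.commutator_eq_bot_iff_le_centralizer]
    exact h1.trans (Subgroup.centralizer_le hXP)
  have hcop : (Nat.card X).Coprime (Nat.card K) :=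
    Nat.Coprime.coprime_dvd_left (Subgroup.card_dvd_of_le hXP) (coprime_card p q K P hP hK hpq)
  have h3 := Cfsg.Agent.Lib.H7.commutator_eq_bot_of_commutator_commutator_eq_bot
    hcop (hXP.trans hPK) h2
  rw [Subgroup.commutator_eq_bot_iff_le_centralizer] at h3
  apply hnc
  have h4 : K ≤ K ⊓ Subgroup.centralizer ({x} : Set G) := by
    refine le_inf le_rfl (h3.trans ?_)
    apply Subgroup.centralizer_le
    rw [Set.singleton_subset_iff]
    exact Subgroup.mem_zpowers x
  rw [hfix x hx hx1] at h4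
  exact h4.trans inf_le_right

include hp hq hP hK hpq hnc hfix in
theorem atMostOne_sub (R : Subgroup G) (hRP : R ≤ P) : Cfsg.Agent.Lib.H22.AtMostOneOrderP p ↥R := by
  have key : ∀ H₁ H₂ : Subgroup ↥R, Nat.card H₁ = p → Nat.card H₂ = p → H₂ ≤ H₁ := by
    intro H₁ H₂ h1 h2
    have hnt : Nontrivial H₁ := by
      rw [← Finite.one_lt_card_iff_nontrivial, h1]
      exact hp.out.one_lt
    obtain ⟨x, hx1⟩ := exists_ne (1 : H₁)
    have hxp : x ^ p = 1 := by rw [← h1]; exact pow_card_eq_one'
    intro y hy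
    have hyp : (⟨y, hy⟩ : H₂) ^ p = 1 := by rw [← h2]; exact pow_card_eq_one'
    have hx' : (((x : ↥R) : G)) ^ p = 1 := by
      have := congrArg (fun e : H₁ => ((e : ↥R) : G)) hxp
      simpa using this
    have hy' : ((y : G)) ^ p = 1 := by
      have := congrArg (fun e : H₂ => ((e : ↥R) : G)) hyp
      simpa using this
    have hx1' : (((x : ↥R) : G)) ≠ 1 := by
      intro h
      apply hx1
      apply Subtype.ext
      apply Subtype.ext
      exact h
    have h3 := mem_zpowers_of_pow_eq_one p q K P hP hK hpq hnc hfix (hRP (x : ↥R).2) hx1' hx'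
      (hRP y.2) hy'
    obtain ⟨k, hk⟩ := Subgroup.mem_zpowers_iff.mp h3
    have h4 : y = (x : ↥R) ^ k := by
      apply Subtype.ext
      rw [← hk]
      simp
    rw [h4]
    exact H₁.zpow_mem x.2 k
  intro H₁ H₂ h1 h2
  exact le_antisymm (key H₂ H₁ h2 h1) (key H₁ H₂ h1 h2)

include hp hq hP hK hpq hnc hfix in
theorem exists_cyclic_in (R : Subgroup G) (hRP : R ≤ P) :
    ∃ S : Subgroup G, S ≤ R ∧ IsCyclic S ∧
      (Nat.card S = Nat.card R ∨ (4 ≤ Nat.card S ∧ Nat.card R = 2 * Nat.card S)) := by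
  obtain ⟨S, hS, hcard⟩ := exists_large_cyclic p (hP.to_le hRP)
    (atMostOne_sub p q K P hP hK hpq hnc hfix R hRP)
  refine ⟨S.map R.subtype, Subgroup.map_subtype_le S, ?_, ?_⟩
  · exact isCyclic_of_surjective (S.equivMapOfInjective R.subtype R.subtype_injective).toMonoidHom
      (S.equivMapOfInjective R.subtype R.subtype_injective).surjective
  · rw [Subgroup.card_map_of_injective R.subtype_injective]
    exact hcard

end config


section chars

/-- a character not constant at `k` has an irreducible constituent not constant at `k`. -/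
theorem exists_constituent_ne {H : Type*} [Group H] [Fintype H] (θ : H → ℂ)
    (hθ : IsCharacter H θ) (k : H) (hk : θ k ≠ θ 1) :
    ∃ η : IrrCharacter H, classInner θ (η : H → ℂ) ≠ 0 ∧ (η : H → ℂ) k ≠ (η : H → ℂ) 1 := by
  classical
  have := Fintype.ofFinite (IrrCharacter H)
  by_contra hcon
  apply hk
  have hall : ∀ η : IrrCharacter H, classInner θ (η : H → ℂ) ≠ 0 →
      (η : H → ℂ) k = (η : H → ℂ) 1 := by
    intro η h1
    by_contra h2
    exact hcon ⟨η, h1, h2⟩
  have hexp := classFunction_expansion θ (isClassFunction_of_isCharacter hθ)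
  have h1 := congrFun hexp k
  have h2 := congrFun hexp 1
  rw [Finset.sum_apply] at h1 h2
  rw [h1, h2]
  refine Finset.sum_congr rfl fun η _ => ?_
  simp only [Pi.smul_apply, smul_eq_mul]
  by_cases h3 : classInner θ (η : H → ℂ) = 0
  · rw [h3, zero_mul, zero_mul]
  · rw [hall η h3]

variable {G : Type u} [Group G] [Fintype G] (K P : Subgroup G) [hKn : K.Normal] [Fintype K]

omit hKn in
/-- Clifford-type inequality: `ψ(1) |Stab_P(φ)| ≥ |P| φ(1)`. -/
theorem card_mul_degree_le (hPK : ∀ q ∈ P, ∀ n ∈ K, q * n * q⁻¹ ∈ K) (ψ : G → ℂ)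
    (hψ : IsCharacter G ψ) (φ : IrrCharacter K)
    (hφ : classInner (fun k : K => ψ k) (φ : K → ℂ) ≠ 0) (n d : ℕ) (hn : ψ 1 = n)
    (hd : (φ : K → ℂ) 1 = d) :
    Nat.card P * d ≤
      n * Nat.card (@MulAction.stabilizer P (IrrCharacter K) _ (irrAct K P hPK) φ) := by
  classical
  have := Fintype.ofFinite (IrrCharacter K)
  letI : MulAction P (IrrCharacter K) := irrAct K P hPK
  have hψK : IsCharacter K (fun k : K => ψ k) := isCharacter_restrict K hψ
  obtain ⟨m, hm, hsum⟩ := Cfsg.Agent.Lib.H8.char_one_eq_sum (fun k : K => ψ k) hψK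
  have hn' : n = ∑ η : IrrCharacter K, m η * charDegree (η : K → ℂ) := by
    have : (n : ℂ) = ((∑ η : IrrCharacter K, m η * charDegree (η : K → ℂ) : ℕ) : ℂ) := by
      rw [← hn, ← hsum]
      rfl
    exact_mod_cast this
  -- invariance of multiplicity and degree along the orbit
  have hψcf := isClassFunction_of_isCharacter hψ
  have hminv : ∀ (q : P) (η : IrrCharacter K), m (q • η) = m η := by
    intro q η
    have h1 : classInner (fun k : K => ψ k) ((q • η : IrrCharacter K) : K → ℂ) =
        classInner (fun k : K => ψ k) (η : K → ℂ) := by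
      unfold classInner
      congr 1
      let c : K ≃ K :=
        { toFun := fun k => ⟨(q : G)⁻¹ * k * ((q : G)⁻¹)⁻¹, hPK _ (P.inv_mem q.2) k k.2⟩
          invFun := fun k => ⟨(q : G) * k * (q : G)⁻¹, hPK _ q.2 k k.2⟩
          left_inv := fun k => by apply Subtype.ext; simp [mul_assoc]
          right_inv := fun k => by apply Subtype.ext; simp [mul_assoc] }
      rw [← Equiv.sum_comp c (fun k => ψ k * conj ((η : K → ℂ) k))]
      refine Finset.sum_congr rfl fun k _ => ?_
      have h2 : ((q • η : IrrCharacter K) : K → ℂ) k = (η : K → ℂ) (c k) :=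
        irrAct_smul_apply K P hPK q η k
      rw [h2]
      congr 1
      show ψ (k : G) = ψ ((q : G)⁻¹ * k * ((q : G)⁻¹)⁻¹)
      rw [hψcf]
    have h3 : (m (q • η) : ℂ) = m η := by rw [← hm, ← hm, h1]
    exact_mod_cast h3
  have hdinv : ∀ (q : P) (η : IrrCharacter K),
      charDegree ((q • η : IrrCharacter K) : K → ℂ) = charDegree (η : K → ℂ) := by
    intro q η
    unfold charDegree
    have h2 : ((q • η : IrrCharacter K) : K → ℂ) 1 = (η : K → ℂ) 1 := by
      refine (irrAct_smul_apply K P hPK q η 1).trans ?_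
      apply congrArg
      apply Subtype.ext
      simp
    rw [h2]
  have hdφ : charDegree (φ : K → ℂ) = d := by
    unfold charDegree
    rw [hd]
    simp
  have hmφ : 1 ≤ m φ := by
    rcases Nat.eq_zero_or_pos (m φ) with h | h
    · exfalso
      apply hφ
      rw [hm, h]
      simp
    · exact h
  -- the orbit
  have : Fintype (MulAction.orbit P φ) := Fintype.ofFinite _
  have horb : (MulAction.orbit P φ).toFinset.card * (m φ * d) ≤ n := by
    rw [hn']
    calc (MulAction.orbit P φ).toFinset.card * (m φ * d)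
        = ∑ η ∈ (MulAction.orbit P φ).toFinset, m η * charDegree (η : K → ℂ) := by
          rw [Finset.sum_const_nat]
          intro η hη
          rw [Set.mem_toFinset] at hη
          obtain ⟨q, rfl⟩ := hη
          show m (q • φ) * charDegree ((q • φ : IrrCharacter K) : K → ℂ) = m φ * d
          rw [hminv, hdinv, hdφ]
      _ ≤ ∑ η : IrrCharacter K, m η * charDegree (η : K → ℂ) :=
          Finset.sum_le_sum_of_subset (Finset.subset_univ _)
  have hcard := MulAction.card_orbit_mul_card_stabilizer_eq_card_group P φ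
  have hcard' : (MulAction.orbit P φ).toFinset.card * Nat.card (MulAction.stabilizer P φ) =
      Nat.card P := by
    rw [Set.toFinset_card, Nat.card_eq_fintype_card, Nat.card_eq_fintype_card]
    convert hcard
  calc Nat.card P * d = (MulAction.orbit P φ).toFinset.card * d *
        Nat.card (MulAction.stabilizer P φ) := by rw [← hcard']; ring
    _ ≤ (MulAction.orbit P φ).toFinset.card * (m φ * d) *
        Nat.card (MulAction.stabilizer P φ) := by
        apply Nat.mul_le_mul_right
        apply Nat.mul_le_mul_left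
        exact Nat.le_mul_of_pos_left d hmφ
    _ ≤ n * Nat.card (MulAction.stabilizer P φ) := Nat.mul_le_mul_right _ horb

end chars


theorem config_degree {G : Type u} [Group G] [Fintype G] (p q : ℕ) [hp : Fact p.Prime]
    [hq : Fact q.Prime] (K P : Subgroup G) [hKn : K.Normal] [Fintype K]
    (hP : IsPGroup p P) (hK : IsPGroup q K) (hpq : p ≠ q)
    (hmin : ∀ Y : Subgroup G, Y ≤ K → P ≤ Subgroup.normalizer (Y : Set G) → Y ≠ K →
      Y ≤ Subgroup.centralizer (P : Set G))
    (hnc : ¬ K ≤ Subgroup.centralizer (P : Set G))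
    (hfix : ∀ x ∈ P, x ≠ 1 →
      K ⊓ Subgroup.centralizer ({x} : Set G) = K ⊓ Subgroup.centralizer (P : Set G))
    (ψ : G → ℂ) (hψ : IsCharacter G ψ) (k : G) (hkK : k ∈ K) (hk : ψ k ≠ ψ 1)
    (n : ℕ) (hn : ψ 1 = n) : Nat.card P < n ^ 2 := by
  classical
  have hPKn : ∀ x ∈ P, ∀ g ∈ K, x * g * x⁻¹ ∈ K := fun x _ g hg => hKn.conj_mem g hg x
  -- a constituent of `ψ_K` not constant at `k`
  have hψK : IsCharacter K (fun g : K => ψ g) := isCharacter_restrict K hψ
  obtain ⟨φ, hφ, hφk⟩ := exists_constituent_ne (fun g : K => ψ g) hψK ⟨k, hkK⟩ hk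
  obtain ⟨d, hd0, hd⟩ := irr_one_eq φ
  have hineq := card_mul_degree_le K P hPKn ψ hψ φ hφ n d hn hd
  letI : MulAction P (IrrCharacter K) := irrAct K P hPKn
  set Stab : Subgroup ↥P := MulAction.stabilizer P φ with hStab
  -- `P` is nontrivial
  have hP2 : 2 ≤ Nat.card P := by
    by_contra hlt
    have h1 : Nat.card P = 1 := by
      have := Nat.card_pos (α := P)
      omega
    apply hnc
    rw [Subgroup.card_eq_one.mp h1]
    intro g _
    rw [Subgroup.mem_centralizer_iff]
    intro y hy
    rw [Subgroup.coe_bot, Set.mem_singleton_iff] at hy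
    rw [hy, one_mul, mul_one]
  -- invariance under the stabiliser
  have hstabinv : ∀ s : ↥P, s ∈ Stab → ∀ g g' : K, (g' : G) = (s : G) * g * (s : G)⁻¹ →
      (φ : K → ℂ) g' = (φ : K → ℂ) g := by
    intro s hs g g' hgg
    have h1 : s • φ = φ := MulAction.mem_stabilizer_iff.mp hs
    have h2 := congrFun (congrArg Subtype.val h1) g'
    have h3 := irrAct_smul_apply K P hPKn s φ g'
    rw [← h2]
    refine h3.trans ?_
    apply congrArg
    apply Subtype.ext
    show (s : G)⁻¹ * (g' : G) * ((s : G)⁻¹)⁻¹ = (g : G)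
    rw [hgg]
    group
  by_cases hS1 : Nat.card Stab = 1
  · rw [hS1, mul_one] at hineq
    have h1 : Nat.card P ≤ n := le_trans (Nat.le_mul_of_pos_right _ hd0) hineq
    nlinarith
  · -- nontrivial stabiliser
    have hSpos : 0 < Nat.card Stab := Nat.card_pos
    have hS2 : 2 ≤ Nat.card Stab := by omega
    set R : Subgroup G := Stab.map P.subtype with hR
    have hRP : R ≤ P := Subgroup.map_subtype_le Stab
    have hcardR : Nat.card R = Nat.card Stab :=
      Subgroup.card_map_of_injective P.subtype_injective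
    have hRinv : ∀ s ∈ R, ∀ g g' : K, (g' : G) = s * g * s⁻¹ →
        (φ : K → ℂ) g' = (φ : K → ℂ) g := by
      intro s hs g g' hgg
      obtain ⟨s', hs', rfl⟩ := hs
      exact hstabinv s' hs' g g' hgg
    -- an element of order p in R
    have hRp : IsPGroup p R := hP.to_le hRP
    have hpdvd : p ∣ Nat.card R := by
      obtain ⟨a, ha⟩ := hRp.exists_card_eq
      rw [ha]
      rcases Nat.eq_zero_or_pos a with h | h
      · rw [h, pow_zero] at ha
        omega
      · exact dvd_pow_self p h.ne'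
    obtain ⟨x, hx⟩ := exists_prime_orderOf_dvd_card' p hpdvd
    have hxP : (x : G) ∈ P := hRP x.2
    have hx1 : (x : G) ≠ 1 := by
      intro h
      have : x = 1 := Subtype.ext h
      rw [this, orderOf_one] at hx
      exact hp.out.one_lt.ne hx
    have hxp : (x : G) ^ p = 1 := by
      have := pow_orderOf_eq_one x
      rw [hx] at this
      have h2 := congrArg (Subtype.val : R → G) this
      simpa using h2
    have hcomm := commutator_zpowers_eq_self p q K P hP hK hpq hmin hnc hfix hxP hx1 hxp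
    have hXR : Subgroup.zpowers (x : G) ≤ R := by
      rw [Subgroup.zpowers_le]; exact x.2
    -- φ is not linear
    have hd1 : d ≠ 1 := by
      intro h1
      rw [h1, Nat.cast_one] at hd
      have hmul := linear_char_mul (isCharacter_of_irr φ.2) hd
      let L : Subgroup G :=
        { carrier := {g | ∃ h : g ∈ K, (φ : K → ℂ) ⟨g, h⟩ = 1}
          one_mem' := ⟨K.one_mem, hd⟩
          mul_mem' := by
            rintro a b ⟨ha, ha'⟩ ⟨hb, hb'⟩
            refine ⟨K.mul_mem ha hb, ?_⟩
            have := hmul ⟨a, ha⟩ ⟨b, hb⟩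
            rw [ha', hb', mul_one] at this
            exact this
          inv_mem' := by
            rintro a ⟨ha, ha'⟩
            refine ⟨K.inv_mem ha, ?_⟩
            have := hmul ⟨a⁻¹, K.inv_mem ha⟩ ⟨a, ha⟩
            have h2 : (⟨a⁻¹, K.inv_mem ha⟩ : K) * ⟨a, ha⟩ = 1 := by
              apply Subtype.ext; simp
            rw [h2, hd, ha', mul_one] at this
            exact this.symm }
      have hle : ⁅K, Subgroup.zpowers (x : G)⁆ ≤ L := by
        rw [Subgroup.commutator_le]
        intro a ha b hb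
        have hbK : b * a⁻¹ * b⁻¹ ∈ K := hKn.conj_mem _ (K.inv_mem ha) b
        have hab : ⁅a, b⁆ = a * (b * a⁻¹ * b⁻¹) := by rw [commutatorElement_def]; group
        have habK : ⁅a, b⁆ ∈ K := by rw [hab]; exact K.mul_mem ha hbK
        refine ⟨habK, ?_⟩
        have h3 : (⟨⁅a, b⁆, habK⟩ : K) = ⟨a, ha⟩ * ⟨b * a⁻¹ * b⁻¹, hbK⟩ :=
          Subtype.ext hab
        rw [h3, hmul]
        have h4 : (φ : K → ℂ) ⟨b * a⁻¹ * b⁻¹, hbK⟩ = (φ : K → ℂ) ⟨a⁻¹, K.inv_mem ha⟩ :=
          hRinv b (hXR hb) ⟨a⁻¹, K.inv_mem ha⟩ ⟨b * a⁻¹ * b⁻¹, hbK⟩ rfl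
        rw [h4, ← hmul]
        have h5 : (⟨a, ha⟩ : K) * ⟨a⁻¹, K.inv_mem ha⟩ = 1 := by
          apply Subtype.ext; simp
        rw [h5, hd]
      rw [hcomm] at hle
      obtain ⟨hk', hk''⟩ := hle hkK
      apply hφk
      rw [hd]
      exact hk''
    have hd2 : 2 ≤ d := by omega
    -- a large cyclic subgroup
    obtain ⟨S, hSR, hScyc, hScard⟩ := exists_cyclic_in p q K P hP hK hpq hnc hfix R hRP
    have hSP : S ≤ P := hSR.trans hRP
    have hS1' : S ≠ ⊥ := by
      intro h
      rw [h, Subgroup.card_bot] at hScard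
      rcases hScard with h1 | ⟨h1, -⟩
      · omega
      · omega
    have hcopS : (Nat.card K).Coprime (Nat.card S) :=
      (Nat.Coprime.coprime_dvd_left (Subgroup.card_dvd_of_le hSP)
        (coprime_card p q K P hP hK hpq)).symm
    obtain ⟨ε, hε, hdvd⟩ := card_dvd_degree_sub_sign_amb K S
      (fun s _ g hg => hKn.conj_mem g hg s) hcopS hScyc hS1'
      (K ⊓ Subgroup.centralizer (P : Set G))
      (fun x hx hx1 => hfix x (hSP hx) hx1)
      (fun a ha b hb => fixed_central p q K P hP hK hpq hmin hnc a ha b hb.1)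
      (φ : K → ℂ) φ.2 d hd
      (fun s hs g g' hgg => hRinv s (hSR hs) g g' hgg)
    have hSle : Nat.card S ≤ d + 1 := by
      have hpos : (0 : ℤ) < (d : ℤ) - ε := by
        rcases hε with h | h <;> rw [h] <;> omega
      have := Int.le_of_dvd hpos hdvd
      rcases hε with h | h <;> rw [h] at this <;> omega
    -- arithmetic
    obtain ⟨t, ht⟩ : Nat.card R ∣ Nat.card P := Subgroup.card_dvd_of_le hRP
    have hr2 : 2 ≤ Nat.card R := by rw [hcardR]; exact hS2
    have ht1 : 1 ≤ t := by
      rcases Nat.eq_zero_or_pos t with h | h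
      · rw [h, mul_zero] at ht; omega
      · exact h
    rw [← hcardR] at hineq
    have htd : t * d ≤ n := by
      have h1 : Nat.card R * (t * d) ≤ Nat.card R * n := by
        calc Nat.card R * (t * d) = Nat.card P * d := by rw [ht]; ring
          _ ≤ n * Nat.card R := hineq
          _ = Nat.card R * n := by ring
      exact Nat.le_of_mul_le_mul_left h1 (by omega)
    have hdr : Nat.card R < d ^ 2 := by
      rcases hScard with h1 | ⟨h1, h2⟩
      · rw [← h1]
        nlinarith
      · rw [h2]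
        have hd3 : 3 ≤ d := by omega
        nlinarith
    rw [ht]
    calc Nat.card R * t < d ^ 2 * t := Nat.mul_lt_mul_of_pos_right hdr (by omega)
      _ ≤ d ^ 2 * t ^ 2 := by
          apply Nat.mul_le_mul_left
          nlinarith
      _ = (t * d) ^ 2 := by ring
      _ ≤ n ^ 2 := Nat.pow_le_pow_left htd 2


end Cfsg.Agent.Lib.H18.Leonard
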