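/-
S4467 (architect helper15), piece F1A (helper18): in a minimal counterexample every proper normal subgroup has a normal
Sylow `p`-subgroup.  Exact signature of `tools/blueprints/S4467_sigs.lean`; the proof is `DXF1Aa` fed with KERFAM, DEFL
(helper24) and SUBDIRECT (helper15).
-/
import Cfsg.Agent.Lib.H18.DXF1Aa
import Cfsg.Agent.Lib.H15.DXSUBDIRECT
import Cfsg.Agent.Lib.H24.DXKERFAM
import Cfsg.Agent.Lib.H24.DXDEFL

set_option autoImplicit false
set_option linter.unusedVariables false

namespace Cfsg.Agent.Lib.H18.DX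

open Cfsg Cfsg.Agent.Lib.H15.DX

universe u

variable {p : ℕ} [Fact p.Prime] {G : Type u} [Group G] [Finite G] {χ : G → ℂ} {n : ℕ}

/-- **S4467, piece F1A** -/
theorem sylow_normal_of_proper_normal (c : Ctx p G χ n) (M : Subgroup G) [M.Normal]
    (hM : M ≠ ⊤) (S : Sylow p M) : (S : Subgroup M).Normal :=
  sylow_normal_of_proper_normal_aux
    (fun M _ x hx => Cfsg.Agent.Lib.H24.DX.exists_constituent_ne_of_faithful χ c.irr c.faith n c.deg M x hx)
    (fun M _ _ ψ hψ => Cfsg.Agent.Lib.H24.DX.exists_faithful_quotient ψ hψ)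
    (fun M _ _ ι K _ hK h S => Cfsg.Agent.Lib.H15.DX.sylow_normal_of_iInf_eq_bot p K hK h S)
    c M hM S

end Cfsg.Agent.Lib.H18.DX
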