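/-
S4467 (architect helper15), piece F2 (helper18), generic part: quasi-primitivity of a minimal counterexample
(`χ_N = e θ` for every normal subgroup `N`) — stated with the pieces F1B(+F1A), CLIFFIDX, MAXSUB, COUNT as hypotheses.
-/
import Mathlib
import Cfsg.Prelude.Def_Characters
import Cfsg.Agent.Lib.H15.DXDefs
import Cfsg.Agent.Lib.H23.Ito
import Cfsg.Agent.Lib.H23.FullyRamified

set_option autoImplicit false

namespace Cfsg.Agent.Lib.H18.DX

open Cfsg Cfsg.Agent.Lib.H15.DX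

universe u

theorem restrict_eq_smul_aux {p : ℕ} [Fact p.Prime] {G : Type u} [Group G] [Finite G] {χ : G → ℂ} {n : ℕ}
    (f1b : ∀ (N : Subgroup G) [N.Normal], N ≠ ⊤ → p ∣ N.index)
    (cliffidx : ∀ [Fintype G] (N : Subgroup G) [N.Normal] [Fintype N] (θ : N → ℂ), IsIrrCharacter N θ →
      classInner (fun x : N => χ x) θ ≠ 0 → (Cfsg.Agent.Lib.H23.inertia N θ).index ∣ n)
    (maxsub : ∀ (H : Subgroup G), IsCoatom H →
      ∃ r k : ℕ, r.Prime ∧ 1 ≤ k ∧ H.index = r ^ k ∧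
        ∃ V : Subgroup (G ⧸ H.normalCore), V.Normal ∧ Nat.card V = r ^ k ∧
          (∀ a ∈ V, ∀ b ∈ V, a * b = b * a) ∧
          Subgroup.centralizer (V : Set (G ⧸ H.normalCore)) ≤ V)
    (count : ∀ (Q : Type u) [Group Q] [Finite Q] (r k : ℕ), r.Prime → r ≠ p → ∀ (V : Subgroup Q) [V.Normal],
      Nat.card V = r ^ k → Subgroup.centralizer (V : Set Q) ≤ V → p ∣ Nat.card Q →
        ∃ j, 1 ≤ j ∧ j ≤ k ∧ p ∣ r ^ j - 1)
    (c : Ctx p G χ n) (N : Subgroup G) [hN : N.Normal] :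
    ∃ (θ : N → ℂ) (e : ℕ), IsIrrCharacter N θ ∧ (fun x : N => χ x) = (e : ℂ) • θ := by
  classical
  have hp : p.Prime := Fact.out
  haveI : Fintype G := Fintype.ofFinite G
  haveI : Fintype N := Fintype.ofFinite N
  have hn0 : n ≠ 0 := by
    rintro rfl
    exact c.bad (good_of_prime_dvd hp (dvd_zero p))
  have hchar : IsCharacter N (fun x : N => χ x) :=
    Cfsg.Agent.Lib.L0.isCharacter_restrict N (Cfsg.Agent.Lib.L0.isCharacter_of_irr c.irr)
  have h1 : (fun x : N => χ x) 1 ≠ 0 := by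
    show χ ((1 : N) : G) ≠ 0
    rw [Subgroup.coe_one, c.deg]
    exact_mod_cast hn0
  obtain ⟨θ, hθ, hcon⟩ := Cfsg.Agent.Lib.H23.exists_irr_constituent hchar h1
  by_cases hT : Cfsg.Agent.Lib.H23.inertia N θ = ⊤
  · have hinv : ∀ (g : G) (x : N), θ ⟨g * x * g⁻¹, hN.conj_mem (x : G) x.2 g⟩ = θ x := by
      intro g x
      have hg : g ∈ Cfsg.Agent.Lib.H23.inertia N θ := by rw [hT]; trivial
      exact (Cfsg.Agent.Lib.H23.mem_inertia N θ g).mp hg x
    have h2 := Cfsg.Agent.Lib.H23.restrict_eq_smul_of_invariant N χ c.irr θ hθ hcon hinv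
    obtain ⟨e, he⟩ := Cfsg.Agent.Lib.L0.classInner_char_irr_nat hchar hθ
    exact ⟨θ, e, hθ, by rw [← he]; exact h2⟩
  · exfalso
    obtain ⟨H, hH, hTH⟩ := (eq_top_or_exists_le_coatom (Cfsg.Agent.Lib.H23.inertia N θ)).resolve_left hT
    have hdvd1 : H.index ∣ n :=
      (Subgroup.index_dvd_of_le hTH).trans (cliffidx N θ hθ hcon)
    obtain ⟨r, k, hr, hk, hidx, V, hVn, hVc, hVab, hVcen⟩ := maxsub H hH
    have hrk : r ^ k ∣ n := by rw [← hidx]; exact hdvd1
    have hcore : H.normalCore ≠ ⊤ := by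
      intro h
      apply hH.1
      rw [eq_top_iff, ← h]
      exact Subgroup.normalCore_le H
    have hpd : p ∣ Nat.card (G ⧸ H.normalCore) := by
      rw [← Subgroup.index_eq_card]
      exact f1b H.normalCore hcore
    by_cases hrp : r = p
    · apply c.bad
      apply good_of_prime_dvd hp
      rw [← hrp]
      exact (dvd_pow_self r (by omega)).trans hrk
    · obtain ⟨j, hj1, hjk, hpj⟩ := count (G ⧸ H.normalCore) r k hr hrp V hVc hVcen hpd
      exact c.bad (good_of_pow hr hj1 ((pow_dvd_pow r hjk).trans hrk) (Or.inl hpj))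

end Cfsg.Agent.Lib.H18.DX
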