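/-
S4467 (architect helper15), piece F2 (helper18): quasi-primitivity of a minimal counterexample, `χ_N = e θ` for every normal
subgroup `N`.  Exact signature of `tools/blueprints/S4467_sigs.lean`; the proof is `DXF2a` fed with F1A (`DXF1A`), F1B
(helper22), CLIFFIDX (helper7), MAXSUB and COUNT (helper29).
-/
import Cfsg.Agent.Lib.H18.DXF2a
import Cfsg.Agent.Lib.H18.DXF1A
import Cfsg.Agent.Lib.H22.DXF1B
import Cfsg.Agent.Lib.H7.DXCLIFFIDX
import Cfsg.Agent.Lib.H29.DXMAXSUB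
import Cfsg.Agent.Lib.H29.DXCOUNT

set_option autoImplicit false
set_option linter.unusedVariables false

namespace Cfsg.Agent.Lib.H18.DX

open Cfsg Cfsg.Agent.Lib.H15.DX

universe u

variable {p : ℕ} [Fact p.Prime] {G : Type u} [Group G] [Finite G] {χ : G → ℂ} {n : ℕ}

/-- **S4467, piece F2** -/
theorem restrict_eq_smul (c : Ctx p G χ n) (N : Subgroup G) [N.Normal] :
    ∃ (θ : N → ℂ) (e : ℕ), IsIrrCharacter N θ ∧ (fun x : N => χ x) = (e : ℂ) • θ := by
  obtain ⟨P, hP⟩ := c.nonnormal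
  exact restrict_eq_smul_aux
    (fun N _ hN => Cfsg.Agent.Lib.H22.DX.p_dvd_index_of_proper_normal p c.solv
      (fun M hMn hM S => @sylow_normal_of_proper_normal p _ G _ _ χ n c M hMn hM S) P hP N hN)
    (fun {_} N _ _ θ hθ hc => Cfsg.Agent.Lib.H7.DX.index_inertia_dvd χ c.irr n c.deg N θ hθ hc)
    (fun H hH => Cfsg.Agent.Lib.H29.DX.exists_affine_quotient c.solv H hH)
    (fun Q _ _ r k hr hrp V _ hV hcen hp =>
      Cfsg.Agent.Lib.H29.DX.exists_pow_sub_one_of_action p r k hr hrp V hV hcen hp)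
    c N

end Cfsg.Agent.Lib.H18.DX
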