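/-
S4467 (architect helper15), piece F3 (twin by helper18), generic part: in a minimal counterexample every abelian normal
subgroup is central — stated with the piece F2 as a hypothesis.
-/
import Mathlib
import Cfsg.Prelude.Def_Characters
import Cfsg.Agent.Lib.H15.DXDefs
import Cfsg.Agent.Lib.L0.CharLinear
import Cfsg.Agent.Lib.L0.CharDegree

set_option autoImplicit false

namespace Cfsg.Agent.Lib.H18.DX

open Cfsg Cfsg.Agent.Lib.H15.DX

universe u

theorem le_center_of_abelian_normal_aux {p : ℕ} [Fact p.Prime] {G : Type u} [Group G] [Finite G] {χ : G → ℂ} {n : ℕ}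
    (f2 : ∀ (N : Subgroup G) [N.Normal], ∃ (θ : N → ℂ) (e : ℕ), IsIrrCharacter N θ ∧ (fun x : N => χ x) = (e : ℂ) • θ)
    (c : Ctx p G χ n) (N : Subgroup G) [hN : N.Normal]
    (hab : ∀ a ∈ N, ∀ b ∈ N, a * b = b * a) : N ≤ Subgroup.center G := by
  have hp : p.Prime := Fact.out
  obtain ⟨θ, e, hθ, hχθ⟩ := f2 N
  have hcomm : ∀ a b : N, a * b = b * a := fun a b => Subtype.ext (hab a a.2 b b.2)
  have hθ1 : θ 1 = 1 := Cfsg.Agent.Lib.L0.irr_apply_one_of_comm hcomm hθ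
  have hθc : IsCharacter N θ := Cfsg.Agent.Lib.L0.isCharacter_of_irr hθ
  have hval : ∀ x : N, χ (x : G) = (e : ℂ) * θ x := fun x => by
    have := congrFun hχθ x
    simpa using this
  have hn0 : n ≠ 0 := by
    rintro rfl
    exact c.bad (good_of_prime_dvd hp (dvd_zero p))
  have he : (e : ℂ) = (n : ℂ) := by
    have h1 := hval 1
    rw [Subgroup.coe_one, c.deg, hθ1, mul_one] at h1
    exact h1.symm
  have he0 : (e : ℂ) ≠ 0 := by
    rw [he]
    exact_mod_cast hn0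
  have hclass : IsClassFunction G χ :=
    Cfsg.Agent.Lib.L0.isClassFunction_of_isCharacter (Cfsg.Agent.Lib.L0.isCharacter_of_irr c.irr)
  intro x hx
  rw [Subgroup.mem_center_iff]
  intro g
  -- `y = g x g⁻¹ ∈ N`
  have hy : g * x * g⁻¹ ∈ N := hN.conj_mem x hx g
  have hθy : θ ⟨g * x * g⁻¹, hy⟩ = θ ⟨x, hx⟩ := by
    have h1 := hval ⟨g * x * g⁻¹, hy⟩
    have h2 := hval ⟨x, hx⟩
    have h3 : χ (g * x * g⁻¹) = χ x := hclass x g
    simp only [] at h1 h2
    rw [h3, h2] at h1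
    exact (mul_left_cancel₀ he0 h1).symm
  -- `θ (x⁻¹ * y) = 1`
  have hmul : θ (⟨x, hx⟩⁻¹ * ⟨g * x * g⁻¹, hy⟩) = 1 := by
    rw [Cfsg.Agent.Lib.L0.linear_char_mul hθc hθ1, hθy, ← Cfsg.Agent.Lib.L0.linear_char_mul hθc hθ1,
      inv_mul_cancel, hθ1]
  have hχ1 : χ (x⁻¹ * (g * x * g⁻¹)) = χ 1 := by
    have h1 := hval (⟨x, hx⟩⁻¹ * ⟨g * x * g⁻¹, hy⟩)
    rw [hmul, mul_one] at h1
    rw [c.deg, ← he, ← h1]
    rfl
  have h2 := c.faith _ hχ1
  -- `x⁻¹ g x g⁻¹ = 1`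
  have h3 : g * x * g⁻¹ = x := by
    have := congrArg (fun t => x * t) h2
    simpa [mul_assoc] using this
  calc g * x = g * x * g⁻¹ * g := by group
    _ = x * g := by rw [h3]

end Cfsg.Agent.Lib.H18.DX
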