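/-
S4467 (architect helper15), piece F3 (twin by helper18): in a minimal counterexample every abelian normal subgroup is central.
Exact signature of `tools/blueprints/S4467_sigs.lean`; the proof is `DXF3a` fed with F2 (`DXF2`).
-/
import Cfsg.Agent.Lib.H18.DXF3a
import Cfsg.Agent.Lib.H18.DXF2

set_option autoImplicit false
set_option linter.unusedVariables false

namespace Cfsg.Agent.Lib.H18.DX

open Cfsg Cfsg.Agent.Lib.H15.DX

universe u

variable {p : ℕ} [Fact p.Prime] {G : Type u} [Group G] [Finite G] {χ : G → ℂ} {n : ℕ}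

/-- **S4467, piece F3** -/
theorem le_center_of_abelian_normal (c : Ctx p G χ n) (N : Subgroup G) [N.Normal]
    (hab : ∀ a ∈ N, ∀ b ∈ N, a * b = b * a) : N ≤ Subgroup.center G :=
  le_center_of_abelian_normal_aux (fun N _ => restrict_eq_smul c N) c N hab

end Cfsg.Agent.Lib.H18.DX
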