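import Mathlib

set_option autoImplicit false

/-!
Helper library (helper18): an elementary fixed-point lemma for a "Frobenius-like" group
`Q ⋊ ⟨x⟩` acting on a commutative group `V`.
-/

namespace Cfsg.Agent.Lib.H18

open Finset

section
variable {F V : Type*} [Group F] [CommGroup V] (φ : F →* MulAut V)

/-- The "norm" of `w` under a finite subgroup `Q`. -/
noncomputable def normQ (Q : Subgroup F) [Fintype Q] (w : V) : V := ∏ b : Q, φ (b : F) w

theorem normQ_fixed (Q : Subgroup F) [Fintype Q] (w : V) (a : F) (ha : a ∈ Q) :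
    φ a (normQ φ Q w) = normQ φ Q w := by
  unfold normQ
  rw [map_prod]
  have : ∀ b : Q, φ a (φ (b : F) w) = φ (((⟨a, ha⟩ : Q) * b : Q) : F) w := by
    intro b
    simp [map_mul]
  simp_rw [this]
  exact Fintype.prod_equiv (Equiv.mulLeft (⟨a, ha⟩ : Q)) _ _ (fun b => rfl)

/-- The "norm" of `w` under the powers of `x`. -/
noncomputable def normX (x : F) (r : ℕ) (w : V) : V := ∏ i ∈ range r, φ (x ^ i) w

theorem normX_fixed (x : F) (r : ℕ) (hx : x ^ r = 1) (w : V) :
    φ x (normX φ x r w) = normX φ x r w := by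
  unfold normX
  rw [map_prod]
  have : ∀ i ∈ range r, φ x (φ (x ^ i) w) = φ (x ^ (i + 1)) w := by
    intro i _
    rw [pow_succ', map_mul]; rfl
  rw [prod_congr rfl this]
  rcases Nat.eq_zero_or_pos r with h0 | hpos
  · subst h0; simp
  · obtain ⟨n, rfl⟩ : ∃ n, r = n + 1 := ⟨r - 1, by omega⟩
    rw [prod_range_succ, prod_range_succ' (fun i => φ (x ^ i) w)]
    rw [hx, pow_zero]

/-- Main lemma: if `x` (with `x ^ r = 1`) normalizes the finite subgroup `Q`, every nontrivial
power `x ^ i` (`0 < i < r`) centralizes no nonidentity element of `Q`, and neither `Q` nor `x`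
fixes a nonidentity element of `V`, then `V` has exponent dividing `|Q|`. -/
theorem frob_action_lemma (Q : Subgroup F) [Finite Q] (x : F) (r : ℕ) (hr : 0 < r)
    (hx : x ^ r = 1)
    (hxQ : ∀ b ∈ Q, x * b * x⁻¹ ∈ Q)
    (hfpf : ∀ i, 0 < i → i < r → ∀ b ∈ Q, x ^ i * b = b * x ^ i → b = 1)
    (hCVQ : ∀ v : V, (∀ b ∈ Q, φ b v = v) → v = 1)
    (hCVx : ∀ v : V, φ x v = v → v = 1) (v : V) : v ^ Nat.card Q = 1 := by
  classical
  have := Fintype.ofFinite Q
  have hNQ : ∀ w : V, normQ φ Q w = 1 := fun w => hCVQ _ (fun b hb => normQ_fixed φ Q w b hb)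
  have hNX : ∀ w : V, normX φ x r w = 1 := fun w => hCVx _ (normX_fixed φ x r hx w)
  -- powers of x normalize Q
  have hxiQ : ∀ i : ℕ, ∀ b ∈ Q, x ^ i * b * (x ^ i)⁻¹ ∈ Q := by
    intro i
    induction i with
    | zero => intro b hb; simpa using hb
    | succ n ih =>
      intro b hb
      have h1 := hxQ _ (ih b hb)
      have : x ^ (n + 1) * b * (x ^ (n + 1))⁻¹ = x * (x ^ n * b * (x ^ n)⁻¹) * x⁻¹ := by
        rw [pow_succ']; group
      rw [this]; exact h1
  -- the double product
  have hS1 : ∏ b : Q, ∏ i ∈ range r, φ ((b : F) * x ^ i * (b : F)⁻¹) v = 1 := by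
    have : ∀ b : Q, ∏ i ∈ range r, φ ((b : F) * x ^ i * (b : F)⁻¹) v
        = φ (b : F) (normX φ x r (φ ((b : F)⁻¹) v)) := by
      intro b
      unfold normX
      rw [map_prod]
      apply prod_congr rfl
      intro i _
      simp [map_mul]
    simp_rw [this, hNX]
    simp
  rw [prod_comm] at hS1
  -- evaluate the inner products
  have hinner : ∀ i ∈ range r, ∏ b : Q, φ ((b : F) * x ^ i * (b : F)⁻¹) v
      = if i = 0 then v ^ Nat.card Q else 1 := by
    intro i hi
    rw [mem_range] at hi
    by_cases h0 : i = 0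
    · subst h0
      simp [Nat.card_eq_fintype_card]
    · rw [if_neg h0]
      have hipos : 0 < i := Nat.pos_of_ne_zero h0
      -- the map b ↦ b * (x^i * b⁻¹ * (x^i)⁻¹)
      let f : Q → Q := fun b => ⟨(b : F) * (x ^ i * (b : F)⁻¹ * (x ^ i)⁻¹),
        Q.mul_mem b.2 (hxiQ i _ (Q.inv_mem b.2))⟩
      have hinj : Function.Injective f := by
        intro b c hbc
        have h1 : (b : F) * (x ^ i * (b : F)⁻¹ * (x ^ i)⁻¹)
            = (c : F) * (x ^ i * (c : F)⁻¹ * (x ^ i)⁻¹) := congrArg Subtype.val hbc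
        have h2 : x ^ i * ((c : F)⁻¹ * (b : F)) = ((c : F)⁻¹ * (b : F)) * x ^ i := by
          have h3 : (c : F)⁻¹ * (b : F) * x ^ i * (b : F)⁻¹ = x ^ i * (c : F)⁻¹ := by
            have := congrArg (fun t => (c : F)⁻¹ * t * x ^ i) h1
            simp only [mul_assoc, inv_mul_cancel_left, inv_mul_cancel, mul_one] at this
            simpa [mul_assoc] using this
          calc x ^ i * ((c : F)⁻¹ * (b : F)) = (x ^ i * (c : F)⁻¹) * (b : F) := by group
            _ = ((c : F)⁻¹ * (b : F) * x ^ i * (b : F)⁻¹) * (b : F) := by rw [h3]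
            _ = ((c : F)⁻¹ * (b : F)) * x ^ i := by group
        have h4 := hfpf i hipos hi _ (Q.mul_mem (Q.inv_mem c.2) b.2) h2
        apply Subtype.ext
        have : (b : F) = (c : F) * ((c : F)⁻¹ * (b : F)) := by group
        rw [this, h4, mul_one]
      have hbij : Function.Bijective f := Finite.injective_iff_bijective.mp hinj
      have hterm : ∀ b : Q, φ ((b : F) * x ^ i * (b : F)⁻¹) v
          = φ ((f b : Q) : F) (φ (x ^ i) v) := by
        intro b
        rw [← MulAut.mul_apply, ← map_mul]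
        congr 2
        simp only [f]
        group
      simp_rw [hterm]
      have := Fintype.prod_bijective f hbij (fun b => φ ((f b : Q) : F) (φ (x ^ i) v))
        (fun c => φ (c : F) (φ (x ^ i) v)) (fun b => rfl)
      rw [this]
      exact hNQ _
  rw [prod_congr rfl hinner] at hS1
  rw [prod_ite_eq'] at hS1
  simpa [mem_range, hr] using hS1

end

end Cfsg.Agent.Lib.H18
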