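import Mathlib
import Cfsg.Prelude.Def_Characters
import Cfsg.Prelude.Def_Solvable
import Cfsg.Agent.Lib.L0.CharInd
import Cfsg.Agent.Lib.L0.CharIndChar
import Cfsg.Agent.Lib.L0.CharInner
import Cfsg.Agent.Lib.L0.CharOps
import Cfsg.Agent.Lib.H24.CharKer
import Cfsg.Agent.Lib.H24.CharSchur
import Cfsg.Agent.Lib.H24.CharBasic
import Cfsg.Agent.Lib.H24.CharAbelian
import Cfsg.Agent.Lib.H8.GenChar
import Cfsg.Agent.Lib.H1.Frobenius

/-!
# Frobenius' theorem (helper18)

If `H` is a Frobenius complement in the finite group `G` (i.e. `H ≠ ⊥`, `H ≠ ⊤` and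
`H ⊓ gHg⁻¹ = ⊥` for `g ∉ H`), then `Cfsg.frobeniusKernel H` is (the carrier of) a normal subgroup
complementing `H`.  The proof is the classical one through induced characters.

Main results:
* `frobenius_theorem` : `∃ N, (N : Set G) = frobeniusKernel H ∧ N.Normal ∧ IsComplement' N H`
* `frobKer H hH : Subgroup G` with `coe_frobKer`, `frobKer_normal`, `frobKer_isComplement'`,
  `mem_frobKer`, `frobKer_inf`, `card_frobKer`.
-/

set_option autoImplicit false

namespace Cfsg.Agent.Lib.H18

open scoped ComplexConjugate Pointwise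
open Cfsg

section Induction

variable {G : Type*} [Group G] [Fintype G]

/-- Induction from a Frobenius complement of a class function vanishing at `1`: values on `H`. -/
theorem indFun_frob_apply_mem {H : Subgroup G} (hH : IsFrobeniusComplement H) (θ : H → ℂ)
    (hθ : IsClassFunction H θ) (hθ1 : θ 1 = 0) (h : H) : indFun H θ (h : G) = θ h := by
  classical
  by_cases h1 : h = 1
  · rw [h1, Subgroup.coe_one, Cfsg.Agent.Lib.H24.indFun_one, hθ1, mul_zero]
  rw [Cfsg.Agent.Lib.L0.indFun_apply]
  have hne : (h : G) ≠ 1 := fun hh => h1 (Subtype.ext hh)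
  have key : ∀ x : G, extendByZero H θ (x⁻¹ * (h : G) * x) = if x ∈ H then θ h else 0 := by
    intro x
    split_ifs with hx
    · have hmem : x⁻¹ * (h : G) * x ∈ H := H.mul_mem (H.mul_mem (H.inv_mem hx) h.2) hx
      rw [Cfsg.Agent.Lib.L0.extendByZero_apply_of_mem _ _ hmem]
      have := hθ h (⟨x, hx⟩⁻¹ : H)
      rw [← this]
      congr 1
      apply Subtype.ext
      simp
    · have hnot : x⁻¹ * (h : G) * x ∉ H := fun hmem =>
        hx (Cfsg.Agent.Lib.H1.frob_mem_of_conj_mem' hH h.2 hne hmem)
      rw [Cfsg.Agent.Lib.L0.extendByZero_apply_not_mem _ _ hnot]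
  rw [Finset.sum_congr rfl fun x _ => key x, Finset.sum_ite, Finset.sum_const_zero, add_zero,
    Finset.sum_const, nsmul_eq_mul]
  have hcard : (Finset.univ.filter fun x : G => x ∈ H).card = Nat.card H := by
    rw [Nat.card_eq_fintype_card, Fintype.card_subtype]
  rw [hcard]
  have hN : (Nat.card H : ℂ) ≠ 0 := by
    exact_mod_cast (Nat.card_pos (α := H)).ne'
  field_simp

/-- Induction from a Frobenius complement of a function vanishing at `1`: it vanishes on the
Frobenius kernel. -/
theorem indFun_frob_apply_kernel {H : Subgroup G} (θ : H → ℂ) (hθ1 : θ 1 = 0) {x : G}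
    (hx : x ∈ frobeniusKernel H) : indFun H θ x = 0 := by
  rcases hx with rfl | hx
  · rw [Cfsg.Agent.Lib.H24.indFun_one, hθ1, mul_zero]
  · rw [Cfsg.Agent.Lib.L0.indFun_apply]
    have key : ∀ y : G, extendByZero H θ (y⁻¹ * x * y) = 0 := by
      intro y
      apply Cfsg.Agent.Lib.L0.extendByZero_apply_not_mem
      intro hmem
      exact hx y (Cfsg.Agent.Lib.H1.mem_conj_smul_iff.mpr hmem)
    rw [Finset.sum_congr rfl fun y _ => key y, Finset.sum_const_zero, mul_zero]

end Induction

section Extension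

variable {G : Type*} [Group G] [Fintype G] {H : Subgroup G} [Fintype H]

/-- The class function `ψ(1) - ψ` on `H`. -/
noncomputable def frobTheta (ψ : H → ℂ) : H → ℂ := fun h => ψ 1 - ψ h

/-- The extension `ψ(1)·1_G - Ind_H^G (ψ(1)·1_H - ψ)` of `ψ` to `G`. -/
noncomputable def frobExt (ψ : H → ℂ) : G → ℂ := fun g => ψ 1 - indFun H (frobTheta ψ) g

theorem frobTheta_one (ψ : H → ℂ) : frobTheta ψ 1 = 0 := by simp [frobTheta]

theorem frobTheta_isClassFunction {ψ : H → ℂ} (hψ : IsClassFunction H ψ) :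
    IsClassFunction H (frobTheta ψ) := by
  intro g h
  simp only [frobTheta]
  rw [hψ g h]

theorem frobTheta_eq (ψ : H → ℂ) :
    frobTheta ψ = (ψ 1) • (fun _ : H => (1 : ℂ)) + (-1 : ℂ) • ψ := by
  funext h
  simp [frobTheta, sub_eq_add_neg]

theorem frobExt_apply_mem (hH : IsFrobeniusComplement H) {ψ : H → ℂ} (hψ : IsClassFunction H ψ)
    (h : H) : frobExt (G := G) ψ (h : G) = ψ h := by
  simp only [frobExt]
  rw [indFun_frob_apply_mem hH _ (frobTheta_isClassFunction hψ) (frobTheta_one ψ)]
  simp [frobTheta]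

theorem frobExt_apply_kernel (ψ : H → ℂ) {x : G} (hx : x ∈ frobeniusKernel H) :
    frobExt (G := G) ψ x = ψ 1 := by
  simp only [frobExt]
  rw [indFun_frob_apply_kernel _ (frobTheta_one ψ) hx, sub_zero]

theorem frobExt_one (ψ : H → ℂ) : frobExt (G := G) ψ 1 = ψ 1 :=
  frobExt_apply_kernel ψ (Or.inl rfl)

theorem frobExt_eq (ψ : H → ℂ) :
    frobExt (G := G) ψ = (ψ 1) • (fun _ : G => (1 : ℂ)) - indFun H (frobTheta ψ) := by
  funext g
  simp [frobExt]

end Extension

section Irreducible

open Cfsg.Agent.Lib.L0 Cfsg.Agent.Lib.H24 Cfsg.Agent.Lib.H8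

variable {G : Type*} [Group G] [Fintype G] {H : Subgroup G} [Fintype H]

theorem frobExt_isGeneralizedCharacter (ψ : IrrCharacter H) :
    IsGeneralizedCharacter G (frobExt (G := G) (ψ : H → ℂ)) := by
  obtain ⟨n, -, hn⟩ := irr_one_eq ψ
  have h1G : IsCharacter G (fun _ : G => (1 : ℂ)) :=
    isCharacter_of_irr Cfsg.Agent.Lib.H24.isIrrCharacter_one
  have h1H : IsCharacter H (fun _ : H => (1 : ℂ)) :=
    isCharacter_of_irr Cfsg.Agent.Lib.H24.isIrrCharacter_one
  have hψ : IsCharacter H (ψ : H → ℂ) := isCharacter_of_irr ψ.2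
  have e : frobExt (G := G) (ψ : H → ℂ) =
      (((n : ℂ) • (fun _ : G => (1 : ℂ))) + indFun H (ψ : H → ℂ)) -
        (n : ℂ) • indFun H (fun _ : H => (1 : ℂ)) := by
    rw [frobExt_eq, frobTheta_eq, indFun_add, indFun_smul, indFun_smul, hn]
    funext g
    simp only [Pi.sub_apply, Pi.add_apply, Pi.smul_apply, smul_eq_mul, mul_one]
    ring
  have cast_smul : ∀ {K : Type _} (f : K → ℂ), ((n : ℂ) • f) = n • f := by
    intro K f
    funext g
    simp
  rw [e, cast_smul, cast_smul]
  exact isGeneralizedCharacter_sub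
    (isGeneralizedCharacter_of_isCharacter
      (isCharacter_add (isCharacter_nsmul h1G n) (isCharacter_indFun H hψ)))
    (isGeneralizedCharacter_of_isCharacter (isCharacter_nsmul (isCharacter_indFun H h1H) n))

theorem classInner_one_one (K : Type*) [Group K] [Fintype K] :
    classInner (fun _ : K => (1 : ℂ)) (fun _ : K => (1 : ℂ)) = 1 := by
  have := irr_orthonormal (trivialIrr K) (trivialIrr K)
  rw [if_pos rfl] at this
  exact this

theorem frobExt_norm (hH : IsFrobeniusComplement H) (ψ : IrrCharacter H) :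
    classInner (frobExt (G := G) (ψ : H → ℂ)) (frobExt (G := G) (ψ : H → ℂ)) = 1 := by
  obtain ⟨n, -, hn⟩ := irr_one_eq ψ
  set c : ℂ := (ψ : H → ℂ) 1 with hc
  have hcc : conj c = c := by rw [hn, Complex.conj_natCast]
  have hψcf : IsClassFunction H (ψ : H → ℂ) := isClassFunction_of_isCharacter (isCharacter_of_irr ψ.2)
  set θ : H → ℂ := frobTheta (ψ : H → ℂ) with hθ
  set Θ : G → ℂ := indFun H θ with hΘ
  set δ : ℂ := classInner (ψ : H → ℂ) (fun _ : H => (1 : ℂ)) with hδ
  have hδ' : classInner (fun _ : H => (1 : ℂ)) (ψ : H → ℂ) = δ := by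
    have h1 := irr_orthonormal ψ (trivialIrr H)
    have h2 := irr_orthonormal (trivialIrr H) ψ
    have e1 : classInner (ψ : H → ℂ) (fun _ : H => (1 : ℂ)) = if ψ = trivialIrr H then 1 else 0 := h1
    have e2 : classInner (fun _ : H => (1 : ℂ)) (ψ : H → ℂ) = if trivialIrr H = ψ then 1 else 0 := h2
    rw [hδ, e1, e2]
    by_cases hh : ψ = trivialIrr H
    · rw [if_pos hh, if_pos hh.symm]
    · rw [if_neg hh, if_neg (fun h => hh h.symm)]
  have hψψ : classInner (ψ : H → ℂ) (ψ : H → ℂ) = 1 := by
    have := irr_orthonormal ψ ψ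
    simpa using this
  have h11H := classInner_one_one H
  have h11G := classInner_one_one G
  -- θ = c • 1 + (-1) • ψ
  have hθeq : θ = c • (fun _ : H => (1 : ℂ)) + (-1 : ℂ) • (ψ : H → ℂ) := frobTheta_eq _
  -- ⟨θ, 1_H⟩
  have hθ1 : classInner θ (fun _ : H => (1 : ℂ)) = c - δ := by
    rw [hθeq, classInner_add_left, classInner_smul_left, classInner_smul_left, h11H]
    ring
  -- ⟨θ, θ⟩
  have hθθ : classInner θ θ = c * c - 2 * c * δ + 1 := by
    have e1 : classInner θ θ = c * classInner (fun _ : H => (1 : ℂ)) θ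
        + (-1) * classInner (ψ : H → ℂ) θ := by
      conv_lhs => rw [hθeq]
      rw [classInner_add_left, classInner_smul_left, classInner_smul_left, ← hθeq]
    have e2 : classInner (fun _ : H => (1 : ℂ)) θ = c - δ := by
      rw [hθeq, classInner_add_right, classInner_smul_right, classInner_smul_right, h11H, hδ',
        hcc]
      simp
      ring
    have e3 : classInner (ψ : H → ℂ) θ = c * δ - 1 := by
      rw [hθeq, classInner_add_right, classInner_smul_right, classInner_smul_right, hψψ, hcc]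
      simp
      ring
    rw [e1, e2, e3]
    ring
  -- restriction of Θ to H is θ
  have hΘres : (fun h : H => Θ h) = θ := by
    funext h
    exact indFun_frob_apply_mem hH θ (frobTheta_isClassFunction hψcf) (frobTheta_one _) h
  have h1cf : IsClassFunction G (fun _ : G => (1 : ℂ)) := fun _ _ => rfl
  have hΘ1 : classInner Θ (fun _ : G => (1 : ℂ)) = c - δ := by
    rw [hΘ, frobenius_reciprocity H θ _ h1cf]
    exact hθ1
  have h1Θ : classInner (fun _ : G => (1 : ℂ)) Θ = c - δ := by
    rw [← classInner_conj_symm, hΘ1, map_sub, hcc]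
    congr 1
    rw [hδ, classInner_conj_symm, hδ']
  have hΘΘ : classInner Θ Θ = c * c - 2 * c * δ + 1 := by
    rw [hΘ, frobenius_reciprocity H θ _ (indFun_isClassFunction H θ)]
    rw [← hΘ, hΘres]
    exact hθθ
  have hext : frobExt (G := G) (ψ : H → ℂ) = c • (fun _ : G => (1 : ℂ)) - Θ := frobExt_eq _
  rw [hext, classInner_sub_left, classInner_sub_right, classInner_sub_right,
    classInner_smul_left, classInner_smul_left, classInner_smul_right, classInner_smul_right,
    h11G, hΘ1, h1Θ, hΘΘ, hcc]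
  ring

theorem frobExt_isIrrCharacter (hH : IsFrobeniusComplement H) (ψ : IrrCharacter H) :
    IsIrrCharacter G (frobExt (G := G) (ψ : H → ℂ)) := by
  rcases genChar_norm_one (frobExt_isGeneralizedCharacter ψ) (frobExt_norm hH ψ) with h | h
  · exact h
  · exfalso
    obtain ⟨n, hn0, hn⟩ := irr_one_eq ψ
    obtain ⟨m, hm0, hm⟩ := irr_one_eq ⟨_, h⟩
    simp only [Pi.neg_apply] at hm
    rw [frobExt_one, hn] at hm
    have : ((n + m : ℕ) : ℂ) = 0 := by
      push_cast
      rw [← hm]
      ring
    have h0 : n + m = 0 := by exact_mod_cast this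
    omega

end Irreducible

section Kernel

open Cfsg.Agent.Lib.L0 Cfsg.Agent.Lib.H24 Cfsg.Agent.Lib.H8 Cfsg.Agent.Lib.H1

variable {G : Type*} [Group G] [Finite G]

/-- An element on which every irreducible character takes the same value as at `1` is trivial. -/
theorem eq_one_of_forall_irr_eq {K : Type*} [Group K] [Finite K] (h : K)
    (hh : ∀ ψ : IrrCharacter K, (ψ : K → ℂ) h = (ψ : K → ℂ) 1) : h = 1 := by
  classical
  have : Fintype K := Fintype.ofFinite K
  have : Fintype (IrrCharacter K) := Fintype.ofFinite _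
  by_contra hne
  have h1 := sum_irr_one_mul (G := K) h
  have h2 := sum_irr_one_mul (G := K) 1
  rw [if_neg hne] at h1
  rw [if_pos rfl] at h2
  have h3 : ∑ χ : IrrCharacter K, (χ : K → ℂ) 1 * (χ : K → ℂ) h =
      ∑ χ : IrrCharacter K, (χ : K → ℂ) 1 * (χ : K → ℂ) 1 :=
    Finset.sum_congr rfl fun χ _ => by rw [hh χ]
  rw [h1, h2] at h3
  have : (Nat.card K : ℂ) ≠ 0 := by exact_mod_cast (Nat.card_pos (α := K)).ne'
  exact this h3.symm

/-- **Frobenius' theorem**: the Frobenius kernel is a normal subgroup complementing `H`. -/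
theorem frobenius_theorem (H : Subgroup G) (hH : IsFrobeniusComplement H) :
    ∃ N : Subgroup G, (N : Set G) = frobeniusKernel H ∧ N.Normal ∧ Subgroup.IsComplement' N H := by
  classical
  have : Fintype G := Fintype.ofFinite G
  have : Fintype H := Fintype.ofFinite H
  have hirr : ∀ ψ : IrrCharacter H, IsIrrCharacter G (frobExt (G := G) (ψ : H → ℂ)) :=
    fun ψ => frobExt_isIrrCharacter hH ψ
  let N : Subgroup G := ⨅ ψ : IrrCharacter H,
    charKer (frobExt (G := G) (ψ : H → ℂ)) (isCharacter_of_irr (hirr ψ))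
  have hNn : N.Normal := Subgroup.normal_iInf_normal fun ψ => inferInstance
  have hmemN : ∀ x : G, x ∈ N ↔ ∀ ψ : IrrCharacter H,
      frobExt (G := G) (ψ : H → ℂ) x = (ψ : H → ℂ) 1 := by
    intro x
    simp only [N, Subgroup.mem_iInf, mem_charKer, frobExt_one]
  have hKN : frobeniusKernel H ⊆ (N : Set G) := by
    intro x hx
    exact (hmemN x).mpr fun ψ => frobExt_apply_kernel _ hx
  have hNH : ∀ x : G, x ∈ N → x ∈ H → x = 1 := by
    intro x hxN hxH
    have h1 : (⟨x, hxH⟩ : H) = 1 := by
      apply eq_one_of_forall_irr_eq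
      intro ψ
      have := (hmemN x).mp hxN ψ
      rw [← this]
      exact (frobExt_apply_mem hH
        (isClassFunction_of_isCharacter (isCharacter_of_irr ψ.2)) ⟨x, hxH⟩).symm
    exact congrArg Subtype.val h1
  have hNK : (N : Set G) ⊆ frobeniusKernel H := by
    intro x hx
    by_contra hnot
    obtain ⟨hx1, g, hg⟩ := not_mem_frobeniusKernel_iff.mp hnot
    rw [mem_conj_smul_iff] at hg
    have hgN : g⁻¹ * x * g ∈ N := by
      have := hNn.conj_mem x hx g⁻¹
      simpa using this
    have h1 := hNH _ hgN hg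
    apply hx1
    have : x = g * (g⁻¹ * x * g) * g⁻¹ := by group
    rw [this, h1]
    group
  have hNeq : (N : Set G) = frobeniusKernel H := Set.Subset.antisymm hNK hKN
  refine ⟨N, hNeq, hNn, ?_⟩
  apply Subgroup.isComplement'_of_card_mul_and_disjoint
  · have hc : Nat.card N = H.index := by
      rw [← frob_card_kernel hH, ← hNeq]
      rfl
    rw [hc, mul_comm]
    exact H.card_mul_index
  · rw [disjoint_iff, eq_bot_iff]
    intro x hx
    rw [Subgroup.mem_bot]
    exact hNH x hx.1 hx.2

/-- The Frobenius kernel as a subgroup. -/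
noncomputable def frobKer (H : Subgroup G) (hH : IsFrobeniusComplement H) : Subgroup G :=
  (frobenius_theorem H hH).choose

theorem coe_frobKer (H : Subgroup G) (hH : IsFrobeniusComplement H) :
    (frobKer H hH : Set G) = frobeniusKernel H :=
  (frobenius_theorem H hH).choose_spec.1

theorem mem_frobKer {H : Subgroup G} (hH : IsFrobeniusComplement H) {x : G} :
    x ∈ frobKer H hH ↔ x ∈ frobeniusKernel H := by
  rw [← coe_frobKer H hH]
  rfl

instance frobKer_normal (H : Subgroup G) (hH : IsFrobeniusComplement H) :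
    (frobKer H hH).Normal :=
  (frobenius_theorem H hH).choose_spec.2.1

theorem frobKer_isComplement' (H : Subgroup G) (hH : IsFrobeniusComplement H) :
    Subgroup.IsComplement' (frobKer H hH) H :=
  (frobenius_theorem H hH).choose_spec.2.2

theorem frobKer_inf (H : Subgroup G) (hH : IsFrobeniusComplement H) :
    frobKer H hH ⊓ H = ⊥ :=
  (frobKer_isComplement' H hH).disjoint.eq_bot

theorem frobKer_sup (H : Subgroup G) (hH : IsFrobeniusComplement H) :
    frobKer H hH ⊔ H = ⊤ :=
  (frobKer_isComplement' H hH).sup_eq_top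

theorem card_frobKer (H : Subgroup G) (hH : IsFrobeniusComplement H) :
    Nat.card (frobKer H hH) = H.index :=
  ((frobKer_isComplement' H hH).index_eq_card).symm

end Kernel

end Cfsg.Agent.Lib.H18
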