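import Mathlib
import Cfsg.Agent.Lib.H1.CoprimeSylow

/-!
# Coprime action with an abstract `MulDistribMulAction`

* `exists_invariant_sylow` : an `A`-invariant Sylow `p`-subgroup for a coprime action of `A` on `G`
  (via the semidirect product and Glauberman's lemma).
* `exists_complement_of_exponent` : in a finite abelian group of prime exponent every subgroup has a
  complement.
-/

set_option autoImplicit false
set_option linter.style.haveILetI false

namespace Cfsg.Agent.Lib.H18

open Cfsg.Agent.Lib.H1

section InvSylow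

variable {A G : Type*} [Group A] [Finite A] [Group G] [Finite G] [MulDistribMulAction A G]

open SemidirectProduct in
/-- An `A`-invariant Sylow `p`-subgroup for a coprime action. -/
theorem exists_invariant_sylow (hcop : (Nat.card A).Coprime (Nat.card G))
    (hsol : Group.IsSolvable A ∨ Group.IsSolvable G) (p : ℕ) [Fact p.Prime] :
    ∃ P : Subgroup G, (∀ a : A, ∀ x ∈ P, a • x ∈ P) ∧
      Nat.card P = p ^ (Nat.card G).factorization p := by
  set φ : A →* MulAut G := MulDistribMulAction.toMulAut A G with hφ
  haveI : Finite (G ⋊[φ] A) := Finite.of_equiv _ (SemidirectProduct.equivProd (φ := φ)).symm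
  set N : Subgroup (G ⋊[φ] A) := (inl : G →* G ⋊[φ] A).range with hN
  set B : Subgroup (G ⋊[φ] A) := (inr : A →* G ⋊[φ] A).range with hB
  haveI hNn : N.Normal := by
    rw [hN, range_inl_eq_ker_rightHom]; infer_instance
  have hcN : Nat.card N = Nat.card G :=
    (Nat.card_congr (MonoidHom.ofInjective (inl_injective (φ := φ))).toEquiv).symm
  have hcB : Nat.card B = Nat.card A :=
    (Nat.card_congr (MonoidHom.ofInjective (inr_injective (φ := φ))).toEquiv).symm
  have hact : CoprimeAction B N := by
    refine ⟨?_, ?_, ?_⟩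
    · rw [Subgroup.normalizer_eq_top_iff.2 hNn]; exact le_top
    · rw [hcN, hcB]; exact hcop
    · rcases hsol with h | h
      · left
        haveI := h
        exact Group.isSolvable_of_surjective (f := (inr : A →* G ⋊[φ] A).rangeRestrict)
          (MonoidHom.rangeRestrict_surjective _)
      · right
        haveI := h
        exact Group.isSolvable_of_surjective (f := (inl : G →* G ⋊[φ] A).rangeRestrict)
          (MonoidHom.rangeRestrict_surjective _)
  obtain ⟨P, hP, hBP⟩ := coprime_exists_invariant_sylow hact p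
  refine ⟨P.comap (inl : G →* G ⋊[φ] A), ?_, ?_⟩
  · intro a x hx
    rw [Subgroup.mem_comap] at hx ⊢
    have h1 : (inl (a • x) : G ⋊[φ] A) = inr a * inl x * inr a⁻¹ := by
      rw [← inl_aut]; rfl
    rw [h1, map_inv]
    have ha : (inr a : G ⋊[φ] A) ∈ Subgroup.normalizer (P : Set (G ⋊[φ] A)) := hBP ⟨a, rfl⟩
    exact (Subgroup.mem_normalizer_iff.1 ha _).1 hx
  · have h1 : (P.comap (inl : G →* G ⋊[φ] A)).map (inl : G →* G ⋊[φ] A) = P :=
      Subgroup.map_comap_eq_self hP.le
    rw [← Subgroup.card_map_of_injective (inl_injective (φ := φ)), h1, hP.card_eq, hcN]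

end InvSylow

section Complement

variable {V : Type*} [CommGroup V] [Finite V]

/-- In a finite abelian group of prime exponent every subgroup has a complement. -/
theorem exists_complement_of_exponent {p : ℕ} [hp : Fact p.Prime] (hV : ∀ v : V, v ^ p = 1)
    (U : Subgroup V) : ∃ W : Subgroup V, U ⊓ W = ⊥ ∧ U ⊔ W = ⊤ := by
  obtain ⟨W, -, hW⟩ := Finite.exists_le_maximal (p := fun W : Subgroup V => U ⊓ W = ⊥)
    (a := ⊥) (inf_bot_eq _)
  refine ⟨W, hW.1, ?_⟩
  by_contra hne
  obtain ⟨v, hv⟩ : ∃ v : V, v ∉ U ⊔ W := by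
    by_contra h
    push Not at h
    exact hne (eq_top_iff.2 fun x _ => h x)
  have hlt : W < W ⊔ Subgroup.zpowers v := by
    refine lt_of_le_of_ne le_sup_left (fun h => hv ?_)
    have : v ∈ W := by rw [h]; exact Subgroup.mem_sup_right (Subgroup.mem_zpowers v)
    exact Subgroup.mem_sup_right this
  have hdisj : U ⊓ (W ⊔ Subgroup.zpowers v) = ⊥ := by
    rw [eq_bot_iff]
    rintro x ⟨hxU, hxW⟩
    obtain ⟨w, hw, z, hz, rfl⟩ := Subgroup.mem_sup.1 hxW
    obtain ⟨k, rfl⟩ := Subgroup.mem_zpowers_iff.1 hz
    -- if v^k ≠ 1 then v ∈ U ⊔ W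
    by_cases hk : v ^ k = 1
    · rw [hk, mul_one] at hxU ⊢
      have : w ∈ U ⊓ W := ⟨hxU, hw⟩
      rw [hW.1] at this
      exact this
    · exfalso
      apply hv
      -- order of v is p, so v ∈ zpowers (v^k)
      have hvo : orderOf v = p := by
        have h1 : orderOf v ∣ p := orderOf_dvd_of_pow_eq_one (hV v)
        rcases (Nat.dvd_prime hp.out).1 h1 with h | h
        · rw [orderOf_eq_one_iff] at h
          exact absurd (by rw [h, one_zpow]) hk
        · exact h
      have hcop : Int.gcd k p = 1 := by
        by_contra hg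
        have hpk : (p : ℤ) ∣ k := by
          have h1 : (Int.gcd k p : ℤ) ∣ p := Int.gcd_dvd_right k p
          have h2 : Int.gcd k p ∣ p := Int.natCast_dvd_natCast.1 h1
          rcases (Nat.dvd_prime hp.out).1 h2 with h | h
          · exact absurd h hg
          · rw [← h]; exact Int.gcd_dvd_left k p
        apply hk
        obtain ⟨c, rfl⟩ := hpk
        rw [zpow_mul, zpow_natCast, hV, one_zpow]
      obtain ⟨s, t, hst⟩ : ∃ s t : ℤ, k * s + p * t = 1 := by
        have := Int.gcd_eq_gcd_ab k p
        rw [hcop] at this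
        exact ⟨Int.gcdA k p, Int.gcdB k p, by push_cast at this; linarith⟩
      have hv' : v = (v ^ k) ^ s := by
        have : v ^ (k * s + p * t) = v := by rw [hst, zpow_one]
        rw [zpow_add, zpow_mul, zpow_mul, zpow_natCast, hV, one_zpow, mul_one] at this
        exact this.symm
      have hvk : v ^ k ∈ U ⊔ W := by
        have : v ^ k = w⁻¹ * (w * v ^ k) := by group
        rw [this]
        exact Subgroup.mul_mem _ (Subgroup.mem_sup_right (W.inv_mem hw)) (Subgroup.mem_sup_left hxU)
      rw [hv']
      exact Subgroup.zpow_mem _ hvk s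
  exact absurd (hW.2 hdisj hlt.le) (not_le_of_gt hlt)

end Complement

end Cfsg.Agent.Lib.H18
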