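import Mathlib
import Cfsg.Agent.Lib.H7.K4Defs
import Cfsg.Agent.Lib.H18.K4CE1
import Cfsg.Agent.Lib.H18.K4CE2

/-!
# S3805 piece CE3 (helper18), core: localisation of the class-multiplication counts into `N`,
with the (3,3,3)-lemma `tri3'` as an explicit hypothesis.
-/

set_option autoImplicit false

namespace Cfsg.Agent.Lib.H18.K4

open Cfsg Cfsg.Agent.Lib.H7.K4

/-- the statement of the (3,3,3)-lemma `tri3'` for a group `G` -/
def Tri3Stmt (G : Type*) [Group G] : Prop :=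
  ∀ u v : G, u ^ 3 = 1 → v ^ 3 = 1 → (u * v) ^ 3 = 1 →
    (∀ α : G, α ≠ 1 → α ^ 3 = 1 → α * u = u * α →
      ∀ w : G, w * α = α * w → w ^ 3 = 1 → w * u = u * w) →
    u * v = v * u ∨ (IsConj u v ∧ IsConj (u * v) u⁻¹)

/-- a sum over `G` of a function vanishing off `N` is a sum over `S₃ × S₃` -/
theorem sum_eq_sum_el {G : Type*} [Group G] [Fintype G] (h : Hyp G) (F : G → ℂ)
    (hF : ∀ g : G, g ∉ h.N → F g = 0) : ∑ g : G, F g = ∑ a : S33, F (h.el a) := by
  classical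
  have h1 : ∑ a : S33, F (h.el a) = ∑ g ∈ (Finset.univ : Finset S33).image h.el, F g := by
    rw [Finset.sum_image]
    intro a _ b _ hab
    exact h.el_injective hab
  rw [h1]
  symm
  apply Finset.sum_subset (Finset.subset_univ _)
  intro g _ hg
  apply hF
  intro hgN
  apply hg
  rw [Finset.mem_image]
  exact ⟨h.e ⟨g, hgN⟩, Finset.mem_univ _, h.el_e ⟨g, hgN⟩⟩

/-- conjugates of elements of order dividing 3 have order dividing 3 -/
theorem conj_pow_three {G : Type*} [Group G] (g a : G) (ha : a ^ 3 = 1) :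
    (g * a * g⁻¹) ^ 3 = 1 := by
  rw [conj_pow, ha]; group

/-- the localisation: a solution of `c₁^g c₂^k = c` has `g, k ∈ N` -/
theorem mem_N_of_solution {G : Type*} [Group G] [Fintype G] (h : Hyp G) (htri : Tri3Stmt G)
    (s1 s2 s : S33)
    (h1 : s1 ^ 3 = 1) (h2 : s2 ^ 3 = 1) (h3 : s ^ 3 = 1) (h1' : s1 ≠ 1) (h2' : s2 ≠ 1) (h3' : s ≠ 1)
    (hnc : ¬ (IsConj s1 s2 ∧ IsConj s s1⁻¹)) (g k : G)
    (hgk : (g * h.el s1 * g⁻¹) * (k * h.el s2 * k⁻¹) = h.el s) : g ∈ h.N ∧ k ∈ h.N := by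
  have e1 : (h.el s1) ^ 3 = 1 := by rw [← h.el_pow, h1, h.el_one]
  have e2 : (h.el s2) ^ 3 = 1 := by rw [← h.el_pow, h2, h.el_one]
  have e3 : (h.el s) ^ 3 = 1 := by rw [← h.el_pow, h3, h.el_one]
  have e1' : h.el s1 ≠ 1 := by
    intro hh; rw [← h.el_one] at hh; exact h1' (h.el_injective hh)
  have s14 : s1 ^ 4 ≠ 1 := pow_four_ne_one_of_pow_three h1 h1'
  have s24 : s2 ^ 4 ≠ 1 := pow_four_ne_one_of_pow_three h2 h2'
  have s4 : s ^ 4 ≠ 1 := pow_four_ne_one_of_pow_three h3 h3'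
  set u := g * h.el s1 * g⁻¹ with hu
  set v := k * h.el s2 * k⁻¹ with hv
  have hu3 : u ^ 3 = 1 := conj_pow_three g _ e1
  have hv3 : v ^ 3 = 1 := conj_pow_three k _ e2
  have huv3 : (u * v) ^ 3 = 1 := by rw [hgk]; exact e3
  have hK := hK_of_hyp h (h.el s1) (h.el_mem s1) e1 e1' g
  rcases htri u v hu3 hv3 huv3 hK with hcomm | ⟨hc1, hc2⟩
  · -- `u`, `v` commute with `u v = el s`
    have hus : u * h.el s = h.el s * u := by
      rw [← hgk]
      calc u * (u * v) = u * (v * u) := by rw [hcomm]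
        _ = u * v * u := (mul_assoc u v u).symm
    have hvs : v * h.el s = h.el s * v := by
      rw [← hgk]
      calc v * (u * v) = v * u * v := (mul_assoc v u v).symm
        _ = u * v * v := by rw [hcomm]
    have huN : u ∈ h.N := mem_N_of_comm h (h.el_mem s) (el_pow_four_ne_one h s4) hus
    have hvN : v ∈ h.N := mem_N_of_comm h (h.el_mem s) (el_pow_four_ne_one h s4) hvs
    exact ⟨h.ti g _ (h.el_mem s1) (el_pow_four_ne_one h s14) huN,
      h.ti k _ (h.el_mem s2) (el_pow_four_ne_one h s24) hvN⟩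
  · exfalso
    apply hnc
    constructor
    · apply isConj_of_isConj h s1 s2 s14
      have ha : IsConj (h.el s1) u := isConj_iff.2 ⟨g, rfl⟩
      have hb : IsConj (h.el s2) v := isConj_iff.2 ⟨k, rfl⟩
      exact (ha.trans hc1).trans hb.symm
    · apply isConj_of_isConj h s s1⁻¹ s4
      rw [h.el_inv]
      rw [hgk] at hc2
      have ha : IsConj (h.el s1)⁻¹ u⁻¹ := by
        rw [isConj_iff]
        exact ⟨g, by rw [hu]; group⟩
      exact hc2.trans ha.symm

/-- CE3 with `tri3'` as a hypothesis. -/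
theorem count_eq_cnt_of_tri {G : Type*} [Group G] [Fintype G] (h : Hyp G) (htri : Tri3Stmt G)
    [DecidableEq G] (s1 s2 s : S33)
    (h1 : s1 ^ 3 = 1) (h2 : s2 ^ 3 = 1) (h3 : s ^ 3 = 1) (h1' : s1 ≠ 1) (h2' : s2 ≠ 1) (h3' : s ≠ 1)
    (hnc : ¬ (IsConj s1 s2 ∧ IsConj s s1⁻¹)) :
    (∑ g : G, ∑ k : G, if (g * h.el s1 * g⁻¹) * (k * h.el s2 * k⁻¹) = h.el s then (1 : ℂ) else 0) =
      (cnt s1 s2 s : ℂ) := by
  have key := mem_N_of_solution h htri s1 s2 s h1 h2 h3 h1' h2' h3' hnc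
  rw [sum_eq_sum_el h]
  · have hin : ∀ a : S33,
        (∑ k : G, if (h.el a * h.el s1 * (h.el a)⁻¹) * (k * h.el s2 * k⁻¹) = h.el s
          then (1 : ℂ) else 0) =
        ∑ b : S33, if (a * s1 * a⁻¹) * (b * s2 * b⁻¹) = s then (1 : ℂ) else 0 := by
      intro a
      rw [sum_eq_sum_el h]
      · apply Finset.sum_congr rfl
        intro b _
        have hiff : (h.el a * h.el s1 * (h.el a)⁻¹) * (h.el b * h.el s2 * (h.el b)⁻¹) = h.el s ↔
            (a * s1 * a⁻¹) * (b * s2 * b⁻¹) = s := by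
          rw [← h.el_inv, ← h.el_inv, ← h.el_mul, ← h.el_mul, ← h.el_mul, ← h.el_mul, ← h.el_mul]
          exact h.el_injective.eq_iff
        exact if_congr hiff rfl rfl
      · intro k hk
        rw [if_neg]
        intro hgk
        exact hk (key _ _ hgk).2
    rw [Finset.sum_congr rfl (fun a _ => hin a)]
    unfold cnt
    push_cast
    rfl
  · intro g hg
    apply Finset.sum_eq_zero
    intro k _
    rw [if_neg]
    intro hgk
    exact hg (key _ _ hgk).1

end Cfsg.Agent.Lib.H18.K4
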