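import Mathlib
import Cfsg.Agent.Lib.H7.K4Defs
import Cfsg.Agent.Lib.H18.K4CE3a
import Cfsg.Agent.Lib.H25.K4TRI

/-!
# S3805 piece CE3 (helper18): localisation of the class-multiplication counts into `N`
-/

set_option autoImplicit false

namespace Cfsg.Agent.Lib.H18.K4

open Cfsg Cfsg.Agent.Lib.H7.K4

/-- the (3,3,3)-lemma holds in every finite group (helper25's `tri3'`) -/
theorem tri3Stmt_of_finite (G : Type*) [Group G] [Finite G] : Tri3Stmt G :=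
  fun u v hu hv huv hK => Cfsg.Agent.Lib.H25.K4.tri3' u v hu hv huv hK

/-- CE3. -/
theorem count_eq_cnt {G : Type*} [Group G] [Fintype G] (h : Hyp G) [DecidableEq G] (s1 s2 s : S33)
    (h1 : s1 ^ 3 = 1) (h2 : s2 ^ 3 = 1) (h3 : s ^ 3 = 1) (h1' : s1 ≠ 1) (h2' : s2 ≠ 1) (h3' : s ≠ 1)
    (hnc : ¬ (IsConj s1 s2 ∧ IsConj s s1⁻¹)) :
    (∑ g : G, ∑ k : G, if (g * h.el s1 * g⁻¹) * (k * h.el s2 * k⁻¹) = h.el s then (1 : ℂ) else 0) =
      (cnt s1 s2 s : ℂ) :=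
  count_eq_cnt_of_tri h (tri3Stmt_of_finite G) s1 s2 s h1 h2 h3 h1' h2' h3' hnc

end Cfsg.Agent.Lib.H18.K4
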