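import Mathlib
import Cfsg.Agent.Lib.H18.FrobeniusThm

/-!
# Structure of Frobenius groups (helper18), on top of Frobenius' theorem

`R` a Frobenius complement in the finite group `G`, `K = frobKer R hR`.
* `frob_commute_mem` : `r ∈ R`, `r ≠ 1`, `g * r = r * g` ⟹ `g ∈ R`.
* `frob_comm_injective` : for `1 ≠ r ∈ R` the map `k ↦ k r k⁻¹ r⁻¹` is injective on `K`.
* `frob_normal_le_or_le` : a normal subgroup contains `K` or lies in `K`.
* `frob_mem_of_comm_mem` : `N ≤ K` normal, `1 ≠ r ∈ R`, `k ∈ K`, `k r k⁻¹ r⁻¹ ∈ N` ⟹ `k ∈ N`.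
* `frob_exists_mul` : every `g` is `k * s` with `k ∈ K`, `s ∈ R`.
-/

set_option autoImplicit false

namespace Cfsg.Agent.Lib.H18

open scoped Pointwise
open Cfsg Cfsg.Agent.Lib.H1

variable {G : Type*} [Group G]

theorem frob_commute_mem {R : Subgroup G} (hR : IsFrobeniusComplement R) {r g : G} (hr : r ∈ R)
    (hr1 : r ≠ 1) (hc : g * r = r * g) : g ∈ R := by
  apply frob_mem_of_conj_mem hR hr hr1
  rw [hc, mul_inv_cancel_right]
  exact hr

variable [Finite G]

theorem frob_inf_eq_one {R : Subgroup G} (hR : IsFrobeniusComplement R) {x : G}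
    (hxK : x ∈ frobKer R hR) (hxR : x ∈ R) : x = 1 := by
  have : x ∈ frobKer R hR ⊓ R := ⟨hxK, hxR⟩
  rw [frobKer_inf, Subgroup.mem_bot] at this
  exact this

theorem frob_comm_injective {R : Subgroup G} (hR : IsFrobeniusComplement R) {r : G} (hr : r ∈ R)
    (hr1 : r ≠ 1) {k k' : G} (hk : k ∈ frobKer R hR) (hk' : k' ∈ frobKer R hR)
    (h : k * r * k⁻¹ * r⁻¹ = k' * r * k'⁻¹ * r⁻¹) : k = k' := by
  have h1 : k * r * k⁻¹ = k' * r * k'⁻¹ := mul_right_cancel h
  have h2 : (k'⁻¹ * k) * r = r * (k'⁻¹ * k) := by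
    have : (k'⁻¹ * k) * r = k'⁻¹ * (k * r * k⁻¹) * k := by group
    rw [this, h1]
    group
  have h3 : k'⁻¹ * k ∈ R := frob_commute_mem hR hr hr1 h2
  have h4 : k'⁻¹ * k ∈ frobKer R hR := (frobKer R hR).mul_mem ((frobKer R hR).inv_mem hk') hk
  have h5 := frob_inf_eq_one hR h4 h3
  exact (inv_mul_eq_one.mp h5).symm

theorem frob_comm_mem_ker {R : Subgroup G} (hR : IsFrobeniusComplement R) (r : G) {k : G}
    (hk : k ∈ frobKer R hR) : k * r * k⁻¹ * r⁻¹ ∈ frobKer R hR := by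
  have h1 : r * k⁻¹ * r⁻¹ ∈ frobKer R hR :=
    (frobKer_normal R hR).conj_mem _ ((frobKer R hR).inv_mem hk) r
  have : k * r * k⁻¹ * r⁻¹ = k * (r * k⁻¹ * r⁻¹) := by group
  rw [this]
  exact (frobKer R hR).mul_mem hk h1

theorem comm_mem_normal (N : Subgroup G) [hN : N.Normal] {r : G} (hr : r ∈ N) (k : G) :
    k * r * k⁻¹ * r⁻¹ ∈ N :=
  N.mul_mem (hN.conj_mem r hr k) (N.inv_mem hr)

theorem comm_mem_normal' (N : Subgroup G) [hN : N.Normal] {k : G} (hk : k ∈ N) (r : G) :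
    k * r * k⁻¹ * r⁻¹ ∈ N := by
  have h1 : r * k⁻¹ * r⁻¹ ∈ N := hN.conj_mem _ (N.inv_mem hk) r
  have : k * r * k⁻¹ * r⁻¹ = k * (r * k⁻¹ * r⁻¹) := by group
  rw [this]
  exact N.mul_mem hk h1

/-- A normal subgroup of a Frobenius group contains the kernel or is contained in it. -/
theorem frob_normal_le_or_le {R : Subgroup G} (hR : IsFrobeniusComplement R) (N : Subgroup G)
    [hN : N.Normal] : frobKer R hR ≤ N ∨ N ≤ frobKer R hR := by
  by_cases hle : N ≤ frobKer R hR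
  · exact Or.inr hle
  left
  obtain ⟨x, hxN, hxK⟩ := SetLike.not_le_iff_exists.mp hle
  rw [mem_frobKer, not_mem_frobeniusKernel_iff] at hxK
  obtain ⟨hx1, g, hg⟩ := hxK
  rw [mem_conj_smul_iff] at hg
  set r : G := g⁻¹ * x * g with hr
  have hrN : r ∈ N := by
    have := hN.conj_mem x hxN g⁻¹
    simpa [hr] using this
  have hr1 : r ≠ 1 := by
    intro h
    apply hx1
    have : x = g * r * g⁻¹ := by rw [hr]; group
    rw [this, h]
    group
  -- injection `K → K ⊓ N`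
  let φ : frobKer R hR → (frobKer R hR ⊓ N : Subgroup G) := fun k =>
    ⟨(k : G) * r * (k : G)⁻¹ * r⁻¹, frob_comm_mem_ker hR r k.2, comm_mem_normal N hrN k⟩
  have hφ : Function.Injective φ := by
    intro k k' h
    have h' : (k : G) * r * (k : G)⁻¹ * r⁻¹ = (k' : G) * r * (k' : G)⁻¹ * r⁻¹ :=
      congrArg Subtype.val h
    exact Subtype.ext (frob_comm_injective hR hg hr1 k.2 k'.2 h')
  have hcard : Nat.card (frobKer R hR) ≤ Nat.card (frobKer R hR ⊓ N : Subgroup G) :=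
    Nat.card_le_card_of_injective φ hφ
  have heq : frobKer R hR ⊓ N = frobKer R hR :=
    Subgroup.eq_of_le_of_card_ge inf_le_left hcard
  exact heq ▸ inf_le_right

/-- If `N ≤ K` is normal, `1 ≠ r ∈ R`, `k ∈ K` and `[k, r] ∈ N` then `k ∈ N`. -/
theorem frob_mem_of_comm_mem {R : Subgroup G} (hR : IsFrobeniusComplement R) (N : Subgroup G)
    [hN : N.Normal] (hNK : N ≤ frobKer R hR) {r : G} (hr : r ∈ R) (hr1 : r ≠ 1) {k : G}
    (hk : k ∈ frobKer R hR) (h : k * r * k⁻¹ * r⁻¹ ∈ N) : k ∈ N := by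
  let φ : N → N := fun n => ⟨(n : G) * r * (n : G)⁻¹ * r⁻¹, comm_mem_normal' N n.2 r⟩
  have hφ : Function.Injective φ := by
    intro n n' hh
    have h' : (n : G) * r * (n : G)⁻¹ * r⁻¹ = (n' : G) * r * (n' : G)⁻¹ * r⁻¹ :=
      congrArg Subtype.val hh
    exact Subtype.ext (frob_comm_injective hR hr hr1 (hNK n.2) (hNK n'.2) h')
  have hsurj : Function.Surjective φ := Finite.injective_iff_surjective.mp hφ
  obtain ⟨n₀, hn₀⟩ := hsurj ⟨_, h⟩
  have h' : (n₀ : G) * r * (n₀ : G)⁻¹ * r⁻¹ = k * r * k⁻¹ * r⁻¹ := congrArg Subtype.val hn₀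
  have := frob_comm_injective hR hr hr1 (hNK n₀.2) hk h'
  rw [← this]
  exact n₀.2

/-- Every element is a product `k * s` with `k` in the kernel and `s` in the complement. -/
theorem frob_exists_mul {R : Subgroup G} (hR : IsFrobeniusComplement R) (g : G) :
    ∃ k ∈ frobKer R hR, ∃ s ∈ R, g = k * s := by
  have h := (frobKer_isComplement' R hR)
  have hmul : ((frobKer R hR : Subgroup G) : Set G) * (R : Set G) = Set.univ := by
    rw [← Subgroup.normal_mul, frobKer_sup, Subgroup.coe_top]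
  have hg : g ∈ ((frobKer R hR : Subgroup G) : Set G) * (R : Set G) := by
    rw [hmul]; exact Set.mem_univ g
  obtain ⟨k, hk, s, hs, rfl⟩ := Set.mem_mul.mp hg
  exact ⟨k, hk, s, hs, rfl⟩

end Cfsg.Agent.Lib.H18
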