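import Mathlib

/-!
# Abelian groups with a fixed-point-free quaternion action have square order

If `I, J` are endomorphisms of a finite abelian group `A` of odd order with `I² = J² = -1` and
`IJ = -JI`, then `|A|` is a perfect square.
-/

set_option autoImplicit false

namespace Cfsg.Agent.Lib.H18

universe u

section Direct

variable {A : Type*} [AddCommGroup A] [Finite A]

/-- The case of exponent `q` (an odd prime): pick `a² + b² = -1` mod `q`; `U = aI + bJ` is an
involution anticommuting with `IJ`, so its two eigenspaces are equinumerous. -/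
theorem isSquare_card_of_exponent (q : ℕ) [hq : Fact q.Prime] (hq2 : q ≠ 2)
    (hqA : ∀ x : A, q • x = 0) (I J : Module.End ℤ A)
    (hI : ∀ x, I (I x) = -x) (hJ : ∀ x, J (J x) = -x) (hIJ : ∀ x, I (J x) = -(J (I x))) :
    IsSquare (Nat.card A) := by
  obtain ⟨a, b, -, -, hab⟩ := Nat.sq_add_sq_zmodEq q (-1)
  have hdvd : (q : ℤ) ∣ (a : ℤ) ^ 2 + (b : ℤ) ^ 2 + 1 := by
    have h1 := Int.modEq_iff_dvd.1 hab
    have h2 : (a : ℤ) ^ 2 + (b : ℤ) ^ 2 + 1 = -(-1 - ((a : ℤ) ^ 2 + (b : ℤ) ^ 2)) := by ring
    rw [h2]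
    exact (dvd_neg).2 h1
  have hzq : ∀ (c : ℤ) (x : A), (q : ℤ) ∣ c → c • x = 0 := by
    rintro c x ⟨d, rfl⟩
    rw [mul_comm, mul_smul, natCast_zsmul, hqA, smul_zero]
  have hJI : ∀ x, J (I x) = -(I (J x)) := fun x => by rw [hIJ, neg_neg]
  set U : Module.End ℤ A := (a : ℤ) • I + (b : ℤ) • J with hUdef
  have hUx : ∀ x, U x = (a : ℤ) • I x + (b : ℤ) • J x := fun x => by
    simp [hUdef]
  have hU : ∀ x, U (U x) = x := by
    intro x
    have key : U (U x) = x - ((a : ℤ) ^ 2 + (b : ℤ) ^ 2 + 1) • x := by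
      rw [hUx (U x), hUx x]
      simp only [map_add, map_zsmul, hI, hJ, hJI]
      module
    rw [key, hzq _ x hdvd, sub_zero]
  have hJIJ : ∀ x, J (I (J x)) = I x := fun x => by
    rw [hJI, hJ, map_neg, neg_neg]
  have hIJI : ∀ x, I (J (I x)) = J x := fun x => by
    rw [hIJ, hI, map_neg, neg_neg]
  have hT : ∀ x, I (J (I (J x))) = -x := fun x => by rw [hJIJ, hI]
  have hUT : ∀ x, U (I (J x)) = -(I (J (U x))) := by
    intro x
    rw [hUx (I (J x)), hUx x]
    simp only [map_add, map_zsmul, hI, hJ, hJIJ, hIJI, map_neg]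
    module
  -- the half
  obtain ⟨h, hh⟩ : ∃ h : ℤ, 2 * h = (q : ℤ) + 1 := by
    have hodd : Odd q := hq.out.odd_of_ne_two hq2
    obtain ⟨k, hk⟩ := hodd
    exact ⟨k + 1, by rw [hk]; push_cast; ring⟩
  have hhalf : ∀ x : A, h • ((2 : ℤ) • x) = x := by
    intro x
    rw [← mul_smul, mul_comm, hh, add_smul, one_smul, natCast_zsmul, hqA, zero_add]
  have h1 : ∀ z, U (h • (z + U z)) = h • (z + U z) := by
    intro z
    rw [map_zsmul, map_add, hU, add_comm]
  have h2 : ∀ z, U (h • (z - U z)) = -(h • (z - U z)) := by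
    intro z
    rw [map_zsmul, map_sub, hU, ← smul_neg, neg_sub]
  have e₁ : {x : A // U x = x} × {x : A // U x = -x} ≃ A := by
    refine ⟨fun p => p.1.1 + p.2.1, fun z => (⟨_, h1 z⟩, ⟨_, h2 z⟩), ?_, ?_⟩
    · rintro ⟨⟨x, hx⟩, ⟨y, hy⟩⟩
      apply Prod.ext
      · apply Subtype.ext
        show h • (x + y + U (x + y)) = x
        rw [map_add, hx, hy]
        have : x + y + (x + -y) = (2 : ℤ) • x := by module
        rw [this, hhalf]
      · apply Subtype.ext
        show h • (x + y - U (x + y)) = y
        rw [map_add, hx, hy]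
        have : x + y - (x + -y) = (2 : ℤ) • y := by module
        rw [this, hhalf]
    · intro z
      show h • (z + U z) + h • (z - U z) = z
      have : h • (z + U z) + h • (z - U z) = h • ((2 : ℤ) • z) := by module
      rw [this, hhalf]
  have e₂ : {x : A // U x = x} ≃ {x : A // U x = -x} := by
    refine ⟨fun x => ⟨I (J x.1), ?_⟩, fun y => ⟨-(I (J y.1)), ?_⟩, ?_, ?_⟩
    · rw [hUT, x.2]
    · rw [map_neg, hUT, y.2, map_neg, map_neg, neg_neg]
    · intro x
      apply Subtype.ext
      show -(I (J (I (J x.1)))) = x.1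
      rw [hT, neg_neg]
    · intro y
      apply Subtype.ext
      show I (J (-(I (J y.1)))) = y.1
      rw [map_neg, map_neg, hT, neg_neg]
  refine ⟨Nat.card {x : A // U x = x}, ?_⟩
  rw [← Nat.card_congr e₁, Nat.card_prod, ← Nat.card_congr e₂]

end Direct

theorem isSquare_card_aux : ∀ n : ℕ, ∀ (A : Type u) [AddCommGroup A] [Finite A]
    (I J : Module.End ℤ A), (∀ x, I (I x) = -x) → (∀ x, J (J x) = -x) →
    (∀ x, I (J x) = -(J (I x))) → Nat.card A = n → Odd n → IsSquare n := by
  intro n
  induction n using Nat.strong_induction_on with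
  | _ n ih =>
    intro A _ _ I J hI hJ hIJ hn hodd
    by_cases h1 : n = 1
    · subst h1; exact ⟨1, rfl⟩
    have hq : n.minFac.Prime := Nat.minFac_prime h1
    set q := n.minFac with hqdef
    haveI : Fact q.Prime := ⟨hq⟩
    have hqn : q ∣ n := Nat.minFac_dvd n
    have hq2 : q ≠ 2 := by
      intro h
      have : 2 ∣ n := h ▸ hqn
      exact (Nat.not_even_iff_odd.2 hodd) (even_iff_two_dvd.2 this)
    set P : Module.End ℤ A := (q : ℤ) • (1 : Module.End ℤ A) with hP
    have hPx : ∀ x, P x = q • x := fun x => by simp [hP]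
    have hcard : Nat.card A = Nat.card (LinearMap.ker P) * Nat.card (LinearMap.range P) := by
      rw [Submodule.card_eq_card_quotient_mul_card (LinearMap.ker P),
        Nat.card_congr P.quotKerEquivRange.toEquiv]
    have hIK : ∀ x ∈ LinearMap.ker P, I x ∈ LinearMap.ker P := by
      intro x hx
      rw [LinearMap.mem_ker, hPx] at hx ⊢
      rw [← map_nsmul, hx, map_zero]
    have hJK : ∀ x ∈ LinearMap.ker P, J x ∈ LinearMap.ker P := by
      intro x hx
      rw [LinearMap.mem_ker, hPx] at hx ⊢
      rw [← map_nsmul, hx, map_zero]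
    have hIR : ∀ x ∈ LinearMap.range P, I x ∈ LinearMap.range P := by
      rintro x ⟨y, rfl⟩
      exact ⟨I y, by rw [hPx, hPx, map_nsmul]⟩
    have hJR : ∀ x ∈ LinearMap.range P, J x ∈ LinearMap.range P := by
      rintro x ⟨y, rfl⟩
      exact ⟨J y, by rw [hPx, hPx, map_nsmul]⟩
    by_cases hR : LinearMap.range P = ⊥
    · have hqA : ∀ x : A, q • x = 0 := by
        intro x
        have : P x ∈ LinearMap.range P := ⟨x, rfl⟩
        rw [hR, Submodule.mem_bot, hPx] at this
        exact this
      rw [← hn]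
      exact isSquare_card_of_exponent q hq2 hqA I J hI hJ hIJ
    · -- Cauchy
      have hKne : Nontrivial (LinearMap.ker P) := by
        have := Fintype.ofFinite A
        have hqA : q ∣ Fintype.card A := by rw [← Nat.card_eq_fintype_card, hn]; exact hqn
        obtain ⟨x, hx⟩ := exists_prime_addOrderOf_dvd_card q hqA
        have hxK : x ∈ LinearMap.ker P := by
          rw [LinearMap.mem_ker, hPx, ← hx, addOrderOf_nsmul_eq_zero]
        refine ⟨⟨⟨x, hxK⟩, 0, ?_⟩⟩
        intro h
        have : x = 0 := congrArg Subtype.val h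
        rw [this, addOrderOf_zero] at hx
        exact hq.one_lt.ne hx
      have hRne : Nontrivial (LinearMap.range P) := by
        rw [Submodule.nontrivial_iff_ne_bot]
        exact hR
      have hK1 : 1 < Nat.card (LinearMap.ker P) := Finite.one_lt_card
      have hR1 : 1 < Nat.card (LinearMap.range P) := Finite.one_lt_card
      rw [hn] at hcard
      have hKlt : Nat.card (LinearMap.ker P) < n := by
        rw [hcard]; exact lt_mul_of_one_lt_right (by omega) hR1
      have hRlt : Nat.card (LinearMap.range P) < n := by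
        rw [hcard]; exact lt_mul_of_one_lt_left (by omega) hK1
      have hKodd : Odd (Nat.card (LinearMap.ker P)) :=
        Odd.of_dvd_nat hodd (hcard ▸ Dvd.intro _ rfl)
      have hRodd : Odd (Nat.card (LinearMap.range P)) :=
        Odd.of_dvd_nat hodd (hcard ▸ Dvd.intro_left _ rfl)
      have sK := ih _ hKlt (LinearMap.ker P) (I.restrict hIK) (J.restrict hJK)
        (fun x => Subtype.ext (by simp [LinearMap.restrict_coe_apply, hI]))
        (fun x => Subtype.ext (by simp [LinearMap.restrict_coe_apply, hJ]))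
        (fun x => Subtype.ext (by simp [LinearMap.restrict_coe_apply, hIJ])) rfl hKodd
      have sR := ih _ hRlt (LinearMap.range P) (I.restrict hIR) (J.restrict hJR)
        (fun x => Subtype.ext (by simp [LinearMap.restrict_coe_apply, hI]))
        (fun x => Subtype.ext (by simp [LinearMap.restrict_coe_apply, hJ]))
        (fun x => Subtype.ext (by simp [LinearMap.restrict_coe_apply, hIJ])) rfl hRodd
      rw [hcard]
      exact sK.mul sR

/-- If `I, J` are endomorphisms of a finite abelian group `A` of odd order with `I² = J² = -1` and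
`IJ = -JI`, then `|A|` is a perfect square. -/
theorem isSquare_card_of_quaternion_action {A : Type u} [AddCommGroup A] [Finite A] (I J : A →+ A)
    (hI : ∀ x, I (I x) = -x) (hJ : ∀ x, J (J x) = -x) (hIJ : ∀ x, I (J x) = -(J (I x)))
    (hodd : Odd (Nat.card A)) : IsSquare (Nat.card A) :=
  isSquare_card_aux _ A I.toIntLinearMap J.toIntLinearMap hI hJ hIJ rfl hodd

end Cfsg.Agent.Lib.H18
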