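import Mathlib
import Cfsg.Agent.Lib.H1.M11U.Defs

/-!
# S0420 pieces STRUCT (`exists_s`) and ACT2 (`eq_one_of_fix_three`): cores (helper18)

The earlier pieces of `tools/blueprints/S0420_sigs.lean` that these two use are taken as explicit
hypotheses, so that this file depends on Mathlib and the shared definitions only.
-/

set_option autoImplicit false
open scoped Pointwise

universe u

namespace Cfsg.Agent.Lib.H18.M11U

open Cfsg.Agent.Lib.H1.M11U

variable {G : Type u} [Group G] [Finite G]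

omit [Finite G] in
/-- (ACT2, core) an element fixing `x`, `y` and `u • y` is trivial. -/
theorem eq_one_of_fix_three_core
    (semireg : ∀ {P P' : Sylow 3 G}, P' ≠ P → ∀ {u : G}, u ∈ (P : Subgroup G) → u ≠ 1 → u • P' ≠ P')
    (Q_semiregular : ∀ {P P' : Sylow 3 G}, Adj P P' → ∀ {q : G}, q ∈ Nrm P ⊓ Nrm P' → q ≠ 1 →
      ∀ {v : G}, v ∈ (P : Subgroup G) → v ≠ 1 → q * v * q⁻¹ ≠ v)
    (adj_irrefl : ∀ P : Sylow 3 G, ¬ Adj P P)
    {x y : Sylow 3 G} (hadj : Adj x y) {u : G}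
    (hu : u ∈ (x : Subgroup G)) (hu1 : u ≠ 1) {g : G} (hgx : g • x = x) (hgy : g • y = y)
    (hguy : g • (u • y) = u • y) : g = 1 := by
  by_contra hg1
  have hgNx : g ∈ Nrm x := Sylow.smul_eq_iff_mem_normalizer.mp hgx
  have hgNy : g ∈ Nrm y := Sylow.smul_eq_iff_mem_normalizer.mp hgy
  have hyx : y ≠ x := by
    intro h
    rw [h] at hadj
    exact adj_irrefl x hadj
  -- `g u g⁻¹ ∈ x`
  have hconj : g * u * g⁻¹ ∈ (x : Subgroup G) :=
    (Subgroup.mem_normalizer_iff.mp hgNx u).mp hu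
  -- `(g u g⁻¹) • y = u • y`
  have hginv : g⁻¹ • y = y := by
    rw [inv_smul_eq_iff, hgy]
  have h1 : (g * u * g⁻¹) • y = u • y := by
    rw [mul_smul, mul_smul, hginv, hguy]
  have h2 : (u⁻¹ * (g * u * g⁻¹)) • y = y := by
    rw [mul_smul, h1, inv_smul_smul]
  have hw : u⁻¹ * (g * u * g⁻¹) ∈ (x : Subgroup G) := mul_mem (inv_mem hu) hconj
  have hw1 : u⁻¹ * (g * u * g⁻¹) = 1 := by
    by_contra hne
    exact semireg hyx hw hne h2
  have hcomm : g * u * g⁻¹ = u := by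
    have := congrArg (fun t => u * t) hw1
    simpa using this
  exact Q_semiregular hadj (Subgroup.mem_inf.mpr ⟨hgNx, hgNy⟩) hg1 hu hu1 hcomm

omit [Finite G] in
/-- (STRUCT, core) -/
theorem exists_s_core (hnorm3 : ∀ P : Sylow 3 G, Nat.card (Nrm P) = 144)
    (hcard3 : ∀ P : Sylow 3 G, Nat.card (P : Subgroup G) = 9)
    {P P' : Sylow 3 G} (hadj : Adj P P')
    (hS : ∃ S : Subgroup G, S ≤ Nrm P ∧ Nat.card S = 16 ∧ Nrm P ⊓ Nrm P' ≤ S) :
    ∃ s : G, s ∈ Nrm P ∧ s ∉ Bsub P P' ∧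
      (∀ q ∈ Nrm P ⊓ Nrm P', s * q * s⁻¹ ∈ Nrm P ⊓ Nrm P' ∧ s⁻¹ * q * s ∈ Nrm P ⊓ Nrm P') ∧
      (∀ n ∈ Nrm P, n ∈ Bsub P P' ∨ s⁻¹ * n ∈ Bsub P P') := by
  classical
  obtain ⟨S, hSN, hS16, hQS⟩ := hS
  set Q : Subgroup G := Nrm P ⊓ Nrm P' with hQ
  have hQ8 : Nat.card Q = 8 := hadj
  -- `Q` is a proper subgroup of `S`
  have hQltS : Q < S := by
    refine lt_of_le_of_ne hQS ?_
    intro h
    rw [h, hS16] at hQ8
    omega
  obtain ⟨s, hsS, hsQ⟩ := SetLike.exists_of_lt hQltS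
  -- `Q` has index 2 in `S`, hence is normal in `S`
  have hrel : Q.relIndex S = 2 := by
    have h1 : Nat.card Q * Q.relIndex S = Nat.card S := by
      have := Subgroup.relIndex_mul_relIndex ⊥ Q S bot_le hQS
      rwa [Subgroup.relIndex_bot_left, Subgroup.relIndex_bot_left] at this
    rw [hQ8, hS16] at h1
    omega
  have hQn : (Q.subgroupOf S).Normal := Subgroup.normal_of_index_eq_two hrel
  have hconjQ : ∀ t ∈ S, ∀ q ∈ Q, t * q * t⁻¹ ∈ Q := by
    intro t ht q hq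
    have := hQn.conj_mem ⟨q, hQS hq⟩ (Subgroup.mem_subgroupOf.mpr hq) ⟨t, ht⟩
    rw [Subgroup.mem_subgroupOf] at this
    simpa using this
  -- description of `B = P Q`
  have hQleN : Q ≤ Nrm P := inf_le_left
  have hBcoe : ((Bsub P P' : Subgroup G) : Set G) = ((P : Subgroup G) : Set G) * (Q : Set G) := by
    unfold Bsub
    exact Subgroup.coe_mul_of_right_le_normalizer_left (P : Subgroup G) Q hQleN
  have hBmem : ∀ n : G, n ∈ Bsub P P' ↔ ∃ v ∈ (P : Subgroup G), ∃ q ∈ Q, v * q = n := by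
    intro n
    rw [← SetLike.mem_coe, hBcoe, Set.mem_mul]
    simp only [SetLike.mem_coe]
  -- `S ∩ P = 1`
  have hSP : ∀ v ∈ (P : Subgroup G), v ∈ S → v = 1 := by
    intro v hvP hvS
    have h1 : orderOf v ∣ 9 := by
      have := orderOf_dvd_natCard (⟨v, hvP⟩ : ↥(P : Subgroup G))
      rwa [Subgroup.orderOf_mk, hcard3 P] at this
    have h2 : orderOf v ∣ 16 := by
      have := orderOf_dvd_natCard (⟨v, hvS⟩ : ↥S)
      rwa [Subgroup.orderOf_mk, hS16] at this
    have h3 : orderOf v ∣ Nat.gcd 9 16 := Nat.dvd_gcd h1 h2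
    have h4 : orderOf v = 1 := by
      have : Nat.gcd 9 16 = 1 := by norm_num
      rw [this] at h3
      exact Nat.dvd_one.mp h3
    exact orderOf_eq_one_iff.mp h4
  have hsB : s ∉ Bsub P P' := by
    intro hs
    obtain ⟨v, hv, q, hq, hvq⟩ := (hBmem s).mp hs
    have hvS : v ∈ S := by
      have : v = s * q⁻¹ := by rw [← hvq]; group
      rw [this]
      exact mul_mem hsS (inv_mem (hQS hq))
    have := hSP v hv hvS
    rw [this, one_mul] at hvq
    exact hsQ (hvq ▸ hq)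
  have hsN : s ∈ Nrm P := hSN hsS
  -- `B ≤ N(P)` and `|B| = 72`
  have hPleN : (P : Subgroup G) ≤ Nrm P := Subgroup.le_normalizer
  have hBleN : Bsub P P' ≤ Nrm P := sup_le hPleN hQleN
  have hPleB : (P : Subgroup G) ≤ Bsub P P' := le_sup_left
  have hQleB : Q ≤ Bsub P P' := le_sup_right
  have hBrel : (Bsub P P').relIndex (Nrm P) = 2 := by
    have h1 : Nat.card (Bsub P P') * (Bsub P P').relIndex (Nrm P) = 144 := by
      have := Subgroup.relIndex_mul_relIndex ⊥ (Bsub P P') (Nrm P) bot_le hBleN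
      rwa [Subgroup.relIndex_bot_left, Subgroup.relIndex_bot_left, hnorm3 P] at this
    have h9 : 9 ∣ Nat.card (Bsub P P') := by
      have := Subgroup.card_dvd_of_le hPleB
      rwa [hcard3 P] at this
    have h8 : 8 ∣ Nat.card (Bsub P P') := by
      have := Subgroup.card_dvd_of_le hQleB
      rwa [hQ8] at this
    have h72 : 72 ∣ Nat.card (Bsub P P') := by
      have : Nat.Coprime 9 8 := by norm_num
      exact this.mul_dvd_of_dvd_of_dvd h9 h8
    have hne1 : (Bsub P P').relIndex (Nrm P) ≠ 1 := by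
      intro h
      have : Nrm P ≤ Bsub P P' := Subgroup.relIndex_eq_one.mp h
      exact hsB (this hsN)
    obtain ⟨c, hc⟩ := h72
    rw [hc] at h1
    have hcpos : 0 < c := by
      rcases Nat.eq_zero_or_pos c with h0 | h0
      · rw [h0] at h1; omega
      · exact h0
    have hr : c * (Bsub P P').relIndex (Nrm P) = 2 := by nlinarith
    have hc1 : c ∣ 2 := Dvd.intro _ hr
    have hc2 : c ≤ 2 := Nat.le_of_dvd (by norm_num) hc1
    interval_cases c
    · omega
    · omega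
  refine ⟨s, hsN, hsB, ?_, ?_⟩
  · intro q hq
    refine ⟨hconjQ s hsS q hq, ?_⟩
    have := hconjQ s⁻¹ (inv_mem hsS) q hq
    simpa using this
  · intro n hn
    by_cases hnB : n ∈ Bsub P P'
    · exact Or.inl hnB
    · right
      -- index two: `s⁻¹ * n ∈ B`
      have hidx : ((Bsub P P').subgroupOf (Nrm P)).index = 2 := hBrel
      have key := Subgroup.mul_mem_iff_of_index_two hidx
        (a := (⟨s, hsN⟩ : ↥(Nrm P))⁻¹) (b := (⟨n, hn⟩ : ↥(Nrm P)))
      have h1 : (⟨s, hsN⟩ : ↥(Nrm P))⁻¹ ∉ (Bsub P P').subgroupOf (Nrm P) := by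
        rw [inv_mem_iff, Subgroup.mem_subgroupOf]
        exact hsB
      have h2 : (⟨n, hn⟩ : ↥(Nrm P)) ∉ (Bsub P P').subgroupOf (Nrm P) := by
        rw [Subgroup.mem_subgroupOf]
        exact hnB
      have h3 : (⟨s, hsN⟩ : ↥(Nrm P))⁻¹ * ⟨n, hn⟩ ∈ (Bsub P P').subgroupOf (Nrm P) := by
        rw [key]
        exact ⟨fun h => absurd h h1, fun h => absurd h h2⟩
      rw [Subgroup.mem_subgroupOf] at h3
      simpa using h3


/-! ### self-contained versions (only `Hyp G`) -/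

theorem factorization_7920_three : (7920 : ℕ).factorization 3 = 2 := by
  have h : (7920 : ℕ) = 3 ^ 2 * 880 := by norm_num
  rw [h, Nat.factorization_mul (by norm_num) (by norm_num),
    Nat.Prime.factorization_pow Nat.prime_three]
  have : (880 : ℕ).factorization 3 = 0 := Nat.factorization_eq_zero_of_not_dvd (by norm_num)
  simp [this]

theorem factorization_144_two : (144 : ℕ).factorization 2 = 4 := by
  have h : (144 : ℕ) = 2 ^ 4 * 9 := by norm_num
  rw [h, Nat.factorization_mul (by norm_num) (by norm_num),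
    Nat.Prime.factorization_pow Nat.prime_two]
  have : (9 : ℕ).factorization 2 = 0 := Nat.factorization_eq_zero_of_not_dvd (by norm_num)
  simp [this]

/-- (API) a Sylow 3-subgroup of a group of order 7920 has order 9. -/
theorem card_sylow3_sub (h : Hyp G) (P : Sylow 3 G) : Nat.card (P : Subgroup G) = 9 := by
  have : Fact (Nat.Prime 3) := ⟨Nat.prime_three⟩
  rw [Sylow.card_eq_multiplicity, h.card, factorization_7920_three]
  norm_num

/-- (P3a) a Sylow 2-subgroup of `N(P)` containing `Q = N(P) ∩ N(P')`. -/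
theorem exists_sylow2_ge (h : Hyp G) {P P' : Sylow 3 G} (hadj : Adj P P') :
    ∃ S : Subgroup G, S ≤ Nrm P ∧ Nat.card S = 16 ∧ Nrm P ⊓ Nrm P' ≤ S := by
  have : Fact (Nat.Prime 2) := ⟨Nat.prime_two⟩
  set Q : Subgroup G := Nrm P ⊓ Nrm P' with hQ
  have hQ8 : Nat.card Q = 8 := hadj
  have hQleN : Q ≤ Nrm P := inf_le_left
  have hQ'card : Nat.card (Q.subgroupOf (Nrm P)) = 2 ^ 3 := by
    rw [Nat.card_congr (Subgroup.subgroupOfEquivOfLe hQleN).toEquiv, hQ8]
    norm_num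
  have hQ'p : IsPGroup 2 (Q.subgroupOf (Nrm P)) := IsPGroup.of_card hQ'card
  obtain ⟨S', hS'⟩ := hQ'p.exists_le_sylow
  have hS'card : Nat.card (S' : Subgroup ↥(Nrm P)) = 16 := by
    rw [Sylow.card_eq_multiplicity, h.norm3 P, factorization_144_two]
    norm_num
  refine ⟨(S' : Subgroup ↥(Nrm P)).map (Nrm P).subtype, Subgroup.map_subtype_le _, ?_, ?_⟩
  · rw [← hS'card]
    exact (Nat.card_congr ((S' : Subgroup ↥(Nrm P)).equivMapOfInjective (Nrm P).subtype
      (Subgroup.subtype_injective _)).toEquiv).symm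
  · intro q hq
    refine ⟨⟨q, hQleN hq⟩, hS' (Subgroup.mem_subgroupOf.mpr hq), rfl⟩

/-- (STRUCT) EXACT sig of `tools/blueprints/S0420_sigs.lean`. -/
theorem exists_s (h : Hyp G) {P P' : Sylow 3 G} (hadj : Adj P P') :
    ∃ s : G, s ∈ Nrm P ∧ s ∉ Bsub P P' ∧
      (∀ q ∈ Nrm P ⊓ Nrm P', s * q * s⁻¹ ∈ Nrm P ⊓ Nrm P' ∧ s⁻¹ * q * s ∈ Nrm P ⊓ Nrm P') ∧
      (∀ n ∈ Nrm P, n ∈ Bsub P P' ∨ s⁻¹ * n ∈ Bsub P P') :=
  exists_s_core h.norm3 (card_sylow3_sub h) hadj (exists_sylow2_ge h hadj)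

end Cfsg.Agent.Lib.H18.M11U
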