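import Mathlib
import Cfsg.Prelude.Def_KGroupFacts
import Cfsg.Agent.Lib.H10.QdExtT

/-!
# Stem extensions of groups with a Sylow 2-subgroup `2^3` normalised by an element of order 7
(helper18)

* `eq_one_of_comap_sylow_comm`: if the full preimage of a Sylow `p`-subgroup `P` under a finite
  stem extension is abelian, the kernel has no element of order `p`.
* `lifts_commute`: if `t^7 = 1`, the conjugates `u_i = t^i a t^-i` commute and
  `u_3 = u_0 u_1`, then arbitrary lifts of `u_0, u_1, u_2` to a central extension commute.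
* `no_involution`: consequently the kernel of a finite stem extension has no involution,
  when `⟨u_0, u_1, u_2⟩` contains a Sylow 2-subgroup.
-/

set_option autoImplicit false

namespace Cfsg.Agent.Lib.H18.StemF8

open scoped commutatorElement

section Sylow

theorem eq_one_of_comap_sylow_comm {G Γ : Type*} [Group G] [Group Γ] [Finite Γ] (p : ℕ)
    [Fact p.Prime] (σ : Γ →* G) (hσ : Cfsg.IsStemExtension σ) (P : Sylow p G)
    (hP : ∀ x y : Γ, σ x ∈ P → σ y ∈ P → x * y = y * x)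
    (x : Γ) (hx : x ∈ σ.ker) (hxp : x ^ p = 1) : x = 1 := by
  haveI : Finite G := Finite.of_surjective σ hσ.1
  obtain ⟨Q⟩ : Nonempty (Sylow p Γ) := inferInstance
  obtain ⟨g, hg⟩ := MulAction.exists_smul_eq G (Q.mapSurjective hσ.1) P
  obtain ⟨g', rfl⟩ := hσ.1 g
  have hmem : ∀ a ∈ Q, σ (g' * a * g'⁻¹) ∈ P := by
    intro a ha
    have h1 : σ a ∈ ((Q.mapSurjective hσ.1 : Sylow p G) : Subgroup G) := by
      rw [Sylow.coe_mapSurjective]
      exact Subgroup.mem_map_of_mem σ ha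
    have h2 := Subgroup.smul_mem_pointwise_smul (σ a) (MulAut.conj (σ g')) _ h1
    rw [← Sylow.coe_subgroup_smul, hg] at h2
    have h3 : σ (g' * a * g'⁻¹) = MulAut.conj (σ g') • σ a := by
      simp [MulAut.smul_def]
    rw [h3]
    exact h2
  refine Cfsg.Agent.Lib.H10.QdExt.eq_one_of_mem_center_commutator Q ?_ (hσ.2.1 hx) (hσ.2.2 hx) 1
    (by simpa using hxp)
  intro a ha b hb
  have h := hP _ _ (hmem a ha) (hmem b hb)
  have h2 : g' * (a * b) * g'⁻¹ = g' * (b * a) * g'⁻¹ := by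
    calc g' * (a * b) * g'⁻¹ = g' * a * g'⁻¹ * (g' * b * g'⁻¹) := by group
      _ = g' * b * g'⁻¹ * (g' * a * g'⁻¹) := h
      _ = g' * (b * a) * g'⁻¹ := by group
  exact mul_left_cancel (mul_right_cancel h2)

end Sylow

section Comm

variable {Γ : Type*} [Group Γ]

/-- the conjugates `T^i A T^-i`. -/
def cj (T A : Γ) (i : ℕ) : Γ := T ^ i * A * (T ^ i)⁻¹

theorem cj_zero (T A : Γ) : cj T A 0 = A := by simp [cj]

theorem cj_conj (T A : Γ) (n i : ℕ) : T ^ n * cj T A i * (T ^ n)⁻¹ = cj T A (n + i) := by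
  unfold cj
  rw [pow_add]
  group

theorem conj_central {z : Γ} (hz : z ∈ Subgroup.center Γ) (g : Γ) : g * z * g⁻¹ = z := by
  rw [Subgroup.mem_center_iff.mp hz g, mul_inv_cancel_right]

theorem cj_period (T A : Γ) (hT : T ^ 7 ∈ Subgroup.center Γ) (i : ℕ) :
    cj T A (i + 7) = cj T A i := by
  unfold cj
  rw [pow_add]
  have h := Subgroup.mem_center_iff.mp hT A
  have h7 : T ^ 7 * A * (T ^ 7)⁻¹ = A := by rw [← h, mul_inv_cancel_right]
  calc T ^ i * T ^ 7 * A * (T ^ i * T ^ 7)⁻¹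
      = T ^ i * (T ^ 7 * A * (T ^ 7)⁻¹) * (T ^ i)⁻¹ := by group
    _ = _ := by rw [h7]

theorem conj_comm (g x y : Γ) : g * ⁅x, y⁆ * g⁻¹ = ⁅g * x * g⁻¹, g * y * g⁻¹⁆ := by
  simp only [commutatorElement_def]
  group

theorem comm_mul_right (x y z : Γ) (hz : ⁅x, z⁆ ∈ Subgroup.center Γ) :
    ⁅x, y * z⁆ = ⁅x, y⁆ * ⁅x, z⁆ := by
  have hc := Subgroup.mem_center_iff.mp hz y⁻¹
  calc ⁅x, y * z⁆ = x * y * x⁻¹ * (⁅x, z⁆ * y⁻¹) := by
        simp only [commutatorElement_def]; group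
    _ = x * y * x⁻¹ * (y⁻¹ * ⁅x, z⁆) := by rw [hc]
    _ = ⁅x, y⁆ * ⁅x, z⁆ := by simp only [commutatorElement_def]; group

theorem comm_mul_central (x y c : Γ) (hc : c ∈ Subgroup.center Γ) : ⁅x, y * c⁆ = ⁅x, y⁆ := by
  have h1 : ⁅x, c⁆ = 1 := by
    rw [commutatorElement_def, Subgroup.mem_center_iff.mp hc x]
    group
  rw [comm_mul_right x y c (by rw [h1]; exact Subgroup.one_mem _), h1, mul_one]

/-- shifting both indices of a central commutator. -/
theorem comm_shift (T A : Γ) (n i j : ℕ) (h : ⁅cj T A i, cj T A j⁆ ∈ Subgroup.center Γ) :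
    ⁅cj T A (n + i), cj T A (n + j)⁆ = ⁅cj T A i, cj T A j⁆ := by
  rw [← cj_conj, ← cj_conj T A n j, ← conj_comm, conj_central h]

theorem lifts_commute (T A c : Γ) (hT : T ^ 7 ∈ Subgroup.center Γ)
    (h01 : ⁅A, cj T A 1⁆ ∈ Subgroup.center Γ) (h02 : ⁅A, cj T A 2⁆ ∈ Subgroup.center Γ)
    (hc : c ∈ Subgroup.center Γ) (hrel : cj T A 3 = A * cj T A 1 * c) :
    ⁅A, cj T A 1⁆ = 1 ∧ ⁅A, cj T A 2⁆ = 1 := by
  set w := cj T A with hw
  have w0 : w 0 = A := cj_zero T A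
  -- shifted relation
  have hreln : ∀ n, w (n + 3) = w n * w (n + 1) * c := by
    intro n
    have h1 := cj_conj T A n 3
    rw [show cj T A 3 = A * cj T A 1 * c from hrel] at h1
    have h2 : T ^ n * (A * cj T A 1 * c) * (T ^ n)⁻¹
        = (T ^ n * cj T A 0 * (T ^ n)⁻¹) * (T ^ n * cj T A 1 * (T ^ n)⁻¹) * (T ^ n * c * (T ^ n)⁻¹) := by
      rw [cj_zero]; group
    rw [h2, cj_conj, cj_conj, conj_central hc] at h1
    simpa [hw, add_comm] using h1.symm
  set e := ⁅A, w 1⁆ with he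
  set g := ⁅A, w 2⁆ with hg
  -- k 0 3 = e
  have k03 : ⁅A, w 3⁆ = e := by
    have := hreln 0
    rw [zero_add, zero_add, w0] at this
    rw [this, comm_mul_central _ _ _ hc, comm_mul_right _ _ _ h01]
    simp [commutatorElement_def, he]
  -- k 0 4 = e * g
  have k04 : ⁅A, w 4⁆ = e * g := by
    have := hreln 1
    rw [show (1 + 3 : ℕ) = 4 from rfl, show (1 + 1 : ℕ) = 2 from rfl] at this
    rw [this, comm_mul_central _ _ _ hc, comm_mul_right _ _ _ h02]
  have he4 : ⁅A, w 4⁆ ∈ Subgroup.center Γ := by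
    rw [k04]; exact Subgroup.mul_mem _ h01 h02
  have he3 : ⁅A, w 3⁆ ∈ Subgroup.center Γ := by rw [k03]; exact h01
  -- k 0 6 = e * (e * g)
  have k06 : ⁅A, w 6⁆ = e * (e * g) := by
    have := hreln 3
    rw [show (3 + 3 : ℕ) = 6 from rfl, show (3 + 1 : ℕ) = 4 from rfl] at this
    rw [this, comm_mul_central _ _ _ hc, comm_mul_right _ _ _ he4, k03, k04]
  -- antisymmetry via shifting
  have k04' : ⁅A, w 4⁆ = e⁻¹ := by
    have h1 := comm_shift T A 3 0 4 (by rw [cj_zero]; exact he4)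
    rw [cj_zero] at h1
    rw [← h1, show (3 + 4 : ℕ) = 0 + 7 from rfl, cj_period T A hT, cj_zero,
      show (3 + 0 : ℕ) = 3 from rfl, ← commutatorElement_inv, k03]
  have k06' : ⁅A, w 6⁆ = e⁻¹ := by
    have he6 : ⁅A, w 6⁆ ∈ Subgroup.center Γ := by
      rw [k06]; exact Subgroup.mul_mem _ h01 (Subgroup.mul_mem _ h01 h02)
    have h1 := comm_shift T A 1 0 6 (by rw [cj_zero]; exact he6)
    rw [cj_zero] at h1
    rw [← h1, show (1 + 6 : ℕ) = 0 + 7 from rfl, cj_period T A hT, cj_zero,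
      show (1 + 0 : ℕ) = 1 from rfl, ← commutatorElement_inv]
  have e1 : e = 1 := by
    have h1 : e * (e * g) = e⁻¹ := k06.symm.trans k06'
    have h2 : e * g = e⁻¹ := k04.symm.trans k04'
    rw [h2, mul_inv_cancel] at h1
    exact inv_eq_one.mp h1.symm
  have g1 : g = 1 := by
    have h2 : e * g = e⁻¹ := k04.symm.trans k04'
    rw [e1] at h2
    simpa using h2
  exact ⟨e1, g1⟩

end Comm

section Main

theorem no_involution {G Γ : Type*} [Group G] [Group Γ] [Finite Γ]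
    (σ : Γ →* G) (hσ : Cfsg.IsStemExtension σ) (a t : G) (ht : t ^ 7 = 1)
    (h01 : Commute a (t * a * t⁻¹)) (h02 : Commute a (t ^ 2 * a * (t ^ 2)⁻¹))
    (hrel : t ^ 3 * a * (t ^ 3)⁻¹ = a * (t * a * t⁻¹))
    (P : Sylow 2 G)
    (hP : (P : Subgroup G) ≤ Subgroup.closure {a, t * a * t⁻¹, t ^ 2 * a * (t ^ 2)⁻¹})
    (x : Γ) (hx : x ∈ σ.ker) (hx2 : x ^ 2 = 1) : x = 1 := by
  have : Fact (Nat.Prime 2) := ⟨Nat.prime_two⟩
  obtain ⟨A, rfl⟩ := hσ.1 a
  obtain ⟨T, rfl⟩ := hσ.1 t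
  have hker : ∀ y : Γ, σ y = 1 → y ∈ Subgroup.center Γ := fun y hy => hσ.2.1 (MonoidHom.mem_ker.mpr hy)
  have hcj : ∀ i, σ (cj T A i) = σ T ^ i * σ A * (σ T ^ i)⁻¹ := by
    intro i; simp [cj]
  have hT7 : T ^ 7 ∈ Subgroup.center Γ := hker _ (by rw [map_pow, ht])
  have hc01 : ⁅A, cj T A 1⁆ ∈ Subgroup.center Γ := by
    apply hker
    rw [map_commutatorElement, hcj, pow_one, commutatorElement_eq_one_iff_commute]
    exact h01
  have hc02 : ⁅A, cj T A 2⁆ ∈ Subgroup.center Γ := by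
    apply hker
    rw [map_commutatorElement, hcj, commutatorElement_eq_one_iff_commute]
    exact h02
  set c := (A * cj T A 1)⁻¹ * cj T A 3 with hcdef
  have hc : c ∈ Subgroup.center Γ := by
    apply hker
    rw [hcdef, map_mul, map_inv, map_mul, hcj, hcj, pow_one, hrel]
    group
  have hrel' : cj T A 3 = A * cj T A 1 * c := by rw [hcdef]; group
  obtain ⟨e1, g1⟩ := lifts_commute T A c hT7 hc01 hc02 hc hrel'
  have c01 : Commute A (cj T A 1) := commutatorElement_eq_one_iff_commute.mp e1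
  have c02 : Commute A (cj T A 2) := commutatorElement_eq_one_iff_commute.mp g1
  have c12 : Commute (cj T A 1) (cj T A 2) := by
    have h1 := comm_shift T A 1 0 1 (by rw [cj_zero, e1]; exact Subgroup.one_mem _)
    rw [cj_zero, e1] at h1
    exact commutatorElement_eq_one_iff_commute.mp h1
  -- the abelian subgroup generated by the lifts
  set S : Set Γ := {A, cj T A 1, cj T A 2} with hS
  have hScomm : ∀ x ∈ S, ∀ y ∈ S, x * y = y * x := by
    intro x hx y hy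
    rcases hx with rfl | rfl | rfl <;> rcases hy with rfl | rfl | rfl
    · rfl
    · exact c01.eq
    · exact c02.eq
    · exact c01.eq.symm
    · rfl
    · exact c12.eq
    · exact c02.eq.symm
    · exact c12.eq.symm
    · rfl
  have hmap : Subgroup.map σ (Subgroup.closure S) =
      Subgroup.closure {σ A, σ T * σ A * (σ T)⁻¹, σ T ^ 2 * σ A * (σ T ^ 2)⁻¹} := by
    rw [MonoidHom.map_closure, hS]
    congr 1
    simp only [Set.image_insert_eq, Set.image_singleton, hcj, pow_one]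
  refine eq_one_of_comap_sylow_comm 2 σ hσ P ?_ x hx hx2
  intro y z hy hz
  have hy' := hP hy
  have hz' := hP hz
  rw [← hmap] at hy' hz'
  obtain ⟨y0, hy0, hy0'⟩ := hy'
  obtain ⟨z0, hz0, hz0'⟩ := hz'
  have hyc : y0⁻¹ * y ∈ Subgroup.center Γ := hker _ (by rw [map_mul, map_inv, hy0', inv_mul_cancel])
  have hzc : z0⁻¹ * z ∈ Subgroup.center Γ := hker _ (by rw [map_mul, map_inv, hz0', inv_mul_cancel])
  have h00 : y0 * z0 = z0 * y0 := by
    have := (Subgroup.closureCommGroupOfComm hScomm).mul_comm ⟨y0, hy0⟩ ⟨z0, hz0⟩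
    exact congrArg Subtype.val this
  have ey : y = y0 * (y0⁻¹ * y) := by group
  have ez : z = z0 * (z0⁻¹ * z) := by group
  have cy := Subgroup.mem_center_iff.mp hyc
  have cz := Subgroup.mem_center_iff.mp hzc
  rw [ey, ez]
  calc y0 * (y0⁻¹ * y) * (z0 * (z0⁻¹ * z)) = y0 * ((y0⁻¹ * y) * z0) * (z0⁻¹ * z) := by group
    _ = y0 * (z0 * (y0⁻¹ * y)) * (z0⁻¹ * z) := by rw [cy z0]
    _ = (y0 * z0) * ((y0⁻¹ * y) * (z0⁻¹ * z)) := by group
    _ = (z0 * y0) * ((z0⁻¹ * z) * (y0⁻¹ * y)) := by rw [h00, cz (y0⁻¹ * y)]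
    _ = z0 * (y0 * (z0⁻¹ * z)) * (y0⁻¹ * y) := by group
    _ = z0 * ((z0⁻¹ * z) * y0) * (y0⁻¹ * y) := by rw [cz y0]
    _ = z0 * (z0⁻¹ * z) * (y0 * (y0⁻¹ * y)) := by group

end Main

end Cfsg.Agent.Lib.H18.StemF8
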