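import Mathlib
import Cfsg.Agent.Lib.H1.M11U.Defs
import Cfsg.Agent.Lib.H18.M11ST
import Cfsg.Agent.Lib.H9.M11SUB
import Cfsg.Agent.Lib.H20.M11QC
import Cfsg.Agent.Lib.H26.M11QFIXsig
import Cfsg.Agent.Lib.H19.M11LOCsig

/-!
# S0420 piece ACT2 (`eq_one_of_fix_three`) in the EXACT sig of `tools/blueprints/S0420_sigs.lean`
(helper18), assembled from the landed twins: SUB (helper9), LOC (helper19), P3b/P3c (helper26),
QREG cores (helper20), P3a/STRUCT/ACT2 core (helper18).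
-/

set_option autoImplicit false
open scoped Pointwise

universe u

namespace Cfsg.Agent.Lib.H18.M11U

open Cfsg.Agent.Lib.H1.M11U

variable {G : Type u} [Group G] [Finite G]

/-- `¬ Adj P P` (`N(P)` has order 144, not 8). -/
theorem adj_irrefl' (h : Hyp G) (P : Sylow 3 G) : ¬ Adj P P := by
  intro hP
  unfold Adj at hP
  rw [inf_idem, h.norm3 P] at hP
  omega

/-- (P3d) twin of `invol_count` in the exact sig. -/
theorem invol_count' (h : Hyp G) {P P' : Sylow 3 G} (hadj : Adj P P') :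
    (∃! z, z ∈ Nrm P ⊓ Nrm P' ∧ orderOf z = 2) ∨ (∀ q ∈ Nrm P ⊓ Nrm P', q * q = 1) :=
  Cfsg.Agent.Lib.H20.M11U.invol_count_core h hadj
    (Cfsg.Agent.Lib.H26.M11U.exists_order3_normalizing h hadj)

/-- (QREG) twin of `Q_semiregular` in the exact sig. -/
theorem Q_semiregular' (h : Hyp G) {P P' : Sylow 3 G} (hadj : Adj P P') {q : G}
    (hq : q ∈ Nrm P ⊓ Nrm P') (hq1 : q ≠ 1) {v : G} (hv : v ∈ (P : Subgroup G)) (hv1 : v ≠ 1) :
    q * v * q⁻¹ ≠ v :=
  Cfsg.Agent.Lib.H20.M11U.Q_semiregular_core h hadj (exists_sylow2_ge h hadj) (invol_count' h hadj)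
    (Cfsg.Agent.Lib.H19.M11U.centralizer_eq h P)
    (fun S hS hS16 _ hzS hz2 hzc _ hv hzv =>
      Cfsg.Agent.Lib.H19.M11U.central_invol_fpf h P S hS hS16 hzS hz2 hzc hv hzv)
    hq hq1 hv hv1

/-- (ACT2) EXACT sig of `tools/blueprints/S0420_sigs.lean`. -/
theorem eq_one_of_fix_three (h : Hyp G) {x y : Sylow 3 G} (hadj : Adj x y) {u : G}
    (hu : u ∈ (x : Subgroup G)) (hu1 : u ≠ 1) {g : G} (hgx : g • x = x) (hgy : g • y = y)
    (hguy : g • (u • y) = u • y) : g = 1 :=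
  eq_one_of_fix_three_core
    (fun hne _ hu hu1 => Cfsg.Agent.Lib.H9.M11U.semireg h hne hu hu1)
    (fun hadj _ hq hq1 _ hv hv1 => Q_semiregular' h hadj hq hq1 hv hv1)
    (adj_irrefl' h) hadj hu hu1 hgx hgy hguy

end Cfsg.Agent.Lib.H18.M11U
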