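import Mathlib

set_option autoImplicit false

namespace Cfsg.Agent.Lib.H18

open scoped commutatorElement

section commHom

variable {G Q : Type*} [Group G] [Group Q]

/-- `a ↦ π (x a x⁻¹ a⁻¹)` on a normal subgroup `A` whose image under `π` is commutative -/
def commHom (π : G →* Q) (A : Subgroup G) [A.Normal]
    (hA : ∀ a ∈ A, ∀ b ∈ A, π (a * b) = π (b * a)) (x : G) : A →* Q where
  toFun a := π (x * a * x⁻¹ * (a : G)⁻¹)
  map_one' := by simp
  map_mul' := by
    intro a b
    have hb : x * (b : G) * x⁻¹ ∈ A := Subgroup.Normal.conj_mem inferInstance _ b.2 x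
    have hcomm : π ((a : G)⁻¹) * π (x * b * x⁻¹ * (b : G)⁻¹) =
        π (x * b * x⁻¹ * (b : G)⁻¹) * π ((a : G)⁻¹) := by
      rw [← map_mul, ← map_mul]
      exact hA _ (A.inv_mem a.2) _ (A.mul_mem hb (A.inv_mem b.2))
    calc π (x * ((a * b : A) : G) * x⁻¹ * ((a * b : A) : G)⁻¹)
        = π (x * a * x⁻¹) * (π (x * b * x⁻¹ * (b : G)⁻¹) * π ((a : G)⁻¹)) := by
          rw [← map_mul, ← map_mul]
          congr 1
          simp only [Subgroup.coe_mul, mul_inv_rev]
          group
      _ = π (x * a * x⁻¹) * (π ((a : G)⁻¹) * π (x * b * x⁻¹ * (b : G)⁻¹)) := by rw [hcomm]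
      _ = π (x * a * x⁻¹ * (a : G)⁻¹) * π (x * b * x⁻¹ * (b : G)⁻¹) := by
          rw [← mul_assoc, ← map_mul]

theorem commHom_apply (π : G →* Q) (A : Subgroup G) [A.Normal]
    (hA : ∀ a ∈ A, ∀ b ∈ A, π (a * b) = π (b * a)) (x : G) (a : A) :
    commHom π A hA x a = π (x * a * x⁻¹ * (a : G)⁻¹) := rfl

theorem commHom_range (π : G →* Q) (hπ : Function.Surjective π) (A : Subgroup G) [A.Normal]
    (hA : ∀ a ∈ A, ∀ b ∈ A, π (a * b) = π (b * a)) (x : G)
    (hx : A ⊔ Subgroup.zpowers x = ⊤) :
    (commHom π A hA x).range = commutator Q := by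
  set B := (commHom π A hA x).range with hB
  have hcommA : ∀ a ∈ A, ∀ b ∈ A, π a * π b = π b * π a := by
    intro a ha b hb
    rw [← map_mul, ← map_mul]; exact hA a ha b hb
  have hBA : ∀ b ∈ B, ∃ a ∈ A, π a = b := by
    rintro _ ⟨a, rfl⟩
    refine ⟨x * a * x⁻¹ * (a : G)⁻¹, ?_, rfl⟩
    exact A.mul_mem (Subgroup.Normal.conj_mem inferInstance _ a.2 x) (A.inv_mem a.2)
  apply le_antisymm
  · rintro _ ⟨a, rfl⟩
    rw [commHom_apply]
    have : π (x * a * x⁻¹ * (a : G)⁻¹) = ⁅π x, π a⁆ := by
      rw [commutatorElement_def]; simp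
    rw [this, commutator_eq_closure]
    exact Subgroup.subset_closure (commutator_mem_commutatorSet _ _)
  · -- `B` is normal
    have hnorm : (⊤ : Subgroup G) ≤ (Subgroup.normalizer (B : Set Q)).comap π := by
      rw [← hx]
      apply sup_le
      · intro a ha
        rw [Subgroup.mem_comap, Subgroup.mem_normalizer_iff]
        intro h
        constructor
        · intro hh
          obtain ⟨a', ha', rfl⟩ := hBA h hh
          rw [hcommA a ha a' ha', mul_inv_cancel_right]
          exact hh
        · intro hh
          obtain ⟨a', ha', hh'⟩ := hBA _ hh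
          have e : h = (π a)⁻¹ * (π a * h * (π a)⁻¹) * π a := by group
          have h2 : h = π a' := by
            rw [e, ← hh', ← map_inv, hcommA a⁻¹ (A.inv_mem ha) a' ha', mul_assoc, ← map_mul,
              inv_mul_cancel, map_one, mul_one]
          rw [h2, hh']
          exact hh
      · rw [Subgroup.zpowers_le, Subgroup.mem_comap, Subgroup.mem_normalizer_iff]
        intro h
        constructor
        · rintro ⟨a, rfl⟩
          refine ⟨⟨x * a * x⁻¹, Subgroup.Normal.conj_mem inferInstance _ a.2 x⟩, ?_⟩
          rw [commHom_apply, commHom_apply, ← map_inv, ← map_mul, ← map_mul]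
          congr 1
          simp only [mul_inv_rev, inv_inv]
          group
        · rintro ⟨a, ha⟩
          refine ⟨⟨x⁻¹ * a * x, by
            have := Subgroup.Normal.conj_mem (inferInstance : A.Normal) _ a.2 x⁻¹
            simpa using this⟩, ?_⟩
          rw [commHom_apply] at ha ⊢
          have e : h = (π x)⁻¹ * (π x * h * (π x)⁻¹) * π x := by group
          rw [e, ← ha, ← map_inv, ← map_mul, ← map_mul]
          congr 1
          simp only [mul_inv_rev, inv_inv]
          group
    haveI hBn : B.Normal := by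
      rw [← Subgroup.normalizer_eq_top_iff, eq_top_iff]
      intro q _
      obtain ⟨g, rfl⟩ := hπ q
      exact hnorm (Subgroup.mem_top g)
    -- generators of `Q ⧸ B`
    let S : Set (Q ⧸ B) := {q | ∃ g, (g ∈ A ∨ g = x) ∧ q = QuotientGroup.mk (π g)}
    have hSgen : Subgroup.closure S = ⊤ := by
      rw [eq_top_iff]
      intro q _
      induction q using QuotientGroup.induction_on with
      | H q =>
        obtain ⟨g, rfl⟩ := hπ q
        have hg : g ∈ A ⊔ Subgroup.zpowers x := by rw [hx]; trivial
        have hle : A ⊔ Subgroup.zpowers x ≤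
            (Subgroup.closure S).comap ((QuotientGroup.mk' B).comp π) := by
          apply sup_le
          · intro a ha
            exact Subgroup.subset_closure ⟨a, Or.inl ha, rfl⟩
          · rw [Subgroup.zpowers_le]
            exact Subgroup.subset_closure ⟨x, Or.inr rfl, rfl⟩
        exact hle hg
    have hScomm : ∀ s ∈ S, ∀ t ∈ S, s * t = t * s := by
      rintro _ ⟨g, hg, rfl⟩ _ ⟨h, hh, rfl⟩
      have key : ∀ a ∈ A, (QuotientGroup.mk (π a) : Q ⧸ B) * QuotientGroup.mk (π x) =
          QuotientGroup.mk (π x) * QuotientGroup.mk (π a) := by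
        intro a ha
        rw [← QuotientGroup.mk_mul, ← QuotientGroup.mk_mul, QuotientGroup.eq]
        -- (π a * π x)⁻¹ * (π x * π a) = (π x)⁻¹ * ((π a)⁻¹ * π x * π a * (π x)⁻¹) * π x
        have e : (π a * π x)⁻¹ * (π x * π a) =
            (π x)⁻¹ * ((commHom π A hA x ⟨a⁻¹, A.inv_mem ha⟩)⁻¹) * π x := by
          rw [commHom_apply]
          simp only [map_mul, map_inv, mul_inv_rev, inv_inv]
          group
        rw [e]
        have h1 : (commHom π A hA x ⟨a⁻¹, A.inv_mem ha⟩)⁻¹ ∈ B := B.inv_mem ⟨_, rfl⟩
        have := hBn.conj_mem _ h1 (π x)⁻¹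
        simpa using this
      rcases hg with hg | rfl <;> rcases hh with hh | rfl
      · rw [← QuotientGroup.mk_mul, ← QuotientGroup.mk_mul, hcommA g hg h hh]
      · exact key g hg
      · exact (key h hh).symm
      · rfl
    have hcomm : ∀ u v : Q ⧸ B, u * v = v * u := by
      have hcen : ∀ s ∈ S, s ∈ Subgroup.center (Q ⧸ B) := by
        intro s hs
        have h1 : Subgroup.closure S ≤ Subgroup.centralizer {s} := by
          rw [Subgroup.closure_le]
          intro t ht
          rw [SetLike.mem_coe, Subgroup.mem_centralizer_iff]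
          intro y hy
          rw [Set.mem_singleton_iff] at hy
          subst hy
          exact hScomm y hs t ht
        rw [Subgroup.mem_center_iff]
        intro g
        have hg : g ∈ Subgroup.centralizer {s} := h1 (hSgen ▸ Subgroup.mem_top g)
        rw [Subgroup.mem_centralizer_iff] at hg
        exact (hg s rfl).symm
      have h2 : Subgroup.closure S ≤ Subgroup.center (Q ⧸ B) := by
        rw [Subgroup.closure_le]; exact hcen
      intro u v
      have hu : u ∈ Subgroup.center (Q ⧸ B) := h2 (hSgen ▸ Subgroup.mem_top u)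
      rw [Subgroup.mem_center_iff] at hu
      exact (hu v).symm
    letI : CommGroup (Q ⧸ B) := { (inferInstance : Group (Q ⧸ B)) with mul_comm := hcomm }
    have := Abelianization.commutator_subset_ker (QuotientGroup.mk' B)
    rwa [QuotientGroup.ker_mk'] at this

end commHom

section indexp

variable {G : Type*} [Group G]

theorem sup_zpowers_eq_top_of_index_prime (N : Subgroup G) (p : ℕ) (hp : p.Prime)
    (hN : N.index = p) (x : G) (hx : x ∉ N) : N ⊔ Subgroup.zpowers x = ⊤ := by
  have hle : N ≤ N ⊔ Subgroup.zpowers x := le_sup_left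
  have h1 := Subgroup.relIndex_mul_index hle
  rw [hN] at h1
  have h2 : (N ⊔ Subgroup.zpowers x).index ∣ p := Dvd.intro_left _ h1
  rcases (Nat.dvd_prime hp).1 h2 with h3 | h3
  · exact Subgroup.index_eq_one.1 h3
  · exfalso
    rw [h3] at h1
    have h4 : N.relIndex (N ⊔ Subgroup.zpowers x) = 1 := by
      have := hp.pos
      nlinarith [h1]
    rw [Subgroup.relIndex_eq_one] at h4
    apply hx
    apply h4
    exact (le_sup_right : Subgroup.zpowers x ≤ _) (Subgroup.mem_zpowers x)

theorem card_eq_card_ker_mul_card_commutator {Q : Type*} [Group Q] [Finite G]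
    (π : G →* Q) (hπ : Function.Surjective π) (A : Subgroup G) [A.Normal]
    (hA : ∀ a ∈ A, ∀ b ∈ A, π (a * b) = π (b * a)) (x : G)
    (hx : A ⊔ Subgroup.zpowers x = ⊤) :
    Nat.card A = Nat.card (commHom π A hA x).ker * Nat.card (commutator Q) := by
  rw [← commHom_range π hπ A hA x hx, ← Subgroup.index_ker, Subgroup.card_mul_index]

/-- the key counting identity for a normal subgroup of prime index -/
theorem index_commutator_mul_card [Finite G] (p : ℕ) [hp : Fact p.Prime] (N : Subgroup G)
    [N.Normal] (hN : N.index = p) (x : G) (hx : x ∉ N) :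
    Nat.card {n : N // x * n * x⁻¹ * (n : G)⁻¹ ∈ (commutator N).map N.subtype} * p =
      (commutator G).index * Nat.card (commutator N) := by
  set N' := (commutator N).map N.subtype with hN'
  haveI : N'.Normal := ConjAct.normal_of_characteristic_of_normal
  have hA : ∀ a ∈ N, ∀ b ∈ N, (QuotientGroup.mk' N') (a * b) = (QuotientGroup.mk' N') (b * a) := by
    intro a ha b hb
    rw [QuotientGroup.mk'_apply, QuotientGroup.mk'_apply, QuotientGroup.eq]
    refine ⟨⁅(⟨b, hb⟩ : N)⁻¹, (⟨a, ha⟩ : N)⁻¹⁆, ?_, ?_⟩
    · rw [SetLike.mem_coe, commutator_eq_closure]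
      exact Subgroup.subset_closure (commutator_mem_commutatorSet _ _)
    · rw [commutatorElement_def]
      simp only [Subgroup.subtype_apply, Subgroup.coe_mul, Subgroup.coe_inv, inv_inv, mul_inv_rev]
      group
  have hsup := sup_zpowers_eq_top_of_index_prime N p hp.out hN x hx
  have h1 := card_eq_card_ker_mul_card_commutator (QuotientGroup.mk' N')
    (QuotientGroup.mk'_surjective N') N hA x hsup
  -- the kernel is the set in the statement
  have hker : Nat.card (commHom (QuotientGroup.mk' N') N hA x).ker =
      Nat.card {n : N // x * n * x⁻¹ * (n : G)⁻¹ ∈ N'} := by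
    apply Nat.card_congr
    apply Equiv.subtypeEquivRight
    intro n
    rw [MonoidHom.mem_ker, commHom_apply, QuotientGroup.mk'_apply, QuotientGroup.eq_one_iff]
  -- the commutator of the quotient
  have hcq : commutator (G ⧸ N') = (commutator G).map (QuotientGroup.mk' N') := by
    rw [commutator_def, commutator_def, Subgroup.map_commutator,
      Subgroup.map_top_of_surjective _ (QuotientGroup.mk'_surjective N')]
  have hN'le : N' ≤ commutator G := by
    rw [hN', commutator_def, commutator_def, Subgroup.map_commutator]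
    exact Subgroup.commutator_mono le_top le_top
  have hidx : (commutator (G ⧸ N')).index = (commutator G).index := by
    rw [hcq]
    apply Subgroup.index_map_eq _ (QuotientGroup.mk'_surjective N')
    rw [QuotientGroup.ker_mk']
    exact hN'le
  have h2 := Subgroup.card_mul_index (commutator (G ⧸ N'))
  rw [hidx] at h2
  have h3 := Subgroup.card_eq_card_quotient_mul_card_subgroup N'
  have h4 : Nat.card N' = Nat.card (commutator N) :=
    Subgroup.card_map_of_injective N.subtype_injective
  have h5 := Subgroup.card_mul_index N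
  rw [hN] at h5
  rw [hker] at h1
  have hkpos : 0 < Nat.card (commutator (G ⧸ N')) := Nat.card_pos
  rw [h4] at h3
  -- arithmetic
  set c := Nat.card {n : N // x * n * x⁻¹ * (n : G)⁻¹ ∈ N'}
  set k := Nat.card (commutator (G ⧸ N'))
  set idx := (commutator G).index
  set cN := Nat.card (commutator N)
  have h6 : c * p * k = idx * cN * k := by
    calc c * p * k = (c * k) * p := by ring
      _ = Nat.card N * p := by rw [← h1]
      _ = Nat.card G := h5
      _ = Nat.card (G ⧸ N') * cN := h3
      _ = (k * idx) * cN := by rw [h2]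
      _ = idx * cN * k := by ring
  exact Nat.eq_of_mul_eq_mul_right hkpos h6

end indexp


end Cfsg.Agent.Lib.H18
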