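import Mathlib
import Cfsg.Agent.Lib.H18.CommHom

set_option autoImplicit false

namespace Cfsg.Agent.Lib.H18

open scoped commutatorElement

section nilp

variable {G : Type*} [Group G]

theorem eq_bot_of_le_commutator_top [Group.IsNilpotent G] (H : Subgroup G)
    (h : H ≤ ⁅H, (⊤ : Subgroup G)⁆) : H = ⊥ := by
  have h1 : ∀ n, H ≤ (⊤ : Subgroup G).lowerCentralSeries n := by
    intro n
    induction n with
    | zero => exact le_top
    | succ n ih =>
      rw [Subgroup.lowerCentralSeries_succ]
      exact h.trans (Subgroup.commutator_mono ih le_rfl)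
  obtain ⟨n, hn⟩ := Subgroup.nilpotent_iff_lowerCentralSeries.1 (inferInstance : Group.IsNilpotent G)
  have := h1 n
  rw [hn] at this
  exact le_bot_iff.1 this

theorem le_center_of_normal_of_card_prime [Finite G] (p : ℕ) [hp : Fact p.Prime]
    (hG : IsPGroup p G) (N : Subgroup G) [N.Normal] (hN : Nat.card N = p) :
    N ≤ Subgroup.center G := by
  haveI : Group.IsNilpotent G := hG.isNilpotent
  rw [← Subgroup.commutator_top_right_eq_bot_iff_le_center]
  have hle : ⁅N, (⊤ : Subgroup G)⁆ ≤ N := Subgroup.commutator_le_left N ⊤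
  have hdvd := Subgroup.card_dvd_of_le hle
  rw [hN] at hdvd
  rcases (Nat.dvd_prime hp.out).1 hdvd with h1 | h1
  · exact Subgroup.card_eq_one.1 h1
  · exfalso
    have heq : ⁅N, (⊤ : Subgroup G)⁆ = N :=
      Subgroup.eq_of_le_of_card_ge hle (by rw [h1, hN])
    have := eq_bot_of_le_commutator_top N heq.ge
    rw [this, Subgroup.card_bot] at hN
    exact hp.out.one_lt.ne hN

end nilp

section cardtools

variable {G : Type*} [Group G] [Finite G]

/-- a subgroup of a group of order `p^n` has order `p^k` -/
theorem exists_card_eq_pow (p : ℕ) (hp : p.Prime) {n : ℕ} (hG : Nat.card G = p ^ n)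
    (H : Subgroup G) : ∃ k ≤ n, Nat.card H = p ^ k := by
  have h1 : Nat.card H ∣ p ^ n := hG ▸ Subgroup.card_subgroup_dvd_card H
  exact (Nat.dvd_prime_pow hp).1 h1

theorem card_lt_of_lt {H K : Subgroup G} (h : H < K) : Nat.card H < Nat.card K := by
  rcases lt_or_eq_of_le (Subgroup.card_le_of_le h.le) with h1 | h1
  · exact h1
  · exact absurd (Subgroup.eq_of_le_of_card_ge h.le h1.ge) h.ne

end cardtools

section p4a

variable {P : Type*} [Group P] [Finite P]

theorem mem_center_of_sup_eq_top {A : Subgroup P} {x z : P} (hsup : A ⊔ Subgroup.zpowers x = ⊤)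
    (hA : ∀ a ∈ A, a * z = z * a) (hx : x * z = z * x) : z ∈ Subgroup.center P := by
  have h1 : A ⊔ Subgroup.zpowers x ≤ Subgroup.centralizer {z} := by
    apply sup_le
    · intro a ha
      rw [Subgroup.mem_centralizer_iff]
      intro h hh
      rw [Set.mem_singleton_iff] at hh
      subst hh
      exact (hA a ha).symm
    · rw [Subgroup.zpowers_le, Subgroup.mem_centralizer_iff]
      intro h hh
      rw [Set.mem_singleton_iff] at hh
      subst hh
      exact hx.symm
  rw [hsup] at h1
  rw [Subgroup.mem_center_iff]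
  intro g
  have := h1 (Subgroup.mem_top g)
  rw [Subgroup.mem_centralizer_iff] at this
  exact (this z rfl).symm

theorem card_commutator_of_index_center (p : ℕ) [hp : Fact p.Prime] (hP : Nat.card P = p ^ 4)
    (hZ : (Subgroup.center P).index = p ^ 2) : Nat.card (commutator P) = p := by
  have hpp := hp.out
  have hZcard : Nat.card (Subgroup.center P) = p ^ 2 := by
    have := Subgroup.card_mul_index (Subgroup.center P)
    rw [hZ, hP] at this
    have h2 : Nat.card (Subgroup.center P) * p ^ 2 = p ^ 2 * p ^ 2 := by rw [this]; ring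
    exact Nat.eq_of_mul_eq_mul_right (pow_pos hpp.pos 2) h2
  -- an element outside the centre
  obtain ⟨a, ha⟩ : ∃ a : P, a ∉ Subgroup.center P := by
    by_contra hcon
    push Not at hcon
    have : Subgroup.center P = ⊤ := by rw [eq_top_iff]; intro g _; exact hcon g
    rw [this, Subgroup.index_top] at hZ
    have : 1 < p ^ 2 := Nat.one_lt_pow (by norm_num) hpp.one_lt
    omega
  set N := Subgroup.centralizer ({a} : Set P) with hNdef
  have hZN : Subgroup.center P ≤ N := Subgroup.center_le_centralizer _
  have haN : a ∈ N := by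
    rw [Subgroup.mem_centralizer_iff]
    intro h hh
    rw [Set.mem_singleton_iff] at hh
    rw [hh]
  have hNtop : N ≠ ⊤ := by
    intro h
    apply ha
    rw [Subgroup.mem_center_iff]
    intro g
    have : g ∈ N := h ▸ Subgroup.mem_top g
    rw [Subgroup.mem_centralizer_iff] at this
    exact (this a rfl).symm
  have hZltN : Subgroup.center P < N := lt_of_le_of_ne hZN (fun h => ha (h ▸ haN))
  obtain ⟨k, hk4, hk⟩ := exists_card_eq_pow p hpp hP N
  have hk3 : k = 3 := by
    have h1 := card_lt_of_lt hZltN
    rw [hZcard, hk] at h1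
    have h2 : 2 < k := (Nat.pow_lt_pow_iff_right hpp.one_lt).1 h1
    have h3 : N < ⊤ := lt_top_iff_ne_top.2 hNtop
    have h4 := card_lt_of_lt h3
    rw [hk, Subgroup.card_top, hP] at h4
    have h5 : k < 4 := (Nat.pow_lt_pow_iff_right hpp.one_lt).1 h4
    omega
  subst hk3
  have hNidx : N.index = p := by
    have := Subgroup.card_mul_index N
    rw [hk, hP] at this
    have h2 : p ^ 3 * N.index = p ^ 3 * p := by rw [this]; ring
    exact Nat.eq_of_mul_eq_mul_left (pow_pos hpp.pos 3) h2
  haveI hNn : N.Normal := by
    apply Subgroup.normal_of_index_eq_minFac_card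
    rw [hNidx, hP, Nat.Prime.pow_minFac hpp (by norm_num)]
  -- `N` is abelian
  have hNab : ∀ u ∈ N, ∀ v ∈ N, u * v = v * u := by
    set K := (Subgroup.center N).map N.subtype with hK
    have hKN : K ≤ N := by
      rintro _ ⟨u, _, rfl⟩
      exact u.2
    have hZK : Subgroup.center P ≤ K := by
      intro z hz
      refine ⟨⟨z, hZN hz⟩, ?_, rfl⟩
      rw [SetLike.mem_coe, Subgroup.mem_center_iff]
      intro g
      apply Subtype.ext
      exact Subgroup.mem_center_iff.1 hz g
    have haK : a ∈ K := by
      refine ⟨⟨a, haN⟩, ?_, rfl⟩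
      rw [SetLike.mem_coe, Subgroup.mem_center_iff]
      intro g
      apply Subtype.ext
      have := g.2
      rw [Subgroup.mem_centralizer_iff] at this
      exact (this a rfl).symm
    have hZltK : Subgroup.center P < K := lt_of_le_of_ne hZK (fun h => ha (h ▸ haK))
    obtain ⟨j, _, hj⟩ := exists_card_eq_pow p hpp hP K
    have h1 := card_lt_of_lt hZltK
    rw [hZcard, hj] at h1
    have h2 : 2 < j := (Nat.pow_lt_pow_iff_right hpp.one_lt).1 h1
    have h3 := Subgroup.card_le_of_le hKN
    rw [hj, hk] at h3
    have h4 : j ≤ 3 := (Nat.pow_le_pow_iff_right hpp.one_lt).1 h3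
    have hj3 : j = 3 := by omega
    have hKeq : K = N := Subgroup.eq_of_le_of_card_ge hKN (by rw [hj, hk, hj3])
    intro u hu v hv
    rw [← hKeq] at hu
    obtain ⟨u', hu', rfl⟩ := hu
    have := Subgroup.mem_center_iff.1 hu' ⟨v, hv⟩
    exact (congrArg Subtype.val this).symm
  -- an element outside `N`
  obtain ⟨x, hx⟩ : ∃ x : P, x ∉ N := by
    by_contra hcon
    push Not at hcon
    exact hNtop (by rw [eq_top_iff]; intro g _; exact hcon g)
  have hsup := sup_zpowers_eq_top_of_index_prime N p hpp hNidx x hx
  have hA : ∀ u ∈ N, ∀ v ∈ N, (MonoidHom.id P) (u * v) = (MonoidHom.id P) (v * u) := by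
    intro u hu v hv
    simp only [MonoidHom.id_apply]
    exact hNab u hu v hv
  have h1 := card_eq_card_ker_mul_card_commutator (MonoidHom.id P) Function.surjective_id N hA x
    hsup
  -- the kernel is the centre
  have hker : (commHom (MonoidHom.id P) N hA x).ker.map N.subtype = Subgroup.center P := by
    apply le_antisymm
    · rintro _ ⟨n, hn, rfl⟩
      rw [SetLike.mem_coe, MonoidHom.mem_ker, commHom_apply, MonoidHom.id_apply] at hn
      apply mem_center_of_sup_eq_top hsup
      · intro u hu
        exact hNab u hu n n.2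
      · have : x * (n : P) * x⁻¹ = n := by
          rw [mul_inv_eq_one] at hn
          exact hn
        simp only [Subgroup.subtype_apply]
        calc x * (n : P) = x * n * x⁻¹ * x := by group
          _ = n * x := by rw [this]
    · intro z hz
      refine ⟨⟨z, hZN hz⟩, ?_, rfl⟩
      rw [SetLike.mem_coe, MonoidHom.mem_ker, commHom_apply, MonoidHom.id_apply]
      have := Subgroup.mem_center_iff.1 hz x
      simp only
      rw [this]
      group
  have hkercard : Nat.card (commHom (MonoidHom.id P) N hA x).ker = p ^ 2 := by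
    rw [← Subgroup.card_map_of_injective N.subtype_injective, hker, hZcard]
  rw [hk, hkercard] at h1
  have h2 : p ^ 2 * Nat.card (commutator P) = p ^ 2 * p := by rw [← h1]; ring
  exact Nat.eq_of_mul_eq_mul_left (pow_pos hpp.pos 2) h2

end p4a

section p4b

variable {P : Type*} [Group P]

/-- `g ↦ ⁅g, a⁆` is a homomorphism when commutators are central -/
def commLeftHom (hc : commutator P ≤ Subgroup.center P) (a : P) : P →* P where
  toFun g := g * a * g⁻¹ * a⁻¹
  map_one' := by simp
  map_mul' := by
    intro g h
    have hmem : ∀ u : P, u * a * u⁻¹ * a⁻¹ ∈ Subgroup.center P := by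
      intro u
      apply hc
      rw [commutator_eq_closure]
      exact Subgroup.subset_closure ⟨u, a, rfl⟩
    have h1 := Subgroup.mem_center_iff.1 (hmem h)
    calc g * h * a * (g * h)⁻¹ * a⁻¹ = g * (h * a * h⁻¹ * a⁻¹) * (a * g⁻¹ * a⁻¹) := by group
      _ = (h * a * h⁻¹ * a⁻¹) * g * (a * g⁻¹ * a⁻¹) := by rw [h1 g]
      _ = (h * a * h⁻¹ * a⁻¹) * (g * a * g⁻¹ * a⁻¹) := by group
      _ = (g * a * g⁻¹ * a⁻¹) * (h * a * h⁻¹ * a⁻¹) := (h1 _).symm

theorem commLeftHom_ker (hc : commutator P ≤ Subgroup.center P) (a : P) :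
    (commLeftHom hc a).ker = Subgroup.centralizer {a} := by
  ext g
  rw [MonoidHom.mem_ker, Subgroup.mem_centralizer_iff]
  change g * a * g⁻¹ * a⁻¹ = 1 ↔ _
  constructor
  · intro h x hx
    rw [Set.mem_singleton_iff] at hx
    subst hx
    rw [mul_inv_eq_one, mul_inv_eq_iff_eq_mul] at h
    exact h.symm
  · intro h
    have := h a rfl
    rw [mul_inv_eq_one, mul_inv_eq_iff_eq_mul]
    exact this.symm

theorem commLeftHom_range_le (hc : commutator P ≤ Subgroup.center P) (a : P) :
    (commLeftHom hc a).range ≤ commutator P := by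
  rintro _ ⟨g, rfl⟩
  rw [commutator_eq_closure]
  exact Subgroup.subset_closure ⟨g, a, rfl⟩

end p4b

section p4c

variable {P : Type*} [Group P] [Finite P]

theorem index_center_of_card_commutator (p : ℕ) [hp : Fact p.Prime] (hP : Nat.card P = p ^ 4)
    (h : Nat.card (commutator P) = p) : (Subgroup.center P).index = p ^ 2 := by
  have hpp := hp.out
  have hPp : IsPGroup p P := IsPGroup.of_card hP
  have hc : commutator P ≤ Subgroup.center P :=
    le_center_of_normal_of_card_prime p hPp (commutator P) h
  -- a non-commuting pair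
  obtain ⟨a, b, hab⟩ : ∃ a b : P, a * b ≠ b * a := by
    by_contra hcon
    push Not at hcon
    have : commutator P = ⊥ := by
      rw [commutator_eq_closure, Subgroup.closure_eq_bot_iff]
      rintro _ ⟨g₁, g₂, rfl⟩
      rw [Set.mem_singleton_iff, commutatorElement_eq_one_iff_mul_comm]
      exact hcon g₁ g₂
    rw [this, Subgroup.card_bot] at h
    exact hpp.one_lt.ne h
  have hidx : ∀ u v : P, u * v ≠ v * u → (Subgroup.centralizer ({u} : Set P)).index = p := by
    intro u v huv
    rw [← commLeftHom_ker hc u, Subgroup.index_ker]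
    have h1 := Subgroup.card_dvd_of_le (commLeftHom_range_le hc u)
    rw [h] at h1
    rcases (Nat.dvd_prime hpp).1 h1 with h2 | h2
    · exfalso
      have h3 : (commLeftHom hc u).range = ⊥ := Subgroup.card_eq_one.1 h2
      have hv : commLeftHom hc u v ∈ (commLeftHom hc u).range := ⟨v, rfl⟩
      rw [h3, Subgroup.mem_bot] at hv
      have h4 : v ∈ (commLeftHom hc u).ker := hv
      rw [commLeftHom_ker, Subgroup.mem_centralizer_iff] at h4
      exact huv (h4 u rfl)
    · exact h2
  set Ca := Subgroup.centralizer ({a} : Set P) with hCadef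
  set Cb := Subgroup.centralizer ({b} : Set P) with hCbdef
  have hCa : Ca.index = p := hidx a b hab
  have hCb : Cb.index = p := hidx b a hab.symm
  have haCa : a ∈ Ca := by
    rw [Subgroup.mem_centralizer_iff]
    intro x hx; rw [Set.mem_singleton_iff] at hx; rw [hx]
  have haCb : a ∉ Cb := by
    intro h1
    rw [Subgroup.mem_centralizer_iff] at h1
    exact hab.symm (h1 b rfl)
  have hbCa : b ∉ Ca := by
    intro h1
    rw [Subgroup.mem_centralizer_iff] at h1
    exact hab (h1 a rfl)
  have hbCb : b ∈ Cb := by
    rw [Subgroup.mem_centralizer_iff]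
    intro x hx; rw [Set.mem_singleton_iff] at hx; rw [hx]
  have hCacard : Nat.card Ca = p ^ 3 := by
    have := Subgroup.card_mul_index Ca
    rw [hCa, hP] at this
    have h2 : Nat.card Ca * p = p ^ 3 * p := by rw [this]; ring
    exact Nat.eq_of_mul_eq_mul_right hpp.pos h2
  set D := Ca ⊓ Cb with hD
  have hDCa : D < Ca :=
    lt_of_le_of_ne inf_le_left (fun h1 => haCb (Subgroup.mem_inf.1 (h1 ▸ haCa : a ∈ D)).2)
  obtain ⟨j, _, hj⟩ := exists_card_eq_pow p hpp hP D
  have hj2 : j = 2 := by
    have h1 := card_lt_of_lt hDCa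
    rw [hj, hCacard] at h1
    have h2 : j < 3 := (Nat.pow_lt_pow_iff_right hpp.one_lt).1 h1
    have h3 : D.index ≤ p * p := by
      have := Subgroup.index_inf_le (H := Ca) (K := Cb)
      rwa [hCa, hCb] at this
    have h4 := Subgroup.card_mul_index D
    rw [hj, hP] at h4
    have h5 : p ^ 4 ≤ p ^ j * (p * p) := by
      rw [← h4]; exact Nat.mul_le_mul_left _ h3
    have h6 : p ^ j * (p * p) = p ^ (j + 2) := by ring
    rw [h6] at h5
    have h7 : 4 ≤ j + 2 := (Nat.pow_le_pow_iff_right hpp.one_lt).1 h5
    omega
  subst hj2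
  -- `Ca = D ⊔ ⟨a⟩`
  have hCaeq : D ⊔ Subgroup.zpowers a = Ca := by
    have hle : D ⊔ Subgroup.zpowers a ≤ Ca := sup_le inf_le_left (by rwa [Subgroup.zpowers_le])
    have hlt : D < D ⊔ Subgroup.zpowers a := by
      refine lt_of_le_of_ne le_sup_left (fun h1 => ?_)
      have : a ∈ D := h1 ▸ (le_sup_right : Subgroup.zpowers a ≤ _) (Subgroup.mem_zpowers a)
      exact haCb (Subgroup.mem_inf.1 this).2
    obtain ⟨i, _, hi⟩ := exists_card_eq_pow p hpp hP (D ⊔ Subgroup.zpowers a)
    have h1 := card_lt_of_lt hlt
    rw [hj, hi] at h1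
    have h2 : 2 < i := (Nat.pow_lt_pow_iff_right hpp.one_lt).1 h1
    apply Subgroup.eq_of_le_of_card_ge hle
    rw [hCacard, hi]
    exact Nat.pow_le_pow_right hpp.pos h2
  have htop : Ca ⊔ Subgroup.zpowers b = ⊤ :=
    sup_zpowers_eq_top_of_index_prime Ca p hpp hCa b hbCa
  -- `D` is abelian
  have hDab : IsMulCommutative D := IsPGroup.isMulCommutative_of_card_eq_prime_sq hj
  -- `D` is central
  have hDZ : D ≤ Subgroup.center P := by
    intro d hd
    apply mem_center_of_sup_eq_top htop
    · -- elements of `Ca` commute with `d`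
      have h1 : D ⊔ Subgroup.zpowers a ≤ Subgroup.centralizer {d} := by
        apply sup_le
        · intro u hu
          rw [Subgroup.mem_centralizer_iff]
          intro x hx
          rw [Set.mem_singleton_iff] at hx
          subst hx
          have := hDab.is_comm.comm (⟨x, hd⟩ : D) ⟨u, hu⟩
          exact congrArg Subtype.val this
        · rw [Subgroup.zpowers_le, Subgroup.mem_centralizer_iff]
          intro x hx
          rw [Set.mem_singleton_iff] at hx
          subst hx
          have hxa : x ∈ Ca := (Subgroup.mem_inf.1 hd).1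
          rw [Subgroup.mem_centralizer_iff] at hxa
          exact (hxa a rfl).symm
      rw [hCaeq] at h1
      intro u hu
      have := h1 hu
      rw [Subgroup.mem_centralizer_iff] at this
      exact (this d rfl).symm
    · have hdb : d ∈ Cb := (Subgroup.mem_inf.1 hd).2
      rw [Subgroup.mem_centralizer_iff] at hdb
      exact hdb b rfl
  -- conclusion
  obtain ⟨k, hk4, hk⟩ := exists_card_eq_pow p hpp hP (Subgroup.center P)
  have hk2 : 2 ≤ k := by
    have := Subgroup.card_le_of_le hDZ
    rw [hj, hk] at this
    exact (Nat.pow_le_pow_iff_right hpp.one_lt).1 this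
  have hZtop : Subgroup.center P ≠ ⊤ := by
    intro h1
    have : a ∈ Subgroup.center P := h1 ▸ Subgroup.mem_top a
    exact hab.symm (Subgroup.mem_center_iff.1 this b)
  have hk4' : k ≠ 4 := by
    rintro rfl
    apply hZtop
    apply Subgroup.eq_of_le_of_card_ge le_top
    rw [Subgroup.card_top, hP, hk]
  have hidxZ : (Subgroup.center P).index * p ^ k = p ^ 4 := by
    have := Subgroup.card_mul_index (Subgroup.center P)
    rw [hk, hP] at this
    rw [mul_comm]; exact this
  have hk3 : k ≠ 3 := by
    rintro rfl
    have hi : (Subgroup.center P).index = p := by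
      have h2 : (Subgroup.center P).index * p ^ 3 = p * p ^ 3 := by rw [hidxZ]; ring
      exact Nat.eq_of_mul_eq_mul_right (pow_pos hpp.pos 3) h2
    have hcard : Nat.card (P ⧸ Subgroup.center P) = p := by
      rw [← Subgroup.index_eq_card, hi]
    haveI : IsCyclic (P ⧸ Subgroup.center P) := isCyclic_of_prime_card hcard
    have hcomm := MonoidHom.isMulCommutative_of_isCyclic_of_ker_le_center
      (QuotientGroup.mk' (Subgroup.center P)) (by rw [QuotientGroup.ker_mk'])
    exact hab (hcomm.is_comm.comm a b)
  have hk2' : k = 2 := by omega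
  subst hk2'
  have h2 : (Subgroup.center P).index * p ^ 2 = p ^ 2 * p ^ 2 := by rw [hidxZ]; ring
  exact Nat.eq_of_mul_eq_mul_right (pow_pos hpp.pos 2) h2

end p4c

section p4d

variable {P : Type*} [Group P]

theorem lcs_eq_bot_of_succ_eq [Group.IsNilpotent P] (n : ℕ)
    (h : (⊤ : Subgroup P).lowerCentralSeries (n + 1) = (⊤ : Subgroup P).lowerCentralSeries n) :
    (⊤ : Subgroup P).lowerCentralSeries n = ⊥ := by
  apply eq_bot_of_le_commutator_top
  rw [← Subgroup.lowerCentralSeries_succ, h]

/-- if `P/P'` is cyclic then `P' ≤ γ₃` -/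
theorem commutator_le_lcs_two_of_isCyclic (hcyc : IsCyclic (P ⧸ commutator P)) :
    commutator P ≤ (⊤ : Subgroup P).lowerCentralSeries 2 := by
  set L1 := commutator P with hL1
  set L2 := (⊤ : Subgroup P).lowerCentralSeries 2 with hL2
  have hL2' : L2 = ⁅L1, (⊤ : Subgroup P)⁆ := by
    rw [hL2, Subgroup.lowerCentralSeries_succ, Subgroup.top_lowerCentralSeries_one]
  have hle : L2 ≤ L1 := by
    rw [hL2']; exact Subgroup.commutator_le_left L1 ⊤
  let f : P ⧸ L2 →* P ⧸ L1 := QuotientGroup.map L2 L1 (MonoidHom.id P) hle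
  have hker : f.ker ≤ Subgroup.center (P ⧸ L2) := by
    intro q hq
    induction q using QuotientGroup.induction_on with
    | H g =>
      rw [MonoidHom.mem_ker] at hq
      have hg : g ∈ L1 := by
        have : (QuotientGroup.mk g : P ⧸ L1) = 1 := hq
        exact (QuotientGroup.eq_one_iff g).1 this
      rw [Subgroup.mem_center_iff]
      intro r
      induction r using QuotientGroup.induction_on with
      | H h =>
        rw [← QuotientGroup.mk_mul, ← QuotientGroup.mk_mul, QuotientGroup.eq]
        have : (h * g)⁻¹ * (g * h) = ⁅g⁻¹, h⁻¹⁆ := by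
          rw [commutatorElement_def]; group
        rw [this, hL2']
        exact Subgroup.commutator_mem_commutator (L1.inv_mem hg) (Subgroup.mem_top _)
  have hcomm := MonoidHom.isMulCommutative_of_isCyclic_of_ker_le_center f hker
  rw [hL1, commutator_eq_closure, Subgroup.closure_le]
  rintro _ ⟨g, h, rfl⟩
  rw [SetLike.mem_coe, ← QuotientGroup.eq_one_iff, commutatorElement_def]
  simp only [QuotientGroup.mk_mul, QuotientGroup.mk_inv]
  rw [hcomm.is_comm.comm (QuotientGroup.mk g : P ⧸ L2) (QuotientGroup.mk h)]
  group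

end p4d

section p4e

variable {P : Type*} [Group P] [Finite P]

theorem index_commutator_iff_class_three (p : ℕ) [hp : Fact p.Prime] (hP : Nat.card P = p ^ 4) :
    (commutator P).index = p ^ 2 ↔ Group.nilpotencyClass P = 3 := by
  have hpp := hp.out
  have hPp : IsPGroup p P := IsPGroup.of_card hP
  haveI : Group.IsNilpotent P := hPp.isNilpotent
  have hclass : Group.nilpotencyClass P = 3 ↔
      ((⊤ : Subgroup P).lowerCentralSeries 3 = ⊥ ∧ (⊤ : Subgroup P).lowerCentralSeries 2 ≠ ⊥) := by
    rw [Subgroup.lowerCentralSeries_eq_bot_iff_nilpotencyClass_le, Ne,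
      Subgroup.lowerCentralSeries_eq_bot_iff_nilpotencyClass_le]
    omega
  rw [hclass]
  have hL1 : (⊤ : Subgroup P).lowerCentralSeries 1 = commutator P :=
    Subgroup.top_lowerCentralSeries_one
  have hL2 : (⊤ : Subgroup P).lowerCentralSeries 2 = ⁅commutator P, (⊤ : Subgroup P)⁆ := by
    rw [Subgroup.lowerCentralSeries_succ, hL1]
  have hL3 : (⊤ : Subgroup P).lowerCentralSeries 3 =
      ⁅(⊤ : Subgroup P).lowerCentralSeries 2, (⊤ : Subgroup P)⁆ := by
    rw [Subgroup.lowerCentralSeries_succ]
  have hL21 : (⊤ : Subgroup P).lowerCentralSeries 2 ≤ commutator P := by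
    rw [hL2]; exact Subgroup.commutator_le_left _ ⊤
  -- commutativity kills the commutator
  have hcomm_bot : (∀ a b : P, a * b = b * a) → commutator P = ⊥ := by
    intro hc
    rw [commutator_eq_closure, Subgroup.closure_eq_bot_iff]
    rintro _ ⟨g₁, g₂, rfl⟩
    rw [Set.mem_singleton_iff, commutatorElement_eq_one_iff_mul_comm]
    exact hc g₁ g₂
  constructor
  · intro hidx
    have hcard : Nat.card (commutator P) = p ^ 2 := by
      have := Subgroup.card_mul_index (commutator P)
      rw [hidx, hP] at this
      have h2 : Nat.card (commutator P) * p ^ 2 = p ^ 2 * p ^ 2 := by rw [this]; ring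
      exact Nat.eq_of_mul_eq_mul_right (pow_pos hpp.pos 2) h2
    have hne1 : commutator P ≠ ⊥ := by
      intro h
      rw [h, Subgroup.card_bot] at hcard
      have : 1 < p ^ 2 := Nat.one_lt_pow (by norm_num) hpp.one_lt
      omega
    have hL2ne : (⊤ : Subgroup P).lowerCentralSeries 2 ≠ ⊥ := by
      intro h
      rw [hL2, Subgroup.commutator_top_right_eq_bot_iff_le_center] at h
      obtain ⟨k, hk4, hk⟩ := exists_card_eq_pow p hpp hP (Subgroup.center P)
      have hk2 : 2 ≤ k := by
        have := Subgroup.card_le_of_le h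
        rw [hcard, hk] at this
        exact (Nat.pow_le_pow_iff_right hpp.one_lt).1 this
      have hidxZ : (Subgroup.center P).index * p ^ k = p ^ 4 := by
        have := Subgroup.card_mul_index (Subgroup.center P)
        rw [hk, hP] at this
        rw [mul_comm]; exact this
      rcases (by omega : k = 2 ∨ k = 3 ∨ k = 4) with rfl | rfl | rfl
      · have h2 : (Subgroup.center P).index * p ^ 2 = p ^ 2 * p ^ 2 := by rw [hidxZ]; ring
        have hi := Nat.eq_of_mul_eq_mul_right (pow_pos hpp.pos 2) h2
        have := card_commutator_of_index_center p hP hi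
        rw [hcard] at this
        have h3 : p ^ 2 = p ^ 1 := by rw [this, pow_one]
        have := Nat.pow_right_injective hpp.two_le h3
        omega
      · have h2 : (Subgroup.center P).index * p ^ 3 = p * p ^ 3 := by rw [hidxZ]; ring
        have hi := Nat.eq_of_mul_eq_mul_right (pow_pos hpp.pos 3) h2
        have hcardq : Nat.card (P ⧸ Subgroup.center P) = p := by
          rw [← Subgroup.index_eq_card, hi]
        haveI : IsCyclic (P ⧸ Subgroup.center P) := isCyclic_of_prime_card hcardq
        have hc := MonoidHom.isMulCommutative_of_isCyclic_of_ker_le_center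
          (QuotientGroup.mk' (Subgroup.center P)) (by rw [QuotientGroup.ker_mk'])
        exact hne1 (hcomm_bot hc.is_comm.comm)
      · have : Subgroup.center P = ⊤ := by
          apply Subgroup.eq_of_le_of_card_ge le_top
          rw [Subgroup.card_top, hP, hk]
        apply hne1
        apply hcomm_bot
        intro a b
        have ha : a ∈ Subgroup.center P := this ▸ Subgroup.mem_top a
        exact (Subgroup.mem_center_iff.1 ha b).symm
    refine ⟨?_, hL2ne⟩
    -- `γ₃` has order `p`, hence is central
    have hlt : (⊤ : Subgroup P).lowerCentralSeries 2 < commutator P := by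
      refine lt_of_le_of_ne hL21 (fun h => ?_)
      have := lcs_eq_bot_of_succ_eq (P := P) 1 (by rw [hL1]; exact h)
      rw [hL1] at this
      exact hne1 this
    obtain ⟨j, _, hj⟩ := exists_card_eq_pow p hpp hP ((⊤ : Subgroup P).lowerCentralSeries 2)
    have hj2 : j < 2 := by
      have := card_lt_of_lt hlt
      rw [hj, hcard] at this
      exact (Nat.pow_lt_pow_iff_right hpp.one_lt).1 this
    rcases (by omega : j = 0 ∨ j = 1) with rfl | rfl
    · exfalso
      rw [pow_zero] at hj
      exact hL2ne (Subgroup.card_eq_one.1 hj)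
    · rw [pow_one] at hj
      rw [hL3, Subgroup.commutator_top_right_eq_bot_iff_le_center]
      exact le_center_of_normal_of_card_prime p hPp _ hj
  · rintro ⟨h3, h2⟩
    -- strict chain
    have hne21 : (⊤ : Subgroup P).lowerCentralSeries 2 ≠ commutator P := by
      intro h
      have := lcs_eq_bot_of_succ_eq (P := P) 1 (by rw [hL1]; exact h)
      rw [hL1] at this
      apply h2
      rw [h, this]
    have hlt : (⊤ : Subgroup P).lowerCentralSeries 2 < commutator P := lt_of_le_of_ne hL21 hne21
    obtain ⟨j, _, hj⟩ := exists_card_eq_pow p hpp hP ((⊤ : Subgroup P).lowerCentralSeries 2)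
    have hj1 : 1 ≤ j := by
      rcases Nat.eq_zero_or_pos j with rfl | h
      · rw [pow_zero] at hj
        exact absurd (Subgroup.card_eq_one.1 hj) h2
      · exact h
    obtain ⟨i, hi4, hi⟩ := exists_card_eq_pow p hpp hP (commutator P)
    have hij : j < i := by
      have := card_lt_of_lt hlt
      rw [hj, hi] at this
      exact (Nat.pow_lt_pow_iff_right hpp.one_lt).1 this
    have hidx : (commutator P).index * p ^ i = p ^ 4 := by
      have := Subgroup.card_mul_index (commutator P)
      rw [hi, hP] at this
      rw [mul_comm]; exact this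
    -- `i ≤ 2`
    have hi2 : i ≤ 2 := by
      by_contra hcon
      have hnotcyc : ¬ IsCyclic (P ⧸ commutator P) := by
        intro hcyc
        have := commutator_le_lcs_two_of_isCyclic hcyc
        exact hne21 (le_antisymm hL21 this)
      rcases (by omega : i = 3 ∨ i = 4) with rfl | rfl
      · have h5 : (commutator P).index * p ^ 3 = p * p ^ 3 := by rw [hidx]; ring
        have hi' := Nat.eq_of_mul_eq_mul_right (pow_pos hpp.pos 3) h5
        have hcardq : Nat.card (P ⧸ commutator P) = p := by
          rw [← Subgroup.index_eq_card, hi']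
        exact hnotcyc (isCyclic_of_prime_card hcardq)
      · have h5 : (commutator P).index * p ^ 4 = 1 * p ^ 4 := by rw [hidx]; ring
        have hi' := Nat.eq_of_mul_eq_mul_right (pow_pos hpp.pos 4) h5
        have hcardq : Nat.card (P ⧸ commutator P) = 1 := by
          rw [← Subgroup.index_eq_card, hi']
        apply hnotcyc
        haveI : Subsingleton (P ⧸ commutator P) := (Nat.card_eq_one_iff_unique.1 hcardq).1
        exact isCyclic_of_subsingleton
    have hi2' : i = 2 := by omega
    subst hi2'
    have h5 : (commutator P).index * p ^ 2 = p ^ 2 * p ^ 2 := by rw [hidx]; ring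
    exact Nat.eq_of_mul_eq_mul_right (pow_pos hpp.pos 2) h5

end p4e

end Cfsg.Agent.Lib.H18
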