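import Cfsg.Agent.Lib.H24.GlaubSolv5
import Cfsg.Agent.Lib.H24.GlaubOver5

/-!
# S3016 (I), the counting finish (helper18)

Inside a finite group `Γ`: `H` a solvable subgroup normalising `Y`, `(|Y|, |H|) = 1`.  If every
`H`-invariant irreducible character of `Y` has `⁅Y, H⁆` in its kernel, then
`C_{⁅Y,H⁆}(H) = 1`.
-/

set_option autoImplicit false

universe u

namespace Cfsg.Agent.Lib.H18.SH16

open Cfsg Cfsg.Agent.Lib.L0 Cfsg.Agent.Lib.H24 Cfsg.Agent.Lib.H24.Glaub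
open scoped commutatorElement

variable {Γ : Type u} [Group Γ]

/-- `⁅Y, H⁆ ≤ Y` when `H` normalises `Y` -/
theorem comm_le_left (Y H : Subgroup Γ) (hnorm : ∀ h ∈ H, ∀ y ∈ Y, h * y * h⁻¹ ∈ Y) :
    ⁅Y, H⁆ ≤ Y := by
  rw [Subgroup.commutator_le]
  intro y hy h hh
  have h1 : (⁅y, h⁆ : Γ) = y * (h * y⁻¹ * h⁻¹) := by
    rw [commutatorElement_def]
    group
  rw [h1]
  exact Y.mul_mem hy (hnorm h hh _ (Y.inv_mem hy))

/-- a nontrivial group has at least two conjugacy classes -/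
theorem two_le_card_conjClasses {K : Type*} [Group K] [Finite K] {z : K} (hz : z ≠ 1) :
    2 ≤ Nat.card (ConjClasses K) := by
  classical
  have : Fintype (ConjClasses K) := Fintype.ofFinite _
  rw [Nat.card_eq_fintype_card]
  have hne : ConjClasses.mk (1 : K) ≠ ConjClasses.mk z := by
    intro h
    rw [ConjClasses.mk_eq_mk_iff_isConj, isConj_iff] at h
    obtain ⟨c, hc⟩ := h
    apply hz
    rw [← hc]
    group
  have := Fintype.one_lt_card_iff_nontrivial.2 ⟨⟨_, _, hne⟩⟩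
  omega

/-- in a type with at least two elements there is one different from a given one -/
theorem exists_ne_of_two_le {α : Type*} [Finite α] (h : 2 ≤ Nat.card α) (a : α) : ∃ b : α, b ≠ a := by
  classical
  have : Fintype α := Fintype.ofFinite _
  rw [Nat.card_eq_fintype_card] at h
  have h1 : 1 < Fintype.card α := by omega
  exact Fintype.exists_ne_of_one_lt_card h1 a

/-- the counting finish -/
theorem finish [Fintype Γ] (Y H : Subgroup Γ) (hnorm : ∀ h ∈ H, ∀ y ∈ Y, h * y * h⁻¹ ∈ Y)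
    (hcop : (Nat.card Y).Coprime (Nat.card H)) (hsolv : Group.IsSolvable H)
    (hP : ∀ θ : IrrCharacter Y, (∀ s ∈ H, InvUnder Y s (θ : Y → ℂ)) →
      ∀ z : Y, (z : Γ) ∈ ⁅Y, H⁆ → (θ : Y → ℂ) z = (θ : Y → ℂ) 1) :
    ⁅Y, H⁆ ⊓ Subgroup.centralizer (H : Set Γ) = ⊥ := by
  classical
  by_contra hne
  -- the data of `Y₁ = ⁅Y, H⁆`
  have hY1Y : ⁅Y, H⁆ ≤ Y := comm_le_left Y H hnorm
  have hNn : ∀ g ∈ Y, ∀ m ∈ ⁅Y, H⁆, g * m * g⁻¹ ∈ ⁅Y, H⁆ := by
    intro g hg m hm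
    have h1 := Subgroup.normalizer_commutator_ge_left (H₁ := Y) (H₂ := H) hg
    exact (Subgroup.mem_normalizer_iff.1 h1 m).1 hm
  have hNS : ∀ s ∈ H, ∀ m ∈ ⁅Y, H⁆, s * m * s⁻¹ ∈ ⁅Y, H⁆ := by
    intro s hs m hm
    have h1 := Subgroup.normalizer_commutator_ge_right (H₁ := Y) (H₂ := H) hs
    exact (Subgroup.mem_normalizer_iff.1 h1 m).1 hm
  have hcop1 : (Nat.card ↥⁅Y, H⁆).Coprime (Nat.card H) :=
    Nat.Coprime.coprime_dvd_left (Subgroup.card_dvd_of_le hY1Y) hcop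
  -- a nontrivial element of `C_{Y₁}(H)`
  obtain ⟨z, hz, hz1⟩ : ∃ z ∈ ⁅Y, H⁆ ⊓ Subgroup.centralizer (H : Set Γ), z ≠ 1 := by
    by_contra hall
    push Not at hall
    exact hne ((Subgroup.eq_bot_iff_forall _).2 hall)
  -- count
  have hcount := solv_count_cent ⁅Y, H⁆ H hNS hcop1 hsolv
  have h2 : 2 ≤ Nat.card (ConjClasses ↥(⁅Y, H⁆ ⊓ Subgroup.centralizer (H : Set Γ))) := by
    apply two_le_card_conjClasses (z := ⟨z, hz⟩)
    intro h
    exact hz1 (congrArg Subtype.val h)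
  rw [← hcount] at h2
  -- the trivial character is `H`-invariant
  have htriv : ∀ s ∈ H, InvUnder ⁅Y, H⁆ s
      ((⟨fun _ => (1 : ℂ), H24.isIrrCharacter_one⟩ : IrrCharacter ↥⁅Y, H⁆) : ↥⁅Y, H⁆ → ℂ) :=
    fun s _ g g' _ => rfl
  have : Finite {χ : IrrCharacter ↥⁅Y, H⁆ // ∀ s ∈ H, InvUnder ⁅Y, H⁆ s (χ : ↥⁅Y, H⁆ → ℂ)} :=
    haveI := finite_irr (G := ↥⁅Y, H⁆)
    Subtype.finite
  obtain ⟨⟨θ1, hθ1⟩, hθne⟩ := exists_ne_of_two_le h2
    ⟨(⟨fun _ => (1 : ℂ), H24.isIrrCharacter_one⟩ : IrrCharacter ↥⁅Y, H⁆), htriv⟩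
  have hθne' : (θ1 : ↥⁅Y, H⁆ → ℂ) ≠ fun _ => (1 : ℂ) := by
    intro h
    apply hθne
    apply Subtype.ext
    apply Subtype.ext
    exact h
  -- an invariant character above
  obtain ⟨χ, hχm, hχinv⟩ := exists_inv_over Y ⁅Y, H⁆ H hY1Y hnorm hNn hNS hcop hsolv θ1 hθ1
  apply hχm
  have hχc : IsCharacter Y (χ : Y → ℂ) := isCharacter_of_irr χ.2
  have hspec := resMult_spec hY1Y hχc θ1.2
  have hres : res hY1Y (χ : Y → ℂ) = ((χ : Y → ℂ) 1) • (fun _ : ↥⁅Y, H⁆ => (1 : ℂ)) := by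
    funext c
    rw [res_apply, Pi.smul_apply, smul_eq_mul, mul_one]
    exact hP χ hχinv ⟨c, hY1Y c.2⟩ c.2
  rw [hres, classInner_smul_left,
    irr_classInner_ne H24.isIrrCharacter_one θ1.2 (fun h => hθne' h.symm), mul_zero] at hspec
  exact_mod_cast hspec

end Cfsg.Agent.Lib.H18.SH16
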