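import Mathlib

/-!
# S4150 — bridge for the piece H13 (helper18)

* `searchAll check n acc rem`: a fuel-recursive depth-first search over all orderings of `rem`
  (kernel-friendly: structural recursion on the fuel), with its soundness `searchAll_sound`.
* `exists_cycle_list13`: a normalised 11-cycle `x` of degree 13 (`x 0 = 0`, `x 1 = 1`, `x 2 = 3`) is
  `List.formPerm (2 :: 3 :: l)` for a permutation `l` of `[4, …, 12]`.
-/

set_option autoImplicit false

namespace Cfsg.Agent.Lib.H18.AG

open Equiv Equiv.Perm

/-- fuel-recursive DFS over all orderings of `rem`; `acc` is the reversed prefix -/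
def searchAll {α : Type*} [DecidableEq α] (check : List α → Bool) : ℕ → List α → List α → Bool
  | 0, acc, _ => check acc.reverse
  | n + 1, acc, rem => rem.all fun a => searchAll check n (a :: acc) (rem.erase a)

theorem searchAll_sound {α : Type*} [DecidableEq α] (check : List α → Bool) :
    ∀ (n : ℕ) (acc rem : List α), rem.length = n → searchAll check n acc rem = true →
      ∀ l : List α, l.Perm rem → check (acc.reverse ++ l) = true := by
  intro n
  induction n with
  | zero =>
    intro acc rem hlen h l hl
    have hrem : rem = [] := List.length_eq_zero_iff.1 hlen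
    subst hrem
    have hl' : l = [] := hl.eq_nil
    subst hl'
    simpa [searchAll] using h
  | succ n ih =>
    intro acc rem hlen h l hl
    cases l with
    | nil =>
      have := hl.length_eq
      simp at this
      omega
    | cons a l' =>
      have ha : a ∈ rem := hl.subset List.mem_cons_self
      have hl' : l'.Perm (rem.erase a) := by
        have := hl.erase a
        simpa using this
      simp only [searchAll, List.all_eq_true] at h
      have h1 := h a ha
      have h2 := ih (a :: acc) (rem.erase a)
        (by rw [List.length_erase_of_mem ha, hlen]; rfl) h1 l' hl'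
      simpa using h2

theorem aux_mem13 : ∀ c : Fin 13, c ≠ 0 → c ≠ 1 → c ≠ 2 → c ≠ 3 →
    c ∈ ([4, 5, 6, 7, 8, 9, 10, 11, 12] : List (Fin 13)) := by decide

theorem aux_mem13' : ∀ c : Fin 13, c ∈ ([4, 5, 6, 7, 8, 9, 10, 11, 12] : List (Fin 13)) →
    c ≠ 0 ∧ c ≠ 1 ∧ c ≠ 2 ∧ c ≠ 3 := by decide

/-- a normalised 11-cycle of degree 13 is `formPerm (2 :: 3 :: l)`, `l` a permutation of `[4..12]` -/
theorem exists_cycle_list13 (x : Perm (Fin 13)) (h0 : x 0 = 0) (h1 : x 1 = 1) (h2 : x 2 = 3)
    (hc : x.cycleType = {11}) :
    ∃ l : List (Fin 13), l.Perm [4, 5, 6, 7, 8, 9, 10, 11, 12] ∧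
      x = List.formPerm (2 :: 3 :: l) := by
  have hcyc : x.IsCycle := by
    rw [← card_cycleType_eq_one, hc]; rfl
  have hsupp_card : x.support.card = 11 := by
    rw [← sum_cycleType, hc]; rfl
  have h2s : x 2 ≠ 2 := by
    rw [h2]; decide
  have hsupp : ∀ a : Fin 13, a ∈ x.support ↔ (a ≠ 0 ∧ a ≠ 1) := by
    have hsub : x.support ⊆ (Finset.univ.erase 0).erase 1 := by
      intro a ha
      rw [mem_support] at ha
      simp only [Finset.mem_erase, Finset.mem_univ, and_true]
      constructor
      · rintro rfl; exact ha h1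
      · rintro rfl; exact ha h0
    have heq : x.support = (Finset.univ.erase 0).erase 1 := by
      apply Finset.eq_of_subset_of_card_le hsub
      rw [hsupp_card]; decide
    intro a
    rw [heq]
    simp only [Finset.mem_erase, Finset.mem_univ, and_true]
    tauto
  have hlen : (toList x 2).length = 11 := by
    rw [length_toList, hcyc.cycleOf_eq h2s, hsupp_card]
  have hnd : (toList x 2).Nodup := nodup_toList x 2
  have hform : List.formPerm (toList x 2) = x := by
    rw [formPerm_toList, hcyc.cycleOf_eq h2s]
  have hmem : ∀ a, a ∈ toList x 2 ↔ (a ≠ 0 ∧ a ≠ 1) := by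
    intro a
    rw [mem_toList_iff]
    constructor
    · rintro ⟨hs, -⟩
      have : a ∈ x.support := by
        rw [mem_support]
        intro ha
        exact h2s (hs.apply_eq_self_iff.2 ha)
      exact (hsupp a).1 this
    · intro ha
      have : a ∈ x.support := (hsupp a).2 ha
      exact ⟨hcyc.sameCycle h2s (mem_support.1 this), mem_support.2 h2s⟩
  have hg0 : (toList x 2)[0]'(by omega) = 2 := by
    rw [getElem_toList]; simp
  have hg1 : (toList x 2)[1]'(by omega) = 3 := by
    rw [getElem_toList]; simpa using h2
  obtain ⟨a, b, l, hl⟩ : ∃ a b l, toList x 2 = a :: b :: l := by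
    match h : toList x 2, hlen with
    | a :: b :: l, _ => exact ⟨a, b, l, rfl⟩
  simp only [hl, List.getElem_cons_zero] at hg0
  simp only [hl, List.getElem_cons_succ, List.getElem_cons_zero] at hg1
  subst hg0 hg1
  rw [hl] at hnd hform
  refine ⟨l, ?_, hform.symm⟩
  have hnd' := hnd
  rw [List.nodup_cons, List.nodup_cons] at hnd'
  obtain ⟨hn2, hn3, hndl⟩ := hnd'
  refine (List.perm_ext_iff_of_nodup hndl (by decide)).2 (fun c => ?_)
  constructor
  · intro hcl
    have hc0 : c ∈ toList x 2 := by rw [hl]; exact List.mem_cons_of_mem _ (List.mem_cons_of_mem _ hcl)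
    obtain ⟨hc0', hc1'⟩ := (hmem c).1 hc0
    refine aux_mem13 c hc0' hc1' ?_ ?_
    · rintro rfl
      exact hn2 (List.mem_cons_of_mem _ hcl)
    · rintro rfl
      exact hn3 hcl
  · intro hc4
    obtain ⟨hc0', hc1', hc2', hc3'⟩ := aux_mem13' c hc4
    have hc0 : c ∈ toList x 2 := (hmem c).2 ⟨hc0', hc1'⟩
    rw [hl, List.mem_cons, List.mem_cons] at hc0
    rcases hc0 with h | h | h
    · exact absurd h hc2'
    · exact absurd h hc3'
    · exact h

end Cfsg.Agent.Lib.H18.AG
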