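import Cfsg.Agent.Lib.H10.SU3E6Defs
import Cfsg.Agent.Lib.H15.UP2Base

/-!
# SU3-e6a2 (helper18): the orthonormal eigenbasis `v, y v, y² v` of a pair `x, y ∈ GU_3(5)` in normal position
(`x³ = y³ = 1`, `x y = w y x`, `x v = v`).
-/

set_option autoImplicit false
set_option linter.unusedSectionVars false
set_option linter.unusedVariables false

namespace Cfsg.Agent.Lib.H18.SU3

open Cfsg Cfsg.Geo Cfsg.Agent.Lib.Lead.Asch Cfsg.Agent.Lib.H27.SU3 Cfsg.Agent.Lib.H10.SU3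
open Cfsg.Agent.Lib.H15.SUGen Cfsg.Agent.Lib.H15.UP2
open scoped MatrixGroups Matrix Kronecker

theorem inj_three {α : Type*} {a b c : α} (hab : a ≠ b) (hac : a ≠ c) (hbc : b ≠ c) :
    Function.Injective ![a, b, c] := by
  intro i j hij
  fin_cases i <;> fin_cases j
  · rfl
  · exact absurd hij hab
  · exact absurd hij hac
  · exact absurd hij.symm hab
  · rfl
  · exact absurd hij hbc
  · exact absurd hij.symm hac
  · exact absurd hij.symm hbc
  · rfl

variable {F : Type*} [Field F] [Fintype F]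

theorem e6_five (hF : Fintype.card F = 5 ^ 2) : (5 : F) = 0 := by
  have h := fr_cast_q hF
  exact_mod_cast h

theorem e6_three_ne (hF : Fintype.card F = 5 ^ 2) : (3 : F) ≠ 0 := by
  intro h
  have h5 := e6_five hF
  have h1 : (1 : F) = 0 := by linear_combination 2 * h - h5
  exact one_ne_zero h1

/-- eigenvectors of a unitary matrix -/
theorem eig_orth {x : GL (Fin 3) F} (hx : x ∈ GU 3 F 5) {a b : Fin 3 → F} {l m : F}
    (ha : (x : Matrix (Fin 3) (Fin 3) F) *ᵥ a = l • a) (hb : (x : Matrix (Fin 3) (Fin 3) F) *ᵥ b = m • b) :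
    hermForm 3 F 5 a b = l * m ^ 5 * hermForm 3 F 5 a b := by
  have h := (mem_GU_iff x).1 hx a b
  rw [ha, hb] at h
  have h1 : hermForm 3 F 5 (l • a) (m • b) = l * (m ^ 5 * hermForm 3 F 5 a b) := by
    rw [show hermForm 3 F 5 (l • a) (m • b) = hf 5 (l • a) (m • b) from rfl, hf_smul_left, hf_smul_right]
  rw [h1] at h
  rw [mul_assoc]
  exact h.symm

/-- the data of a fixed vector: orthogonality, eigenvalues, independence, non-isotropy -/
theorem e6_frame (hF : Fintype.card F = 5 ^ 2) {w : F} (hw : w ^ 2 + w + 1 = 0) {x y : GL (Fin 3) F}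
    (hxU : x ∈ GU 3 F 5) (hyU : y ∈ GU 3 F 5)
    (hxy : ∀ u : Fin 3 → F, (x : Matrix (Fin 3) (Fin 3) F) *ᵥ ((y : Matrix (Fin 3) (Fin 3) F) *ᵥ u) =
      w • ((y : Matrix (Fin 3) (Fin 3) F) *ᵥ ((x : Matrix (Fin 3) (Fin 3) F) *ᵥ u)))
    {v : Fin 3 → F} (hv : v ≠ 0) (hxv : (x : Matrix (Fin 3) (Fin 3) F) *ᵥ v = v) :
    (x : Matrix (Fin 3) (Fin 3) F) *ᵥ ((y : Matrix (Fin 3) (Fin 3) F) *ᵥ v) =
        w • ((y : Matrix (Fin 3) (Fin 3) F) *ᵥ v) ∧
    (x : Matrix (Fin 3) (Fin 3) F) *ᵥ ((y : Matrix (Fin 3) (Fin 3) F) *ᵥ ((y : Matrix (Fin 3) (Fin 3) F) *ᵥ v)) =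
        (w * w) • ((y : Matrix (Fin 3) (Fin 3) F) *ᵥ ((y : Matrix (Fin 3) (Fin 3) F) *ᵥ v)) ∧
    hermForm 3 F 5 v ((y : Matrix (Fin 3) (Fin 3) F) *ᵥ v) = 0 ∧
    hermForm 3 F 5 v ((y : Matrix (Fin 3) (Fin 3) F) *ᵥ ((y : Matrix (Fin 3) (Fin 3) F) *ᵥ v)) = 0 ∧
    hermForm 3 F 5 ((y : Matrix (Fin 3) (Fin 3) F) *ᵥ v)
      ((y : Matrix (Fin 3) (Fin 3) F) *ᵥ ((y : Matrix (Fin 3) (Fin 3) F) *ᵥ v)) = 0 ∧
    hermForm 3 F 5 v v ≠ 0 := by
  classical
  have h3 := e6_three_ne hF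
  have hne1 : (1 : F) - w ≠ 0 := by
    intro h
    apply h3
    have hw1 : w = 1 := (sub_eq_zero.1 h).symm
    rw [hw1] at hw
    linear_combination hw
  have hne2 : (1 : F) - w ^ 2 ≠ 0 := by
    intro h
    apply h3
    have hw2 : w ^ 2 = 1 := (sub_eq_zero.1 h).symm
    have hw' : w = -2 := by linear_combination hw - hw2
    rw [hw'] at hw2
    linear_combination hw2
  obtain ⟨e1, he1⟩ : ∃ e1 : Fin 3 → F, e1 = (y : Matrix (Fin 3) (Fin 3) F) *ᵥ v := ⟨_, rfl⟩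
  obtain ⟨e2, he2⟩ : ∃ e2 : Fin 3 → F, e2 = (y : Matrix (Fin 3) (Fin 3) F) *ᵥ e1 := ⟨_, rfl⟩
  have hx1 : (x : Matrix (Fin 3) (Fin 3) F) *ᵥ e1 = w • e1 := by
    rw [he1, hxy, hxv]
  have hx2 : (x : Matrix (Fin 3) (Fin 3) F) *ᵥ e2 = (w * w) • e2 := by
    rw [he2, hxy, hx1, Matrix.mulVec_smul, smul_smul]
  have hx0 : (x : Matrix (Fin 3) (Fin 3) F) *ᵥ v = (1 : F) • v := by rw [hxv, one_smul]
  have hyinj : ∀ u : Fin 3 → F, (y : Matrix (Fin 3) (Fin 3) F) *ᵥ u = 0 → u = 0 := by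
    intro u hu
    have h1 := congrArg (fun z => ((y⁻¹ : GL (Fin 3) F) : Matrix (Fin 3) (Fin 3) F) *ᵥ z) hu
    simp only [Matrix.mulVec_mulVec, Matrix.mulVec_zero] at h1
    have h2 : ((y⁻¹ : GL (Fin 3) F) : Matrix (Fin 3) (Fin 3) F) * (y : Matrix (Fin 3) (Fin 3) F) = 1 := by
      rw [← Units.val_mul, inv_mul_cancel, Units.val_one]
    rwa [h2, Matrix.one_mulVec] at h1
  have he1ne : e1 ≠ 0 := fun h => hv (hyinj v (he1 ▸ h))
  have he2ne : e2 ≠ 0 := fun h => he1ne (hyinj e1 (he2 ▸ h))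
  have o01 : hermForm 3 F 5 v e1 = 0 := by
    have h := eig_orth hxU hx0 hx1
    have h1 : (1 - w ^ 2) * hermForm 3 F 5 v e1 = 0 := by
      linear_combination h + (w ^ 2 * (w - 1) * hermForm 3 F 5 v e1) * hw
    exact (mul_eq_zero.1 h1).resolve_left hne2
  have o02 : hermForm 3 F 5 v e2 = 0 := by
    have h := eig_orth hxU hx0 hx2
    have h1 : (1 - w) * hermForm 3 F 5 v e2 = 0 := by
      linear_combination h + (w * (w - 1) * (w ^ 6 + w ^ 3 + 1) * hermForm 3 F 5 v e2) * hw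
    exact (mul_eq_zero.1 h1).resolve_left hne1
  have o12 : hermForm 3 F 5 e1 e2 = 0 := by
    have h := eig_orth hxU hx1 hx2
    have h1 : (1 - w ^ 2) * hermForm 3 F 5 e1 e2 = 0 := by
      linear_combination h + (w ^ 2 * (w - 1) * (w ^ 6 + w ^ 3 + 1) * hermForm 3 F 5 e1 e2) * hw
    exact (mul_eq_zero.1 h1).resolve_left hne2
  refine ⟨he1 ▸ hx1, he1 ▸ he2 ▸ hx2, he1 ▸ o01, he1 ▸ he2 ▸ o02, he1 ▸ he2 ▸ o12, ?_⟩
  intro hvv
  -- `v` is orthogonal to the whole space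
  have o10 : hermForm 3 F 5 e1 v = 0 := by
    have := hf_conj hF v e1
    rw [show hf 5 v e1 = hermForm 3 F 5 v e1 from rfl, o01] at this
    rw [show hermForm 3 F 5 e1 v = hf 5 e1 v from rfl, ← this]
    exact zero_pow (by norm_num)
  have o20 : hermForm 3 F 5 e2 v = 0 := by
    have := hf_conj hF v e2
    rw [show hf 5 v e2 = hermForm 3 F 5 v e2 from rfl, o02] at this
    rw [show hermForm 3 F 5 e2 v = hf 5 e2 v from rfl, ← this]
    exact zero_pow (by norm_num)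
  have hli : LinearIndependent F ![v, e1, e2] := by
    apply Module.End.eigenvectors_linearIndependent' (Matrix.toLin' (x : Matrix (Fin 3) (Fin 3) F))
      ![1, w, w * w]
    · apply inj_three
      · intro h
        exact hne1 (by rw [← h, sub_self])
      · intro h
        exact hne2 (by rw [pow_two, ← h, sub_self])
      · intro h
        apply hne1
        have hw0 : w ≠ 0 := by
          intro h0
          rw [h0] at hw
          simp at hw
        have : w * 1 = w * w := by rw [mul_one]; exact h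
        have h1 := mul_left_cancel₀ hw0 this
        rw [← h1, sub_self]
    · intro i
      fin_cases i
      · exact ⟨Module.End.mem_eigenspace_iff.2 (by rw [Matrix.toLin'_apply]; exact hx0), hv⟩
      · exact ⟨Module.End.mem_eigenspace_iff.2 (by rw [Matrix.toLin'_apply]; exact hx1), he1ne⟩
      · exact ⟨Module.End.mem_eigenspace_iff.2 (by rw [Matrix.toLin'_apply]; exact hx2), he2ne⟩
  have hspan := hli.span_eq_top_of_card_eq_finrank'
    (by rw [Fintype.card_fin, Module.finrank_fin_fun])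
  have hall : ∀ u : Fin 3 → F, hermForm 3 F 5 u v = 0 := by
    intro u
    have hmem : u ∈ Submodule.span F (Set.range ![v, e1, e2]) := by
      rw [hspan]
      exact Submodule.mem_top
    induction hmem using Submodule.span_induction with
    | mem z hz =>
      obtain ⟨i, rfl⟩ := hz
      fin_cases i
      · exact hvv
      · exact o10
      · exact o20
    | zero => exact hf_zero_left v
    | add a b _ _ ha hb =>
      rw [show hermForm 3 F 5 (a + b) v = hf 5 (a + b) v from rfl, hf_add_left]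
      rw [show hf 5 a v = hermForm 3 F 5 a v from rfl, show hf 5 b v = hermForm 3 F 5 b v from rfl, ha, hb,
        add_zero]
    | smul c a _ ha =>
      rw [show hermForm 3 F 5 (c • a) v = hf 5 (c • a) v from rfl, hf_smul_left]
      rw [show hf 5 a v = hermForm 3 F 5 a v from rfl, ha, mul_zero]
  obtain ⟨u₀, hu₀⟩ := herm_nondeg (q := 5) hF hv
  exact hu₀ (hall u₀)

/-- **SU3-e6a2** -/
theorem e6a2 (hF : Fintype.card F = 5 ^ 2) : E6a2Stmt F := by
  classical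
  intro w hw x y hxU hyU hx3 hy3 hrel hfix
  obtain ⟨v₀, hv₀, hxv₀⟩ := hfix
  have hxy : ∀ u : Fin 3 → F, (x : Matrix (Fin 3) (Fin 3) F) *ᵥ ((y : Matrix (Fin 3) (Fin 3) F) *ᵥ u) =
      w • ((y : Matrix (Fin 3) (Fin 3) F) *ᵥ ((x : Matrix (Fin 3) (Fin 3) F) *ᵥ u)) := by
    intro u
    have h := congrArg (fun M : Matrix (Fin 3) (Fin 3) F => M *ᵥ u) hrel
    simp only [← Matrix.mulVec_mulVec, Matrix.smul_mulVec] at h
    exact h
  have hy3v : ∀ u : Fin 3 → F, (y : Matrix (Fin 3) (Fin 3) F) *ᵥ ((y : Matrix (Fin 3) (Fin 3) F) *ᵥ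
      ((y : Matrix (Fin 3) (Fin 3) F) *ᵥ u)) = u := by
    intro u
    have h := congrArg (fun g : GL (Fin 3) F => (g : Matrix (Fin 3) (Fin 3) F) *ᵥ u) hy3
    simp only [pow_succ, pow_zero, one_mul, Units.val_mul, Units.val_one, Matrix.one_mulVec,
      ← Matrix.mulVec_mulVec] at h
    exact h
  -- normalise the fixed vector
  obtain ⟨-, -, -, -, -, hb0⟩ := e6_frame hF hw hxU hyU hxy hv₀ hxv₀
  have hb5 : (hermForm 3 F 5 v₀ v₀) ^ 5 = hermForm 3 F 5 v₀ v₀ := hf_conj hF v₀ v₀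
  obtain ⟨c, hc⟩ := exists_norm hF (hermForm 3 F 5 v₀ v₀)⁻¹ (by rw [inv_pow, hb5])
  have hc0 : c ≠ 0 := by
    rintro rfl
    rw [zero_mul] at hc
    exact inv_ne_zero hb0 hc.symm
  obtain ⟨v, hvdef⟩ : ∃ v : Fin 3 → F, v = c • v₀ := ⟨_, rfl⟩
  have hv : v ≠ 0 := by
    rw [hvdef]
    exact smul_ne_zero hc0 hv₀
  have hxv : (x : Matrix (Fin 3) (Fin 3) F) *ᵥ v = v := by
    rw [hvdef, Matrix.mulVec_smul, hxv₀]
  have hvv : hermForm 3 F 5 v v = 1 := by
    rw [hvdef, show hermForm 3 F 5 (c • v₀) (c • v₀) = hf 5 (c • v₀) (c • v₀) from rfl, hf_smul_left,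
      hf_smul_right, ← mul_assoc, hc]
    exact inv_mul_cancel₀ hb0
  obtain ⟨hx1, hx2, o01, o02, o12, -⟩ := e6_frame hF hw hxU hyU hxy hv hxv
  obtain ⟨e1, he1⟩ : ∃ e1 : Fin 3 → F, e1 = (y : Matrix (Fin 3) (Fin 3) F) *ᵥ v := ⟨_, rfl⟩
  obtain ⟨e2, he2⟩ : ∃ e2 : Fin 3 → F, e2 = (y : Matrix (Fin 3) (Fin 3) F) *ᵥ e1 := ⟨_, rfl⟩
  rw [← he1] at hx1 hx2 o01 o02 o12
  rw [← he2] at hx2 o02 o12
  have hye2 : (y : Matrix (Fin 3) (Fin 3) F) *ᵥ e2 = v := by rw [he2, he1, hy3v]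
  have h11 : hermForm 3 F 5 e1 e1 = 1 := by
    rw [he1, (mem_GU_iff y).1 hyU, hvv]
  have h22 : hermForm 3 F 5 e2 e2 = 1 := by
    rw [he2, (mem_GU_iff y).1 hyU, h11]
  have hsw : ∀ a b : Fin 3 → F, hermForm 3 F 5 a b = 0 → hermForm 3 F 5 b a = 0 := by
    intro a b h
    have h1 := hf_conj hF a b
    rw [show hf 5 a b = hermForm 3 F 5 a b from rfl, h] at h1
    rw [show hermForm 3 F 5 b a = hf 5 b a from rfl, ← h1]
    exact zero_pow (by norm_num)
  have o10 := hsw _ _ o01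
  have o20 := hsw _ _ o02
  have o21 := hsw _ _ o12
  -- the matrix with columns `v, e1, e2`
  obtain ⟨G0, hG0⟩ : ∃ G0 : Matrix (Fin 3) (Fin 3) F, G0 = Matrix.of (fun i j => ![v, e1, e2] j i) :=
    ⟨_, rfl⟩
  have hG : ∀ a : Fin 3 → F, G0 *ᵥ a = a 0 • v + a 1 • e1 + a 2 • e2 := by
    intro a
    ext i
    rw [hG0]
    simp only [Matrix.mulVec, dotProduct, Fin.sum_univ_three, Matrix.of_apply, Matrix.cons_val_zero,
      Matrix.cons_val_one, Matrix.cons_val_two, Pi.add_apply, Pi.smul_apply, smul_eq_mul,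
      Matrix.head_cons, Matrix.tail_cons]
    ring
  have hform : ∀ a b : Fin 3 → F, hermForm 3 F 5 (G0 *ᵥ a) (G0 *ᵥ b) = hermForm 3 F 5 a b := by
    intro a b
    rw [hG, hG]
    have e : ∀ p r s p' r' s' : F, hermForm 3 F 5 (p • v + r • e1 + s • e2) (p' • v + r' • e1 + s' • e2) =
        p * p' ^ 5 + r * r' ^ 5 + s * s' ^ 5 := by
      intro p r s p' r' s'
      show hf 5 (p • v + r • e1 + s • e2) (p' • v + r' • e1 + s' • e2) = _
      simp only [hf_add_left, hf_smul_left, hf_add_right hF, hf_smul_right]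
      rw [show hf 5 v v = 1 from hvv, show hf 5 v e1 = 0 from o01, show hf 5 v e2 = 0 from o02,
        show hf 5 e1 v = 0 from o10, show hf 5 e1 e1 = 1 from h11, show hf 5 e1 e2 = 0 from o12,
        show hf 5 e2 v = 0 from o20, show hf 5 e2 e1 = 0 from o21, show hf 5 e2 e2 = 1 from h22]
      ring
    rw [e]
    unfold hermForm
    rw [Fin.sum_univ_three]
  have hinj : Function.Injective G0.mulVec := by
    intro a b hab
    by_contra hne
    have hne' : a - b ≠ 0 := sub_ne_zero.2 hne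
    obtain ⟨u, hu⟩ := herm_nondeg (q := 5) hF hne'
    apply hu
    rw [← hform, Matrix.mulVec_sub, hab, sub_self]
    exact hf_zero_right hF _
  have hunit : IsUnit G0 := Matrix.mulVec_injective_iff_isUnit.1 hinj
  obtain ⟨g, hg⟩ : ∃ g : GL (Fin 3) F, (g : Matrix (Fin 3) (Fin 3) F) = G0 := ⟨hunit.unit, rfl⟩
  refine ⟨g, ?_, ?_, ?_⟩
  · rw [mem_GU_iff, hg]
    exact hform
  · rw [hg]
    apply Matrix.mulVec_injective
    funext a
    rw [← Matrix.mulVec_mulVec, ← Matrix.mulVec_mulVec, hG, hG]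
    have h0 : (Xm w *ᵥ a) 0 = a 0 := by
      unfold Xm
      rw [Matrix.mulVec_diagonal]
      simp
    have h1 : (Xm w *ᵥ a) 1 = w * a 1 := by
      unfold Xm
      rw [Matrix.mulVec_diagonal]
      simp
    have h2 : (Xm w *ᵥ a) 2 = w ^ 2 * a 2 := by
      unfold Xm
      rw [Matrix.mulVec_diagonal]
      simp
    rw [h0, h1, h2, Matrix.mulVec_add, Matrix.mulVec_add, Matrix.mulVec_smul, Matrix.mulVec_smul,
      Matrix.mulVec_smul, hxv, hx1, hx2, smul_smul, smul_smul, pow_two, mul_comm (a 1) w,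
      mul_comm (a 2) (w * w)]
  · rw [hg]
    apply Matrix.mulVec_injective
    funext a
    rw [← Matrix.mulVec_mulVec, ← Matrix.mulVec_mulVec, hG, hG]
    have h0 : (Ym *ᵥ a) 0 = a 2 := by
      simp [Ym, Matrix.mulVec, dotProduct, Fin.sum_univ_three]
    have h1 : (Ym *ᵥ a) 1 = a 0 := by
      simp [Ym, Matrix.mulVec, dotProduct, Fin.sum_univ_three]
    have h2 : (Ym *ᵥ a) 2 = a 1 := by
      simp [Ym, Matrix.mulVec, dotProduct, Fin.sum_univ_three]
    rw [h0, h1, h2, Matrix.mulVec_add, Matrix.mulVec_add, Matrix.mulVec_smul, Matrix.mulVec_smul,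
      Matrix.mulVec_smul, ← he1, ← he2, hye2]
    abel

end Cfsg.Agent.Lib.H18.SU3
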