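import Mathlib

/-!
# Automorphisms of the alternating groups (helper18)

`Aut(A_n) = S_n` for `n ≥ 4`, `n ≠ 6`.
-/

set_option autoImplicit false

namespace Cfsg.Agent.Lib.H18

open Equiv Equiv.Perm

section C3

variable {α : Type*} [DecidableEq α]

/-- The 3-cycle `a → b → c → a`. -/
def c3 (a b c : α) : Perm α := swap a b * swap b c

theorem c3_def (a b c : α) : c3 a b c = swap a b * swap b c := rfl

theorem c3_apply {a b c : α} (hab : a ≠ b) (hac : a ≠ c) (hbc : b ≠ c) (p : α) :
    c3 a b c p = if p = a then b else if p = b then c else if p = c then a else p := by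
  rw [c3_def, Perm.mul_apply, swap_apply_def, swap_apply_def]
  grind

theorem c3_rotate {a b c : α} (hab : a ≠ b) (hac : a ≠ c) (hbc : b ≠ c) :
    c3 a b c = c3 b c a := by
  ext p
  rw [c3_apply hab hac hbc, c3_apply hbc hab.symm hac.symm]
  grind

theorem c3_inv {a b c : α} (hab : a ≠ b) (hac : a ≠ c) (hbc : b ≠ c) :
    (c3 a b c)⁻¹ = c3 a c b := by
  rw [inv_eq_iff_mul_eq_one]
  ext p
  rw [Perm.mul_apply, c3_apply hac hab hbc.symm, c3_apply hab hac hbc]
  simp only [Perm.one_apply]
  grind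

theorem conj_c3 (σ : Perm α) (a b c : α) : σ * c3 a b c * σ⁻¹ = c3 (σ a) (σ b) (σ c) := by
  rw [c3_def, c3_def, swap_apply_apply, swap_apply_apply]
  group

variable [Fintype α]

theorem isThreeCycle_c3 {a b c : α} (hab : a ≠ b) (hac : a ≠ c) (hbc : b ≠ c) :
    (c3 a b c).IsThreeCycle := by
  rw [c3_def, swap_comm a b]
  exact isThreeCycle_swap_mul_swap_same hab.symm hbc hac

/-- Normal form of a 3-cycle at a moved point. -/
theorem IsThreeCycle_eq_c3 {g : Perm α} (hg : g.IsThreeCycle) {a : α} (ha : g a ≠ a) :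
    a ≠ g a ∧ a ≠ g (g a) ∧ g a ≠ g (g a) ∧ g = c3 a (g a) (g (g a)) := by
  have hmem : a ∈ g.support := Perm.mem_support.mpr ha
  have h1 := hg.nodup_iff_mem_support.mpr hmem
  have h2 := hg.eq_swap_mul_swap_iff_mem_support.mpr hmem
  simp only [List.nodup_cons, List.mem_cons, List.mem_singleton, List.not_mem_nil, or_false,
    not_or, not_false_eq_true, List.nodup_nil, and_true] at h1
  exact ⟨h1.1.1, h1.1.2, h1.2, h2⟩


/-- Two 3-cycles whose product is an involution share an oriented edge. -/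
theorem exists_common_edge {x y : Perm α} (hx : x.IsThreeCycle) (hy : y.IsThreeCycle)
    (h2 : (x * y) * (x * y) = 1) (h1 : x * y ≠ 1) :
    ∃ a b c d : α, a ≠ b ∧ a ≠ c ∧ a ≠ d ∧ b ≠ c ∧ b ≠ d ∧ c ≠ d ∧
      x = c3 a b c ∧ y = c3 a b d := by
  have h2' : ∀ p, x (y (x (y p))) = p := fun p => by
    have := congrArg (fun f : Perm α => f p) h2
    simpa using this
  by_cases hcase : ∃ d, y d ≠ d ∧ x d = d
  · obtain ⟨d, hyd, hxd⟩ := hcase
    obtain ⟨hy1, hy2, hy3, hyc⟩ := IsThreeCycle_eq_c3 hy hyd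
    set e := y d with he
    set f := y e with hf
    have hyf : y f = d := by
      rw [hyc, c3_apply hy1 hy2 hy3]
      grind
    have hxe : x e = f := by
      have h3 := h2' d
      have h4 : x (y (x e)) = x d := by rw [hxd]; exact h3
      have h5 : y (x e) = y f := by rw [hyf]; exact x.injective h4
      exact y.injective h5
    have hxe' : x e ≠ e := by rw [hxe]; exact hy3.symm
    obtain ⟨hx1, hx2, hx3, hxc⟩ := IsThreeCycle_eq_c3 hx hxe'
    rw [hxe] at hx1 hx2 hx3 hxc
    refine ⟨e, f, x f, d, hx1, hx2, hy1.symm, hx3, hy2.symm, ?_, hxc, ?_⟩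
    · intro h
      have h6 : x (x f) = e := by
        conv_lhs => rw [hxc]
        rw [c3_apply hx1 hx2 hx3]
        grind
      rw [h, hxd] at h6
      exact hy1 h6
    · rw [hyc]
      exact c3_rotate hy1 hy2 hy3
  · exfalso
    push Not at hcase
    obtain ⟨d, hyd⟩ : ∃ d, y d ≠ d := by
      by_contra hcon
      push Not at hcon
      exact hy.ne_one (Perm.ext hcon)
    obtain ⟨hy1, hy2, hy3, hyc⟩ := IsThreeCycle_eq_c3 hy hyd
    have hxd : x d ≠ d := hcase d hyd
    obtain ⟨hx1, hx2, hx3, hxc⟩ := IsThreeCycle_eq_c3 hx hxd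
    set e := y d with he
    set f := y e with hf
    set e' := x d with he'
    set f' := x e' with hf'
    have hye : y e ≠ e := hy3.symm
    have hyf : y f = d := by
      rw [hyc, c3_apply hy1 hy2 hy3]
      grind
    have hyf' : y f ≠ f := by rw [hyf]; exact hy2
    have hxe : x e ≠ e := hcase e hye
    have hxf : x f ≠ f := hcase f hyf'
    have hxa := c3_apply hx1 hx2 hx3
    have hya := c3_apply hy1 hy2 hy3
    rw [← hxc] at hxa
    rw [← hyc] at hya
    have hee : e = e' ∨ e = f' := by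
      have := hxa e
      grind
    rcases hee with hee | hee
    · -- x = y
      have hff : f = f' := by
        have := hxa f
        grind
      have h3 := h2' d
      have h4 := hya d
      have h5 := hxa e
      have h6 := hya f
      have h7 := hxa d
      grind
    · -- x = y⁻¹
      have hff : f = e' := by
        have := hxa f
        grind
      apply h1
      ext p
      rw [Perm.mul_apply, Perm.one_apply, hya p]
      have h5 := hxa e
      have h6 := hxa f
      have h7 := hxa d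
      have h8 := hxa p
      grind


theorem c3_mul_self_ne {a b c : α} (hab : a ≠ b) (hac : a ≠ c) (hbc : b ≠ c) :
    (c3 a b c * c3 a b c) * (c3 a b c * c3 a b c) ≠ 1 := by
  intro h
  have := congrArg (fun f : Perm α => f a) h
  simp only [Perm.mul_apply, Perm.one_apply] at this
  rw [c3_apply hab hac hbc, c3_apply hab hac hbc, c3_apply hab hac hbc, c3_apply hab hac hbc]
    at this
  grind

theorem c3_eq_c3 {a b c a' b' c' : α} (hab : a ≠ b) (hac : a ≠ c) (hbc : b ≠ c)
    (hab' : a' ≠ b') (hac' : a' ≠ c') (hbc' : b' ≠ c') (h : c3 a b c = c3 a' b' c') :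
    (a' = a ∧ b' = b ∧ c' = c) ∨ (a' = b ∧ b' = c ∧ c' = a) ∨ (a' = c ∧ b' = a ∧ c' = b) := by
  have h1 := c3_apply hab hac hbc
  have h2 := c3_apply hab' hac' hbc'
  rw [← h] at h2
  have e1 := h1 a'
  have e2 := h2 a'
  have e3 := h1 b'
  have e4 := h2 b'
  have e5 := h1 c'
  have e6 := h2 c'
  grind

/-- A third 3-cycle related to both `(a b c)` and `(a b d)` contains the edge `a → b`. -/
theorem common_edge_clique {a b c d : α} (hab : a ≠ b) (hac : a ≠ c) (had : a ≠ d) (hbc : b ≠ c)
    (hbd : b ≠ d) (hcd : c ≠ d) {z : Perm α} (hz : z.IsThreeCycle)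
    (hxz2 : (c3 a b c * z) * (c3 a b c * z) = 1) (hxz1 : c3 a b c * z ≠ 1)
    (hyz2 : (c3 a b d * z) * (c3 a b d * z) = 1) (hyz1 : c3 a b d * z ≠ 1) :
    ∃ e, e ≠ a ∧ e ≠ b ∧ z = c3 a b e := by
  obtain ⟨a', b', c', e', h1, h2, h3, h4, h5, h6, hx, hz'⟩ :=
    exists_common_edge (isThreeCycle_c3 hab hac hbc) hz hxz2 hxz1
  obtain ⟨a'', b'', d'', e'', k1, k2, k3, k4, k5, k6, hy, hz''⟩ :=
    exists_common_edge (isThreeCycle_c3 hab had hbd) hz hyz2 hyz1
  have hX := c3_eq_c3 hab hac hbc h1 h2 h4 hx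
  have hY := c3_eq_c3 hab had hbd k1 k2 k4 hy
  have hZ := c3_eq_c3 h1 h3 h5 k1 k3 k5 (hz'.symm.trans hz'')
  have key : a' = a ∧ b' = b := by grind
  obtain ⟨r1, r2⟩ := key
  rw [r1] at h3
  rw [r2] at h5
  rw [r1, r2] at hz'
  exact ⟨e', h3.symm, h5.symm, hz'⟩


theorem c3_mul_c3_sq {a b c d : α} (hab : a ≠ b) (hac : a ≠ c) (had : a ≠ d) (hbc : b ≠ c)
    (hbd : b ≠ d) (hcd : c ≠ d) :
    (c3 a b c * c3 a b d) * (c3 a b c * c3 a b d) = 1 ∧ c3 a b c * c3 a b d ≠ 1 := by
  have hx := c3_apply hab hac hbc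
  have hy := c3_apply hab had hbd
  constructor
  · ext p
    simp only [Perm.mul_apply, Perm.one_apply]
    have hxa := hx a
    have hxb := hx b
    have hxc := hx c
    have hxd := hx d
    have hya := hy a
    have hyb := hy b
    have hyc := hy c
    have hyd := hy d
    have hxp := hx p
    have hyp := hy p
    by_cases h1 : p = a
    · grind
    by_cases h2 : p = b
    · grind
    by_cases h3 : p = c
    · grind
    by_cases h4 : p = d
    · grind
    grind
  · intro h
    have := congrArg (fun f : Perm α => f a) h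
    simp only [Perm.mul_apply, Perm.one_apply] at this
    have e1 := hy a
    have e2 := hx (c3 a b d a)
    grind

end C3


section Generation

variable {α : Type*} [DecidableEq α]

theorem c3_gen1 {p0 p1 i j : α} (h01 : p0 ≠ p1) (hi0 : i ≠ p0) (hi1 : i ≠ p1) (hj0 : j ≠ p0)
    (hj1 : j ≠ p1) (hij : i ≠ j) : c3 p0 j i = c3 p0 p1 i * (c3 p0 p1 j)⁻¹ := by
  rw [c3_inv h01 hj0.symm hj1.symm]
  ext p
  rw [Perm.mul_apply, c3_apply hj0.symm hi0.symm hij.symm, c3_apply h01 hi0.symm hi1.symm,
    c3_apply hj0.symm h01 hj1]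
  by_cases h1 : p = p0
  · grind
  by_cases h2 : p = p1
  · grind
  by_cases h3 : p = i
  · grind
  by_cases h4 : p = j
  · grind
  grind

theorem c3_gen2 {p0 p1 i j : α} (h01 : p0 ≠ p1) (hi0 : i ≠ p0) (hi1 : i ≠ p1) (hj0 : j ≠ p0)
    (hj1 : j ≠ p1) (hij : i ≠ j) : c3 p1 j i = (c3 p0 p1 i)⁻¹ * c3 p0 p1 j := by
  rw [c3_inv h01 hi0.symm hi1.symm]
  ext p
  rw [Perm.mul_apply, c3_apply hj1.symm hi1.symm hij.symm, c3_apply h01 hj0.symm hj1.symm,
    c3_apply hi0.symm h01 hi1]
  by_cases h1 : p = p0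
  · grind
  by_cases h2 : p = p1
  · grind
  by_cases h3 : p = i
  · grind
  by_cases h4 : p = j
  · grind
  grind

theorem c3_gen3 {p0 u v w : α} (hu : u ≠ p0) (hv : v ≠ p0) (hw : w ≠ p0) (huv : u ≠ v)
    (huw : u ≠ w) (hvw : v ≠ w) : c3 u v w = c3 p0 u v * c3 p0 v w := by
  ext p
  rw [Perm.mul_apply, c3_apply huv huw hvw, c3_apply hv.symm hw.symm hvw,
    c3_apply hu.symm hv.symm huv]
  by_cases h1 : p = p0
  · grind
  by_cases h2 : p = u
  · grind
  by_cases h3 : p = v
  · grind
  by_cases h4 : p = w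
  · grind
  grind


variable [Fintype α]

/-- Every 3-cycle is a product of the 3-cycles `(p0 p1 i)` and their inverses. -/
theorem isThreeCycle_mem_closure {p0 p1 : α} (h01 : p0 ≠ p1) {g : Perm α} (hg : g.IsThreeCycle) :
    g ∈ Subgroup.closure {x : Perm α | ∃ i, i ≠ p0 ∧ i ≠ p1 ∧ x = c3 p0 p1 i} := by
  set S := Subgroup.closure {x : Perm α | ∃ i, i ≠ p0 ∧ i ≠ p1 ∧ x = c3 p0 p1 i} with hS
  have hX : ∀ i, i ≠ p0 → i ≠ p1 → c3 p0 p1 i ∈ S := fun i h0 h1 =>
    Subgroup.subset_closure ⟨i, h0, h1, rfl⟩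
  have hG1 : ∀ i j, i ≠ p0 → i ≠ p1 → j ≠ p0 → j ≠ p1 → i ≠ j → c3 p0 j i ∈ S := by
    intro i j hi0 hi1 hj0 hj1 hij
    rw [c3_gen1 h01 hi0 hi1 hj0 hj1 hij]
    exact S.mul_mem (hX i hi0 hi1) (S.inv_mem (hX j hj0 hj1))
  have hG2 : ∀ i j, i ≠ p0 → i ≠ p1 → j ≠ p0 → j ≠ p1 → i ≠ j → c3 p1 j i ∈ S := by
    intro i j hi0 hi1 hj0 hj1 hij
    rw [c3_gen2 h01 hi0 hi1 hj0 hj1 hij]
    exact S.mul_mem (S.inv_mem (hX i hi0 hi1)) (hX j hj0 hj1)
  by_cases h0 : g p0 ≠ p0
  · obtain ⟨e1, e2, e3, hgc⟩ := IsThreeCycle_eq_c3 hg h0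
    by_cases hu : g p0 = p1
    · rw [hgc, hu]
      rw [hu] at e3 e2
      exact hX _ e2.symm e3.symm
    by_cases hv : g (g p0) = p1
    · rw [hgc, hv]
      rw [hv] at e3 e2
      rw [← c3_inv h01 e1 e3.symm]
      exact S.inv_mem (hX _ e1.symm hu)
    · rw [hgc]
      exact hG1 _ _ e2.symm hv e1.symm hu e3.symm
  · push Not at h0
    by_cases h1 : g p1 ≠ p1
    · obtain ⟨e1, e2, e3, hgc⟩ := IsThreeCycle_eq_c3 hg h1
      have hu0 : g p1 ≠ p0 := by
        intro h
        rw [← h0] at h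
        exact h01 (g.injective h).symm
      have hv0 : g (g p1) ≠ p0 := by
        intro h
        rw [← h0] at h
        exact hu0 (g.injective h)
      rw [hgc]
      exact hG2 _ _ hv0 e2.symm hu0 e1.symm e3.symm
    · push Not at h1
      obtain ⟨w, hw⟩ : ∃ w, g w ≠ w := by
        by_contra hcon
        push Not at hcon
        exact hg.ne_one (Perm.ext hcon)
      obtain ⟨e1, e2, e3, hgc⟩ := IsThreeCycle_eq_c3 hg hw
      have hfix : ∀ q, g q = q → w ≠ q ∧ g w ≠ q ∧ g (g w) ≠ q := by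
        intro q hq
        refine ⟨?_, ?_, ?_⟩
        · rintro rfl; exact hw hq
        · intro h
          rw [← hq] at h
          have := g.injective h
          rw [this] at hw; exact hw hq
        · intro h
          rw [← hq] at h
          have h2 := g.injective h
          rw [← hq] at h2
          have h3 := g.injective h2
          rw [h3] at hw; exact hw hq
      obtain ⟨a0, a1, a2⟩ := hfix p0 h0
      obtain ⟨b0, b1, b2⟩ := hfix p1 h1
      rw [hgc, c3_gen3 (p0 := p0) a0 a1 a2 e1 e2 e3]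
      exact S.mul_mem (hG1 _ _ a1 b1 a0 b0 e1.symm) (hG1 _ _ a2 b2 a1 b1 e3.symm)

end Generation


section Arithmetic

open Nat

theorem factorial_ineq (j m : ℕ) (h : 1 ≤ m ∨ 1 ≤ j) :
    m ! * 3 ^ (j + 2) * (j + 2)! < 3 * (m + 3 * j + 3)! := by
  induction j with
  | zero =>
    have hm : 1 ≤ m := by omega
    have h1 : (m + 3 * 0 + 3)! = (m + 3) * ((m + 2) * ((m + 1) * m !)) := by
      rw [show m + 3 * 0 + 3 = (m + 2) + 1 by ring, Nat.factorial_succ,
        show m + 2 = (m + 1) + 1 by ring, Nat.factorial_succ, Nat.factorial_succ]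
    rw [h1]
    have hF : 0 < m ! := Nat.factorial_pos m
    have h2 : 24 ≤ (m + 3) * ((m + 2) * (m + 1)) := by
      have e1 : 4 ≤ m + 3 := by omega
      have e2 : 3 ≤ m + 2 := by omega
      have e3 : 2 ≤ m + 1 := by omega
      calc 24 = 4 * (3 * 2) := by norm_num
        _ ≤ (m + 3) * ((m + 2) * (m + 1)) := Nat.mul_le_mul e1 (Nat.mul_le_mul e2 e3)
    have h3 : (m + 3) * ((m + 2) * ((m + 1) * m !)) = (m + 3) * ((m + 2) * (m + 1)) * m ! := by
      ring
    rw [h3]
    have h4 : 24 * m ! ≤ (m + 3) * ((m + 2) * (m + 1)) * m ! := Nat.mul_le_mul_right _ h2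
    norm_num [Nat.factorial]
    nlinarith
  | succ j ih =>
    by_cases hc : 1 ≤ m ∨ 1 ≤ j
    · have ih' := ih hc
      have h1 : (m + 3 * (j + 1) + 3)! =
          (m + 3 * j + 6) * ((m + 3 * j + 5) * ((m + 3 * j + 4) * (m + 3 * j + 3)!)) := by
        rw [show m + 3 * (j + 1) + 3 = (m + 3 * j + 5) + 1 by ring, Nat.factorial_succ,
          show m + 3 * j + 5 = (m + 3 * j + 4) + 1 by ring, Nat.factorial_succ,
          show m + 3 * j + 4 = (m + 3 * j + 3) + 1 by ring, Nat.factorial_succ]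
      have h2 : m ! * 3 ^ (j + 1 + 2) * (j + 1 + 2)! =
          (m ! * 3 ^ (j + 2) * (j + 2)!) * (3 * (j + 3)) := by
        rw [show j + 1 + 2 = (j + 2) + 1 by ring, Nat.factorial_succ, pow_succ]
        ring
      rw [h1, h2]
      have h3 : 3 * (j + 3) ≤ (m + 3 * j + 6) * ((m + 3 * j + 5) * (m + 3 * j + 4)) := by
        have : 1 ≤ (m + 3 * j + 5) * (m + 3 * j + 4) := by nlinarith
        nlinarith
      have hpos : 0 < 3 * (j + 3) := by omega
      calc m ! * 3 ^ (j + 2) * (j + 2)! * (3 * (j + 3))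
          < 3 * (m + 3 * j + 3)! * (3 * (j + 3)) := Nat.mul_lt_mul_of_pos_right ih' hpos
        _ ≤ 3 * (m + 3 * j + 3)! * ((m + 3 * j + 6) * ((m + 3 * j + 5) * (m + 3 * j + 4))) :=
            Nat.mul_le_mul_left _ h3
        _ = 3 * ((m + 3 * j + 6) * ((m + 3 * j + 5) * ((m + 3 * j + 4) * (m + 3 * j + 3)!))) := by
            ring
    · have hm : m = 0 := by omega
      have hj : j = 0 := by omega
      subst hm hj
      norm_num [Nat.factorial]

end Arithmetic


section Centralizer

variable {α : Type*} [Fintype α] [DecidableEq α]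

/-- The centralizer in `A_n` has half the order of the centralizer in `S_n` when the latter is not
contained in `A_n`. -/
theorem two_mul_card_centralizer_alt [Nontrivial α] (h : alternatingGroup α)
    (hnot : ¬ Subgroup.centralizer {(h : Perm α)} ≤ alternatingGroup α) :
    2 * Nat.card (Subgroup.centralizer {h} : Subgroup (alternatingGroup α)) =
      Nat.card (Subgroup.centralizer {(h : Perm α)}) := by
  set C := Subgroup.centralizer {(h : Perm α)} with hC
  have e : (Subgroup.centralizer {h} : Subgroup (alternatingGroup α)) ≃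
      ((alternatingGroup α).subgroupOf C) :=
    { toFun := fun k => ⟨⟨(k.1 : Perm α), by
          rw [hC, Subgroup.mem_centralizer_singleton_iff]
          have := Subgroup.mem_centralizer_singleton_iff.mp k.2
          exact congrArg Subtype.val this⟩, k.1.2⟩
      invFun := fun c => ⟨⟨(c.1 : Perm α), c.2⟩, by
          rw [Subgroup.mem_centralizer_singleton_iff]
          apply Subtype.ext
          have := Subgroup.mem_centralizer_singleton_iff.mp c.1.2
          exact this⟩
      left_inv := fun k => rfl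
      right_inv := fun c => rfl }
  rw [Nat.card_congr e]
  have h1 : (alternatingGroup α).relIndex C ∣ 2 := by
    rw [← alternatingGroup.index_eq_two (α := α)]
    exact Subgroup.relIndex_dvd_index_of_normal _ _
  have h2 : (alternatingGroup α).relIndex C ≠ 1 := fun h => hnot (Subgroup.relIndex_eq_one.mp h)
  have h3 : (alternatingGroup α).relIndex C = 2 := by
    rcases (Nat.dvd_prime Nat.prime_two).mp h1 with h | h
    · exact absurd h h2
    · exact h
  have h4 := Subgroup.index_mul_card ((alternatingGroup α).subgroupOf C)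
  rw [← Subgroup.relIndex, h3] at h4
  exact h4

/-- Automorphisms preserve the order of centralizers. -/
theorem card_centralizer_map {G : Type*} [Group G] (φ : G ≃* G) (g : G) :
    Nat.card (Subgroup.centralizer {φ g}) = Nat.card (Subgroup.centralizer {g}) := by
  symm
  apply Nat.card_congr
  refine φ.toEquiv.subtypeEquiv (fun k => ?_)
  change k ∈ Subgroup.centralizer {g} ↔ φ k ∈ Subgroup.centralizer {φ g}
  rw [Subgroup.mem_centralizer_singleton_iff, Subgroup.mem_centralizer_singleton_iff,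
    ← map_mul, ← map_mul, φ.apply_eq_iff_eq]


/-- For `n ≠ 6`, automorphisms of `A_n` map 3-cycles to 3-cycles. -/
theorem isThreeCycle_map [Nontrivial α] (hcard : Fintype.card α ≠ 6)
    (φ : alternatingGroup α ≃* alternatingGroup α) (g : alternatingGroup α)
    (hg : (g : Perm α).IsThreeCycle) : ((φ g : alternatingGroup α) : Perm α).IsThreeCycle := by
  have ho : orderOf ((φ g : alternatingGroup α) : Perm α) = 3 := by
    rw [Subgroup.orderOf_coe, MulEquiv.orderOf_eq, ← Subgroup.orderOf_coe, hg.orderOf]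
  obtain ⟨k, hk⟩ := cycleType_prime_order (σ := ((φ g : alternatingGroup α) : Perm α))
    (by rw [ho]; exact Nat.prime_three)
  rw [ho] at hk
  have hsum : 3 * (k + 1) ≤ Fintype.card α := by
    have h1 := Equiv.Perm.sum_cycleType ((φ g : alternatingGroup α) : Perm α)
    rw [hk, Multiset.sum_replicate, smul_eq_mul] at h1
    have h2 := Finset.card_le_univ ((φ g : alternatingGroup α) : Perm α).support
    omega
  by_cases hk0 : k = 0
  · rw [hk0] at hk
    exact hk
  exfalso
  obtain ⟨j, rfl⟩ : ∃ j, k = j + 1 := ⟨k - 1, by omega⟩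
  have hg3 : (g : Perm α).cycleType = {3} := hg
  -- centralizers are not inside `A_n`
  have hnot_g : ¬ Subgroup.centralizer {(g : Perm α)} ≤ alternatingGroup α := by
    intro h
    have h1 := (centralizer_le_alternating_iff.mp h).2.1
    rw [hg3, Multiset.sum_singleton] at h1
    omega
  have hnot2 : ¬ Subgroup.centralizer {((φ g : alternatingGroup α) : Perm α)} ≤
      alternatingGroup α := by
    intro h
    have h1 := (centralizer_le_alternating_iff.mp h).2.2 3
    rw [hk, Multiset.count_replicate_self] at h1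
    omega
  have e1 := two_mul_card_centralizer_alt g hnot_g
  have e2 := two_mul_card_centralizer_alt (φ g) hnot2
  have e3 := card_centralizer_map φ g
  rw [nat_card_centralizer, hg3] at e1
  rw [nat_card_centralizer, hk] at e2
  rw [e3, e1] at e2
  simp only [Multiset.sum_singleton, Multiset.prod_singleton, Multiset.toFinset_singleton,
    Finset.prod_singleton, Multiset.count_singleton_self, Nat.factorial_one, mul_one,
    Multiset.sum_replicate, smul_eq_mul, Multiset.prod_replicate] at e2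
  have htf : (Multiset.replicate (j + 1 + 1) 3).toFinset = {3} := by
    ext x
    rw [Multiset.mem_toFinset, Multiset.mem_replicate, Finset.mem_singleton]
    constructor
    · exact fun h => h.2
    · exact fun h => ⟨by omega, h⟩
  rw [htf, Finset.prod_singleton, Multiset.count_replicate_self] at e2
  -- arithmetic
  obtain ⟨m, hm⟩ : ∃ m, Fintype.card α = m + 3 * j + 6 := ⟨Fintype.card α - (3 * j + 6), by omega⟩
  have hineq := factorial_ineq j m (by omega)
  rw [hm] at e2
  have h5 : m + 3 * j + 6 - 3 = m + 3 * j + 3 := by omega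
  have h6 : m + 3 * j + 6 - (j + 1 + 1) * 3 = m := by omega
  rw [h5, h6] at e2
  have h7 : j + 1 + 1 = j + 2 := rfl
  rw [h7] at e2
  omega

end Centralizer

section Main

variable {α : Type*} [Fintype α] [DecidableEq α]

theorem exists_two_not_mem (h : 4 ≤ Fintype.card α) (p q : α) :
    ∃ r s, r ≠ p ∧ r ≠ q ∧ s ≠ p ∧ s ≠ q ∧ r ≠ s := by
  have hc : 1 < (({p, q} : Finset α)ᶜ).card := by
    rw [Finset.card_compl]
    have : ({p, q} : Finset α).card ≤ 2 := Finset.card_le_two
    omega
  obtain ⟨r, hr, s, hs, hrs⟩ := Finset.one_lt_card.mp hc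
  simp only [Finset.mem_compl, Finset.mem_insert, Finset.mem_singleton, not_or] at hr hs
  exact ⟨r, s, hr.1, hr.2, hs.1, hs.2, hrs⟩

theorem c3_mem_alternating {a b c : α} (hab : a ≠ b) (hac : a ≠ c) (hbc : b ≠ c) :
    c3 a b c ∈ alternatingGroup α := (isThreeCycle_c3 hab hac hbc).mem_alternatingGroup

/-- The conjugation action of `S_n` on `A_n` is faithful for `n ≥ 4`. -/
theorem conjNormal_alternating_injective (h : 4 ≤ Fintype.card α) :
    Function.Injective (MulAut.conjNormal : Perm α →* MulAut (alternatingGroup α)) := by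
  rw [injective_iff_map_eq_one]
  intro σ hσ
  by_contra hne
  obtain ⟨p, hp⟩ : ∃ p, σ p ≠ p := by
    by_contra hcon
    push Not at hcon
    exact hne (Perm.ext hcon)
  obtain ⟨r, s, hrp, hrq, hsp, hsq, hrs⟩ := exists_two_not_mem h p (σ p)
  have hg := c3_mem_alternating hrp.symm hsp.symm hrs
  have h1 := congrArg (fun f : MulAut (alternatingGroup α) =>
    ((f ⟨c3 p r s, hg⟩ : alternatingGroup α) : Perm α)) hσ
  simp only [MulAut.conjNormal_apply, MulAut.one_apply] at h1
  rw [conj_c3] at h1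
  rcases c3_eq_c3 hrp.symm hsp.symm hrs (σ.injective.ne hrp.symm) (σ.injective.ne hsp.symm)
    (σ.injective.ne hrs) h1.symm with h2 | h2 | h2
  · exact hp h2.1
  · exact hrq h2.1.symm
  · exact hsq h2.1.symm

/-- Every automorphism of `A_n` is induced by conjugation by an element of `S_n`, if `n ≥ 4` and
`n ≠ 6`. -/
theorem conjNormal_alternating_surjective (h : 4 ≤ Fintype.card α) (h6 : Fintype.card α ≠ 6) :
    Function.Surjective (MulAut.conjNormal : Perm α →* MulAut (alternatingGroup α)) := by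
  intro φ
  haveI : Nontrivial α := Fintype.one_lt_card_iff_nontrivial.mp (by omega)
  obtain ⟨p0, p1, h01⟩ := exists_pair_ne α
  obtain ⟨i0, i1, hi0p0, hi0p1, hi1p0, hi1p1, hi01⟩ := exists_two_not_mem h p0 p1
  let T := {i : α // i ≠ p0 ∧ i ≠ p1}
  let X : T → alternatingGroup α := fun i =>
    ⟨c3 p0 p1 i.1, c3_mem_alternating h01 i.2.1.symm i.2.2.symm⟩
  have hXval : ∀ i : T, ((X i : alternatingGroup α) : Perm α) = c3 p0 p1 i.1 := fun i => rfl
  let Y : T → Perm α := fun i => ((φ (X i) : alternatingGroup α) : Perm α)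
  have hYdef : ∀ i : T, Y i = ((φ (X i) : alternatingGroup α) : Perm α) := fun i => rfl
  have hY3 : ∀ i : T, (Y i).IsThreeCycle := fun i =>
    isThreeCycle_map h6 φ (X i) (isThreeCycle_c3 h01 i.2.1.symm i.2.2.symm)
  have hYrel : ∀ i j : T, i ≠ j → (Y i * Y j) * (Y i * Y j) = 1 ∧ Y i * Y j ≠ 1 := by
    intro i j hij
    have hij' : i.1 ≠ j.1 := fun hh => hij (Subtype.ext hh)
    obtain ⟨e1, e2⟩ := c3_mul_c3_sq h01 i.2.1.symm j.2.1.symm i.2.2.symm j.2.2.symm hij'
    have e1' : (X i * X j) * (X i * X j) = 1 := Subtype.ext e1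
    have e2' : X i * X j ≠ 1 := fun hh => e2 (congrArg Subtype.val hh)
    constructor
    · have := congrArg φ e1'
      rw [map_mul, map_mul, map_one] at this
      exact congrArg Subtype.val this
    · intro hcon
      apply e2'
      apply φ.injective
      rw [map_mul, map_one]
      exact Subtype.ext hcon
  let t0 : T := ⟨i0, hi0p0, hi0p1⟩
  let t1 : T := ⟨i1, hi1p0, hi1p1⟩
  have ht01 : t0 ≠ t1 := fun hh => hi01 (congrArg Subtype.val hh)
  obtain ⟨hr1, hr2⟩ := hYrel t0 t1 ht01
  obtain ⟨a, b, c, d, hab, hac, had, hbc, hbd, hcd, hY0, hY1⟩ :=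
    exists_common_edge (hY3 t0) (hY3 t1) hr1 hr2
  have hex : ∀ i : T, ∃ e, e ≠ a ∧ e ≠ b ∧ Y i = c3 a b e := by
    intro i
    by_cases hi0 : i = t0
    · exact ⟨c, hac.symm, hbc.symm, by rw [hi0, hY0]⟩
    by_cases hi1 : i = t1
    · exact ⟨d, had.symm, hbd.symm, by rw [hi1, hY1]⟩
    obtain ⟨q1, q2⟩ := hYrel t0 i (Ne.symm hi0)
    obtain ⟨q3, q4⟩ := hYrel t1 i (Ne.symm hi1)
    rw [hY0] at q1 q2
    rw [hY1] at q3 q4
    exact common_edge_clique hab hac had hbc hbd hcd (hY3 i) q1 q2 q3 q4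
  choose e hea heb hYe using hex
  have he_inj : Function.Injective e := by
    intro i j hij
    have h1 : Y i = Y j := by rw [hYe i, hYe j, hij]
    have h2 : X i = X j := φ.injective (Subtype.ext h1)
    have h3 : c3 p0 p1 i.1 = c3 p0 p1 j.1 := congrArg Subtype.val h2
    have h4 : c3 p0 p1 i.1 p1 = c3 p0 p1 j.1 p1 := by rw [h3]
    rw [c3_apply h01 i.2.1.symm i.2.2.symm, c3_apply h01 j.2.1.symm j.2.2.symm,
      if_neg h01.symm, if_pos rfl, if_neg h01.symm, if_pos rfl] at h4
    exact Subtype.ext h4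
  let f : α → α := fun p => if h0 : p = p0 then a else if h1 : p = p1 then b else e ⟨p, h0, h1⟩
  have hf0 : f p0 = a := dif_pos rfl
  have hf1 : f p1 = b := by
    change (if h0 : p1 = p0 then a else if h1 : p1 = p1 then b else e ⟨p1, h0, h1⟩) = b
    rw [dif_neg h01.symm, dif_pos rfl]
  have hfT : ∀ i : T, f i.1 = e i := by
    intro i
    change (if h0 : i.1 = p0 then a else if h1 : i.1 = p1 then b else e ⟨i.1, h0, h1⟩) = e i
    rw [dif_neg i.2.1, dif_neg i.2.2]
  have htri : ∀ p, p = p0 ∨ p = p1 ∨ ∃ i : T, p = i.1 := fun p => by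
    by_cases h0 : p = p0
    · exact Or.inl h0
    by_cases h1 : p = p1
    · exact Or.inr (Or.inl h1)
    exact Or.inr (Or.inr ⟨⟨p, h0, h1⟩, rfl⟩)
  have hf_inj : Function.Injective f := by
    intro p p' hpp
    rcases htri p with hp | hp | ⟨i, hp⟩ <;> rcases htri p' with hp' | hp' | ⟨j, hp'⟩ <;>
      rw [hp, hp'] at hpp ⊢
    · exact absurd (hf0.symm.trans (hpp.trans hf1)) hab
    · exact absurd ((hfT j).symm.trans (hpp.symm.trans hf0)) (hea j)
    · exact absurd (hf1.symm.trans (hpp.trans hf0)) hab.symm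
    · exact absurd ((hfT j).symm.trans (hpp.symm.trans hf1)) (heb j)
    · exact absurd ((hfT i).symm.trans (hpp.trans hf0)) (hea i)
    · exact absurd ((hfT i).symm.trans (hpp.trans hf1)) (heb i)
    · have := he_inj ((hfT i).symm.trans (hpp.trans (hfT j)))
      rw [this]
  let σ : Perm α := Equiv.ofBijective f (Finite.injective_iff_bijective.mp hf_inj)
  have hσ : ∀ p, σ p = f p := fun p => rfl
  refine ⟨σ, ?_⟩
  -- the two automorphisms agree on the generators `X i`
  have hagree : ∀ i : T, (MulAut.conjNormal σ : MulAut (alternatingGroup α)) (X i) = φ (X i) := by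
    intro i
    apply Subtype.ext
    rw [MulAut.conjNormal_apply, hXval, conj_c3, hσ, hσ, hσ, hf0, hf1, hfT, ← hYe i]
  -- the `X i` generate
  have hgen : Subgroup.closure (Set.range X) = ⊤ := by
    rw [eq_top_iff]
    have key : ∀ g : Perm α, g ∈ Subgroup.closure
        {x : Perm α | ∃ i, i ≠ p0 ∧ i ≠ p1 ∧ x = c3 p0 p1 i} →
        ∃ hg : g ∈ alternatingGroup α,
          (⟨g, hg⟩ : alternatingGroup α) ∈ Subgroup.closure (Set.range X) := by
      intro g hg
      induction hg using Subgroup.closure_induction with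
      | mem x hx =>
        obtain ⟨i, hi0, hi1, rfl⟩ := hx
        exact ⟨c3_mem_alternating h01 hi0.symm hi1.symm,
          Subgroup.subset_closure ⟨⟨i, hi0, hi1⟩, rfl⟩⟩
      | one => exact ⟨Subgroup.one_mem _, Subgroup.one_mem _⟩
      | mul x y _ _ hx hy =>
        obtain ⟨hx1, hx2⟩ := hx
        obtain ⟨hy1, hy2⟩ := hy
        exact ⟨Subgroup.mul_mem _ hx1 hy1, Subgroup.mul_mem _ hx2 hy2⟩
      | inv x _ hx =>
        obtain ⟨hx1, hx2⟩ := hx
        exact ⟨Subgroup.inv_mem _ hx1, Subgroup.inv_mem _ hx2⟩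
    intro g _
    have hg : (g : Perm α) ∈ Subgroup.closure {σ : Perm α | σ.IsThreeCycle} := by
      rw [Equiv.Perm.closure_three_cycles_eq_alternating]
      exact g.2
    have hle : Subgroup.closure {σ : Perm α | σ.IsThreeCycle} ≤ Subgroup.closure
        {x : Perm α | ∃ i, i ≠ p0 ∧ i ≠ p1 ∧ x = c3 p0 p1 i} := by
      rw [Subgroup.closure_le]
      intro x hx
      exact isThreeCycle_mem_closure h01 hx
    obtain ⟨_, h2⟩ := key g (hle hg)
    exact h2
  have hhom : (MulAut.conjNormal σ : MulAut (alternatingGroup α)).toMonoidHom = φ.toMonoidHom := by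
    apply MonoidHom.eq_of_eqOn_dense hgen
    rintro _ ⟨i, rfl⟩
    exact hagree i
  exact MulEquiv.ext fun x => DFunLike.congr_fun hhom x

/-- `Aut(A_n) = S_n` for `n ≥ 4`, `n ≠ 6`. -/
theorem conjNormal_alternating_bijective (h : 4 ≤ Fintype.card α) (h6 : Fintype.card α ≠ 6) :
    Function.Bijective (MulAut.conjNormal : Perm α →* MulAut (alternatingGroup α)) :=
  ⟨conjNormal_alternating_injective h, conjNormal_alternating_surjective h h6⟩

end Main

end Cfsg.Agent.Lib.H18
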