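import Cfsg.Agent.Lib.H8.AschSM4a
import Cfsg.Agent.Lib.H17.AschSM1

/-!
# S5662, module SM4-C (helper18): `q` odd, `f = A ⊗ S` with `A` alternating and `S` symmetric `2 × 2`
gives class 2b (pair of complementary totally singular subspaces) or class 3b (unitary-type field of degree 2)

Abstract part: a matrix `δ` with `δ * δ = μ • 1`, `μ ≠ 0`, skew-adjoint for `f`, commuting or anticommuting with every
element of `H`.
-/

set_option autoImplicit false
set_option linter.unusedSectionVars false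

namespace Cfsg.Agent.Lib.H18.AschS

open Cfsg Cfsg.Geo Cfsg.Agent.Lib.Lead.Asch Cfsg.Agent.Lib.H6.Asch Cfsg.Agent.Lib.H20.Asch
  Cfsg.Agent.Lib.H11.AschS Cfsg.Agent.Lib.H17.AschS Cfsg.Agent.Lib.H8.AschS
open scoped MatrixGroups Matrix Kronecker

variable {F : Type*} [Field F] [Fintype F] {n : ℕ} {f : (Fin n → F) → (Fin n → F) → F}

theorem two_ne_zero_of_odd (hq : Odd (Fintype.card F)) : (2 : F) ≠ 0 := by
  intro h2
  obtain ⟨k, hk⟩ := hq
  have h := Nat.cast_card_eq_zero F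
  rw [hk] at h
  push_cast at h
  rw [h2, zero_mul, zero_add] at h
  exact one_ne_zero h

/-! ## The split case -/

/-- the two eigenvalues -/
def evS (c : F) : Fin 2 → F := ![c, -c]

/-- the two eigenspaces -/
def eigS (δ : Matrix (Fin n) (Fin n) F) (c : F) (i : Fin 2) : Submodule F (Fin n → F) :=
  LinearMap.ker (Matrix.toLin' (δ - evS c i • (1 : Matrix (Fin n) (Fin n) F)))

theorem mem_eigS (δ : Matrix (Fin n) (Fin n) F) (c : F) (i : Fin 2) (v : Fin n → F) :
    v ∈ eigS δ c i ↔ δ *ᵥ v = evS c i • v := by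
  unfold eigS
  rw [LinearMap.mem_ker, Matrix.toLin'_apply, Matrix.sub_mulVec, Matrix.smul_mulVec,
    Matrix.one_mulVec, sub_eq_zero]

theorem evS_ne_zero {c : F} (hc : c ≠ 0) (i : Fin 2) : evS c i ≠ 0 := by
  fin_cases i
  · exact hc
  · exact neg_ne_zero.2 hc

theorem map_eigS (δ : Matrix (Fin n) (Fin n) F) (c : F) (g : GL (Fin n) F) (ε : F) (hε : ε * ε = 1)
    (hg : (g : Matrix (Fin n) (Fin n) F) * δ = ε • (δ * (g : Matrix (Fin n) (Fin n) F)))
    (i j : Fin 2) (hij : evS c j = ε * evS c i) :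
    (eigS δ c i).map (Matrix.toLin' (g : Matrix (Fin n) (Fin n) F)) = eigS δ c j := by
  have hε0 : ε ≠ 0 := by
    intro h0
    rw [h0, zero_mul] at hε
    exact zero_ne_one hε
  have hg' : δ * (g : Matrix (Fin n) (Fin n) F) = ε • ((g : Matrix (Fin n) (Fin n) F) * δ) := by
    rw [hg, smul_smul, hε, one_smul]
  have key : ∀ v : Fin n → F, δ *ᵥ ((g : Matrix (Fin n) (Fin n) F) *ᵥ v) =
      ε • ((g : Matrix (Fin n) (Fin n) F) *ᵥ (δ *ᵥ v)) := by
    intro v
    rw [Matrix.mulVec_mulVec, hg', Matrix.smul_mulVec, ← Matrix.mulVec_mulVec]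
  apply le_antisymm
  · rintro _ ⟨v, hv, rfl⟩
    rw [SetLike.mem_coe, mem_eigS] at hv
    rw [mem_eigS, Matrix.toLin'_apply, key, hv, Matrix.mulVec_smul, smul_smul, hij]
  · intro x hx
    rw [mem_eigS] at hx
    refine ⟨((g⁻¹ : GL (Fin n) F) : Matrix (Fin n) (Fin n) F) *ᵥ x, ?_, ?_⟩
    · rw [SetLike.mem_coe, mem_eigS]
      have hgx : (g : Matrix (Fin n) (Fin n) F) *ᵥ
          (((g⁻¹ : GL (Fin n) F) : Matrix (Fin n) (Fin n) F) *ᵥ x) = x := by
        rw [Matrix.mulVec_mulVec, ← Units.val_mul, mul_inv_cancel, Units.val_one, Matrix.one_mulVec]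
      have h1 := key (((g⁻¹ : GL (Fin n) F) : Matrix (Fin n) (Fin n) F) *ᵥ x)
      rw [hgx, hx, hij] at h1
      -- apply `g⁻¹`
      have h2 := congrArg (fun y => ((g⁻¹ : GL (Fin n) F) : Matrix (Fin n) (Fin n) F) *ᵥ y) h1
      simp only [Matrix.mulVec_smul] at h2
      rw [Matrix.mulVec_mulVec (M := ((g⁻¹ : GL (Fin n) F) : Matrix (Fin n) (Fin n) F))
        (N := (g : Matrix (Fin n) (Fin n) F)), ← Units.val_mul, inv_mul_cancel, Units.val_one,
        Matrix.one_mulVec, mul_smul] at h2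
      exact (smul_right_injective _ hε0 h2).symm
    · rw [Matrix.toLin'_apply, Matrix.mulVec_mulVec, ← Units.val_mul, mul_inv_cancel, Units.val_one,
        Matrix.one_mulVec]

theorem sc2b_of_split (hf : IsSymplecticForm f) (hq : Odd (Fintype.card F))
    (H : Subgroup (GL (Fin n) F)) (hn : 0 < n) (δ : Matrix (Fin n) (Fin n) F) (c : F) (hc : c ≠ 0)
    (hδ2 : δ * δ = (c * c) • (1 : Matrix (Fin n) (Fin n) F))
    (hskew : ∀ u v, f (δ *ᵥ u) v = - f u (δ *ᵥ v))
    (hH : ∀ h ∈ H, ∃ ε : F, (ε = 1 ∨ ε = -1) ∧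
      (h : Matrix (Fin n) (Fin n) F) * δ = ε • (δ * (h : Matrix (Fin n) (Fin n) F))) :
    SC2b f H := by
  have h2 := two_ne_zero_of_odd hq
  have hδδ : ∀ v : Fin n → F, δ *ᵥ (δ *ᵥ v) = (c * c) • v := by
    intro v
    rw [Matrix.mulVec_mulVec, hδ2, Matrix.smul_mulVec, Matrix.one_mulVec]
  -- totally singular
  have hts : ∀ i, IsTotallySingularFor f (eigS δ c i) := by
    intro i u hu v hv
    rw [mem_eigS] at hu hv
    have h1 := hskew u v
    rw [hu, hv, hf.bilinear.smul_left, hf.bilinear.smul_right] at h1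
    have h3 : (2 * evS c i) * f u v = 0 := by linear_combination h1
    rcases mul_eq_zero.1 h3 with h4 | h4
    · exact absurd h4 (mul_ne_zero h2 (evS_ne_zero hc i))
    · exact h4
  -- complementary
  have hdisj : eigS δ c 0 ⊓ eigS δ c 1 = ⊥ := by
    rw [eq_bot_iff]
    rintro v ⟨hv0, hv1⟩
    rw [SetLike.mem_coe, mem_eigS] at hv0 hv1
    rw [Submodule.mem_bot]
    have h1 : (2 * c) • v = 0 := by
      have : evS c 0 • v = evS c 1 • v := by rw [← hv0, ← hv1]
      have h3 : evS c 0 = c := rfl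
      have h4 : evS c 1 = -c := rfl
      rw [h3, h4] at this
      rw [two_mul, add_smul]
      nth_rewrite 1 [this]
      rw [neg_smul, neg_add_cancel]
    rcases smul_eq_zero.1 h1 with h3 | h3
    · exact absurd h3 (mul_ne_zero h2 hc)
    · exact h3
  have hsup : eigS δ c 0 ⊔ eigS δ c 1 = ⊤ := by
    rw [eq_top_iff]
    intro v _
    have ha : (2⁻¹ : F) • (v + c⁻¹ • δ *ᵥ v) ∈ eigS δ c 0 := by
      rw [mem_eigS]
      have h3 : evS c 0 = c := rfl
      rw [h3, Matrix.mulVec_smul, Matrix.mulVec_add, Matrix.mulVec_smul, hδδ, smul_smul, smul_smul,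
        smul_add, smul_add, smul_smul, smul_smul]
      have e1 : 2⁻¹ * (c⁻¹ * (c * c)) = c * 2⁻¹ := by field_simp
      have e2 : c * 2⁻¹ * c⁻¹ = 2⁻¹ := by field_simp
      rw [e1, e2, add_comm]
    have hb : (2⁻¹ : F) • (v - c⁻¹ • δ *ᵥ v) ∈ eigS δ c 1 := by
      rw [mem_eigS]
      have h3 : evS c 1 = -c := rfl
      rw [h3, Matrix.mulVec_smul, Matrix.mulVec_sub, Matrix.mulVec_smul, hδδ, smul_smul, smul_smul,
        smul_sub, smul_sub, smul_smul, smul_smul]
      have e1 : 2⁻¹ * (c⁻¹ * (c * c)) = c * 2⁻¹ := by field_simp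
      have e2 : -c * 2⁻¹ * c⁻¹ = -2⁻¹ := by field_simp
      rw [e1, e2]
      module
    have hv : v = (2⁻¹ : F) • (v + c⁻¹ • δ *ᵥ v) + (2⁻¹ : F) • (v - c⁻¹ • δ *ᵥ v) := by
      rw [← smul_add, add_add_sub_cancel, ← two_smul F v, smul_smul, inv_mul_cancel₀ h2, one_smul]
    rw [hv]
    exact Submodule.add_mem_sup ha hb
  -- dimensions
  have hdim := Submodule.finrank_sup_add_finrank_inf_eq (eigS δ c 0) (eigS δ c 1)
  rw [hsup, hdisj, finrank_bot, finrank_top, Module.finrank_fin_fun, add_zero] at hdim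
  have hle : ∀ i, 2 * Module.finrank F (eigS δ c i) ≤ n := by
    intro i
    have h1 : eigS δ c i ≤ perpF hf (eigS δ c i) := by
      intro v hv
      rw [mem_perpF]
      intro w hw
      exact hts i w hw v hv
    have h3 := Submodule.finrank_mono h1
    rw [finrank_perpF] at h3
    omega
  have hle0 := hle 0
  have hle1 := hle 1
  refine ⟨Module.finrank F (eigS δ c 0), eigS δ c, hq, by rw [Fintype.card_fin]; omega, ?_, hts, ?_⟩
  · refine ⟨le_refl _, by omega, ?_, ?_, ?_⟩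
    · intro i
      fin_cases i
      · rfl
      · show Module.finrank F (eigS δ c 1) = Module.finrank F (eigS δ c 0)
        omega
    · rw [iSupIndep_pair (i := (0 : Fin 2)) (j := 1) (by decide)
        (by intro i; fin_cases i <;> simp)]
      rw [disjoint_iff]
      exact hdisj
    · rw [eq_top_iff, ← hsup]
      exact sup_le (le_iSup (eigS δ c) 0) (le_iSup (eigS δ c) 1)
  · intro h hh
    obtain ⟨ε, hε, hcomm⟩ := hH h hh
    rcases hε with rfl | rfl
    · refine ⟨1, fun i => ?_⟩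
      exact map_eigS δ c h 1 (by ring) hcomm i i (by rw [one_mul])
    · refine ⟨Equiv.swap 0 1, fun i => ?_⟩
      apply map_eigS δ c h (-1) (by ring) hcomm
      fin_cases i
      · show evS c (Equiv.swap (0 : Fin 2) 1 0) = -1 * evS c 0
        rw [Equiv.swap_apply_left]
        show -c = -1 * c
        ring
      · show evS c (Equiv.swap (0 : Fin 2) 1 1) = -1 * evS c 1
        rw [Equiv.swap_apply_right]
        show c = -1 * -c
        ring

/-! ## The non-split case -/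

/-- the algebra `F + F δ` -/
def quadAlg (δ : Matrix (Fin n) (Fin n) F) (μ : F)
    (hδ2 : δ * δ = μ • (1 : Matrix (Fin n) (Fin n) F)) : Subalgebra F (Matrix (Fin n) (Fin n) F) where
  carrier := {k | ∃ a b : F, k = a • (1 : Matrix (Fin n) (Fin n) F) + b • δ}
  mul_mem' := by
    rintro _ _ ⟨a, b, rfl⟩ ⟨a', b', rfl⟩
    refine ⟨a * a' + b * b' * μ, a * b' + b * a', ?_⟩
    simp only [add_mul, mul_add, smul_mul_smul_comm, one_mul, mul_one, hδ2]
    module
  add_mem' := by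
    rintro _ _ ⟨a, b, rfl⟩ ⟨a', b', rfl⟩
    exact ⟨a + a', b + b', by module⟩
  algebraMap_mem' r := ⟨r, 0, by
    rw [zero_smul, add_zero, Algebra.algebraMap_eq_smul_one]⟩

theorem mem_quadAlg (δ : Matrix (Fin n) (Fin n) F) (μ : F)
    (hδ2 : δ * δ = μ • (1 : Matrix (Fin n) (Fin n) F)) (k : Matrix (Fin n) (Fin n) F) :
    k ∈ quadAlg δ μ hδ2 ↔ ∃ a b : F, k = a • (1 : Matrix (Fin n) (Fin n) F) + b • δ := Iff.rfl

theorem sc3b_of_nonsplit (hf : IsSymplecticForm f) (hq : Odd (Fintype.card F))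
    (H : Subgroup (GL (Fin n) F)) (hn : 0 < n) (δ : Matrix (Fin n) (Fin n) F) (μ : F)
    (hμ : ∀ c : F, μ ≠ c * c)
    (hδ2 : δ * δ = μ • (1 : Matrix (Fin n) (Fin n) F))
    (hskew : ∀ u v, f (δ *ᵥ u) v = - f u (δ *ᵥ v))
    (hH : ∀ h ∈ H, ∃ ε : F, (ε = 1 ∨ ε = -1) ∧
      (h : Matrix (Fin n) (Fin n) F) * δ = ε • (δ * (h : Matrix (Fin n) (Fin n) F))) :
    SC3b f H := by
  have h2 := two_ne_zero_of_odd hq
  haveI : Nonempty (Fin n) := ⟨⟨0, hn⟩⟩
  have hone : (1 : Matrix (Fin n) (Fin n) F) ≠ 0 := one_ne_zero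
  -- `1, δ` are independent
  have hind : ∀ a b : F, a • (1 : Matrix (Fin n) (Fin n) F) + b • δ = 0 → a = 0 ∧ b = 0 := by
    intro a b hab
    have hb : b = 0 := by
      by_contra hb
      have h1 : δ = (-(a / b)) • (1 : Matrix (Fin n) (Fin n) F) := by
        have h3 : b • δ = (-a) • (1 : Matrix (Fin n) (Fin n) F) := by
          rw [neg_smul]
          exact eq_neg_of_add_eq_zero_right hab
        have h4 := congrArg (fun M => b⁻¹ • M) h3
        simp only [smul_smul, inv_mul_cancel₀ hb, one_smul] at h4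
        rw [h4]
        congr 1
        field_simp
      have h3 : δ * δ = ((a / b) * (a / b)) • (1 : Matrix (Fin n) (Fin n) F) := by
        rw [h1, smul_mul_smul_comm, one_mul, neg_mul_neg]
      rw [hδ2] at h3
      have h4 : (μ - (a / b) * (a / b)) • (1 : Matrix (Fin n) (Fin n) F) = 0 := by
        rw [sub_smul, h3, sub_self]
      rcases smul_eq_zero.1 h4 with h5 | h5
      · exact hμ (a / b) (sub_eq_zero.1 h5)
      · exact hone h5
    refine ⟨?_, hb⟩
    rw [hb, zero_smul, add_zero] at hab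
    rcases smul_eq_zero.1 hab with h5 | h5
    · exact h5
    · exact absurd h5 hone
  have hδK : δ ∈ quadAlg δ μ hδ2 := ⟨0, 1, by rw [zero_smul, zero_add, one_smul]⟩
  refine ⟨quadAlg δ μ hδ2, hq, ⟨?_, ?_, ?_⟩, ?_, ?_, ?_⟩
  · -- commutative
    rintro _ ⟨a, b, rfl⟩ _ ⟨a', b', rfl⟩
    simp only [add_mul, mul_add, smul_mul_smul_comm, one_mul, mul_one, hδ2]
    module
  · -- inverses
    rintro _ ⟨a, b, rfl⟩ hx
    have hN : a * a - b * b * μ ≠ 0 := by
      intro hN
      by_cases hb : b = 0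
      · rw [hb, zero_mul, zero_mul, sub_zero] at hN
        have ha : a = 0 := mul_self_eq_zero.1 hN
        apply hx
        rw [ha, hb, zero_smul, zero_smul, add_zero]
      · apply hμ (a / b)
        field_simp
        linear_combination -hN
    refine ⟨(a * a - b * b * μ)⁻¹ • (a • (1 : Matrix (Fin n) (Fin n) F) + (-b) • δ),
      ⟨(a * a - b * b * μ)⁻¹ * a, (a * a - b * b * μ)⁻¹ * (-b), by
        rw [smul_add, smul_smul, smul_smul]⟩, ?_⟩
    rw [mul_smul_comm]
    have h1 : (a • (1 : Matrix (Fin n) (Fin n) F) + b • δ) * (a • (1 : Matrix (Fin n) (Fin n) F) + (-b) • δ)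
        = (a * a - b * b * μ) • (1 : Matrix (Fin n) (Fin n) F) := by
      simp only [add_mul, mul_add, smul_mul_smul_comm, one_mul, mul_one, hδ2]
      module
    rw [h1, smul_smul, inv_mul_cancel₀ hN, one_smul]
  · -- dimension two
    have hspan : Subalgebra.toSubmodule (quadAlg δ μ hδ2) =
        Submodule.span F (Set.range ![(1 : Matrix (Fin n) (Fin n) F), δ]) := by
      ext x
      rw [Subalgebra.mem_toSubmodule, mem_quadAlg, Submodule.mem_span_range_iff_exists_fun]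
      constructor
      · rintro ⟨a, b, rfl⟩
        exact ⟨![a, b], by simp [Fin.sum_univ_two]⟩
      · rintro ⟨c, rfl⟩
        exact ⟨c 0, c 1, by simp [Fin.sum_univ_two]⟩
    have hli : LinearIndependent F ![(1 : Matrix (Fin n) (Fin n) F), δ] := by
      rw [LinearIndependent.pair_iff]
      intro a b hab
      exact hind a b hab
    have h1 := finrank_span_eq_card hli
    rw [← hspan, Fintype.card_fin] at h1
    exact h1
  · -- adjoint-closed
    rintro _ ⟨a, b, rfl⟩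
    refine ⟨a • (1 : Matrix (Fin n) (Fin n) F) + (-b) • δ, ⟨a, -b, rfl⟩, fun u v => ?_⟩
    simp only [Matrix.add_mulVec, Matrix.smul_mulVec, Matrix.one_mulVec, hf.bilinear.add_left,
      hf.bilinear.add_right, hf.bilinear.smul_left, hf.bilinear.smul_right, hskew]
    ring
  · -- not self-adjoint
    intro hsa
    have h1 : ∀ u v, f (δ *ᵥ u) v = 0 := by
      intro u v
      have h3 := hsa δ hδK u v
      have h4 := hskew u v
      have h5 : 2 * f (δ *ᵥ u) v = 0 := by linear_combination h3 + h4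
      rcases mul_eq_zero.1 h5 with h6 | h6
      · exact absurd h6 h2
      · exact h6
    have h3 : ∀ u, δ *ᵥ u = 0 := by
      intro u
      by_contra hne
      obtain ⟨x, hx⟩ := (hf.nondegenerate _ hne).2
      exact hx (h1 u x)
    have h4 : δ = 0 := by
      ext i j
      have := congrFun (h3 (Pi.single j 1)) i
      simpa using this
    have hμ0 : μ = 0 := by
      have h5 : μ • (1 : Matrix (Fin n) (Fin n) F) = 0 := by rw [← hδ2, h4, mul_zero]
      rcases smul_eq_zero.1 h5 with h6 | h6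
      · exact h6
      · exact absurd h6 hone
    exact hμ 0 (by rw [hμ0, mul_zero])
  · -- normalised
    have key : ∀ g : GL (Fin n) F, ∀ ε : F, ε * ε = 1 →
        (g : Matrix (Fin n) (Fin n) F) * δ = ε • (δ * (g : Matrix (Fin n) (Fin n) F)) →
        ∀ k ∈ quadAlg δ μ hδ2, (g : Matrix (Fin n) (Fin n) F) * k *
          ((g⁻¹ : GL (Fin n) F) : Matrix (Fin n) (Fin n) F) ∈ quadAlg δ μ hδ2 := by
      rintro g ε hε hg _ ⟨a, b, rfl⟩
      refine ⟨a, b * ε, ?_⟩
      have hgg : (g : Matrix (Fin n) (Fin n) F) * ((g⁻¹ : GL (Fin n) F) : Matrix (Fin n) (Fin n) F) = 1 := by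
        rw [← Units.val_mul, mul_inv_cancel, Units.val_one]
      rw [mul_add, add_mul, mul_smul_comm, mul_one, smul_mul_assoc, hgg, mul_smul_comm, hg,
        smul_mul_assoc, smul_mul_assoc, Matrix.mul_assoc, hgg, mul_one, smul_smul]
    intro h hh
    obtain ⟨ε, hε, hcomm⟩ := hH h hh
    have hεε : ε * ε = 1 := by
      rcases hε with rfl | rfl <;> ring
    intro k
    constructor
    · exact key h ε hεε hcomm k
    · intro hk
      have hcomm' : ((h⁻¹ : GL (Fin n) F) : Matrix (Fin n) (Fin n) F) * δ =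
          ε • (δ * ((h⁻¹ : GL (Fin n) F) : Matrix (Fin n) (Fin n) F)) := by
        have hgg : ((h⁻¹ : GL (Fin n) F) : Matrix (Fin n) (Fin n) F) * (h : Matrix (Fin n) (Fin n) F) = 1 := by
          rw [← Units.val_mul, inv_mul_cancel, Units.val_one]
        have hgg' : (h : Matrix (Fin n) (Fin n) F) * ((h⁻¹ : GL (Fin n) F) : Matrix (Fin n) (Fin n) F) = 1 := by
          rw [← Units.val_mul, mul_inv_cancel, Units.val_one]
        -- `δ h⁻¹ = ε h⁻¹ δ`
        have h1 : δ * ((h⁻¹ : GL (Fin n) F) : Matrix (Fin n) (Fin n) F) =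
            ε • (((h⁻¹ : GL (Fin n) F) : Matrix (Fin n) (Fin n) F) * δ) := by
          calc δ * ((h⁻¹ : GL (Fin n) F) : Matrix (Fin n) (Fin n) F)
              = ((h⁻¹ : GL (Fin n) F) : Matrix (Fin n) (Fin n) F) * ((h : Matrix (Fin n) (Fin n) F) * δ) *
                  ((h⁻¹ : GL (Fin n) F) : Matrix (Fin n) (Fin n) F) := by
                rw [← Matrix.mul_assoc, hgg, one_mul]
            _ = ε • (((h⁻¹ : GL (Fin n) F) : Matrix (Fin n) (Fin n) F) * δ) := by
                rw [hcomm, mul_smul_comm, smul_mul_assoc, ← Matrix.mul_assoc, Matrix.mul_assoc, hgg',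
                  mul_one]
        rw [h1, smul_smul, hεε, one_smul]
      have h3 := key h⁻¹ ε hεε hcomm' _ hk
      rw [inv_inv] at h3
      have h4 : ((h⁻¹ : GL (Fin n) F) : Matrix (Fin n) (Fin n) F) *
          ((h : Matrix (Fin n) (Fin n) F) * k * ((h⁻¹ : GL (Fin n) F) : Matrix (Fin n) (Fin n) F)) *
          (h : Matrix (Fin n) (Fin n) F) = k := by
        have hgg : ((h⁻¹ : GL (Fin n) F) : Matrix (Fin n) (Fin n) F) * (h : Matrix (Fin n) (Fin n) F) = 1 := by
          rw [← Units.val_mul, inv_mul_cancel, Units.val_one]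
        rw [← Matrix.mul_assoc, ← Matrix.mul_assoc, hgg, one_mul, Matrix.mul_assoc, hgg, mul_one]
      rw [h4] at h3
      exact h3

theorem sc2b_or_sc3b_of_skew (hf : IsSymplecticForm f) (hq : Odd (Fintype.card F))
    (H : Subgroup (GL (Fin n) F)) (hn : 0 < n) (δ : Matrix (Fin n) (Fin n) F) (μ : F) (hμ0 : μ ≠ 0)
    (hδ2 : δ * δ = μ • (1 : Matrix (Fin n) (Fin n) F))
    (hskew : ∀ u v, f (δ *ᵥ u) v = - f u (δ *ᵥ v))
    (hH : ∀ h ∈ H, ∃ ε : F, (ε = 1 ∨ ε = -1) ∧
      (h : Matrix (Fin n) (Fin n) F) * δ = ε • (δ * (h : Matrix (Fin n) (Fin n) F))) :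
    SC2b f H ∨ SC3b f H := by
  by_cases h : ∃ c : F, μ = c * c
  · obtain ⟨c, rfl⟩ := h
    have hc : c ≠ 0 := by
      intro h0
      apply hμ0
      rw [h0, mul_zero]
    exact Or.inl (sc2b_of_split hf hq H hn δ c hc hδ2 hskew hH)
  · push Not at h
    exact Or.inr (sc3b_of_nonsplit hf hq H hn δ μ h hδ2 hskew hH)

/-! ## `2 × 2` computations -/

/-- the standard alternating `2 × 2` matrix -/
def J2 : Matrix (Fin 2) (Fin 2) F := !![0, 1; -1, 0]

theorem J2_transpose : (J2 : Matrix (Fin 2) (Fin 2) F)ᵀ = -J2 := by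
  ext i j
  fin_cases i <;> fin_cases j <;> simp [J2]

theorem J2_mul_J2 : (J2 : Matrix (Fin 2) (Fin 2) F) * J2 = -1 := by
  ext i j
  fin_cases i <;> fin_cases j <;> simp [J2, Matrix.mul_apply, Fin.sum_univ_two]

theorem mul_J2_mul_transpose (m : Matrix (Fin 2) (Fin 2) F) : m * J2 * mᵀ = m.det • J2 := by
  ext i j
  fin_cases i <;> fin_cases j <;>
    simp [J2, Matrix.mul_apply, Fin.sum_univ_two, Matrix.det_fin_two] <;> ring

/-- `δ₁ = J₂ S` -/
def del1 (S : Matrix (Fin 2) (Fin 2) F) : Matrix (Fin 2) (Fin 2) F := J2 * S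

theorem del1_skew (S : Matrix (Fin 2) (Fin 2) F) (hS : Sᵀ = S) :
    (del1 S)ᵀ * S = -(S * del1 S) := by
  unfold del1
  rw [Matrix.transpose_mul, hS, J2_transpose, Matrix.mul_neg, Matrix.neg_mul, Matrix.mul_assoc]

theorem del1_sq (S : Matrix (Fin 2) (Fin 2) F) (hS : Sᵀ = S) :
    del1 S * del1 S = (-S.det) • (1 : Matrix (Fin 2) (Fin 2) F) := by
  unfold del1
  have h1 : S * J2 * S = S.det • (J2 : Matrix (Fin 2) (Fin 2) F) := by
    have := mul_J2_mul_transpose S
    rwa [hS] at this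
  calc J2 * S * (J2 * S) = J2 * (S * J2 * S) := by simp only [Matrix.mul_assoc]
    _ = (-S.det) • (1 : Matrix (Fin 2) (Fin 2) F) := by
      rw [h1, Matrix.mul_smul, J2_mul_J2, neg_smul, smul_neg]

theorem del1_comm (S b : Matrix (Fin 2) (Fin 2) F) (c' : F) (hc' : c' ≠ 0) (hSdet : S.det ≠ 0)
    (hb : bᵀ * S * b = c' • S) :
    ∃ ε : F, (ε = 1 ∨ ε = -1) ∧ b * del1 S = ε • (del1 S * b) := by
  have h1 : c' • (b * del1 S) = b.det • (del1 S * b) := by
    unfold del1
    calc c' • (b * (J2 * S)) = b * J2 * (c' • S) := by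
          rw [Matrix.mul_smul, Matrix.mul_assoc]
      _ = b * J2 * bᵀ * S * b := by rw [← hb]; simp only [Matrix.mul_assoc]
      _ = b.det • (J2 * S * b) := by
          rw [mul_J2_mul_transpose, Matrix.smul_mul, Matrix.smul_mul]
  have h2 : b.det * b.det = c' * c' := by
    have h3 := congrArg Matrix.det hb
    rw [Matrix.det_mul, Matrix.det_mul, Matrix.det_transpose, Matrix.det_smul, Fintype.card_fin] at h3
    have h4 : (b.det * b.det - c' * c') * S.det = 0 := by linear_combination h3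
    rcases mul_eq_zero.1 h4 with h5 | h5
    · exact sub_eq_zero.1 h5
    · exact absurd h5 hSdet
  have h3 : (b.det - c') * (b.det + c') = 0 := by linear_combination h2
  rcases mul_eq_zero.1 h3 with h4 | h4
  · refine ⟨1, Or.inl rfl, ?_⟩
    have h5 : b.det = c' := sub_eq_zero.1 h4
    rw [h5] at h1
    rw [one_smul]
    exact smul_right_injective _ hc' h1
  · refine ⟨-1, Or.inr rfl, ?_⟩
    have h5 : b.det = -c' := eq_neg_of_add_eq_zero_left h4
    rw [h5, neg_smul, ← smul_neg] at h1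
    rw [neg_smul, one_smul]
    exact smul_right_injective _ hc' h1

/-! ## Kronecker computations -/

section kron

variable {n₁ : ℕ}

/-- `M₀ = 1 ⊗ δ₁` -/
def M0 (n₁ : ℕ) (S : Matrix (Fin 2) (Fin 2) F) : Matrix (Fin n₁ × Fin 2) (Fin n₁ × Fin 2) F :=
  (1 : Matrix (Fin n₁) (Fin n₁) F) ⊗ₖ del1 S

theorem M0_sq (S : Matrix (Fin 2) (Fin 2) F) (hS : Sᵀ = S) :
    M0 n₁ S * M0 n₁ S = (-S.det) • (1 : Matrix (Fin n₁ × Fin 2) (Fin n₁ × Fin 2) F) := by
  unfold M0
  rw [← Matrix.mul_kronecker_mul, del1_sq S hS, one_mul, Matrix.kronecker_smul,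
    Matrix.one_kronecker_one]

theorem M0_skew (A : Matrix (Fin n₁) (Fin n₁) F) (S : Matrix (Fin 2) (Fin 2) F) (hS : Sᵀ = S) :
    (M0 n₁ S)ᵀ * (A ⊗ₖ S) = -((A ⊗ₖ S) * M0 n₁ S) := by
  unfold M0
  rw [kron_transpose, Matrix.transpose_one, ← Matrix.mul_kronecker_mul, ← Matrix.mul_kronecker_mul,
    del1_skew S hS, one_mul, mul_one]
  have : -(S * del1 S) = (-1 : F) • (S * del1 S) := by rw [neg_smul, one_smul]
  rw [this, Matrix.kronecker_smul, neg_smul, one_smul]

theorem M0_comm (A a : Matrix (Fin n₁) (Fin n₁) F) (S b : Matrix (Fin 2) (Fin 2) F)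
    (hA0 : A ≠ 0) (hS0 : S ≠ 0) (hSdet : S.det ≠ 0)
    (h : (a ⊗ₖ b)ᵀ * (A ⊗ₖ S) * (a ⊗ₖ b) = A ⊗ₖ S) :
    ∃ ε : F, (ε = 1 ∨ ε = -1) ∧ (a ⊗ₖ b) * M0 n₁ S = ε • (M0 n₁ S * (a ⊗ₖ b)) := by
  obtain ⟨c, hc, -, hb⟩ := kron_similitude A a S b hA0 hS0 h
  obtain ⟨ε, hε, hcomm⟩ := del1_comm S b c⁻¹ (inv_ne_zero hc) hSdet hb
  refine ⟨ε, hε, ?_⟩
  unfold M0
  rw [← Matrix.mul_kronecker_mul, ← Matrix.mul_kronecker_mul, hcomm, mul_one, one_mul,
    Matrix.kronecker_smul]

end kron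

/-! ## Transport to `Fin n` -/

section transport

variable {κ : Type} [Fintype κ] [DecidableEq κ]

/-- the matrix on `Fin n` of a matrix in the coordinates `(e, P)` -/
def trM (e : Fin n ≃ κ) (P : GL (Fin n) F) (M : Matrix κ κ F) : Matrix (Fin n) (Fin n) F :=
  ((P⁻¹ : GL (Fin n) F) : Matrix (Fin n) (Fin n) F) * M.submatrix e e * (P : Matrix (Fin n) (Fin n) F)

theorem trM_mul (e : Fin n ≃ κ) (P : GL (Fin n) F) (M N : Matrix κ κ F) :
    trM e P (M * N) = trM e P M * trM e P N := by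
  unfold trM
  have hgg : (P : Matrix (Fin n) (Fin n) F) * ((P⁻¹ : GL (Fin n) F) : Matrix (Fin n) (Fin n) F) = 1 := by
    rw [← Units.val_mul, mul_inv_cancel, Units.val_one]
  rw [← Matrix.submatrix_mul_equiv M N e e e]
  calc ((P⁻¹ : GL (Fin n) F) : Matrix (Fin n) (Fin n) F) * (M.submatrix e e * N.submatrix e e) *
        (P : Matrix (Fin n) (Fin n) F)
      = ((P⁻¹ : GL (Fin n) F) : Matrix (Fin n) (Fin n) F) * M.submatrix e e *
          ((P : Matrix (Fin n) (Fin n) F) * ((P⁻¹ : GL (Fin n) F) : Matrix (Fin n) (Fin n) F)) *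
          N.submatrix e e * (P : Matrix (Fin n) (Fin n) F) := by
        rw [hgg, mul_one]; simp only [Matrix.mul_assoc]
    _ = _ := by simp only [Matrix.mul_assoc]

theorem trM_smul (e : Fin n ≃ κ) (P : GL (Fin n) F) (c : F) (M : Matrix κ κ F) :
    trM e P (c • M) = c • trM e P M := by
  unfold trM
  have h1 : (c • M).submatrix e e = c • M.submatrix e e := rfl
  rw [h1, Matrix.mul_smul, Matrix.smul_mul]

theorem trM_one (e : Fin n ≃ κ) (P : GL (Fin n) F) : trM e P (1 : Matrix κ κ F) = 1 := by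
  unfold trM
  rw [Matrix.submatrix_one_equiv, mul_one, ← Units.val_mul, inv_mul_cancel, Units.val_one]

theorem trM_mulVec (e : Fin n ≃ κ) (P : GL (Fin n) F) (M : Matrix κ κ F) (X : κ → F) :
    trM e P M *ᵥ (((P⁻¹ : GL (Fin n) F) : Matrix (Fin n) (Fin n) F) *ᵥ (X ∘ e)) =
      ((P⁻¹ : GL (Fin n) F) : Matrix (Fin n) (Fin n) F) *ᵥ ((M *ᵥ X) ∘ e) := by
  unfold trM
  rw [Matrix.mulVec_mulVec, Matrix.mul_assoc, Matrix.mul_assoc, ← Units.val_mul, mul_inv_cancel,
    Units.val_one, mul_one, ← Matrix.mulVec_mulVec, Matrix.submatrix_mulVec_equiv]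
  have h1 : (X ∘ e) ∘ e.symm = X := by
    funext x
    simp [Function.comp]
  rw [h1]

theorem trM_glReindex (e : Fin n ≃ κ) (P : GL (Fin n) F) (h : GL (Fin n) F) :
    trM e P ((glReindex e (P * h * P⁻¹) : GL κ F) : Matrix κ κ F) = (h : Matrix (Fin n) (Fin n) F) := by
  unfold trM
  have h1 : ((glReindex e (P * h * P⁻¹) : GL κ F) : Matrix κ κ F).submatrix e e =
      ((P * h * P⁻¹ : GL (Fin n) F) : Matrix (Fin n) (Fin n) F) := by
    ext i j
    rw [Matrix.submatrix_apply, glReindex_apply_apply, Equiv.symm_apply_apply, Equiv.symm_apply_apply]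
  rw [h1, Units.val_mul, Units.val_mul]
  have hgg : ((P⁻¹ : GL (Fin n) F) : Matrix (Fin n) (Fin n) F) * (P : Matrix (Fin n) (Fin n) F) = 1 := by
    rw [← Units.val_mul, inv_mul_cancel, Units.val_one]
  calc ((P⁻¹ : GL (Fin n) F) : Matrix (Fin n) (Fin n) F) *
        ((P : Matrix (Fin n) (Fin n) F) * (h : Matrix (Fin n) (Fin n) F) *
          ((P⁻¹ : GL (Fin n) F) : Matrix (Fin n) (Fin n) F)) * (P : Matrix (Fin n) (Fin n) F)
      = (((P⁻¹ : GL (Fin n) F) : Matrix (Fin n) (Fin n) F) * (P : Matrix (Fin n) (Fin n) F)) *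
          (h : Matrix (Fin n) (Fin n) F) *
          (((P⁻¹ : GL (Fin n) F) : Matrix (Fin n) (Fin n) F) * (P : Matrix (Fin n) (Fin n) F)) := by
        simp only [Matrix.mul_assoc]
    _ = (h : Matrix (Fin n) (Fin n) F) := by rw [hgg, one_mul, mul_one]

theorem exists_coord (e : Fin n ≃ κ) (P : GL (Fin n) F) (u : Fin n → F) :
    ∃ X : κ → F, u = ((P⁻¹ : GL (Fin n) F) : Matrix (Fin n) (Fin n) F) *ᵥ (X ∘ e) := by
  refine ⟨((P : Matrix (Fin n) (Fin n) F) *ᵥ u) ∘ e.symm, ?_⟩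
  have h1 : (((P : Matrix (Fin n) (Fin n) F) *ᵥ u) ∘ e.symm) ∘ e = (P : Matrix (Fin n) (Fin n) F) *ᵥ u := by
    funext i
    simp
  rw [h1, Matrix.mulVec_mulVec, ← Units.val_mul, inv_mul_cancel, Units.val_one, Matrix.one_mulVec]

theorem formOfGram_dot (G : Matrix κ κ F) (X Y : κ → F) :
    formOfGram id G X Y = X ⬝ᵥ (G *ᵥ Y) := by
  rw [formOfGram_eq_formOf]
  rfl

theorem formOfGram_mulVec_left (G M : Matrix κ κ F) (X Y : κ → F) :
    formOfGram id G (M *ᵥ X) Y = formOfGram id (Mᵀ * G) X Y := by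
  rw [formOfGram_dot, formOfGram_dot, ← Matrix.mulVec_mulVec, ← Matrix.vecMul_transpose,
    ← Matrix.dotProduct_mulVec]

theorem formOfGram_mulVec_right (G M : Matrix κ κ F) (X Y : κ → F) :
    formOfGram id G X (M *ᵥ Y) = formOfGram id (G * M) X Y := by
  rw [formOfGram_dot, formOfGram_dot, Matrix.mulVec_mulVec]

theorem formOfGram_neg_matrix (G : Matrix κ κ F) (X Y : κ → F) :
    formOfGram id (-G) X Y = - formOfGram id G X Y := by
  have : -G = (-1 : F) • G := by rw [neg_smul, one_smul]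
  rw [this, formOfGram_smul_matrix, neg_one_mul]

end transport

/-- **SM4-C** -/
theorem sc2b_or_sc3b_of_tensor_two (hf : IsSymplecticForm f) (hq : Odd (Fintype.card F))
    (H : Subgroup (GL (Fin n) F)) (hH : FixesForm (matrixSet H) f)
    {n₁ : ℕ} (hn₁ : 0 < n₁) (e : Fin n ≃ Fin n₁ × Fin 2) (P : GL (Fin n) F)
    (A : Matrix (Fin n₁) (Fin n₁) F) (S : Matrix (Fin 2) (Fin 2) F)
    (hA : Aᵀ = -A) (hS : Sᵀ = S) (hAdet : IsUnit A.det) (hSdet : IsUnit S.det)
    (hform : ∀ x y : Fin n₁ × Fin 2 → F,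
      f (((P⁻¹ : GL (Fin n) F) : Matrix (Fin n) (Fin n) F) *ᵥ (x ∘ e))
        (((P⁻¹ : GL (Fin n) F) : Matrix (Fin n) (Fin n) F) *ᵥ (y ∘ e)) =
        formOfGram id (A ⊗ₖ S) x y)
    (hkron : ∀ h ∈ H, glReindex e (P * h * P⁻¹) ∈ kroneckerSubgroup n₁ 2 F) :
    SC2b f H ∨ SC3b f H := by
  have hn : 0 < n := by
    have h3 := Fintype.card_congr e
    rw [Fintype.card_fin, Fintype.card_prod, Fintype.card_fin, Fintype.card_fin] at h3
    omega
  have hA0 : A ≠ 0 := ne_zero_of_isUnit_det hn₁ A hAdet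
  have hS0 : S ≠ 0 := ne_zero_of_isUnit_det (by norm_num) S hSdet
  have hSd : S.det ≠ 0 := hSdet.ne_zero
  apply sc2b_or_sc3b_of_skew hf hq H hn (trM e P (M0 n₁ S)) (-S.det) (neg_ne_zero.2 hSd)
  · rw [← trM_mul, M0_sq S hS, trM_smul, trM_one]
  · intro u v
    obtain ⟨X, rfl⟩ := exists_coord e P u
    obtain ⟨Y, rfl⟩ := exists_coord e P v
    rw [trM_mulVec, trM_mulVec, hform, hform, formOfGram_mulVec_left, formOfGram_mulVec_right,
      M0_skew A S hS, formOfGram_neg_matrix]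
  · intro h hh
    obtain ⟨a, b, hab⟩ := hkron h hh
    have hfix := gram_fix_of_fixesForm H hH e P (A ⊗ₖ S) hform h hh
    rw [hab] at hfix
    obtain ⟨ε, hε, hcomm⟩ := M0_comm A (a : Matrix (Fin n₁) (Fin n₁) F) S
      (b : Matrix (Fin 2) (Fin 2) F) hA0 hS0 hSd hfix
    refine ⟨ε, hε, ?_⟩
    have h1 : (h : Matrix (Fin n) (Fin n) F) =
        trM e P ((a : Matrix (Fin n₁) (Fin n₁) F) ⊗ₖ (b : Matrix (Fin 2) (Fin 2) F)) := by
      rw [← hab, trM_glReindex]
    rw [h1, ← trM_mul, ← trM_mul, hcomm, trM_smul]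

end Cfsg.Agent.Lib.H18.AschS
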