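import Mathlib

/-!
# Verified enumeration of integral Gram factorisations (helper18)

Given rows `b i : Ξ → ℤ` (`i < n`) on a finite type with prescribed Gram matrix
`∑ χ, b i χ * b j χ = Mp i j`, the multiset of non-zero columns `χ ↦ (b 0 χ, …, b (t-1) χ)` (up to a sign
for every column) is found row by row.  This file: the computable search (structural recursions only, so
that the kernel can evaluate it).
-/

set_option autoImplicit false

namespace Cfsg.Agent.Lib.H18.LatEnum

/-- lexicographic comparison of integer lists -/
def lexLe : List ℤ → List ℤ → Bool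
  | [], _ => true
  | _ :: _, [] => false
  | a :: as, b :: bs => if a < b then true else if b < a then false else lexLe as bs

/-- canonical form of a state: insertion sort of the columns -/
def canon (cols : List (List ℤ)) : List (List ℤ) :=
  cols.insertionSort (fun a b => lexLe a b = true)

/-- `∑_k cols[k][s] * x[k]` -/
def dot (s : ℕ) (cols : List (List ℤ)) (x : List ℤ) : ℤ :=
  (List.zipWith (fun c xi => c.getD s 0 * xi) cols x).sum

/-- no column has a non-zero entry in row `s` -/
def rowZero (s : ℕ) (cols : List (List ℤ)) : Bool :=
  cols.all (fun c => decide (c.getD s 0 = 0))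

/-- every non-zero residue can still be reached -/
def pruneOk (cols : List (List ℤ)) : ℕ → List ℤ → Bool
  | _, [] => true
  | s, r :: rs => (decide (r = 0) || !rowZero s cols) && pruneOk cols (s + 1) rs

/-- all `x` (one entry in `{-2,…,2}` per column) with `∑ x² ≤ bud` and `∑_k cols[k][s] x[k] = res[s]`,
with the remaining budget -/
def enumP : List (List ℤ) → List ℤ → ℤ → List (List ℤ × ℤ)
  | [], res, bud => if res.all (fun r => decide (r = 0)) then [([], bud)] else []
  | c :: cs, res, bud =>
    if pruneOk (c :: cs) 0 res then
      (([-2, -1, 0, 1, 2] : List ℤ).filter (fun v => decide (v * v ≤ bud))).flatMap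
        (fun v => (enumP cs (List.zipWith (fun r e => r - e * v) res c) (bud - v * v)).map
          (fun p => (v :: p.1, p.2)))
    else []

/-- the multisets of positive integers with sum of squares `rem` (for `rem < 9`) -/
def decs (rem : ℤ) : List (List ℤ) :=
  (List.range (rem.toNat / 4 + 1)).map
    (fun a => List.replicate a (2 : ℤ) ++ List.replicate (rem.toNat - 4 * a) (1 : ℤ))

/-- the new state from `x` and the new columns `d` -/
def extend (t : ℕ) (cols : List (List ℤ)) (x d : List ℤ) : List (List ℤ) :=
  List.zipWith (fun c xi => c ++ [xi]) cols x ++ d.map (fun v => List.replicate t (0 : ℤ) ++ [v])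

/-- one step of the search: all extensions of a state by the row `t`; `Mcol = [M 0 t, …, M (t-1) t]`,
`Mtt = M t t` -/
def step (t : ℕ) (Mcol : List ℤ) (Mtt : ℤ) (cols : List (List ℤ)) : List (List (List ℤ)) :=
  (enumP cols Mcol Mtt).flatMap
    (fun p => (decs p.2).map (fun d => canon (extend t cols p.1 d)))

/-- the states after `t` rows -/
def search (Mp : ℕ → ℕ → ℤ) : ℕ → List (List (List ℤ))
  | 0 => [[]]
  | t + 1 => ((search Mp t).flatMap
      (step t ((List.range t).map (fun s => Mp s t)) (Mp t t))).dedup

end Cfsg.Agent.Lib.H18.LatEnum
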