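import Mathlib
import Cfsg.Agent.Lib.H18.LatEnumDefs

/-!
# Soundness of the Gram-factorisation search (helper18)
-/

set_option autoImplicit false

namespace Cfsg.Agent.Lib.H18.LatEnum

open Finset

/-! ## list / multiset lemmas -/

theorem exists_list_of_map_eq_coe {α β : Type*} [DecidableEq α] (f : α → β) :
    ∀ (c : List β) (s : Multiset α), s.map f = (c : Multiset β) →
      ∃ l : List α, (l : Multiset α) = s ∧ l.map f = c := by
  intro c
  induction c with
  | nil =>
    intro s hs
    refine ⟨[], ?_, rfl⟩
    have : s.map f = 0 := hs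
    rw [Multiset.map_eq_zero] at this
    rw [this]; rfl
  | cons a c ih =>
    intro s hs
    have hs' : s.map f = a ::ₘ (c : Multiset β) := hs
    obtain ⟨x, hx, hfx, hrest⟩ := (Multiset.map_eq_cons f s (c : Multiset β) a).2 hs'
    obtain ⟨l, hl, hlm⟩ := ih (s.erase x) hrest
    refine ⟨x :: l, ?_, ?_⟩
    · show x ::ₘ (l : Multiset α) = s
      rw [hl, Multiset.cons_erase hx]
    · rw [List.map_cons, hfx, hlm]

theorem canon_coe (cols : List (List ℤ)) :
    ((canon cols : List (List ℤ)) : Multiset (List ℤ)) = (cols : Multiset (List ℤ)) :=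
  Multiset.coe_eq_coe.2 (List.perm_insertionSort _ _)

/-! ## completeness of `enumP` -/

/-- the sum of the squares -/
def sqSum (x : List ℤ) : ℤ := (x.map (fun v => v * v)).sum

theorem sqSum_nil : sqSum [] = 0 := rfl

theorem sqSum_cons (v : ℤ) (xs : List ℤ) : sqSum (v :: xs) = v * v + sqSum xs := by
  simp [sqSum]

theorem sqSum_nonneg (x : List ℤ) : 0 ≤ sqSum x := by
  induction x with
  | nil => simp [sqSum]
  | cons v xs ih => rw [sqSum_cons]; nlinarith [mul_self_nonneg v]

theorem dot_nil_left (s : ℕ) (x : List ℤ) : dot s [] x = 0 := by simp [dot]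

theorem dot_cons (s : ℕ) (c : List ℤ) (cs : List (List ℤ)) (v : ℤ) (xs : List ℤ) :
    dot s (c :: cs) (v :: xs) = c.getD s 0 * v + dot s cs xs := by
  simp [dot]

theorem dot_eq_zero_of_rowZero (s : ℕ) : ∀ (cols : List (List ℤ)) (x : List ℤ),
    rowZero s cols = true → dot s cols x = 0 := by
  intro cols
  induction cols with
  | nil => intro x _; exact dot_nil_left s x
  | cons c cs ih =>
    intro x h
    cases x with
    | nil => simp [dot]
    | cons v xs =>
      rw [dot_cons]
      unfold rowZero at h
      rw [List.all_cons, Bool.and_eq_true] at h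
      have h1 : c.getD s 0 = 0 := of_decide_eq_true h.1
      rw [h1, zero_mul, zero_add]
      exact ih xs h.2

theorem pruneOk_of (cols : List (List ℤ)) : ∀ (res : List ℤ) (s0 : ℕ),
    (∀ j < res.length, res.getD j 0 ≠ 0 → rowZero (s0 + j) cols = false) →
    pruneOk cols s0 res = true := by
  intro res
  induction res with
  | nil => intro s0 _; rfl
  | cons r rs ih =>
    intro s0 h
    unfold pruneOk
    rw [Bool.and_eq_true]
    constructor
    · by_cases hr : r = 0
      · simp [hr]
      · have := h 0 (by simp) (by simpa using hr)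
        rw [add_zero] at this
        simp [this]
    · apply ih (s0 + 1)
      intro j hj hne
      have := h (j + 1) (by simpa using hj) (by simpa using hne)
      rw [show s0 + 1 + j = s0 + (j + 1) by ring]
      exact this

theorem mem_enumP (t : ℕ) : ∀ (cols : List (List ℤ)) (res : List ℤ) (bud : ℤ) (x : List ℤ),
    (∀ c ∈ cols, c.length = t) → res.length = t → x.length = cols.length → sqSum x ≤ bud →
    bud < 9 → (∀ s < t, dot s cols x = res.getD s 0) →
    (x, bud - sqSum x) ∈ enumP cols res bud := by
  intro cols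
  induction cols with
  | nil =>
    intro res bud x _ hres hx _ _ hdot
    have hx0 : x = [] := List.length_eq_zero_iff.1 hx
    subst hx0
    have hall : res.all (fun r => decide (r = 0)) = true := by
      rw [List.all_eq_true]
      intro r hr
      obtain ⟨i, hi, rfl⟩ := List.mem_iff_getElem.1 hr
      have := hdot i (hres ▸ hi)
      rw [dot_nil_left, List.getD_eq_getElem _ _ hi] at this
      exact decide_eq_true this.symm
    unfold enumP
    rw [if_pos hall, sqSum_nil, sub_zero]
    exact List.mem_singleton.2 rfl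
  | cons c cs ih =>
    intro res bud x hlen hres hx hsq hbud hdot
    cases x with
    | nil => simp at hx
    | cons v xs =>
      have hxs : xs.length = cs.length := by simpa using hx
      rw [sqSum_cons] at hsq
      have hxs0 := sqSum_nonneg xs
      have hv : v * v ≤ bud := by linarith
      have hv2 : -2 ≤ v ∧ v ≤ 2 := by constructor <;> nlinarith
      have hprune : pruneOk (c :: cs) 0 res = true := by
        apply pruneOk_of
        intro j hj hne
        rw [zero_add]
        by_contra hz
        have hz' : rowZero j (c :: cs) = true := by simpa using hz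
        have := dot_eq_zero_of_rowZero j (c :: cs) (v :: xs) hz'
        rw [hdot j (hres ▸ hj)] at this
        exact hne this
      unfold enumP
      rw [if_pos hprune, List.mem_flatMap]
      refine ⟨v, ?_, ?_⟩
      · rw [List.mem_filter]
        refine ⟨?_, decide_eq_true hv⟩
        obtain ⟨h1, h2⟩ := hv2
        interval_cases v <;> simp
      · rw [List.mem_map]
        refine ⟨(xs, (bud - v * v) - sqSum xs), ?_, ?_⟩
        · apply ih
          · intro c' hc'; exact hlen c' (List.mem_cons_of_mem _ hc')
          · rw [List.length_zipWith, hres, hlen c (List.mem_cons_self), min_self]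
          · exact hxs
          · linarith
          · nlinarith [mul_self_nonneg v]
          · intro s hs
            have h1 := hdot s hs
            rw [dot_cons] at h1
            have hs1 : s < res.length := hres ▸ hs
            have hs2 : s < c.length := (hlen c (List.mem_cons_self)) ▸ hs
            rw [List.getD_eq_getElem _ _ (by rw [List.length_zipWith]; exact lt_min hs1 hs2),
              List.getElem_zipWith]
            rw [List.getD_eq_getElem _ _ hs1, List.getD_eq_getElem _ _ hs2] at h1
            linarith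
        · rw [sqSum_cons]
          simp only [Prod.mk.injEq, true_and]
          ring

/-! ## completeness of `decs` -/

theorem exists_decs (r : Multiset ℤ) (rem : ℤ) (hpos : ∀ v ∈ r, 0 < v)
    (hsum : (r.map (fun v => v * v)).sum = rem) (hrem : rem < 9) :
    ∃ d ∈ decs rem, (d : Multiset ℤ) = r := by
  classical
  have hle : ∀ v ∈ r, v * v ≤ rem := by
    intro v hv
    rw [← hsum]
    apply Multiset.single_le_sum
    · intro w hw
      obtain ⟨u, _, rfl⟩ := Multiset.mem_map.1 hw
      exact mul_self_nonneg u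
    · exact Multiset.mem_map.2 ⟨v, hv, rfl⟩
  have hmem : ∀ v ∈ r, v = 1 ∨ v = 2 := by
    intro v hv
    have h1 := hpos v hv
    have h2 := hle v hv
    have h3 : v ≤ 2 := by nlinarith
    interval_cases v <;> simp
  set a := r.count 2 with ha
  set b := r.count 1 with hb
  have hr : r = Multiset.replicate a 2 + Multiset.replicate b 1 := by
    ext z
    rw [Multiset.count_add, Multiset.count_replicate, Multiset.count_replicate]
    by_cases h2 : z = 2
    · subst h2; simp [ha]
    · by_cases h1 : z = 1
      · subst h1; simp [hb]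
      · have : z ∉ r := fun hz => by
          rcases hmem z hz with h | h
          · exact h1 h
          · exact h2 h
        rw [Multiset.count_eq_zero_of_notMem this]
        simp [Ne.symm h2, Ne.symm h1]
  have hsum2 : (4 * a + b : ℤ) = rem := by
    rw [← hsum, hr, Multiset.map_add, Multiset.map_replicate, Multiset.map_replicate,
      Multiset.sum_add, Multiset.sum_replicate, Multiset.sum_replicate]
    simp
    ring
  have hnat : rem.toNat = 4 * a + b := by
    rw [← hsum2]
    exact Int.toNat_natCast (4 * a + b)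
  refine ⟨List.replicate a (2 : ℤ) ++ List.replicate b (1 : ℤ), ?_, ?_⟩
  · unfold decs
    rw [List.mem_map]
    refine ⟨a, ?_, ?_⟩
    · rw [List.mem_range, hnat]
      omega
    · rw [hnat]
      congr 2
      omega
  · rw [hr]
    rfl

/-! ## states and the actual configuration -/

section
variable {Ξ : Type*}

/-- the first `t` entries of the column of `χ`, multiplied by the sign `ε χ` -/
def colOf (t : ℕ) (b : ℕ → Ξ → ℤ) (ε : Ξ → ℤ) (χ : Ξ) : List ℤ :=
  (List.range t).map (fun i => ε χ * b i χ)

theorem colOf_length (t : ℕ) (b : ℕ → Ξ → ℤ) (ε : Ξ → ℤ) (χ : Ξ) : (colOf t b ε χ).length = t := by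
  simp [colOf]

theorem colOf_getD (t : ℕ) (b : ℕ → Ξ → ℤ) (ε : Ξ → ℤ) (χ : Ξ) (s : ℕ) (hs : s < t) :
    (colOf t b ε χ).getD s 0 = ε χ * b s χ := by
  rw [List.getD_eq_getElem _ _ (by rw [colOf_length]; exact hs)]
  simp [colOf]

theorem colOf_succ (t : ℕ) (b : ℕ → Ξ → ℤ) (ε : Ξ → ℤ) (χ : Ξ) :
    colOf (t + 1) b ε χ = colOf t b ε χ ++ [ε χ * b t χ] := by
  simp [colOf, List.range_succ]

theorem replicate_succ_zero (t : ℕ) :
    List.replicate (t + 1) (0 : ℤ) = List.replicate t 0 ++ [0] := by
  rw [List.replicate_succ']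

theorem colOf_eq_zero_iff (t : ℕ) (b : ℕ → Ξ → ℤ) (ε : Ξ → ℤ) (χ : Ξ) (hε : ε χ = 1 ∨ ε χ = -1) :
    colOf t b ε χ = List.replicate t 0 ↔ ∀ i < t, b i χ = 0 := by
  constructor
  · intro h i hi
    have h1 := colOf_getD t b ε χ i hi
    rw [h, List.getD_eq_getElem _ _ (by simpa using hi)] at h1
    simp only [List.getElem_replicate] at h1
    rcases hε with h2 | h2 <;> rw [h2] at h1 <;> linarith
  · intro h
    apply List.ext_getElem
    · simp [colOf]
    · intro i h1 h2
      have hi : i < t := by simpa [colOf] using h1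
      simp [colOf, h i hi]

theorem colOf_congr (t : ℕ) (b : ℕ → Ξ → ℤ) (ε ε' : Ξ → ℤ) (χ : Ξ) (h : ε χ = ε' χ) :
    colOf t b ε χ = colOf t b ε' χ := by
  simp [colOf, h]

end

/-- the multiset of the non-zero signed columns of the first `t` rows is `cols` -/
def Matches {Ξ : Type*} [Fintype Ξ] (t : ℕ) (b : ℕ → Ξ → ℤ) (cols : List (List ℤ)) : Prop :=
  ∃ ε : Ξ → ℤ, (∀ χ, ε χ = 1 ∨ ε χ = -1) ∧
    ((Finset.univ : Finset Ξ).val.map (colOf t b ε)).filter (fun c => c ≠ List.replicate t 0)
      = (cols : Multiset (List ℤ))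

theorem dot_map_map {Ξ : Type*} (s : ℕ) (f : Ξ → List ℤ) (y : Ξ → ℤ) (l : List Ξ) :
    dot s (l.map f) (l.map y) = (l.map (fun χ => (f χ).getD s 0 * y χ)).sum := by
  induction l with
  | nil => simp [dot]
  | cons a l ih => rw [List.map_cons, List.map_cons, dot_cons, ih]; simp

theorem sqSum_map {Ξ : Type*} (y : Ξ → ℤ) (l : List Ξ) :
    sqSum (l.map y) = (l.map (fun χ => y χ * y χ)).sum := by
  induction l with
  | nil => simp [sqSum]
  | cons a l ih => rw [List.map_cons, sqSum_cons, ih]; simp

theorem zipWith_map_map {Ξ : Type*} (f : Ξ → List ℤ) (y : Ξ → ℤ) (l : List Ξ) :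
    List.zipWith (fun c xi => c ++ [xi]) (l.map f) (l.map y) = l.map (fun χ => f χ ++ [y χ]) := by
  induction l with
  | nil => rfl
  | cons a l ih => simp [ih]

/-! ## soundness of one step -/

theorem step_sound {Ξ : Type*} [Fintype Ξ] [DecidableEq Ξ] (t : ℕ) (b : ℕ → Ξ → ℤ)
    (Mcol : List ℤ) (Mtt : ℤ) (cols : List (List ℤ)) (hM : Matches t b cols)
    (hcol : Mcol.length = t) (hdot : ∀ s < t, ∑ χ, b s χ * b t χ = Mcol.getD s 0)
    (hnorm : ∑ χ, b t χ * b t χ = Mtt) (hsmall : Mtt < 9) :
    ∃ cols' ∈ step t Mcol Mtt cols, Matches (t + 1) b cols' := by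
  classical
  obtain ⟨ε, hε, hms⟩ := hM
  set f := colOf t b ε with hf
  set zc := List.replicate t (0 : ℤ) with hzc
  set U : Multiset Ξ := (Finset.univ : Finset Ξ).val with hU
  have hfm : (U.filter (fun χ => f χ ≠ zc)).map f = (cols : Multiset (List ℤ)) := by
    rw [← hms, Multiset.filter_map]
    rfl
  obtain ⟨l, hl, hlm⟩ := exists_list_of_map_eq_coe f cols _ hfm
  have hmeml : ∀ χ, χ ∈ l ↔ f χ ≠ zc := by
    intro χ
    have : χ ∈ (l : Multiset Ξ) ↔ χ ∈ U.filter (fun χ => f χ ≠ zc) := by rw [hl]
    rw [Multiset.mem_coe, Multiset.mem_filter] at this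
    rw [this]
    exact ⟨fun h => h.2, fun h => ⟨Finset.mem_univ_val χ, h⟩⟩
  set S : Finset Ξ := Finset.univ.filter (fun χ => f χ ≠ zc) with hS
  have hSl : S.val = (l : Multiset Ξ) := by rw [hl, hS, Finset.filter_val]
  have sumS : ∀ g : Ξ → ℤ, ∑ χ ∈ S, g χ = (l.map g).sum := by
    intro g
    rw [Finset.sum_eq_multiset_sum, hSl, Multiset.map_coe, Multiset.sum_coe]
  have hzero : ∀ χ, χ ∉ S → ∀ i < t, b i χ = 0 := by
    intro χ hχ
    have : f χ = zc := by
      by_contra h
      exact hχ (Finset.mem_filter.2 ⟨Finset.mem_univ χ, h⟩)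
    exact (colOf_eq_zero_iff t b ε χ (hε χ)).1 this
  have hεsq : ∀ χ, ε χ * ε χ = 1 := by
    intro χ; rcases hε χ with h | h <;> rw [h] <;> norm_num
  set y : Ξ → ℤ := fun χ => ε χ * b t χ with hy
  set x : List ℤ := l.map y with hx
  -- (a), (b)
  have hlenc : ∀ c ∈ cols, c.length = t := by
    intro c hc
    rw [← hlm, List.mem_map] at hc
    obtain ⟨χ, _, rfl⟩ := hc
    exact colOf_length t b ε χ
  have hxlen : x.length = cols.length := by rw [hx, ← hlm, List.length_map, List.length_map]
  -- (c)
  have hdotx : ∀ s < t, dot s cols x = Mcol.getD s 0 := by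
    intro s hs
    rw [← hdot s hs, ← hlm, hx, dot_map_map, ← sumS]
    rw [← Finset.sum_subset (Finset.subset_univ S)
      (fun χ _ hχ => by rw [hzero χ hχ s hs, zero_mul])]
    refine Finset.sum_congr rfl fun χ _ => ?_
    rw [hf, colOf_getD t b ε χ s hs, hy]
    have := hεsq χ
    calc ε χ * b s χ * (ε χ * b t χ) = (ε χ * ε χ) * (b s χ * b t χ) := by ring
      _ = b s χ * b t χ := by rw [this, one_mul]
  -- (d)
  have hsqx : sqSum x = ∑ χ ∈ S, b t χ * b t χ := by
    rw [hx, sqSum_map, ← sumS]
    refine Finset.sum_congr rfl fun χ _ => ?_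
    rw [hy]
    have := hεsq χ
    calc ε χ * b t χ * (ε χ * b t χ) = (ε χ * ε χ) * (b t χ * b t χ) := by ring
      _ = b t χ * b t χ := by rw [this, one_mul]
  set R : Finset Ξ := Finset.univ.filter (fun χ => ¬ (f χ ≠ zc) ∧ b t χ ≠ 0) with hR
  have hsplit : Mtt = sqSum x + ∑ χ ∈ R, b t χ * b t χ := by
    rw [← hnorm, hsqx, hS, hR, Finset.sum_filter, Finset.sum_filter, ← Finset.sum_add_distrib]
    refine Finset.sum_congr rfl fun χ _ => ?_
    by_cases h1 : f χ ≠ zc
    · simp [h1]
    · by_cases h2 : b t χ = 0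
      · simp [h1, h2]
      · simp [h1, h2]
  have hRnn : 0 ≤ ∑ χ ∈ R, b t χ * b t χ := Finset.sum_nonneg fun χ _ => mul_self_nonneg _
  have hsqle : sqSum x ≤ Mtt := by linarith
  -- (e)
  set r : Multiset ℤ := R.val.map (fun χ => |b t χ|) with hr
  have hrpos : ∀ v ∈ r, 0 < v := by
    intro v hv
    obtain ⟨χ, hχ, rfl⟩ := Multiset.mem_map.1 hv
    have : χ ∈ R := hχ
    exact abs_pos.2 (Finset.mem_filter.1 this).2.2
  have hrsum : (r.map (fun v => v * v)).sum = Mtt - sqSum x := by
    rw [hr, Multiset.map_map]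
    have : (R.val.map ((fun v => v * v) ∘ fun χ => |b t χ|)).sum = ∑ χ ∈ R, b t χ * b t χ := by
      rw [Finset.sum_eq_multiset_sum]
      congr 1
      apply Multiset.map_congr rfl
      intro χ _
      simp only [Function.comp]
      exact abs_mul_abs_self _
    rw [this]; linarith
  obtain ⟨d, hd, hdr⟩ := exists_decs r (Mtt - sqSum x) hrpos hrsum
    (by have := sqSum_nonneg x; linarith)
  -- (f)
  have hmemP : (x, Mtt - sqSum x) ∈ enumP cols Mcol Mtt :=
    mem_enumP t cols Mcol Mtt x hlenc hcol hxlen hsqle hsmall hdotx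
  refine ⟨canon (extend t cols x d), ?_, ?_⟩
  · unfold step
    rw [List.mem_flatMap]
    exact ⟨(x, Mtt - sqSum x), hmemP, List.mem_map.2 ⟨d, hd, rfl⟩⟩
  · -- the new signs
    set ε' : Ξ → ℤ := fun χ => if f χ ≠ zc then ε χ else if b t χ < 0 then -1 else 1 with hε'
    have hε'all : ∀ χ, ε' χ = 1 ∨ ε' χ = -1 := by
      intro χ
      show (if f χ ≠ zc then ε χ else if b t χ < 0 then -1 else 1) = 1 ∨
        (if f χ ≠ zc then ε χ else if b t χ < 0 then -1 else 1) = -1
      by_cases h1 : f χ ≠ zc
      · rw [if_pos h1]; exact hε χ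
      · rw [if_neg h1]
        by_cases h2 : b t χ < 0
        · rw [if_pos h2]; right; rfl
        · rw [if_neg h2]; left; rfl
    refine ⟨ε', hε'all, ?_⟩
    · rw [canon_coe]
      unfold extend
      rw [← Multiset.coe_add]
      set q : List ℤ → Prop := fun c => c ≠ List.replicate (t + 1) (0 : ℤ) with hq
      set f' := colOf (t + 1) b ε' with hf'
      have hUsplit : U = U.filter (fun χ => f χ ≠ zc) + U.filter (fun χ => ¬ (f χ ≠ zc)) :=
        (Multiset.filter_add_not _ U).symm
      rw [show (Finset.univ : Finset Ξ).val = U from rfl]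
      conv_lhs => rw [hUsplit]
      rw [Multiset.map_add, Multiset.filter_add]
      congr 1
      · -- the old columns
        rw [← hl, Multiset.map_coe]
        have h1 : l.map f' = l.map (fun χ => f χ ++ [y χ]) := by
          apply List.map_congr_left
          intro χ hχ
          have hp := (hmeml χ).1 hχ
          have he : ε' χ = ε χ := by simp only [hε']; rw [if_pos hp]
          rw [hf', colOf_succ, colOf_congr t b ε' ε χ he, he]
        rw [h1, ← zipWith_map_map f y l, hlm]
        rw [Multiset.filter_eq_self]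
        intro c hc
        rw [Multiset.mem_coe, ← hlm, zipWith_map_map, List.mem_map] at hc
        obtain ⟨χ, hχ, rfl⟩ := hc
        have hp := (hmeml χ).1 hχ
        show f χ ++ [y χ] ≠ List.replicate (t + 1) (0 : ℤ)
        rw [replicate_succ_zero]
        intro heq
        have := List.append_inj_left heq (by rw [hf, colOf_length, List.length_replicate])
        exact hp this
      · -- the new columns
        rw [Multiset.filter_map]
        have hf'new : ∀ χ, ¬ (f χ ≠ zc) → f' χ = zc ++ [|b t χ|] := by
          intro χ hχ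
          have hfz : f χ = zc := not_not.1 hχ
          have hb0 : ∀ i < t, b i χ = 0 := (colOf_eq_zero_iff t b ε χ (hε χ)).1 hfz
          rw [hf', colOf_succ, (colOf_eq_zero_iff t b ε' χ (hε'all χ)).2 hb0]
          congr 2
          show (if f χ ≠ zc then ε χ else if b t χ < 0 then -1 else 1) * b t χ = |b t χ|
          rw [if_neg hχ]
          by_cases hneg : b t χ < 0
          · rw [if_pos hneg, abs_of_neg hneg]; ring
          · rw [if_neg hneg, abs_of_nonneg (not_lt.1 hneg)]; ring
        have hfilt : (U.filter (fun χ => ¬ (f χ ≠ zc))).filter (q ∘ f') = R.val := by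
          rw [hR, Finset.filter_val, Multiset.filter_filter]
          apply Multiset.filter_congr
          intro χ _
          constructor
          · rintro ⟨h, hχ'⟩
            refine ⟨hχ', fun hb => h ?_⟩
            show f' χ = List.replicate (t + 1) (0 : ℤ)
            rw [hf'new χ hχ', replicate_succ_zero, hb, abs_zero]
          · rintro ⟨hχ', h⟩
            refine ⟨?_, hχ'⟩
            show f' χ ≠ List.replicate (t + 1) (0 : ℤ)
            rw [hf'new χ hχ', replicate_succ_zero]
            intro heq
            have := List.append_inj_right heq rfl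
            simp only [List.cons.injEq, and_true] at this
            exact h (abs_eq_zero.1 this)
        rw [hfilt]
        have hmap : R.val.map f' = (R.val.map (fun χ => |b t χ|)).map (fun v => zc ++ [v]) := by
          rw [Multiset.map_map]
          apply Multiset.map_congr rfl
          intro χ hχ
          have : χ ∈ R := hχ
          exact hf'new χ (Finset.mem_filter.1 this).2.1
        rw [hmap, ← hr, ← hdr, Multiset.map_coe]

/-! ## soundness of the search -/

theorem matches_zero {Ξ : Type*} [Fintype Ξ] (b : ℕ → Ξ → ℤ) : Matches 0 b [] := by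
  classical
  refine ⟨fun _ => 1, fun _ => Or.inl rfl, ?_⟩
  rw [Multiset.coe_nil, Multiset.filter_eq_nil]
  intro c hc
  obtain ⟨χ, _, rfl⟩ := Multiset.mem_map.1 hc
  simp [colOf]

/-- **Soundness of the search**: if the rows `b 0, …, b (n-1)` have Gram matrix `Mp` (diagonal `< 9`), then
for every `t ≤ n` one of the states of `search Mp t` is the multiset of the non-zero signed columns. -/
theorem search_sound {Ξ : Type*} [Fintype Ξ] [DecidableEq Ξ] (n : ℕ) (b : ℕ → Ξ → ℤ)
    (Mp : ℕ → ℕ → ℤ) (hG : ∀ i j, i ≤ j → j < n → ∑ χ, b i χ * b j χ = Mp i j)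
    (hsmall : ∀ i < n, Mp i i < 9) :
    ∀ t ≤ n, ∃ cols ∈ search Mp t, Matches t b cols := by
  intro t
  induction t with
  | zero =>
    intro _
    exact ⟨[], List.mem_singleton.2 rfl, matches_zero b⟩
  | succ t ih =>
    intro ht
    obtain ⟨cols, hmem, hM⟩ := ih (Nat.le_of_succ_le ht)
    have htn : t < n := ht
    obtain ⟨cols', hmem', hM'⟩ := step_sound t b ((List.range t).map (fun s => Mp s t)) (Mp t t) cols hM
      (by simp)
      (fun s hs => by
        rw [hG s t hs.le htn, List.getD_eq_getElem _ _ (by simpa using hs)]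
        simp)
      (hG t t le_rfl htn) (hsmall t htn)
    refine ⟨cols', ?_, hM'⟩
    show cols' ∈ ((search Mp t).flatMap
      (step t ((List.range t).map (fun s => Mp s t)) (Mp t t))).dedup
    rw [List.mem_dedup, List.mem_flatMap]
    exact ⟨cols, hmem, hmem'⟩

/-- a state as an explicit list of distinct indices -/
theorem Matches.exists_list {Ξ : Type*} [Fintype Ξ] [DecidableEq Ξ] {t : ℕ} {b : ℕ → Ξ → ℤ}
    {cols : List (List ℤ)} (hM : Matches t b cols) :
    ∃ (ε : Ξ → ℤ) (L : List Ξ), (∀ χ, ε χ = 1 ∨ ε χ = -1) ∧ L.Nodup ∧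
      L.map (colOf t b ε) = cols ∧ ∀ χ, χ ∉ L → ∀ i < t, b i χ = 0 := by
  classical
  obtain ⟨ε, hε, hms⟩ := hM
  have hfm : ((Finset.univ : Finset Ξ).val.filter
      (fun χ => colOf t b ε χ ≠ List.replicate t 0)).map (colOf t b ε)
      = (cols : Multiset (List ℤ)) := by
    rw [← hms, Multiset.filter_map]
    rfl
  obtain ⟨l, hl, hlm⟩ := exists_list_of_map_eq_coe (colOf t b ε) cols _ hfm
  refine ⟨ε, l, hε, ?_, hlm, ?_⟩
  · rw [← Multiset.coe_nodup, hl]
    exact Multiset.Nodup.filter _ Finset.univ.nodup
  · intro χ hχ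
    have : χ ∉ (l : Multiset Ξ) := hχ
    rw [hl, Multiset.mem_filter] at this
    have h2 : colOf t b ε χ = List.replicate t 0 := by
      by_contra h
      exact this ⟨Finset.mem_univ_val χ, h⟩
    exact (colOf_eq_zero_iff t b ε χ (hε χ)).1 h2

end Cfsg.Agent.Lib.H18.LatEnum
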