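import Mathlib

/-!
# The ring `ℤ[ζ₁₂]` with four integer coordinates (helper18)

`Z12 = ℤ[z]/(z⁴ - z² + 1)`, computable (`DecidableEq`, kernel-friendly arithmetic), with the ring
homomorphism `toC : Z12 →+* ℂ`, `z ↦ exp (2πi/12)`, and the conjugation `conj` (`z ↦ z⁻¹ = z - z³`).
-/

set_option autoImplicit false

namespace Cfsg.Agent.Lib.H18

/-- `c0 + c1 z + c2 z² + c3 z³`, `z⁴ = z² - 1` -/
@[ext] structure Z12 where
  /-- coefficient of `1` -/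
  c0 : ℤ
  /-- coefficient of `z` -/
  c1 : ℤ
  /-- coefficient of `z²` -/
  c2 : ℤ
  /-- coefficient of `z³` -/
  c3 : ℤ
deriving DecidableEq

namespace Z12

instance : Zero Z12 := ⟨⟨0, 0, 0, 0⟩⟩
instance : One Z12 := ⟨⟨1, 0, 0, 0⟩⟩
instance : Add Z12 := ⟨fun x y => ⟨x.c0 + y.c0, x.c1 + y.c1, x.c2 + y.c2, x.c3 + y.c3⟩⟩
instance : Neg Z12 := ⟨fun x => ⟨-x.c0, -x.c1, -x.c2, -x.c3⟩⟩
instance : Sub Z12 := ⟨fun x y => ⟨x.c0 - y.c0, x.c1 - y.c1, x.c2 - y.c2, x.c3 - y.c3⟩⟩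
instance : Mul Z12 :=
  ⟨fun x y =>
    ⟨x.c0 * y.c0 - (x.c1 * y.c3 + x.c2 * y.c2 + x.c3 * y.c1) - x.c3 * y.c3,
     x.c0 * y.c1 + x.c1 * y.c0 - (x.c2 * y.c3 + x.c3 * y.c2),
     x.c0 * y.c2 + x.c1 * y.c1 + x.c2 * y.c0 + (x.c1 * y.c3 + x.c2 * y.c2 + x.c3 * y.c1),
     x.c0 * y.c3 + x.c1 * y.c2 + x.c2 * y.c1 + x.c3 * y.c0 + (x.c2 * y.c3 + x.c3 * y.c2)⟩⟩
instance : SMul ℕ Z12 := ⟨fun n x => ⟨n * x.c0, n * x.c1, n * x.c2, n * x.c3⟩⟩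
instance : SMul ℤ Z12 := ⟨fun n x => ⟨n * x.c0, n * x.c1, n * x.c2, n * x.c3⟩⟩
instance : NatCast Z12 := ⟨fun n => ⟨n, 0, 0, 0⟩⟩
instance : IntCast Z12 := ⟨fun n => ⟨n, 0, 0, 0⟩⟩

@[simp] theorem zero_c0 : (0 : Z12).c0 = 0 := rfl
@[simp] theorem zero_c1 : (0 : Z12).c1 = 0 := rfl
@[simp] theorem zero_c2 : (0 : Z12).c2 = 0 := rfl
@[simp] theorem zero_c3 : (0 : Z12).c3 = 0 := rfl
@[simp] theorem one_c0 : (1 : Z12).c0 = 1 := rfl
@[simp] theorem one_c1 : (1 : Z12).c1 = 0 := rfl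
@[simp] theorem one_c2 : (1 : Z12).c2 = 0 := rfl
@[simp] theorem one_c3 : (1 : Z12).c3 = 0 := rfl
@[simp] theorem add_c0 (x y : Z12) : (x + y).c0 = x.c0 + y.c0 := rfl
@[simp] theorem add_c1 (x y : Z12) : (x + y).c1 = x.c1 + y.c1 := rfl
@[simp] theorem add_c2 (x y : Z12) : (x + y).c2 = x.c2 + y.c2 := rfl
@[simp] theorem add_c3 (x y : Z12) : (x + y).c3 = x.c3 + y.c3 := rfl
@[simp] theorem neg_c0 (x : Z12) : (-x).c0 = -x.c0 := rfl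
@[simp] theorem neg_c1 (x : Z12) : (-x).c1 = -x.c1 := rfl
@[simp] theorem neg_c2 (x : Z12) : (-x).c2 = -x.c2 := rfl
@[simp] theorem neg_c3 (x : Z12) : (-x).c3 = -x.c3 := rfl
@[simp] theorem sub_c0 (x y : Z12) : (x - y).c0 = x.c0 - y.c0 := rfl
@[simp] theorem sub_c1 (x y : Z12) : (x - y).c1 = x.c1 - y.c1 := rfl
@[simp] theorem sub_c2 (x y : Z12) : (x - y).c2 = x.c2 - y.c2 := rfl
@[simp] theorem sub_c3 (x y : Z12) : (x - y).c3 = x.c3 - y.c3 := rfl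
@[simp] theorem mul_c0 (x y : Z12) : (x * y).c0 =
    x.c0 * y.c0 - (x.c1 * y.c3 + x.c2 * y.c2 + x.c3 * y.c1) - x.c3 * y.c3 := rfl
@[simp] theorem mul_c1 (x y : Z12) : (x * y).c1 =
    x.c0 * y.c1 + x.c1 * y.c0 - (x.c2 * y.c3 + x.c3 * y.c2) := rfl
@[simp] theorem mul_c2 (x y : Z12) : (x * y).c2 =
    x.c0 * y.c2 + x.c1 * y.c1 + x.c2 * y.c0 + (x.c1 * y.c3 + x.c2 * y.c2 + x.c3 * y.c1) := rfl
@[simp] theorem mul_c3 (x y : Z12) : (x * y).c3 =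
    x.c0 * y.c3 + x.c1 * y.c2 + x.c2 * y.c1 + x.c3 * y.c0 + (x.c2 * y.c3 + x.c3 * y.c2) := rfl
@[simp] theorem nsmul_c0 (n : ℕ) (x : Z12) : (n • x).c0 = n * x.c0 := rfl
@[simp] theorem nsmul_c1 (n : ℕ) (x : Z12) : (n • x).c1 = n * x.c1 := rfl
@[simp] theorem nsmul_c2 (n : ℕ) (x : Z12) : (n • x).c2 = n * x.c2 := rfl
@[simp] theorem nsmul_c3 (n : ℕ) (x : Z12) : (n • x).c3 = n * x.c3 := rfl
@[simp] theorem zsmul_c0 (n : ℤ) (x : Z12) : (n • x).c0 = n * x.c0 := rfl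
@[simp] theorem zsmul_c1 (n : ℤ) (x : Z12) : (n • x).c1 = n * x.c1 := rfl
@[simp] theorem zsmul_c2 (n : ℤ) (x : Z12) : (n • x).c2 = n * x.c2 := rfl
@[simp] theorem zsmul_c3 (n : ℤ) (x : Z12) : (n • x).c3 = n * x.c3 := rfl
@[simp] theorem natCast_c0 (n : ℕ) : (n : Z12).c0 = n := rfl
@[simp] theorem natCast_c1 (n : ℕ) : (n : Z12).c1 = 0 := rfl
@[simp] theorem natCast_c2 (n : ℕ) : (n : Z12).c2 = 0 := rfl
@[simp] theorem natCast_c3 (n : ℕ) : (n : Z12).c3 = 0 := rfl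
@[simp] theorem intCast_c0 (n : ℤ) : (n : Z12).c0 = n := rfl
@[simp] theorem intCast_c1 (n : ℤ) : (n : Z12).c1 = 0 := rfl
@[simp] theorem intCast_c2 (n : ℤ) : (n : Z12).c2 = 0 := rfl
@[simp] theorem intCast_c3 (n : ℤ) : (n : Z12).c3 = 0 := rfl

instance : CommRing Z12 where
  add_assoc x y z := by ext <;> simp <;> ring
  zero_add x := by ext <;> simp
  add_zero x := by ext <;> simp
  add_comm x y := by ext <;> simp <;> ring
  neg_add_cancel x := by ext <;> simp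
  sub_eq_add_neg x y := by ext <;> simp <;> ring
  mul_assoc x y z := by ext <;> simp <;> ring
  one_mul x := by ext <;> simp
  mul_one x := by ext <;> simp
  left_distrib x y z := by ext <;> simp <;> ring
  right_distrib x y z := by ext <;> simp <;> ring
  mul_comm x y := by ext <;> simp <;> ring
  zero_mul x := by ext <;> simp
  mul_zero x := by ext <;> simp
  nsmul n x := n • x
  nsmul_zero x := by ext <;> simp
  nsmul_succ n x := by ext <;> simp <;> ring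
  zsmul n x := n • x
  zsmul_zero' x := by ext <;> simp
  zsmul_succ' n x := by ext <;> simp <;> ring
  zsmul_neg' n x := by ext <;> simp [Int.negSucc_eq] <;> ring
  natCast_zero := by ext <;> simp
  natCast_succ n := by ext <;> simp
  intCast_ofNat n := by ext <;> simp
  intCast_negSucc n := by ext <;> simp [Int.negSucc_eq] <;> ring

/-- the generator `z = ζ₁₂` -/
def z : Z12 := ⟨0, 1, 0, 0⟩

/-- `√3 = z + z⁻¹ = 2 z - z³` -/
def r3 : Z12 := ⟨0, 2, 0, -1⟩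

/-- conjugation `z ↦ z⁻¹ = z - z³` (`z² ↦ 1 - z²`, `z³ ↦ -z³`) -/
def conj (x : Z12) : Z12 := ⟨x.c0 + x.c2, x.c1, -x.c2, -x.c1 - x.c3⟩

end Z12

end Cfsg.Agent.Lib.H18
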