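import Mathlib
import Cfsg.Agent.Lib.H18.Z12

/-!
# `Z12 →+* ℂ` (helper18)
-/

set_option autoImplicit false

namespace Cfsg.Agent.Lib.H18

namespace Z12

open Complex

/-- `ζ₁₂ = exp (2πi/12)` -/
noncomputable def w12 : ℂ := Complex.exp (2 * Real.pi * Complex.I / 12)

theorem w12_pow_twelve : w12 ^ 12 = 1 := by
  unfold w12
  rw [← Complex.exp_nat_mul]
  have : ((12 : ℕ) : ℂ) * (2 * Real.pi * Complex.I / 12) = 2 * Real.pi * Complex.I := by
    push_cast; ring
  rw [this, Complex.exp_two_pi_mul_I]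

theorem w12_sq : w12 ^ 2 = (1 / 2 : ℂ) + (Real.sqrt 3 / 2 : ℝ) * Complex.I := by
  unfold w12
  rw [← Complex.exp_nat_mul]
  have : ((2 : ℕ) : ℂ) * (2 * Real.pi * Complex.I / 12) = ((Real.pi / 3 : ℝ) : ℂ) * Complex.I := by
    push_cast; ring
  rw [this, Complex.exp_mul_I, ← Complex.ofReal_cos, ← Complex.ofReal_sin, Real.cos_pi_div_three,
    Real.sin_pi_div_three]
  push_cast
  ring

theorem w12_rel : w12 ^ 4 - w12 ^ 2 + 1 = 0 := by
  have h2 := w12_sq
  have h4 : w12 ^ 4 = (w12 ^ 2) ^ 2 := by ring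
  rw [h4, h2]
  have hs : ((Real.sqrt 3 : ℝ) : ℂ) ^ 2 = 3 := by
    rw [← Complex.ofReal_pow, Real.sq_sqrt (by norm_num : (0 : ℝ) ≤ 3)]
    norm_num
  push_cast
  ring_nf
  rw [Complex.I_sq, hs]
  ring

theorem w12_pow_four : w12 ^ 4 = w12 ^ 2 - 1 := by
  have := w12_rel
  linear_combination this

theorem w12_ne_zero : w12 ≠ 0 := by
  unfold w12
  exact Complex.exp_ne_zero _

/-- the embedding into `ℂ` -/
noncomputable def toC : Z12 →+* ℂ where
  toFun x := (x.c0 : ℂ) + x.c1 * w12 + x.c2 * w12 ^ 2 + x.c3 * w12 ^ 3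
  map_one' := by simp
  map_zero' := by simp
  map_add' x y := by
    simp only [add_c0, add_c1, add_c2, add_c3]
    push_cast
    ring
  map_mul' x y := by
    simp only [mul_c0, mul_c1, mul_c2, mul_c3]
    push_cast
    have h := w12_rel
    linear_combination (-((x.c1 : ℂ) * y.c3 + (x.c2 : ℂ) * y.c2 + (x.c3 : ℂ) * y.c1)
      - ((x.c2 : ℂ) * y.c3 + (x.c3 : ℂ) * y.c2) * w12
      - ((x.c3 : ℂ) * y.c3) * (w12 ^ 2 + 1)) * h

theorem toC_apply (x : Z12) :
    toC x = (x.c0 : ℂ) + x.c1 * w12 + x.c2 * w12 ^ 2 + x.c3 * w12 ^ 3 := rfl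

theorem toC_z : toC z = w12 := by
  rw [toC_apply]; simp [z]

theorem toC_intCast (n : ℤ) : toC (n : Z12) = (n : ℂ) := by
  rw [toC_apply]; simp

theorem toC_z_pow (k : ℕ) : toC (z ^ k) = w12 ^ k := by
  rw [map_pow, toC_z]

theorem conj_w12 : (starRingEnd ℂ) w12 = w12 - w12 ^ 3 := by
  have hw : w12 = Complex.exp (((Real.pi / 6 : ℝ) : ℂ) * Complex.I) := by
    unfold w12
    congr 1
    push_cast
    ring
  have hn : ‖w12‖ = 1 := by
    rw [hw]
    exact Complex.norm_exp_ofReal_mul_I _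
  have h1 : w12 * (starRingEnd ℂ) w12 = 1 := by
    rw [Complex.mul_conj, Complex.normSq_eq_norm_sq, hn]
    norm_num
  have h := w12_pow_four
  have h2 : w12 * (w12 - w12 ^ 3) = 1 := by linear_combination -h
  exact mul_left_cancel₀ w12_ne_zero (h1.trans h2.symm)

theorem toC_conj (x : Z12) : (starRingEnd ℂ) (toC x) = toC (conj x) := by
  rw [toC_apply, toC_apply]
  simp only [map_add, map_mul, map_pow, map_intCast, conj_w12]
  simp only [conj]
  push_cast
  have h := w12_rel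
  have h2 : (w12 - w12 ^ 3) ^ 2 = 1 - w12 ^ 2 := by linear_combination (w12 ^ 2 - 1) * h
  have h3 : (w12 - w12 ^ 3) ^ 3 = -w12 ^ 3 := by
    have e : (w12 - w12 ^ 3) ^ 3 = (w12 - w12 ^ 3) * (w12 - w12 ^ 3) ^ 2 := by ring
    rw [e, h2]
    linear_combination w12 * h
  linear_combination (x.c2 : ℂ) * h2 + (x.c3 : ℂ) * h3

/-- `r3` is `√3` -/
theorem r3_mul_self : r3 * r3 = 3 := by decide

theorem conj_r3 : conj r3 = r3 := by decide

end Z12

end Cfsg.Agent.Lib.H18
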