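import Mathlib
import Cfsg.Agent.Lib.H7.T648Defs
import Cfsg.Agent.Lib.H7.T648Model
import Cfsg.Agent.Lib.H18.Z12C
import Cfsg.Agent.Lib.H18.LatEnum

/-!
# S3702, lattice side (helper18): definitions

The 14 irreducible characters of `M648 = 3^3 : S4` are monomial: `Ψ = Ind_B^M ζ₁₂^ν` with `J ≤ B`,
`B = {x | P x}`, `ν` additive on `B`.  As `M = K J` (`K` the 24 elements with `v = 0`), for `J ≤ B`
`Ψ g = |S|⁻¹ ∑_{k ∈ K} [P (k⁻¹ g k)] ζ₁₂^(ν (k⁻¹ g k))`, `|S| = |B| / 27`.  Everything is computed in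
`Z12 = ℤ[ζ₁₂]`.  `F 0, …, F 8` is a basis of the generalized characters vanishing off `A648`.
See `tools/blueprints/S3702.md`.
-/

set_option autoImplicit false

namespace Cfsg.Agent.Lib.H18.L648

open Cfsg Cfsg.Agent.Lib.H7.T648 Cfsg.Agent.Lib.H18

/-- the powers of `z = ζ₁₂` -/
def zpw (n : ℕ) : Z12 :=
  match n % 12 with
  | 0 => ⟨1, 0, 0, 0⟩
  | 1 => ⟨0, 1, 0, 0⟩
  | 2 => ⟨0, 0, 1, 0⟩
  | 3 => ⟨0, 0, 0, 1⟩
  | 4 => ⟨-1, 0, 1, 0⟩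
  | 5 => ⟨0, -1, 0, 1⟩
  | 6 => ⟨-1, 0, 0, 0⟩
  | 7 => ⟨0, -1, 0, 0⟩
  | 8 => ⟨0, 0, -1, 0⟩
  | 9 => ⟨0, 0, 0, -1⟩
  | 10 => ⟨1, 0, -1, 0⟩
  | _ => ⟨0, 1, 0, -1⟩

/-- the element of the complement `K ≅ S4` with data `(a, b, p)` -/
def kel (t : ℤˣ × ℤˣ × Equiv.Perm (Fin 3)) : M648 := ⟨0, t.1, t.2.1, t.2.2⟩

/-- `0` on even, `1` on odd permutations -/
def sgm (p : Equiv.Perm (Fin 3)) : ℕ := if Equiv.Perm.sign p = 1 then 0 else 1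

/-- `0` at `1`, `1` at `-1` -/
def ng (a : ℤˣ) : ℕ := if a = 1 then 0 else 1

/-- the discrete logarithm of the cyclic group `C4 = {a = 1, p 0 = 0}` -/
def lg4 (x : M648) : ℕ := (if x.p = 1 then 0 else 1) + 2 * ng x.b

/-- the data of a monomial character: the subgroup `B = {x | P x}` (`J ≤ B`), the exponent `ν` and the
order `sz = |B| / 27` of `B / J` -/
structure Mono where
  /-- membership in the subgroup `B` -/
  P : M648 → Bool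
  /-- the exponent: the linear character of `B` is `ζ₁₂^ν` -/
  nu : M648 → ℕ
  /-- `|B / J|` -/
  sz : ℕ

/-- the trivial character -/
def mOne : Mono := ⟨fun _ => true, fun _ => 0, 24⟩
/-- the sign character of `S4` -/
def mSgn : Mono := ⟨fun _ => true, fun x => 6 * sgm x.p, 24⟩
/-- the character of degree 2 of `S4` -/
def mC2 : Mono := ⟨fun x => decide (Equiv.Perm.sign x.p = 1), fun x => 4 * (x.p 0).val, 12⟩
/-- `χ₃'`: induced from the sign of block `0` on the stabiliser of the axis `0` -/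
def mC3p : Mono := ⟨fun x => decide (x.p 0 = 0), fun x => 6 * ng x.a, 8⟩
/-- `χ₃` -/
def mC3 : Mono := ⟨fun x => decide (x.p 0 = 0), fun x => 6 * ng x.a + 6 * sgm x.p, 8⟩
/-- `ψ_k` (degree 6), `k = 0, 1, 2, 3` -/
def mP (k : ℕ) : Mono :=
  ⟨fun x => decide (x.p 0 = 0) && decide (x.a = 1), fun x => 4 * (x.v 0).val + 3 * k * lg4 x, 4⟩
/-- `φ_k` (degree 12), `k = 0, 1` -/
def mF (k : ℕ) : Mono :=
  ⟨fun x => decide (x.a = 1) && decide (x.b = 1) && decide (x.p 2 = 2),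
    fun x => 4 * ((x.v 0).val + (x.v 1).val) + 6 * k * sgm x.p, 2⟩
/-- `θ_k` (degree 8), `k = 0, 1, 2` -/
def mT (k : ℕ) : Mono :=
  ⟨fun x => decide (x.a = 1) && decide (x.b = 1) && decide (Equiv.Perm.sign x.p = 1),
    fun x => 4 * ((x.v 0).val + (x.v 1).val + (x.v 2).val) + 4 * k * (x.p 0).val, 3⟩

/-- the six permutations of the three blocks -/
def P6 : List (Equiv.Perm (Fin 3)) :=
  [1, Equiv.swap 0 1, Equiv.swap 0 2, Equiv.swap 1 2, Equiv.swap 0 1 * Equiv.swap 1 2,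
    Equiv.swap 1 2 * Equiv.swap 0 1]

/-- the 24 elements of the complement `K` (`v = 0`) -/
def Kl : List M648 :=
  P6.flatMap fun p => [⟨0, 1, 1, p⟩, ⟨0, 1, -1, p⟩, ⟨0, -1, 1, p⟩, ⟨0, -1, -1, p⟩]

/-- all 648 elements -/
def allM : List M648 :=
  ([0, 1, 2] : List (ZMod 3)).flatMap fun v0 => ([0, 1, 2] : List (ZMod 3)).flatMap fun v1 =>
    ([0, 1, 2] : List (ZMod 3)).flatMap fun v2 => Kl.map fun k => ⟨![v0, v1, v2], k.a, k.b, k.p⟩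

/-- one term of the induced character -/
def term (D : Mono) (y : M648) : Z12 := if D.P y then zpw (D.nu y) else 0

/-- `|S| Ψ g = ∑_{k ∈ K} [P (k⁻¹ g k)] z^(ν (k⁻¹ g k))` in `Z12` -/
def psiZ (D : Mono) (g : M648) : Z12 := (Kl.map fun k => term D (k⁻¹ * g * k)).sum

/-- the conditions under which `psi D` is the character induced from the linear character `ζ₁₂^ν` of the
subgroup `B = {x | D.P x}` (which contains `J648`, of order `27 * D.sz`) -/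
def MonoOK (D : Mono) : Prop :=
  (∀ x : M648, D.P x = D.P ⟨0, x.a, x.b, x.p⟩) ∧ D.P 1 = true ∧
  (∀ x y : M648, D.P x = true → D.P y = true → D.P (x * y) = true) ∧
  D.nu 1 % 12 = 0 ∧
  (∀ x y : M648, D.P x = true → D.P y = true → D.nu (x * y) % 12 = (D.nu x + D.nu y) % 12) ∧
  Kl.countP (fun k => D.P k) = D.sz

/-- the character `Ψ` -/
noncomputable def psi (D : Mono) (g : M648) : ℂ := Z12.toC (psiZ D g) / (D.sz : ℂ)

/-- `24 F_i` in `Z12`: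
`F₀ = ψ₁ - ψ₃`, `F₁ = θ₁ - θ₂`, `F₂ = ψ₁ - χ₃ - χ₃'`, `F₃ = θ₁ - χ₂ - χ₃ - χ₃'`, `F₄ = ψ₀ - 1 - χ₂ - χ₃'`,
`F₅ = ψ₂ - sgn - χ₂ - χ₃`, `F₆ = θ₀ - 1 - sgn - χ₃ - χ₃'`, `F₇ = φ₀ - θ₁ - 1 - χ₃`,
`F₈ = φ₁ - θ₁ - sgn - χ₃'` -/
def FZ (i : Fin 9) (g : M648) : Z12 :=
  match i with
  | 0 => 6 * psiZ (mP 1) g - 6 * psiZ (mP 3) g
  | 1 => 8 * psiZ (mT 1) g - 8 * psiZ (mT 2) g
  | 2 => 6 * psiZ (mP 1) g - 3 * psiZ mC3 g - 3 * psiZ mC3p g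
  | 3 => 8 * psiZ (mT 1) g - 2 * psiZ mC2 g - 3 * psiZ mC3 g - 3 * psiZ mC3p g
  | 4 => 6 * psiZ (mP 0) g - psiZ mOne g - 2 * psiZ mC2 g - 3 * psiZ mC3p g
  | 5 => 6 * psiZ (mP 2) g - psiZ mSgn g - 2 * psiZ mC2 g - 3 * psiZ mC3 g
  | 6 => 8 * psiZ (mT 0) g - psiZ mOne g - psiZ mSgn g - 3 * psiZ mC3 g - 3 * psiZ mC3p g
  | 7 => 12 * psiZ (mF 0) g - 8 * psiZ (mT 1) g - psiZ mOne g - 3 * psiZ mC3 g
  | 8 => 12 * psiZ (mF 1) g - 8 * psiZ (mT 1) g - psiZ mSgn g - 3 * psiZ mC3p g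

/-- the generalized characters `F_i` of `M648` -/
noncomputable def Fc (i : Fin 9) (g : M648) : ℂ := Z12.toC (FZ i g) / 24

/-! ## the conjugacy classes -/

/-- the number of non-zero coordinates of the translation part -/
def wt (x : M648) : ℕ :=
  (if x.v 0 = 0 then 0 else 1) + (if x.v 1 = 0 then 0 else 1) + (if x.v 2 = 0 then 0 else 1)

/-- `1 ↦ 1`, `2 ↦ -1` -/
def sgz (t : ZMod 3) : ℤ := if t = 1 then 1 else -1

/-- the invariant separating the two classes of elements of order 9 -/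
def inv9 (x : M648) : ℤ :=
  (if x.p 0 = 1 then 1 else -1) * sgz ((x * x * x).v 0) *
    (if x.p 0 = 1 then ((x.b : ℤˣ) : ℤ) else ((x.a * x.b : ℤˣ) : ℤ))

/-- the fixed point of a transposition -/
def fixp (p : Equiv.Perm (Fin 3)) : Fin 3 := if p 0 = 0 then 0 else if p 1 = 1 then 1 else 2

/-- the invariant separating the two classes of elements of order 12 -/
def inv12 (x : M648) : ℤ :=
  sgz ((x * x * (x * x)).v (fixp x.p)) *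
    (if fixp x.p = 0 then ((x.b : ℤˣ) : ℤ) else if fixp x.p = 1 then -((x.a : ℤˣ) : ℤ)
      else ((x.a : ℤˣ) : ℤ))

/-- a kernel-friendly test for `x = 1` (the derived `DecidableEq M648` does not reduce in the kernel) -/
def isOne (x : M648) : Bool :=
  decide (x.v 0 = 0) && decide (x.v 1 = 0) && decide (x.v 2 = 0) && decide (x.a = 1) &&
    decide (x.b = 1) && decide (x.p = 1)

/-- the conjugacy class of `x`: `0:1a 1:2a 2:2b 3:3a(wt 1) 4:3b(wt 3) 5:3c(wt 2) 6:3d 7:4a 8:6a 9:6b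
10:9a 11:9b 12:12a 13:12b`, of sizes `1, 27, 54, 6, 8, 12, 72, 54, 54, 108, 72, 72, 54, 54` -/
def cls (x : M648) : Fin 14 :=
  if isOne x then 0
  else if isOne (x * x) then (if x.p = 1 then 1 else 2)
  else if isOne (x * x * x) then
    (if x ∈ J648 then (if wt x = 1 then 3 else if wt x = 3 then 4 else 5) else 6)
  else if isOne (x * x * (x * x)) then 7
  else if isOne (x * x * x * (x * x * x)) then (if x.p = 1 then 8 else 9)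
  else if isOne (x * x * x * (x * x * x) * (x * x * x)) then (if inv9 x = 1 then 10 else 11)
  else (if inv12 x = 1 then 12 else 13)

/-- the class sizes -/
def csz : Fin 14 → ℕ := ![1, 27, 54, 6, 8, 12, 72, 54, 54, 108, 72, 72, 54, 54]

/-- the 14 monomial data: `1, sgn, χ₂, χ₃', χ₃, ψ₀, ψ₁, ψ₂, ψ₃, φ₀, φ₁, θ₀, θ₁, θ₂` -/
def monoL (d : Fin 14) : Mono :=
  match d with
  | 0 => mOne
  | 1 => mSgn
  | 2 => mC2
  | 3 => mC3p
  | 4 => mC3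
  | 5 => mP 0
  | 6 => mP 1
  | 7 => mP 2
  | 8 => mP 3
  | 9 => mF 0
  | 10 => mF 1
  | 11 => mT 0
  | 12 => mT 1
  | 13 => mT 2

/-- the integer `m` in `Z12` -/
def zi (m : ℤ) : Z12 := ⟨m, 0, 0, 0⟩

/-- the values of `psiZ (monoL d)` (`= |S| Ψ_d`) on the classes -/
def Ptab (d : Fin 14) : Fin 14 → Z12 :=
  match d with
  | 0 => ![zi 24, zi 24, zi 24, zi 24, zi 24, zi 24, zi 24, zi 24, zi 24, zi 24, zi 24, zi 24, zi 24, zi 24]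
  | 1 => ![zi 24, zi 24, zi (-24), zi 24, zi 24, zi 24, zi 24, zi (-24), zi 24, zi (-24), zi 24, zi 24, zi (-24), zi (-24)]
  | 2 => ![zi 24, zi 24, zi 0, zi 24, zi 24, zi 24, zi (-12), zi 0, zi 24, zi 0, zi (-12), zi (-12), zi 0, zi 0]
  | 3 => ![zi 24, zi (-8), zi (-8), zi 24, zi 24, zi 24, zi 0, zi 8, zi (-8), zi (-8), zi 0, zi 0, zi 8, zi 8]
  | 4 => ![zi 24, zi (-8), zi 8, zi 24, zi 24, zi 24, zi 0, zi (-8), zi (-8), zi 8, zi 0, zi 0, zi (-8), zi (-8)]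
  | 5 => ![zi 24, zi 8, zi 0, zi 12, zi (-12), zi 0, zi 0, zi 8, zi (-4), zi 0, zi 0, zi 0, zi (-4), zi (-4)]
  | 6 => ![zi 24, zi (-8), zi 0, zi 12, zi (-12), zi 0, zi 0, zi 0, zi 4, zi 0, zi 0, zi 0, ⟨0, -8, 0, 4⟩, ⟨0, 8, 0, -4⟩]
  | 7 => ![zi 24, zi 8, zi 0, zi 12, zi (-12), zi 0, zi 0, zi (-8), zi (-4), zi 0, zi 0, zi 0, zi 4, zi 4]
  | 8 => ![zi 24, zi (-8), zi 0, zi 12, zi (-12), zi 0, zi 0, zi 0, zi 4, zi 0, zi 0, zi 0, ⟨0, 8, 0, -4⟩, ⟨0, -8, 0, 4⟩]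
  | 9 => ![zi 24, zi 0, zi 4, zi 0, zi 6, zi (-6), zi 0, zi 0, zi 0, zi (-2), zi 0, zi 0, zi 0, zi 0]
  | 10 => ![zi 24, zi 0, zi (-4), zi 0, zi 6, zi (-6), zi 0, zi 0, zi 0, zi 2, zi 0, zi 0, zi 0, zi 0]
  | 11 => ![zi 24, zi 0, zi 0, zi (-12), zi (-3), zi 6, zi 6, zi 0, zi 0, zi 0, zi (-3), zi (-3), zi 0, zi 0]
  | 12 => ![zi 24, zi 0, zi 0, zi (-12), zi (-3), zi 6, zi (-3), zi 0, zi 0, zi 0, zi (-3), zi 6, zi 0, zi 0]
  | 13 => ![zi 24, zi 0, zi 0, zi (-12), zi (-3), zi 6, zi (-3), zi 0, zi 0, zi 0, zi 6, zi (-3), zi 0, zi 0]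

/-- `m + n √3` -/
def zq (m n : ℤ) : Z12 := ⟨m, 2 * n, 0, -n⟩

/-- the values of `24 F_i` on the classes -/
def Ftab (i : Fin 9) : Fin 14 → Z12 :=
  match i with
  | 0 => ![0, 0, 0, 0, 0, 0, 0, 0, 0, 0, 0, 0, zq 0 (-48), zq 0 48]
  | 1 => ![0, 0, 0, 0, 0, 0, 0, 0, 0, 0, zq (-72) 0, zq 72 0, 0, 0]
  | 2 => ![0, 0, 0, zq (-72) 0, zq (-216) 0, zq (-144) 0, 0, 0, zq 72 0, 0, 0, 0, zq 0 (-24), zq 0 24]
  | 3 => ![0, 0, 0, zq (-288) 0, zq (-216) 0, zq (-144) 0, 0, 0, 0, 0, 0, zq 72 0, 0, 0]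
  | 4 => ![0, 0, 0, zq (-72) 0, zq (-216) 0, zq (-144) 0, 0, 0, zq (-72) 0, 0, 0, 0, zq (-72) 0,
      zq (-72) 0]
  | 5 => ![0, 0, 0, zq (-72) 0, zq (-216) 0, zq (-144) 0, 0, 0, zq (-72) 0, 0, 0, 0, zq 72 0, zq 72 0]
  | 6 => ![0, 0, 0, zq (-288) 0, zq (-216) 0, zq (-144) 0, 0, 0, 0, 0, zq (-72) 0, zq (-72) 0, 0, 0]
  | 7 => ![0, 0, 0, 0, 0, zq (-216) 0, 0, 0, 0, zq (-72) 0, 0, zq (-72) 0, 0, 0]
  | 8 => ![0, 0, 0, 0, 0, zq (-216) 0, 0, 0, 0, zq 72 0, 0, zq (-72) 0, 0, 0]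

/-- the Gram matrix of `F₀, …, F₈` -/
def Mg : Fin 9 → Fin 9 → ℤ :=
  !![2, 0, 1, 0, 0, 0, 0, 0, 0;
     0, 2, 0, 1, 0, 0, 0, -1, -1;
     1, 0, 3, 2, 1, 1, 2, 1, 1;
     0, 1, 2, 4, 2, 2, 2, 0, 0;
     0, 0, 1, 2, 4, 1, 2, 1, 1;
     0, 0, 1, 2, 1, 4, 2, 1, 1;
     0, 0, 2, 2, 2, 2, 5, 2, 2;
     0, -1, 1, 0, 1, 1, 2, 4, 1;
     0, -1, 1, 0, 1, 1, 2, 1, 4]

/-- the multiplicities of the trivial character -/
def a0 : Fin 9 → ℤ := ![0, 0, 0, 0, -1, 0, -1, -1, 0]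

/-- `|C(x)| 1_{class of x} = ∑ q_i F_i` for the three classes of `J`: weight `1, 2, 3` -/
def qJ (τ : ℕ) : Fin 9 → ℤ :=
  if τ = 1 then ![-3, 4, 6, -8, 3, 3, -4, 0, 0]
  else if τ = 3 then ![3, 1, -6, 4, -3, -3, -1, 3, 3]
  else ![0, -2, 0, -2, 0, 0, 2, -3, -3]

/-- the centraliser orders of the three classes of `J` -/
def cJ (τ : ℕ) : ℤ := if τ = 1 then 108 else if τ = 3 then 81 else 54

/-- the Gram matrix without the trivial character, as a function on `ℕ` (for `LatEnum.search`) -/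
def MpN (i j : ℕ) : ℤ :=
  if h : i < 9 ∧ j < 9 then Mg ⟨i, h.1⟩ ⟨j, h.2⟩ - a0 ⟨i, h.1⟩ * a0 ⟨j, h.2⟩ else 0

/-- the four possible shapes of the character table of `G` on the TI set (columns `(⟨Φ_i, χ⟩)_i` of the
non-trivial irreducible characters not orthogonal to all `Φ_i`, up to signs), in the order found by
`LatEnum.search MpN 9`: `shape0` (11 columns) and `shape1` (12 columns) are killed by the degree
equations, `shape3` (12 columns) by the class equations, `shape2` (13 columns) is the shape of `M648` -/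
def shape0 : List (List ℤ) :=
  [[0, 0, 0, 0, 0, 0, 0, 0, 1], [0, 0, 0, 0, 0, 0, 1, 0, 0], [0, 0, 0, 0, 0, 0, 1, 0, 1],
   [0, 0, 0, 0, 1, 0, 0, 0, 0], [0, 0, 0, 1, 1, 0, 0, -1, 0], [0, 0, 1, 1, 0, 1, 1, 0, 0],
   [0, 0, 1, 1, 1, 1, 1, 1, 1], [0, 1, 0, 0, 0, 0, 0, -1, 0], [0, 1, 0, 1, 0, 0, 0, 0, -1],
   [1, 0, 0, 0, 0, 1, 0, 0, 0], [1, 0, 1, 0, 0, -1, 0, 0, 0]]

/-- the second shape -/
def shape1 : List (List ℤ) :=
  [[0, 0, 0, 0, 0, 0, 0, 0, 1], [0, 0, 0, 0, 0, 0, 0, 1, 0], [0, 0, 0, 0, 0, 0, 1, 0, 0],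
   [0, 0, 0, 0, 0, 0, 1, 0, 1], [0, 0, 0, 0, 1, 0, 0, 0, 0], [0, 0, 0, 1, 1, 0, 0, 0, 0],
   [0, 0, 1, 1, 0, 1, 1, 1, 0], [0, 0, 1, 1, 1, 1, 1, 0, 1], [0, 1, 0, 0, 0, 0, 0, 0, 0],
   [0, 1, 0, 1, 0, 0, 0, -1, -1], [1, 0, 0, 0, 0, 1, 0, 0, 0], [1, 0, 1, 0, 0, -1, 0, 0, 0]]

/-- the natural shape -/
def shape2 : List (List ℤ) :=
  [[0, 0, 0, 0, 0, 0, 0, 0, 1], [0, 0, 0, 0, 0, 0, 0, 1, 0], [0, 0, 0, 0, 0, 0, 1, 0, 0],
   [0, 0, 0, 0, 0, 1, 0, 0, 0], [0, 0, 0, 0, 0, 1, 1, 0, 1], [0, 0, 0, 0, 1, 0, 0, 0, 0],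
   [0, 0, 0, 1, 1, 1, 0, 0, 0], [0, 0, 1, 1, 0, 1, 1, 1, 0], [0, 0, 1, 1, 1, 0, 1, 0, 1],
   [0, 1, 0, 0, 0, 0, 0, 0, 0], [0, 1, 0, 1, 0, 0, 0, -1, -1], [1, 0, 0, 0, 0, 0, 0, 0, 0],
   [1, 0, 1, 0, 0, 0, 0, 0, 0]]

/-- the fourth shape -/
def shape3 : List (List ℤ) :=
  [[0, 0, 0, 0, 0, 0, 0, 1, 0], [0, 0, 0, 0, 0, 0, 1, 0, 1], [0, 0, 0, 0, 0, 1, 0, 0, 1],
   [0, 0, 0, 0, 0, 1, 1, 0, 0], [0, 0, 0, 0, 1, 0, 0, 0, 0], [0, 0, 0, 1, 1, 1, 0, 0, 0],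
   [0, 0, 1, 1, 0, 1, 1, 1, 0], [0, 0, 1, 1, 1, 0, 1, 0, 1], [0, 1, 0, 0, 0, 0, 0, 0, 0],
   [0, 1, 0, 1, 0, 0, 0, -1, -1], [1, 0, 0, 0, 0, 0, 0, 0, 0], [1, 0, 1, 0, 0, 0, 0, 0, 0]]

/-- all shapes -/
def shapes : List (List (List ℤ)) := [shape0, shape1, shape2, shape3]

/-! ## the data of the arithmetic part -/

/-- the value on the elements of weight `τ` of `J` of a character with column `col` -/
def vJ (τ : ℕ) (col : List ℤ) : ℤ := ∑ i : Fin 9, qJ τ i * col.getD i.val 0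

/-- the sum of a class equation over the columns `cols` with signed degrees `D` -/
def ceSum (cols : List (List ℤ)) (D : List ℤ) (τ1 τ2 τ3 : ℕ) : ℚ :=
  (List.zipWith (fun c d => ((vJ τ1 c * vJ τ2 c * vJ τ3 c : ℤ) : ℚ) / (d : ℚ)) cols D).sum

/-- the seven class equations used: the weights of the three classes and the local count `lcnt` -/
def tripleData : List ((ℕ × ℕ × ℕ) × ℕ) :=
  [((1, 1, 3), 0), ((1, 1, 2), 32), ((1, 3, 3), 36), ((1, 2, 2), 16), ((3, 3, 2), 18),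
    ((3, 2, 2), 24), ((1, 3, 2), 24)]

/-- what is known about the signed degrees `D` of the characters of a shape `cols` -/
def ShapeOK (cols : List (List ℤ)) (g : ℕ) (D : List ℤ) : Prop :=
  D.length = cols.length ∧ (∀ d ∈ D, d ≠ 0) ∧
    (∀ i : Fin 9, a0 i + LatEnum.dot i.val cols D = 0) ∧
    1 + (D.map fun d => d * d).sum ≤ (g : ℤ) ∧
    ∀ p ∈ tripleData, 1 + ceSum cols D p.1.1 p.1.2.1 p.1.2.2 = (729 * p.2 : ℚ) / (g : ℚ)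

/-- the rows of the non-trivial characters, for `LatEnum.search_sound` -/
def bOf {ι : Type*} (c : Fin 9 → ι → ℤ) (i0 : ι) (i : ℕ) (χ : {χ : ι // χ ≠ i0}) : ℤ :=
  if h : i < 9 then c ⟨i, h⟩ χ.1 else 0

end Cfsg.Agent.Lib.H18.L648

/-! ## the interface for `Cfsg.Agent.Lib.H7.T648` (names of helper7's assembly) -/

namespace Cfsg.Agent.Lib.H18.T648

open Cfsg Cfsg.Agent.Lib.H7.T648 Cfsg.Agent.Lib.H18 Cfsg.Agent.Lib.H18.L648

/-- `xv i k`: the coefficient of `⟨F, bf i⟩` in the value of a class function `F` on the elements of weight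
`k` of `J648` -/
def xv (i : Fin 9) (k : ℕ) : ℤ := qJ k i

/-- the Gram matrix of `bf 0, …, bf 8` -/
def gram : Fin 9 → Fin 9 → ℤ := Mg

/-- `⟨bf i, 1⟩` -/
def t0 : Fin 9 → ℤ := a0

/-- a basis of the generalized characters of `M648` vanishing off `A648` -/
noncomputable def bf : Fin 9 → M648 → ℂ := Fc

/-- the weight of a vector -/
def wtv (w : Fin 3 → ZMod 3) : ℕ := (Finset.univ.filter (fun i => w i ≠ 0)).card

end Cfsg.Agent.Lib.H18.T648
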