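import Mathlib
import Cfsg.Prelude.Def_Sporadic_a
import Cfsg.Prelude.Def_SporadicCombinatorics
import Cfsg.Agent.Lib.H27.Co0Mod2
import Cfsg.Agent.Lib.H27.Leech32Shapes

/-!
helper18 library (for S1572, step 3): definitions.  For two points `p ≠ q` let
`v = 4 e_p + 4 e_q`.  The minimal vectors `w` with `w · v = 16` fall into three shape classes
`TA` (88 vectors), `TB` (2464), `TC` (2048); `NvRel` is the orbit relation of the stabiliser of `v`
in the monomial group `N` (the stabiliser of the standard cross).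
-/

set_option autoImplicit false

namespace Cfsg.Agent.Lib.H18.NX

open Cfsg Finset Cfsg.Agent.Lib.H27 Cfsg.Agent.Lib.H28

/-- The lattice vector `4 e_p + 4 e_q`. -/
def vPQ (p q : GolayPt) (hpq : p ≠ q) : leechLattice :=
  ⟨vecA p q 4 4, vecA_mem hpq (Or.inl rfl) (Or.inl rfl)⟩

/-- The vectors `(4, 0, ±4_j)`, `(0, 4, ±4_j)`. -/
def TA (p q : GolayPt) : Set leechLattice :=
  {w | IsA (w : GolayPt → ℤ) ∧ dotInt (w : GolayPt → ℤ) (vecA p q 4 4) = 16}

/-- The vectors `(2, 2, ±2^6)` on an octad through `p, q`. -/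
def TB (p q : GolayPt) : Set leechLattice :=
  {w | IsB (w : GolayPt → ℤ) ∧ dotInt (w : GolayPt → ℤ) (vecA p q 4 4) = 16}

/-- The vectors `(3, 1, ±1^22)`, `(1, 3, ±1^22)`. -/
def TC (p q : GolayPt) : Set leechLattice :=
  {w | IsC (w : GolayPt → ℤ) ∧ dotInt (w : GolayPt → ℤ) (vecA p q 4 4) = 16}

/-- The orbit relation of the stabiliser of `4 e_p + 4 e_q` in the stabiliser of the standard
cross. -/
def NvRel (p q : GolayPt) (hpq : p ≠ q) (w w' : leechLattice) : Prop :=
  ∃ g : Co0, StabCross g ∧ g • vPQ p q hpq = vPQ p q hpq ∧ g • w = w'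

end Cfsg.Agent.Lib.H18.NX
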