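import Mathlib
import Cfsg.Prelude.Def_OddOrderLocal
import Cfsg.Prelude.Def_CaseTheorems
import Cfsg.Prelude.Def_PLocal
import Cfsg.Agent.Lib.H19.R2Defs

/-!
# S3888 piece C1B2 (helper18): elements of order `p` in the structure-B groups

`G = (⟨y⟩ × ⟨z⟩) ⋊ ⟨x⟩`, `x⁻¹ z x = y z`, `x⁻¹ y x = y w`, `w = z ^ (k p^(n-3))` central.  Every element is
`y^r z^s w^t x⁻ⁱ`; `(y^r z^s w^t x⁻¹)^p = z^(ps) w^(C(p,3) s)`.
-/

set_option autoImplicit false

namespace Cfsg.Agent.Lib.H18.R2

open Cfsg Cfsg.Agent.Lib.H19.R2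
open scoped commutatorElement

universe u

section core

variable {G : Type u} [Group G]

/-- the monomial `y^r z^s w^t` -/
def mono (y z w : G) (r s t : ℕ) : G := y ^ r * z ^ s * w ^ t

theorem mono_mul {y z w : G} (hyz : Commute y z) (hyw : Commute y w) (hzw : Commute z w)
    (r s t r' s' t' : ℕ) :
    mono y z w r s t * mono y z w r' s' t' = mono y z w (r + r') (s + s') (t + t') := by
  unfold mono
  rw [pow_add, pow_add, pow_add]
  have h1 : Commute (w ^ t) (y ^ r') := (hyw.symm.pow_left t).pow_right r'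
  have h2 : Commute (w ^ t) (z ^ s') := (hzw.symm.pow_left t).pow_right s'
  have h3 : Commute (z ^ s) (y ^ r') := (hyz.symm.pow_left s).pow_right r'
  calc y ^ r * z ^ s * w ^ t * (y ^ r' * z ^ s' * w ^ t')
      = y ^ r * z ^ s * (w ^ t * y ^ r') * z ^ s' * w ^ t' := by simp only [mul_assoc]
    _ = y ^ r * z ^ s * (y ^ r' * w ^ t) * z ^ s' * w ^ t' := by rw [h1.eq]
    _ = y ^ r * (z ^ s * y ^ r') * (w ^ t * z ^ s') * w ^ t' := by simp only [mul_assoc]
    _ = y ^ r * (y ^ r' * z ^ s) * (z ^ s' * w ^ t) * w ^ t' := by rw [h3.eq, h2.eq]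
    _ = y ^ r * y ^ r' * (z ^ s * z ^ s') * (w ^ t * w ^ t') := by simp only [mul_assoc]

theorem mono_pow {y z w : G} (hyz : Commute y z) (hyw : Commute y w) (hzw : Commute z w)
    (r s t m : ℕ) : mono y z w r s t ^ m = mono y z w (m * r) (m * s) (m * t) := by
  induction m with
  | zero => simp [mono]
  | succ m ih =>
    rw [pow_succ, ih, mono_mul hyz hyw hzw]
    congr 1 <;> ring

theorem conj_mono {x y z w : G} (hyz : Commute y z) (hyw : Commute y w) (hzw : Commute z w)
    (hxw : Commute x w) (hzx : x⁻¹ * z * x = y * z) (hyx : x⁻¹ * y * x = y * w) (r s t : ℕ) :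
    x⁻¹ * mono y z w r s t * x = mono y z w (r + s) s (t + r) := by
  have key : ∀ g : G, x⁻¹ * g * x = MulAut.conj x⁻¹ g := by intro g; simp
  have hwx : x⁻¹ * w * x = w := by
    rw [mul_assoc, ← hxw.eq, ← mul_assoc, inv_mul_cancel, one_mul]
  rw [key]
  unfold mono
  rw [map_mul, map_mul, map_pow, map_pow, map_pow, ← key, ← key, ← key, hzx, hyx, hwx,
    hyw.mul_pow, hyz.mul_pow]
  have e1 : y ^ r * w ^ r = mono y z w r 0 r := by simp [mono]
  have e2 : y ^ s * z ^ s = mono y z w s s 0 := by simp [mono]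
  have e3 : w ^ t = mono y z w 0 0 t := by simp [mono]
  rw [e1, e2, e3, mono_mul hyz hyw hzw, mono_mul hyz hyw hzw]
  unfold mono
  congr 2 <;> ring_nf

theorem conj_pow_mono {x y z w : G} (hyz : Commute y z) (hyw : Commute y w) (hzw : Commute z w)
    (hxw : Commute x w) (hzx : x⁻¹ * z * x = y * z) (hyx : x⁻¹ * y * x = y * w) (m r s t : ℕ) :
    x⁻¹ ^ m * mono y z w r s t * x ^ m =
      mono y z w (r + m * s) s (t + m * r + m.choose 2 * s) := by
  induction m with
  | zero => simp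
  | succ m ih =>
    have e : x⁻¹ ^ (m + 1) * mono y z w r s t * x ^ (m + 1) =
        x⁻¹ * (x⁻¹ ^ m * mono y z w r s t * x ^ m) * x := by
      rw [pow_succ', pow_succ]; simp only [mul_assoc]
    rw [e, ih, conj_mono hyz hyw hzw hxw hzx hyx]
    have e2 : (m + 1).choose 2 = m.choose 2 + m := by
      rw [Nat.choose_succ_succ', Nat.choose_one_right, add_comm]
    rw [e2]
    congr 1 <;> ring

theorem nf_mul {x y z w : G} (hyz : Commute y z) (hyw : Commute y w) (hzw : Commute z w)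
    (hxw : Commute x w) (hzx : x⁻¹ * z * x = y * z) (hyx : x⁻¹ * y * x = y * w)
    (r s t i r' s' t' i' : ℕ) :
    mono y z w r s t * x⁻¹ ^ i * (mono y z w r' s' t' * x⁻¹ ^ i') =
      mono y z w (r + (r' + i * s')) (s + s') (t + (t' + i * r' + i.choose 2 * s')) *
        x⁻¹ ^ (i + i') := by
  rw [← mono_mul hyz hyw hzw, ← conj_pow_mono hyz hyw hzw hxw hzx hyx, pow_add]
  have : x ^ i * x⁻¹ ^ i = 1 := by rw [inv_pow, mul_inv_cancel]
  calc mono y z w r s t * x⁻¹ ^ i * (mono y z w r' s' t' * x⁻¹ ^ i')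
      = mono y z w r s t * (x⁻¹ ^ i * mono y z w r' s' t') * 1 * x⁻¹ ^ i' := by
        simp only [mul_assoc, one_mul]
    _ = mono y z w r s t * (x⁻¹ ^ i * mono y z w r' s' t') * (x ^ i * x⁻¹ ^ i) * x⁻¹ ^ i' := by
        rw [this]
    _ = mono y z w r s t * (x⁻¹ ^ i * mono y z w r' s' t' * x ^ i) * (x⁻¹ ^ i * x⁻¹ ^ i') := by
        simp only [mul_assoc]

theorem nf_pow {x y z w : G} (hyz : Commute y z) (hyw : Commute y w) (hzw : Commute z w)
    (hxw : Commute x w) (hzx : x⁻¹ * z * x = y * z) (hyx : x⁻¹ * y * x = y * w)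
    (r s t i j : ℕ) :
    ∃ r' s' t' : ℕ, (mono y z w r s t * x⁻¹ ^ i) ^ j = mono y z w r' s' t' * x⁻¹ ^ (i * j) := by
  induction j with
  | zero => exact ⟨0, 0, 0, by simp [mono]⟩
  | succ j ih =>
    obtain ⟨r', s', t', h⟩ := ih
    refine ⟨r' + (r + (i * j) * s), s' + s, t' + (t + (i * j) * r + (i * j).choose 2 * s), ?_⟩
    rw [pow_succ, h, nf_mul hyz hyw hzw hxw hzx hyx, Nat.mul_succ]

theorem mono_conj_pow {x y z w : G} (hyz : Commute y z) (hyw : Commute y w) (hzw : Commute z w)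
    (hxw : Commute x w) (hzx : x⁻¹ * z * x = y * z) (hyx : x⁻¹ * y * x = y * w)
    (m r s t : ℕ) :
    (mono y z w r s t * x⁻¹) ^ m =
      mono y z w (m * r + m.choose 2 * s) (m * s) (m * t + m.choose 2 * r + m.choose 3 * s) *
        x⁻¹ ^ m := by
  induction m with
  | zero => simp [mono]
  | succ m ih =>
    have h1 := nf_mul hyz hyw hzw hxw hzx hyx (m * r + m.choose 2 * s) (m * s)
      (m * t + m.choose 2 * r + m.choose 3 * s) m r s t 1
    rw [pow_one] at h1
    rw [pow_succ, ih, h1]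
    have e2 : (m + 1).choose 2 = m.choose 2 + m := by
      rw [Nat.choose_succ_succ', Nat.choose_one_right, add_comm]
    have e3 : (m + 1).choose 3 = m.choose 3 + m.choose 2 := by
      rw [Nat.choose_succ_succ', add_comm]
    rw [e2, e3]
    congr 2 <;> ring

end core

variable {p : ℕ} [Fact p.Prime] {G : Type u} [Group G] [Finite G]

/-- C1B2. -/
theorem c1_B2 (hp2 : p ≠ 2) {n : ℕ} (h4 : 4 ≤ n) (hcard : Nat.card G = p ^ n) {N : Subgroup G} {x : G}
    (h : C1 p G N x) {y z : G} (hy : y ∈ N) (hyx : y * x ≠ x * y) (hz : ∀ a ∈ N, z * a = a * z)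
    (hzx : x⁻¹ * z * x = y * z) (hgen : N ⊔ Subgroup.zpowers x ⊔ Subgroup.zpowers z = ⊤)
    (hzo : orderOf z = p ^ (n - 2)) (hzN : z ^ p ^ (n - 3) ∈ N) (hxz : x * z ^ p = z ^ p * x) {k : ℕ}
    (hk : ¬ p ∣ k) (hyx' : x⁻¹ * y * x = y * z ^ (k * p ^ (n - 3))) :
    (∀ g : G, g ^ p = 1 → g ∈ N ⊔ Subgroup.zpowers x) ∨ (p = 3 ∧ n = 4) := by
  have hp : p.Prime := Fact.out
  by_cases hex : p = 3 ∧ n = 4
  · exact Or.inr hex
  left
  obtain ⟨m, rfl⟩ : ∃ m, n = m + 4 := ⟨n - 4, by omega⟩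
  have e3 : m + 4 - 3 = m + 1 := by omega
  have e2 : m + 4 - 2 = m + 2 := by omega
  rw [e3] at hzN hyx'
  rw [e2] at hzo
  obtain ⟨w, hw⟩ : ∃ w, w = z ^ (k * p ^ (m + 1)) := ⟨_, rfl⟩
  rw [← hw] at hyx'
  -- basic facts
  have hwN : w ∈ N := by
    rw [hw, pow_mul']
    exact N.pow_mem hzN k
  have hyz : Commute y z := (hz y hy).symm
  have hzw : Commute z w := by rw [hw]; exact (Commute.refl z).pow_right _
  have hyw : Commute y w := by rw [hw]; exact hyz.pow_right _
  have hxw : Commute x w := by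
    have : w = (z ^ p) ^ (k * p ^ m) := by
      rw [hw, ← pow_mul]; congr 1; rw [pow_succ]; ring
    rw [this]
    exact (show Commute x (z ^ p) from hxz).pow_right _
  have hyp : y ^ p = 1 := h.nd.exp y hy
  have hwp : w ^ p = 1 := h.nd.exp w hwN
  have hxp : x ^ p = 1 := h.hx
  have hxip : x⁻¹ ^ p = 1 := by rw [inv_pow, hxp, inv_one]
  have hw1 : w ≠ 1 := by
    intro h1
    rw [hw] at h1
    have hd := orderOf_dvd_of_pow_eq_one h1
    rw [hzo, pow_succ, mul_comm] at hd
    exact hk (Nat.dvd_of_mul_dvd_mul_right (pow_pos hp.pos _) hd)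
  -- `N = ⟨y, w⟩`
  have hK : Subgroup.closure ({y, w} : Set G) = N := by
    have hKN : Subgroup.closure ({y, w} : Set G) ≤ N := by
      rw [Subgroup.closure_le]
      rintro g (rfl | rfl)
      · exact hy
      · exact hwN
    have hwK : Subgroup.zpowers w ≤ Subgroup.closure ({y, w} : Set G) :=
      (Subgroup.zpowers_le).2 (Subgroup.subset_closure (by simp))
    have hyK : y ∈ Subgroup.closure ({y, w} : Set G) := Subgroup.subset_closure (by simp)
    have hcw : Nat.card (Subgroup.zpowers w) = p := by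
      rw [Nat.card_zpowers]; exact orderOf_eq_prime hwp hw1
    have h1 : p ∣ Nat.card (Subgroup.closure ({y, w} : Set G)) := by
      have := Subgroup.card_dvd_of_le hwK
      rwa [hcw] at this
    have h2 : Nat.card (Subgroup.closure ({y, w} : Set G)) ∣ p ^ 2 := by
      have := Subgroup.card_dvd_of_le hKN
      rwa [h.nd.card] at this
    obtain ⟨j, hj, hKj⟩ := (Nat.dvd_prime_pow hp).1 h2
    interval_cases j
    · rw [hKj, pow_zero] at h1
      exact absurd (Nat.le_of_dvd one_pos h1) (by have := hp.two_le; omega)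
    · exfalso
      have : Subgroup.zpowers w = Subgroup.closure ({y, w} : Set G) :=
        Subgroup.eq_of_le_of_card_ge hwK (by rw [hcw, hKj, pow_one])
      rw [← this] at hyK
      obtain ⟨i, hi⟩ := Subgroup.mem_zpowers_iff.1 hyK
      apply hyx
      rw [← hi]
      exact ((hxw.zpow_right i).eq).symm
    · exact Subgroup.eq_of_le_of_card_ge hKN (by rw [h.nd.card, hKj])
  -- the normal-form submonoid
  let M : Submonoid G :=
    { carrier := {g | ∃ r s t i : ℕ, g = mono y z w r s t * x⁻¹ ^ i}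
      one_mem' := ⟨0, 0, 0, 0, by simp [mono]⟩
      mul_mem' := by
        rintro _ _ ⟨r, s, t, i, rfl⟩ ⟨r', s', t', i', rfl⟩
        exact ⟨_, _, _, _, nf_mul hyz hyw hzw hxw hzx hyx' r s t i r' s' t' i'⟩ }
  have hall : ∀ g : G, ∃ r s t i : ℕ, g = mono y z w r s t * x⁻¹ ^ i := by
    intro g
    have hg : g ∈ (⊤ : Subgroup G) := Subgroup.mem_top g
    rw [← hgen, ← hK, Subgroup.zpowers_eq_closure, Subgroup.zpowers_eq_closure,
      ← Subgroup.closure_union, ← Subgroup.closure_union] at hg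
    have hg' : g ∈ (Subgroup.closure ((({y, w} : Set G) ∪ {x}) ∪ {z})).toSubmonoid := hg
    rw [Subgroup.closure_toSubmonoid_of_finite] at hg'
    have hle : Submonoid.closure ((({y, w} : Set G) ∪ {x}) ∪ {z}) ≤ M := by
      rw [Submonoid.closure_le]
      rintro g (((hg | hg) | hg) | hg)
      · rw [show g = y from hg]
        exact ⟨1, 0, 0, 0, by simp [mono]⟩
      · rw [show g = w from hg]
        exact ⟨0, 0, 1, 0, by simp [mono]⟩
      · rw [show g = x from hg]
        refine ⟨0, 0, 0, p - 1, ?_⟩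
        have : x⁻¹ ^ (p - 1) * x⁻¹ = 1 := by
          rw [← pow_succ, Nat.sub_add_cancel hp.one_le, hxip]
        simp only [mono, pow_zero, one_mul]
        exact (eq_inv_of_mul_eq_one_left this).trans (inv_inv _) |>.symm
      · rw [show g = z from hg]
        exact ⟨0, 1, 0, 0, by simp [mono]⟩
    exact hle hg'
  -- number theory: `z ^ (p s) w ^ (c s) = 1 ⟹ z ^ s ∈ N`
  have hNT : ∀ s c : ℕ, (p ∣ c ∨ 1 ≤ m) → z ^ (p * s) * w ^ (c * s) = 1 → z ^ s ∈ N := by
    intro s c hc h1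
    rw [hw, ← pow_mul, ← pow_add] at h1
    have hd := orderOf_dvd_of_pow_eq_one h1
    rw [hzo] at hd
    obtain ⟨u, hu⟩ : p ∣ k * p ^ m * c := by
      rcases hc with hc | hc
      · exact Dvd.dvd.mul_left hc _
      · exact Dvd.dvd.mul_right (Dvd.dvd.mul_left (dvd_pow_self p (by omega)) _) _
    have e : p * s + k * p ^ (m + 1) * (c * s) = p * s * (1 + p * u) := by
      rw [← hu, pow_succ]; ring
    rw [e] at hd
    have hcop : Nat.Coprime (p ^ (m + 2)) (1 + p * u) := by
      apply Nat.Coprime.pow_left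
      rw [Nat.Prime.coprime_iff_not_dvd hp]
      intro hdv
      have : p ∣ 1 := (Nat.dvd_add_left (Dvd.intro u rfl)).1 hdv
      exact hp.one_lt.ne' (Nat.dvd_one.1 this)
    have hd2 : p ^ (m + 2) ∣ p * s := hcop.dvd_of_dvd_mul_right hd
    rw [pow_succ, mul_comm] at hd2
    obtain ⟨s', hs'⟩ := Nat.dvd_of_mul_dvd_mul_left hp.pos hd2
    rw [hs', pow_mul]
    exact N.pow_mem hzN s'
  have hmonoN : ∀ r s t : ℕ, z ^ s ∈ N → mono y z w r s t ∈ N := by
    intro r s t hs
    exact N.mul_mem (N.mul_mem (N.pow_mem hy r) hs) (N.pow_mem hwN t)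
  have hpc2 : p ∣ p.choose 2 :=
    hp.dvd_choose_self (by norm_num) (lt_of_le_of_ne hp.two_le (Ne.symm hp2))
  intro g hg
  obtain ⟨r, s, t, i, hgeq⟩ := hall g
  by_cases hpi : p ∣ i
  · obtain ⟨i', rfl⟩ := hpi
    have hxi : x⁻¹ ^ (p * i') = 1 := by rw [pow_mul, hxip, one_pow]
    rw [hxi, mul_one] at hgeq
    rw [hgeq, mono_pow hyz hyw hzw] at hg
    have hzs : z ^ s ∈ N := by
      apply hNT s 0 (Or.inl (dvd_zero p))
      simp only [mono] at hg
      rw [pow_mul, hyp, one_pow, one_mul, pow_mul w, hwp, one_pow, mul_one] at hg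
      rw [hg, zero_mul, pow_zero, mul_one]
    rw [hgeq]
    exact Subgroup.mem_sup_left (hmonoN r s t hzs)
  · have hcop : Nat.Coprime i p := ((Nat.Prime.coprime_iff_not_dvd hp).2 hpi).symm
    obtain ⟨j, -, hj⟩ := Nat.exists_mul_mod_eq_one_of_coprime hcop hp.one_lt
    obtain ⟨r', s', t', hgj⟩ := nf_pow hyz hyw hzw hxw hzx hyx' r s t i j
    rw [← hgeq] at hgj
    have hxij : x⁻¹ ^ (i * j) = x⁻¹ := by
      conv_lhs => rw [← Nat.div_add_mod (i * j) p, hj, pow_add, pow_mul, hxip, one_pow, one_mul,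
        pow_one]
    rw [hxij] at hgj
    have hgjp : (mono y z w r' s' t' * x⁻¹) ^ p = 1 := by
      rw [← hgj, ← pow_mul, mul_comm, pow_mul, hg, one_pow]
    rw [mono_conj_pow hyz hyw hzw hxw hzx hyx', hxip, mul_one] at hgjp
    have hcond : p ∣ p.choose 3 ∨ 1 ≤ m := by
      by_cases h3 : p = 3
      · right
        by_contra hm
        exact hex ⟨h3, by omega⟩
      · left
        apply hp.dvd_choose_self (by norm_num)
        have := hp.two_le
        omega
    have hzs : z ^ s' ∈ N := by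
      apply hNT s' (p.choose 3) hcond
      obtain ⟨c2, hc2⟩ := hpc2
      simp only [mono] at hgjp
      have e1 : y ^ (p * r' + p.choose 2 * s') = 1 := by
        rw [hc2, show p * r' + p * c2 * s' = p * (r' + c2 * s') by ring, pow_mul, hyp, one_pow]
      have e2 : w ^ (p * t' + p.choose 2 * r' + p.choose 3 * s') = w ^ (p.choose 3 * s') := by
        rw [hc2, show p * t' + p * c2 * r' + p.choose 3 * s' = p * (t' + c2 * r') + p.choose 3 * s' by ring,
          pow_add, pow_mul, hwp, one_pow, one_mul]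
      rw [e1, e2, one_mul] at hgjp
      exact hgjp
    have hgjE : g ^ j ∈ N ⊔ Subgroup.zpowers x := by
      rw [hgj]
      exact Subgroup.mul_mem _ (Subgroup.mem_sup_left (hmonoN r' s' t' hzs))
        (Subgroup.mem_sup_right (Subgroup.inv_mem _ (Subgroup.mem_zpowers x)))
    have hgi : g = (g ^ j) ^ i := by
      rw [← pow_mul, mul_comm j i, ← Nat.div_add_mod (i * j) p, hj, pow_add, pow_mul, hg, one_pow,
        one_mul, pow_one]
    rw [hgi]
    exact Subgroup.pow_mem _ hgjE i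

end Cfsg.Agent.Lib.H18.R2
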