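import Mathlib

/-!
# S1951, arithmetic endgame (generic form)

Indices `i ∈ s` (the characters of the principal block), `i₀` the trivial one, `d i = χ(a) ∈ ℤ`,
`f i = χ(1)`, `t = p ^ n = |P|`.  From
* `d i₀ = f i₀ = 1`,
* `f i = d i + m t`, `m ≥ 1`, for `i ≠ i₀`,
* `∑ d² = t`, `∑ d f = 0`,
* `t (p - 2) / (p - 1) ≤ ∑ d³ / f`
a contradiction follows when `p` is an odd prime.
-/

set_option autoImplicit false

namespace Cfsg.Agent.Lib.H18.ZP

open Finset

/-- Termwise bound: `d ≥ 1`, `d² + 1 ≤ t`, `f ≥ d + t` give `d³ / f ≤ d² / 3`. -/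
theorem term_le {d f t : ℤ} (hd : 1 ≤ d) (ht : d ^ 2 + 1 ≤ t) (hf : d + t ≤ f) :
    ((d : ℚ) ^ 3) / f ≤ (d : ℚ) ^ 2 / 3 := by
  have hfpos : (0 : ℤ) < f := by nlinarith
  have hfq : (0 : ℚ) < f := by exact_mod_cast hfpos
  rw [div_le_div_iff₀ hfq (by norm_num : (0 : ℚ) < 3)]
  have h3 : 3 * d ≤ f := by nlinarith [sq_nonneg (d - 1)]
  have h3q : (3 : ℚ) * d ≤ f := by exact_mod_cast h3
  have hdq : (0 : ℚ) ≤ (d : ℚ) ^ 2 := by positivity
  nlinarith

/-- Nonpositive `d` gives a nonpositive term. -/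
theorem term_nonpos {d f : ℤ} (hd : d ≤ 0) (hf : 0 < f) : ((d : ℚ) ^ 3) / f ≤ 0 := by
  have hfq : (0 : ℚ) < f := by exact_mod_cast hf
  have hdq : (d : ℚ) ≤ 0 := by exact_mod_cast hd
  have : (d : ℚ) ^ 3 ≤ 0 := by
    have h2 : (0 : ℚ) ≤ (d : ℚ) ^ 2 := by positivity
    nlinarith
  exact div_nonpos_of_nonpos_of_nonneg this hfq.le

/-- The arithmetic endgame of S1951 in generic form. -/
theorem arith_false {ι : Type*} [DecidableEq ι] (s : Finset ι) (i₀ : ι) (hi₀ : i₀ ∈ s)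
    (d f : ι → ℤ) (p n : ℕ) (hp : p.Prime) (hp2 : p ≠ 2) (hn : 1 ≤ n)
    (h1 : d i₀ = 1) (h1f : f i₀ = 1)
    (hf : ∀ i ∈ s, i ≠ i₀ → ∃ m : ℤ, 1 ≤ m ∧ f i = d i + m * (p : ℤ) ^ n)
    (hsq : ∑ i ∈ s, d i ^ 2 = (p : ℤ) ^ n)
    (hzero : ∑ i ∈ s, d i * f i = 0)
    (hlow : ((p : ℚ) ^ n) * ((p : ℚ) - 2) / ((p : ℚ) - 1) ≤ ∑ i ∈ s, ((d i : ℚ) ^ 3) / (f i : ℚ)) :
    False := by
  set t : ℤ := (p : ℤ) ^ n with ht
  have hp3 : 3 ≤ p := by
    have := hp.two_le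
    omega
  have hpt : (p : ℤ) ≤ t := by
    rw [ht]
    calc (p : ℤ) = (p : ℤ) ^ 1 := (pow_one _).symm
      _ ≤ (p : ℤ) ^ n := pow_le_pow_right₀ (by exact_mod_cast hp.one_le) hn
  -- split off the trivial index
  have hsplit : ∀ g : ι → ℤ, ∑ i ∈ s, g i = g i₀ + ∑ i ∈ s.erase i₀, g i := fun g =>
    (Finset.add_sum_erase s g hi₀).symm
  have hsplitq : ∀ g : ι → ℚ, ∑ i ∈ s, g i = g i₀ + ∑ i ∈ s.erase i₀, g i := fun g =>
    (Finset.add_sum_erase s g hi₀).symm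
  have hsq' : ∑ i ∈ s.erase i₀, d i ^ 2 = t - 1 := by
    have := hsplit (fun i => d i ^ 2)
    simp only [h1] at this
    rw [hsq] at this
    linarith
  have hdle : ∀ i ∈ s.erase i₀, d i ^ 2 ≤ t - 1 := by
    intro i hi
    rw [← hsq']
    exact Finset.single_le_sum (f := fun i => d i ^ 2) (fun j _ => sq_nonneg (d j)) hi
  have hfge : ∀ i ∈ s.erase i₀, d i + t ≤ f i := by
    intro i hi
    obtain ⟨m, hm, hfm⟩ := hf i (Finset.mem_of_mem_erase hi) (Finset.ne_of_mem_erase hi)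
    rw [hfm]
    have ht0 : 0 ≤ t := by positivity
    nlinarith
  have hfpos : ∀ i ∈ s.erase i₀, 0 < f i := by
    intro i hi
    have h1 := hfge i hi
    have h2 := hdle i hi
    nlinarith [sq_nonneg (d i + 1), sq_nonneg (d i)]
  -- termwise bound
  have hterm : ∀ i ∈ s.erase i₀, ((d i : ℚ) ^ 3) / (f i : ℚ) ≤ (d i : ℚ) ^ 2 / 3 := by
    intro i hi
    rcases le_or_gt (d i) 0 with hd | hd
    · refine (term_nonpos hd (hfpos i hi)).trans ?_
      positivity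
    · exact term_le hd (by have := hdle i hi; linarith) (hfge i hi)
  have hsumle : ∑ i ∈ s, ((d i : ℚ) ^ 3) / (f i : ℚ) ≤ 1 + ((t : ℚ) - 1) / 3 := by
    rw [hsplitq]
    simp only [h1, h1f]
    have : ∑ i ∈ s.erase i₀, ((d i : ℚ) ^ 3) / (f i : ℚ) ≤ ∑ i ∈ s.erase i₀, (d i : ℚ) ^ 2 / 3 :=
      Finset.sum_le_sum hterm
    have h2 : ∑ i ∈ s.erase i₀, (d i : ℚ) ^ 2 / 3 = ((t : ℚ) - 1) / 3 := by
      rw [← Finset.sum_div]
      congr 1
      have := congrArg (fun z : ℤ => (z : ℚ)) hsq'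
      simp only [Int.cast_sum, Int.cast_pow, Int.cast_sub, Int.cast_one] at this
      exact this
    rw [h2] at this
    norm_num
    linarith
  -- numeric consequence: p = 3 and t = 3
  have hpq : (3 : ℚ) ≤ (p : ℚ) := by exact_mod_cast hp3
  have htq : ((p : ℚ) ^ n) = (t : ℚ) := by
    rw [ht]; push_cast; rfl
  rw [htq] at hlow
  have hineq : (t : ℚ) * ((p : ℚ) - 2) / ((p : ℚ) - 1) ≤ 1 + ((t : ℚ) - 1) / 3 := hlow.trans hsumle
  have hp1 : (0 : ℚ) < (p : ℚ) - 1 := by linarith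
  rw [div_le_iff₀ hp1] at hineq
  have hptq : (p : ℚ) ≤ (t : ℚ) := by exact_mod_cast hpt
  have hp_eq : p = 3 := by
    by_contra hne
    have hp4 : 4 ≤ p := by omega
    have hp4q : (4 : ℚ) ≤ (p : ℚ) := by exact_mod_cast hp4
    nlinarith
  subst hp_eq
  have ht_le : t ≤ 4 := by
    have : (t : ℚ) ≤ 4 := by
      norm_num at hineq
      linarith
    exact_mod_cast this
  have hn1 : n = 1 := by
    by_contra hne
    have hn2 : 2 ≤ n := by omega
    have : (3 : ℤ) ^ 2 ≤ (3 : ℤ) ^ n := pow_le_pow_right₀ (by norm_num) hn2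
    have ht3 : t = (3 : ℤ) ^ n := by rw [ht]; norm_num
    rw [ht3] at ht_le
    linarith
  have ht3 : t = 3 := by rw [ht, hn1]; norm_num
  -- endgame t = 3
  have hlow2 : (1 : ℚ) / 2 ≤ ∑ i ∈ s.erase i₀, ((d i : ℚ) ^ 3) / (f i : ℚ) := by
    have h := hlow
    rw [hsplitq] at h
    simp only [h1, h1f] at h
    rw [ht3] at h
    norm_num at h
    linarith
  have hsq3 : ∑ i ∈ s.erase i₀, d i ^ 2 = 2 := by rw [hsq', ht3]; norm_num
  have hterm4 : ∀ i ∈ s.erase i₀, ((d i : ℚ) ^ 3) / (f i : ℚ) ≤ (d i : ℚ) ^ 2 / 4 := by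
    intro i hi
    have hfp := hfpos i hi
    have hfq : (0 : ℚ) < f i := by exact_mod_cast hfp
    have hge := hfge i hi
    rw [ht3] at hge
    have hdl := hdle i hi
    rw [ht3] at hdl
    rcases le_or_gt (d i) 0 with hd | hd
    · refine (term_nonpos hd hfp).trans ?_
      positivity
    · have hd1 : d i = 1 := by nlinarith
      rw [hd1]
      rw [hd1] at hge
      have : (4 : ℚ) ≤ f i := by exact_mod_cast (by linarith : (4 : ℤ) ≤ f i)
      rw [div_le_div_iff₀ hfq (by norm_num)]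
      push_cast
      linarith
  have hsum4 : ∑ i ∈ s.erase i₀, (d i : ℚ) ^ 2 / 4 = 1 / 2 := by
    rw [← Finset.sum_div]
    have := congrArg (fun z : ℤ => (z : ℚ)) hsq3
    simp only [Int.cast_sum, Int.cast_pow] at this
    rw [this]
    norm_num
  have heq : ∀ i ∈ s.erase i₀, ((d i : ℚ) ^ 3) / (f i : ℚ) = (d i : ℚ) ^ 2 / 4 := by
    have hle := Finset.sum_le_sum hterm4
    have hsumeq : ∑ i ∈ s.erase i₀, ((d i : ℚ) ^ 3) / (f i : ℚ) = ∑ i ∈ s.erase i₀, (d i : ℚ) ^ 2 / 4 := by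
      rw [hsum4] at hle ⊢
      linarith
    exact (Finset.sum_eq_sum_iff_of_le hterm4).1 hsumeq
  have hdf : ∀ i ∈ s.erase i₀, d i * f i = 4 * d i ^ 2 := by
    intro i hi
    have hfp := hfpos i hi
    have hfq : (0 : ℚ) < f i := by exact_mod_cast hfp
    have h := heq i hi
    rw [div_eq_div_iff hfq.ne' (by norm_num)] at h
    have hdl := hdle i hi
    rw [ht3] at hdl
    have hcases : d i = 0 ∨ d i = 1 ∨ d i = -1 := by
      have h1 : d i ≤ 1 := by nlinarith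
      have h2 : -1 ≤ d i := by nlinarith
      omega
    rcases hcases with h0 | h0 | h0
    · rw [h0]; ring
    · rw [h0] at h ⊢
      have : (f i : ℚ) = 4 := by push_cast at h; linarith
      have : f i = 4 := by exact_mod_cast this
      rw [this]; norm_num
    · rw [h0] at h
      push_cast at h
      exfalso
      linarith
  have hfinal : ∑ i ∈ s, d i * f i = 9 := by
    rw [hsplit]
    rw [Finset.sum_congr rfl hdf, ← Finset.mul_sum, hsq3, h1, h1f]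
    norm_num
  rw [hzero] at hfinal
  norm_num at hfinal

end Cfsg.Agent.Lib.H18.ZP
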