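import Mathlib

/-!
helper18: pure pieces for S1950 (helper12's rank-one rigidity proof).

* `RG.rank_one_rigid`: if a nonnegative combination of rank-one Hermitian forms
  `∑ w i * v i a * conj (v i c)` equals a rank-one form `κ * h a * conj (h c)`, then every `v i`
  with `0 < w i` is proportional to `h`.
* `RG.period_not_const`: Gauss periods `a ↦ ∑ t ∈ E, ψ (t * k * a)` of a set `E` of `e` nonzero residues
  (`1 ≤ e`, `e + 1 < p`) are not constant on the nonzero residues (`ψ` a primitive additive character).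
-/

set_option autoImplicit false

namespace Cfsg.Agent.Lib.H18.RG

open scoped ComplexConjugate
open Finset

/-- Rank-one rigidity. -/
theorem rank_one_rigid {ι A : Type*} [Fintype ι] (w : ι → ℝ) (hw : ∀ i, 0 ≤ w i)
    (v : ι → A → ℂ) (h : A → ℂ) (κ : ℂ)
    (hM : ∀ a c, ∑ i, (w i : ℂ) * v i a * conj (v i c) = κ * h a * conj (h c)) :
    ∀ i, 0 < w i → ∀ a c, v i a * h c = v i c * h a := by
  intro i₀ hi₀ a c
  -- the weighted sum of squared norms vanishes
  have hsum : ∑ i, (w i : ℂ) * ((v i a * h c - v i c * h a) * conj (v i a * h c - v i c * h a)) = 0 := by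
    have hexp : ∀ i, (w i : ℂ) * ((v i a * h c - v i c * h a) * conj (v i a * h c - v i c * h a)) =
        (h c * conj (h c)) * ((w i : ℂ) * v i a * conj (v i a))
        + (h a * conj (h a)) * ((w i : ℂ) * v i c * conj (v i c))
        - (h c * conj (h a)) * ((w i : ℂ) * v i a * conj (v i c))
        - (h a * conj (h c)) * ((w i : ℂ) * v i c * conj (v i a)) := by
      intro i
      simp only [map_sub, map_mul]
      ring
    simp_rw [hexp]
    rw [Finset.sum_sub_distrib, Finset.sum_sub_distrib, Finset.sum_add_distrib]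
    simp_rw [← Finset.mul_sum]
    rw [hM a a, hM c c, hM a c, hM c a]
    ring
  -- pass to real numbers
  have hreal : ∀ i, (w i : ℂ) * ((v i a * h c - v i c * h a) * conj (v i a * h c - v i c * h a)) =
      ((w i * Complex.normSq (v i a * h c - v i c * h a) : ℝ) : ℂ) := by
    intro i
    rw [Complex.mul_conj]
    push_cast
    ring
  simp_rw [hreal] at hsum
  rw [← Complex.ofReal_sum] at hsum
  have hsum' : ∑ i, w i * Complex.normSq (v i a * h c - v i c * h a) = 0 := by
    exact_mod_cast hsum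
  have hnonneg : ∀ i ∈ (Finset.univ : Finset ι),
      0 ≤ w i * Complex.normSq (v i a * h c - v i c * h a) :=
    fun i _ => mul_nonneg (hw i) (Complex.normSq_nonneg _)
  have hzero := (Finset.sum_eq_zero_iff_of_nonneg hnonneg).mp hsum' i₀ (Finset.mem_univ _)
  have hn : Complex.normSq (v i₀ a * h c - v i₀ c * h a) = 0 := by
    rcases mul_eq_zero.mp hzero with h0 | h0
    · exact absurd h0 (ne_of_gt hi₀)
    · exact h0
  have := Complex.normSq_eq_zero.mp hn
  exact sub_eq_zero.mp this

/-- Gauss periods are not constant: for a primitive additive character `ψ` of `ZMod p`, a set `E` of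
`e` nonzero residues with `1 ≤ e` and `e + 1 < p`, and `k ≠ 0`, the function
`a ↦ ∑ t ∈ E, ψ (t * k * a)` is not constant on the nonzero residues. -/
theorem period_not_const {p : ℕ} [Fact p.Prime] (ψ : AddChar (ZMod p) ℂ) (hψ : ψ.IsPrimitive)
    (E : Finset (ZMod p)) (hE0 : (0 : ZMod p) ∉ E) (he1 : 1 ≤ E.card) (he : E.card + 1 < p)
    (k : ZMod p) (hk : k ≠ 0) (η₀ : ℂ)
    (hconst : ∀ a : ZMod p, a ≠ 0 → ∑ t ∈ E, ψ (t * k * a) = η₀) : False := by
  classical
  have hp : Nat.Prime p := Fact.out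
  -- basic sum: for m ≠ 0, ∑_{a ≠ 0} ψ (m * a) = -1, and for m = 0 it is p - 1
  have hbasic : ∀ m : ZMod p, m ≠ 0 →
      ∑ a ∈ Finset.univ.erase (0 : ZMod p), ψ (m * a) = -1 := by
    intro m hm
    have h1 : ∑ a : ZMod p, ψ (a * m) = 0 := by
      rw [AddChar.sum_mulShift m hψ]; simp [hm]
    rw [Finset.sum_erase_eq_sub (Finset.mem_univ _)]
    simp_rw [mul_comm m]
    rw [h1]; simp
  have hcardE : (Finset.univ.erase (0 : ZMod p)).card = p - 1 := by
    rw [Finset.card_erase_of_mem (Finset.mem_univ _), Finset.card_univ, ZMod.card]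
  have hbasic0 : ∑ a ∈ Finset.univ.erase (0 : ZMod p), ψ ((0 : ZMod p) * a) = ((p : ℂ) - 1) := by
    simp only [zero_mul, AddChar.map_zero_eq_one, Finset.sum_const, hcardE, nsmul_eq_mul, mul_one]
    rw [Nat.cast_sub hp.one_le]; simp
  have hne : ∀ a ∈ Finset.univ.erase (0 : ZMod p), a ≠ 0 := fun a ha => (Finset.mem_erase.mp ha).1
  -- first moment
  have hS1 : ((p : ℂ) - 1) * η₀ = -(E.card : ℂ) := by
    have h1 : ∑ a ∈ Finset.univ.erase (0 : ZMod p), ∑ t ∈ E, ψ (t * k * a) =
        ∑ a ∈ Finset.univ.erase (0 : ZMod p), η₀ :=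
      Finset.sum_congr rfl (fun a ha => hconst a (hne a ha))
    rw [Finset.sum_comm] at h1
    have h2 : ∀ t ∈ E, ∑ a ∈ Finset.univ.erase (0 : ZMod p), ψ (t * k * a) = -1 := by
      intro t ht
      apply hbasic
      have ht0 : t ≠ 0 := fun h => hE0 (h ▸ ht)
      exact mul_ne_zero ht0 hk
    rw [Finset.sum_congr rfl h2] at h1
    simp only [Finset.sum_const, hcardE, nsmul_eq_mul, mul_neg, mul_one] at h1
    rw [Nat.cast_sub hp.one_le] at h1
    simp only [Nat.cast_one] at h1
    exact h1.symm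
  -- second moment
  have hS2 : ((p : ℂ) - 1) * (η₀ * conj η₀) = (E.card : ℂ) * ((p : ℂ) - E.card) := by
    have h1 : ∑ a ∈ Finset.univ.erase (0 : ZMod p),
        (∑ t ∈ E, ψ (t * k * a)) * conj (∑ t' ∈ E, ψ (t' * k * a)) =
        ∑ a ∈ Finset.univ.erase (0 : ZMod p), η₀ * conj η₀ :=
      Finset.sum_congr rfl (fun a ha => by rw [hconst a (hne a ha)])
    have h3 : ∀ a : ZMod p, (∑ t ∈ E, ψ (t * k * a)) * conj (∑ t' ∈ E, ψ (t' * k * a)) =
        ∑ t ∈ E, ∑ t' ∈ E, ψ ((t - t') * k * a) := by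
      intro a
      rw [map_sum, Finset.sum_mul_sum]
      refine Finset.sum_congr rfl (fun t _ => Finset.sum_congr rfl (fun t' _ => ?_))
      rw [← AddChar.map_neg_eq_conj, ← AddChar.map_add_eq_mul]
      congr 1; ring
    simp_rw [h3] at h1
    rw [Finset.sum_comm] at h1
    have h4 : ∀ t ∈ E, ∑ a ∈ Finset.univ.erase (0 : ZMod p), ∑ t' ∈ E, ψ ((t - t') * k * a) =
        (p : ℂ) - E.card := by
      intro t ht
      rw [Finset.sum_comm]
      have h5 : ∀ t' ∈ E, ∑ a ∈ Finset.univ.erase (0 : ZMod p), ψ ((t - t') * k * a) =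
          (if t = t' then (p : ℂ) else 0) - 1 := by
        intro t' _
        by_cases htt : t = t'
        · subst htt
          rw [if_pos rfl]
          have : ∀ a : ZMod p, (t - t) * k * a = 0 * a := by intro a; ring
          simp_rw [this]
          exact hbasic0
        · rw [if_neg htt]
          rw [hbasic _ (mul_ne_zero (sub_ne_zero.mpr htt) hk)]; ring
      rw [Finset.sum_congr rfl h5, Finset.sum_sub_distrib, Finset.sum_ite_eq E t]
      simp [ht]
    rw [Finset.sum_congr rfl h4] at h1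
    simp only [Finset.sum_const, hcardE, nsmul_eq_mul] at h1
    rw [Nat.cast_sub hp.one_le] at h1
    simp only [Nat.cast_one] at h1
    exact h1.symm
  -- combine: η₀ = -e/(p-1)
  have hp1 : ((p : ℂ) - 1) ≠ 0 := by
    intro h
    have h' : (p : ℂ) = 1 := by linear_combination h
    have : (p : ℕ) = 1 := by exact_mod_cast h'
    exact hp.one_lt.ne' this
  have hη : η₀ = -(E.card : ℂ) / ((p : ℂ) - 1) := by
    field_simp
    linear_combination hS1
  have hconjη : conj η₀ = η₀ := by
    rw [hη]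
    simp [map_div₀, map_neg, map_sub]
  rw [hconjη, hη] at hS2
  -- now a real/natural number identity: e^2 = e (p - e) (p - 1)
  have hnat : (E.card : ℂ) * E.card = (E.card : ℂ) * ((p : ℂ) - E.card) * ((p : ℂ) - 1) := by
    field_simp at hS2
    linear_combination hS2
  have he0 : (E.card : ℂ) ≠ 0 := by
    have : E.card ≠ 0 := by omega
    exact_mod_cast this
  have hnat2 : (E.card : ℂ) = ((p : ℂ) - E.card) * ((p : ℂ) - 1) := by
    have := mul_left_cancel₀ he0 (by linear_combination hnat :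
      (E.card : ℂ) * E.card = (E.card : ℂ) * (((p : ℂ) - E.card) * ((p : ℂ) - 1)))
    exact this
  have hnat3 : (E.card : ℤ) = ((p : ℤ) - E.card) * ((p : ℤ) - 1) := by
    exact_mod_cast hnat2
  have h2 : (2 : ℤ) ≤ (p : ℤ) - E.card := by omega
  have h3 : (E.card : ℤ) + 1 ≤ (p : ℤ) - 1 := by omega
  nlinarith

end Cfsg.Agent.Lib.H18.RG
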