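import Mathlib
import Cfsg.Agent.Lib.H12.CYDefs
import Cfsg.Agent.Lib.H15.CYFOUR
import Cfsg.Agent.Lib.H18.S1950RG

/-!
# S1950 piece END1' (`end1'`), EXACT statement of `tools/blueprints/S1950_final_forms_h12.lean` (helper18)

Pure: `H15.CY.four_identity` + `H18.RG.rank_one_rigid` + `H18.RG.period_not_const`.
-/

set_option autoImplicit false
set_option linter.unnecessarySimpa false

namespace Cfsg.Agent.Lib.H18.CY

open Cfsg.Agent.Lib.H12.CY
open scoped ComplexConjugate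

variable {p : ℕ} [Fact p.Prime]

/-- END1' (PURE).  `2 ≤ e < p - 1` is impossible. -/
theorem end1' {ι : Type*} (s : Finset ι) (ψ : AddChar (ZMod p) ℂ) (hψ : ψ.IsPrimitive) (E : Finset (ZMod p))
    (hE0 : (0 : ZMod p) ∉ E) (hE1 : (1 : ZMod p) ∈ E)
    (hmul : ∀ x ∈ E, ∀ y ∈ E, x * y ∈ E) (hinv : ∀ x ∈ E, x⁻¹ ∈ E)
    (he2 : 2 ≤ E.card) (hep : E.card < p - 1)
    (f : ι → ZMod p → ℂ) (q : ℕ) (i₀ : ι) (hi₀s : i₀ ∈ s) (hi₀ : ∀ a, f i₀ a = 1)
    (hd : ∀ i ∈ s, ∃ d : ℕ, 0 < d ∧ f i 0 = (d : ℂ))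
    (hμ : ∀ i ∈ s, ∀ k : ZMod p, ∃ m : ℕ, ∑ b : ZMod p, f i b * ψ (-(k * b)) = (p : ℂ) * (m : ℂ))
    (hker : ∀ i ∈ s, i ≠ i₀ → f i 1 ≠ f i 0)
    (hO : ∀ a c : ZMod p, a ≠ 0 → c ≠ 0 → ∀ [Decidable (∃ t ∈ E, a = c * t)],
      ∑ i ∈ s, f i a * conj (f i c) = if (∃ t ∈ E, a = c * t) then (q : ℂ) else 0)
    (hstar : ∀ a b c : ZMod p, a ≠ 0 → b ≠ 0 → c ≠ 0 →
      ∀ [DecidablePred (fun j : ZMod p => ∃ t ∈ E, j * a + b = c * t)],
      ∑ i ∈ s, f i a * f i b * conj (f i c) / f i 0 =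
        ((q : ℂ) / (E.card : ℂ)) * ((E.filter (fun j => ∃ t ∈ E, j * a + b = c * t)).card : ℂ)) : False := by
  classical
  have hp : p.Prime := Fact.out
  have : Fact (1 < p) := ⟨hp.one_lt⟩
  have h10 : (1 : ZMod p) ≠ 0 := one_ne_zero
  have hecard : (E.card : ℂ) ≠ 0 := by
    have : E.card ≠ 0 := by omega
    exact_mod_cast this
  have hd' : ∀ i ∈ s, f i 0 ≠ 0 := by
    intro i hi
    obtain ⟨d, hdpos, hd0⟩ := hd i hi
    rw [hd0]
    exact_mod_cast hdpos.ne'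
  have four := Cfsg.Agent.Lib.H15.CY.four_identity s ψ E hE0 hE1 hmul hinv f (fun i => f i 0) hd'
    (q : ℂ) hO hstar
  -- the bracket
  set B : ι → ZMod p → ℂ := fun i k => (∑ b : ZMod p, f i b * ψ (-(k * b))) / f i 0 with hB
  have hbr : ∀ (i : ι) (k : ZMod p),
      f i 0 + ∑ b ∈ (Finset.univ : Finset (ZMod p)).erase 0, f i b * ψ (-(k * b)) =
        ∑ b : ZMod p, f i b * ψ (-(k * b)) := by
    intro i k
    have := Finset.add_sum_erase (Finset.univ : Finset (ZMod p)) (fun b => f i b * ψ (-(k * b)))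
      (Finset.mem_univ 0)
    simpa using this
  have four' : ∀ k a c : ZMod p, a ≠ 0 → c ≠ 0 →
      ∑ i ∈ s, B i k * (f i a * conj (f i c)) =
        ((q : ℂ) / (E.card : ℂ)) * (∑ t ∈ E, ψ (t * k * a)) * conj (∑ t ∈ E, ψ (t * k * c)) := by
    intro k a c ha hc
    have h1 := four k a c ha hc
    simp only [hbr] at h1
    exact h1
  have hBreal : ∀ i ∈ s, ∀ k : ZMod p, ∃ r : ℝ, 0 ≤ r ∧ B i k = (r : ℂ) := by
    intro i hi k
    obtain ⟨d, hdpos, hd0⟩ := hd i hi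
    obtain ⟨m, hm⟩ := hμ i hi k
    refine ⟨(p : ℝ) * m / d, by positivity, ?_⟩
    simp only [hB]
    rw [hm, hd0]
    push_cast
    rfl
  have hBre : ∀ i ∈ s, ∀ k : ZMod p, ((B i k).re : ℂ) = B i k := by
    intro i hi k
    obtain ⟨r, _, hr⟩ := hBreal i hi k
    rw [hr, Complex.ofReal_re]
  have hBnonneg : ∀ i ∈ s, ∀ k : ZMod p, 0 ≤ (B i k).re := by
    intro i hi k
    obtain ⟨r, hr0, hr⟩ := hBreal i hi k
    rw [hr, Complex.ofReal_re]
    exact hr0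
  -- rank-one rigidity
  have rig : ∀ k : ZMod p, ∀ i ∈ s, 0 < (B i k).re → ∀ a c : ZMod p, a ≠ 0 → c ≠ 0 →
      f i a * (∑ t ∈ E, ψ (t * k * c)) = f i c * (∑ t ∈ E, ψ (t * k * a)) := by
    intro k i hi hpos a c ha hc
    have hM : ∀ x y : {a : ZMod p // a ≠ 0},
        ∑ j : ↥s, ((B j.1 k).re : ℂ) * f j.1 x.1 * conj (f j.1 y.1) =
          ((q : ℂ) / (E.card : ℂ)) * (∑ t ∈ E, ψ (t * k * x.1)) * conj (∑ t ∈ E, ψ (t * k * y.1)) := by
      intro x y
      rw [← four' k x.1 y.1 x.2 y.2]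
      rw [Finset.sum_coe_sort s (fun j => ((B j k).re : ℂ) * f j x.1 * conj (f j y.1))]
      refine Finset.sum_congr rfl (fun j hj => ?_)
      rw [hBre j hj k, mul_assoc]
    exact Cfsg.Agent.Lib.H18.RG.rank_one_rigid (ι := ↥s) (A := {a : ZMod p // a ≠ 0})
      (fun j => (B j.1 k).re) (fun j => hBnonneg j.1 j.2 k) (fun j x => f j.1 x.1)
      (fun x => ∑ t ∈ E, ψ (t * k * x.1)) ((q : ℂ) / (E.card : ℂ)) hM ⟨i, hi⟩ hpos ⟨a, ha⟩ ⟨c, hc⟩
  -- k = 0: constant on the nonzero residues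
  have heta0 : ∀ a : ZMod p, ∑ t ∈ E, ψ (t * 0 * a) = (E.card : ℂ) := by
    intro a
    simp
  have step2 : ∀ i ∈ s, 0 < (B i 0).re → ∀ a : ZMod p, a ≠ 0 → f i a = f i 1 := by
    intro i hi hpos a ha
    have h1 := rig 0 i hi hpos a 1 ha h10
    rw [heta0, heta0] at h1
    exact mul_right_cancel₀ hecard h1
  -- k ≠ 0
  have he1 : 1 ≤ E.card := by omega
  have he : E.card + 1 < p := by omega
  have step3 : ∀ i ∈ s, 0 < (B i 0).re → ∀ k : ZMod p, k ≠ 0 → 0 < (B i k).re → f i 1 = 0 := by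
    intro i hi hpos0 k hk hposk
    by_contra hne
    refine Cfsg.Agent.Lib.H18.RG.period_not_const ψ hψ E hE0 he1 he k hk (∑ t ∈ E, ψ (t * k * 1)) ?_
    intro a ha
    have h1 := rig k i hi hposk a 1 ha h10
    rw [step2 i hi hpos0 a ha] at h1
    exact (mul_left_cancel₀ hne h1).symm
  -- the sum of `ψ (-(1 * b))` over nonzero `b`
  have hsum1 : ∑ b ∈ (Finset.univ : Finset (ZMod p)).erase 0, ψ (-(1 * b)) = -1 := by
    have h1 : ∑ b : ZMod p, ψ (b * (-1)) = 0 := by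
      rw [AddChar.sum_mulShift (-1) hψ]
      have : (-1 : ZMod p) ≠ 0 := neg_ne_zero.mpr h10
      simp [this]
    have h2 : ∀ b : ZMod p, ψ (-(1 * b)) = ψ (b * (-1)) := by
      intro b; congr 1; ring
    simp_rw [h2]
    rw [Finset.sum_erase_eq_sub (Finset.mem_univ _), h1]
    simp
  have step4 : ∀ i ∈ s, i ≠ i₀ → 0 < (B i 0).re → f i 1 = 0 := by
    intro i hi hne0 hpos0
    by_contra hne
    have hB1 : (B i 1).re = 0 := by
      rcases (hBnonneg i hi 1).lt_or_eq with hlt | heq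
      · exact absurd (step3 i hi hpos0 1 h10 hlt) hne
      · exact heq.symm
    have hB1' : B i 1 = 0 := by
      rw [← hBre i hi 1, hB1]; simp
    have hsum0 : ∑ b : ZMod p, f i b * ψ (-(1 * b)) = 0 := by
      have : (∑ b : ZMod p, f i b * ψ (-(1 * b))) / f i 0 = 0 := hB1'
      rcases div_eq_zero_iff.mp this with h | h
      · exact h
      · exact absurd h (hd' i hi)
    rw [← hbr i 1] at hsum0
    have h3 : ∑ b ∈ (Finset.univ : Finset (ZMod p)).erase 0, f i b * ψ (-(1 * b)) =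
        f i 1 * ∑ b ∈ (Finset.univ : Finset (ZMod p)).erase 0, ψ (-(1 * b)) := by
      rw [Finset.mul_sum]
      refine Finset.sum_congr rfl (fun b hb => ?_)
      rw [step2 i hi hpos0 b (Finset.mem_erase.mp hb).1]
    rw [h3, hsum1] at hsum0
    have : f i 1 = f i 0 := by linear_combination -hsum0
    exact hker i hi hne0 this
  -- the `k = 0` identity at `a = c = 1`
  have hfin := four' 0 1 1 h10 h10
  rw [heta0] at hfin
  have hterm : ∀ i ∈ s, i ≠ i₀ → B i 0 * (f i 1 * conj (f i 1)) = 0 := by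
    intro i hi hne0
    rcases (hBnonneg i hi 0).lt_or_eq with hlt | heq
    · rw [step4 i hi hne0 hlt]; simp
    · have : B i 0 = 0 := by rw [← hBre i hi 0, ← heq]; simp
      rw [this, zero_mul]
  rw [Finset.sum_eq_single_of_mem i₀ hi₀s (fun i hi hne => hterm i hi hne)] at hfin
  have hB0 : B i₀ 0 = (p : ℂ) := by
    simp only [hB, hi₀]
    simp
  rw [hB0, hi₀] at hfin
  have hconj : conj ((E.card : ℂ)) = (E.card : ℂ) := Complex.conj_natCast _
  rw [hconj] at hfin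
  have hnat : (p : ℂ) = (q : ℂ) * (E.card : ℂ) := by
    have h1 : (p : ℂ) = (q : ℂ) / (E.card : ℂ) * (E.card : ℂ) * (E.card : ℂ) := by
      simpa using hfin
    rw [h1]
    field_simp
  have hnat' : p = q * E.card := by exact_mod_cast hnat
  have hdvd : E.card ∣ p := Dvd.intro_left q hnat'.symm
  rcases (Nat.dvd_prime hp).mp hdvd with h1 | h1
  · omega
  · omega

end Cfsg.Agent.Lib.H18.CY
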