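import Mathlib
import Cfsg.Agent.Lib.H18.AutAlt

/-!
# Permutation lemmas for the Schur multiplier of the alternating groups (helper18)
-/

set_option autoImplicit false

namespace Cfsg.Agent.Lib.H18.AltStem

open Equiv Equiv.Perm Cfsg.Agent.Lib.H18

variable {α : Type*} [Fintype α] [DecidableEq α]

/-- The double transposition `(p0 p1)(k l)`. -/
def hh (p0 p1 k l : α) : Perm α := swap p0 p1 * swap k l

/-- The product `(k l)(k' l')`. -/
def dd (k l k' l' : α) : Perm α := swap k l * swap k' l'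

variable {p0 p1 i k l k' l' : α}

theorem hh_mem (h01 : p0 ≠ p1) (hkl : k ≠ l) : hh p0 p1 k l ∈ alternatingGroup α := by
  rw [mem_alternatingGroup, hh, Perm.sign_mul, sign_swap h01, sign_swap hkl]
  decide

theorem dd_mem (hkl : k ≠ l) (hkl' : k' ≠ l') : dd k l k' l' ∈ alternatingGroup α := by
  rw [mem_alternatingGroup, dd, Perm.sign_mul, sign_swap hkl, sign_swap hkl']
  decide

theorem hh_apply_p0 (h01 : p0 ≠ p1) (hk0 : k ≠ p0) (hl0 : l ≠ p0) (hk1 : k ≠ p1) (hl1 : l ≠ p1) :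
    hh p0 p1 k l p0 = p1 := by
  rw [hh, Perm.mul_apply, swap_apply_of_ne_of_ne hk0.symm hl0.symm, swap_apply_left]

theorem hh_apply_p1 (h01 : p0 ≠ p1) (hk0 : k ≠ p0) (hl0 : l ≠ p0) (hk1 : k ≠ p1) (hl1 : l ≠ p1) :
    hh p0 p1 k l p1 = p0 := by
  rw [hh, Perm.mul_apply, swap_apply_of_ne_of_ne hk1.symm hl1.symm, swap_apply_right]

theorem hh_apply_of_ne {q : α} (hq0 : q ≠ p0) (hq1 : q ≠ p1) (hqk : q ≠ k) (hql : q ≠ l) :
    hh p0 p1 k l q = q := by
  rw [hh, Perm.mul_apply, swap_apply_of_ne_of_ne hqk hql, swap_apply_of_ne_of_ne hq0 hq1]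

/-- `(p0 p1)(k l)` inverts the 3-cycle `(p0 p1 i)`. -/
theorem hh_conj_c3 (h01 : p0 ≠ p1) (hi0 : i ≠ p0) (hi1 : i ≠ p1) (hk0 : k ≠ p0) (hl0 : l ≠ p0)
    (hk1 : k ≠ p1) (hl1 : l ≠ p1) (hik : i ≠ k) (hil : i ≠ l) :
    hh p0 p1 k l * c3 p0 p1 i * (hh p0 p1 k l)⁻¹ = (c3 p0 p1 i)⁻¹ := by
  rw [conj_c3, hh_apply_p0 h01 hk0 hl0 hk1 hl1, hh_apply_p1 h01 hk0 hl0 hk1 hl1,
    hh_apply_of_ne hi0 hi1 hik hil, c3_inv h01 hi0.symm hi1.symm,
    c3_rotate h01.symm hi1.symm hi0.symm]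

theorem hh_mul_dd : hh p0 p1 k l * dd k l k' l' = hh p0 p1 k' l' := by
  rw [hh, dd, hh, mul_assoc, swap_mul_self_mul]

theorem dd_sq (h1 : k ≠ k') (h2 : k ≠ l') (h3 : l ≠ k') (h4 : l ≠ l') :
    dd k l k' l' * dd k l k' l' = 1 := by
  have hd : Perm.Disjoint (swap k l) (swap k' l') := by
    intro q
    by_cases hq : q = k ∨ q = l
    · right
      rcases hq with rfl | rfl
      · exact swap_apply_of_ne_of_ne h1 h2
      · exact swap_apply_of_ne_of_ne h3 h4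
    · left
      push Not at hq
      exact swap_apply_of_ne_of_ne hq.1 hq.2
  rw [dd, hd.commute.symm.mul_mul_mul_comm, swap_mul_self, swap_mul_self, one_mul]

theorem dd_apply_of_ne {q : α} (hqk : q ≠ k) (hql : q ≠ l) (hqk' : q ≠ k') (hql' : q ≠ l') :
    dd k l k' l' q = q := by
  rw [dd, Perm.mul_apply, swap_apply_of_ne_of_ne hqk' hql', swap_apply_of_ne_of_ne hqk hql]

theorem dd_comm_c3 (h0k : p0 ≠ k) (h0l : p0 ≠ l) (h0k' : p0 ≠ k') (h0l' : p0 ≠ l')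
    (h1k : p1 ≠ k) (h1l : p1 ≠ l) (h1k' : p1 ≠ k') (h1l' : p1 ≠ l')
    (hik : i ≠ k) (hil : i ≠ l) (hik' : i ≠ k') (hil' : i ≠ l') :
    dd k l k' l' * c3 p0 p1 i = c3 p0 p1 i * dd k l k' l' := by
  have h := conj_c3 (dd k l k' l') p0 p1 i
  rw [dd_apply_of_ne h0k h0l h0k' h0l', dd_apply_of_ne h1k h1l h1k' h1l',
    dd_apply_of_ne hik hil hik' hil'] at h
  exact mul_inv_eq_iff_eq_mul.mp h

theorem conj_hh (g : Perm α) (hg0 : g p0 = p0) (hg1 : g p1 = p1) :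
    g * hh p0 p1 k l * g⁻¹ = hh p0 p1 (g k) (g l) := by
  have e1 := swap_apply_apply g p0 p1
  have e2 := swap_apply_apply g k l
  rw [hg0, hg1] at e1
  have e3 : g * (swap p0 p1 * swap k l) * g⁻¹ = (g * swap p0 p1 * g⁻¹) * (g * swap k l * g⁻¹) := by
    group
  rw [hh, hh, e3, ← e1, ← e2]

theorem conj_c3' (g : Perm α) (hg0 : g p0 = p0) (hg1 : g p1 = p1) :
    g * c3 p0 p1 i * g⁻¹ = c3 p0 p1 (g i) := by
  rw [conj_c3, hg0, hg1]

theorem c3_pow_three {a b c : α} (hab : a ≠ b) (hac : a ≠ c) (hbc : b ≠ c) :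
    c3 a b c ^ 3 = 1 := by
  have h := (isThreeCycle_c3 hab hac hbc).orderOf
  rw [← h]
  exact pow_orderOf_eq_one _

/-- Two distinct points outside a small finite set. -/
theorem exists_two_not_mem_finset (S : Finset α) (h : S.card + 2 ≤ Fintype.card α) :
    ∃ a b, a ≠ b ∧ a ∉ S ∧ b ∉ S := by
  have hc : 1 < (Sᶜ).card := by
    rw [Finset.card_compl]
    omega
  obtain ⟨r, hr, s, hs, hrs⟩ := Finset.one_lt_card.mp hc
  exact ⟨r, s, hrs, Finset.mem_compl.mp hr, Finset.mem_compl.mp hs⟩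

/-- One point outside a small finite set. -/
theorem exists_not_mem_finset (S : Finset α) (h : S.card + 1 ≤ Fintype.card α) :
    ∃ a, a ∉ S := by
  have hc : 0 < (Sᶜ).card := by
    rw [Finset.card_compl]
    omega
  obtain ⟨r, hr⟩ := Finset.card_pos.mp hc
  exact ⟨r, Finset.mem_compl.mp hr⟩

/-- The 3-cycles `(p0 p1 i)` generate the alternating group. -/
theorem closure_c3_eq (h01 : p0 ≠ p1) :
    Subgroup.closure {x : Perm α | ∃ i, i ≠ p0 ∧ i ≠ p1 ∧ x = c3 p0 p1 i} = alternatingGroup α := by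
  apply le_antisymm
  · rw [Subgroup.closure_le]
    rintro x ⟨i, hi0, hi1, rfl⟩
    exact c3_mem_alternating h01 hi0.symm hi1.symm
  · rw [← closure_three_cycles_eq_alternating, Subgroup.closure_le]
    intro g hg
    exact isThreeCycle_mem_closure h01 hg

end Cfsg.Agent.Lib.H18.AltStem
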