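import Mathlib

/-!
# Carmichael's presentation of the alternating groups by 3-cycles (order bound) (helper18)

A group generated by `a 0, …, a (m-1)` with `a i ^ 3 = 1` and `(a i * a j) ^ 2 = 1` for `i ≠ j`
has order at most `(m+2)!/2`.  (Model: `a i = (0 1 (i+2))` in the alternating group of degree
`m+2`.)
-/

set_option autoImplicit false

namespace Cfsg.Agent.Lib.H18.Car3

variable {G : Type*} [Group G]

/-- The relations. -/
structure Rel (a : ℕ → G) (m : ℕ) : Prop where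
  cube : ∀ i, i < m → a i * a i * a i = 1
  sq : ∀ i j, i < m → j < m → i ≠ j → a i * a j * (a i * a j) = 1

section words

variable {u v x y z : G}

theorem inv_of_cube (hu : u * u * u = 1) : u⁻¹ = u * u :=
  inv_eq_of_mul_eq_one_right (by rw [← mul_assoc]; exact hu)

theorem mul_eq_inv_mul_inv (h : u * v * (u * v) = 1) : u * v = v⁻¹ * u⁻¹ := by
  rw [← mul_inv_rev]
  exact eq_inv_of_mul_eq_one_left h

theorem swap_inv (h : u * v * (u * v) = 1) : v⁻¹ * u⁻¹ = u * v := (mul_eq_inv_mul_inv h).symm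

theorem id5b (hx : x * x * x = 1) (hxy : x * y * (x * y) = 1) (hyz : y * z * (y * z) = 1)
    (hzx : z * x * (z * x) = 1) : z⁻¹ * x * y = y * x⁻¹ * (z⁻¹ * x) := by
  have e1 : x * y = y⁻¹ * x⁻¹ := mul_eq_inv_mul_inv hxy
  have e2 : z⁻¹ * y⁻¹ = y * z := swap_inv hyz
  have e3 : x⁻¹ * z⁻¹ = z * x := swap_inv hzx
  have e4 : x * x = x⁻¹ := (inv_of_cube hx).symm
  calc z⁻¹ * x * y = z⁻¹ * (x * y) := mul_assoc _ _ _
    _ = z⁻¹ * (y⁻¹ * x⁻¹) := by rw [e1]
    _ = z⁻¹ * y⁻¹ * x⁻¹ := (mul_assoc _ _ _).symm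
    _ = y * z * x⁻¹ := by rw [e2]
    _ = y * z * (x * x) := by rw [e4]
    _ = y * (z * x) * x := by simp only [mul_assoc]
    _ = y * (x⁻¹ * z⁻¹) * x := by rw [e3]
    _ = y * x⁻¹ * (z⁻¹ * x) := by simp only [mul_assoc]

theorem id6 (hz : z * z * z = 1) (hx : x * x * x = 1) (hxz : x * z * (x * z) = 1)
    (hzx : z * x * (z * x) = 1) : z⁻¹ * x * z = x⁻¹ * (z⁻¹ * x) := by
  have e1 : x * z = z⁻¹ * x⁻¹ := mul_eq_inv_mul_inv hxz
  have e3 : x⁻¹ * z⁻¹ = z * x := swap_inv hzx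
  have e4 : x * x = x⁻¹ := (inv_of_cube hx).symm
  have e5 : z⁻¹ * z⁻¹ = z := by
    nth_rewrite 2 [inv_of_cube hz]
    rw [inv_mul_cancel_left]
  calc z⁻¹ * x * z = z⁻¹ * (x * z) := mul_assoc _ _ _
    _ = z⁻¹ * (z⁻¹ * x⁻¹) := by rw [e1]
    _ = z⁻¹ * z⁻¹ * x⁻¹ := (mul_assoc _ _ _).symm
    _ = z * x⁻¹ := by rw [e5]
    _ = z * (x * x) := by rw [e4]
    _ = z * x * x := (mul_assoc _ _ _).symm
    _ = x⁻¹ * z⁻¹ * x := by rw [e3]
    _ = x⁻¹ * (z⁻¹ * x) := mul_assoc _ _ _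

end words

/-- Coset representatives. -/
def tr (a : ℕ → G) (m : ℕ) : Fin m ⊕ Fin 3 → G
  | Sum.inl i => (a m)⁻¹ * a i
  | Sum.inr 0 => 1
  | Sum.inr 1 => a m
  | Sum.inr 2 => (a m)⁻¹

theorem tr_mul {a : ℕ → G} {m : ℕ} (h : Rel a (m + 1)) (H : Subgroup G)
    (hH : ∀ j, j < m → a j ∈ H) (t : Fin m ⊕ Fin 3) (j : ℕ) (hj : j ≤ m) :
    ∃ c ∈ H, ∃ t' : Fin m ⊕ Fin 3, tr a m t * a j = c * tr a m t' := by
  have hb3 : a m * a m * a m = 1 := h.cube m (by omega)
  have hbinv : (a m)⁻¹ = a m * a m := inv_of_cube hb3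
  rcases Nat.lt_or_ge j m with hjm | hjm
  · -- generator in H
    have hy3 : a j * a j * a j = 1 := h.cube j (by omega)
    have hyb : a j * a m * (a j * a m) = 1 := h.sq j m (by omega) (by omega) (by omega)
    have hby : a m * a j * (a m * a j) = 1 := h.sq m j (by omega) (by omega) (by omega)
    rcases t with i | r
    · by_cases hij : (i : ℕ) = j
      · refine ⟨a j, hH j hjm, Sum.inr 1, ?_⟩
        simp only [tr]
        rw [hij, mul_assoc, ← inv_of_cube hy3]
        exact swap_inv hyb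
      · have hi : (i : ℕ) < m := i.2
        have hx3 : a i * a i * a i = 1 := h.cube i (by omega)
        have hxy : a i * a j * (a i * a j) = 1 := h.sq i j (by omega) (by omega) hij
        have hbx : a m * a i * (a m * a i) = 1 := h.sq m i (by omega) (by omega) (by omega)
        refine ⟨a j * (a (i : ℕ))⁻¹, H.mul_mem (hH j hjm) (H.inv_mem (hH i hi)), Sum.inl i, ?_⟩
        simp only [tr]
        exact id5b hx3 hxy hyb hbx
    · fin_cases r
      · exact ⟨a j, hH j hjm, Sum.inr 0, by simp [tr]⟩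
      · refine ⟨(a j)⁻¹, H.inv_mem (hH j hjm), Sum.inr 2, ?_⟩
        simp only [tr]
        exact mul_eq_inv_mul_inv hby
      · exact ⟨1, H.one_mem, Sum.inl ⟨j, hjm⟩, by simp [tr]⟩
  · have hjm' : j = m := le_antisymm hj hjm
    subst hjm'
    rcases t with i | r
    · have hi : (i : ℕ) < j := i.2
      have hx3 : a i * a i * a i = 1 := h.cube i (by omega)
      have hxb : a i * a j * (a i * a j) = 1 := h.sq i j (by omega) (by omega) (by omega)
      have hbx : a j * a i * (a j * a i) = 1 := h.sq j i (by omega) (by omega) (by omega)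
      refine ⟨(a (i : ℕ))⁻¹, H.inv_mem (hH i hi), Sum.inl i, ?_⟩
      simp only [tr]
      exact id6 hb3 hx3 hxb hbx
    · fin_cases r
      · exact ⟨1, H.one_mem, Sum.inr 1, by simp [tr]⟩
      · refine ⟨1, H.one_mem, Sum.inr 2, ?_⟩
        simp only [tr, one_mul]
        exact hbinv.symm
      · exact ⟨1, H.one_mem, Sum.inr 0, by simp [tr]⟩

theorem tr_mul_inv {a : ℕ → G} {m : ℕ} (h : Rel a (m + 1)) (H : Subgroup G)
    (hH : ∀ j, j < m → a j ∈ H) (t : Fin m ⊕ Fin 3) (j : ℕ) (hj : j ≤ m) :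
    ∃ c ∈ H, ∃ t' : Fin m ⊕ Fin 3, tr a m t * (a j)⁻¹ = c * tr a m t' := by
  have h3 : a j * a j * a j = 1 := h.cube j (by omega)
  rw [inv_of_cube h3]
  obtain ⟨c1, hc1, t1, e1⟩ := tr_mul h H hH t j hj
  obtain ⟨c2, hc2, t2, e2⟩ := tr_mul h H hH t1 j hj
  refine ⟨c1 * c2, H.mul_mem hc1 hc2, t2, ?_⟩
  rw [← mul_assoc, e1, mul_assoc, e2, mul_assoc]

/-- Every element of the group generated by `a 0, …, a m` lies in a coset `H * tr t`. -/
theorem mem_cosets {a : ℕ → G} {m : ℕ} (h : Rel a (m + 1)) (H : Subgroup G)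
    (hH : ∀ j, j < m → a j ∈ H)
    (hgen : Subgroup.closure {g | ∃ j, j < m + 1 ∧ g = a j} = ⊤) (g : G) :
    ∃ c ∈ H, ∃ t : Fin m ⊕ Fin 3, g = c * tr a m t := by
  have hg : g ∈ Subgroup.closure {g | ∃ j, j < m + 1 ∧ g = a j} := by rw [hgen]; trivial
  induction hg using Subgroup.closure_induction_right with
  | one => exact ⟨1, H.one_mem, Sum.inr 0, by simp [tr]⟩
  | mul_right x _ y hy ih =>
    obtain ⟨c, hc, t, rfl⟩ := ih
    obtain ⟨j, hj, rfl⟩ := hy
    obtain ⟨c', hc', t', e⟩ := tr_mul h H hH t j (by omega)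
    exact ⟨c * c', H.mul_mem hc hc', t', by rw [mul_assoc, e, mul_assoc]⟩
  | mul_inv_cancel x _ y hy ih =>
    obtain ⟨c, hc, t, rfl⟩ := ih
    obtain ⟨j, hj, rfl⟩ := hy
    obtain ⟨c', hc', t', e⟩ := tr_mul_inv h H hH t j (by omega)
    exact ⟨c * c', H.mul_mem hc hc', t', by rw [mul_assoc, e, mul_assoc]⟩

theorem card_le_step {a : ℕ → G} {m : ℕ} (h : Rel a (m + 1)) (H : Subgroup G) [Finite H]
    (hH : ∀ j, j < m → a j ∈ H)
    (hgen : Subgroup.closure {g | ∃ j, j < m + 1 ∧ g = a j} = ⊤) :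
    Finite G ∧ Nat.card G ≤ Nat.card H * (m + 3) := by
  have hsurj : Function.Surjective
      (fun p : H × (Fin m ⊕ Fin 3) => (p.1 : G) * tr a m p.2) := by
    intro g
    obtain ⟨c, hc, t, rfl⟩ := mem_cosets h H hH hgen g
    exact ⟨(⟨c, hc⟩, t), rfl⟩
  have hfin : Finite G := Finite.of_surjective _ hsurj
  refine ⟨hfin, ?_⟩
  have := Nat.card_le_card_of_surjective _ hsurj
  rw [Nat.card_prod, Nat.card_eq_fintype_card (α := Fin m ⊕ Fin 3)] at this
  simpa [Fintype.card_sum] using this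

/-- **Carmichael's bound.** -/
theorem card_bound : ∀ (m : ℕ) {G : Type*} [Group G] (a : ℕ → G), Rel a m →
    Subgroup.closure {g | ∃ j, j < m ∧ g = a j} = ⊤ →
    Finite G ∧ 2 * Nat.card G ≤ (m + 2).factorial := by
  intro m
  induction m with
  | zero =>
    intro G _ a _ hgen
    have hbot : (⊤ : Subgroup G) = ⊥ := by
      rw [← hgen]
      have : {g : G | ∃ j, j < 0 ∧ g = a j} = ∅ := by
        ext g; simp
      rw [this, Subgroup.closure_empty]
    have hsub : Subsingleton G := by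
      refine ⟨fun x y => ?_⟩
      have hx : x ∈ (⊥ : Subgroup G) := hbot ▸ Subgroup.mem_top x
      have hy : y ∈ (⊥ : Subgroup G) := hbot ▸ Subgroup.mem_top y
      rw [Subgroup.mem_bot] at hx hy
      rw [hx, hy]
    refine ⟨inferInstance, ?_⟩
    rw [Nat.card_unique]
    decide
  | succ m ih =>
    intro G _ a hrel hgen
    set S : Set G := {g | ∃ j, j < m ∧ g = a j} with hS
    set H : Subgroup G := Subgroup.closure S with hHdef
    have hmem : ∀ j, j < m → a j ∈ H := fun j hj => Subgroup.subset_closure ⟨j, hj, rfl⟩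
    let a' : ℕ → H := fun j => if hj : j < m then ⟨a j, hmem j hj⟩ else 1
    have ha' : ∀ j (hj : j < m), a' j = ⟨a j, hmem j hj⟩ := fun j hj => by
      simp only [a', dif_pos hj]
    have hrel' : Rel a' m := by
      constructor
      · intro i hi
        rw [ha' i hi]
        exact Subtype.ext (hrel.cube i (by omega))
      · intro i j hi hj hij
        rw [ha' i hi, ha' j hj]
        exact Subtype.ext (hrel.sq i j (by omega) (by omega) hij)
    have hgen' : Subgroup.closure {g : H | ∃ j, j < m ∧ g = a' j} = ⊤ := by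
      have h1 := Subgroup.closure_closure_coe_preimage (k := S)
      have h2 : ((↑) : Subgroup.closure S → G) ⁻¹' S = {g : H | ∃ j, j < m ∧ g = a' j} := by
        ext g
        simp only [Set.mem_preimage, Set.mem_setOf_eq, hS]
        constructor
        · rintro ⟨j, hj, e⟩
          exact ⟨j, hj, by rw [ha' j hj]; exact Subtype.ext e⟩
        · rintro ⟨j, hj, e⟩
          refine ⟨j, hj, ?_⟩
          rw [e, ha' j hj]
      rw [← h2]
      exact h1
    obtain ⟨hfinH, hcardH⟩ := ih a' hrel' hgen'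
    obtain ⟨hfinG, hcardG⟩ := card_le_step hrel H hmem hgen
    refine ⟨hfinG, ?_⟩
    have e : (m + 1 + 2).factorial = (m + 3) * (m + 2).factorial := by
      rw [show m + 1 + 2 = (m + 2) + 1 by ring, Nat.factorial_succ]
    rw [e]
    calc 2 * Nat.card G ≤ 2 * (Nat.card H * (m + 3)) := Nat.mul_le_mul_left 2 hcardG
      _ = (m + 3) * (2 * Nat.card H) := by ring
      _ ≤ (m + 3) * (m + 2).factorial := Nat.mul_le_mul_left _ hcardH

end Cfsg.Agent.Lib.H18.Car3
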