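import Mathlib

/-!
# Canonical lifts of inverted elements of order 3 in central extensions (helper18)

Let `σ : Γ →* G` be surjective with central kernel.  If `t * c * t⁻¹ = c⁻¹` and `c ^ 3 = 1` in `G`,
then `c = ⁅t, c⁆`, and the commutator `⁅y, x⁆` of arbitrary lifts is a canonical lift `lift σ c t`
of `c`; it has order dividing `3` and is inverted by every lift of `t`.
-/

set_option autoImplicit false

namespace Cfsg.Agent.Lib.H18.Lift3

variable {Γ G : Type*} [Group Γ] [Group G] (σ : Γ →* G)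

/-- The canonical lift. -/
noncomputable def lift (c t : G) : Γ :=
  Function.invFun σ t * Function.invFun σ c * (Function.invFun σ t)⁻¹ * (Function.invFun σ c)⁻¹

variable {σ}

theorem comm_of_ker (hker : σ.ker ≤ Subgroup.center Γ) {k : Γ} (hk : σ k = 1) (g : Γ) :
    Commute k g := by
  have : k ∈ Subgroup.center Γ := hker (MonoidHom.mem_ker.mpr hk)
  exact (Subgroup.mem_center_iff.mp this g).symm

/-- Commutators of lifts depend only on the images. -/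
theorem comm_eq_of_map_eq (hker : σ.ker ≤ Subgroup.center Γ) {x x' y y' : Γ}
    (hx : σ x = σ x') (hy : σ y = σ y') :
    y * x * y⁻¹ * x⁻¹ = y' * x' * y'⁻¹ * x'⁻¹ := by
  have hkx : σ (x'⁻¹ * x) = 1 := by rw [map_mul, map_inv, hx, inv_mul_cancel]
  have hky : σ (y'⁻¹ * y) = 1 := by rw [map_mul, map_inv, hy, inv_mul_cancel]
  have cx := comm_of_ker hker hkx
  have cy := comm_of_ker hker hky
  have ex : x = x' * (x'⁻¹ * x) := by group
  have ey : y = y' * (y'⁻¹ * y) := by group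
  set a := x'⁻¹ * x
  set b := y'⁻¹ * y
  rw [ex, ey]
  have h1 : y' * b * (x' * a) * (y' * b)⁻¹ * (x' * a)⁻¹
      = y' * (b * x') * (a * b⁻¹) * y'⁻¹ * (a⁻¹ * x'⁻¹) := by group
  rw [h1, (cy x').eq, (cx b⁻¹).eq]
  have h2 : y' * (x' * b) * (b⁻¹ * a) * y'⁻¹ * (a⁻¹ * x'⁻¹)
      = y' * x' * (a * y'⁻¹) * (a⁻¹ * x'⁻¹) := by group
  rw [h2, (cx y'⁻¹).eq]
  group

/-- Well-definedness. -/
theorem lift_eq (hσ : Function.Surjective σ) (hker : σ.ker ≤ Subgroup.center Γ) {c t : G}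
    {x y : Γ} (hx : σ x = c) (hy : σ y = t) : lift σ c t = y * x * y⁻¹ * x⁻¹ := by
  have hx0 : σ (Function.invFun σ c) = c := Function.invFun_eq (hσ c)
  have hy0 : σ (Function.invFun σ t) = t := Function.invFun_eq (hσ t)
  set x0 := Function.invFun σ c
  set y0 := Function.invFun σ t
  have hkx : σ (x0⁻¹ * x) = 1 := by rw [map_mul, map_inv, hx0, hx, inv_mul_cancel]
  have hky : σ (y0⁻¹ * y) = 1 := by rw [map_mul, map_inv, hy0, hy, inv_mul_cancel]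
  have cx := comm_of_ker hker hkx
  have cy := comm_of_ker hker hky
  have ex : x = x0 * (x0⁻¹ * x) := by group
  have ey : y = y0 * (y0⁻¹ * y) := by group
  set a := x0⁻¹ * x
  set b := y0⁻¹ * y
  rw [lift]
  change y0 * x0 * y0⁻¹ * x0⁻¹ = y * x * y⁻¹ * x⁻¹
  rw [ex, ey]
  symm
  have h1 : y0 * b * (x0 * a) * (y0 * b)⁻¹ * (x0 * a)⁻¹
      = y0 * (b * x0) * (a * b⁻¹) * y0⁻¹ * (a⁻¹ * x0⁻¹) := by group
  rw [h1, (cy x0).eq, (cx b⁻¹).eq]
  have h2 : y0 * (x0 * b) * (b⁻¹ * a) * y0⁻¹ * (a⁻¹ * x0⁻¹)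
      = y0 * x0 * (a * y0⁻¹) * (a⁻¹ * x0⁻¹) := by group
  rw [h2, (cx y0⁻¹).eq]
  group

theorem map_lift (hσ : Function.Surjective σ) (c t : G) :
    σ (lift σ c t) = t * c * t⁻¹ * c⁻¹ := by
  have hx0 : σ (Function.invFun σ c) = c := Function.invFun_eq (hσ c)
  have hy0 : σ (Function.invFun σ t) = t := Function.invFun_eq (hσ t)
  rw [lift]
  simp only [map_mul, map_inv, hx0, hy0]

theorem map_lift' (hσ : Function.Surjective σ) {c t : G} (hc : c ^ 3 = 1)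
    (ht : t * c * t⁻¹ = c⁻¹) : σ (lift σ c t) = c := by
  rw [map_lift hσ, ht]
  have : c⁻¹ * c⁻¹ * c ^ 3 = c := by group
  rw [hc, mul_one] at this
  exact this

theorem conj_lift (hσ : Function.Surjective σ) (hker : σ.ker ≤ Subgroup.center Γ) (c t : G)
    (g : Γ) : g * lift σ c t * g⁻¹ = lift σ (σ g * c * (σ g)⁻¹) (σ g * t * (σ g)⁻¹) := by
  obtain ⟨x, hx⟩ := hσ c
  obtain ⟨y, hy⟩ := hσ t
  rw [lift_eq hσ hker hx hy,
    lift_eq hσ hker (x := g * x * g⁻¹) (y := g * y * g⁻¹) (by simp [hx]) (by simp [hy])]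
  group

/-- Every lift of `t` inverts the canonical lift. -/
theorem inv_lift (hσ : Function.Surjective σ) (hker : σ.ker ≤ Subgroup.center Γ) {c t : G}
    (ht : t * c * t⁻¹ = c⁻¹) {y : Γ} (hy : σ y = t) :
    y * lift σ c t * y⁻¹ = (lift σ c t)⁻¹ := by
  obtain ⟨x, hx⟩ := hσ c
  rw [lift_eq hσ hker hx hy]
  -- ζ = x * (y x y⁻¹) is central
  have hζ : σ (x * (y * x * y⁻¹)) = 1 := by
    simp only [map_mul, map_inv, hx, hy]
    rw [ht, mul_inv_cancel]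
  have cζ := comm_of_ker hker hζ
  -- y (y x y⁻¹) y⁻¹ = x
  have e1 : y * x * y⁻¹ = x⁻¹ * (x * (y * x * y⁻¹)) := by group
  set ζ := x * (y * x * y⁻¹)
  have e2 : y * (y * x * y⁻¹) * y⁻¹ = x := by
    rw [e1]
    have : y * (x⁻¹ * ζ) * y⁻¹ = (y * x * y⁻¹)⁻¹ * (y * ζ * y⁻¹) := by group
    rw [this, (cζ y).symm.eq, mul_inv_cancel_right, e1, mul_inv_rev, inv_inv, mul_assoc,
      (cζ _).symm.eq, inv_mul_cancel_left] 
  have e3 : y * (y * x * y⁻¹ * x⁻¹) * y⁻¹ = (y * (y * x * y⁻¹) * y⁻¹) * (y * x * y⁻¹)⁻¹ := by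
    group
  rw [e3, e2]
  group

/-- The canonical lift has order dividing 3. -/
theorem lift_pow_three (hσ : Function.Surjective σ) (hker : σ.ker ≤ Subgroup.center Γ) {c t : G}
    (hc : c ^ 3 = 1) (ht : t * c * t⁻¹ = c⁻¹) : (lift σ c t) ^ 3 = 1 := by
  obtain ⟨x, hx⟩ := hσ c
  obtain ⟨y, hy⟩ := hσ t
  rw [lift_eq hσ hker hx hy]
  have hζ : σ (x * (y * x * y⁻¹)) = 1 := by
    simp only [map_mul, map_inv, hx, hy]
    rw [ht, mul_inv_cancel]
  have cζ := comm_of_ker hker hζ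
  have hω : σ (x ^ 3) = 1 := by rw [map_pow, hx, hc]
  have cω := comm_of_ker hker hω
  have e1 : y * x * y⁻¹ = x⁻¹ * (x * (y * x * y⁻¹)) := by group
  set ζ := x * (y * x * y⁻¹)
  -- (y x y⁻¹)^3 = x^3
  have p1 : (y * x * y⁻¹) ^ 3 = x ^ 3 := by
    rw [conj_pow, (cω y).symm.eq, mul_inv_cancel_right]
  -- (x⁻¹ ζ)^3 = x⁻³ ζ³
  have p2 : (x⁻¹ * ζ) ^ 3 = (x⁻¹) ^ 3 * ζ ^ 3 := (cζ x⁻¹).symm.mul_pow 3
  rw [e1, p2] at p1
  have p3 : ζ ^ 3 = x ^ 3 * x ^ 3 := by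
    have : ζ ^ 3 = x ^ 3 * ((x⁻¹) ^ 3 * ζ ^ 3) := by group
    rw [this, p1]
  -- L = x⁻¹ ζ x⁻¹ = (x⁻¹)^2 ζ
  have e4 : y * x * y⁻¹ * x⁻¹ = (x⁻¹) ^ 2 * ζ := by
    rw [e1, mul_assoc, (cζ x⁻¹).eq]
    group
  rw [e4, ((cζ ((x⁻¹) ^ 2))).symm.mul_pow 3, p3]
  group

/-- Changing the inverting element by a commuting involution does not change the lift. -/
theorem lift_change (hσ : Function.Surjective σ) (hker : σ.ker ≤ Subgroup.center Γ) {c t d : G}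
    (hc : c ^ 3 = 1) (hdc : d * c = c * d) (hd : d * d = 1) :
    lift σ c (t * d) = lift σ c t := by
  obtain ⟨x, hx⟩ := hσ c
  obtain ⟨y, hy⟩ := hσ t
  obtain ⟨e, he⟩ := hσ d
  rw [lift_eq hσ hker hx hy, lift_eq hσ hker hx (y := y * e) (by rw [map_mul, hy, he])]
  -- κ = x⁻¹ e x e⁻¹ is central with κ² = κ³ = 1
  have hκ : σ (x⁻¹ * (e * x * e⁻¹)) = 1 := by
    simp only [map_mul, map_inv, hx, he]
    rw [hdc, mul_inv_cancel_right, inv_mul_cancel]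
  have cκ := comm_of_ker hker hκ
  have hω : σ (x ^ 3) = 1 := by rw [map_pow, hx, hc]
  have cω := comm_of_ker hker hω
  have he2 : σ (e * e) = 1 := by rw [map_mul, he, hd]
  have ce2 := comm_of_ker hker he2
  have e1 : e * x * e⁻¹ = x * (x⁻¹ * (e * x * e⁻¹)) := by group
  set κ := x⁻¹ * (e * x * e⁻¹)
  have k3 : κ ^ 3 = 1 := by
    have p1 : (e * x * e⁻¹) ^ 3 = x ^ 3 := by
      rw [conj_pow, (cω e).symm.eq, mul_inv_cancel_right]
    rw [e1, (cκ x).symm.mul_pow 3] at p1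
    exact mul_eq_left.mp p1
  have k2 : κ ^ 2 = 1 := by
    have p1 : e * (e * x * e⁻¹) * e⁻¹ = x := by
      have : e * (e * x * e⁻¹) * e⁻¹ = (e * e) * x * (e * e)⁻¹ := by group
      rw [this, (ce2 x).eq, mul_inv_cancel_right]
    rw [e1] at p1
    have p2 : e * (x * κ) * e⁻¹ = (e * x * e⁻¹) * (e * κ * e⁻¹) := by group
    rw [p2, (cκ e).symm.eq, mul_inv_cancel_right, e1, mul_assoc] at p1
    have := mul_eq_left.mp p1
    rw [pow_two]; exact this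
  have k1 : κ = 1 := by
    have : κ = κ ^ 3 * (κ ^ 2)⁻¹ := by group
    rw [this, k3, k2, inv_one, mul_one]
  have e5 : e * x * e⁻¹ = x := by rw [e1, k1, mul_one]
  have : y * e * x * (y * e)⁻¹ * x⁻¹ = y * (e * x * e⁻¹) * y⁻¹ * x⁻¹ := by group
  rw [this, e5]

end Cfsg.Agent.Lib.H18.Lift3
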