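import Mathlib
import Cfsg.Agent.Lib.H18.AltStem1
import Cfsg.Agent.Lib.H18.Lift3
import Cfsg.Agent.Lib.H18.Car3

/-!
# Stem extensions of the alternating groups of degree at least 8 (helper18)
-/

set_option autoImplicit false

namespace Cfsg.Agent.Lib.H18.AltStem

open Equiv Equiv.Perm Cfsg.Agent.Lib.H18

variable {α : Type*} [Fintype α] [DecidableEq α] {p0 p1 : α}

/-- `(p0 p1 i)` in the alternating group (total function). -/
def VG (h01 : p0 ≠ p1) (i : α) : alternatingGroup α :=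
  if h : i ≠ p0 ∧ i ≠ p1 then ⟨c3 p0 p1 i, c3_mem_alternating h01 h.1.symm h.2.symm⟩ else 1

/-- `(p0 p1)(k l)` in the alternating group (total function). -/
def HG (h01 : p0 ≠ p1) (k l : α) : alternatingGroup α :=
  if h : k ≠ l then ⟨hh p0 p1 k l, hh_mem h01 h⟩ else 1

/-- `(k l)(k' l')` in the alternating group (total function). -/
def DG (k l k' l' : α) : alternatingGroup α :=
  if h : k ≠ l ∧ k' ≠ l' then ⟨dd k l k' l', dd_mem h.1 h.2⟩ else 1

/-- `(k, l)` is a valid inverting pair for `i`. -/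
def Val (p0 p1 i k l : α) : Prop :=
  i ≠ p0 ∧ i ≠ p1 ∧ k ≠ p0 ∧ k ≠ p1 ∧ l ≠ p0 ∧ l ≠ p1 ∧ k ≠ l ∧ i ≠ k ∧ i ≠ l

variable (h01 : p0 ≠ p1)

theorem VG_coe {i : α} (hi0 : i ≠ p0) (hi1 : i ≠ p1) : (VG h01 i : Perm α) = c3 p0 p1 i := by
  rw [VG, dif_pos ⟨hi0, hi1⟩]

theorem HG_coe {k l : α} (hkl : k ≠ l) : (HG h01 k l : Perm α) = hh p0 p1 k l := by
  rw [HG, dif_pos hkl]

theorem DG_coe {k l k' l' : α} (hkl : k ≠ l) (hkl' : k' ≠ l') :
    (DG k l k' l' : Perm α) = dd k l k' l' := by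
  rw [DG, dif_pos ⟨hkl, hkl'⟩]

theorem VG_pow (i : α) : (VG h01 i) ^ 3 = 1 := by
  by_cases h : i ≠ p0 ∧ i ≠ p1
  · apply Subtype.ext
    rw [Subgroup.coe_pow, VG_coe h01 h.1 h.2, c3_pow_three h01 h.1.symm h.2.symm]
    rfl
  · rw [VG, dif_neg h, one_pow]

theorem HG_conj_VG {i k l : α} (hv : Val p0 p1 i k l) :
    HG h01 k l * VG h01 i * (HG h01 k l)⁻¹ = (VG h01 i)⁻¹ := by
  obtain ⟨hi0, hi1, hk0, hk1, hl0, hl1, hkl, hik, hil⟩ := hv
  apply Subtype.ext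
  rw [Subgroup.coe_mul, Subgroup.coe_mul, Subgroup.coe_inv, Subgroup.coe_inv, VG_coe h01 hi0 hi1,
    HG_coe h01 hkl]
  exact hh_conj_c3 h01 hi0 hi1 hk0 hl0 hk1 hl1 hik hil

theorem VG_mul_sq {i j : α} (hi0 : i ≠ p0) (hi1 : i ≠ p1) (hj0 : j ≠ p0) (hj1 : j ≠ p1)
    (hij : i ≠ j) : (VG h01 i * VG h01 j) ^ 2 = 1 := by
  apply Subtype.ext
  rw [Subgroup.coe_pow, Subgroup.coe_mul, VG_coe h01 hi0 hi1, VG_coe h01 hj0 hj1, pow_two]
  exact (c3_mul_c3_sq h01 hi0.symm hj0.symm hi1.symm hj1.symm hij).1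

theorem HG_mul_DG {k l k' l' : α} (hkl : k ≠ l) (hkl' : k' ≠ l') :
    HG h01 k l * DG k l k' l' = HG h01 k' l' := by
  apply Subtype.ext
  rw [Subgroup.coe_mul, HG_coe h01 hkl, HG_coe h01 hkl', DG_coe hkl hkl']
  exact hh_mul_dd

theorem exists_val (hcard : 5 ≤ Fintype.card α) {i : α} (hi0 : i ≠ p0) (hi1 : i ≠ p1) :
    ∃ k l, Val p0 p1 i k l := by
  have hS : ({p0, p1, i} : Finset α).card + 2 ≤ Fintype.card α := by
    have := Finset.card_le_three (a := p0) (b := p1) (c := i)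
    omega
  obtain ⟨k, l, hkl, hk, hl⟩ := exists_two_not_mem_finset _ hS
  simp only [Finset.mem_insert, Finset.mem_singleton, not_or] at hk hl
  exact ⟨k, l, hi0, hi1, hk.1, hk.2.1, hl.1, hl.2.1, hkl, fun h => hk.2.2 h.symm,
    fun h => hl.2.2 h.symm⟩

theorem exists_val2 (hcard : 6 ≤ Fintype.card α) {i j : α} (hi0 : i ≠ p0) (hi1 : i ≠ p1)
    (hj0 : j ≠ p0) (hj1 : j ≠ p1) :
    ∃ k l, Val p0 p1 i k l ∧ Val p0 p1 j k l := by
  have hS : ({p0, p1, i, j} : Finset α).card + 2 ≤ Fintype.card α := by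
    have := Finset.card_le_four (a := p0) (b := p1) (c := i) (d := j)
    omega
  obtain ⟨k, l, hkl, hk, hl⟩ := exists_two_not_mem_finset _ hS
  simp only [Finset.mem_insert, Finset.mem_singleton, not_or] at hk hl
  exact ⟨k, l, ⟨hi0, hi1, hk.1, hk.2.1, hl.1, hl.2.1, hkl, fun h => hk.2.2.1 h.symm,
    fun h => hl.2.2.1 h.symm⟩, ⟨hj0, hj1, hk.1, hk.2.1, hl.1, hl.2.1, hkl, fun h => hk.2.2.2 h.symm,
    fun h => hl.2.2.2 h.symm⟩⟩

section Lifts

variable {Γ : Type*} [Group Γ] {σ : Γ →* alternatingGroup α}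
  (hσ : Function.Surjective σ) (hker : σ.ker ≤ Subgroup.center Γ)

include hσ hker in
/-- Disjoint inverting pairs give the same lift. -/
theorem lift_indep_disjoint {i k l k' l' : α} (hv : Val p0 p1 i k l) (hv' : Val p0 p1 i k' l')
    (h1 : k ≠ k') (h2 : k ≠ l') (h3 : l ≠ k') (h4 : l ≠ l') :
    Lift3.lift σ (VG h01 i) (HG h01 k' l') = Lift3.lift σ (VG h01 i) (HG h01 k l) := by
  obtain ⟨hi0, hi1, hk0, hk1, hl0, hl1, hkl, hik, hil⟩ := hv
  obtain ⟨-, -, hk0', hk1', hl0', hl1', hkl', hik', hil'⟩ := hv'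
  rw [← HG_mul_DG h01 hkl hkl']
  apply Lift3.lift_change hσ hker (VG_pow h01 i)
  · apply Subtype.ext
    rw [Subgroup.coe_mul, Subgroup.coe_mul, VG_coe h01 hi0 hi1, DG_coe hkl hkl']
    exact dd_comm_c3 hk0.symm hl0.symm hk0'.symm hl0'.symm hk1.symm hl1.symm hk1'.symm hl1'.symm
      hik hil hik' hil'
  · apply Subtype.ext
    rw [Subgroup.coe_mul, DG_coe hkl hkl']
    exact dd_sq h1 h2 h3 h4

include hσ hker in
/-- Any two inverting pairs give the same lift. -/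
theorem lift_indep (hcard : 8 ≤ Fintype.card α) {i k l k' l' : α} (hv : Val p0 p1 i k l)
    (hv' : Val p0 p1 i k' l') :
    Lift3.lift σ (VG h01 i) (HG h01 k' l') = Lift3.lift σ (VG h01 i) (HG h01 k l) := by
  by_cases hdis : k ≠ k' ∧ k ≠ l' ∧ l ≠ k' ∧ l ≠ l'
  · exact lift_indep_disjoint h01 hσ hker hv hv' hdis.1 hdis.2.1 hdis.2.2.1 hdis.2.2.2
  · -- the pairs overlap: at most 3 points
    have hT : ({k, l, k', l'} : Finset α).card ≤ 3 := by
      by_cases hk : k = k' ∨ k = l'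
      · have hmem : k ∈ ({l, k', l'} : Finset α) := by
          simp only [Finset.mem_insert, Finset.mem_singleton]
          tauto
        rw [Finset.card_insert_of_mem hmem]
        exact Finset.card_le_three
      · have hl : l = k' ∨ l = l' := by
          by_contra hcon
          push Not at hk hcon
          exact hdis ⟨hk.1, hk.2, hcon.1, hcon.2⟩
        have hmem : l ∈ ({k', l'} : Finset α) := by
          simp only [Finset.mem_insert, Finset.mem_singleton]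
          exact hl
        rw [Finset.insert_eq_of_mem hmem] 
        exact Finset.card_le_three
    have hS : (({p0, p1, i} : Finset α) ∪ {k, l, k', l'}).card + 2 ≤ Fintype.card α := by
      have h3 := Finset.card_le_three (a := p0) (b := p1) (c := i)
      have := Finset.card_union_le ({p0, p1, i} : Finset α) {k, l, k', l'}
      omega
    obtain ⟨a, b, hab, ha, hb⟩ := exists_two_not_mem_finset _ hS
    simp only [Finset.mem_union, Finset.mem_insert, Finset.mem_singleton, not_or] at ha hb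
    obtain ⟨⟨ha0, ha1, hai⟩, hak, hal, hak', hal'⟩ := ha
    obtain ⟨⟨hb0, hb1, hbi⟩, hbk, hbl, hbk', hbl'⟩ := hb
    have hv'' : Val p0 p1 i a b :=
      ⟨hv.1, hv.2.1, ha0, ha1, hb0, hb1, hab, fun h => hai h.symm, fun h => hbi h.symm⟩
    rw [lift_indep_disjoint h01 hσ hker hv'' hv' (by tauto) (by tauto) (by tauto) (by tauto),
      ← lift_indep_disjoint h01 hσ hker hv'' hv (by tauto) (by tauto) (by tauto) (by tauto)]

end Lifts

section W

variable {Γ : Type*} [Group Γ] (σ : Γ →* alternatingGroup α)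

open Classical in
/-- The canonical lift of `(p0 p1 i)`. -/
noncomputable def W (i : α) : Γ :=
  if h : ∃ kl : α × α, Val p0 p1 i kl.1 kl.2 then
    Lift3.lift σ (VG h01 i) (HG h01 h.choose.1 h.choose.2)
  else 1

variable {σ} (hσ : Function.Surjective σ) (hker : σ.ker ≤ Subgroup.center Γ)
  (hcard : 8 ≤ Fintype.card α)

include hσ hker hcard

theorem W_eq {i k l : α} (hv : Val p0 p1 i k l) :
    W h01 σ i = Lift3.lift σ (VG h01 i) (HG h01 k l) := by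
  have hex : ∃ kl : α × α, Val p0 p1 i kl.1 kl.2 := ⟨(k, l), hv⟩
  rw [W, dif_pos hex]
  exact lift_indep h01 hσ hker hcard hv hex.choose_spec

theorem map_W {i : α} (hi0 : i ≠ p0) (hi1 : i ≠ p1) : σ (W h01 σ i) = VG h01 i := by
  obtain ⟨k, l, hv⟩ := exists_val (by omega) hi0 hi1
  rw [W_eq h01 hσ hker hcard hv]
  exact Lift3.map_lift' hσ (VG_pow h01 i) (HG_conj_VG h01 hv)

theorem W_pow {i : α} (hi0 : i ≠ p0) (hi1 : i ≠ p1) : (W h01 σ i) ^ 3 = 1 := by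
  obtain ⟨k, l, hv⟩ := exists_val (by omega) hi0 hi1
  rw [W_eq h01 hσ hker hcard hv]
  exact Lift3.lift_pow_three hσ hker (VG_pow h01 i) (HG_conj_VG h01 hv)

theorem inv_W {i k l : α} (hv : Val p0 p1 i k l) {y : Γ} (hy : σ y = HG h01 k l) :
    y * W h01 σ i * y⁻¹ = (W h01 σ i)⁻¹ := by
  rw [W_eq h01 hσ hker hcard hv]
  exact Lift3.inv_lift hσ hker (HG_conj_VG h01 hv) hy

theorem conj_W {i : α} (hi0 : i ≠ p0) (hi1 : i ≠ p1) (g : Γ)
    (hg0 : (σ g : Perm α) p0 = p0) (hg1 : (σ g : Perm α) p1 = p1) :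
    g * W h01 σ i * g⁻¹ = W h01 σ ((σ g : Perm α) i) := by
  obtain ⟨k, l, hv⟩ := exists_val (by omega) hi0 hi1
  obtain ⟨-, -, hk0, hk1, hl0, hl1, hkl, hik, hil⟩ := hv
  set π : Perm α := (σ g : Perm α) with hπ
  have hinj := π.injective
  have hv' : Val p0 p1 (π i) (π k) (π l) := by
    refine ⟨?_, ?_, ?_, ?_, ?_, ?_, ?_, ?_, ?_⟩
    · intro h; rw [← hg0] at h; exact hi0 (hinj h)
    · intro h; rw [← hg1] at h; exact hi1 (hinj h)
    · intro h; rw [← hg0] at h; exact hk0 (hinj h)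
    · intro h; rw [← hg1] at h; exact hk1 (hinj h)
    · intro h; rw [← hg0] at h; exact hl0 (hinj h)
    · intro h; rw [← hg1] at h; exact hl1 (hinj h)
    · intro h; exact hkl (hinj h)
    · intro h; exact hik (hinj h)
    · intro h; exact hil (hinj h)
  rw [W_eq h01 hσ hker hcard ⟨hi0, hi1, hk0, hk1, hl0, hl1, hkl, hik, hil⟩,
    W_eq h01 hσ hker hcard hv', Lift3.conj_lift hσ hker]
  congr 1
  · apply Subtype.ext
    rw [Subgroup.coe_mul, Subgroup.coe_mul, Subgroup.coe_inv, VG_coe h01 hi0 hi1,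
      VG_coe h01 hv'.1 hv'.2.1]
    exact conj_c3' _ hg0 hg1
  · apply Subtype.ext
    rw [Subgroup.coe_mul, Subgroup.coe_mul, Subgroup.coe_inv, HG_coe h01 hkl,
      HG_coe h01 hv'.2.2.2.2.2.2.1]
    exact conj_hh _ hg0 hg1

end W

section Z

variable {Γ : Type*} [Group Γ] {σ : Γ →* alternatingGroup α}
  (hσ : Function.Surjective σ) (hker : σ.ker ≤ Subgroup.center Γ)
  (hcard : 8 ≤ Fintype.card α)

include hσ hker hcard

theorem z_ker {i j : α} (hi0 : i ≠ p0) (hi1 : i ≠ p1) (hj0 : j ≠ p0) (hj1 : j ≠ p1)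
    (hij : i ≠ j) : σ ((W h01 σ i * W h01 σ j) ^ 2) = 1 := by
  rw [map_pow, map_mul, map_W h01 hσ hker hcard hi0 hi1, map_W h01 hσ hker hcard hj0 hj1]
  exact VG_mul_sq h01 hi0 hi1 hj0 hj1 hij

theorem z_comm {i j : α} (hi0 : i ≠ p0) (hi1 : i ≠ p1) (hj0 : j ≠ p0) (hj1 : j ≠ p1)
    (hij : i ≠ j) (g : Γ) : Commute ((W h01 σ i * W h01 σ j) ^ 2) g :=
  Lift3.comm_of_ker hker (z_ker h01 hσ hker hcard hi0 hi1 hj0 hj1 hij) g

theorem z_symm {i j : α} (hi0 : i ≠ p0) (hi1 : i ≠ p1) (hj0 : j ≠ p0) (hj1 : j ≠ p1)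
    (hij : i ≠ j) : (W h01 σ j * W h01 σ i) ^ 2 = (W h01 σ i * W h01 σ j) ^ 2 := by
  have h1 : (W h01 σ j * W h01 σ i) ^ 2
      = W h01 σ j * (W h01 σ i * W h01 σ j) ^ 2 * (W h01 σ j)⁻¹ := by
    simp only [pow_two]; group
  rw [h1, ← (z_comm h01 hσ hker hcard hi0 hi1 hj0 hj1 hij (W h01 σ j)).eq, mul_inv_cancel_right]

theorem z_sq {i j : α} (hi0 : i ≠ p0) (hi1 : i ≠ p1) (hj0 : j ≠ p0) (hj1 : j ≠ p1)
    (hij : i ≠ j) :
    (W h01 σ i * W h01 σ j) ^ 2 * (W h01 σ i * W h01 σ j) ^ 2 = 1 := by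
  obtain ⟨k, l, hvi, hvj⟩ := exists_val2 (by omega) hi0 hi1 hj0 hj1
  obtain ⟨y, hy⟩ := hσ (HG h01 k l)
  have e1 := inv_W h01 hσ hker hcard hvi hy
  have e2 := inv_W h01 hσ hker hcard hvj hy
  have h1 : y * (W h01 σ i * W h01 σ j) ^ 2 * y⁻¹
      = (y * W h01 σ i * y⁻¹ * (y * W h01 σ j * y⁻¹)) ^ 2 := by
    simp only [pow_two]; group
  rw [e1, e2] at h1
  have h2 : ((W h01 σ i)⁻¹ * (W h01 σ j)⁻¹) ^ 2 = ((W h01 σ j * W h01 σ i) ^ 2)⁻¹ := by
    simp only [pow_two]; group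
  rw [h2, z_symm h01 hσ hker hcard hi0 hi1 hj0 hj1 hij,
    ← (z_comm h01 hσ hker hcard hi0 hi1 hj0 hj1 hij y).eq, mul_inv_cancel_right] at h1
  exact mul_eq_one_iff_eq_inv.mpr h1

theorem z_const {i j j' : α} (hi0 : i ≠ p0) (hi1 : i ≠ p1) (hj0 : j ≠ p0) (hj1 : j ≠ p1)
    (hj0' : j' ≠ p0) (hj1' : j' ≠ p1) (hij : i ≠ j) (hij' : i ≠ j') :
    (W h01 σ i * W h01 σ j) ^ 2 = (W h01 σ i * W h01 σ j') ^ 2 := by
  by_cases hjj : j = j'
  · rw [hjj]
  have hS : ({p0, p1, i, j, j'} : Finset α).card + 1 ≤ Fintype.card α := by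
    have := Finset.card_le_five (a := p0) (b := p1) (c := i) (d := j) (e := j')
    omega
  obtain ⟨m, hm⟩ := exists_not_mem_finset _ hS
  simp only [Finset.mem_insert, Finset.mem_singleton, not_or] at hm
  obtain ⟨hm0, hm1, hmi, hmj, hmj'⟩ := hm
  have hjm : j ≠ m := fun h => hmj h.symm
  have hjm' : j' ≠ m := fun h => hmj' h.symm
  obtain ⟨g, hg⟩ := hσ ⟨c3 j j' m, c3_mem_alternating hjj hjm hjm'⟩
  have hgc : (σ g : Perm α) = c3 j j' m := by rw [hg]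
  have hap := c3_apply hjj hjm hjm'
  have hg0 : (σ g : Perm α) p0 = p0 := by
    rw [hgc, hap, if_neg hj0.symm, if_neg hj0'.symm, if_neg (fun h => hm0 h.symm)]
  have hg1 : (σ g : Perm α) p1 = p1 := by
    rw [hgc, hap, if_neg hj1.symm, if_neg hj1'.symm, if_neg (fun h => hm1 h.symm)]
  have hgi : (σ g : Perm α) i = i := by
    rw [hgc, hap, if_neg hij, if_neg hij', if_neg (fun h => hmi h.symm)]
  have hgj : (σ g : Perm α) j = j' := by
    rw [hgc, hap, if_pos rfl]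
  have e1 := conj_W h01 hσ hker hcard hi0 hi1 g hg0 hg1
  have e2 := conj_W h01 hσ hker hcard hj0 hj1 g hg0 hg1
  rw [hgi] at e1
  rw [hgj] at e2
  have h1 : g * (W h01 σ i * W h01 σ j) ^ 2 * g⁻¹
      = (g * W h01 σ i * g⁻¹ * (g * W h01 σ j * g⁻¹)) ^ 2 := by
    simp only [pow_two]; group
  rw [e1, e2, ← (z_comm h01 hσ hker hcard hi0 hi1 hj0 hj1 hij g).eq, mul_inv_cancel_right] at h1
  exact h1

theorem z_all {i j i' j' : α} (hi0 : i ≠ p0) (hi1 : i ≠ p1) (hj0 : j ≠ p0) (hj1 : j ≠ p1)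
    (hi0' : i' ≠ p0) (hi1' : i' ≠ p1) (hj0' : j' ≠ p0) (hj1' : j' ≠ p1) (hij : i ≠ j)
    (hij' : i' ≠ j') :
    (W h01 σ i * W h01 σ j) ^ 2 = (W h01 σ i' * W h01 σ j') ^ 2 := by
  by_cases h : i = j'
  · -- target is z i' i
    subst h
    rw [z_symm h01 hσ hker hcard hi0 hi1 hi0' hi1' hij'.symm]
    exact z_const h01 hσ hker hcard hi0 hi1 hj0 hj1 hi0' hi1' hij hij'.symm
  · rw [z_const h01 hσ hker hcard hi0 hi1 hj0 hj1 hj0' hj1' hij h,
      z_symm h01 hσ hker hcard hj0' hj1' hi0 hi1 (fun e => h e.symm),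
      z_const h01 hσ hker hcard hj0' hj1' hi0 hi1 hi0' hi1' (fun e => h e.symm) hij'.symm,
      z_symm h01 hσ hker hcard hi0' hi1' hj0' hj1' hij']

end Z

end Cfsg.Agent.Lib.H18.AltStem
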