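import Mathlib
import Cfsg.Agent.Lib.H18.AltStem2

/-!
# Stem extensions of the alternating groups of degree at least 8: the kernel has order ≤ 2
(helper18)
-/

set_option autoImplicit false

namespace Cfsg.Agent.Lib.H18.AltStem

open Equiv Equiv.Perm Cfsg.Agent.Lib.H18
open scoped commutatorElement

section Gen

variable {α : Type*} [Fintype α] [DecidableEq α] {p0 p1 : α} (h01 : p0 ≠ p1)

theorem closure_VG :
    Subgroup.closure {x : alternatingGroup α | ∃ i, i ≠ p0 ∧ i ≠ p1 ∧ x = VG h01 i} = ⊤ := by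
  apply Subgroup.map_injective (Subgroup.subtype_injective (alternatingGroup α))
  rw [MonoidHom.map_closure, ← MonoidHom.range_eq_map, Subgroup.range_subtype]
  refine Eq.trans ?_ (closure_c3_eq h01)
  congr 1
  ext x
  constructor
  · rintro ⟨y, ⟨i, hi0, hi1, rfl⟩, rfl⟩
    exact ⟨i, hi0, hi1, VG_coe h01 hi0 hi1⟩
  · rintro ⟨i, hi0, hi1, rfl⟩
    exact ⟨VG h01 i, ⟨i, hi0, hi1, rfl⟩, VG_coe h01 hi0 hi1⟩

variable {Γ : Type*} [Group Γ] {σ : Γ →* alternatingGroup α}
  (hσ : Function.Surjective σ) (hker : σ.ker ≤ Subgroup.center Γ)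
  (hcard : 8 ≤ Fintype.card α) (hstem : σ.ker ≤ commutator Γ)

include hσ hker hcard hstem in
theorem closure_W :
    Subgroup.closure {x : Γ | ∃ i, i ≠ p0 ∧ i ≠ p1 ∧ x = W h01 σ i} = ⊤ := by
  set Γ₀ := Subgroup.closure {x : Γ | ∃ i, i ≠ p0 ∧ i ≠ p1 ∧ x = W h01 σ i} with hΓ₀
  have hmap : Γ₀.map σ = ⊤ := by
    rw [hΓ₀, MonoidHom.map_closure, ← closure_VG h01]
    congr 1
    ext x
    constructor
    · rintro ⟨y, ⟨i, hi0, hi1, rfl⟩, rfl⟩
      exact ⟨i, hi0, hi1, map_W h01 hσ hker hcard hi0 hi1⟩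
    · rintro ⟨i, hi0, hi1, rfl⟩
      exact ⟨W h01 σ i, ⟨i, hi0, hi1, rfl⟩, map_W h01 hσ hker hcard hi0 hi1⟩
  have hlift : ∀ g : Γ, ∃ g₀ ∈ Γ₀, σ g₀ = σ g := by
    intro g
    have : σ g ∈ Γ₀.map σ := by rw [hmap]; trivial
    obtain ⟨g₀, hg₀, e⟩ := this
    exact ⟨g₀, hg₀, e⟩
  have hcomm : commutator Γ ≤ Γ₀ := by
    rw [commutator_def, Subgroup.commutator_le]
    intro a _ b _
    obtain ⟨a₀, ha₀, ea⟩ := hlift a
    obtain ⟨b₀, hb₀, eb⟩ := hlift b
    have : ⁅a, b⁆ = ⁅a₀, b₀⁆ := by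
      rw [commutatorElement_def, commutatorElement_def]
      exact Lift3.comm_eq_of_map_eq hker eb.symm ea.symm
    rw [this, commutatorElement_def]
    exact Γ₀.mul_mem (Γ₀.mul_mem (Γ₀.mul_mem ha₀ hb₀) (Γ₀.inv_mem ha₀)) (Γ₀.inv_mem hb₀)
  rw [eq_top_iff]
  intro g _
  obtain ⟨g₀, hg₀, e⟩ := hlift g
  have hk : g₀⁻¹ * g ∈ σ.ker := by
    rw [MonoidHom.mem_ker, map_mul, map_inv, e, inv_mul_cancel]
  have : g = g₀ * (g₀⁻¹ * g) := by group
  rw [this]
  exact Γ₀.mul_mem hg₀ (hcomm (hstem hk))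

end Gen

section Final

variable {m : ℕ} {Γ : Type*} [Group Γ] [Finite Γ] {σ : Γ →* alternatingGroup (Fin (m + 2))}

theorem zero_ne_one' : (0 : Fin (m + 2)) ≠ 1 := by
  intro h
  have := congrArg Fin.val h
  simp at this

/-- The index points. -/
def pt (j : ℕ) (hj : j < m) : Fin (m + 2) := ⟨j + 2, by omega⟩

theorem pt_ne_zero (j : ℕ) (hj : j < m) : pt j hj ≠ 0 := by
  intro h
  have := congrArg Fin.val h
  simp [pt] at this

theorem pt_ne_one (j : ℕ) (hj : j < m) : pt j hj ≠ 1 := by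
  intro h
  have := congrArg Fin.val h
  simp [pt] at this

theorem exists_pt (i : Fin (m + 2)) (hi0 : i ≠ 0) (hi1 : i ≠ 1) :
    ∃ j, ∃ hj : j < m, i = pt j hj := by
  have h0 : i.val ≠ 0 := fun h => hi0 (Fin.ext h)
  have h1 : i.val ≠ 1 := fun h => hi1 (Fin.ext (by simpa using h))
  refine ⟨i.val - 2, by omega, ?_⟩
  apply Fin.ext
  simp only [pt]
  omega

/-- **Main theorem for degree at least 8.** -/
theorem card_ker_le_two (hm : 6 ≤ m) (hσ : Function.Surjective σ)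
    (hker : σ.ker ≤ Subgroup.center Γ) (hstem : σ.ker ≤ commutator Γ) :
    Nat.card σ.ker ≤ 2 := by
  have h01 : (0 : Fin (m + 2)) ≠ 1 := zero_ne_one'
  have hcard : 8 ≤ Fintype.card (Fin (m + 2)) := by rw [Fintype.card_fin]; omega
  -- the element z
  set i₀ : Fin (m + 2) := pt 0 (by omega) with hi₀
  set j₀ : Fin (m + 2) := pt 1 (by omega) with hj₀
  have hi₀0 := pt_ne_zero (m := m) 0 (by omega)
  have hi₀1 := pt_ne_one (m := m) 0 (by omega)
  have hj₀0 := pt_ne_zero (m := m) 1 (by omega)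
  have hj₀1 := pt_ne_one (m := m) 1 (by omega)
  have hij₀ : i₀ ≠ j₀ := by
    intro h
    have := congrArg Fin.val h
    simp [hi₀, hj₀, pt] at this
  set z : Γ := (W h01 σ i₀ * W h01 σ j₀) ^ 2 with hz
  have hzc : ∀ g, Commute z g := z_comm h01 hσ hker hcard hi₀0 hi₀1 hj₀0 hj₀1 hij₀
  have hz2 : z ^ 2 = 1 := by
    rw [pow_two]
    exact z_sq h01 hσ hker hcard hi₀0 hi₀1 hj₀0 hj₀1 hij₀
  set N : Subgroup Γ := Subgroup.zpowers z with hN
  have hNn : N.Normal := by
    constructor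
    intro n hn g
    obtain ⟨k, rfl⟩ := Subgroup.mem_zpowers_iff.mp hn
    have : Commute (z ^ k) g := (hzc g).zpow_left k
    rw [← this.eq, mul_inv_cancel_right]
    exact hn
  have hNcard : Nat.card N ≤ 2 := by
    rw [hN, Nat.card_zpowers]
    exact orderOf_le_of_pow_eq_one (by norm_num) hz2
  -- the quotient satisfies Carmichael's relations
  let a : ℕ → Γ ⧸ N := fun j =>
    if hj : j < m then QuotientGroup.mk' N (W h01 σ (pt j hj)) else 1
  have ha : ∀ j (hj : j < m), a j = QuotientGroup.mk' N (W h01 σ (pt j hj)) := fun j hj => by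
    simp only [a, dif_pos hj]
  have hrel : Car3.Rel a m := by
    constructor
    · intro j hj
      rw [ha j hj, ← map_mul, ← map_mul, ← pow_three', W_pow h01 hσ hker hcard (pt_ne_zero j hj)
        (pt_ne_one j hj), map_one]
    · intro j j' hj hj' hjj
      have hne : pt j hj ≠ pt j' hj' := by
        intro h
        have := congrArg Fin.val h
        simp only [pt] at this
        omega
      rw [ha j hj, ha j' hj', ← map_mul, ← map_mul, ← pow_two,
        z_all h01 hσ hker hcard (pt_ne_zero j hj) (pt_ne_one j hj) (pt_ne_zero j' hj')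
          (pt_ne_one j' hj') hi₀0 hi₀1 hj₀0 hj₀1 hne hij₀]
      exact (QuotientGroup.eq_one_iff _).mpr (Subgroup.mem_zpowers z)
  have hgen : Subgroup.closure {g | ∃ j, j < m ∧ g = a j} = ⊤ := by
    have h1 := closure_W h01 hσ hker hcard hstem
    have h2 : (Subgroup.closure {x : Γ | ∃ i, i ≠ 0 ∧ i ≠ 1 ∧ x = W h01 σ i}).map
        (QuotientGroup.mk' N) = ⊤ := by
      rw [h1, ← MonoidHom.range_eq_map, MonoidHom.range_eq_top]
      exact QuotientGroup.mk'_surjective N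
    rw [MonoidHom.map_closure] at h2
    rw [← h2]
    congr 1
    ext x
    constructor
    · rintro ⟨j, hj, rfl⟩
      exact ⟨W h01 σ (pt j hj), ⟨pt j hj, pt_ne_zero j hj, pt_ne_one j hj, rfl⟩, (ha j hj).symm⟩
    · rintro ⟨y, ⟨i, hi0, hi1, rfl⟩, rfl⟩
      obtain ⟨j, hj, rfl⟩ := exists_pt i hi0 hi1
      exact ⟨j, hj, (ha j hj).symm⟩
  obtain ⟨hfinQ, hcardQ⟩ := Car3.card_bound m a hrel hgen
  -- counting
  have c1 : Nat.card Γ = Nat.card (Γ ⧸ N) * Nat.card N :=
    Subgroup.card_eq_card_quotient_mul_card_subgroup N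
  have c2 : Nat.card Γ = Nat.card (Γ ⧸ σ.ker) * Nat.card σ.ker :=
    Subgroup.card_eq_card_quotient_mul_card_subgroup σ.ker
  have c3 : Nat.card (Γ ⧸ σ.ker) = Nat.card (alternatingGroup (Fin (m + 2))) :=
    Nat.card_congr (QuotientGroup.quotientKerEquivOfSurjective σ hσ).toEquiv
  have c4 : 2 * Nat.card (alternatingGroup (Fin (m + 2))) = (m + 2).factorial := by
    haveI : Nontrivial (Fin (m + 2)) := ⟨⟨0, 1, h01⟩⟩
    rw [two_mul_nat_card_alternatingGroup, Nat.card_perm, Nat.card_eq_fintype_card,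
      Fintype.card_fin]
  have hpos : 0 < (m + 2).factorial := Nat.factorial_pos _
  have key : Nat.card σ.ker * (m + 2).factorial ≤ 2 * (m + 2).factorial := by
    calc Nat.card σ.ker * (m + 2).factorial
        = 2 * (Nat.card (Γ ⧸ σ.ker) * Nat.card σ.ker) := by rw [c3, ← c4]; ring
      _ = 2 * Nat.card Γ := by rw [← c2]
      _ = (2 * Nat.card (Γ ⧸ N)) * Nat.card N := by rw [c1]; ring
      _ ≤ (m + 2).factorial * 2 := Nat.mul_le_mul hcardQ hNcard
      _ = 2 * (m + 2).factorial := by ring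
  exact Nat.le_of_mul_le_mul_right key hpos

end Final

end Cfsg.Agent.Lib.H18.AltStem
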