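import Mathlib

/-!
# The relations of the double cover of the alternating groups in a Clifford-type algebra
(helper18)

In a ring of characteristic 3 with pairwise anticommuting involutions `p q r s`, the elements
`w r = 1 - p q - q r - r p` satisfy `w r ^ 3 = 1` and `(w r * w s) ^ 2 = -1`.
-/

set_option autoImplicit false

namespace Cfsg.Agent.Lib.H18.SpinRel

variable {A : Type*} [Ring A]

/-- The lift of the 3-cycle. -/
def w (p q r : A) : A := 1 - p * q - q * r - r * p

section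

variable {p q r s : A}

theorem S_sq (hp : p * p = 1) (hq : q * q = 1) (hr : r * r = 1)
    (hqp : q * p = -(p * q)) (hrp : r * p = -(p * r)) (hrq : r * q = -(q * r)) :
    (p * q + q * r + r * p) * (p * q + q * r + r * p) = -(1 + 1 + 1) := by
  have hp' : ∀ t, p * (p * t) = t := fun t => by rw [← mul_assoc, hp, one_mul]
  have hq' : ∀ t, q * (q * t) = t := fun t => by rw [← mul_assoc, hq, one_mul]
  have hr' : ∀ t, r * (r * t) = t := fun t => by rw [← mul_assoc, hr, one_mul]
  have hqp' : ∀ t, q * (p * t) = -(p * (q * t)) := fun t => by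
    rw [← mul_assoc, hqp, neg_mul, mul_assoc]
  have hrp' : ∀ t, r * (p * t) = -(p * (r * t)) := fun t => by
    rw [← mul_assoc, hrp, neg_mul, mul_assoc]
  have hrq' : ∀ t, r * (q * t) = -(q * (r * t)) := fun t => by
    rw [← mul_assoc, hrq, neg_mul, mul_assoc]
  simp only [mul_add, add_mul, mul_assoc, hp, hq, hr, hp', hq', hr', hqp, hrp, hrq, hqp', hrp',
    hrq', mul_neg, neg_mul, neg_neg, mul_one]
  abel

theorem w_eq (p q r : A) : w p q r = 1 - (p * q + q * r + r * p) := by
  rw [w]; abel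

theorem w_pow_three (h3 : (1 + 1 + 1 : A) = 0) (hp : p * p = 1) (hq : q * q = 1) (hr : r * r = 1)
    (hqp : q * p = -(p * q)) (hrp : r * p = -(p * r)) (hrq : r * q = -(q * r)) :
    w p q r ^ 3 = 1 := by
  have hS := S_sq hp hq hr hqp hrp hrq
  rw [h3, neg_zero] at hS
  rw [w_eq]
  set S := p * q + q * r + r * p with hSdef
  have h3S : S + S + S = 0 := by
    have : S + S + S = (1 + 1 + 1) * S := by noncomm_ring
    rw [this, h3, zero_mul]
  have e1 : (1 - S) * (1 - S) = 1 + S := by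
    have : (1 - S) * (1 - S) = 1 + S - (S + S + S) + S * S := by noncomm_ring
    rw [this, h3S, hS, sub_zero, add_zero]
  have e2 : (1 + S) * (1 - S) = 1 := by
    have : (1 + S) * (1 - S) = 1 - S * S := by noncomm_ring
    rw [this, hS, sub_zero]
  rw [pow_succ, pow_two, e1, e2]

theorem V_sq (hp : p * p = 1) (hq : q * q = 1) (hr : r * r = 1) (hs : s * s = 1)
    (hqp : q * p = -(p * q)) (hrp : r * p = -(p * r)) (hrq : r * q = -(q * r))
    (hsp : s * p = -(p * s)) (hsq : s * q = -(q * s)) (hsr : s * r = -(r * s)) :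
    ((p - r) * (q - s)) * ((p - r) * (q - s)) = -(1 + 1 + 1 + 1) := by
  have hp' : ∀ t, p * (p * t) = t := fun t => by rw [← mul_assoc, hp, one_mul]
  have hq' : ∀ t, q * (q * t) = t := fun t => by rw [← mul_assoc, hq, one_mul]
  have hr' : ∀ t, r * (r * t) = t := fun t => by rw [← mul_assoc, hr, one_mul]
  have hs' : ∀ t, s * (s * t) = t := fun t => by rw [← mul_assoc, hs, one_mul]
  have hqp' : ∀ t, q * (p * t) = -(p * (q * t)) := fun t => by
    rw [← mul_assoc, hqp, neg_mul, mul_assoc]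
  have hrp' : ∀ t, r * (p * t) = -(p * (r * t)) := fun t => by
    rw [← mul_assoc, hrp, neg_mul, mul_assoc]
  have hrq' : ∀ t, r * (q * t) = -(q * (r * t)) := fun t => by
    rw [← mul_assoc, hrq, neg_mul, mul_assoc]
  have hsp' : ∀ t, s * (p * t) = -(p * (s * t)) := fun t => by
    rw [← mul_assoc, hsp, neg_mul, mul_assoc]
  have hsq' : ∀ t, s * (q * t) = -(q * (s * t)) := fun t => by
    rw [← mul_assoc, hsq, neg_mul, mul_assoc]
  have hsr' : ∀ t, s * (r * t) = -(r * (s * t)) := fun t => by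
    rw [← mul_assoc, hsr, neg_mul, mul_assoc]
  simp only [mul_sub, sub_mul, mul_assoc, hp, hq, hr, hs, hp', hq', hr', hs', hqp, hrp, hrq,
    hsp, hsq, hsr, hqp', hrp', hrq', hsp', hsq', hsr', mul_neg, neg_mul, neg_neg, mul_one]
  abel

theorem w_mul_w (hp : p * p = 1) (hq : q * q = 1) (hr : r * r = 1) (hs : s * s = 1)
    (hqp : q * p = -(p * q)) (hrp : r * p = -(p * r)) (hrq : r * q = -(q * r))
    (hsp : s * p = -(p * s)) (hsq : s * q = -(q * s)) (hsr : s * r = -(r * s)) :
    w p q r * w p q s = -((p - r) * (q - s) + (p - r) * (q - s)) := by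
  have hp' : ∀ t, p * (p * t) = t := fun t => by rw [← mul_assoc, hp, one_mul]
  have hq' : ∀ t, q * (q * t) = t := fun t => by rw [← mul_assoc, hq, one_mul]
  have hr' : ∀ t, r * (r * t) = t := fun t => by rw [← mul_assoc, hr, one_mul]
  have hs' : ∀ t, s * (s * t) = t := fun t => by rw [← mul_assoc, hs, one_mul]
  have hqp' : ∀ t, q * (p * t) = -(p * (q * t)) := fun t => by
    rw [← mul_assoc, hqp, neg_mul, mul_assoc]
  have hrp' : ∀ t, r * (p * t) = -(p * (r * t)) := fun t => by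
    rw [← mul_assoc, hrp, neg_mul, mul_assoc]
  have hrq' : ∀ t, r * (q * t) = -(q * (r * t)) := fun t => by
    rw [← mul_assoc, hrq, neg_mul, mul_assoc]
  have hsp' : ∀ t, s * (p * t) = -(p * (s * t)) := fun t => by
    rw [← mul_assoc, hsp, neg_mul, mul_assoc]
  have hsq' : ∀ t, s * (q * t) = -(q * (s * t)) := fun t => by
    rw [← mul_assoc, hsq, neg_mul, mul_assoc]
  have hsr' : ∀ t, s * (r * t) = -(r * (s * t)) := fun t => by
    rw [← mul_assoc, hsr, neg_mul, mul_assoc]
  simp only [w, mul_sub, sub_mul, mul_assoc, hp, hq, hr, hs, hp', hq', hr', hs', hqp, hrp, hrq,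
    hsp, hsq, hsr, hqp', hrp', hrq', hsp', hsq', hsr', mul_neg, neg_mul, neg_neg, mul_one,
    one_mul]
  abel

theorem w_mul_w_sq (h3 : (1 + 1 + 1 : A) = 0) (hp : p * p = 1) (hq : q * q = 1) (hr : r * r = 1)
    (hs : s * s = 1)
    (hqp : q * p = -(p * q)) (hrp : r * p = -(p * r)) (hrq : r * q = -(q * r))
    (hsp : s * p = -(p * s)) (hsq : s * q = -(q * s)) (hsr : s * r = -(r * s)) :
    (w p q r * w p q s) ^ 2 = -1 := by
  rw [w_mul_w hp hq hr hs hqp hrp hrq hsp hsq hsr, pow_two]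
  have hV := V_sq hp hq hr hs hqp hrp hrq hsp hsq hsr
  set V := (p - r) * (q - s) with hVdef
  have : (-(V + V)) * (-(V + V)) = V * V + V * V + V * V + V * V := by noncomm_ring
  rw [this, hV]
  have h16 : -(1 + 1 + 1 + 1 : A) + -(1 + 1 + 1 + 1) + -(1 + 1 + 1 + 1) + -(1 + 1 + 1 + 1)
      = -1 - ((1 + 1 + 1) + (1 + 1 + 1) + (1 + 1 + 1) + (1 + 1 + 1) + (1 + 1 + 1)) := by abel
  rw [h16, h3]
  abel

end

end Cfsg.Agent.Lib.H18.SpinRel
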