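import Mathlib
import Cfsg.Agent.Lib.H18.SpinRel

/-!
# A Clifford algebra model for the double cover of the alternating groups (helper18)

In the Clifford algebra of the sum of squares over `ZMod 3` the elements
`W k = 1 - x₀ x₁ - x₁ x_k - x_k x₀` are units of order dividing `3` with
`(W k * W l) ^ 2 = -1 ≠ 1`.
-/

set_option autoImplicit false

namespace Cfsg.Agent.Lib.H18.SpinModel

open Cfsg.Agent.Lib.H18

/-- The sum of squares. -/
noncomputable def Q (n : ℕ) : QuadraticForm (ZMod 3) (Fin n → ZMod 3) :=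
  QuadraticMap.weightedSumSquares (ZMod 3) (fun _ : Fin n => (1 : ZMod 3))

/-- The algebra. -/
abbrev A (n : ℕ) : Type := CliffordAlgebra (Q n)

variable {n : ℕ}

/-- The basis vectors. -/
noncomputable def x (k : Fin n) : A n := CliffordAlgebra.ι (Q n) (Pi.single k 1)

theorem Q_single (k : Fin n) : Q n (Pi.single k 1) = 1 := by
  rw [Q, QuadraticMap.weightedSumSquares_apply]
  rw [Finset.sum_eq_single k]
  · simp
  · intro b _ hb
    simp [Pi.single_eq_of_ne hb]
  · intro h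
    exact absurd (Finset.mem_univ k) h

theorem Q_single_add (k l : Fin n) (hkl : k ≠ l) :
    Q n (Pi.single k 1 + Pi.single l 1) = Q n (Pi.single k 1) + Q n (Pi.single l 1) := by
  rw [Q_single, Q_single, Q, QuadraticMap.weightedSumSquares_apply]
  rw [← Finset.add_sum_erase _ _ (Finset.mem_univ k)]
  rw [← Finset.add_sum_erase _ _ (Finset.mem_erase.mpr ⟨hkl.symm, Finset.mem_univ l⟩)]
  rw [Finset.sum_eq_zero]
  · simp [Pi.single_eq_of_ne hkl, Pi.single_eq_of_ne hkl.symm]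
  · intro b hb
    rw [Finset.mem_erase, Finset.mem_erase] at hb
    simp [Pi.single_eq_of_ne hb.1, Pi.single_eq_of_ne hb.2.1]

theorem x_sq (k : Fin n) : x k * x k = 1 := by
  rw [x, CliffordAlgebra.ι_sq_scalar, Q_single, map_one]

theorem x_anti (k l : Fin n) (hkl : k ≠ l) : x k * x l = -(x l * x k) := by
  rw [x, x]
  exact CliffordAlgebra.ι_mul_ι_comm_of_isOrtho (Q_single_add k l hkl)

theorem three_eq_zero : (1 + 1 + 1 : A n) = 0 := by
  have h : (1 + 1 + 1 : ZMod 3) = 0 := by decide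
  have := congrArg (algebraMap (ZMod 3) (A n)) h
  simpa using this

theorem nontrivial_A : Nontrivial (A n) := by
  haveI : Invertible (2 : ZMod 3) := ⟨2, by decide, by decide⟩
  infer_instance

theorem neg_one_ne_one : (-1 : A n) ≠ 1 := by
  haveI := nontrivial_A (n := n)
  intro h
  have h3 := three_eq_zero (n := n)
  have h1 : (1 : A n) = 0 := by
    have : (1 + 1 + 1 : A n) = 1 + (1 + -1) := by rw [h]; abel
    rw [this, add_neg_cancel, add_zero] at h3
    exact h3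
  exact one_ne_zero h1

variable {m : ℕ}

/-- The lift of the 3-cycle `(0 1 k)` in the algebra. -/
noncomputable def Wa (k : Fin (m + 2)) : A (m + 2) := SpinRel.w (x 0) (x 1) (x k)

theorem zero_ne_one'' : (0 : Fin (m + 2)) ≠ 1 := by
  intro h
  have := congrArg Fin.val h
  simp at this

theorem Wa_pow (k : Fin (m + 2)) (hk0 : k ≠ 0) (hk1 : k ≠ 1) : Wa k ^ 3 = 1 :=
  SpinRel.w_pow_three three_eq_zero (x_sq 0) (x_sq 1) (x_sq k)
    (x_anti 1 0 zero_ne_one''.symm) (x_anti k 0 hk0) (x_anti k 1 hk1)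

theorem Wa_mul_sq (k l : Fin (m + 2)) (hk0 : k ≠ 0) (hk1 : k ≠ 1) (hl0 : l ≠ 0) (hl1 : l ≠ 1)
    (hkl : k ≠ l) : (Wa k * Wa l) ^ 2 = -1 :=
  SpinRel.w_mul_w_sq three_eq_zero (x_sq 0) (x_sq 1) (x_sq k) (x_sq l)
    (x_anti 1 0 zero_ne_one''.symm) (x_anti k 0 hk0) (x_anti k 1 hk1)
    (x_anti l 0 hl0) (x_anti l 1 hl1) (x_anti l k hkl.symm)

/-- The lift of the 3-cycle `(0 1 k)` as a unit (total function). -/
noncomputable def WU (k : Fin (m + 2)) : (A (m + 2))ˣ :=
  if h : k ≠ 0 ∧ k ≠ 1 then Units.ofPowEqOne (Wa k) 3 (Wa_pow k h.1 h.2) (by norm_num) else 1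

theorem WU_val (k : Fin (m + 2)) (hk0 : k ≠ 0) (hk1 : k ≠ 1) : (WU k : A (m + 2)) = Wa k := by
  rw [WU, dif_pos ⟨hk0, hk1⟩]
  rfl

theorem WU_pow (k : Fin (m + 2)) : WU k ^ 3 = 1 := by
  by_cases h : k ≠ 0 ∧ k ≠ 1
  · apply Units.ext
    rw [Units.val_pow_eq_pow_val, WU_val k h.1 h.2, Wa_pow k h.1 h.2, Units.val_one]
  · rw [WU, dif_neg h, one_pow]

theorem WU_mul_sq (k l : Fin (m + 2)) (hk0 : k ≠ 0) (hk1 : k ≠ 1) (hl0 : l ≠ 0) (hl1 : l ≠ 1)
    (hkl : k ≠ l) : (WU k * WU l) ^ 2 = -1 := by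
  apply Units.ext
  rw [Units.val_pow_eq_pow_val, Units.val_mul, WU_val k hk0 hk1, WU_val l hl0 hl1,
    Wa_mul_sq k l hk0 hk1 hl0 hl1 hkl, Units.val_neg, Units.val_one]

theorem neg_one_units_ne_one : (-1 : (A n)ˣ) ≠ 1 := by
  intro h
  have := congrArg Units.val h
  rw [Units.val_neg, Units.val_one] at this
  exact neg_one_ne_one this

end Cfsg.Agent.Lib.H18.SpinModel
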