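import Mathlib
import Cfsg.Agent.Lib.H18.SpinModel
import Cfsg.Agent.Lib.H18.AltStem3

/-!
# The double cover of the alternating groups, by generators and relations (helper18)

Generators `z`, `w i` (`i < m`), relations `w i ^ 3 = 1`, `(w i * w j) ^ 2 = z` (`i ≠ j`),
`z ^ 2 = 1`, `z` central.  The quotient by `z` is the alternating group of degree `m + 2`
(Carmichael), and `z ≠ 1` by the Clifford algebra model.
-/

set_option autoImplicit false

namespace Cfsg.Agent.Lib.H18.SpinCover

open Cfsg.Agent.Lib.H18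

/-- The relators. -/
def rels (m : ℕ) : Set (FreeGroup (Option (Fin m))) :=
  {r | (∃ i : Fin m, r = FreeGroup.of (some i) ^ 3) ∨
    (∃ i j : Fin m, i ≠ j ∧
      r = (FreeGroup.of (some i) * FreeGroup.of (some j)) ^ 2 * (FreeGroup.of none)⁻¹) ∨
    r = FreeGroup.of none ^ 2 ∨
    ∃ i : Fin m, r = FreeGroup.of none * FreeGroup.of (some i) * (FreeGroup.of none)⁻¹ *
      (FreeGroup.of (some i))⁻¹}

/-- The covering group. -/
abbrev P (m : ℕ) : Type := PresentedGroup (rels m)

variable {m : ℕ}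

/-- The central involution. -/
def z : P m := PresentedGroup.of none

/-- The generators. -/
def w (i : Fin m) : P m := PresentedGroup.of (some i)

theorem w_pow (i : Fin m) : w i ^ 3 = 1 := by
  have := PresentedGroup.one_of_mem (rels := rels m) (x := FreeGroup.of (some i) ^ 3)
    (Or.inl ⟨i, rfl⟩)
  rw [map_pow] at this
  exact this

theorem w_mul_sq (i j : Fin m) (hij : i ≠ j) : (w i * w j) ^ 2 = z := by
  have := PresentedGroup.one_of_mem (rels := rels m)
    (x := (FreeGroup.of (some i) * FreeGroup.of (some j)) ^ 2 * (FreeGroup.of none)⁻¹)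
    (Or.inr (Or.inl ⟨i, j, hij, rfl⟩))
  rw [map_mul, map_pow, map_mul, map_inv] at this
  exact mul_inv_eq_one.mp this

theorem z_sq : (z : P m) ^ 2 = 1 := by
  have := PresentedGroup.one_of_mem (rels := rels m) (x := FreeGroup.of none ^ 2)
    (Or.inr (Or.inr (Or.inl rfl)))
  rw [map_pow] at this
  exact this

theorem z_mul_w (i : Fin m) : z * w i = w i * z := by
  have := PresentedGroup.one_of_mem (rels := rels m)
    (x := FreeGroup.of none * FreeGroup.of (some i) * (FreeGroup.of none)⁻¹ *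
      (FreeGroup.of (some i))⁻¹)
    (Or.inr (Or.inr (Or.inr ⟨i, rfl⟩)))
  rw [map_mul, map_mul, map_mul, map_inv, map_inv] at this
  have h2 := mul_inv_eq_one.mp this
  exact mul_inv_eq_iff_eq_mul.mp h2

/-- Homomorphisms out of the covering group. -/
def homOf {G : Type*} [Group G] (zG : G) (wG : Fin m → G) (h1 : ∀ i, wG i ^ 3 = 1)
    (h2 : ∀ i j, i ≠ j → (wG i * wG j) ^ 2 = zG) (h3 : zG ^ 2 = 1)
    (h4 : ∀ i, zG * wG i = wG i * zG) : P m →* G :=
  PresentedGroup.toGroup (f := fun o : Option (Fin m) => o.elim zG wG) (by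
    rintro r (⟨i, rfl⟩ | ⟨i, j, hij, rfl⟩ | rfl | ⟨i, rfl⟩)
    · rw [map_pow, FreeGroup.lift_apply_of]
      exact h1 i
    · rw [map_mul, map_pow, map_mul, map_inv, FreeGroup.lift_apply_of, FreeGroup.lift_apply_of,
        FreeGroup.lift_apply_of]
      exact mul_inv_eq_one.mpr (h2 i j hij)
    · rw [map_pow, FreeGroup.lift_apply_of]
      exact h3
    · rw [map_mul, map_mul, map_mul, map_inv, map_inv, FreeGroup.lift_apply_of,
        FreeGroup.lift_apply_of]
      exact mul_inv_eq_one.mpr (mul_inv_eq_iff_eq_mul.mpr (h4 i)))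

theorem homOf_z {G : Type*} [Group G] (zG : G) (wG : Fin m → G) (h1 : ∀ i, wG i ^ 3 = 1)
    (h2 : ∀ i j, i ≠ j → (wG i * wG j) ^ 2 = zG) (h3 : zG ^ 2 = 1)
    (h4 : ∀ i, zG * wG i = wG i * zG) : homOf zG wG h1 h2 h3 h4 z = zG := by
  rw [homOf, z, PresentedGroup.toGroup.of]
  rfl

theorem homOf_w {G : Type*} [Group G] (zG : G) (wG : Fin m → G) (h1 : ∀ i, wG i ^ 3 = 1)
    (h2 : ∀ i j, i ≠ j → (wG i * wG j) ^ 2 = zG) (h3 : zG ^ 2 = 1)
    (h4 : ∀ i, zG * wG i = wG i * zG) (i : Fin m) : homOf zG wG h1 h2 h3 h4 (w i) = wG i := by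
  rw [homOf, w, PresentedGroup.toGroup.of]
  rfl

theorem pt_ne {i j : Fin m} (hij : i ≠ j) :
    AltStem.pt i.val i.isLt ≠ AltStem.pt j.val j.isLt := by
  intro h
  have := congrArg Fin.val h
  simp only [AltStem.pt] at this
  exact hij (Fin.ext (by omega))

/-- The map to the alternating group. -/
noncomputable def φ : P m →* alternatingGroup (Fin (m + 2)) :=
  homOf 1 (fun i => AltStem.VG AltStem.zero_ne_one' (AltStem.pt i.val i.isLt))
    (fun i => AltStem.VG_pow _ _)
    (fun i j hij => AltStem.VG_mul_sq _ (AltStem.pt_ne_zero _ _) (AltStem.pt_ne_one _ _)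
      (AltStem.pt_ne_zero _ _) (AltStem.pt_ne_one _ _) (pt_ne hij))
    (one_pow 2) (fun i => by rw [one_mul, mul_one])

/-- The map to the units of the Clifford algebra. -/
noncomputable def ψ : P m →* (SpinModel.A (m + 2))ˣ :=
  homOf (-1) (fun i => SpinModel.WU (AltStem.pt i.val i.isLt))
    (fun i => SpinModel.WU_pow _)
    (fun i j hij => SpinModel.WU_mul_sq _ _ (AltStem.pt_ne_zero _ _) (AltStem.pt_ne_one _ _)
      (AltStem.pt_ne_zero _ _) (AltStem.pt_ne_one _ _) (pt_ne hij))
    (by rw [neg_pow, one_pow, mul_one]; norm_num) (fun i => by rw [neg_one_mul, mul_neg_one])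

theorem z_ne_one : (z : P m) ≠ 1 := by
  intro h
  have := congrArg ψ h
  rw [ψ, homOf_z, map_one] at this
  exact SpinModel.neg_one_units_ne_one this

theorem orderOf_z : orderOf (z : P m) = 2 := by
  haveI : Fact (Nat.Prime 2) := ⟨Nat.prime_two⟩
  exact orderOf_eq_prime z_sq z_ne_one

theorem z_comm (g : P m) : g * z = z * g := by
  have : g ∈ Subgroup.centralizer {(z : P m)} := by
    apply PresentedGroup.generated_by
    intro j
    rw [Subgroup.mem_centralizer_iff]
    intro h hh
    rw [Set.mem_singleton_iff] at hh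
    subst hh
    cases j with
    | none => rfl
    | some i => exact z_mul_w i
  rw [Subgroup.mem_centralizer_iff] at this
  exact (this z rfl).symm

theorem z_mem_center : (z : P m) ∈ Subgroup.center (P m) := by
  rw [Subgroup.mem_center_iff]
  exact z_comm

theorem z_mem_commutator (hm : 2 ≤ m) : (z : P m) ∈ commutator (P m) := by
  rw [← Abelianization.ker_of, MonoidHom.mem_ker]
  set ab : P m →* Abelianization (P m) := Abelianization.of with hab
  have e2 : ab z ^ 2 = 1 := by rw [← map_pow, z_sq, map_one]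
  have hne : (⟨0, by omega⟩ : Fin m) ≠ ⟨1, by omega⟩ := by
    intro h
    have := congrArg Fin.val h
    simp at this
  have e3 : ab z ^ 3 = 1 := by
    have hw : ∀ i : Fin m, ab (w i) ^ 3 = 1 := fun i => by rw [← map_pow, w_pow, map_one]
    rw [← w_mul_sq _ _ hne, map_pow, map_mul, ← pow_mul, mul_pow,
      show 2 * 3 = 3 * 2 from rfl, pow_mul, pow_mul, hw, hw, one_pow, one_mul]
  calc ab z = ab z ^ 3 * (ab z ^ 2)⁻¹ := by group
    _ = 1 := by rw [e2, e3, inv_one, one_mul]

instance normal_zpowers : (Subgroup.zpowers (z : P m)).Normal := by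
  constructor
  intro n hn g
  obtain ⟨k, rfl⟩ := Subgroup.mem_zpowers_iff.mp hn
  have hc : Commute g (z ^ k) := (show Commute g z from z_comm g).zpow_right k
  rw [hc.eq, mul_inv_cancel_right]
  exact hn

/-- The quotient. -/
abbrev Pbar (m : ℕ) : Type := P m ⧸ Subgroup.zpowers (z : P m)

/-- Carmichael's generators of the quotient. -/
noncomputable def a (m : ℕ) : ℕ → Pbar m := fun j =>
  if hj : j < m then QuotientGroup.mk' (Subgroup.zpowers (z : P m)) (w ⟨j, hj⟩) else 1

theorem a_eq (j : ℕ) (hj : j < m) :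
    a m j = QuotientGroup.mk' (Subgroup.zpowers (z : P m)) (w ⟨j, hj⟩) := by
  simp only [a, dif_pos hj]

theorem rel_a : Car3.Rel (a m) m := by
  constructor
  · intro j hj
    rw [a_eq j hj, ← map_mul, ← map_mul, ← pow_three', w_pow, map_one]
  · intro j j' hj hj' hjj
    have hne : (⟨j, hj⟩ : Fin m) ≠ ⟨j', hj'⟩ := by
      intro h
      exact hjj (congrArg Fin.val h)
    rw [a_eq j hj, a_eq j' hj', ← map_mul, ← map_mul, ← pow_two, w_mul_sq _ _ hne]
    exact (QuotientGroup.eq_one_iff _).mpr (Subgroup.mem_zpowers z)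

theorem gen_a : Subgroup.closure {g | ∃ j, j < m ∧ g = a m j} = ⊤ := by
  rw [eq_top_iff]
  intro g _
  obtain ⟨g, rfl⟩ := QuotientGroup.mk'_surjective (Subgroup.zpowers (z : P m)) g
  have : g ∈ (Subgroup.closure {g | ∃ j, j < m ∧ g = a m j}).comap
      (QuotientGroup.mk' (Subgroup.zpowers (z : P m))) := by
    apply PresentedGroup.generated_by
    intro j
    rw [Subgroup.mem_comap]
    cases j with
    | none =>
      have : QuotientGroup.mk' (Subgroup.zpowers (z : P m)) (PresentedGroup.of none) = 1 :=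
        (QuotientGroup.eq_one_iff _).mpr (Subgroup.mem_zpowers z)
      rw [this]
      exact Subgroup.one_mem _
    | some i =>
      apply Subgroup.subset_closure
      exact ⟨i.val, i.isLt, (a_eq i.val i.isLt).symm ▸ rfl⟩
  exact this

theorem finite_Pbar : Finite (Pbar m) := (Car3.card_bound m (a m) rel_a gen_a).1

theorem card_Pbar : 2 * Nat.card (Pbar m) ≤ (m + 2).factorial :=
  (Car3.card_bound m (a m) rel_a gen_a).2

theorem finite_P : Finite (P m) := by
  haveI := finite_Pbar (m := m)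
  haveI : Finite (Subgroup.zpowers (z : P m)) := by
    apply Nat.finite_of_card_ne_zero
    rw [Nat.card_zpowers, orderOf_z]
    norm_num
  exact Finite.of_equiv _ (Subgroup.groupEquivQuotientProdSubgroup
    (s := Subgroup.zpowers (z : P m))).symm

theorem φ_z : φ (z : P m) = 1 := by
  rw [φ, homOf_z]

theorem φ_w (i : Fin m) :
    φ (w i) = AltStem.VG AltStem.zero_ne_one' (AltStem.pt i.val i.isLt) := by
  rw [φ, homOf_w]

/-- The induced map on the quotient. -/
noncomputable def φbar : Pbar m →* alternatingGroup (Fin (m + 2)) :=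
  QuotientGroup.lift (Subgroup.zpowers (z : P m)) φ (by
    intro x hx
    obtain ⟨k, rfl⟩ := Subgroup.mem_zpowers_iff.mp hx
    rw [MonoidHom.mem_ker, map_zpow, φ_z, one_zpow])

theorem φ_surjective : Function.Surjective (φ : P m →* alternatingGroup (Fin (m + 2))) := by
  rw [← MonoidHom.range_eq_top, eq_top_iff, ← AltStem.closure_VG AltStem.zero_ne_one',
    Subgroup.closure_le]
  rintro x ⟨i, hi0, hi1, rfl⟩
  obtain ⟨j, hj, rfl⟩ := AltStem.exists_pt i hi0 hi1
  exact ⟨w ⟨j, hj⟩, φ_w _⟩

theorem φbar_surjective : Function.Surjective (φbar : Pbar m →* _) := by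
  intro y
  obtain ⟨x, rfl⟩ := φ_surjective y
  exact ⟨QuotientGroup.mk' _ x, rfl⟩

theorem φbar_bijective : Function.Bijective (φbar : Pbar m →* _) := by
  haveI := finite_Pbar (m := m)
  apply φbar_surjective.bijective_of_nat_card_le
  have h1 := card_Pbar (m := m)
  haveI : Nontrivial (Fin (m + 2)) := ⟨⟨0, 1, AltStem.zero_ne_one'⟩⟩
  have h2 := two_mul_nat_card_alternatingGroup (α := Fin (m + 2))
  rw [Nat.card_perm, Nat.card_fin] at h2
  omega

/-- **Existence of the double cover of the alternating groups.** -/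
theorem exists_cover (hm : 2 ≤ m) :
    ∃ (Γ : Type) (_ : Group Γ) (_ : Finite Γ) (z : Γ) (_ : z ∈ Subgroup.center Γ),
      orderOf z = 2 ∧ z ∈ commutator Γ ∧
        ∃ _ : (Subgroup.zpowers z).Normal,
          Nonempty (Γ ⧸ Subgroup.zpowers z ≃* alternatingGroup (Fin (m + 2))) :=
  ⟨P m, inferInstance, finite_P, z, z_mem_center, orderOf_z, z_mem_commutator hm,
    normal_zpowers, ⟨MulEquiv.ofBijective φbar φbar_bijective⟩⟩

end Cfsg.Agent.Lib.H18.SpinCover
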