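import Mathlib

/-!
# Reflection identities for anticommuting involutions (helper18)
-/

set_option autoImplicit false

namespace Cfsg.Agent.Lib.H18.SpinRel

variable {A : Type*} [Ring A]

theorem refl_conj {x y z : A} (hx : x * x = 1) (hy : y * y = 1)
    (hyx : y * x = -(x * y)) (hzx : z * x = -(x * z)) (hzy : z * y = -(y * z)) :
    (x - y) * (x - z) = -((y - z) * (x - y)) := by
  simp only [mul_sub, sub_mul, hx, hy, hyx, hzx, hzy]
  abel

theorem refl_anti {x y s t : A} (hsx : s * x = -(x * s)) (hsy : s * y = -(y * s))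
    (htx : t * x = -(x * t)) (hty : t * y = -(y * t)) :
    (x - y) * (s - t) = -((s - t) * (x - y)) := by
  simp only [mul_sub, sub_mul, hsx, hsy, htx, hty]
  abel

theorem refl_sq {x y : A} (hx : x * x = 1) (hy : y * y = 1) (hyx : y * x = -(x * y)) :
    (x - y) * (x - y) = 1 + 1 := by
  simp only [mul_sub, sub_mul, hx, hy, hyx]
  abel

/-- The square of a product of four pairwise anticommuting elements. -/
theorem prod4_sq {v1 v2 v3 v4 : A} (h21 : v2 * v1 = -(v1 * v2)) (h31 : v3 * v1 = -(v1 * v3))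
    (h41 : v4 * v1 = -(v1 * v4)) (h32 : v3 * v2 = -(v2 * v3)) (h42 : v4 * v2 = -(v2 * v4))
    (h43 : v4 * v3 = -(v3 * v4)) :
    (v1 * v2 * v3 * v4) * (v1 * v2 * v3 * v4) =
      (v1 * v1) * (v2 * v2) * (v3 * v3) * (v4 * v4) := by
  have h21' : ∀ t, v2 * (v1 * t) = -(v1 * (v2 * t)) := fun t => by
    rw [← mul_assoc, h21, neg_mul, mul_assoc]
  have h31' : ∀ t, v3 * (v1 * t) = -(v1 * (v3 * t)) := fun t => by
    rw [← mul_assoc, h31, neg_mul, mul_assoc]
  have h41' : ∀ t, v4 * (v1 * t) = -(v1 * (v4 * t)) := fun t => by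
    rw [← mul_assoc, h41, neg_mul, mul_assoc]
  have h32' : ∀ t, v3 * (v2 * t) = -(v2 * (v3 * t)) := fun t => by
    rw [← mul_assoc, h32, neg_mul, mul_assoc]
  have h42' : ∀ t, v4 * (v2 * t) = -(v2 * (v4 * t)) := fun t => by
    rw [← mul_assoc, h42, neg_mul, mul_assoc]
  have h43' : ∀ t, v4 * (v3 * t) = -(v3 * (v4 * t)) := fun t => by
    rw [← mul_assoc, h43, neg_mul, mul_assoc]
  simp only [mul_assoc, h21, h31, h41, h32, h42, h43, h21', h31', h41', h32', h42', h43', mul_neg,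
    neg_mul, neg_neg]

theorem sixteen_eq_one (h3 : (1 + 1 + 1 : A) = 0) :
    (1 + 1 : A) * (1 + 1) * (1 + 1) * (1 + 1) = 1 := by
  have : (1 + 1 : A) * (1 + 1) * (1 + 1) * (1 + 1) =
      1 + ((1 + 1 + 1) + (1 + 1 + 1) + (1 + 1 + 1) + (1 + 1 + 1) + (1 + 1 + 1)) := by
    noncomm_ring
  rw [this, h3]
  abel

theorem neg_two_smul (h3 : (1 + 1 + 1 : A) = 0) (V : A) : -(V + V) = V := by
  have : V + V + V = 0 := by
    have : V + V + V = (1 + 1 + 1) * V := by noncomm_ring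
    rw [this, h3, zero_mul]
  have h : -(V + V) = V - (V + V + V) := by abel
  rw [h, this, sub_zero]

theorem conj_pair {a1 a2 b1 b2 c1 c2 : A} (h1 : a1 * b1 = -(c1 * a1))
    (h2 : a2 * b2 = -(c2 * a2)) (h3 : a2 * b1 = -(b1 * a2)) (h4 : a1 * c2 = -(c2 * a1)) :
    (a1 * a2) * (b1 * b2) = (c1 * c2) * (a1 * a2) := by
  calc (a1 * a2) * (b1 * b2) = a1 * (a2 * b1) * b2 := by simp only [mul_assoc]
    _ = -((a1 * b1) * (a2 * b2)) := by rw [h3]; simp only [mul_assoc, mul_neg, neg_mul]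
    _ = -(c1 * (a1 * c2) * a2) := by
        rw [h1, h2]; simp only [mul_assoc, mul_neg, neg_mul, neg_neg]
    _ = (c1 * c2) * (a1 * a2) := by rw [h4]; simp only [mul_assoc, mul_neg, neg_mul, neg_neg]

end Cfsg.Agent.Lib.H18.SpinRel
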