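import Mathlib
import Cfsg.Agent.Lib.H18.SpinModel
import Cfsg.Agent.Lib.H18.SpinRel2

/-!
# An involution lifting a fixed-point-free involution, in the Clifford model (helper18)
-/

set_option autoImplicit false

namespace Cfsg.Agent.Lib.H18.SpinModel

open Cfsg.Agent.Lib.H18

variable {n : ℕ}

/-- Reflection vectors. -/
noncomputable def R (a b : Fin n) : A n := x a - x b

theorem R_sq {a b : Fin n} (hab : a ≠ b) : R a b * R a b = 1 + 1 :=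
  SpinRel.refl_sq (x_sq a) (x_sq b) (x_anti b a hab.symm)

theorem R_anti {a b c d : Fin n} (hac : a ≠ c) (had : a ≠ d) (hbc : b ≠ c) (hbd : b ≠ d) :
    R a b * R c d = -(R c d * R a b) :=
  SpinRel.refl_anti (x_anti c a hac.symm) (x_anti c b hbc.symm) (x_anti d a had.symm)
    (x_anti d b hbd.symm)

theorem R_conj {a b c : Fin n} (hab : a ≠ b) (hac : a ≠ c) (hbc : b ≠ c) :
    R a b * R a c = -(R b c * R a b) :=
  SpinRel.refl_conj (x_sq a) (x_sq b) (x_anti b a hab.symm) (x_anti c a hac.symm)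
    (x_anti c b hbc.symm)

variable {m : ℕ}

theorem WU_mul_val {k l : Fin (m + 2)} (hk0 : k ≠ 0) (hk1 : k ≠ 1) (hl0 : l ≠ 0) (hl1 : l ≠ 1)
    (hkl : k ≠ l) : ((WU k * WU l : (A (m + 2))ˣ) : A (m + 2)) = R 0 k * R 1 l := by
  rw [Units.val_mul, WU_val k hk0 hk1, WU_val l hl0 hl1, Wa, Wa,
    SpinRel.w_mul_w (x_sq 0) (x_sq 1) (x_sq k) (x_sq l) (x_anti 1 0 zero_ne_one''.symm)
      (x_anti k 0 hk0) (x_anti k 1 hk1) (x_anti l 0 hl0) (x_anti l 1 hl1) (x_anti l k hkl.symm),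
    SpinRel.neg_two_smul three_eq_zero]
  rfl

/-- The lift of `(0 k4)(1 k5)(k2 k6)(k3 k7)` is an involution. -/
theorem invol_sq {k2 k3 k4 k5 k6 k7 : Fin (m + 2)}
    (h20 : k2 ≠ 0) (h21 : k2 ≠ 1) (h30 : k3 ≠ 0) (h31 : k3 ≠ 1) (h40 : k4 ≠ 0) (h41 : k4 ≠ 1)
    (h50 : k5 ≠ 0) (h51 : k5 ≠ 1) (h60 : k6 ≠ 0) (h61 : k6 ≠ 1) (h70 : k7 ≠ 0) (h71 : k7 ≠ 1)
    (h23 : k2 ≠ k3) (h24 : k2 ≠ k4) (h25 : k2 ≠ k5) (h26 : k2 ≠ k6) (h27 : k2 ≠ k7)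
    (h34 : k3 ≠ k4) (h35 : k3 ≠ k5) (h36 : k3 ≠ k6) (h37 : k3 ≠ k7)
    (h45 : k4 ≠ k5) (h46 : k4 ≠ k6) (h47 : k4 ≠ k7) (h56 : k5 ≠ k6) (h57 : k5 ≠ k7)
    (h67 : k6 ≠ k7) :
    ((WU k4 * WU k5) * ((WU k2 * WU k3) * (WU k6 * WU k7) * (WU k2 * WU k3)⁻¹) :
      (A (m + 2))ˣ) ^ 2 = 1 := by
  have h01 : (0 : Fin (m + 2)) ≠ 1 := zero_ne_one''
  set Au : (A (m + 2))ˣ := WU k2 * WU k3 with hAu
  set Bu : (A (m + 2))ˣ := WU k6 * WU k7 with hBu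
  set Cu : (A (m + 2))ˣ := WU k4 * WU k5 with hCu
  have hA : (Au : A (m + 2)) = R 0 k2 * R 1 k3 := WU_mul_val h20 h21 h30 h31 h23
  have hB : (Bu : A (m + 2)) = R 0 k6 * R 1 k7 := WU_mul_val h60 h61 h70 h71 h67
  have hC : (Cu : A (m + 2)) = R 0 k4 * R 1 k5 := WU_mul_val h40 h41 h50 h51 h45
  have hAB : (Au : A (m + 2)) * Bu = (R k2 k6 * R k3 k7) * Au := by
    rw [hA, hB]
    exact SpinRel.conj_pair (R_conj h20.symm h60.symm h26) (R_conj h31.symm h71.symm h37)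
      (R_anti h01.symm h61.symm h30 h36) (R_anti h30.symm h70.symm h23 h27)
  have hconj : ((Au * Bu * Au⁻¹ : (A (m + 2))ˣ) : A (m + 2)) = R k2 k6 * R k3 k7 := by
    rw [Units.val_mul, Units.val_mul, hAB, mul_assoc, Units.mul_inv, mul_one]
  have hU : ((Cu * (Au * Bu * Au⁻¹) : (A (m + 2))ˣ) : A (m + 2)) =
      R 0 k4 * R 1 k5 * R k2 k6 * R k3 k7 := by
    rw [Units.val_mul, hconj, hC, mul_assoc, mul_assoc, mul_assoc]
  apply Units.ext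
  rw [Units.val_pow_eq_pow_val, hU, pow_two,
    SpinRel.prod4_sq (R_anti h01.symm h41.symm h50 h45.symm) (R_anti h20 h24 h60 h46.symm)
      (R_anti h30 h34 h70 h47.symm) (R_anti h21 h25 h61 h56.symm)
      (R_anti h31 h35 h71 h57.symm) (R_anti h23.symm h36 h27.symm h67.symm),
    R_sq h40.symm, R_sq h51.symm, R_sq h26, R_sq h37, SpinRel.sixteen_eq_one three_eq_zero,
    Units.val_one]

end Cfsg.Agent.Lib.H18.SpinModel
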