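import Mathlib
import Cfsg.Prelude.Def_SporadicB
import Cfsg.Agent.Lib.H18.SpinCover
import Cfsg.Agent.Lib.H18.SpinModel2

/-!
# The double cover `2.A_n` is a non-split double cover; `2.A_8` has a non-central involution
(helper18)
-/

set_option autoImplicit false

namespace Cfsg.Agent.Lib.H18.SpinCover

open Cfsg.Agent.Lib.H18

variable {m : ℕ}

theorem ψ_w (i : Fin m) : ψ (w i) = SpinModel.WU (AltStem.pt i.val i.isLt) := by
  rw [ψ, homOf_w]

theorem ψ_z : ψ (z : P m) = -1 := by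
  rw [ψ, homOf_z]

theorem ker_φ {g : P m} (hg : φ g = 1) : g = 1 ∨ g = z := by
  have h1 : φbar (QuotientGroup.mk' (Subgroup.zpowers (z : P m)) g) = φbar 1 := by
    rw [map_one]
    exact hg
  have h2 := φbar_bijective.1 h1
  have h3 : g ∈ Subgroup.zpowers (z : P m) := (QuotientGroup.eq_one_iff g).mp h2
  obtain ⟨k, rfl⟩ := Subgroup.mem_zpowers_iff.mp h3
  rcases Int.even_or_odd k with ⟨j, rfl⟩ | ⟨j, rfl⟩
  · left
    rw [← two_mul, zpow_mul, zpow_ofNat, z_sq, one_zpow]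
  · right
    rw [zpow_add, zpow_mul, zpow_ofNat, z_sq, one_zpow, one_mul, zpow_one]

theorem center_P (hm : 2 ≤ m) : Subgroup.center (P m) = Subgroup.zpowers (z : P m) := by
  apply le_antisymm
  · intro c hc
    have hφc : φ c ∈ Subgroup.center (alternatingGroup (Fin (m + 2))) := by
      rw [Subgroup.mem_center_iff]
      intro y
      obtain ⟨g, rfl⟩ := φ_surjective y
      rw [← map_mul, ← map_mul, Subgroup.mem_center_iff.mp hc g]
    rw [alternatingGroup.center_eq_bot (by rw [Nat.card_fin]; omega), Subgroup.mem_bot] at hφc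
    rcases ker_φ hφc with h | h
    · rw [h]; exact Subgroup.one_mem _
    · rw [h]; exact Subgroup.mem_zpowers z
  · rw [Subgroup.zpowers_le]
    exact z_mem_center

theorem card_center_P (hm : 2 ≤ m) : Nat.card (Subgroup.center (P m)) = 2 := by
  rw [center_P hm, Nat.card_zpowers, orderOf_z]

theorem nonsplit (hm : 2 ≤ m) (L : Subgroup (P m)) :
    ¬ (Subgroup.center (P m)).IsComplement' L := by
  intro hL
  have hcomm : commutator (P m) ≤ L := by
    rw [commutator_def, Subgroup.commutator_le]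
    intro a _ b _
    rw [commutatorElement_def]
    obtain ⟨⟨⟨c1, hc1⟩, ⟨l1, hl1⟩⟩, rfl⟩ := hL.2 a
    obtain ⟨⟨⟨c2, hc2⟩, ⟨l2, hl2⟩⟩, rfl⟩ := hL.2 b
    have h1 := Subgroup.mem_center_iff.mp hc1
    have h2 := Subgroup.mem_center_iff.mp hc2
    have key : (c1 * l1) * (c2 * l2) * (c1 * l1)⁻¹ * (c2 * l2)⁻¹ = l1 * l2 * l1⁻¹ * l2⁻¹ := by
      calc (c1 * l1) * (c2 * l2) * (c1 * l1)⁻¹ * (c2 * l2)⁻¹
          = c1 * (l1 * (c2 * l2) * l1⁻¹) * c1⁻¹ * (c2 * l2)⁻¹ := by group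
        _ = (l1 * (c2 * l2) * l1⁻¹) * c1 * c1⁻¹ * (c2 * l2)⁻¹ := by
            rw [← h1 (l1 * (c2 * l2) * l1⁻¹)]
        _ = l1 * c2 * (l2 * l1⁻¹ * l2⁻¹) * c2⁻¹ := by group
        _ = c2 * l1 * (l2 * l1⁻¹ * l2⁻¹) * c2⁻¹ := by rw [h2 l1]
        _ = c2 * (l1 * l2 * l1⁻¹ * l2⁻¹) * c2⁻¹ := by group
        _ = (l1 * l2 * l1⁻¹ * l2⁻¹) * c2 * c2⁻¹ := by rw [← h2 (l1 * l2 * l1⁻¹ * l2⁻¹)]
        _ = l1 * l2 * l1⁻¹ * l2⁻¹ := by group
    simp only
    rw [key]
    exact L.mul_mem (L.mul_mem (L.mul_mem hl1 hl2) (L.inv_mem hl1)) (L.inv_mem hl2)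
  have hz : (z : P m) ∈ Subgroup.center (P m) ⊓ L :=
    ⟨z_mem_center, hcomm (z_mem_commutator hm)⟩
  rw [hL.disjoint.eq_bot, Subgroup.mem_bot] at hz
  exact z_ne_one hz

theorem isNonsplitDoubleCover (hm : 2 ≤ m) :
    Cfsg.IsNonsplitDoubleCover (P m) (alternatingGroup (Fin (m + 2))) := by
  refine ⟨card_center_P hm, ⟨?_⟩, nonsplit hm⟩
  exact (QuotientGroup.quotientMulEquivOfEq (center_P hm)).trans
    (MulEquiv.ofBijective φbar φbar_bijective)

/-- The second involution of `2.A_8`. -/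
def u : P 6 := (w 2 * w 3) * ((w 0 * w 1) * (w 4 * w 5) * (w 0 * w 1)⁻¹)

theorem ψ_u_sq : ψ u ^ 2 = 1 := by
  rw [u]
  simp only [map_mul, map_inv, ψ_w]
  apply SpinModel.invol_sq <;> decide

set_option maxRecDepth 100000 in
theorem φ_u : φ u ≠ 1 ∧ φ u ^ 2 = 1 := by
  rw [u]
  simp only [map_mul, map_inv, φ_w]
  decide

theorem u_sq : u ^ 2 = 1 := by
  have h1 : φ (u ^ 2) = 1 := by rw [map_pow, φ_u.2]
  rcases ker_φ h1 with h | h
  · exact h
  · exfalso
    have h2 : ψ (u ^ 2) = 1 := by rw [map_pow, ψ_u_sq]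
    rw [h, ψ_z] at h2
    exact SpinModel.neg_one_units_ne_one h2

theorem u_ne_one : u ≠ 1 := fun h => φ_u.1 (by rw [h, map_one])

theorem u_ne_z : u ≠ z := fun h => φ_u.1 (by rw [h, φ_z])

theorem orderOf_u : orderOf u = 2 := by
  haveI : Fact (Nat.Prime 2) := ⟨Nat.prime_two⟩
  exact orderOf_eq_prime u_sq u_ne_one

/-- **Involutions of the double covers of the alternating group of degree 8.** -/
theorem exists_two_involutions :
    ∃ (H : Type) (_ : Group H) (_ : Finite H),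
      Cfsg.IsNonsplitDoubleCover H (alternatingGroup (Fin 8)) ∧
        ∃ x y : H, x ≠ y ∧ orderOf x = 2 ∧ orderOf y = 2 :=
  ⟨P 6, inferInstance, finite_P, isNonsplitDoubleCover (by norm_num),
    u, z, u_ne_z, orderOf_u, orderOf_z⟩

end Cfsg.Agent.Lib.H18.SpinCover
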