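/-
S2332 (sharp minimal degree of SL_n(q); architect helper12, tools/blueprints/S2332.md), piece **TRANSV**:
`SL_m` (`m ≥ 2`) and `GL_k` are transitive on the non-zero vectors of `Fin m → F`.
-/
import Mathlib
import Cfsg.Agent.Lib.H12.SLMinDefs

set_option autoImplicit false

namespace Cfsg.Agent.Lib.H18.SLMin

open Matrix Module Cfsg.Agent.Lib.H12.SLMin

section

variable {F : Type*} [Field F] {n : ℕ}

/-- a separating functional, as a vector: if `v ∉ span {w}` there is `b` with `b ⬝ v = 1` and `b ⬝ w = 0` -/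
theorem exists_dot_eq_one_of_notMem_span {v w : Fin n → F} (h : v ∉ Submodule.span F {w}) :
    ∃ b : Fin n → F, b ⬝ᵥ v = 1 ∧ b ⬝ᵥ w = 0 := by
  classical
  obtain ⟨f, hf, hf'⟩ := Submodule.exists_dual_map_eq_bot_of_notMem h inferInstance
  have hfw : f w = 0 := by
    have h1 : f w ∈ (Submodule.span F {w}).map f :=
      Submodule.mem_map_of_mem (Submodule.mem_span_singleton_self w)
    rw [hf'] at h1
    exact (Submodule.mem_bot F).1 h1
  have hdot : ∀ x : Fin n → F, (fun i => (f v)⁻¹ * f (Pi.single i 1)) ⬝ᵥ x = (f v)⁻¹ * f x := by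
    intro x
    rw [LinearMap.pi_apply_eq_sum_univ f x, dotProduct, Finset.mul_sum]
    refine Finset.sum_congr rfl fun i _ => ?_
    have h2 : (fun j : Fin n => if i = j then (1 : F) else 0) = Pi.single i 1 := by
      ext j
      simp [Pi.single_apply, eq_comm]
    rw [h2, smul_eq_mul]
    ring
  refine ⟨fun i => (f v)⁻¹ * f (Pi.single i 1), ?_, ?_⟩
  · rw [hdot, inv_mul_cancel₀ hf]
  · rw [hdot, hfw, mul_zero]

/-- the transvection `1 + a bᵀ` moves `v` to `v'` when `v ∉ span {v' - v}` -/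
theorem exists_det_one_of_notMem_span {v v' : Fin n → F} (h : v ∉ Submodule.span F {v' - v}) :
    ∃ g : GL (Fin n) F, (g : Matrix (Fin n) (Fin n) F).det = 1 ∧
      (g : Matrix (Fin n) (Fin n) F) *ᵥ v = v' := by
  classical
  obtain ⟨b, hb1, hb0⟩ := exists_dot_eq_one_of_notMem_span h
  have hdet : (1 + vecMulVec (v' - v) b : Matrix (Fin n) (Fin n) F).det = 1 := by
    rw [vecMulVec_eq Unit, det_one_add_replicateCol_mul_replicateRow, hb0, add_zero]
  refine ⟨Matrix.GeneralLinearGroup.mkOfDetNeZero (1 + vecMulVec (v' - v) b) (by rw [hdet]; exact one_ne_zero),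
    hdet, ?_⟩
  show (1 + vecMulVec (v' - v) b : Matrix (Fin n) (Fin n) F) *ᵥ v = v'
  rw [add_mulVec, one_mulVec, vecMulVec_mulVec, hb1]
  ext i
  simp

/-- if `v ≠ 0` lies on the line of `v' - v` then `v'` lies on the line of `v` -/
theorem mem_span_of_mem_span_sub {v v' : Fin n → F} (hv : v ≠ 0) (h : v ∈ Submodule.span F {v' - v}) :
    v' ∈ Submodule.span F {v} := by
  obtain ⟨c, hc⟩ := Submodule.mem_span_singleton.1 h
  have hc0 : c ≠ 0 := by
    rintro rfl
    rw [zero_smul] at hc
    exact hv hc.symm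
  rw [Submodule.mem_span_singleton]
  refine ⟨1 + c⁻¹, ?_⟩
  have h1 : v' - v = c⁻¹ • v := by
    calc v' - v = c⁻¹ • (c • (v' - v)) := by rw [smul_smul, inv_mul_cancel₀ hc0, one_smul]
      _ = c⁻¹ • v := by rw [hc]
  rw [add_smul, one_smul, ← h1]
  abel

end

/-- `SL_m` (as the determinant-one elements of `GL_m`) is transitive on non-zero vectors, `m ≥ 2` -/
theorem trans_SL_vec {F : Type*} [Field F] {m : ℕ} (hm : 2 ≤ m) {v v' : Fin m → F} (hv : v ≠ 0)
    (hv' : v' ≠ 0) :
    ∃ g : GL (Fin m) F, (g : Matrix (Fin m) (Fin m) F).det = 1 ∧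
      (g : Matrix (Fin m) (Fin m) F) *ᵥ v = v' := by
  classical
  by_cases h : v ∈ Submodule.span F {v' - v}
  · -- `v'` is on the line of `v`: go through a third vector
    have hv'v : v' ∈ Submodule.span F {v} := mem_span_of_mem_span_sub hv h
    obtain ⟨u, hu⟩ : ∃ u : Fin m → F, u ∉ Submodule.span F {v} := by
      by_contra hall
      push Not at hall
      have htop : Submodule.span F {v} = ⊤ := Submodule.eq_top_iff'.2 hall
      have h1 : Module.finrank F (Submodule.span F {v}) = 1 := finrank_span_singleton hv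
      rw [htop, finrank_top, Module.finrank_fin_fun] at h1
      omega
    have hu0 : u ≠ 0 := by
      rintro rfl
      exact hu (Submodule.zero_mem _)
    have h1 : v ∉ Submodule.span F {u - v} := fun h2 => hu (mem_span_of_mem_span_sub hv h2)
    have h2 : u ∉ Submodule.span F {v' - u} := by
      intro h3
      have h4 := mem_span_of_mem_span_sub hu0 h3
      obtain ⟨d, hd⟩ := Submodule.mem_span_singleton.1 h4
      have hd0 : d ≠ 0 := by
        rintro rfl
        rw [zero_smul] at hd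
        exact hv' hd.symm
      apply hu
      have h5 : u = d⁻¹ • v' := by rw [← hd, smul_smul, inv_mul_cancel₀ hd0, one_smul]
      rw [h5]
      exact Submodule.smul_mem _ _ hv'v
    obtain ⟨g1, hg1, hg1v⟩ := exists_det_one_of_notMem_span h1
    obtain ⟨g2, hg2, hg2v⟩ := exists_det_one_of_notMem_span h2
    refine ⟨g2 * g1, ?_, ?_⟩
    · rw [Matrix.GeneralLinearGroup.coe_mul, det_mul, hg1, hg2, one_mul]
    · rw [Matrix.GeneralLinearGroup.coe_mul, ← mulVec_mulVec, hg1v, hg2v]
  · exact exists_det_one_of_notMem_span h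

/-- `GL_k` is transitive on non-zero vectors -/
theorem trans_GL_vec {F : Type*} [Field F] {k : ℕ} {v v' : Fin k → F} (hv : v ≠ 0) (hv' : v' ≠ 0) :
    ∃ g : GL (Fin k) F, (g : Matrix (Fin k) (Fin k) F) *ᵥ v = v' := by
  classical
  by_cases h : v ∈ Submodule.span F {v' - v}
  · obtain ⟨c, hc⟩ := Submodule.mem_span_singleton.1 (mem_span_of_mem_span_sub hv h)
    have hc0 : c ≠ 0 := by
      rintro rfl
      rw [zero_smul] at hc
      exact hv' hc.symm
    refine ⟨⟨c • (1 : Matrix (Fin k) (Fin k) F), c⁻¹ • (1 : Matrix (Fin k) (Fin k) F), ?_, ?_⟩, ?_⟩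
    · rw [smul_mul_smul_comm, mul_inv_cancel₀ hc0, one_smul, mul_one]
    · rw [smul_mul_smul_comm, inv_mul_cancel₀ hc0, one_smul, mul_one]
    · show (c • (1 : Matrix (Fin k) (Fin k) F)) *ᵥ v = v'
      rw [smul_mulVec, one_mulVec, hc]
  · obtain ⟨g, -, hg⟩ := exists_det_one_of_notMem_span h
    exact ⟨g, hg⟩

end Cfsg.Agent.Lib.H18.SLMin
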