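import Mathlib
import Cfsg.Agent.Lib.H9.S3776Defs
import Cfsg.Agent.Lib.H16.S3776Hup
import Cfsg.Agent.Lib.H15.SemiScal

/-!
# S3776, piece (3) LEME (helper18): the glue

`leme_of : ECoreStmt → LemEStmt` (and `leme_of' : ECoreStmt → KDivStmt → LemEStmt`): helper9's abstract
additive LEMMA E from helper12's field-model core (`lemmaE_core`), the scalar structure `KDIV`
(helper15's landed `scalar_structure'`) and helper16's landed `hup_transport` (S3360 transported to an
additive, not necessarily faithful action).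
-/

set_option autoImplicit false

namespace Cfsg.Agent.Lib.H18.S3776LemE

open Cfsg.Agent.Lib.H9.S3776

universe u

/-- shape of helper12's `lemmaE_core` (field-model core of LEMMA E) -/
def ECoreStmt : Prop :=
  ∀ (F : Type) [Field F] [Fintype F] [CharP F 2] (n : ℕ), Fintype.card F = 2 ^ n →
  ∀ (Γ : Type u) (T : Type u) [AddCommGroup T], (∀ t : T, t + t = 0) →
  ∀ (actF : Γ → F → F) (actT : Γ → T → T),
    (∀ γ : Γ, ∃ (a : F) (σ : F ≃+* F), ∀ x, actF γ x = a * σ x) →
    (∀ γ, Function.Injective (actF γ)) →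
    (∀ γ t t', actT γ (t + t') = actT γ t + actT γ t') →
    (∀ S : AddSubgroup T, (∀ γ, ∀ t ∈ S, actT γ t ∈ S) → S = ⊥ ∨ S = ⊤) →
  ∀ (ζ : F) (m k : ℕ), m * k = 2 ^ n - 1 → k ∣ n → orderOf ζ = m →
  ∀ (γ0 : Γ), (∀ x, actF γ0 x = ζ * x) →
  ∀ (b : T → F → F), (∀ t t' x, b (t + t') x = b t x + b t' x) →
    (∀ t x y, b t (x + y) = b t x + b t y) →
    (∀ γ t x, b (actT γ t) (actF γ x) = actF γ (b t x)) → (∃ t x, b t x ≠ 0) →
    ∀ t x, t ≠ 0 → x ≠ 0 → b t x ≠ 0

/-- shape of the scalar-structure brick KDIV (helper15's SemiScal) -/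
def KDivStmt : Prop :=
  ∀ (F : Type) [Field F] [Fintype F] [CharP F 2] (n : ℕ), Fintype.card F = 2 ^ n →
  ∀ (Γ : Type u) [Group Γ] [Finite Γ] (act : Γ → F → F), (∀ x, act 1 x = x) →
    (∀ g h x, act (g * h) x = act g (act h x)) →
    (∀ g, ∃ (a : F) (s : ℕ), a ≠ 0 ∧ ∀ x, act g x = a * x ^ (2 ^ s)) →
    (∀ x y : F, x ≠ 0 → y ≠ 0 → ∃ g, act g x = y) →
    ∃ (γ0 : Γ) (ζ : F) (m k : ℕ), (∀ x, act γ0 x = ζ * x) ∧ orderOf ζ = m ∧ m * k = 2 ^ n - 1 ∧ k ∣ n

/-- three different elements, all of order at most 2: at least four elements -/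
theorem four_le_card {V : Type u} [AddCommGroup V] [Finite V] (h2 : ∀ v : V, v + v = 0)
    (h3 : ∃ v w : V, v ≠ 0 ∧ w ≠ 0 ∧ v ≠ w) : 4 ≤ Nat.card V := by
  classical
  obtain ⟨v, w, hv, hw, hvw⟩ := h3
  haveI := Fintype.ofFinite V
  have h3 : 3 ≤ Nat.card V := by
    rw [Nat.card_eq_fintype_card]
    have hc : ({0, v, w} : Finset V).card = 3 := by
      rw [Finset.card_insert_of_notMem, Finset.card_insert_of_notMem, Finset.card_singleton]
      · simpa using hvw
      · simp only [Finset.mem_insert, Finset.mem_singleton, not_or]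
        exact ⟨fun h => hv h.symm, fun h => hw h.symm⟩
    calc 3 = ({0, v, w} : Finset V).card := hc.symm
      _ ≤ Fintype.card V := Finset.card_le_univ _
  have heven : 2 ∣ Nat.card V := by
    haveI : Fact (Nat.Prime 2) := ⟨Nat.prime_two⟩
    have h : addOrderOf v = 2 := addOrderOf_eq_prime (by rw [two_nsmul]; exact h2 v) hv
    rw [← h]
    exact addOrderOf_dvd_natCard v
  omega

theorem leme_of' (core : ECoreStmt.{u}) (kdiv : KDivStmt.{u}) : LemEStmt.{u} := by
  intro E V T _ _ _ _ _ _ aV aT b hsol h2V h2T hVadd hVmul hVone hTadd hTmul hTone h3 htr hirr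
    hbl hbr hbeq hb0 t v ht hv
  have h4 : 4 ≤ Nat.card V := four_le_card h2V h3
  obtain ⟨F, iF, iFt, iC, n, hn, ψ, hψ⟩ :=
    Cfsg.Agent.Lib.H16.S3776Hup.hup_transport h2V h4 hsol aV hVone hVmul hVadd htr
  letI := iF
  letI := iFt
  haveI := iC
  -- transported action and pairing
  set actF : E → F → F := fun e x => ψ (aV e (ψ.symm x)) with hactF
  set b' : T → F → F := fun t x => ψ (b t (ψ.symm x)) with hb'
  have hFone : ∀ x, actF 1 x = x := by
    intro x; simp only [hactF]; rw [hVone, AddEquiv.apply_symm_apply]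
  have hFmul : ∀ g h x, actF (g * h) x = actF g (actF h x) := by
    intro g h x; simp only [hactF]; rw [AddEquiv.symm_apply_apply, hVmul]
  have hFform : ∀ g, ∃ (a : F) (s : ℕ), a ≠ 0 ∧ ∀ x, actF g x = a * x ^ (2 ^ s) := by
    intro g
    obtain ⟨a, s, ha, has⟩ := hψ g
    refine ⟨a, (s : ℕ), ha, fun x => ?_⟩
    simp only [hactF]; rw [has, AddEquiv.apply_symm_apply]
  have hFtr : ∀ x y : F, x ≠ 0 → y ≠ 0 → ∃ g, actF g x = y := by
    intro x y hx hy
    have hx' : ψ.symm x ≠ 0 := by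
      intro h; apply hx; rw [← ψ.apply_symm_apply x, h, map_zero]
    have hy' : ψ.symm y ≠ 0 := by
      intro h; apply hy; rw [← ψ.apply_symm_apply y, h, map_zero]
    obtain ⟨e, he⟩ := htr _ _ hx' hy'
    refine ⟨e, ?_⟩
    simp only [hactF]; rw [he, AddEquiv.apply_symm_apply]
  obtain ⟨γ0, ζ, m, k, hγ0, hζ, hmk, hkn⟩ := kdiv F n hn E actF hFone hFmul hFform hFtr
  have hsemi : ∀ γ : E, ∃ (a : F) (σ : F ≃+* F), ∀ x, actF γ x = a * σ x := by
    intro γ
    obtain ⟨a, s, -, has⟩ := hFform γ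
    refine ⟨a, iterateFrobeniusEquiv F 2 s, fun x => ?_⟩
    rw [has, iterateFrobeniusEquiv_def]
  have hinj : ∀ γ, Function.Injective (actF γ) := by
    intro γ x y hxy
    have := congrArg (actF γ⁻¹) hxy
    rwa [← hFmul, ← hFmul, inv_mul_cancel, hFone, hFone] at this
  have hbl' : ∀ t t' x, b' (t + t') x = b' t x + b' t' x := by
    intro t t' x; simp only [hb']; rw [hbl, map_add]
  have hbr' : ∀ t x y, b' t (x + y) = b' t x + b' t y := by
    intro t x y; simp only [hb']; rw [map_add, hbr, map_add]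
  have hbeq' : ∀ γ t x, b' (aT γ t) (actF γ x) = actF γ (b' t x) := by
    intro γ t x
    simp only [hb', hactF]
    rw [AddEquiv.symm_apply_apply, AddEquiv.symm_apply_apply, hbeq]
  have hb0' : ∃ t x, b' t x ≠ 0 := by
    obtain ⟨t0, v0, h0⟩ := hb0
    refine ⟨t0, ψ v0, ?_⟩
    simp only [hb']
    rw [AddEquiv.symm_apply_apply]
    intro h
    apply h0
    rw [← ψ.symm_apply_apply (b t0 v0), h, map_zero]
  have hx : ψ v ≠ 0 := by
    intro h; apply hv; rw [← ψ.symm_apply_apply v, h, map_zero]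
  have hfin := core F n hn E T h2T actF aT hsemi hinj hTadd hirr ζ m k hmk hkn hζ γ0 hγ0 b'
    hbl' hbr' hbeq' hb0' t (ψ v) ht hx
  intro h
  apply hfin
  simp only [hb']
  rw [AddEquiv.symm_apply_apply, h, map_zero]

/-- KDIV from helper15's landed `scalar_structure'` -/
theorem kdiv : KDivStmt.{u} := by
  intro F _ _ _ n hn Γ _ _ act h1 hmul hform htr
  obtain ⟨ζ, m, k, -, hζ, hmk, hkn, g, hg⟩ :=
    Cfsg.Agent.H15.SemiScal.scalar_structure' hn act h1 hmul
      (fun g => by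
        obtain ⟨a, s, -, h⟩ := hform g
        exact ⟨a, s, h⟩) htr
  exact ⟨g, ζ, m, k, hg, hζ, hmk, hkn⟩

/-- LEMMA E (abstract additive form) from the field-model core alone -/
theorem leme_of (core : ECoreStmt.{u}) : LemEStmt.{u} := leme_of' core kdiv

end Cfsg.Agent.Lib.H18.S3776LemE
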