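import Mathlib
import Cfsg.Prelude.Def_GeometricClasses

/-!
# S5662 shared tool SD: semilinear descent (Hilbert 90 for `GL_n` over finite fields), helper18

If `τ v = B φ(v)` (`φ x = x ^ |F₀|`) commutes with an absolutely irreducible group `N ≤ GL_n(F)`,
then `N` is realisable over `F₀`.
-/

set_option autoImplicit false

namespace Cfsg.Agent.Lib.H18.AschS

open Cfsg Cfsg.Geo
open scoped MatrixGroups Matrix

variable {F : Type*} [Field F] [Fintype F] {n : ℕ}

/-! ## Field facts -/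

theorem pow_card_of_mem (F₀ : Subfield F) {x : F} (hx : x ∈ F₀) : x ^ Nat.card F₀ = x := by
  classical
  have : Fintype F₀ := Fintype.ofFinite F₀
  have h := FiniteField.pow_card (⟨x, hx⟩ : F₀)
  rw [← Nat.card_eq_fintype_card] at h
  exact congrArg Subtype.val h

theorem one_lt_card_subfield (F₀ : Subfield F) : 1 < Nat.card F₀ := by
  classical
  have : Fintype F₀ := Fintype.ofFinite F₀
  rw [Nat.card_eq_fintype_card]
  exact Fintype.one_lt_card

theorem mem_of_pow_card (F₀ : Subfield F) {x : F} (hx : x ^ Nat.card F₀ = x) : x ∈ F₀ := by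
  classical
  have : Fintype F₀ := Fintype.ofFinite F₀
  obtain ⟨q, hq⟩ : ∃ q : ℕ, q = Nat.card F₀ := ⟨_, rfl⟩
  rw [← hq] at hx
  have hq' : Fintype.card F₀ = q := by rw [← Nat.card_eq_fintype_card]; exact hq.symm
  have hq1 : 1 < q := hq ▸ one_lt_card_subfield F₀
  obtain ⟨p, hp⟩ : ∃ p : Polynomial F, p = Polynomial.X ^ q - Polynomial.X := ⟨_, rfl⟩
  have hp0 : p ≠ 0 := hp ▸ FiniteField.X_pow_card_sub_X_ne_zero F hq1
  have hdeg : p.natDegree = q := hp ▸ FiniteField.X_pow_card_sub_X_natDegree_eq F hq1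
  obtain ⟨A, hA⟩ : ∃ A : Finset F, A = Finset.univ.filter (· ∈ F₀) := ⟨_, rfl⟩
  have hAcard : A.card = q := by
    rw [hA, ← hq', Fintype.card_subtype]
  have hsub : A ⊆ p.roots.toFinset := by
    intro y hy
    rw [hA, Finset.mem_filter] at hy
    rw [Multiset.mem_toFinset, Polynomial.mem_roots hp0, Polynomial.IsRoot, hp]
    have h2 : y ^ q = y := hq ▸ pow_card_of_mem F₀ hy.2
    simp [h2]
  have hle : p.roots.toFinset.card ≤ A.card := by
    rw [hAcard, ← hdeg]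
    exact (Multiset.toFinset_card_le _).trans (Polynomial.card_roots' p)
  have heq := Finset.eq_of_subset_of_card_le hsub hle
  have hxr : x ∈ p.roots.toFinset := by
    rw [Multiset.mem_toFinset, Polynomial.mem_roots hp0, Polynomial.IsRoot, hp]
    simp [hx]
  rw [← heq, hA, Finset.mem_filter] at hxr
  exact hxr.2

/-- the Frobenius `x ↦ x ^ |F₀|` as a ring homomorphism -/
theorem exists_frob (F₀ : Subfield F) : ∃ φ : F →+* F, ∀ x, φ x = x ^ Nat.card F₀ := by
  classical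
  have : Fintype F₀ := Fintype.ofFinite F₀
  obtain ⟨p, hchar⟩ := CharP.exists F
  haveI := hchar
  haveI : CharP F₀ p := by
    exact RingHom.charP F₀.subtype F₀.subtype_injective p
  obtain ⟨k, hp, hk⟩ := FiniteField.card F₀ p
  haveI : Fact p.Prime := ⟨hp⟩
  haveI : ExpChar F p := ExpChar.prime hp
  refine ⟨iterateFrobenius F p k, fun x => ?_⟩
  rw [iterateFrobenius_def, Nat.card_eq_fintype_card, hk]

/-- `|F| = |F₀| ^ s` -/
theorem exists_card_pow (F₀ : Subfield F) : ∃ s : ℕ, 0 < s ∧ Fintype.card F = Nat.card F₀ ^ s := by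
  classical
  have : Fintype F₀ := Fintype.ofFinite F₀
  refine ⟨Module.finrank F₀ F, Module.finrank_pos, ?_⟩
  rw [Nat.card_eq_fintype_card]
  exact Module.card_eq_pow_finrank

/-- exponents `e i = 1 + q + ... + q^(i-1)` -/
def eSeq (q : ℕ) : ℕ → ℕ
  | 0 => 0
  | i + 1 => 1 + q * eSeq q i

theorem eSeq_mul (r : ℕ) (i : ℕ) : eSeq (r + 1) i * r + 1 = (r + 1) ^ i := by
  induction i with
  | zero => simp [eSeq]
  | succ i ih =>
    simp only [eSeq]
    rw [pow_succ, ← ih]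
    ring

/-- surjectivity of the norm `l ↦ l ^ (1 + q + ... + q^(s-1))` onto the nonzero fixed points of `x ↦ x ^ q` -/
theorem exists_norm (q s : ℕ) (hq : 1 < q) (hcard : Fintype.card F = q ^ s) (c : F) (hc0 : c ≠ 0)
    (hc : c ^ q = c) : ∃ l : F, l ≠ 0 ∧ l ^ eSeq q s = c := by
  classical
  obtain ⟨g, hg⟩ := IsCyclic.exists_monoid_generator (α := Fˣ)
  have hgz : ∀ y : Fˣ, y ∈ Subgroup.zpowers g := fun y => by
    obtain ⟨k, hk⟩ := hg y
    exact ⟨k, by simpa using hk⟩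
  have hord : orderOf g = Fintype.card F - 1 := by
    rw [orderOf_eq_card_of_forall_mem_zpowers hgz, Nat.card_eq_fintype_card, Fintype.card_units]
  obtain ⟨r, rfl⟩ : ∃ r, q = r + 1 := ⟨q - 1, by omega⟩
  have hr : 0 < r := by omega
  have hm := eSeq_mul r s
  rw [← hcard] at hm
  have hord' : orderOf g = eSeq (r + 1) s * r := by
    rw [hord, ← hm]
    simp
  obtain ⟨j, hj⟩ := hg (Units.mk0 c hc0)
  simp only at hj
  have hcr : c ^ r = 1 := by
    have h1 : c ^ r * c = 1 * c := by rw [← pow_succ, hc, one_mul]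
    exact mul_right_cancel₀ hc0 h1
  have hgjr : g ^ (j * r) = 1 := by
    rw [pow_mul, hj]
    apply Units.ext
    simp [hcr]
  have hdvd : eSeq (r + 1) s * r ∣ j * r := by
    rw [← hord']
    exact orderOf_dvd_of_pow_eq_one hgjr
  have hdvd' : eSeq (r + 1) s ∣ j := Nat.dvd_of_mul_dvd_mul_right hr hdvd
  obtain ⟨j', rfl⟩ := hdvd'
  refine ⟨((g ^ j' : Fˣ) : F), Units.ne_zero _, ?_⟩
  have h2 : (g ^ j') ^ eSeq (r + 1) s = Units.mk0 c hc0 := by
    rw [← pow_mul, mul_comm]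
    exact hj
  have h3 := congrArg (fun u : Fˣ => (u : F)) h2
  simpa using h3

/-! ## The matrices of the powers of the semilinear map `τ v = B φ(v)` -/

/-- `Cs φ B i = B · φ(B) · ... · φ^(i-1)(B)`: the matrix part of `τ^i` -/
def Cs (φ : F →+* F) (B : Matrix (Fin n) (Fin n) F) : ℕ → Matrix (Fin n) (Fin n) F
  | 0 => 1
  | i + 1 => B * (Cs φ B i).map φ

/-- the scalar analogue -/
def Ns (φ : F →+* F) (l : F) : ℕ → F
  | 0 => 1
  | i + 1 => l * φ (Ns φ l i)

theorem map_pow_succ (φ : F →+* F) (i : ℕ) (g : Matrix (Fin n) (Fin n) F) :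
    (g.map (φ ^ i)).map φ = g.map (φ ^ (i + 1)) := by
  rw [Matrix.map_map]
  congr 1
  rw [pow_succ', RingHom.coe_mul]

theorem Cs_comm (φ : F →+* F) (B : Matrix (Fin n) (Fin n) F) (g : Matrix (Fin n) (Fin n) F)
    (hg : g * B = B * g.map φ) (i : ℕ) : g * Cs φ B i = Cs φ B i * g.map (φ ^ i) := by
  induction i with
  | zero =>
    simp only [Cs, pow_zero]
    rw [mul_one, one_mul]
    ext a b
    simp
  | succ i ih =>
    simp only [Cs]
    rw [← mul_assoc, hg, mul_assoc, ← Matrix.map_mul, ih, Matrix.map_mul, map_pow_succ, mul_assoc]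

theorem Cs_succ' (φ : F →+* F) (B : Matrix (Fin n) (Fin n) F) (i : ℕ) :
    Cs φ B (i + 1) = Cs φ B i * B.map (φ ^ i) := by
  induction i with
  | zero =>
    simp only [Cs, pow_zero]
    rw [Matrix.map_one _ (map_zero φ) (map_one φ), mul_one, one_mul]
    ext a b
    simp
  | succ i ih =>
    have h1 : Cs φ B (i + 1 + 1) = B * (Cs φ B (i + 1)).map φ := rfl
    have h2 : Cs φ B (i + 1) = B * (Cs φ B i).map φ := rfl
    rw [h1]
    conv_lhs => rw [ih]
    rw [Matrix.map_mul, map_pow_succ, ← mul_assoc, ← h2]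

theorem Cs_det (φ : F →+* F) (B : Matrix (Fin n) (Fin n) F) (hB : B.det ≠ 0) (i : ℕ) :
    (Cs φ B i).det ≠ 0 := by
  induction i with
  | zero => simp [Cs]
  | succ i ih =>
    simp only [Cs]
    rw [Matrix.det_mul, ← RingHom.mapMatrix_apply, ← RingHom.map_det]
    exact mul_ne_zero hB ((map_ne_zero φ).2 ih)

theorem Cs_smul (φ : F →+* F) (l : F) (B : Matrix (Fin n) (Fin n) F) (i : ℕ) :
    Cs φ (l • B) i = Ns φ l i • Cs φ B i := by
  induction i with
  | zero => simp [Cs, Ns]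
  | succ i ih =>
    simp only [Cs, Ns]
    rw [ih]
    ext a b
    simp only [Matrix.mul_apply, Matrix.smul_apply, Matrix.map_apply, smul_eq_mul, map_mul,
      Finset.mul_sum]
    refine Finset.sum_congr rfl fun k _ => ?_
    ring

theorem Ns_eq_pow (φ : F →+* F) (q : ℕ) (hφ : ∀ x, φ x = x ^ q) (l : F) (i : ℕ) :
    Ns φ l i = l ^ eSeq q i := by
  induction i with
  | zero => simp [Ns, eSeq]
  | succ i ih =>
    simp only [Ns, eSeq]
    rw [ih, hφ, ← pow_mul, pow_add, pow_one, mul_comm (eSeq q i) q]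

/-! ## Hilbert 90 for `GL_n` -/

theorem frob_pow_apply (φ : F →+* F) (q : ℕ) (hφ : ∀ x, φ x = x ^ q) (i : ℕ) (x : F) :
    (φ ^ i) x = x ^ (q ^ i) := by
  induction i with
  | zero => simp
  | succ i ih =>
    rw [pow_succ', RingHom.mul_def, RingHom.comp_apply, ih, hφ, ← pow_mul, pow_succ]

theorem frob_mulVec (φ : F →+* F) (M : Matrix (Fin n) (Fin n) F) (v : Fin n → F) :
    φ ∘ (M *ᵥ v) = M.map φ *ᵥ (φ ∘ v) := by
  funext i
  simp [Matrix.mulVec, dotProduct, map_sum]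

/-- the averaging operator `v ↦ ∑ τ^i v` -/
def avg (φ : F →+* F) (B : Matrix (Fin n) (Fin n) F) (s : ℕ) (v : Fin n → F) : Fin n → F :=
  ∑ i ∈ Finset.range s, Cs φ B i *ᵥ ((φ ^ i) ∘ v)

theorem avg_fixed (φ : F →+* F) (B : Matrix (Fin n) (Fin n) F) (s : ℕ)
    (hs : ∀ x, (φ ^ s) x = x) (hC : Cs φ B s = 1) (v : Fin n → F) :
    B *ᵥ (φ ∘ avg φ B s v) = avg φ B s v := by
  have h1 : φ ∘ avg φ B s v
      = ∑ i ∈ Finset.range s, (Cs φ B i).map φ *ᵥ ((φ ^ (i + 1)) ∘ v) := by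
    unfold avg
    funext k
    rw [Function.comp_apply, Finset.sum_apply, map_sum, Finset.sum_apply]
    refine Finset.sum_congr rfl fun i _ => ?_
    have h2 := congrFun (frob_mulVec φ (Cs φ B i) ((φ ^ i) ∘ v)) k
    rw [Function.comp_apply] at h2
    rw [h2]
    have h2' : φ ∘ ((φ ^ i : F →+* F) ∘ v) = (φ ^ (i + 1) : F →+* F) ∘ v := by
      funext j
      show φ ((φ ^ i) (v j)) = (φ ^ (i + 1)) (v j)
      rw [pow_succ', RingHom.mul_def, RingHom.comp_apply]
    rw [h2']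
  rw [h1, Matrix.mulVec_sum]
  have h3 : ∀ i ∈ Finset.range s, B *ᵥ ((Cs φ B i).map φ *ᵥ ((φ ^ (i + 1)) ∘ v))
      = (fun j => Cs φ B j *ᵥ ((φ ^ j) ∘ v)) (i + 1) := by
    intro i _
    rw [Matrix.mulVec_mulVec]
    rfl
  rw [Finset.sum_congr rfl h3]
  have h4 := Finset.sum_range_succ' (fun j => Cs φ B j *ᵥ ((φ ^ j) ∘ v)) s
  have h5 := Finset.sum_range_succ (fun j => Cs φ B j *ᵥ ((φ ^ j) ∘ v)) s
  have h6 : Cs φ B s *ᵥ ((φ ^ s) ∘ v) = v := by
    rw [hC, Matrix.one_mulVec]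
    funext j
    exact hs (v j)
  have h7 : Cs φ B 0 *ᵥ ((φ ^ 0 : F →+* F) ∘ v) = v := by
    simp only [Cs, pow_zero]
    rw [Matrix.one_mulVec]
    rfl
  unfold avg
  rw [h4] at h5
  rw [h6, h7] at h5
  exact add_right_cancel h5

theorem avg_smul (φ : F →+* F) (B : Matrix (Fin n) (Fin n) F) (s q : ℕ) (hφ : ∀ x, φ x = x ^ q)
    (l : F) (v : Fin n → F) :
    avg φ B s (l • v) = ∑ i ∈ Finset.range s, l ^ (q ^ i) • (Cs φ B i *ᵥ ((φ ^ i) ∘ v)) := by
  unfold avg
  refine Finset.sum_congr rfl fun i _ => ?_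
  have : (φ ^ i) ∘ (l • v) = (l ^ (q ^ i)) • ((φ ^ i) ∘ v) := by
    funext k
    simp only [Function.comp_apply, Pi.smul_apply, smul_eq_mul, map_mul]
    rw [frob_pow_apply φ q hφ i l]
  rw [this, Matrix.mulVec_smul]

/-- the fixed vectors of `τ` span `F^n` -/
theorem span_fixed_eq_top (φ : F →+* F) (B : Matrix (Fin n) (Fin n) F) (s q : ℕ)
    (hφ : ∀ x, φ x = x ^ q) (hq : 1 < q) (hs0 : 0 < s) (hcard : Fintype.card F = q ^ s)
    (hC : Cs φ B s = 1) :
    Submodule.span F {v : Fin n → F | B *ᵥ (φ ∘ v) = v} = ⊤ := by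
  classical
  have hs : ∀ x, (φ ^ s) x = x := by
    intro x
    rw [frob_pow_apply φ q hφ s x, ← hcard, FiniteField.pow_card]
  by_contra hne
  have hlt : Submodule.span F {v : Fin n → F | B *ᵥ (φ ∘ v) = v} < ⊤ := lt_top_iff_ne_top.2 hne
  obtain ⟨ℓ, hℓ0, hℓ⟩ := Submodule.exists_le_ker_of_lt_top _ hlt
  obtain ⟨v, hv⟩ : ∃ v, ℓ v ≠ 0 := by
    by_contra h
    push Not at h
    exact hℓ0 (LinearMap.ext h)
  obtain ⟨Pl, hPl⟩ : ∃ Pl : Polynomial F, Pl = ∑ i ∈ Finset.range s,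
      Polynomial.C (ℓ (Cs φ B i *ᵥ ((φ ^ i : F →+* F) ∘ v))) * Polynomial.X ^ (q ^ i) := ⟨_, rfl⟩
  have heval : ∀ l : F, Pl.eval (id l) = 0 := by
    intro l
    have hmem : avg φ B s (l • v) ∈ Submodule.span F {v : Fin n → F | B *ᵥ (φ ∘ v) = v} :=
      Submodule.subset_span (avg_fixed φ B s hs hC (l • v))
    have h0 : ℓ (avg φ B s (l • v)) = 0 := LinearMap.mem_ker.1 (hℓ hmem)
    rw [avg_smul φ B s q hφ, map_sum] at h0
    rw [hPl, Polynomial.eval_finsetSum, ← h0]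
    refine Finset.sum_congr rfl fun i _ => ?_
    rw [map_smul, smul_eq_mul, Polynomial.eval_mul, Polynomial.eval_C, Polynomial.eval_pow,
      Polynomial.eval_X, id, mul_comm]
  have hdeg : Pl.natDegree < Fintype.card F := by
    have hle : Pl.natDegree ≤ q ^ (s - 1) := by
      rw [hPl]
      refine Polynomial.natDegree_sum_le_of_forall_le _ _ fun i hi => ?_
      refine (Polynomial.natDegree_C_mul_X_pow_le _ _).trans ?_
      have : i ≤ s - 1 := by
        have := Finset.mem_range.1 hi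
        omega
      exact Nat.pow_le_pow_right (by omega) this
    have hlt' : q ^ (s - 1) < q ^ s := Nat.pow_lt_pow_right hq (by omega)
    rw [hcard]
    omega
  have hP0 : Pl = 0 :=
    Polynomial.eq_zero_of_natDegree_lt_card_of_eval_eq_zero Pl Function.injective_id heval hdeg
  have hcoef : Pl.coeff 1 = ℓ v := by
    rw [hPl, Polynomial.finsetSum_coeff]
    rw [Finset.sum_eq_single 0]
    · simp [Cs]
    · intro i _ hi0
      rw [Polynomial.coeff_C_mul, Polynomial.coeff_X_pow, if_neg, mul_zero]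
      intro h1
      have : 1 < q ^ i := Nat.one_lt_pow hi0 hq
      omega
    · intro h0
      exact absurd (Finset.mem_range.2 hs0) h0
  rw [hP0, Polynomial.coeff_zero] at hcoef
  exact hv hcoef.symm

/-- **Hilbert 90 for `GL_n`** (finite fields): if `B φ(B) ⋯ φ^(s-1)(B) = 1` then `B = P φ(P)⁻¹`. -/
theorem exists_fixed_matrix (φ : F →+* F) (B : Matrix (Fin n) (Fin n) F) (s q : ℕ)
    (hφ : ∀ x, φ x = x ^ q) (hq : 1 < q) (hs0 : 0 < s) (hcard : Fintype.card F = q ^ s)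
    (hC : Cs φ B s = 1) :
    ∃ P : GL (Fin n) F, B * (P : Matrix (Fin n) (Fin n) F).map φ = (P : Matrix (Fin n) (Fin n) F) := by
  classical
  have hspan := span_fixed_eq_top φ B s q hφ hq hs0 hcard hC
  obtain ⟨b, hbsub, hbspan, hbli⟩ := exists_linearIndependent F {v : Fin n → F | B *ᵥ (φ ∘ v) = v}
  rw [hspan] at hbspan
  have htop : ⊤ ≤ Submodule.span F (Set.range (Subtype.val : b → Fin n → F)) := by
    rw [Subtype.range_coe, hbspan]
  obtain ⟨bas, hbas⟩ : ∃ bas : Module.Basis b F (Fin n → F), ∀ x : b, bas x = (x : Fin n → F) :=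
    ⟨Module.Basis.mk hbli htop, fun x => by rw [Module.Basis.mk_apply]⟩
  obtain ⟨e⟩ : Nonempty (b ≃ Fin n) := ⟨bas.indexEquiv (Pi.basisFun F (Fin n))⟩
  obtain ⟨bas', hbas'⟩ : ∃ bas' : Module.Basis (Fin n) F (Fin n → F), ∀ j, bas' j = ((e.symm j : b) : Fin n → F) :=
    ⟨bas.reindex e, fun j => by rw [Module.Basis.reindex_apply, hbas]⟩
  obtain ⟨M, hM⟩ : ∃ M : Matrix (Fin n) (Fin n) F, M = (Pi.basisFun F (Fin n)).toMatrix bas' := ⟨_, rfl⟩
  have hMij : ∀ i j, M i j = (bas' j) i := by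
    intro i j
    rw [hM, Module.Basis.toMatrix_apply, Pi.basisFun_repr]
  haveI : Invertible M := hM ▸ (Pi.basisFun F (Fin n)).invertibleToMatrix bas'
  refine ⟨unitOfInvertible M, ?_⟩
  rw [val_unitOfInvertible]
  ext i j
  have hfix : B *ᵥ (φ ∘ (bas' j)) = bas' j := by
    rw [hbas']
    exact hbsub (e.symm j).2
  have := congrFun hfix i
  rw [hMij, ← this]
  simp only [Matrix.mul_apply, Matrix.map_apply, Matrix.mulVec, dotProduct, Function.comp_apply, hMij]

/-- **SD** semilinear descent.  `φ x = x ^ |F₀|`.  If the `φ`-semilinear map `τ v = B φ(v)` commutes with the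
absolutely irreducible group `N` (i.e. `g B = B φ(g)`), then `N` is realisable over `F₀`. -/
theorem realisable_of_semilinear_commute (N : Subgroup (GL (Fin n) F))
    (habs : ActsAbsolutelyIrreducibly (matrixSet N)) (F₀ : Subfield F) (B : GL (Fin n) F)
    (hcomm : ∀ g ∈ matrixSet N, g * (B : Matrix (Fin n) (Fin n) F) =
      (B : Matrix (Fin n) (Fin n) F) * g.map (fun x => x ^ Nat.card F₀)) :
    RealisableOver F₀ (matrixSet N) := by
  classical
  rcases Nat.eq_zero_or_pos n with hn0 | hnpos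
  · subst hn0
    exact ⟨1, fun g _ i _ => Fin.elim0 i⟩
  haveI : Nonempty (Fin n) := ⟨⟨0, hnpos⟩⟩
  obtain ⟨φ, hφ⟩ := exists_frob F₀
  obtain ⟨s, hs0, hcard⟩ := exists_card_pow F₀
  obtain ⟨q, hqdef⟩ : ∃ q : ℕ, q = Nat.card F₀ := ⟨_, rfl⟩
  rw [← hqdef] at hφ hcard hcomm
  have hq : 1 < q := hqdef ▸ one_lt_card_subfield F₀
  have hmapeq : ∀ g : Matrix (Fin n) (Fin n) F, g.map (fun x => x ^ q) = g.map φ := by
    intro g
    ext i j
    simp [hφ]
  have hs : ∀ x, (φ ^ s) x = x := by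
    intro x
    rw [frob_pow_apply φ q hφ s x, ← hcard, FiniteField.pow_card]
  have hmaps : ∀ g : Matrix (Fin n) (Fin n) F, g.map (φ ^ s : F →+* F) = g := by
    intro g
    ext i j
    rw [Matrix.map_apply]
    exact hs (g i j)
  obtain ⟨Bm, hBm⟩ : ∃ Bm : Matrix (Fin n) (Fin n) F, Bm = (B : Matrix (Fin n) (Fin n) F) := ⟨_, rfl⟩
  rw [← hBm] at hcomm
  have hBdet : Bm.det ≠ 0 := by
    rw [hBm]
    exact ((Matrix.isUnit_iff_isUnit_det _).1 B.isUnit).ne_zero
  have hBinv : Bm * ((B⁻¹ : GL (Fin n) F) : Matrix (Fin n) (Fin n) F) = 1 := by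
    rw [hBm]
    exact Units.mul_inv B
  -- `C_s` commutes with `N`, hence is a scalar `c`
  have hCcomm : ∀ g ∈ matrixSet N, Cs φ Bm s * g = g * Cs φ Bm s := by
    intro g hg
    have h1 := Cs_comm φ Bm g (by rw [hcomm g hg, hmapeq]) s
    rw [h1, hmaps]
  obtain ⟨c, hc⟩ := habs.2 (Cs φ Bm s) hCcomm
  have hc0 : c ≠ 0 := by
    intro h
    have h1 := Cs_det φ Bm hBdet s
    rw [hc, h, zero_smul, Matrix.det_zero] at h1
    exact h1 rfl
  -- `c` is fixed by `φ`
  have hφc : φ c = c := by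
    have h1 : Cs φ Bm (s + 1) = Bm * (Cs φ Bm s).map φ := rfl
    have h2 := Cs_succ' φ Bm s
    rw [h1, hc, hmaps] at h2
    have h3 : ((c • (1 : Matrix (Fin n) (Fin n) F)).map φ) = φ c • (1 : Matrix (Fin n) (Fin n) F) := by
      ext i j
      by_cases hij : i = j
      · subst hij
        simp
      · simp [hij]
    rw [h3, Matrix.mul_smul, mul_one, Matrix.smul_mul, one_mul] at h2
    have h4 := congrArg (fun X => X * ((B⁻¹ : GL (Fin n) F) : Matrix (Fin n) (Fin n) F)) h2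
    simp only [Matrix.smul_mul, hBinv] at h4
    have h5 := congrFun (congrFun h4 (Classical.arbitrary (Fin n))) (Classical.arbitrary (Fin n))
    simpa using h5
  -- rescale
  obtain ⟨l, hl0, hl⟩ := exists_norm q s hq hcard c⁻¹ (inv_ne_zero hc0)
    (by rw [inv_pow, ← hφ, hφc])
  have hC' : Cs φ (l • Bm) s = 1 := by
    rw [Cs_smul, Ns_eq_pow φ q hφ, hl, hc, smul_smul, inv_mul_cancel₀ hc0, one_smul]
  obtain ⟨P, hP⟩ := exists_fixed_matrix φ (l • Bm) s q hφ hq hs0 hcard hC'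
  refine ⟨P⁻¹, ?_⟩
  intro g hg i j
  apply mem_of_pow_card F₀
  rw [← hqdef, inv_inv]
  obtain ⟨M, hM⟩ : ∃ M : Matrix (Fin n) (Fin n) F,
      M = ((P⁻¹ : GL (Fin n) F) : Matrix (Fin n) (Fin n) F) * g * (P : Matrix (Fin n) (Fin n) F) := ⟨_, rfl⟩
  rw [← hM]
  have hPinv : (P : Matrix (Fin n) (Fin n) F) * ((P⁻¹ : GL (Fin n) F) : Matrix (Fin n) (Fin n) F) = 1 :=
    Units.mul_inv P
  have hPinv' : ((P⁻¹ : GL (Fin n) F) : Matrix (Fin n) (Fin n) F) * (P : Matrix (Fin n) (Fin n) F) = 1 :=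
    Units.inv_mul P
  have hPM : (P : Matrix (Fin n) (Fin n) F) * M = g * (P : Matrix (Fin n) (Fin n) F) := by
    rw [hM, ← mul_assoc, ← mul_assoc, hPinv, one_mul]
  have h1 : (l • Bm) * ((P : Matrix (Fin n) (Fin n) F) * M).map φ
      = (P : Matrix (Fin n) (Fin n) F) * M.map φ := by
    rw [Matrix.map_mul, ← mul_assoc, hP]
  have h2 : (l • Bm) * (g * (P : Matrix (Fin n) (Fin n) F)).map φ
      = g * (P : Matrix (Fin n) (Fin n) F) := by
    rw [Matrix.map_mul, ← mul_assoc, Matrix.smul_mul, ← hmapeq g, ← hcomm g hg, ← Matrix.mul_smul,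
      mul_assoc, hP]
  rw [hPM, h2, ← hPM] at h1
  have h3 : M.map φ = M := by
    have := congrArg (fun X => ((P⁻¹ : GL (Fin n) F) : Matrix (Fin n) (Fin n) F) * X) h1
    simp only [← mul_assoc, hPinv', one_mul] at this
    exact this.symm
  have h4 := congrFun (congrFun h3 i) j
  rw [Matrix.map_apply, hφ] at h4
  exact h4

end Cfsg.Agent.Lib.H18.AschS
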