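import Cfsg.Agent.Lib.H13.HSDefs

/-!
# S2536 piece P6 (helper18 twin): `caseE`, degree 9
-/

namespace Cfsg.Agent.Lib.H18.HS
open Equiv MulAction Cfsg.Agent.Lib.H13.HS
open scoped Pointwise

/-- local copy of `hall_conj_elt` (fixed point of an `r`-group on the cosets of a Hall subgroup). -/
theorem p6_hall_conj_elt {G : Type*} [Group G] [Finite G] {π : Set ℕ} {H : Subgroup G}
    (hH : Cfsg.IsPiHall π H) {r : ℕ} (hr : r.Prime) (hrπ : r ∈ π)
    (x : G) (k : ℕ) (hx : orderOf x = r ^ k) : ∃ g : G, g * x * g⁻¹ ∈ H := by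
  have : Fact r.Prime := ⟨hr⟩
  have hP : IsPGroup r (Subgroup.zpowers x) := by
    apply IsPGroup.of_card (n := k)
    rw [Nat.card_zpowers, hx]
  have hnd : ¬ r ∣ Nat.card (G ⧸ H) := hH.2 r hr hrπ
  obtain ⟨q, hq⟩ := hP.nonempty_fixed_point_of_prime_not_dvd_card (G ⧸ H) hnd
  induction q using QuotientGroup.induction_on with
  | H g =>
    have h1 := hq ⟨x, Subgroup.mem_zpowers x⟩
    refine ⟨g⁻¹, ?_⟩
    have h2 : ((x * g : G) : G ⧸ H) = (g : G ⧸ H) := h1
    rw [QuotientGroup.eq] at h2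
    have h3 := H.inv_mem h2
    simpa [mul_assoc] using h3

theorem caseE {α : Type*} [Finite α] (h9 : Nat.card α = 9) {π : Set ℕ} {H : Subgroup (Perm α)}
    (hH : Cfsg.IsPiHall π H) (htr : IsPretransitive H α) (h2 : 2 ∈ π) (h3 : 3 ∈ π) (h5 : 5 ∉ π) :
    False := by
  classical
  have := Fintype.ofFinite α
  have hc9 : Fintype.card α = 9 := by rw [← Nat.card_eq_fintype_card]; exact h9
  -- an 8-cycle
  obtain ⟨σ₀, hσ₀⟩ := (Equiv.Perm.exists_with_cycleType_iff (α := α) (m := {8})).mpr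
    ⟨by simp [hc9], by simp⟩
  have ho8 : orderOf σ₀ = 2 ^ 3 := by
    rw [← Equiv.Perm.lcm_cycleType, hσ₀]; simp
  obtain ⟨g, hg⟩ := p6_hall_conj_elt hH Nat.prime_two h2 σ₀ 3 ho8
  set σ := g * σ₀ * g⁻¹ with hσdef
  have hσt : σ.cycleType = {8} := by rw [hσdef, Equiv.Perm.cycleType_conj, hσ₀]
  have hσc : σ.IsCycle := by
    rw [← Equiv.Perm.card_cycleType_eq_one, hσt]; simp
  have hσs : σ.support.card = 8 := by
    rw [← Equiv.Perm.sum_cycleType, hσt]; simp
  -- the fixed point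
  have hcompl : (σ.supportᶜ).card = 1 := by
    rw [Finset.card_compl, hσs, hc9]
  obtain ⟨a, ha⟩ := Finset.card_eq_one.mp hcompl
  have hfix : ∀ x, σ x = x ↔ x = a := by
    intro x
    have : x ∈ σ.supportᶜ ↔ x ∈ ({a} : Finset α) := by rw [ha]
    simpa [Finset.mem_compl, Equiv.Perm.mem_support] using this
  -- 2-transitivity
  have h2t : IsMultiplyPretransitive H α 2 := by
    rw [is_two_pretransitive_iff]
    intro a' b' c' d' hab hcd
    obtain ⟨g₁, hg₁⟩ := htr.exists_smul_eq a' a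
    obtain ⟨g₂, hg₂⟩ := htr.exists_smul_eq c' a
    have hb : σ (g₁ • b') ≠ g₁ • b' := by
      intro h
      have h' := (hfix _).mp h
      exact hab (smul_left_cancel g₁ (hg₁.trans h'.symm))
    have hd : σ (g₂ • d') ≠ g₂ • d' := by
      intro h
      have h' := (hfix _).mp h
      exact hcd (smul_left_cancel g₂ (hg₂.trans h'.symm))
    obtain ⟨i, hi⟩ := hσc.exists_zpow_eq hb hd
    have hσi : σ ^ i ∈ H := H.zpow_mem hg i
    refine ⟨g₂⁻¹ * ⟨σ ^ i, hσi⟩ * g₁, ?_, ?_⟩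
    · rw [mul_smul, mul_smul, hg₁]
      have h' : (⟨σ ^ i, hσi⟩ : H) • a = a := by
        show (σ ^ i) a = a
        exact Equiv.Perm.zpow_apply_eq_self_of_apply_eq_self ((hfix a).mpr rfl) i
      rw [h', ← hg₂, inv_smul_smul]
    · rw [mul_smul, mul_smul]
      have h' : (⟨σ ^ i, hσi⟩ : H) • (g₁ • b') = g₂ • d' := hi
      rw [h', inv_smul_smul]
  have hprim : IsPreprimitive H α := isPreprimitive_of_is_two_pretransitive h2t
  -- a 3-cycle
  obtain ⟨τ₀, hτ₀⟩ := (Equiv.Perm.exists_with_cycleType_iff (α := α) (m := {3})).mpr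
    ⟨by simp [hc9], by simp⟩
  have ho3 : orderOf τ₀ = 3 ^ 1 := by
    rw [← Equiv.Perm.lcm_cycleType, hτ₀]; simp
  obtain ⟨g', hg'⟩ := p6_hall_conj_elt hH Nat.prime_three h3 τ₀ 1 ho3
  have hτ3 : (g' * τ₀ * g'⁻¹).IsThreeCycle := by
    unfold Equiv.Perm.IsThreeCycle
    rw [Equiv.Perm.cycleType_conj, hτ₀]
  have hAlt : alternatingGroup α ≤ H :=
    Equiv.Perm.alternatingGroup_le_of_isPreprimitive_of_isThreeCycle_mem hprim hτ3 hg'
  -- 5 ∣ |H|
  have : Nontrivial α := by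
    rw [← Fintype.one_lt_card_iff_nontrivial, hc9]; norm_num
  have hA : 2 * Nat.card (alternatingGroup α) = Nat.card (Perm α) :=
    two_mul_nat_card_alternatingGroup
  rw [Nat.card_perm, h9] at hA
  have h5A : 5 ∣ Nat.card (alternatingGroup α) := by
    have h' : (5 : ℕ) ∣ 2 * Nat.card (alternatingGroup α) := by rw [hA]; decide
    exact (Nat.Coprime.dvd_of_dvd_mul_left (by norm_num) h')
  have h5H : 5 ∣ Nat.card H := h5A.trans (Subgroup.card_dvd_of_le hAlt)
  exact h5 (hH.1 5 (by norm_num) h5H)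

end Cfsg.Agent.Lib.H18.HS
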