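import Cfsg.Agent.Lib.H13.HSDefs2
import Cfsg.Agent.Lib.H18.HSP6

/-!
# stage 2 of the HS project, piece A8 (helper18): `caseE_alt`, degree 9 in `A_9`
-/

namespace Cfsg.Agent.Lib.H18.HS
open Equiv MulAction Cfsg.Agent.Lib.H13.HS
open scoped Pointwise

/-- `IsPiHallOf π M A` gives a Hall subgroup of the group `↥A`. -/
theorem a8_hall_subgroupOf {G : Type*} [Group G] {π : Set ℕ} {M A : Subgroup G}
    (h : Cfsg.IsPiHallOf π M A) : Cfsg.IsPiHall π (M.subgroupOf A) := by
  obtain ⟨hle, h1, h2⟩ := h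
  refine ⟨?_, ?_⟩
  · intro p hp hd
    apply h1 p hp
    rwa [Nat.card_congr (Subgroup.subgroupOfEquivOfLe hle).toEquiv] at hd
  · intro p hp hpπ hd
    exact h2 p hp hpπ hd

/-- an element of prime power order `r ^ k` (`r ∈ π`) of `A` has an `A`-conjugate in `M`. -/
theorem a8_conj_elt {G : Type*} [Group G] [Finite G] {π : Set ℕ} {M A : Subgroup G}
    (h : Cfsg.IsPiHallOf π M A) {r : ℕ} (hr : r.Prime) (hrπ : r ∈ π)
    (x : G) (hxA : x ∈ A) (k : ℕ) (hx : orderOf x = r ^ k) :
    ∃ g ∈ A, g * x * g⁻¹ ∈ M := by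
  have hH := a8_hall_subgroupOf h
  have ho : orderOf (⟨x, hxA⟩ : A) = r ^ k := by
    rw [← hx]; exact Subgroup.orderOf_mk x hxA
  obtain ⟨g, hg⟩ := p6_hall_conj_elt hH hr hrπ ⟨x, hxA⟩ k ho
  refine ⟨g, g.2, ?_⟩
  have := Subgroup.mem_subgroupOf.mp hg
  simpa using this

/-- in a permutation of cycle type `{4, 4}` no point of the support is fixed by the square. -/
theorem a8_sq_ne {α : Type*} [Fintype α] [DecidableEq α] {σ : Perm α}
    (hσ : σ.cycleType = {4, 4}) {x : α} (hx : σ x ≠ x) : (σ ^ 2) x ≠ x := by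
  intro h2
  have hc : (σ.cycleOf x).IsCycle := Equiv.Perm.isCycle_cycleOf σ hx
  have hmem : σ.cycleOf x ∈ σ.cycleFactorsFinset := by
    rw [Equiv.Perm.cycleOf_mem_cycleFactorsFinset_iff, Equiv.Perm.mem_support]; exact hx
  have h4 : (σ.cycleOf x).support.card ∈ σ.cycleType := by
    rw [Equiv.Perm.cycleType_def]
    exact Multiset.mem_map.mpr ⟨_, hmem, rfl⟩
  rw [hσ] at h4
  have h4' : (σ.cycleOf x).support.card = 4 := by
    simpa using h4
  have ho : orderOf (σ.cycleOf x) = 4 := by rw [hc.orderOf, h4']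
  have hcx : (σ.cycleOf x) x ≠ x := by
    rw [Equiv.Perm.cycleOf_apply_self]; exact hx
  have h1 : (σ.cycleOf x) ^ 2 = 1 := by
    rw [hc.pow_eq_one_iff' hcx, Equiv.Perm.cycleOf_pow_apply_self]; exact h2
  have := orderOf_dvd_of_pow_eq_one h1
  rw [ho] at this
  omega

theorem caseE_alt {α : Type*} [Finite α] (h9 : Nat.card α = 9) {π : Set ℕ} {M : Subgroup (Perm α)}
    (hM : Cfsg.IsPiHallOf π M (altSub α)) (htr : IsPretransitive M α)
    (h2 : 2 ∈ π) (h3 : 3 ∈ π) (h5 : 5 ∉ π) : False := by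
  classical
  have := Fintype.ofFinite α
  have hc9 : Fintype.card α = 9 := by rw [← Nat.card_eq_fintype_card]; exact h9
  have hA : altSub α = alternatingGroup α := altSub_eq α
  -- an element of type (4,4)
  obtain ⟨σ₀, hσ₀⟩ := (Equiv.Perm.exists_with_cycleType_iff (α := α) (m := {4, 4})).mpr
    ⟨by simp [hc9], by simp⟩
  have ho4 : orderOf σ₀ = 2 ^ 2 := by
    rw [← Equiv.Perm.lcm_cycleType, hσ₀]; simp
  have hσ₀A : σ₀ ∈ altSub α := by
    rw [hA, Equiv.Perm.mem_alternatingGroup, Equiv.Perm.sign_of_cycleType, hσ₀]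
    exact Even.neg_one_pow ⟨5, rfl⟩
  obtain ⟨g, -, hg⟩ := a8_conj_elt hM Nat.prime_two h2 σ₀ hσ₀A 2 ho4
  set σ := g * σ₀ * g⁻¹ with hσdef
  have hσt : σ.cycleType = {4, 4} := by rw [hσdef, Equiv.Perm.cycleType_conj, hσ₀]
  have hσs : σ.support.card = 8 := by
    rw [← Equiv.Perm.sum_cycleType, hσt]; simp
  -- the fixed point
  have hcompl : (σ.supportᶜ).card = 1 := by
    rw [Finset.card_compl, hσs, hc9]
  obtain ⟨a, ha⟩ := Finset.card_eq_one.mp hcompl
  have hfix : ∀ x, σ x = x ↔ x = a := by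
    intro x
    have : x ∈ σ.supportᶜ ↔ x ∈ ({a} : Finset α) := by rw [ha]
    simpa [Finset.mem_compl, Equiv.Perm.mem_support] using this
  -- primitivity
  have hprim : IsPreprimitive M α := by
    apply IsPreprimitive.of_isTrivialBlock_base a
    intro B haB hB
    by_contra htriv
    unfold IsTrivialBlock at htriv
    rw [not_or] at htriv
    obtain ⟨hns, hnu⟩ := htriv
    -- σ stabilizes B
    have hσB : (⟨σ, hg⟩ : M) • B = B :=
      hB.smul_eq_of_mem haB (by show σ a ∈ B; rw [(hfix a).mpr rfl]; exact haB)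
    have hσmem : ∀ y ∈ B, σ y ∈ B := by
      intro y hy
      have : (⟨σ, hg⟩ : M) • y ∈ (⟨σ, hg⟩ : M) • B := Set.smul_mem_smul_set hy
      rw [hσB] at this
      exact this
    -- a second point
    obtain ⟨x, hxB, hxa⟩ : ∃ x ∈ B, x ≠ a := by
      by_contra hcon
      push Not at hcon
      apply hns
      intro u hu v hv
      rw [hcon u hu, hcon v hv]
    have hx1 : σ x ≠ x := fun h => hxa ((hfix x).mp h)
    have hx2 : (σ ^ 2) x ≠ x := a8_sq_ne hσt hx1
    have hx2' : σ (σ x) ≠ x := by simpa [pow_two] using hx2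
    have h1B : σ x ∈ B := hσmem x hxB
    have h2B : σ (σ x) ∈ B := hσmem _ h1B
    have h1a : σ x ≠ a := by
      intro h
      have : σ (σ x) = σ x := by rw [h]; exact (hfix a).mpr rfl
      exact hx1 (σ.injective this)
    have h2a : σ (σ x) ≠ a := by
      intro h
      have : σ (σ (σ x)) = σ (σ x) := by rw [h]; exact (hfix a).mpr rfl
      exact hx1 (σ.injective (σ.injective this))
    have h12 : σ (σ x) ≠ σ x := fun h => hx1 (σ.injective h)
    -- four distinct points in B
    have hT : (({a, x, σ x, σ (σ x)} : Finset α) : Set α) ⊆ B := by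
      intro y hy
      simp only [Finset.coe_insert, Finset.coe_singleton, Set.mem_insert_iff,
        Set.mem_singleton_iff] at hy
      rcases hy with rfl | rfl | rfl | rfl
      · exact haB
      · exact hxB
      · exact h1B
      · exact h2B
    have hTc : ({a, x, σ x, σ (σ x)} : Finset α).card = 4 := by
      rw [Finset.card_insert_of_notMem, Finset.card_insert_of_notMem,
        Finset.card_insert_of_notMem, Finset.card_singleton]
      · simp only [Finset.mem_singleton]; exact fun h => h12 h.symm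
      · simp only [Finset.mem_insert, Finset.mem_singleton, not_or]
        exact ⟨fun h => hx1 h.symm, fun h => hx2' h.symm⟩
      · simp only [Finset.mem_insert, Finset.mem_singleton, not_or]
        exact ⟨fun h => hxa h.symm, fun h => h1a h.symm, fun h => h2a h.symm⟩
    have h4 : 4 ≤ B.ncard := by
      have := Set.ncard_le_ncard hT (Set.toFinite B)
      rwa [Set.ncard_coe_finset, hTc] at this
    have hdvd : B.ncard ∣ 9 := by
      have := hB.ncard_dvd_card ⟨a, haB⟩
      rwa [h9] at this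
    have h9' : B.ncard = 9 := by
      have hle : B.ncard ≤ 9 := Nat.le_of_dvd (by norm_num) hdvd
      interval_cases h : B.ncard <;> first | rfl | omega
    apply hnu
    apply hB.eq_univ_of_card_lt
    rw [h9, h9']
    norm_num
  -- a 3-cycle
  obtain ⟨τ₀, hτ₀⟩ := (Equiv.Perm.exists_with_cycleType_iff (α := α) (m := {3})).mpr
    ⟨by simp [hc9], by simp⟩
  have ho3 : orderOf τ₀ = 3 ^ 1 := by
    rw [← Equiv.Perm.lcm_cycleType, hτ₀]; simp
  have hτ₀A : τ₀ ∈ altSub α := by
    rw [hA, Equiv.Perm.mem_alternatingGroup, Equiv.Perm.sign_of_cycleType, hτ₀]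
    exact Even.neg_one_pow ⟨2, rfl⟩
  obtain ⟨g', -, hg'⟩ := a8_conj_elt hM Nat.prime_three h3 τ₀ hτ₀A 1 ho3
  have hτ3 : (g' * τ₀ * g'⁻¹).IsThreeCycle := by
    unfold Equiv.Perm.IsThreeCycle
    rw [Equiv.Perm.cycleType_conj, hτ₀]
  have hAlt : alternatingGroup α ≤ M :=
    Equiv.Perm.alternatingGroup_le_of_isPreprimitive_of_isThreeCycle_mem hprim hτ3 hg'
  -- 5 ∣ |M|
  have : Nontrivial α := by
    rw [← Fintype.one_lt_card_iff_nontrivial, hc9]; norm_num
  have hA2 : 2 * Nat.card (alternatingGroup α) = Nat.card (Perm α) :=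
    two_mul_nat_card_alternatingGroup
  rw [Nat.card_perm, h9] at hA2
  have h5A : 5 ∣ Nat.card (alternatingGroup α) := by
    have h' : (5 : ℕ) ∣ 2 * Nat.card (alternatingGroup α) := by rw [hA2]; decide
    exact (Nat.Coprime.dvd_of_dvd_mul_left (by norm_num) h')
  have h5M : 5 ∣ Nat.card M := h5A.trans (Subgroup.card_dvd_of_le hAlt)
  exact h5 (hM.2.1 5 (by norm_num) h5M)

end Cfsg.Agent.Lib.H18.HS
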