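import Mathlib

/-!
# Structure of characteristically simple finite groups (helper18)

If a finite nontrivial group `N` has no proper nontrivial subgroup invariant under a group `A` of
automorphisms (e.g. one containing the inner ones), then `N ≃* T ^ m` with `T` simple.
-/

set_option autoImplicit false

namespace Cfsg.Agent.Lib.H18

open Subgroup

section Prod

variable {N : Type*} [Group N]

/-- Internal direct product of two commuting disjoint subgroups. -/
noncomputable def supMulEquivProd (H K : Subgroup N) (hcomm : ∀ h ∈ H, ∀ k ∈ K, Commute h k)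
    (hd : Disjoint H K) : (H ⊔ K : Subgroup N) ≃* H × K := by
  have comm : ∀ (m : H) (n : K), Commute (H.subtype m) (K.subtype n) :=
    fun m n => hcomm m.1 m.2 n.1 n.2
  have hinj : Function.Injective (MonoidHom.noncommCoprod H.subtype K.subtype comm) :=
    (MonoidHom.noncommCoprod_injective _ _ _).mpr
      ⟨Subtype.coe_injective, Subtype.coe_injective, by simpa using hd⟩
  have hrange : (MonoidHom.noncommCoprod H.subtype K.subtype comm).range = H ⊔ K := by
    rw [MonoidHom.noncommCoprod_range]; simp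
  exact ((MonoidHom.ofInjective hinj).trans (MulEquiv.subgroupCongr hrange)).symm

/-- `T ^ (n+1) ≃* T ^ n × T`. -/
def finSuccMulEquiv (T : Type*) [Mul T] (n : ℕ) : (Fin (n + 1) → T) ≃* (Fin n → T) × T :=
  { Fin.succFunEquiv T n with
    map_mul' := by
      intro f g
      ext <;> rfl }

end Prod


section Main

variable {N : Type*} [Group N] [Finite N]

/-- Existence of a minimal normal subgroup. -/
theorem exists_minimal_normal [Nontrivial N] :
    ∃ T : Subgroup N, T.Normal ∧ T ≠ ⊥ ∧ ∀ K : Subgroup N, K.Normal → K ≤ T → K = ⊥ ∨ K = T := by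
  classical
  let P : ℕ → Prop := fun k => ∃ K : Subgroup N, K.Normal ∧ K ≠ ⊥ ∧ Nat.card K = k
  have hP : ∃ k, P k := ⟨_, ⊤, inferInstance, top_ne_bot, rfl⟩
  obtain ⟨T, hTn, hT, hTc⟩ := Nat.find_spec hP
  refine ⟨T, hTn, hT, ?_⟩
  intro K hKn hKT
  by_cases hK : K = ⊥
  · exact Or.inl hK
  · right
    apply Subgroup.eq_of_le_of_card_ge hKT
    rw [hTc]
    exact Nat.find_min' hP ⟨K, hKn, hK, rfl⟩

/-- A finite group with no proper nontrivial subgroups invariant under a group of automorphisms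
containing the inner ones is a direct power of a simple group. -/
theorem exists_simple_pow [Nontrivial N] {A : Type*} [Group A] (φ : A →* MulAut N)
    (hmin : ∀ M : Subgroup N, (∀ a, M.map (φ a).toMonoidHom ≤ M) → M = ⊥ ∨ M = ⊤) :
    ∃ (T : Subgroup N) (m : ℕ), IsSimpleGroup T ∧ 0 < m ∧ Nonempty (N ≃* (Fin m → T)) := by
  classical
  obtain ⟨T₀, hT₀n, hT₀, hT₀min⟩ := exists_minimal_normal (N := N)
  have hTa_normal : ∀ a, (T₀.map (φ a).toMonoidHom).Normal :=
    fun a => hT₀n.map _ (φ a).surjective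
  have hTa_min : ∀ a, ∀ K : Subgroup N, K.Normal → K ≤ T₀.map (φ a).toMonoidHom →
      K = ⊥ ∨ K = T₀.map (φ a).toMonoidHom := by
    intro a K hKn hK
    have h1 : K.comap (φ a).toMonoidHom ≤ T₀ := by
      have := Subgroup.comap_mono (f := (φ a).toMonoidHom) hK
      rwa [Subgroup.comap_map_eq_self_of_injective (φ a).injective] at this
    rcases hT₀min _ (hKn.comap _) h1 with h | h
    · left
      rw [← Subgroup.map_comap_eq_self_of_surjective (f := (φ a).toMonoidHom) (φ a).surjective K,
        h, Subgroup.map_bot]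
    · right
      rw [← Subgroup.map_comap_eq_self_of_surjective (f := (φ a).toMonoidHom) (φ a).surjective K,
        h]
  let PP : Subgroup N → Prop := fun M => M.Normal ∧
    (∃ C : Subgroup N, C.Normal ∧ Disjoint T₀ C ∧ T₀ ⊔ C = M) ∧
    ∃ m, 0 < m ∧ Nonempty (M ≃* (Fin m → T₀))
  have hPPT₀ : PP T₀ := ⟨hT₀n, ⟨⊥, inferInstance, disjoint_bot_right, sup_bot_eq _⟩, 1, one_pos,
    ⟨(MulEquiv.funUnique (Fin 1) T₀).symm⟩⟩
  obtain ⟨M, hM, hMmax⟩ : ∃ M, PP M ∧ ∀ M', PP M' → Nat.card M' ≤ Nat.card M := by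
    let Q : ℕ → Prop := fun k => ∃ M, PP M ∧ Nat.card M = k
    have hQ : Q (Nat.card T₀) := ⟨T₀, hPPT₀, rfl⟩
    have hle : Nat.card T₀ ≤ Nat.card N := Subgroup.card_le_card_group T₀
    obtain ⟨M, hM, hMc⟩ := Nat.findGreatest_spec (P := Q) hle hQ
    refine ⟨M, hM, fun M' hM' => ?_⟩
    rw [hMc]
    exact Nat.le_findGreatest (Subgroup.card_le_card_group M') ⟨M', hM', rfl⟩
  obtain ⟨hMn, ⟨C, hCn, hdisj, hsup⟩, m, hm, ⟨e⟩⟩ := hM
  have hT₀M : T₀ ≤ M := hsup ▸ le_sup_left
  have hCM : C ≤ M := hsup ▸ le_sup_right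
  have hall : ∀ a, T₀.map (φ a).toMonoidHom ≤ M := by
    intro a
    by_contra hnot
    set T' := T₀.map (φ a).toMonoidHom with hT'
    have hT'n : T'.Normal := hTa_normal a
    have hinf : T' ⊓ M = ⊥ := by
      rcases hTa_min a (T' ⊓ M) inferInstance inf_le_left with h | h
      · exact h
      · exact absurd (by rw [hT', ← h]; exact inf_le_right : T' ≤ M) hnot
    have hdMT : Disjoint M T' := by rw [disjoint_iff, inf_comm]; exact hinf
    have hcomm : ∀ h ∈ M, ∀ k ∈ T', Commute h k := fun h hh k hk =>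
      Subgroup.commute_of_normal_of_disjoint M T' hMn hT'n hdMT h k hh hk
    have eT : T' ≃* T₀ := ((φ a).subgroupMap T₀).symm
    have e' : (M ⊔ T' : Subgroup N) ≃* (Fin (m + 1) → T₀) :=
      (supMulEquivProd M T' hcomm hdMT).trans
        ((MulEquiv.prodCongr e eT).trans (finSuccMulEquiv T₀ m).symm)
    have hPP' : PP (M ⊔ T') := by
      refine ⟨inferInstance, ⟨C ⊔ T', inferInstance, ?_, ?_⟩, m + 1, Nat.succ_pos _, ⟨e'⟩⟩
      · rw [disjoint_iff, eq_bot_iff]
        intro x hx
        obtain ⟨hx1, hx2⟩ := Subgroup.mem_inf.mp hx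
        rw [← SetLike.mem_coe, Subgroup.mul_normal C T'] at hx2
        obtain ⟨c, hc, t, ht, rfl⟩ := Set.mem_mul.mp hx2
        have htM : t ∈ M := by
          have : t = c⁻¹ * (c * t) := by group
          rw [this]; exact M.mul_mem (M.inv_mem (hCM hc)) (hT₀M hx1)
        have ht1 : t = 1 := by
          have : t ∈ T' ⊓ M := ⟨ht, htM⟩
          rwa [hinf, Subgroup.mem_bot] at this
        rw [ht1, mul_one] at hx1 ⊢
        have : c ∈ T₀ ⊓ C := ⟨hx1, hc⟩
        rwa [hdisj.eq_bot] at this
      · rw [← sup_assoc, hsup]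
    have hcard : Nat.card (M ⊔ T' : Subgroup N) ≤ Nat.card M := hMmax _ hPP'
    have hcard' : Nat.card (M ⊔ T' : Subgroup N) = Nat.card M * Nat.card T₀ := by
      rw [Nat.card_congr (supMulEquivProd M T' hcomm hdMT).toEquiv, Nat.card_prod,
        Nat.card_congr eT.toEquiv]
    have hT₀card : 1 < Nat.card T₀ := (Subgroup.one_lt_card_iff_ne_bot T₀).mpr hT₀
    have hMpos : 0 < Nat.card M := Nat.card_pos
    nlinarith
  -- the join of the conjugates is everything
  have hMtop : M = ⊤ := by
    set L : Subgroup N := ⨆ a, T₀.map (φ a).toMonoidHom with hL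
    have hLM : L ≤ M := iSup_le hall
    have hLinv : ∀ b, L.map (φ b).toMonoidHom ≤ L := by
      intro b
      rw [hL, Subgroup.map_iSup]
      apply iSup_le
      intro a
      rw [Subgroup.map_map]
      have : (φ b).toMonoidHom.comp (φ a).toMonoidHom = (φ (b * a)).toMonoidHom := by
        ext x; simp [map_mul]
      rw [this]
      exact le_iSup (fun a => T₀.map (φ a).toMonoidHom) (b * a)
    have hT₀L : T₀ ≤ L := by
      have : T₀.map (φ 1).toMonoidHom = T₀ := by
        rw [map_one]
        ext x; simp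
      calc T₀ = T₀.map (φ 1).toMonoidHom := this.symm
        _ ≤ L := le_iSup (fun a => T₀.map (φ a).toMonoidHom) 1
    rcases hmin L hLinv with h | h
    · exact absurd (le_bot_iff.mp (h ▸ hT₀L)) hT₀
    · exact top_le_iff.mp (h ▸ hLM)
  have hcommTC := Subgroup.commute_of_normal_of_disjoint T₀ C hT₀n hCn hdisj
  have hsimple : IsSimpleGroup T₀ := by
    have hnt : Nontrivial T₀ := (Subgroup.nontrivial_iff_ne_bot T₀).mpr hT₀
    refine { toNontrivial := hnt, eq_bot_or_eq_top_of_normal := ?_ }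
    intro K hK
    have hK'n : (K.map T₀.subtype).Normal := by
      constructor
      intro x hx n
      have hn : n ∈ T₀ ⊔ C := by rw [hsup, hMtop]; exact Subgroup.mem_top n
      rw [← SetLike.mem_coe, Subgroup.mul_normal T₀ C] at hn
      obtain ⟨t, ht, c, hc, rfl⟩ := Set.mem_mul.mp hn
      obtain ⟨k, hk, rfl⟩ := Subgroup.mem_map.mp hx
      have hkc : Commute (k : N) c := hcommTC k c k.2 hc
      have : t * c * (T₀.subtype k) * (t * c)⁻¹ = T₀.subtype (⟨t, ht⟩ * k * ⟨t, ht⟩⁻¹) := by
        simp only [Subgroup.subtype_apply, Subgroup.coe_mul, Subgroup.coe_inv, mul_inv_rev]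
        calc t * c * ↑k * (c⁻¹ * t⁻¹) = t * (c * ↑k * c⁻¹) * t⁻¹ := by group
          _ = t * ↑k * t⁻¹ := by rw [← hkc.eq, mul_inv_cancel_right]
      rw [this]
      exact Subgroup.mem_map_of_mem _ (hK.conj_mem k hk _)
    rcases hT₀min _ hK'n (Subgroup.map_subtype_le K) with h | h
    · left
      exact (Subgroup.map_eq_bot_iff_of_injective K T₀.subtype_injective).mp h
    · right
      have := Subgroup.comap_map_eq_self_of_injective T₀.subtype_injective K
      rw [h] at this
      rw [← this]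
      exact Subgroup.subgroupOf_self T₀
  exact ⟨T₀, m, hsimple, hm, ⟨(Subgroup.topEquiv.symm.trans
    (MulEquiv.subgroupCongr hMtop.symm)).trans e⟩⟩

end Main

end Cfsg.Agent.Lib.H18
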