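import Mathlib

/-!
# S4150 — piece N1 `exists_primes_gap` (helper18)

For `m ≥ 17` there are primes `p < q` in `(m/2, m]` with `q - p ≥ 4`.

Large `m`: for `n ≥ 512` there are at least three primes in `(n, 2n]`.  This is the Erdős proof of
Bertrand's postulate as in Mathlib's `NumberTheory/Bertrand.lean`, with one extra observation: the
primes `≤ √(2n)` lie in `[2, √(2n)] ∖ {4}`, so there are at most `√(2n) - 2` of them, which pays
for two primes in `(n, 2n]`; Mathlib's `bertrand_main_inequality` is then used unchanged.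
Small `m`: an explicit chain of pairs.
-/

set_option autoImplicit false

namespace Cfsg.Agent.Lib.H18.AG

open Nat

theorem sqrt_two_mul_ge (n : ℕ) (n_large : 512 ≤ n) : 32 ≤ sqrt (2 * n) := by
  rw [Nat.le_sqrt]
  omega

/-- the primes up to `2n/3` -/
theorem prod_small_le (n : ℕ) (n_large : 512 ≤ n) :
    ∏ p ∈ Finset.range (2 * n / 3 + 1), p ^ (centralBinom n).factorization p ≤
      (2 * n) ^ (sqrt (2 * n) - 2) * 4 ^ (2 * n / 3) := by
  have n_pos : 0 < n := by omega
  have n2_pos : 1 ≤ 2 * n := by omega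
  have hs := sqrt_two_mul_ge n n_large
  let S := {p ∈ Finset.range (2 * n / 3 + 1) | Nat.Prime p}
  let f x := x ^ n.centralBinom.factorization x
  have : ∏ x ∈ S, f x = ∏ x ∈ Finset.range (2 * n / 3 + 1), f x := by
    refine Finset.prod_filter_of_ne fun p _ h => ?_
    contrapose h; dsimp only [f]
    rw [factorization_eq_zero_of_not_prime n.centralBinom h, _root_.pow_zero]
  change ∏ x ∈ Finset.range (2 * n / 3 + 1), f x ≤ _
  rw [← this, ← Finset.prod_filter_mul_prod_filter_not S (· ≤ sqrt (2 * n))]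
  apply mul_le_mul'
  · refine (Finset.prod_le_prod' fun p _ => (?_ : f p ≤ 2 * n)).trans ?_
    · exact pow_factorization_choose_le (mul_pos two_pos n_pos)
    rw [Finset.prod_const]
    refine pow_right_mono₀ n2_pos ?_
    have hsub : (S.filter (· ≤ sqrt (2 * n))) ⊆ (Finset.Icc 2 (sqrt (2 * n))).erase 4 := by
      intro x hx
      obtain ⟨h1, h2⟩ := Finset.mem_filter.1 hx
      have hp : x.Prime := (Finset.mem_filter.1 h1).2
      rw [Finset.mem_erase, Finset.mem_Icc]
      refine ⟨?_, hp.two_le, h2⟩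
      rintro rfl
      exact absurd hp (by norm_num)
    refine (Finset.card_le_card hsub).trans ?_
    rw [Finset.card_erase_of_mem (Finset.mem_Icc.2 ⟨by norm_num, by omega⟩), Nat.card_Icc]
    omega
  · refine le_trans ?_ (primorial_le_four_pow (2 * n / 3))
    refine (Finset.prod_le_prod' fun p hp => (?_ : f p ≤ p)).trans ?_
    · obtain ⟨h1, h2⟩ := Finset.mem_filter.1 hp
      refine (pow_right_mono₀ (Finset.mem_filter.1 h1).2.one_lt.le ?_).trans (pow_one p).le
      exact Nat.factorization_choose_le_one (sqrt_lt'.mp <| not_le.1 h2)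
    refine Finset.prod_le_prod_of_subset_of_one_le' (Finset.filter_subset _ _) ?_
    exact fun p hp _ => (Finset.mem_filter.1 hp).2.one_lt.le

/-- the primes in `(2n/3, 2n]`, if at most two of them exceed `n` -/
theorem prod_large_le (n : ℕ) (n_large : 512 ≤ n)
    (hD : ((Finset.Ioc n (2 * n)).filter Nat.Prime).card ≤ 2) :
    ∏ p ∈ Finset.Ico (2 * n / 3 + 1) (2 * n + 1), p ^ (centralBinom n).factorization p ≤
      (2 * n) ^ 2 := by
  let f x := x ^ n.centralBinom.factorization x
  have h1 : ∏ x ∈ (Finset.Ico (2 * n / 3 + 1) (2 * n + 1)).filter (fun p => p.Prime ∧ n < p), f x =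
      ∏ x ∈ Finset.Ico (2 * n / 3 + 1) (2 * n + 1), f x := by
    refine Finset.prod_filter_of_ne fun p hp h => ?_
    by_contra hcon
    apply h
    dsimp only [f]
    by_cases hpp : p.Prime
    · have hpn : p ≤ n := by
        by_contra h'
        exact hcon ⟨hpp, by omega⟩
      rw [Finset.mem_Ico] at hp
      rw [factorization_centralBinom_of_two_mul_self_lt_three_mul (by omega) hpn (by omega),
        _root_.pow_zero]
    · rw [factorization_eq_zero_of_not_prime _ hpp, _root_.pow_zero]
  change ∏ x ∈ Finset.Ico (2 * n / 3 + 1) (2 * n + 1), f x ≤ _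
  rw [← h1]
  refine (Finset.prod_le_pow_card _ _ (2 * n) ?_).trans ?_
  · intro p _
    exact pow_factorization_choose_le (by omega)
  · refine pow_le_pow_right₀ (by omega) ?_
    refine le_trans (Finset.card_le_card ?_) hD
    intro x hx
    rw [Finset.mem_filter, Finset.mem_Ico] at hx
    rw [Finset.mem_filter, Finset.mem_Ioc]
    exact ⟨⟨hx.2.2, by omega⟩, hx.2.1⟩

/-- at least three primes in `(n, 2n]` for `n ≥ 512` -/
theorem two_lt_card_primes (n : ℕ) (n_large : 512 ≤ n) :
    2 < ((Finset.Ioc n (2 * n)).filter Nat.Prime).card := by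
  by_contra hD
  rw [not_lt] at hD
  have h4 : 4 ^ n < n * n.centralBinom := Nat.four_pow_lt_mul_centralBinom n (by omega)
  have hs := sqrt_two_mul_ge n n_large
  have hcb : n.centralBinom ≤ (2 * n) ^ sqrt (2 * n) * 4 ^ (2 * n / 3) := by
    rw [← n.prod_pow_factorization_centralBinom,
      ← Finset.prod_range_mul_prod_Ico _ (show 2 * n / 3 + 1 ≤ 2 * n + 1 by omega)]
    calc _ ≤ ((2 * n) ^ (sqrt (2 * n) - 2) * 4 ^ (2 * n / 3)) * (2 * n) ^ 2 :=
          Nat.mul_le_mul (prod_small_le n n_large) (prod_large_le n n_large hD)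
      _ = (2 * n) ^ sqrt (2 * n) * 4 ^ (2 * n / 3) := by
          have : sqrt (2 * n) = (sqrt (2 * n) - 2) + 2 := by omega
          conv_rhs => rw [this, pow_add]
          ring
  have : n * n.centralBinom ≤ 4 ^ n := by
    calc n * n.centralBinom ≤ n * ((2 * n) ^ sqrt (2 * n) * 4 ^ (2 * n / 3)) :=
          Nat.mul_le_mul_left _ hcb
      _ = n * (2 * n) ^ sqrt (2 * n) * 4 ^ (2 * n / 3) := by ring
      _ ≤ 4 ^ n := bertrand_main_inequality n_large
  omega

/-- among three distinct odd numbers with a property, two differ by at least 4 -/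
theorem pick_gap (P : ℕ → Prop) (a b c : ℕ) (ha : P a) (hb : P b) (hc : P c) (hab : a ≠ b)
    (hac : a ≠ c) (hbc : b ≠ c) (hodd : ∀ x, P x → x % 2 = 1) :
    ∃ p q, P p ∧ P q ∧ p + 4 ≤ q := by
  have h1 := hodd a ha
  have h2 := hodd b hb
  have h3 := hodd c hc
  by_cases c1 : a + 4 ≤ b
  · exact ⟨a, b, ha, hb, c1⟩
  by_cases c2 : b + 4 ≤ a
  · exact ⟨b, a, hb, ha, c2⟩
  by_cases c3 : a + 4 ≤ c
  · exact ⟨a, c, ha, hc, c3⟩
  by_cases c4 : c + 4 ≤ a
  · exact ⟨c, a, hc, ha, c4⟩
  by_cases c5 : b + 4 ≤ c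
  · exact ⟨b, c, hb, hc, c5⟩
  by_cases c6 : c + 4 ≤ b
  · exact ⟨c, b, hc, hb, c6⟩
  exfalso
  omega

/-- (N1) for `m ≥ 17` there are primes `p < q` in `(m/2, m]` with `q - p ≥ 4`. -/
theorem exists_primes_gap (m : ℕ) (hm : 17 ≤ m) :
    ∃ p q : ℕ, p.Prime ∧ q.Prime ∧ m < 2 * p ∧ p + 4 ≤ q ∧ q ≤ m := by
  rcases Nat.lt_or_ge m 1025 with h | h
  · by_cases h1 : m ≤ 25
    · exact ⟨13, 17, by norm_num, by norm_num, by omega, by omega, by omega⟩
    by_cases h2 : m ≤ 37
    · exact ⟨19, 23, by norm_num, by norm_num, by omega, by omega, by omega⟩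
    by_cases h3 : m ≤ 61
    · exact ⟨31, 37, by norm_num, by norm_num, by omega, by omega, by omega⟩
    by_cases h4 : m ≤ 105
    · exact ⟨53, 59, by norm_num, by norm_num, by omega, by omega, by omega⟩
    by_cases h5 : m ≤ 193
    · exact ⟨97, 103, by norm_num, by norm_num, by omega, by omega, by omega⟩
    by_cases h6 : m ≤ 361
    · exact ⟨181, 193, by norm_num, by norm_num, by omega, by omega, by omega⟩
    by_cases h7 : m ≤ 705
    · exact ⟨353, 359, by norm_num, by norm_num, by omega, by omega, by omega⟩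
    · exact ⟨691, 701, by norm_num, by norm_num, by omega, by omega, by omega⟩
  · have hn : 512 ≤ m / 2 := by omega
    have h3 := two_lt_card_primes (m / 2) hn
    rw [Finset.two_lt_card] at h3
    obtain ⟨a, ha, b, hb, c, hc, hab, hac, hbc⟩ := h3
    obtain ⟨p, q, hp, hq, hpq⟩ := pick_gap (fun x => x ∈ (Finset.Ioc (m / 2) (2 * (m / 2))).filter Nat.Prime)
      a b c ha hb hc hab hac hbc (by
        intro x hx
        rw [Finset.mem_filter, Finset.mem_Ioc] at hx
        rcases hx.2.eq_two_or_odd with h2 | h2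
        · omega
        · exact h2)
    rw [Finset.mem_filter, Finset.mem_Ioc] at hp hq
    exact ⟨p, q, hp.2, hq.2, by omega, hpq, by omega⟩

end Cfsg.Agent.Lib.H18.AG
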