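import Mathlib

/-!
# Lifting permutations in multiply transitive groups, subgroups of bounded support,
and conjugacy of subgroups of prime order (helper18)
-/

set_option autoImplicit false

namespace Cfsg.Agent.Lib.H18

open MulAction Equiv
open scoped Pointwise

/-- In a `k`-transitive subgroup of `Perm α`, every permutation can be matched on a `k`-set. -/
theorem exists_mem_agree_on {α : Type*} [Fintype α] [DecidableEq α] (G : Subgroup (Perm α))
    (s : Finset α) (k : ℕ) (hs : s.card = k) (hG : IsMultiplyPretransitive G α k) (σ : Perm α) :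
    ∃ h ∈ G, ∀ x ∈ s, h x = σ x := by
  let e : Fin k ↪ α := (s.equivFinOfCardEq hs).symm.toEmbedding.trans (Function.Embedding.subtype _)
  obtain ⟨h, hh⟩ := hG.exists_smul_eq e (e.trans σ.toEmbedding)
  refine ⟨h, h.2, ?_⟩
  intro x hx
  have := DFunLike.congr_fun hh (s.equivFinOfCardEq hs ⟨x, hx⟩)
  have h2 : h • x = σ x := by simpa [e] using this
  exact h2

/-- A Sylow `p`-subgroup of a group whose order is not divisible by `p²` is generated by any of its
elements of order `p`. -/
theorem sylow_eq_zpowers {K : Type*} [Group K] [Finite K] {p : ℕ} [hp : Fact p.Prime]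
    (hK : ¬ p ^ 2 ∣ Nat.card K) (a : K) (ha : orderOf a = p) (Q : Sylow p K)
    (haQ : a ∈ (Q : Subgroup K)) : (Q : Subgroup K) = Subgroup.zpowers a := by
  symm
  apply Subgroup.eq_of_le_of_card_ge
  · rwa [Subgroup.zpowers_le]
  · rw [Nat.card_zpowers, ha]
    obtain ⟨k, hk⟩ := IsPGroup.exists_card_eq Q.2
    rw [hk]
    rcases Nat.lt_or_ge k 2 with h | h
    · calc p ^ k ≤ p ^ 1 := Nat.pow_le_pow_right hp.out.pos (by omega)
        _ = p := pow_one p
    · exfalso
      apply hK
      calc p ^ 2 ∣ p ^ k := pow_dvd_pow p h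
        _ = Nat.card (Q : Subgroup K) := hk.symm
        _ ∣ Nat.card K := Subgroup.card_subgroup_dvd_card _

/-- Elements of order `p` generate conjugate subgroups when `p²` does not divide the group order. -/
theorem exists_conj_mem_zpowers {K : Type*} [Group K] [Finite K] {p : ℕ} [hp : Fact p.Prime]
    (hK : ¬ p ^ 2 ∣ Nat.card K) (a b : K) (ha : orderOf a = p) (hb : orderOf b = p) :
    ∃ c : K, c * b * c⁻¹ ∈ Subgroup.zpowers a := by
  have hPa : IsPGroup p (Subgroup.zpowers a) :=
    IsPGroup.of_card (n := 1) (by rw [Nat.card_zpowers, ha, pow_one])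
  have hPb : IsPGroup p (Subgroup.zpowers b) :=
    IsPGroup.of_card (n := 1) (by rw [Nat.card_zpowers, hb, pow_one])
  obtain ⟨Q, hQ⟩ := hPa.exists_le_sylow
  obtain ⟨Q', hQ'⟩ := hPb.exists_le_sylow
  have haQ : a ∈ (Q : Subgroup K) := hQ (Subgroup.mem_zpowers a)
  have hbQ : b ∈ (Q' : Subgroup K) := hQ' (Subgroup.mem_zpowers b)
  obtain ⟨c, hc⟩ := MulAction.exists_smul_eq K Q' Q
  refine ⟨c, ?_⟩
  rw [← sylow_eq_zpowers hK a ha Q haQ, ← hc, Sylow.coe_subgroup_smul]
  exact Subgroup.smul_mem_pointwise_smul b (MulAut.conj c) _ hbQ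

section Supp

variable {α : Type*} [Fintype α] [DecidableEq α]

/-- The elements of `G` whose support lies inside `s`. -/
def suppSubgroup (G : Subgroup (Perm α)) (s : Finset α) : Subgroup (Perm α) where
  carrier := {k | k ∈ G ∧ k.support ⊆ s}
  one_mem' := ⟨G.one_mem, by simp⟩
  mul_mem' := fun ⟨ha, hsa⟩ ⟨hb, hsb⟩ =>
    ⟨G.mul_mem ha hb, (Perm.support_mul_le _ _).trans (Finset.union_subset hsa hsb)⟩
  inv_mem' := fun ⟨ha, hsa⟩ => ⟨G.inv_mem ha, by rwa [Perm.support_inv]⟩

theorem mem_suppSubgroup {G : Subgroup (Perm α)} {s : Finset α} {k : Perm α} :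
    k ∈ suppSubgroup G s ↔ k ∈ G ∧ k.support ⊆ s := Iff.rfl

theorem apply_mem_iff_of_support_subset {s : Finset α} {k : Perm α} (hk : k.support ⊆ s) (x : α) :
    k x ∈ s ↔ x ∈ s := by
  by_cases hx : x ∈ k.support
  · have : k x ∈ k.support := Perm.apply_mem_support.mpr hx
    exact ⟨fun _ => hk hx, fun _ => hk this⟩
  · rw [Perm.notMem_support] at hx
    rw [hx]

theorem card_suppSubgroup_dvd (G : Subgroup (Perm α)) (s : Finset α) :
    Nat.card (suppSubgroup G s) ∣ (s.card).factorial := by
  have hle : suppSubgroup G s ≤ (Perm.ofSubtype : Perm {x // x ∈ s} →* Perm α).range := by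
    intro k hk
    refine ⟨Perm.subtypePerm k (apply_mem_iff_of_support_subset hk.2), ?_⟩
    apply Perm.ofSubtype_subtypePerm
    intro x hx
    exact hk.2 (Perm.mem_support.mpr hx)
  have h1 := Subgroup.card_dvd_of_le hle
  have h2 : Nat.card (Perm.ofSubtype : Perm {x // x ∈ s} →* Perm α).range =
      Nat.card (Perm {x // x ∈ s}) :=
    (Nat.card_congr (MonoidHom.ofInjective Perm.ofSubtype_injective).toEquiv).symm
  rw [h2, Nat.card_perm] at h1
  simpa using h1

end Supp

end Cfsg.Agent.Lib.H18
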