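import Cfsg.Agent.Lib.H14.C2Defs

/-!
# S5634 farm-out, task E1 (helper18): abelian extraction

A group containing the monomial matrices of determinant one and a non-trivial element `1 + e_i ρ` (`ρ_i = 0`) contains
an elementary transvection `1 + c E_{ik}`.
-/

set_option autoImplicit false
set_option linter.unusedSectionVars false

namespace Cfsg.Agent.Lib.H18.C2

open Matrix Cfsg.Agent.Lib.H14.C2

variable {ι : Type} [Fintype ι] [DecidableEq ι] {F : Type*} [Field F]

/-! ### diagonal elements -/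

/-- the diagonal matrix with unit entries `d` as an element of `GL` -/
noncomputable def diagGL (d : ι → Fˣ) : GL ι F := monGL 1 d

theorem diagGL_val (d : ι → Fˣ) :
    ((diagGL d : GL ι F) : Matrix ι ι F) = Matrix.diagonal (fun b => (d b : F)) := by
  ext a b
  unfold diagGL
  rw [monGL_apply, Equiv.Perm.one_apply, Matrix.diagonal_apply]
  by_cases h : a = b
  · rw [if_pos h, if_pos h, h]
  · rw [if_neg h, if_neg h]

theorem diagGL_inv_val (d : ι → Fˣ) :
    (((diagGL d)⁻¹ : GL ι F) : Matrix ι ι F) = Matrix.diagonal (fun b => ((d b)⁻¹ : F)) := by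
  have h1 : (diagGL d)⁻¹ = diagGL (fun b => (d b)⁻¹) := by
    unfold diagGL
    rw [monGL_inv]
    congr 1
  rw [h1, diagGL_val]
  congr 1
  funext b
  exact Units.val_inv_eq_inv_val (d b)

theorem diagGL_mem {G : Subgroup (GL ι F)} (hG : HasMonP G) (d : ι → Fˣ)
    (hprod : ∏ b, (d b : F) = 1) : diagGL d ∈ G := by
  unfold diagGL
  apply monGL_mem_of_hasMonP hG
  rw [Equiv.Perm.sign_one, hprod]
  simp

theorem diagGL_conj_apply (d : ι → Fˣ) (g : GL ι F) (a b : ι) :
    ((diagGL d * g * (diagGL d)⁻¹ : GL ι F) : Matrix ι ι F) a b =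
      (d a : F) * (g : Matrix ι ι F) a b * ((d b)⁻¹ : F) := by
  rw [Units.val_mul, Units.val_mul, diagGL_val, diagGL_inv_val, Matrix.mul_diagonal,
    Matrix.diagonal_mul]

/-- the diagonal entries `λ` at `k`, `λ⁻¹` at `j`, `1` elsewhere -/
noncomputable def hdiag (k j : ι) (l : Fˣ) : ι → Fˣ :=
  fun b => if b = k then l else if b = j then l⁻¹ else 1

theorem hdiag_prod (k j : ι) (hkj : k ≠ j) (l : Fˣ) : ∏ b, ((hdiag k j l b : Fˣ) : F) = 1 := by
  have h1 : ∏ b, ((hdiag k j l b : Fˣ) : F) = ((∏ b, hdiag k j l b : Fˣ) : F) := by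
    rw [Units.coe_prod]
  rw [h1]
  have h2 : ∏ b, hdiag k j l b = 1 := by
    rw [← Finset.mul_prod_erase Finset.univ _ (Finset.mem_univ k),
      ← Finset.mul_prod_erase _ _ (Finset.mem_erase.2 ⟨hkj.symm, Finset.mem_univ j⟩)]
    have h3 : ∀ b ∈ (Finset.univ.erase k).erase j, hdiag k j l b = 1 := by
      intro b hb
      have hbj : b ≠ j := (Finset.mem_erase.1 hb).1
      have hbk : b ≠ k := (Finset.mem_erase.1 (Finset.mem_erase.1 hb).2).1
      unfold hdiag
      rw [if_neg hbk, if_neg hbj]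
    rw [Finset.prod_eq_one h3, mul_one]
    unfold hdiag
    rw [if_pos rfl, if_neg hkj.symm, if_pos rfl, mul_inv_cancel]
  rw [h2, Units.val_one]

/-! ### the unipotent elements `1 + e_i ρ` -/

/-- `g` is the matrix `1 + e_i ρ` -/
def IsU (i : ι) (ρ : ι → F) (M : Matrix ι ι F) : Prop :=
  ∀ a b, M a b = (if a = b then 1 else 0) + (if a = i then ρ b else 0)

theorem isU_mul {i : ι} {ρ ρ' : ι → F} (hρ : ρ i = 0) {M M' : Matrix ι ι F} (hM : IsU i ρ M)
    (hM' : IsU i ρ' M') : IsU i (ρ + ρ') (M * M') := by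
  intro a b
  rw [Matrix.mul_apply]
  by_cases hai : a = i
  · subst hai
    have h1 : ∀ c, M a c * M' c b = (if a = c then M' c b else 0) + ρ c * M' c b := by
      intro c
      rw [hM a c, if_pos rfl, add_mul]
      congr 1
      split_ifs <;> simp
    rw [Finset.sum_congr rfl (fun c _ => h1 c), Finset.sum_add_distrib, Finset.sum_ite_eq,
      if_pos (Finset.mem_univ _)]
    have h2 : ∀ c, ρ c * M' c b = (if c = b then ρ c else 0) + (if c = a then ρ c * ρ' b else 0) := by
      intro c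
      rw [hM' c b, mul_add]
      congr 1 <;> split_ifs <;> simp
    rw [Finset.sum_congr rfl (fun c _ => h2 c), Finset.sum_add_distrib, Finset.sum_ite_eq',
      Finset.sum_ite_eq', if_pos (Finset.mem_univ _), if_pos (Finset.mem_univ _), hρ, zero_mul,
      add_zero, hM' a b, if_pos rfl, if_pos rfl, Pi.add_apply]
    ring
  · have h1 : ∀ c, M a c * M' c b = if a = c then M' c b else 0 := by
      intro c
      rw [hM a c, if_neg hai, add_zero]
      split_ifs <;> simp
    rw [Finset.sum_congr rfl (fun c _ => h1 c), Finset.sum_ite_eq, if_pos (Finset.mem_univ _),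
      hM' a b, if_neg hai, if_neg hai]

/-- the key step: conjugating by a diagonal element and dividing -/
theorem isU_step {G : Subgroup (GL ι F)} (hG : HasMonP G) {i k j : ι} (hki : k ≠ i) (hji : j ≠ i)
    (hkj : k ≠ j) (l : Fˣ) {ρ : ι → F} (hρ : ρ i = 0) {g : GL ι F} (hg : g ∈ G)
    (hgU : IsU i ρ (g : Matrix ι ι F)) :
    ∃ g' ∈ G, IsU i (fun b => if b = k then ρ k * ((l⁻¹ : Fˣ) - 1) else
      if b = j then ρ j * ((l : F) - 1) else 0) (g' : Matrix ι ι F) := by
  obtain ⟨d, hd⟩ : ∃ d : ι → Fˣ, d = hdiag k j l := ⟨_, rfl⟩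
  have hdG : diagGL d ∈ G := diagGL_mem hG d (hd ▸ hdiag_prod k j hkj l)
  have hdi : d i = 1 := by
    rw [hd]
    unfold hdiag
    rw [if_neg hki.symm, if_neg hji.symm]
  refine ⟨g⁻¹ * (diagGL d * g * (diagGL d)⁻¹), G.mul_mem (G.inv_mem hg)
    (G.mul_mem (G.mul_mem hdG hg) (G.inv_mem hdG)), ?_⟩
  obtain ⟨ρ', hρ'⟩ : ∃ ρ' : ι → F, ρ' = fun b => if b = k then ρ k * ((l⁻¹ : Fˣ) - 1) else
      if b = j then ρ j * ((l : F) - 1) else 0 := ⟨_, rfl⟩
  rw [← hρ']
  -- the matrix `1 + e_i ρ'`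
  obtain ⟨M', hM'⟩ : ∃ M' : Matrix ι ι F, M' = fun a b =>
      (if a = b then 1 else 0) + (if a = i then ρ' b else 0) := ⟨_, rfl⟩
  have hM'U : IsU i ρ' M' := fun a b => by rw [hM']
  have hdk : ((d k : Fˣ) : F) = l := by
    rw [hd]
    unfold hdiag
    rw [if_pos rfl]
  have hdj : ((d j : Fˣ) : F) = (l : F)⁻¹ := by
    rw [hd]
    unfold hdiag
    rw [if_neg hkj.symm, if_pos rfl, Units.val_inv_eq_inv_val]
  have hdo : ∀ b, b ≠ k → b ≠ j → ((d b : Fˣ) : F) = 1 := by
    intro b hbk hbj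
    rw [hd]
    unfold hdiag
    rw [if_neg hbk, if_neg hbj, Units.val_one]
  have hl0 : (l : F) ≠ 0 := l.ne_zero
  have hρ'k : ρ' k = ρ k * ((l⁻¹ : Fˣ) - 1) := by
    rw [hρ']
    exact if_pos rfl
  have hρ'j : ρ' j = ρ j * ((l : F) - 1) := by
    rw [hρ']
    show (if j = k then _ else if j = j then _ else _) = _
    rw [if_neg hkj.symm, if_pos rfl]
  have hρ'o : ∀ b, b ≠ k → b ≠ j → ρ' b = 0 := by
    intro b hbk hbj
    rw [hρ']
    show (if b = k then _ else if b = j then _ else _) = _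
    rw [if_neg hbk, if_neg hbj]
  have hprod : (g : Matrix ι ι F) * M' =
      ((diagGL d * g * (diagGL d)⁻¹ : GL ι F) : Matrix ι ι F) := by
    ext a b
    rw [isU_mul hρ hgU hM'U a b, diagGL_conj_apply, hgU a b]
    by_cases hai : a = i
    · rw [if_pos hai, if_pos hai, hai, hdo i hki.symm hji.symm, one_mul, Pi.add_apply]
      by_cases hib : i = b
      · rw [← hib, if_pos rfl, hρ, hρ'o i hki.symm hji.symm, hdo i hki.symm hji.symm]
        simp
      · rw [if_neg hib, zero_add, zero_add]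
        by_cases hbk : b = k
        · rw [hbk, hρ'k, hdk, Units.val_inv_eq_inv_val]
          field_simp
          ring
        · by_cases hbj : b = j
          · rw [hbj, hρ'j, hdj, inv_inv]
            ring
          · rw [hρ'o b hbk hbj, hdo b hbk hbj]
            simp
    · rw [if_neg hai, if_neg hai, add_zero]
      by_cases hab : a = b
      · rw [if_pos hab, hab, mul_one, mul_inv_cancel₀ (d b).ne_zero]
      · rw [if_neg hab, mul_zero, zero_mul]
  have hfin : ((g⁻¹ * (diagGL d * g * (diagGL d)⁻¹) : GL ι F) : Matrix ι ι F) = M' := by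
    rw [Units.val_mul, ← hprod, ← Matrix.mul_assoc, ← Units.val_mul, inv_mul_cancel, Units.val_one,
      Matrix.one_mul]
  rw [hfin]
  exact hM'U

/-! ### counting -/

theorem exists_ne_ne {α : Type*} [Fintype α] [DecidableEq α] (h : 3 ≤ Fintype.card α) (a b : α) :
    ∃ x, x ≠ a ∧ x ≠ b := by
  by_contra hcon
  push Not at hcon
  have h1 : (Finset.univ : Finset α) ⊆ {a, b} := by
    intro x _
    by_cases hxa : x = a
    · simp [hxa]
    · simp [hcon x hxa]
  have h2 := Finset.card_le_card h1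
  have h3 : ({a, b} : Finset α).card ≤ 2 := Finset.card_le_two
  rw [Finset.card_univ] at h2
  omega

theorem exists_ne_ne_ne {α : Type*} [Fintype α] [DecidableEq α] (h : 4 ≤ Fintype.card α)
    (a b c : α) : ∃ x, x ≠ a ∧ x ≠ b ∧ x ≠ c := by
  by_contra hcon
  push Not at hcon
  have h1 : (Finset.univ : Finset α) ⊆ {a, b, c} := by
    intro x _
    by_cases hxa : x = a
    · simp [hxa]
    · by_cases hxb : x = b
      · simp [hxb]
      · simp [hcon x hxa hxb]
  have h2 := Finset.card_le_card h1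
  have h3 : ({a, b, c} : Finset α).card ≤ 3 := Finset.card_le_three
  rw [Finset.card_univ] at h2
  omega

/-- an element of the shape `1 + c e_i e_kᵀ` is an elementary transvection -/
theorem eq_elemGL_of_isU {i k : ι} (hik : i ≠ k) (c : F) {ρ : ι → F} (hρk : ρ k = c)
    (hρo : ∀ b, b ≠ k → ρ b = 0) {g : GL ι F} (hg : IsU i ρ (g : Matrix ι ι F)) :
    g = elemGL hik c := by
  apply Units.ext
  rw [elemGL_val]
  ext a b
  rw [hg a b, Matrix.add_apply, Matrix.one_apply, Matrix.single_apply]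
  congr 1
  by_cases hai : a = i
  · rw [if_pos hai]
    by_cases hbk : b = k
    · rw [if_pos ⟨hai.symm, hbk.symm⟩, hbk, hρk]
    · rw [if_neg (fun h => hbk h.2.symm), hρo b hbk]
  · rw [if_neg hai, if_neg (fun h => hai h.1.symm)]

/-- **E1** (abelian extraction). -/
theorem hasElem_of_unipotent_row [Fintype F] (hq : 3 ≤ Fintype.card F) (hn : 4 ≤ Fintype.card ι)
    (G : Subgroup (GL ι F)) (hG : HasMonP G) (x : GL ι F) (hx : x ∈ G) (i : ι)
    (hrow : ∀ a b, a ≠ i → (x : Matrix ι ι F) a b = if a = b then 1 else 0)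
    (hii : (x : Matrix ι ι F) i i = 1) (hne : x ≠ 1) : HasElem G := by
  classical
  obtain ⟨ρ, hρdef⟩ : ∃ ρ : ι → F, ρ = fun b => if b = i then 0 else (x : Matrix ι ι F) i b :=
    ⟨_, rfl⟩
  have hρi : ρ i = 0 := by
    rw [hρdef]
    exact if_pos rfl
  have hρo : ∀ b, b ≠ i → ρ b = (x : Matrix ι ι F) i b := by
    intro b hb
    rw [hρdef]
    exact if_neg hb
  have hU : IsU i ρ (x : Matrix ι ι F) := by
    intro a b
    by_cases hai : a = i
    · rw [if_pos hai, hai]
      by_cases hib : i = b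
      · rw [if_pos hib, ← hib, hρi, hii, add_zero]
      · rw [if_neg hib, zero_add, hρo b (fun h => hib h.symm)]
    · rw [if_neg hai, add_zero, hrow a b hai]
  -- a non-zero entry
  have hk : ∃ k, ρ k ≠ 0 := by
    by_contra hcon
    push Not at hcon
    apply hne
    apply Units.ext
    ext a b
    rw [hU a b, hcon b, Units.val_one, Matrix.one_apply]
    simp
  obtain ⟨k, hk⟩ := hk
  have hki : k ≠ i := fun h => hk (h ▸ hρi)
  obtain ⟨j', hj'i, hj'k⟩ := exists_ne_ne (by omega : 3 ≤ Fintype.card ι) i k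
  obtain ⟨j, hji, hjk, hjj'⟩ := exists_ne_ne_ne hn i k j'
  obtain ⟨l0, hl0, hl1⟩ := exists_ne_ne hq (0 : F) 1
  obtain ⟨l, hl⟩ : ∃ l : Fˣ, (l : F) = l0 := ⟨Units.mk0 l0 hl0, rfl⟩
  have hlinv : ((l⁻¹ : Fˣ) : F) - 1 ≠ 0 := by
    intro h
    apply hl1
    have h1 : ((l⁻¹ : Fˣ) : F) = 1 := sub_eq_zero.1 h
    have h2 : (l⁻¹ : Fˣ) = 1 := Units.ext h1
    rw [← hl, inv_eq_one.1 h2, Units.val_one]
  obtain ⟨g₁, hg₁, hU₁⟩ := isU_step hG hki hj'i (fun h => hj'k h.symm) l hρi hx hU
  obtain ⟨g₂, hg₂, hU₂⟩ := isU_step hG hki hji (fun h => hjk h.symm) l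
    (by rw [if_neg hki.symm, if_neg hj'i.symm]) hg₁ hU₁
  refine ⟨i, k, hki.symm, ρ k * (((l⁻¹ : Fˣ) : F) - 1) * (((l⁻¹ : Fˣ) : F) - 1),
    mul_ne_zero (mul_ne_zero hk hlinv) hlinv, ?_⟩
  rw [← eq_elemGL_of_isU hki.symm _ _ _ hU₂]
  · exact hg₂
  · show (if k = k then (if k = k then _ else _) * _ else _) = _
    rw [if_pos rfl, if_pos rfl]
  · intro b hbk
    show (if b = k then _ else if b = j then (if j = k then _ else if j = j' then _ else _) * _
      else _) = _
    rw [if_neg hbk, if_neg hjk, if_neg hjj', zero_mul]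
    split_ifs <;> rfl

end Cfsg.Agent.Lib.H18.C2
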