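import Cfsg.Agent.Lib.H18.C2E1

/-!
# S5634 farm-out, task E2 (helper18)

A group containing all monomial matrices and violating the "no transfer" property `NT` contains an
elementary transvection.
-/

set_option autoImplicit false
set_option linter.unusedSectionVars false

namespace Cfsg.Agent.Lib.H18.C2

open Matrix Cfsg.Agent.Lib.H14.C2

variable {ι : Type} [Fintype ι] [DecidableEq ι] {F : Type*} [Field F]

/-- if column `i` of `y` is a multiple of `e_i`, so is column `i` of `y⁻¹` -/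
theorem col_inv_of_col (y : GL ι F) (i : ι) (hcol : ∀ a, a ≠ i → (y : Matrix ι ι F) a i = 0) :
    (y : Matrix ι ι F) i i ≠ 0 ∧ ∀ a, a ≠ i → ((y⁻¹ : GL ι F) : Matrix ι ι F) a i = 0 := by
  have h1 : ∀ a, ((y⁻¹ : GL ι F) : Matrix ι ι F) a i * (y : Matrix ι ι F) i i =
      (1 : Matrix ι ι F) a i := by
    intro a
    have h2 : ((y⁻¹ : GL ι F) : Matrix ι ι F) * (y : Matrix ι ι F) = 1 := by
      rw [← Units.val_mul, inv_mul_cancel, Units.val_one]
    rw [← h2, Matrix.mul_apply]
    symm
    apply Finset.sum_eq_single i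
    · intro c _ hc
      rw [hcol c hc, mul_zero]
    · intro h
      exact absurd (Finset.mem_univ i) h
  have h3 : (y : Matrix ι ι F) i i ≠ 0 := by
    intro h0
    have := h1 i
    rw [h0, mul_zero, Matrix.one_apply_eq] at this
    exact zero_ne_one this
  refine ⟨h3, fun a ha => ?_⟩
  have := h1 a
  rw [Matrix.one_apply_ne ha] at this
  exact (mul_eq_zero.1 this).resolve_right h3

/-- if row `i` of `y` is a multiple of `e_iᵀ`, so is row `i` of `y⁻¹` -/
theorem row_inv_of_row (y : GL ι F) (i : ι) (hrow : ∀ b, b ≠ i → (y : Matrix ι ι F) i b = 0) :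
    (y : Matrix ι ι F) i i ≠ 0 ∧ ∀ b, b ≠ i → ((y⁻¹ : GL ι F) : Matrix ι ι F) i b = 0 := by
  have h1 : ∀ b, (y : Matrix ι ι F) i i * ((y⁻¹ : GL ι F) : Matrix ι ι F) i b =
      (1 : Matrix ι ι F) i b := by
    intro b
    have h2 : (y : Matrix ι ι F) * ((y⁻¹ : GL ι F) : Matrix ι ι F) = 1 := by
      rw [← Units.val_mul, mul_inv_cancel, Units.val_one]
    rw [← h2, Matrix.mul_apply]
    symm
    apply Finset.sum_eq_single i
    · intro c _ hc
      rw [hrow c hc, zero_mul]
    · intro h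
      exact absurd (Finset.mem_univ i) h
  have h3 : (y : Matrix ι ι F) i i ≠ 0 := by
    intro h0
    have := h1 i
    rw [h0, zero_mul, Matrix.one_apply_eq] at this
    exact zero_ne_one this
  refine ⟨h3, fun b hb => ?_⟩
  have := h1 b
  rw [Matrix.one_apply_ne hb.symm] at this
  exact (mul_eq_zero.1 this).resolve_left h3

/-- the core case: column `i` of `y` is a multiple of `e_i`, row `i` is not a multiple of `e_iᵀ` -/
theorem hasElem_of_col_not_row [Fintype F] (hq : 3 ≤ Fintype.card F) (hn : 4 ≤ Fintype.card ι)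
    (G : Subgroup (GL ι F)) (hG : HasMon G) (y : GL ι F) (hy : y ∈ G) (i j : ι) (hji : j ≠ i)
    (hcol : ∀ a, a ≠ i → (y : Matrix ι ι F) a i = 0) (hij : (y : Matrix ι ι F) i j ≠ 0) :
    HasElem G := by
  classical
  obtain ⟨l0, hl0, hl1⟩ := exists_ne_ne hq (0 : F) 1
  obtain ⟨l, hl⟩ : ∃ l : Fˣ, (l : F) = l0 := ⟨Units.mk0 l0 hl0, rfl⟩
  obtain ⟨d, hd⟩ : ∃ d : ι → Fˣ, d = fun b => if b = i then l else 1 := ⟨_, rfl⟩
  have hdi : d i = l := by
    rw [hd]
    exact if_pos rfl
  have hdo : ∀ b, b ≠ i → d b = 1 := by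
    intro b hb
    rw [hd]
    exact if_neg hb
  have hDG : diagGL d ∈ G := by
    unfold diagGL
    exact monGL_mem_of_hasMon hG 1 d
  obtain ⟨hyii, hinvcol⟩ := col_inv_of_col y i hcol
  have hxG : diagGL d * y * (diagGL d)⁻¹ * y⁻¹ ∈ G :=
    G.mul_mem (G.mul_mem (G.mul_mem hDG hy) (G.inv_mem hDG)) (G.inv_mem hy)
  have hyy : (y : Matrix ι ι F) * ((y⁻¹ : GL ι F) : Matrix ι ι F) = 1 := by
    rw [← Units.val_mul, mul_inv_cancel, Units.val_one]
  have hconj : ∀ a b, a ≠ i → ((diagGL d * y * (diagGL d)⁻¹ : GL ι F) : Matrix ι ι F) a b =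
      (y : Matrix ι ι F) a b := by
    intro a b ha
    rw [diagGL_conj_apply, hdo a ha, Units.val_one, one_mul]
    by_cases hb : b = i
    · rw [hb, hcol a ha, zero_mul]
    · rw [hdo b hb, Units.val_one, inv_one, mul_one]
  have hconji : ((diagGL d * y * (diagGL d)⁻¹ : GL ι F) : Matrix ι ι F) i i =
      (y : Matrix ι ι F) i i := by
    rw [diagGL_conj_apply, hdi, mul_comm, ← mul_assoc, inv_mul_cancel₀ l.ne_zero, one_mul]
  apply hasElem_of_unipotent_row hq hn G hG.hasMonP _ hxG i
  · intro a b ha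
    rw [Units.val_mul, Matrix.mul_apply, Finset.sum_congr rfl (fun c _ => by rw [hconj a c ha]),
      ← Matrix.mul_apply, hyy, Matrix.one_apply]
  · rw [Units.val_mul, Matrix.mul_apply, Finset.sum_eq_single i, hconji]
    · have h1 : ((y : Matrix ι ι F) * ((y⁻¹ : GL ι F) : Matrix ι ι F)) i i = 1 := by
        rw [hyy, Matrix.one_apply_eq]
      rw [Matrix.mul_apply, Finset.sum_eq_single i] at h1
      · exact h1
      · intro c _ hc
        rw [hinvcol c hc, mul_zero]
      · intro h
        exact absurd (Finset.mem_univ i) h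
    · intro c _ hc
      rw [hinvcol c hc, mul_zero]
    · intro h
      exact absurd (Finset.mem_univ i) h
  · intro h1
    have h2 : diagGL d * y * (diagGL d)⁻¹ = y := mul_inv_eq_one.1 h1
    have h3 := diagGL_conj_apply d y i j
    rw [h2, hdi, hdo j hji, Units.val_one, inv_one, mul_one, hl] at h3
    have h4 : (l0 - 1) * (y : Matrix ι ι F) i j = 0 := by
      rw [sub_mul, one_mul, ← h3, sub_self]
    rcases mul_eq_zero.1 h4 with h5 | h5
    · exact hl1 (sub_eq_zero.1 h5)
    · exact hij h5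

/-- **E2**: a group containing all monomial matrices and violating `NT` contains an elementary
transvection. -/
theorem hasElem_of_not_nt [Fintype F] (hq : 3 ≤ Fintype.card F) (hn : 4 ≤ Fintype.card ι)
    (G : Subgroup (GL ι F)) (hG : HasMon G) (hNT : ¬ NT G) : HasElem G := by
  classical
  have h1 : ∃ y ∈ G, ∃ i, ¬ ((∀ j, j ≠ i → (y : Matrix ι ι F) j i = 0) ↔
      (∀ j, j ≠ i → (y : Matrix ι ι F) i j = 0)) := by
    by_contra hcon
    apply hNT
    intro y hy i
    by_contra h
    exact hcon ⟨y, hy, i, h⟩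
  obtain ⟨y, hy, i, h⟩ := h1
  by_cases hcol : ∀ j, j ≠ i → (y : Matrix ι ι F) j i = 0
  · have hrow : ¬ ∀ j, j ≠ i → (y : Matrix ι ι F) i j = 0 := fun hr =>
      h ⟨fun _ => hr, fun _ => hcol⟩
    push Not at hrow
    obtain ⟨j, hji, hij⟩ := hrow
    exact hasElem_of_col_not_row hq hn G hG y hy i j hji hcol hij
  · have hrow : ∀ j, j ≠ i → (y : Matrix ι ι F) i j = 0 := by
      by_contra hr
      exact h ⟨fun hc => absurd hc hcol, fun hr' => absurd hr' hr⟩
    apply hasElem_of_map_dual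
    have hy' : dualEquiv y ∈ G.map (dualEquiv : GL ι F ≃* GL ι F).toMonoidHom := ⟨y, hy, rfl⟩
    have hcol' : ∀ a, a ≠ i → ((dualEquiv y : GL ι F) : Matrix ι ι F) a i = 0 := by
      intro a ha
      rw [dualEquiv_val, Matrix.transpose_apply]
      exact (row_inv_of_row y i hrow).2 a ha
    have hrow' : ¬ ∀ a, a ≠ i → ((dualEquiv y : GL ι F) : Matrix ι ι F) i a = 0 := by
      intro hc
      apply hcol
      have h2 := (col_inv_of_col y⁻¹ i (fun a ha => by
        have h3 := hc a ha
        rwa [dualEquiv_val, Matrix.transpose_apply] at h3)).2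
      rwa [inv_inv] at h2
    push Not at hrow'
    obtain ⟨j, hji, hij⟩ := hrow'
    exact hasElem_of_col_not_row hq hn _ (hasMon_map_dual hG) _ hy' i j hji hcol' hij

end Cfsg.Agent.Lib.H18.C2
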