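import Cfsg.Agent.Lib.H18.C2E1
import Cfsg.Agent.Lib.H2.SLGen

/-!
# S5634 farm-out, task E4 (helper18): generation

A group containing the monomial matrices of determinant one and one non-trivial elementary
transvection contains the special linear group.
-/

set_option autoImplicit false
set_option linter.unusedSectionVars false

namespace Cfsg.Agent.Lib.H18.C2

open Matrix Cfsg.Agent.Lib.H14.C2

variable {ι : Type} [Fintype ι] [DecidableEq ι] {F : Type*} [Field F]

/-- conjugating an elementary transvection by a monomial matrix -/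
theorem monGL_conj_elemGL (σ : Equiv.Perm ι) (d : ι → Fˣ) {a b : ι} (hab : a ≠ b) (c : F) :
    monGL σ d * elemGL hab c * (monGL σ d)⁻¹ =
      elemGL (σ.injective.ne hab) ((d a : F) * c * ((d b : Fˣ) : F)⁻¹) := by
  rw [mul_inv_eq_iff_eq_mul]
  apply Units.ext
  rw [Units.val_mul, Units.val_mul, elemGL_val, elemGL_val, Matrix.mul_add, Matrix.add_mul,
    Matrix.mul_one, Matrix.one_mul]
  congr 1
  ext r s
  by_cases hs : s = b
  · rw [hs, Matrix.mul_single_apply_same]
    by_cases hr : r = σ a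
    · rw [hr, Matrix.single_mul_apply_same, monGL_apply, if_pos rfl, monGL_apply, if_pos rfl,
        mul_assoc, mul_assoc, inv_mul_cancel₀ (d b).ne_zero, mul_one]
    · rw [Matrix.single_mul_apply_of_ne _ _ _ _ _ hr, monGL_apply, if_neg hr, zero_mul]
  · rw [Matrix.mul_single_apply_of_ne _ _ _ _ _ hs]
    by_cases hr : r = σ a
    · rw [hr, Matrix.single_mul_apply_same, monGL_apply,
        if_neg (fun h => hs (σ.injective h).symm), mul_zero]
    · rw [Matrix.single_mul_apply_of_ne _ _ _ _ _ hr]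

/-- a permutation with two prescribed values -/
theorem exists_perm_two {a b a' b' : ι} (hab : a ≠ b) (hab' : a' ≠ b') :
    ∃ σ : Equiv.Perm ι, σ a = a' ∧ σ b = b' := by
  obtain ⟨τ, hτ⟩ : ∃ τ : Equiv.Perm ι, τ = Equiv.swap a a' := ⟨_, rfl⟩
  have hτa : τ a = a' := by rw [hτ, Equiv.swap_apply_left]
  have hτb : τ b ≠ a' := fun h => hab (τ.injective (hτa.trans h.symm))
  refine ⟨Equiv.swap (τ b) b' * τ, ?_, ?_⟩
  · rw [Equiv.Perm.mul_apply, hτa, Equiv.swap_apply_of_ne_of_ne hτb.symm hab']
  · rw [Equiv.Perm.mul_apply, Equiv.swap_apply_left]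

/-- a product with two non-trivial factors -/
theorem prod_two_units (k j : ι) (hkj : k ≠ j) (u v : Fˣ) :
    ∏ b, (((if b = k then u else if b = j then v else 1 : Fˣ)) : F) = (u : F) * (v : F) := by
  have h1 : ∏ b, (((if b = k then u else if b = j then v else 1 : Fˣ)) : F) =
      ((∏ b, (if b = k then u else if b = j then v else 1 : Fˣ) : Fˣ) : F) := by
    rw [Units.coe_prod]
  rw [h1]
  have h2 : ∏ b, (if b = k then u else if b = j then v else 1 : Fˣ) = u * v := by
    rw [← Finset.mul_prod_erase Finset.univ _ (Finset.mem_univ k),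
      ← Finset.mul_prod_erase _ _ (Finset.mem_erase.2 ⟨hkj.symm, Finset.mem_univ j⟩)]
    have h3 : ∀ b ∈ (Finset.univ.erase k).erase j,
        (if b = k then u else if b = j then v else 1 : Fˣ) = 1 := by
      intro b hb
      have hbj : b ≠ j := (Finset.mem_erase.1 hb).1
      have hbk : b ≠ k := (Finset.mem_erase.1 (Finset.mem_erase.1 hb).2).1
      rw [if_neg hbk, if_neg hbj]
    rw [Finset.prod_eq_one h3, mul_one, if_pos rfl, if_neg hkj.symm, if_pos rfl]
  rw [h2, Units.val_mul]

theorem elemGL_zero {a b : ι} (hab : a ≠ b) : elemGL hab (0 : F) = 1 := by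
  apply Units.ext
  rw [elemGL_val, Matrix.single_zero, add_zero, Units.val_one]

/-- all elementary transvections from one -/
theorem elemGL_mem_of_hasElem (hn : 3 ≤ Fintype.card ι) (G : Subgroup (GL ι F)) (hG : HasMonP G)
    (h : HasElem G) {a' b' : ι} (hab' : a' ≠ b') (c' : F) : elemGL hab' c' ∈ G := by
  classical
  obtain ⟨a, b, hab, c, hc, hmem⟩ := h
  by_cases hc' : c' = 0
  · rw [hc', elemGL_zero]
    exact G.one_mem
  obtain ⟨σ, hσa, hσb⟩ := exists_perm_two hab hab'
  subst hσa
  subst hσb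
  obtain ⟨k, hka, hkb⟩ := exists_ne_ne hn a b
  obtain ⟨s, hs⟩ : ∃ s : F, s = ((Equiv.Perm.sign σ : ℤ) : F) := ⟨_, rfl⟩
  have hs0 : s ≠ 0 := by
    rw [hs]
    rcases Int.units_eq_one_or (Equiv.Perm.sign σ) with h | h <;> simp [h]
  have he0 : c' / c ≠ 0 := div_ne_zero hc' hc
  obtain ⟨d, hd⟩ : ∃ d : ι → Fˣ, d = fun x => if x = a then Units.mk0 (c' / c) he0 else
      if x = k then (Units.mk0 (s * (c' / c)) (mul_ne_zero hs0 he0))⁻¹ else 1 := ⟨_, rfl⟩
  have hda : ((d a : Fˣ) : F) = c' / c := by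
    rw [hd]
    show (((if a = a then _ else _ : Fˣ)) : F) = _
    rw [if_pos rfl, Units.val_mk0]
  have hdb : ((d b : Fˣ) : F) = 1 := by
    rw [hd]
    show (((if b = a then _ else if b = k then _ else _ : Fˣ)) : F) = _
    rw [if_neg hab.symm, if_neg hkb.symm, Units.val_one]
  have hprod : ∏ x, ((d x : Fˣ) : F) = c' / c * (s * (c' / c))⁻¹ := by
    rw [hd]
    show ∏ x, (((if x = a then _ else if x = k then _ else 1 : Fˣ)) : F) = _
    rw [prod_two_units a k hka.symm, Units.val_mk0, Units.val_inv_eq_inv_val, Units.val_mk0]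
  have hM : monGL σ d ∈ G := by
    apply monGL_mem_of_hasMonP hG
    rw [← hs, hprod]
    field_simp
  have hconj := monGL_conj_elemGL σ d hab c
  have hval : ((d a : Fˣ) : F) * c * ((d b : Fˣ) : F)⁻¹ = c' := by
    rw [hda, hdb, inv_one, mul_one, div_mul_cancel₀ c' hc]
  have hfin : elemGL hab' c' = monGL σ d * elemGL hab c * (monGL σ d)⁻¹ := by
    rw [hconj]
    congr 1
    exact hval.symm
  rw [hfin]
  exact G.mul_mem (G.mul_mem hM hmem) (G.inv_mem hM)

/-- **E4** (generation). -/
theorem sl_le_of_hasElem (hn : 3 ≤ Fintype.card ι) (G : Subgroup (GL ι F)) (hG : HasMonP G)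
    (h : HasElem G) : Cfsg.Geo.specialLinear ι F ≤ G := by
  classical
  have : Nontrivial ι := Fintype.one_lt_card_iff_nontrivial.mp (by omega)
  intro g hg
  rw [mem_sl_iff] at hg
  have key : ∀ A : SpecialLinearGroup ι F, SpecialLinearGroup.toGL A ∈ G := by
    intro A
    refine Cfsg.Agent.Lib.H2.SL_transvection_induction
      (fun A => SpecialLinearGroup.toGL A ∈ G) ?_ ?_ A
    · intro i j hij c
      exact elemGL_mem_of_hasElem hn G hG h hij c
    · intro A B hA hB
      show SpecialLinearGroup.toGL (A * B) ∈ G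
      rw [map_mul]
      exact G.mul_mem hA hB
  have h1 := key ⟨(g : Matrix ι ι F), hg⟩
  have h2 : SpecialLinearGroup.toGL (⟨(g : Matrix ι ι F), hg⟩ : SpecialLinearGroup ι F) = g := by
    apply Units.ext
    rfl
  rw [h2] at h1
  exact h1

end Cfsg.Agent.Lib.H18.C2
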