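import Mathlib
import Cfsg.Agent.Lib.H18.SchurCover

/-!
# A criterion for a cyclic Schur multiplier of prime order (helper18)
-/

set_option autoImplicit false

namespace Cfsg.Agent.Lib.H18.SchurPrime

open Cfsg.Agent.Lib.H18

universe u

/-- If all stem kernels have order dividing the prime `p` and there is a stem kernel of order
divisible by `p`, the Schur multiplier is cyclic of order `p`. -/
theorem hasCyclicSchurMultiplier_prime {Q : Type u} [Group Q] [Finite Q] (p : ℕ)
    [hp : Fact p.Prime]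
    (hub : ∀ (Γ : Type u) [Group Γ] [Finite Γ] (σ : Γ →* Q), Cfsg.IsStemExtension σ →
      Nat.card σ.ker ∣ p)
    (hlb : ∃ (Γ : Type u) (_ : Group Γ) (_ : Finite Γ) (σ : Γ →* Q), Cfsg.IsStemExtension σ ∧
      p ∣ Nat.card σ.ker) :
    Cfsg.HasCyclicSchurMultiplier Q p := by
  have hT := hasSchurMultiplier_schurT Q
  have hdvd : Nat.card (SchurT Q) ∣ p := by
    obtain ⟨⟨Γ, _, _, σ, hσ, ⟨e⟩⟩, -⟩ := hT
    rw [← Nat.card_congr e.toEquiv]
    exact hub Γ σ hσ
  have hdvd' : p ∣ Nat.card (SchurT Q) := by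
    obtain ⟨Γ, _, _, σ, hσ, hd⟩ := hlb
    obtain ⟨q, hq⟩ := exists_surjective_schurT_ker Q σ hσ
    exact dvd_trans hd (Subgroup.card_dvd_of_surjective q hq)
  have hcard : Nat.card (SchurT Q) = p := Nat.dvd_antisymm hdvd hdvd'
  have hc : Nat.card (Multiplicative (ZMod p)) = p := Nat.card_zmod p
  exact hasSchurMultiplier_of_mulEquiv Q hT (mulEquivOfPrimeCardEq hcard hc)

end Cfsg.Agent.Lib.H18.SchurPrime
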