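import Cfsg.Agent.Lib.H18.SL2Mult

/-!
# Transport of Schur multipliers along group isomorphisms, across universes (helper18)
-/

set_option autoImplicit false

namespace Cfsg.Agent.Lib.H18.SchurTransport

open Cfsg.Agent.Lib.H18 Cfsg.Agent.Lib.H18.SL2Mult

universe u v w

/-- transport of a stem extension along isomorphisms of source and target. -/
theorem stem_transport {Γ Γ' G G' : Type*} [Group Γ] [Group Γ'] [Group G] [Group G']
    (σ : Γ →* G) (hσ : Cfsg.IsStemExtension σ) (f : Γ' ≃* Γ) (e : G ≃* G') :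
    Cfsg.IsStemExtension ((e.toMonoidHom.comp σ).comp f.toMonoidHom) :=
  isStemExtension_comp_mulEquiv _ (isStemExtension_mulEquiv_comp σ hσ e) f

theorem mem_ker_transport {Γ Γ' G G' : Type*} [Group Γ] [Group Γ'] [Group G] [Group G']
    (σ : Γ →* G) (f : Γ' ≃* Γ) (e : G ≃* G') (x : Γ') :
    x ∈ ((e.toMonoidHom.comp σ).comp f.toMonoidHom).ker ↔ f x ∈ σ.ker := by
  rw [MonoidHom.mem_ker, MonoidHom.mem_ker]
  change e (σ (f x)) = 1 ↔ σ (f x) = 1
  rw [map_eq_one_iff e e.injective]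

/-- the kernels correspond. -/
noncomputable def kerTransport {Γ Γ' G G' : Type*} [Group Γ] [Group Γ'] [Group G] [Group G']
    (σ : Γ →* G) (f : Γ' ≃* Γ) (e : G ≃* G') :
    ((e.toMonoidHom.comp σ).comp f.toMonoidHom).ker ≃* σ.ker where
  toFun x := ⟨f x, (mem_ker_transport σ f e x).1 x.2⟩
  invFun y := ⟨f.symm y, (mem_ker_transport σ f e (f.symm y)).2 (by
    rw [MulEquiv.apply_symm_apply]; exact y.2)⟩
  left_inv x := Subtype.ext (f.symm_apply_apply x)
  right_inv y := Subtype.ext (f.apply_symm_apply y)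
  map_mul' x y := Subtype.ext (map_mul f (x : Γ') (y : Γ'))

/-- `HasSchurMultiplier` is invariant under isomorphism of the group, across universes. -/
theorem hasSchurMultiplier_of_group_mulEquiv {G : Type u} {G' : Type v} [Group G] [Group G']
    [Finite G] (e : G ≃* G') {A : Type w} [CommGroup A] (h : Cfsg.HasSchurMultiplier G A) :
    Cfsg.HasSchurMultiplier G' A := by
  obtain ⟨⟨Γ, i1, i2, σ, hσ, ⟨k⟩⟩, h2⟩ := h
  refine ⟨?_, ?_⟩
  · obtain ⟨Γ', j1, j2, ⟨f⟩⟩ := exists_mulEquiv_universe.{u, v} Γ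
    refine ⟨Γ', j1, j2, (e.toMonoidHom.comp σ).comp f.symm.toMonoidHom,
      stem_transport σ hσ f.symm e, ⟨(kerTransport σ f.symm e).trans k⟩⟩
  · intro Γ' _ _ σ' hσ'
    obtain ⟨Γ, j1, j2, ⟨f⟩⟩ := exists_mulEquiv_universe.{v, u} Γ'
    have hst := stem_transport σ' hσ' f.symm e.symm
    obtain ⟨π, hπ⟩ := h2 Γ _ hst
    refine ⟨(kerTransport σ' f.symm e.symm).toMonoidHom.comp π, ?_⟩
    simp only [MonoidHom.coe_comp, MulEquiv.coe_toMonoidHom]
    exact (kerTransport σ' f.symm e.symm).surjective.comp hπ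

end Cfsg.Agent.Lib.H18.SchurTransport
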