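/-
S2983/S2984 farm-out (architect helper15), piece **BB-IRRL**: the natural module `F²` is irreducible as an additive group
under the derived group of `SL₂(F)`, for every finite field `F`.
Exact statement of tools/blueprints/S2983_sigs.lean (`sl2_commutator_irreducible`).
-/
import Mathlib

set_option autoImplicit false

namespace Cfsg.Agent.Lib.H18.BB

open Matrix
open scoped commutatorElement

variable {F : Type*} [Field F]

theorem mulVec_two (a b c d : F) (v : Fin 2 → F) :
    (!![a, b; c, d] : Matrix (Fin 2) (Fin 2) F).mulVec v = ![a * v 0 + b * v 1, c * v 0 + d * v 1] := by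
  funext i
  fin_cases i <;> simp [Matrix.mulVec, dotProduct, Fin.sum_univ_two]

theorem vec_two_eta (v : Fin 2 → F) : v = ![v 0, v 1] := by
  funext i
  fin_cases i <;> rfl

/-- upper transvection -/
def uEl (b : F) : Matrix.SpecialLinearGroup (Fin 2) F :=
  ⟨!![1, b; 0, 1], by simp [Matrix.det_fin_two]⟩

/-- lower transvection -/
def lEl (b : F) : Matrix.SpecialLinearGroup (Fin 2) F :=
  ⟨!![1, 0; b, 1], by simp [Matrix.det_fin_two]⟩

/-- diagonal element -/
def dEl (a : F) (ha : a ≠ 0) : Matrix.SpecialLinearGroup (Fin 2) F :=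
  ⟨!![a, 0; 0, a⁻¹], by simp [Matrix.det_fin_two, ha]⟩

/-- diagonal element, inverted -/
def dEl' (a : F) (ha : a ≠ 0) : Matrix.SpecialLinearGroup (Fin 2) F :=
  ⟨!![a⁻¹, 0; 0, a], by simp [Matrix.det_fin_two, ha]⟩

/-- the Weyl element -/
def sEl : Matrix.SpecialLinearGroup (Fin 2) F :=
  ⟨!![0, 1; -1, 0], by simp [Matrix.det_fin_two]⟩

/-- the commutator `[s, u_b]` -/
def gEl (b : F) : Matrix.SpecialLinearGroup (Fin 2) F :=
  ⟨!![1, -b; -b, 1 + b ^ 2], by simp [Matrix.det_fin_two]; ring⟩

theorem eq_commutatorElement {G : Type*} [Group G] (h d u : G) (H : h * u * d = d * u) :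
    h = ⁅d, u⁆ := by
  rw [commutatorElement_def, eq_mul_inv_iff_mul_eq, eq_mul_inv_iff_mul_eq]
  exact H

theorem mem_commutator_of_eq {G : Type*} [Group G] (h d u : G) (H : h * u * d = d * u) :
    h ∈ commutator G := by
  rw [eq_commutatorElement h d u H, commutator_def]
  exact Subgroup.commutator_mem_commutator (Subgroup.mem_top d) (Subgroup.mem_top u)

theorem gEl_mem (b : F) : gEl b ∈ commutator (Matrix.SpecialLinearGroup (Fin 2) F) := by
  apply mem_commutator_of_eq (gEl b) sEl (uEl b)
  apply Subtype.ext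
  rw [Matrix.SpecialLinearGroup.coe_mul, Matrix.SpecialLinearGroup.coe_mul,
    Matrix.SpecialLinearGroup.coe_mul]
  simp only [gEl, sEl, uEl]
  ext i j
  fin_cases i <;> fin_cases j <;> simp [Matrix.mul_apply, Fin.sum_univ_two] <;> ring

theorem uEl_mem (a : F) (ha : a ≠ 0) (b : F) :
    uEl ((a ^ 2 - 1) * b) ∈ commutator (Matrix.SpecialLinearGroup (Fin 2) F) := by
  apply mem_commutator_of_eq (uEl ((a ^ 2 - 1) * b)) (dEl a ha) (uEl b)
  apply Subtype.ext
  rw [Matrix.SpecialLinearGroup.coe_mul, Matrix.SpecialLinearGroup.coe_mul,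
    Matrix.SpecialLinearGroup.coe_mul]
  simp only [dEl, uEl]
  ext i j
  fin_cases i <;> fin_cases j <;> simp [Matrix.mul_apply, Fin.sum_univ_two] <;> field_simp <;> ring

theorem lEl_mem (a : F) (ha : a ≠ 0) (b : F) :
    lEl ((a ^ 2 - 1) * b) ∈ commutator (Matrix.SpecialLinearGroup (Fin 2) F) := by
  apply mem_commutator_of_eq (lEl ((a ^ 2 - 1) * b)) (dEl' a ha) (lEl b)
  apply Subtype.ext
  rw [Matrix.SpecialLinearGroup.coe_mul, Matrix.SpecialLinearGroup.coe_mul,
    Matrix.SpecialLinearGroup.coe_mul]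
  simp only [dEl', lEl]
  ext i j
  fin_cases i <;> fin_cases j <;> simp [Matrix.mul_apply, Fin.sum_univ_two] <;> field_simp <;> ring

section main

variable (U : AddSubgroup (Fin 2 → F))
  (hU : ∀ g ∈ commutator (Matrix.SpecialLinearGroup (Fin 2) F), ∀ v ∈ U,
      ((g : Matrix.SpecialLinearGroup (Fin 2) F) : Matrix (Fin 2) (Fin 2) F).mulVec v ∈ U)

include hU in
/-- `g_b v - v ∈ U` -/
theorem w_mem (b : F) (v : Fin 2 → F) (hv : v ∈ U) :
    ![-b * v 1, -b * v 0 + b ^ 2 * v 1] ∈ U := by
  have h1 := hU (gEl b) (gEl_mem b) v hv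
  have h2 := U.sub_mem h1 hv
  have h3 : ((gEl b : Matrix.SpecialLinearGroup (Fin 2) F) : Matrix (Fin 2) (Fin 2) F).mulVec v - v
      = ![-b * v 1, -b * v 0 + b ^ 2 * v 1] := by
    simp only [gEl]
    rw [mulVec_two]
    funext i
    fin_cases i <;> simp <;> ring
  rw [h3] at h2
  exact h2

theorem top_of_axes (h1 : ∀ d : F, ![d, 0] ∈ U) (h2 : ∀ d : F, ![0, d] ∈ U) : U = ⊤ := by
  rw [eq_top_iff]
  intro w _
  have h3 : w = ![w 0, 0] + ![0, w 1] := by
    funext i
    fin_cases i <;> simp
  rw [h3]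
  exact U.add_mem (h1 _) (h2 _)

include hU in
theorem char_ne_two (h2 : (2 : F) ≠ 0) (hne : U ≠ ⊥) : U = ⊤ := by
  obtain ⟨v, hvU, hv0⟩ : ∃ v ∈ U, v ≠ 0 := by
    by_contra hcon
    push Not at hcon
    apply hne
    rw [eq_bot_iff]
    intro v hv
    rw [AddSubgroup.mem_bot]
    exact hcon v hv
  -- the second axis
  have hax2 : ∀ d : F, ![0, d] ∈ U := by
    intro d
    by_cases hy : v 1 = 0
    · have hx : v 0 ≠ 0 := by
        intro hx
        apply hv0
        funext i
        fin_cases i
        · exact hx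
        · exact hy
      have h := w_mem U hU (-d / v 0) v hvU
      have h3 : ![-(-d / v 0) * v 1, -(-d / v 0) * v 0 + (-d / v 0) ^ 2 * v 1] = ![0, d] := by
        rw [hy]
        funext i
        fin_cases i
        · simp
        · simp only [Fin.mk_one, Fin.isValue, Matrix.cons_val_one, Matrix.cons_val_zero]
          field_simp
          ring
      rw [h3] at h
      exact h
    · set c : F := -d / (2 * v 1) with hc
      have ha := w_mem U hU 1 v hvU
      have hb := w_mem U hU c v hvU
      have hab := w_mem U hU (1 + c) v hvU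
      have h := U.sub_mem (U.add_mem ha hb) hab
      have h3 : ![-1 * v 1, -1 * v 0 + 1 ^ 2 * v 1] + ![-c * v 1, -c * v 0 + c ^ 2 * v 1]
          - ![-(1 + c) * v 1, -(1 + c) * v 0 + (1 + c) ^ 2 * v 1] = ![0, d] := by
        funext i
        fin_cases i
        · simp
          ring
        · simp only [Fin.mk_one, Fin.isValue, Pi.sub_apply, Pi.add_apply, Matrix.cons_val_one,
            Matrix.cons_val_zero]
          rw [hc]
          field_simp
          ring
      rw [h3] at h
      exact h
  have hax1 : ∀ d : F, ![d, 0] ∈ U := by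
    intro d
    have h := w_mem U hU (-d) ![0, 1] (hax2 1)
    have h' := U.sub_mem h (hax2 ((-d) ^ 2))
    have h3 : ![-(-d) * (![0, 1] : Fin 2 → F) 1, -(-d) * (![0, 1] : Fin 2 → F) 0 + (-d) ^ 2 * (![0, 1] : Fin 2 → F) 1]
        - ![0, (-d) ^ 2] = ![d, 0] := by
      funext i
      fin_cases i <;> simp
    rw [h3] at h'
    exact h'
  exact top_of_axes U hax1 hax2

include hU in
/-- if all transvections lie in the derived group -/
theorem of_transvections (a : F) (ha : a ≠ 0) (ha2 : a ^ 2 - 1 ≠ 0) (hne : U ≠ ⊥) : U = ⊤ := by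
  obtain ⟨v, hvU, hv0⟩ : ∃ v ∈ U, v ≠ 0 := by
    by_contra hcon
    push Not at hcon
    apply hne
    rw [eq_bot_iff]
    intro v hv
    rw [AddSubgroup.mem_bot]
    exact hcon v hv
  have hu : ∀ (c : F) (w : Fin 2 → F), w ∈ U → ![c * w 1, 0] ∈ U := by
    intro c w hw
    have h1 := hU _ (uEl_mem a ha (c / (a ^ 2 - 1))) w hw
    have h2 := U.sub_mem h1 hw
    have h3 : ((uEl ((a ^ 2 - 1) * (c / (a ^ 2 - 1))) : Matrix.SpecialLinearGroup (Fin 2) F) :
        Matrix (Fin 2) (Fin 2) F).mulVec w - w = ![c * w 1, 0] := by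
      simp only [uEl]
      rw [mulVec_two, mul_div_cancel₀ _ ha2]
      funext i
      fin_cases i <;> simp
    rw [h3] at h2
    exact h2
  have hl : ∀ (c : F) (w : Fin 2 → F), w ∈ U → ![0, c * w 0] ∈ U := by
    intro c w hw
    have h1 := hU _ (lEl_mem a ha (c / (a ^ 2 - 1))) w hw
    have h2 := U.sub_mem h1 hw
    have h3 : ((lEl ((a ^ 2 - 1) * (c / (a ^ 2 - 1))) : Matrix.SpecialLinearGroup (Fin 2) F) :
        Matrix (Fin 2) (Fin 2) F).mulVec w - w = ![0, c * w 0] := by
      simp only [lEl]
      rw [mulVec_two, mul_div_cancel₀ _ ha2]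
      funext i
      fin_cases i <;> simp
    rw [h3] at h2
    exact h2
  by_cases hy : v 1 = 0
  · have hx : v 0 ≠ 0 := by
      intro hx
      apply hv0
      funext i
      fin_cases i
      · exact hx
      · exact hy
    have hax2 : ∀ d : F, ![0, d] ∈ U := by
      intro d
      have h := hl (d / v 0) v hvU
      rw [div_mul_cancel₀ _ hx] at h
      exact h
    have hax1 : ∀ d : F, ![d, 0] ∈ U := by
      intro d
      have h := hu d ![0, 1] (hax2 1)
      simpa using h
    exact top_of_axes U hax1 hax2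
  · have hax1 : ∀ d : F, ![d, 0] ∈ U := by
      intro d
      have h := hu (d / v 1) v hvU
      rw [div_mul_cancel₀ _ hy] at h
      exact h
    have hax2 : ∀ d : F, ![0, d] ∈ U := by
      intro d
      have h := hl d ![1, 0] (hax1 1)
      simpa using h
    exact top_of_axes U hax1 hax2

include hU in
/-- the field with two elements -/
theorem of_two (h2 : (2 : F) = 0) (h01 : ∀ a : F, a = 0 ∨ a = 1) (hne : U ≠ ⊥) : U = ⊤ := by
  obtain ⟨v, hvU, hv0⟩ : ∃ v ∈ U, v ≠ 0 := by
    by_contra hcon
    push Not at hcon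
    apply hne
    rw [eq_bot_iff]
    intro v hv
    rw [AddSubgroup.mem_bot]
    exact hcon v hv
  have hneg : (-1 : F) = 1 := by
    have : (1 : F) + 1 = 0 := by rw [one_add_one_eq_two, h2]
    exact neg_eq_of_add_eq_zero_left this
  have hw := w_mem U hU 1 v hvU
  have he : (![1, 0] : Fin 2 → F) ∈ U ∧ (![0, 1] : Fin 2 → F) ∈ U := by
    rcases h01 (v 0) with hx | hx <;> rcases h01 (v 1) with hy | hy
    · exfalso
      apply hv0
      funext i
      fin_cases i
      · exact hx
      · exact hy
    · -- v = (0,1), w = (-1, 1) = (1,1)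
      have hv' : v = ![0, 1] := by
        rw [vec_two_eta v, hx, hy]
      rw [hx, hy, hneg] at hw
      have hw' : (![1, 1] : Fin 2 → F) ∈ U := by
        have : (![1 * 1, 1 * 0 + 1 ^ 2 * 1] : Fin 2 → F) = ![1, 1] := by
          funext i
          fin_cases i <;> simp
        rw [this] at hw
        exact hw
      rw [hv'] at hvU
      refine ⟨?_, hvU⟩
      have h := U.sub_mem hw' hvU
      have : (![1, 1] : Fin 2 → F) - ![0, 1] = ![1, 0] := by
        funext i
        fin_cases i <;> simp
      rw [this] at h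
      exact h
    · -- v = (1,0), w = (0,-1) = (0,1)
      have hv' : v = ![1, 0] := by
        rw [vec_two_eta v, hx, hy]
      rw [hx, hy, hneg] at hw
      have hw' : (![0, 1] : Fin 2 → F) ∈ U := by
        have : (![1 * 0, 1 * 1 + 1 ^ 2 * 0] : Fin 2 → F) = ![0, 1] := by
          funext i
          fin_cases i <;> simp
        rw [this] at hw
        exact hw
      rw [hv'] at hvU
      exact ⟨hvU, hw'⟩
    · -- v = (1,1), w = (-1, 0) = (1, 0)
      have hv' : v = ![1, 1] := by
        rw [vec_two_eta v, hx, hy]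
      rw [hx, hy] at hw
      have hw' : (![1, 0] : Fin 2 → F) ∈ U := by
        have : (![-1 * 1, -1 * 1 + 1 ^ 2 * 1] : Fin 2 → F) = ![1, 0] := by
          funext i
          fin_cases i
          · simp [hneg]
          · simp
        rw [this] at hw
        exact hw
      rw [hv'] at hvU
      refine ⟨hw', ?_⟩
      have h := U.sub_mem hvU hw'
      have : (![1, 1] : Fin 2 → F) - ![1, 0] = ![0, 1] := by
        funext i
        fin_cases i <;> simp
      rw [this] at h
      exact h
  have hax1 : ∀ d : F, ![d, 0] ∈ U := by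
    intro d
    rcases h01 d with hd | hd
    · rw [hd]
      have : (![0, 0] : Fin 2 → F) = 0 := by
        funext i
        fin_cases i <;> simp
      rw [this]
      exact U.zero_mem
    · rw [hd]
      exact he.1
  have hax2 : ∀ d : F, ![0, d] ∈ U := by
    intro d
    rcases h01 d with hd | hd
    · rw [hd]
      have : (![0, 0] : Fin 2 → F) = 0 := by
        funext i
        fin_cases i <;> simp
      rw [this]
      exact U.zero_mem
    · rw [hd]
      exact he.2
  exact top_of_axes U hax1 hax2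

end main

/-- **BB-IRRL**. -/
theorem sl2_commutator_irreducible {F : Type*} [Field F] [Fintype F] (U : AddSubgroup (Fin 2 → F))
    (hU : ∀ g ∈ commutator (Matrix.SpecialLinearGroup (Fin 2) F), ∀ v ∈ U,
      ((g : Matrix.SpecialLinearGroup (Fin 2) F) : Matrix (Fin 2) (Fin 2) F).mulVec v ∈ U)
    (hne : U ≠ ⊥) : U = ⊤ := by
  by_cases h2 : (2 : F) = 0
  · by_cases h01 : ∀ a : F, a = 0 ∨ a = 1
    · exact of_two U hU h2 h01 hne
    · push Not at h01
      obtain ⟨a, ha0, ha1⟩ := h01
      have ha2 : a ^ 2 - 1 ≠ 0 := by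
        have h3 : a ^ 2 - 1 = (a - 1) ^ 2 := by
          have h4 : (a - 1) ^ 2 = a ^ 2 - 2 * a + 1 := by ring
          rw [h4, h2, zero_mul, sub_zero]
          have hneg : (-1 : F) = 1 := by
            have : (1 : F) + 1 = 0 := by rw [one_add_one_eq_two, h2]
            exact neg_eq_of_add_eq_zero_left this
          rw [sub_eq_add_neg, hneg]
        rw [h3]
        exact pow_ne_zero 2 (sub_ne_zero.2 ha1)
      exact of_transvections U hU a ha0 ha2 hne
  · exact char_ne_two U hU h2 hne

end Cfsg.Agent.Lib.H18.BB
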