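import Mathlib

/-!
helper18 library (for S4484, part (X4)): if `R x` has order dividing `p` and moves a nonzero vector
`w` so that the translates `R (x ^ j) w`, `1 ≤ j < p`, are orthogonal to `w`, then every `p`-th root
of unity is an eigenvalue of `R x`.
-/

set_option autoImplicit false

namespace Cfsg.Agent.Lib.H18.B60

open scoped InnerProductSpace

variable {G : Type*} [Group G] {E : Type*} [NormedAddCommGroup E] [InnerProductSpace ℂ E]

/-- (X4, analytic core) all `p`-th roots of unity are eigenvalues. -/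
theorem exists_eigenvector_of_translates (R : G →* (E ≃ₗᵢ[ℂ] E)) (x : G) (p : ℕ)
    (hx : x ^ p = 1) (w : E) (hw : w ≠ 0)
    (horth : ∀ j, 1 ≤ j → j < p → ⟪w, R (x ^ j) w⟫_ℂ = 0) (ζ : ℂ) (hζ : ζ ^ p = 1) (hp : 0 < p) :
    ∃ v : E, v ≠ 0 ∧ R x v = ζ • v := by
  classical
  have hζ0 : ζ ≠ 0 := by
    intro h
    rw [h, zero_pow (Nat.pos_iff_ne_zero.1 hp)] at hζ
    exact zero_ne_one hζ
  set f : ℕ → E := fun i => (ζ * (ζ⁻¹) ^ i) • R (x ^ i) w with hf
  set v : E := ∑ j ∈ Finset.range p, (ζ⁻¹) ^ j • R (x ^ j) w with hv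
  have hfp : f p = f 0 := by
    simp only [hf]
    rw [hx, pow_zero, inv_pow, hζ, inv_one, mul_one, pow_zero]
  have h1 : ζ • v = ∑ j ∈ Finset.range p, f j := by
    rw [hv, Finset.smul_sum]
    apply Finset.sum_congr rfl
    intro j _
    rw [hf, smul_smul]
  have h2 : R x v = ∑ j ∈ Finset.range p, f (j + 1) := by
    rw [hv, map_sum]
    apply Finset.sum_congr rfl
    intro j _
    rw [hf]
    simp only
    rw [map_smul, pow_succ' x j, map_mul, LinearIsometryEquiv.coe_mul, Function.comp_apply]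
    congr 1
    rw [pow_succ, ← mul_assoc, mul_comm ζ, mul_assoc, mul_inv_cancel₀ hζ0, mul_one]
  refine ⟨v, ?_, ?_⟩
  · intro hv0
    have h3 : ⟪w, v⟫_ℂ = ⟪w, w⟫_ℂ := by
      rw [hv, inner_sum]
      rw [Finset.sum_eq_single 0]
      · rw [pow_zero, one_smul, pow_zero, map_one]
        rfl
      · intro j hj hj0
        rw [inner_smul_right, horth j (Nat.one_le_iff_ne_zero.2 hj0) (Finset.mem_range.1 hj),
          mul_zero]
      · intro h0
        exact absurd (Finset.mem_range.2 hp) h0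
    rw [hv0, inner_zero_right] at h3
    exact hw (inner_self_eq_zero.1 h3.symm)
  · rw [h1, h2]
    have e1 := Finset.sum_range_succ f p
    have e2 := Finset.sum_range_succ' f p
    rw [e1, hfp] at e2
    exact (add_right_cancel e2).symm

/-- (X4) counting form: if an eigenvalue list `a` of `R x` covers all eigenvalues then it has at
least `p` distinct values. -/
theorem le_card_image_of_translates {n : ℕ} (R : G →* (E ≃ₗᵢ[ℂ] E)) (x : G) (p : ℕ)
    (hx : x ^ p = 1) (w : E) (hw : w ≠ 0)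
    (horth : ∀ j, 1 ≤ j → j < p → ⟪w, R (x ^ j) w⟫_ℂ = 0) (hp : 0 < p)
    (a : Fin n → ℂ)
    (ha : ∀ (μ : ℂ) (v : E), v ≠ 0 → R x v = μ • v → ∃ k, a k = μ) :
    p ≤ (Finset.univ.image a).card := by
  classical
  have hsub : (Polynomial.nthRootsFinset p (1 : ℂ)) ⊆ Finset.univ.image a := by
    intro ζ hζ
    rw [Polynomial.mem_nthRootsFinset hp] at hζ
    obtain ⟨v, hv0, hv⟩ := exists_eigenvector_of_translates R x p hx w hw horth ζ hζ hp
    obtain ⟨k, hk⟩ := ha ζ v hv0 hv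
    rw [Finset.mem_image]
    exact ⟨k, Finset.mem_univ _, hk⟩
  have hcard : (Polynomial.nthRootsFinset p (1 : ℂ)).card = p := by
    have hprim : IsPrimitiveRoot (Complex.exp (2 * Real.pi * Complex.I / p)) p :=
      Complex.isPrimitiveRoot_exp p (Nat.pos_iff_ne_zero.1 hp)
    exact hprim.card_nthRootsFinset
  calc p = (Polynomial.nthRootsFinset p (1 : ℂ)).card := hcard.symm
    _ ≤ (Finset.univ.image a).card := Finset.card_le_card hsub

/-! ### The group half of (X4) -/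

/-- The image of a subspace under `R g`. -/
def act (R : G →* (E ≃ₗᵢ[ℂ] E)) (g : G) (W : Submodule ℂ E) : Submodule ℂ E :=
  W.map ((R g).toLinearEquiv : E →ₗ[ℂ] E)

theorem mem_act (R : G →* (E ≃ₗᵢ[ℂ] E)) (g : G) (W : Submodule ℂ E) (v : E) :
    v ∈ act R g W ↔ ∃ u ∈ W, R g u = v := by
  unfold act
  rw [Submodule.mem_map]
  rfl

theorem act_one (R : G →* (E ≃ₗᵢ[ℂ] E)) (W : Submodule ℂ E) : act R 1 W = W := by
  ext v
  rw [mem_act]
  constructor
  · rintro ⟨u, hu, rfl⟩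
    rw [map_one]; exact hu
  · intro hv
    exact ⟨v, hv, by rw [map_one]; rfl⟩

theorem act_mul (R : G →* (E ≃ₗᵢ[ℂ] E)) (g h : G) (W : Submodule ℂ E) :
    act R (g * h) W = act R g (act R h W) := by
  ext v
  rw [mem_act, mem_act]
  constructor
  · rintro ⟨u, hu, rfl⟩
    refine ⟨R h u, (mem_act R h W _).2 ⟨u, hu, rfl⟩, ?_⟩
    rw [map_mul, LinearIsometryEquiv.coe_mul, Function.comp_apply]
  · rintro ⟨u', hu', rfl⟩
    obtain ⟨u, hu, rfl⟩ := (mem_act R h W _).1 hu'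
    refine ⟨u, hu, ?_⟩
    rw [map_mul, LinearIsometryEquiv.coe_mul, Function.comp_apply]

theorem act_pow_of_fixed (R : G →* (E ≃ₗᵢ[ℂ] E)) (g : G) (W : Submodule ℂ E)
    (h : act R g W = W) (m : ℕ) : act R (g ^ m) W = W := by
  induction m with
  | zero => rw [pow_zero, act_one]
  | succ m ih => rw [pow_succ, act_mul, h, ih]

/-- If `x` of prime order `p` moves `W₀`, so does `x ^ j` for `1 ≤ j < p`. -/
theorem act_pow_ne (R : G →* (E ≃ₗᵢ[ℂ] E)) (x : G) (p : ℕ) (hp : p.Prime) (hx : x ^ p = 1)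
    (W₀ : Submodule ℂ E) (hmove : act R x W₀ ≠ W₀) (j : ℕ) (hj1 : 1 ≤ j) (hjp : j < p) :
    act R (x ^ j) W₀ ≠ W₀ := by
  intro hfix
  apply hmove
  have hcop : Nat.Coprime j p := by
    rw [Nat.coprime_comm]
    exact (Nat.Prime.coprime_iff_not_dvd hp).2 (fun hd => by
      have := Nat.le_of_dvd (by omega) hd
      omega)
  -- `j * m ≡ 1 (mod p)`
  obtain ⟨m, -, hm⟩ := Nat.exists_mul_mod_eq_one_of_coprime hcop (hp.one_lt)
  have hxm : (x ^ j) ^ m = x := by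
    rw [← pow_mul]
    have h1 : j * m = p * (j * m / p) + 1 := by
      have := Nat.div_add_mod (j * m) p
      omega
    rw [h1, pow_add, pow_mul, hx, one_pow, one_mul, pow_one]
  have := act_pow_of_fixed R (x ^ j) W₀ hfix m
  rwa [hxm] at this

/-- (X4) group half: in a family of pairwise orthogonal subspaces permuted by `x`, if `x` of prime
order `p` moves `W₀ ∈ 𝓦` then the translates of any `w ∈ W₀` by `x ^ j`, `1 ≤ j < p`, are
orthogonal to `w`. -/
theorem orth_translates (R : G →* (E ≃ₗᵢ[ℂ] E)) (x : G) (p : ℕ) (hp : p.Prime) (hx : x ^ p = 1)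
    (𝓦 : Set (Submodule ℂ E)) (hperm : ∀ g : G, ∀ W ∈ 𝓦, act R g W ∈ 𝓦)
    (horth : ∀ W ∈ 𝓦, ∀ W' ∈ 𝓦, W ≠ W' → ∀ u ∈ W, ∀ u' ∈ W', ⟪u, u'⟫_ℂ = 0)
    (W₀ : Submodule ℂ E) (hW₀ : W₀ ∈ 𝓦) (hmove : act R x W₀ ≠ W₀) (w : E) (hw : w ∈ W₀) :
    ∀ j, 1 ≤ j → j < p → ⟪w, R (x ^ j) w⟫_ℂ = 0 := by
  intro j hj1 hjp
  have hne := act_pow_ne R x p hp hx W₀ hmove j hj1 hjp
  exact horth W₀ hW₀ (act R (x ^ j) W₀) (hperm _ W₀ hW₀) (Ne.symm hne) w hw (R (x ^ j) w)
    ((mem_act R (x ^ j) W₀ _).2 ⟨w, hw, rfl⟩)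

/-- (X4) complete: an element `x` of prime order `p` moving a member `W₀ ≠ ⊥` of a family of
pairwise orthogonal subspaces permuted by `G` has at least `p` distinct eigenvalues. -/
theorem le_card_image_of_moved {n : ℕ} (R : G →* (E ≃ₗᵢ[ℂ] E)) (x : G) (p : ℕ) (hp : p.Prime)
    (hx : x ^ p = 1)
    (𝓦 : Set (Submodule ℂ E)) (hperm : ∀ g : G, ∀ W ∈ 𝓦, act R g W ∈ 𝓦)
    (horth : ∀ W ∈ 𝓦, ∀ W' ∈ 𝓦, W ≠ W' → ∀ u ∈ W, ∀ u' ∈ W', ⟪u, u'⟫_ℂ = 0)
    (W₀ : Submodule ℂ E) (hW₀ : W₀ ∈ 𝓦) (hne : W₀ ≠ ⊥) (hmove : act R x W₀ ≠ W₀)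
    (a : Fin n → ℂ)
    (ha : ∀ (μ : ℂ) (v : E), v ≠ 0 → R x v = μ • v → ∃ k, a k = μ) :
    p ≤ (Finset.univ.image a).card := by
  obtain ⟨w, hw, hw0⟩ := (Submodule.ne_bot_iff W₀).1 hne
  exact le_card_image_of_translates R x p hx w hw0
    (orth_translates R x p hp hx 𝓦 hperm horth W₀ hW₀ hmove w hw) hp.pos a ha

theorem act_inv_of_fixed (R : G →* (E ≃ₗᵢ[ℂ] E)) (g : G) (W : Submodule ℂ E)
    (h : act R g W = W) : act R g⁻¹ W = W := by
  conv_lhs => rw [← h]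
  rw [← act_mul, inv_mul_cancel, act_one]

/-- In a simple group, an element `x ≠ 1` moves some member of a family of at least two nonzero
subspaces permuted by `G`, if `R` is irreducible. -/
theorem exists_moved [IsSimpleGroup G] (R : G →* (E ≃ₗᵢ[ℂ] E))
    (hirr : ∀ W : Submodule ℂ E, (∀ g, act R g W ≤ W) → W = ⊥ ∨ W = ⊤)
    (𝓦 : Finset (Submodule ℂ E)) (h2 : 2 ≤ 𝓦.card) (hbot : ⊥ ∉ 𝓦)
    (hperm : ∀ g : G, ∀ W ∈ 𝓦, act R g W ∈ 𝓦) (x : G) (hx1 : x ≠ 1) :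
    ∃ W₀ ∈ 𝓦, act R x W₀ ≠ W₀ := by
  classical
  let K : Subgroup G :=
    { carrier := {g | ∀ W ∈ 𝓦, act R g W = W}
      one_mem' := fun W _ => act_one R W
      mul_mem' := fun {a b} ha hb W hW => by rw [act_mul, hb W hW, ha W hW]
      inv_mem' := fun {a} ha W hW => act_inv_of_fixed R a W (ha W hW) }
  have hKn : K.Normal := by
    refine ⟨fun g hg h W hW => ?_⟩
    have h1 : act R h⁻¹ W ∈ 𝓦 := hperm h⁻¹ W hW
    rw [act_mul, act_mul, hg _ h1, ← act_mul, mul_inv_cancel, act_one]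
  rcases hKn.eq_bot_or_eq_top with hK | hK
  · by_contra hcon
    push Not at hcon
    have hxK : x ∈ K := hcon
    rw [hK, Subgroup.mem_bot] at hxK
    exact hx1 hxK
  · exfalso
    have hall : ∀ W ∈ 𝓦, W = ⊤ := by
      intro W hW
      have hinv : ∀ g, act R g W ≤ W := by
        intro g
        have hg : g ∈ K := by rw [hK]; exact Subgroup.mem_top g
        exact le_of_eq (hg W hW)
      rcases hirr W hinv with h | h
      · exact absurd (h ▸ hW) hbot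
      · exact h
    have hsub : 𝓦 ⊆ {⊤} := by
      intro W hW
      rw [Finset.mem_singleton]
      exact hall W hW
    have := Finset.card_le_card hsub
    rw [Finset.card_singleton] at this
    omega

/-- (X4) complete statement: `G` simple, `R` irreducible, `𝓦` at least two nonzero pairwise
orthogonal subspaces permuted by `G`; then an element `x ≠ 1` of prime order `p` has at least `p`
distinct eigenvalues. -/
theorem x4 {n : ℕ} [IsSimpleGroup G] (R : G →* (E ≃ₗᵢ[ℂ] E))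
    (hirr : ∀ W : Submodule ℂ E, (∀ g, act R g W ≤ W) → W = ⊥ ∨ W = ⊤)
    (𝓦 : Finset (Submodule ℂ E)) (h2 : 2 ≤ 𝓦.card) (hbot : ⊥ ∉ 𝓦)
    (hperm : ∀ g : G, ∀ W ∈ 𝓦, act R g W ∈ 𝓦)
    (horth : ∀ W ∈ 𝓦, ∀ W' ∈ 𝓦, W ≠ W' → W ⟂ W')
    (x : G) (p : ℕ) (hp : p.Prime) (hx : x ^ p = 1) (hx1 : x ≠ 1)
    (a : Fin n → ℂ)
    (ha : ∀ (μ : ℂ) (v : E), v ≠ 0 → R x v = μ • v → ∃ k, a k = μ) :
    p ≤ (Finset.univ.image a).card := by
  obtain ⟨W₀, hW₀, hmove⟩ := exists_moved R hirr 𝓦 h2 hbot hperm x hx1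
  have hne : W₀ ≠ ⊥ := fun h => hbot (h ▸ hW₀)
  exact le_card_image_of_moved R x p hp hx (↑𝓦 : Set (Submodule ℂ E))
    (fun g W hW => hperm g W hW)
    (fun W hW W' hW' hWW u hu u' hu' =>
      (Submodule.isOrtho_iff_inner_eq.1 (horth W hW W' hW' hWW)) u hu u' hu')
    W₀ hW₀ hne hmove a ha

end Cfsg.Agent.Lib.H18.B60
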