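import Mathlib
import Cfsg.Agent.Lib.H8.BQ0

/-!
# S4719 Part II, piece QC: the image of the four-group in `N_Γ(X)/X` (helper18)
-/

set_option autoImplicit false

universe u

namespace Cfsg.Agent.Lib.H18.BQ

open Subgroup Cfsg.Agent.Lib.H8.BQ

/-- `qMap X` is injective on `V.subgroupOf N_Γ(X)` when `V ⊓ X = ⊥`. -/
theorem qMap_injOn {Γ : Type u} [Group Γ] (X V : Subgroup Γ) (hdisj : V ⊓ X = ⊥)
    {y z : ↥(normalizer (X : Set Γ))} (hy : y ∈ V.subgroupOf (normalizer (X : Set Γ)))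
    (hz : z ∈ V.subgroupOf (normalizer (X : Set Γ))) (h : qMap X y = qMap X z) : y = z := by
  have h1 : y⁻¹ * z ∈ X.subgroupOf (normalizer (X : Set Γ)) := by
    have := (QuotientGroup.eq (s := X.subgroupOf (normalizer (X : Set Γ)))).1 h
    exact this
  rw [mem_subgroupOf] at h1 hy hz
  have h2 : ((y⁻¹ * z : ↥(normalizer (X : Set Γ))) : Γ) ∈ V ⊓ X := by
    refine ⟨?_, h1⟩
    have : ((y⁻¹ * z : ↥(normalizer (X : Set Γ))) : Γ) = (y : Γ)⁻¹ * (z : Γ) := by simp
    rw [this]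
    exact V.mul_mem (V.inv_mem hy) hz
  rw [hdisj, mem_bot] at h2
  have h3 : y⁻¹ * z = 1 := Subtype.ext h2
  exact (inv_mul_eq_one.1 h3)

/-- QC. The image of the four-group. -/
theorem qImg_four {Γ : Type u} [Group Γ] [Finite Γ] (X V : Subgroup Γ)
    (hV4 : Nat.card V = 4) (hV2 : ∀ v ∈ V, v * v = 1) (hVX : V ≤ normalizer (X : Set Γ))
    (hdisj : V ⊓ X = ⊥) :
    Nat.card (qImg X V) = 4 ∧ (∀ w ∈ qImg X V, w * w = 1) ∧
      ∀ w ∈ qImg X V, w ≠ 1 → ∃ (v : Γ) (hv : v ∈ normalizer (X : Set Γ)),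
        v ∈ V ∧ v ≠ 1 ∧ w = qMap X ⟨v, hv⟩ := by
  refine ⟨?_, ?_, ?_⟩
  · -- cardinality
    have hcard : Nat.card (V.subgroupOf (normalizer (X : Set Γ))) = 4 := by
      rw [Nat.card_congr (subgroupOfEquivOfLe hVX).toEquiv, hV4]
    rw [← hcard]
    unfold qImg
    refine Nat.card_congr (Equiv.ofBijective
      (fun w : ↥((V.subgroupOf (normalizer (X : Set Γ))).map (qMap X)) =>
        (⟨Classical.choose w.2, (Classical.choose_spec w.2).1⟩ :
          ↥(V.subgroupOf (normalizer (X : Set Γ))))) ⟨?_, ?_⟩)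
    · intro w1 w2 h
      have e1 := (Classical.choose_spec w1.2).2
      have e2 := (Classical.choose_spec w2.2).2
      have h' : Classical.choose w1.2 = Classical.choose w2.2 := congrArg Subtype.val h
      apply Subtype.ext
      rw [← e1, ← e2, h']
    · intro y
      refine ⟨⟨qMap X y.1, mem_map_of_mem _ y.2⟩, ?_⟩
      apply Subtype.ext
      have hw : qMap X y.1 ∈ (V.subgroupOf (normalizer (X : Set Γ))).map (qMap X) :=
        mem_map_of_mem _ y.2
      exact qMap_injOn X V hdisj (Classical.choose_spec hw).1 y.2 (Classical.choose_spec hw).2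
  · -- exponent two
    intro w hw
    obtain ⟨y, hy, rfl⟩ := hw
    rw [← map_mul]
    have : y * y = 1 := by
      apply Subtype.ext
      have hy' : (y : Γ) ∈ V := mem_subgroupOf.1 hy
      simpa using hV2 _ hy'
    rw [this, map_one]
  · -- lifting nontrivial elements
    intro w hw hw1
    obtain ⟨y, hy, rfl⟩ := hw
    have hy' : (y : Γ) ∈ V := mem_subgroupOf.1 hy
    refine ⟨(y : Γ), y.2, hy', ?_, rfl⟩
    intro h1
    apply hw1
    have : y = 1 := Subtype.ext h1
    rw [this, map_one]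

end Cfsg.Agent.Lib.H18.BQ
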