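import Cfsg.Agent.Lib.H18.TTFischer2

set_option autoImplicit false
set_option linter.style.haveILetI false
set_option linter.unusedSectionVars false

/-!
3-transposition groups (helper18): Fischer's rank-three property.  In a primitive class of width at
least two, the centraliser of `d` is transitive on the members of `D` not commuting with `d`.

* `s4_word` : the `S₄` word identity;
* `COrb`, `PConj`;
* `corb_of_commute`, `corb_of_nested`;
* `exists_common_neighbour`;
* `corb_of_not_commute` : the transitivity statement.
-/

namespace Cfsg.Agent.Lib.H18.TTF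

open Cfsg Cfsg.Agent.Lib.H26.ThreeTrans Cfsg.Agent.Lib.H7.TT

section word

variable {G : Type*} [Group G]

theorem s4_word {x y z : G} (hx2 : x * x = 1) (hy2 : y * y = 1) (hz2 : z * z = 1)
    (bxy : x * y * x = y * x * y) (byz : y * z * y = z * y * z) (cxz : x * z = z * x) :
    Commute (y * (z * y * x * y * z)) y ∧
      (y * (z * y * x * y * z)) * x * (y * (z * y * x * y * z))⁻¹ = z := by
  have hxi : x⁻¹ = x := inv_eq_of_mul_eq_one_right hx2
  have hyi : y⁻¹ = y := inv_eq_of_mul_eq_one_right hy2
  have hzi : z⁻¹ = z := inv_eq_of_mul_eq_one_right hz2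
  have huy : y * (z * y * x * y * z) = (z * y * x * y * z) * y := by
    calc y * (z * y * x * y * z) = (y * z * y) * x * y * z := by group
      _ = (z * y * z) * x * y * z := by rw [byz]
      _ = z * y * (z * x) * y * z := by group
      _ = z * y * (x * z) * y * z := by rw [cxz]
      _ = z * y * x * (z * y * z) := by group
      _ = z * y * x * (y * z * y) := by rw [byz]
      _ = (z * y * x * y * z) * y := by group
  have hzxz : z * x * z = x := by
    calc z * x * z = (x * z) * z := by rw [cxz]
      _ = x * (z * z) := by group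
      _ = x := by rw [hz2, mul_one]
  have hyxyxyx : y * x * y * x * y * x = 1 := by
    calc y * x * y * x * y * x = (y * x * y) * (x * y * x) := by group
      _ = (x * y * x) * (x * y * x) := by rw [bxy]
      _ = x * y * (x * x) * y * x := by group
      _ = x * (y * y) * x := by rw [hx2]; group
      _ = 1 := by rw [hy2, mul_one, hx2]
  have hux : (z * y * x * y * z) * x * (z * y * x * y * z) = z * y * z := by
    calc (z * y * x * y * z) * x * (z * y * x * y * z)
        = z * y * x * y * (z * x * z) * y * x * y * z := by group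
      _ = z * y * x * y * x * y * x * y * z := by rw [hzxz]
      _ = z * (y * x * y * x * y * x) * y * z := by group
      _ = z * y * z := by rw [hyxyxyx, mul_one]
  have huinv : (z * y * x * y * z)⁻¹ = z * y * x * y * z := by
    rw [mul_inv_rev, mul_inv_rev, mul_inv_rev, mul_inv_rev, hxi, hyi, hzi]
    group
  constructor
  · show y * (z * y * x * y * z) * y = y * (y * (z * y * x * y * z))
    rw [mul_assoc y (z * y * x * y * z) y, ← huy]
  · rw [mul_inv_rev, huinv, hyi]
    calc y * (z * y * x * y * z) * x * (z * y * x * y * z * y)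
        = y * ((z * y * x * y * z) * x * (z * y * x * y * z)) * y := by group
      _ = y * (z * y * z) * y := by rw [hux]
      _ = y * (y * z * y) * y := by rw [byz]
      _ = (y * y) * z * (y * y) := by group
      _ = z := by rw [hy2, one_mul, mul_one]

/-- Simultaneous conjugacy of ordered pairs. -/
def PConj (p q p' q' : G) : Prop := ∃ g : G, g * p * g⁻¹ = p' ∧ g * q * g⁻¹ = q'

theorem PConj.symm {p q p' q' : G} (h : PConj p q p' q') : PConj p' q' p q := by
  obtain ⟨g, h1, h2⟩ := h
  refine ⟨g⁻¹, ?_, ?_⟩
  · rw [← h1]; group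
  · rw [← h2]; group

theorem PConj.trans {p q p' q' p'' q'' : G} (h : PConj p q p' q') (h' : PConj p' q' p'' q'') :
    PConj p q p'' q'' := by
  obtain ⟨g, h1, h2⟩ := h
  obtain ⟨k, h3, h4⟩ := h'
  refine ⟨k * g, ?_, ?_⟩
  · rw [← h3, ← h1]; group
  · rw [← h4, ← h2]; group

/-- Same orbit under the centraliser of `d`. -/
def COrb (d a b : G) : Prop := ∃ g : G, Commute g d ∧ g * a * g⁻¹ = b

theorem corb_iff_pconj {d a b : G} : COrb d a b ↔ PConj d a d b := by
  constructor
  · rintro ⟨g, hg, h⟩
    refine ⟨g, ?_, h⟩
    rw [hg.eq]; group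
  · rintro ⟨g, h1, h2⟩
    refine ⟨g, ?_, h2⟩
    show g * d = d * g
    calc g * d = (g * d * g⁻¹) * g := by group
      _ = d * g := by rw [h1]

theorem COrb.refl (d a : G) : COrb d a a := ⟨1, Commute.one_left d, by group⟩

theorem COrb.symm {d a b : G} (h : COrb d a b) : COrb d b a :=
  corb_iff_pconj.2 (corb_iff_pconj.1 h).symm

theorem COrb.trans {d a b c : G} (h : COrb d a b) (h' : COrb d b c) : COrb d a c :=
  corb_iff_pconj.2 ((corb_iff_pconj.1 h).trans (corb_iff_pconj.1 h'))

end word

section tt

variable {G : Type*} [Group G] {D : Set G}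

/-- Two non-commuting 3-transpositions are swapped by an element of the group. -/
theorem pconj_swap (hS : IsThreeTranspositionSet D) {a b : G} (ha : a ∈ D) (hb : b ∈ D)
    (hne : ¬ Commute a b) : PConj a b b a := by
  have hbr := braid hS ha hb hne
  refine ⟨a * b * a, ?_, ?_⟩
  · calc a * b * a * a * (a * b * a)⁻¹ = (a * b * a) * b⁻¹ * a⁻¹ := by group
      _ = (b * a * b) * b⁻¹ * a⁻¹ := by rw [hbr]
      _ = b := by group
  · calc a * b * a * b * (a * b * a)⁻¹ = a * (b * a * b) * a⁻¹ * b⁻¹ * a⁻¹ := by group
      _ = a * (a * b * a) * a⁻¹ * b⁻¹ * a⁻¹ := by rw [hbr]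
      _ = a * a * a⁻¹ := by group
      _ = a := by group

/-- The `S₄` lemma: if `x, z` commute and neither commutes with `y`, some element of the centraliser
of `y` maps `x` to `z`. -/
theorem corb_of_commute (hS : IsThreeTranspositionSet D) {x y z : G} (hx : x ∈ D) (hy : y ∈ D)
    (hz : z ∈ D) (hxz : Commute x z) (hxy : ¬ Commute x y) (hyz : ¬ Commute y z) : COrb y x z := by
  obtain ⟨h1, h2⟩ := s4_word (sq_eq_one hS hx) (sq_eq_one hS hy) (sq_eq_one hS hz)
    (braid hS hx hy hxy) (braid hS hy hz hyz) hxz.eq
  exact ⟨_, h1, h2⟩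

/-- Nestedness: if `a, b` do not commute with `d` nor with each other, and there are `v, v'` commuting
with `d` such that `v` commutes with `a` but not `b`, and `v'` with `b` but not `a`, then `a, b` lie in
the same orbit of the centraliser of `d`. -/
theorem corb_of_nested (hS : IsThreeTranspositionSet D) {d a b v v' : G} (hd : d ∈ D) (ha : a ∈ D)
    (hb : b ∈ D) (hv : v ∈ D) (hv' : v' ∈ D) (hda : ¬ Commute d a) (hdb : ¬ Commute d b)
    (hab : ¬ Commute a b) (hvd : Commute v d) (hva : Commute v a) (hvb : ¬ Commute v b)
    (hv'd : Commute v' d) (hv'b : Commute v' b) (hv'a : ¬ Commute v' a) : COrb d a b := by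
  have hba : ¬ Commute b a := fun h => hab h.symm
  have hbd : ¬ Commute b d := fun h => hdb h.symm
  have had : ¬ Commute a d := fun h => hda h.symm
  -- `(b, a) → (b, d)`
  have h1 : PConj b a b d :=
    corb_iff_pconj.1 ((corb_of_commute hS ha hb hv hva.symm hab (fun h => hvb h.symm)).trans
      (corb_of_commute hS hv hb hd hvd hvb hbd))
  -- `(a, b) → (a, d)`
  have h2 : PConj a b a d :=
    corb_iff_pconj.1 ((corb_of_commute hS hb ha hv' hv'b.symm hba (fun h => hv'a h.symm)).trans
      (corb_of_commute hS hv' ha hd hv'd hv'a had))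
  have s1 : PConj b d d b := pconj_swap hS hb hd hbd
  have s2 : PConj d a a d := pconj_swap hS hd ha hda
  have s3 : PConj a b b a := pconj_swap hS ha hb hab
  exact corb_iff_pconj.2 (((s2.trans h2.symm).trans s3).trans (h1.trans s1))

end tt

section fin

variable {G : Type*} [Group G] [Finite G] {D : Set G}

/-- In a primitive class of width at least two, any two members have a common commuting partner (or
commute). -/
theorem exists_common_neighbour (hD : IsThreeTranspositionClass D) (hprim : IsPrimitiveUnderConj D)
    (hw : ∃ a ∈ D, ∃ b ∈ D, a ≠ b ∧ Commute a b) {d a : G} (hd : d ∈ D) (ha : a ∈ D)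
    (hda : ¬ Commute d a) : ∃ v ∈ D, Commute v d ∧ Commute v a := by
  have hS := hD.1
  have hconj := class_conj hD
  have hF1 : genRel D (fun u v => Commute u v) d a := by
    have hR := genRel_invRel (D := D) hconj (P := fun u v => Commute u v)
      (fun u v h => h.symm) (fun g u v h => (Commute.conj_iff g).2 h)
    rcases hR.trivial_or_univ_of_primitive hprim with h | h
    · exfalso
      obtain ⟨x, hx, y, hy, hxy, hc⟩ := hw
      exact hxy (h x y ⟨hx, Relation.ReflTransGen.single ⟨hx, hy, hc⟩⟩)
    · exact h d hd a ha
  have hclosed := genRel_closed (D := D) (P := fun u v => Commute u v)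
    (A := {s | s ∈ D ∧ (Commute s d ∨ ∃ v ∈ D, Commute v d ∧ Commute v s)})
    (by
      rintro u ⟨huD, hu⟩ w hwD huw
      refine ⟨hwD, ?_⟩
      by_cases hud : Commute u d
      · exact Or.inr ⟨u, huD, hud, huw⟩
      · rcases hu with hu | ⟨v, hvD, hvd, hvu⟩
        · exact absurd hu hud
        · by_cases hwd : Commute w d
          · exact Or.inl hwd
          · right
            obtain ⟨g, hg, hgw⟩ := corb_of_commute hS huD hd hwD huw hud (fun h => hwd h.symm)
            refine ⟨g * v * g⁻¹, hconj g v hvD, ?_, ?_⟩
            · have := (Commute.conj_iff g).2 hvd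
              have e : g * d * g⁻¹ = d := by rw [hg.eq]; group
              rwa [e] at this
            · have := (Commute.conj_iff g).2 hvu
              rwa [hgw] at this)
    hF1 ⟨hd, Or.inl (Commute.refl d)⟩
  rcases hclosed.2 with h | h
  · exact absurd h.symm hda
  · exact h

/-- **Fischer's rank-three property** (non-commuting part): in a primitive class of width at least
two, the centraliser of `d` is transitive on the members of `D` not commuting with `d`. -/
theorem corb_of_not_commute (hD : IsThreeTranspositionClass D) (hprim : IsPrimitiveUnderConj D)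
    (hw : ∃ a ∈ D, ∃ b ∈ D, a ≠ b ∧ Commute a b) {d : G} (hd : d ∈ D) :
    ∀ {a b : G}, a ∈ D → b ∈ D → ¬ Commute d a → ¬ Commute d b → COrb d a b := by
  classical
  have hS := hD.1
  have hconj := class_conj hD
  -- the common commuting partners of `d` and `c`
  set X : G → Set G := fun c => {v | v ∈ D ∧ Commute v d ∧ Commute v c} with hXdef
  have hXconj : ∀ (g : G), Commute g d → ∀ c : G, X (g * c * g⁻¹) = (fun v => g * v * g⁻¹) '' X c := by
    intro g hg c
    have e : g * d * g⁻¹ = d := by rw [hg.eq]; group
    ext v
    constructor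
    · rintro ⟨hvD, hvd, hvc⟩
      refine ⟨g⁻¹ * v * g, ⟨?_, ?_, ?_⟩, by group⟩
      · have := hconj g⁻¹ v hvD
        simpa using this
      · have h1 := (Commute.conj_iff g⁻¹).2 hvd
        have e2 : g⁻¹ * d * g⁻¹⁻¹ = d := by
          rw [inv_inv]
          calc g⁻¹ * d * g = g⁻¹ * (d * g) := by group
            _ = g⁻¹ * (g * d) := by rw [hg.eq]
            _ = d := by group
        rw [e2] at h1
        simpa using h1
      · have h1 := (Commute.conj_iff g⁻¹).2 hvc
        have e3 : g⁻¹ * (g * c * g⁻¹) * g⁻¹⁻¹ = c := by group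
        rw [e3] at h1
        simpa using h1
    · rintro ⟨u, ⟨huD, hud, huc⟩, rfl⟩
      refine ⟨hconj g u huD, ?_, (Commute.conj_iff g).2 huc⟩
      have := (Commute.conj_iff g).2 hud
      rwa [e] at this
  have hXcard : ∀ (g : G), Commute g d → ∀ c : G, (X (g * c * g⁻¹)).ncard = (X c).ncard := by
    intro g hg c
    rw [hXconj g hg c]
    apply Set.ncard_image_of_injective
    intro u v huv
    have h1 : g * u * g⁻¹ = g * v * g⁻¹ := huv
    have := congrArg (fun t => g⁻¹ * t * g) h1
    simpa [mul_assoc] using this
  -- the main argument, with the smaller set first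
  have main : ∀ a b : G, a ∈ D → b ∈ D → ¬ Commute d a → ¬ Commute d b →
      (X a).ncard ≤ (X b).ncard → COrb d a b := by
    intro a b ha hb hda hdb hcard
    by_contra hnot
    -- members of different orbits do not commute
    have hnc : ∀ a' b' : G, COrb d a a' → COrb d b b' → ¬ Commute a' b' := by
      intro a' b' haa' hbb' hc
      obtain ⟨g, hg, rfl⟩ := haa'
      obtain ⟨k, hk, rfl⟩ := hbb'
      have hda' : ¬ Commute (g * a * g⁻¹) d := by
        intro h
        apply hda
        have := (Commute.conj_iff g⁻¹).2 h
        have e1 : g⁻¹ * (g * a * g⁻¹) * g⁻¹⁻¹ = a := by group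
        have e2 : g⁻¹ * d * g⁻¹⁻¹ = d := by
          rw [inv_inv]
          calc g⁻¹ * d * g = g⁻¹ * (d * g) := by group
            _ = g⁻¹ * (g * d) := by rw [hg.eq]
            _ = d := by group
        rw [e1, e2] at this
        exact this.symm
      have hdb' : ¬ Commute d (k * b * k⁻¹) := by
        intro h
        apply hdb
        have := (Commute.conj_iff k⁻¹).2 h
        have e1 : k⁻¹ * (k * b * k⁻¹) * k⁻¹⁻¹ = b := by group
        have e2 : k⁻¹ * d * k⁻¹⁻¹ = d := by
          rw [inv_inv]
          calc k⁻¹ * d * k = k⁻¹ * (d * k) := by group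
            _ = k⁻¹ * (k * d) := by rw [hk.eq]
            _ = d := by group
        rw [e1, e2] at this
        exact this
      have h1 : COrb d (g * a * g⁻¹) (k * b * k⁻¹) :=
        corb_of_commute hS (hconj g a ha) hd (hconj k b hb) hc hda' hdb'
      have h0 : COrb d a (g * a * g⁻¹) := ⟨g, hg, rfl⟩
      have h2 : COrb d b (k * b * k⁻¹) := ⟨k, hk, rfl⟩
      exact hnot ((h0.trans h1).trans h2.symm)
    -- Claim 1: `X a' ⊆ X b'` across the two orbits
    have hsub : ∀ a' b' : G, COrb d a a' → COrb d b b' → X a' ⊆ X b' := by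
      intro a' b' haa' hbb'
      by_contra hns
      obtain ⟨v, hva', hvb'⟩ := Set.not_subset.1 hns
      have hca : (X a').ncard = (X a).ncard := by
        obtain ⟨g, hg, rfl⟩ := haa'
        exact hXcard g hg a
      have hcb : (X b').ncard = (X b).ncard := by
        obtain ⟨k, hk, rfl⟩ := hbb'
        exact hXcard k hk b
      have ha'D : a' ∈ D := by
        obtain ⟨g, hg, rfl⟩ := haa'
        exact hconj g a ha
      have hb'D : b' ∈ D := by
        obtain ⟨k, hk, rfl⟩ := hbb'
        exact hconj k b hb
      have hda' : ¬ Commute d a' := by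
        obtain ⟨g, hg, rfl⟩ := haa'
        intro h
        apply hda
        have := (Commute.conj_iff g⁻¹).2 h
        have e1 : g⁻¹ * (g * a * g⁻¹) * g⁻¹⁻¹ = a := by group
        have e2 : g⁻¹ * d * g⁻¹⁻¹ = d := by
          rw [inv_inv]
          calc g⁻¹ * d * g = g⁻¹ * (d * g) := by group
            _ = g⁻¹ * (g * d) := by rw [hg.eq]
            _ = d := by group
        rw [e1, e2] at this
        exact this
      have hdb' : ¬ Commute d b' := by
        obtain ⟨k, hk, rfl⟩ := hbb'
        intro h
        apply hdb
        have := (Commute.conj_iff k⁻¹).2 h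
        have e1 : k⁻¹ * (k * b * k⁻¹) * k⁻¹⁻¹ = b := by group
        have e2 : k⁻¹ * d * k⁻¹⁻¹ = d := by
          rw [inv_inv]
          calc k⁻¹ * d * k = k⁻¹ * (d * k) := by group
            _ = k⁻¹ * (k * d) := by rw [hk.eq]
            _ = d := by group
        rw [e1, e2] at this
        exact this
      have hrev : X b' ⊆ X a' := by
        intro v' hv'b'
        by_contra hv'a'
        have hvb'' : ¬ Commute v b' := fun h => hvb' ⟨hva'.1, hva'.2.1, h⟩
        have hv'a'' : ¬ Commute v' a' := fun h => hv'a' ⟨hv'b'.1, hv'b'.2.1, h⟩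
        have := corb_of_nested hS hd ha'D hb'D hva'.1 hv'b'.1 hda' hdb' (hnc a' b' haa' hbb')
          hva'.2.1 hva'.2.2 hvb'' hv'b'.2.1 hv'b'.2.2 hv'a''
        exact hnot ((haa'.trans this).trans hbb'.symm)
      have hle : (X a').ncard ≤ (X b').ncard := by rw [hca, hcb]; exact hcard
      have heq := Set.eq_of_subset_of_ncard_le hrev hle (Set.toFinite _)
      rw [← heq] at hva'
      exact hvb' hva'
    -- Claim 2: every commuting partner of `d` commutes with the whole orbit of `b`
    obtain ⟨v₀, hv₀D, hv₀d, hv₀a⟩ := exists_common_neighbour hD hprim hw hd ha hda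
    have hv₀ne : v₀ ≠ d := by
      rintro rfl
      exact hda hv₀a
    have hv₀Dd : v₀ ∈ Dd D d := ⟨hv₀D, hv₀ne, hv₀d.symm⟩
    have hclaim2 : ∀ v ∈ Dd D d, ∀ b' : G, COrb d b b' → Commute v b' := by
      intro v hv b' hbb'
      obtain ⟨g, hg, hgv⟩ := dd_single_class hD hprim hd hv₀Dd hv
      have hgd : Commute g d := by
        have hle : Subgroup.closure (Dd D d) ≤ Subgroup.centralizer ({d} : Set G) := by
          rw [Subgroup.closure_le]
          intro y hy
          rw [SetLike.mem_coe, Subgroup.mem_centralizer_iff]
          intro z hz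
          rw [Set.mem_singleton_iff] at hz
          rw [hz]; exact hy.2.2.eq
        have := hle hg
        rw [Subgroup.mem_centralizer_iff] at this
        exact (this d rfl).symm
      have hvX : v ∈ X (g * a * g⁻¹) := by
        rw [hXconj g hgd a]
        exact ⟨v₀, ⟨hv₀D, hv₀d, hv₀a⟩, hgv⟩
      exact (hsub (g * a * g⁻¹) b' ⟨g, hgd, rfl⟩ hbb' hvX).2.2
    -- Claim 3: `{d} ∪ orbit(b)` is a module
    set M : Set G := {c | c = d ∨ COrb d b c} with hMdef
    have hMD : M ⊆ D := by
      rintro c (rfl | ⟨g, hg, rfl⟩)
      · exact hd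
      · exact hconj g b hb
    have hMmod : IsModule D M := by
      intro u hu huM
      by_cases hud : Commute u d
      · left
        have hune : u ≠ d := fun h => huM (Or.inl h)
        rintro c (rfl | hc)
        · exact hud
        · exact hclaim2 u ⟨hu, hune, hud.symm⟩ c hc
      · right
        rintro c (rfl | hc) huc
        · exact hud huc
        · apply huM
          right
          have hcD : c ∈ D := hMD (Or.inr hc)
          have hdc : ¬ Commute d c := by
            obtain ⟨k, hk, rfl⟩ := hc
            intro h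
            apply hdb
            have := (Commute.conj_iff k⁻¹).2 h
            have e1 : k⁻¹ * (k * b * k⁻¹) * k⁻¹⁻¹ = b := by group
            have e2 : k⁻¹ * d * k⁻¹⁻¹ = d := by
              rw [inv_inv]
              calc k⁻¹ * d * k = k⁻¹ * (d * k) := by group
                _ = k⁻¹ * (k * d) := by rw [hk.eq]
                _ = d := by group
            rw [e1, e2] at this
            exact this
          exact hc.trans (corb_of_commute hS hcD hd hu huc.symm (fun h => hdc h.symm)
            (fun h => hud h.symm))
    rcases module_trivial hD hprim hw hMD hMmod with h | h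
    · have hbd : b ≠ d := by
        rintro rfl
        exact hdb (Commute.refl _)
      exact hbd (h (Or.inr (COrb.refl d b)) (Or.inl rfl))
    · have : v₀ ∈ M := by rw [h]; exact hv₀D
      rcases this with h1 | ⟨k, hk, hkv⟩
      · exact hv₀ne h1
      · apply hdb
        have h2 : Commute (k * b * k⁻¹) d := by rw [hkv]; exact hv₀d
        have := (Commute.conj_iff k⁻¹).2 h2
        have e1 : k⁻¹ * (k * b * k⁻¹) * k⁻¹⁻¹ = b := by group
        have e2 : k⁻¹ * d * k⁻¹⁻¹ = d := by
          rw [inv_inv]
          calc k⁻¹ * d * k = k⁻¹ * (d * k) := by group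
            _ = k⁻¹ * (k * d) := by rw [hk.eq]
            _ = d := by group
        rw [e1, e2] at this
        exact this.symm
  intro a b ha hb hda hdb
  rcases le_total (X a).ncard (X b).ncard with h | h
  · exact main a b ha hb hda hdb h
  · exact (main b a hb ha hdb hda h).symm

end fin

end Cfsg.Agent.Lib.H18.TTF
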