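import Mathlib
import Cfsg.Agent.Lib.H15.NseA

/-!
# The arithmetic of `nse(A₅)` (helper18, for helper15's S3431)

`arith_A5` : if the numbers `s m` of elements of order `m` of a group of order `N` take exactly the
values `1, 15, 20, 24` (besides `0`), then `N = 60`, `s 2 = 15`, `s 3 = 20`, `s 5 = 24` and all
other `s m` vanish.
-/

set_option autoImplicit false

namespace Cfsg.Agent.Lib.H18.NseA5

open Cfsg.Agent.Lib.H15.Nse

variable {N : ℕ} {s : ℕ → ℕ}

theorem s_zero (D : NseData N s) : s 0 = 0 := by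
  apply D.ndvd
  rw [Nat.zero_dvd]
  exact D.pos.ne'

theorem even_vals (D : NseData N s)
    (hV : ∀ m, s m = 0 ∨ s m = 1 ∨ s m = 15 ∨ s m = 20 ∨ s m = 24) (m : ℕ) (hm : 2 < m) :
    s m = 0 ∨ s m = 20 ∨ s m = 24 := by
  have h1 : Even (Nat.totient m) := Nat.totient_even hm
  have h2 : 2 ∣ s m := (even_iff_two_dvd.mp h1).trans (D.tot m)
  rcases hV m with h | h | h | h | h
  · exact Or.inl h
  · rw [h] at h2; omega
  · rw [h] at h2; omega
  · exact Or.inr (Or.inl h)
  · exact Or.inr (Or.inr h)

theorem s_two (D : NseData N s)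
    (hV : ∀ m, s m = 0 ∨ s m = 1 ∨ s m = 15 ∨ s m = 20 ∨ s m = 24) (e15 : ∃ m, s m = 15) :
    s 2 = 15 := by
  obtain ⟨m, hm⟩ := e15
  rcases Nat.lt_or_ge 2 m with h | h
  · rcases even_vals D hV m h with h' | h' | h' <;> omega
  · interval_cases m
    · rw [s_zero D] at hm; omega
    · rw [D.one] at hm; omega
    · exact hm

theorem prime_cases (D : NseData N s)
    (hV : ∀ m, s m = 0 ∨ s m = 1 ∨ s m = 15 ∨ s m = 20 ∨ s m = 24) (p : ℕ) (hp : p.Prime)
    (hpN : p ∣ N) : p = 2 ∨ (p = 3 ∧ s 3 = 20) ∨ (p = 5 ∧ s 5 = 24) := by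
  rcases Nat.lt_or_ge 2 p with h | h
  · right
    have h0 := D.cauchy p hp hpN
    have h1 := D.frob p hpN
    rw [Nat.Prime.divisors hp, Finset.sum_pair hp.one_lt.ne, D.one] at h1
    have h2 := D.tot p
    rw [Nat.totient_prime hp] at h2
    rcases even_vals D hV p h with h' | h' | h'
    · exact absurd h' h0
    · left
      rw [h'] at h1 h2
      have h3 : p ∣ 3 * 7 := h1
      rcases (Nat.Prime.dvd_mul hp).mp h3 with h4 | h4
      · have h5 := (Nat.prime_dvd_prime_iff_eq hp Nat.prime_three).mp h4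
        subst h5
        exact ⟨rfl, h'⟩
      · have h5 := (Nat.prime_dvd_prime_iff_eq hp (by norm_num)).mp h4
        subst h5
        omega
    · right
      rw [h'] at h1
      have h3 : p ∣ 5 * 5 := h1
      rcases (Nat.Prime.dvd_mul hp).mp h3 with h4 | h4
      · have h5 := (Nat.prime_dvd_prime_iff_eq hp Nat.prime_five).mp h4
        subst h5
        exact ⟨rfl, h'⟩
      · have h5 := (Nat.prime_dvd_prime_iff_eq hp Nat.prime_five).mp h4
        subst h5
        exact ⟨rfl, h'⟩
  · left
    have := hp.two_le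
    omega

theorem s_three (D : NseData N s)
    (hV : ∀ m, s m = 0 ∨ s m = 1 ∨ s m = 15 ∨ s m = 20 ∨ s m = 24) (h3N : 3 ∣ N) : s 3 = 20 := by
  rcases prime_cases D hV 3 Nat.prime_three h3N with h | h | h
  · omega
  · exact h.2
  · omega

theorem s_five (D : NseData N s)
    (hV : ∀ m, s m = 0 ∨ s m = 1 ∨ s m = 15 ∨ s m = 20 ∨ s m = 24) (h5N : 5 ∣ N) : s 5 = 24 := by
  rcases prime_cases D hV 5 Nat.prime_five h5N with h | h | h
  · omega
  · omega
  · exact h.2

theorem not_nine (D : NseData N s)
    (hV : ∀ m, s m = 0 ∨ s m = 1 ∨ s m = 15 ∨ s m = 20 ∨ s m = 24) : ¬ 9 ∣ N := by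
  intro h9
  have h3N : 3 ∣ N := Dvd.dvd.trans (by norm_num) h9
  have hs3 := s_three D hV h3N
  have hf9 := D.frob 9 h9
  rw [show (9 : ℕ).divisors = {1, 3, 9} by decide, Finset.sum_insert (by decide),
    Finset.sum_pair (by decide), D.one, hs3] at hf9
  have hs9 : s 9 = 24 := by
    rcases even_vals D hV 9 (by norm_num) with h | h | h <;> omega
  by_cases h27 : 27 ∣ N
  · have hf27 := D.frob 27 h27
    rw [show (27 : ℕ).divisors = {1, 3, 9, 27} by decide, Finset.sum_insert (by decide),
      Finset.sum_insert (by decide), Finset.sum_pair (by decide), D.one, hs3, hs9] at hf27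
    rcases even_vals D hV 27 (by norm_num) with h | h | h <;> omega
  · have e2 : (3 : ℕ) ^ 2 = 9 := by norm_num
    have e3 : (3 : ℕ) ^ (2 + 1) = 27 := by norm_num
    obtain ⟨n, -, -, hn, hj⟩ := D.syl 3 2 Nat.prime_three (by rw [e2]; exact h9)
      (by rw [e3]; exact h27) (by rw [e2, hs9]; norm_num)
    have h1 := hj 1 (by norm_num)
    rw [e2, hs9, show Nat.totient 9 = 6 by decide] at hn
    rw [pow_one, hs3, show Nat.totient 3 = 2 by decide] at h1
    omega

theorem not_twentyfive (D : NseData N s)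
    (hV : ∀ m, s m = 0 ∨ s m = 1 ∨ s m = 15 ∨ s m = 20 ∨ s m = 24) (hs2 : s 2 = 15)
    (h2N : 2 ∣ N) : ¬ 25 ∣ N := by
  intro h25
  have h5N : 5 ∣ N := Dvd.dvd.trans (by norm_num) h25
  have hs5 := s_five D hV h5N
  have hf25 := D.frob 25 h25
  rw [show (25 : ℕ).divisors = {1, 5, 25} by decide, Finset.sum_insert (by decide),
    Finset.sum_pair (by decide), D.one, hs5] at hf25
  have hs25 : s 25 = 0 := by
    rcases even_vals D hV 25 (by norm_num) with h | h | h <;> omega
  have hs50 : s 50 = 0 := D.mul 25 2 hs25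
  have h50 : 50 ∣ N := Nat.Coprime.mul_dvd_of_dvd_of_dvd (by norm_num : Nat.Coprime 2 25) h2N h25
  have hf50 := D.frob 50 h50
  rw [show (50 : ℕ).divisors = {1, 2, 5, 10, 25, 50} by decide, Finset.sum_insert (by decide),
    Finset.sum_insert (by decide), Finset.sum_insert (by decide), Finset.sum_insert (by decide),
    Finset.sum_pair (by decide), D.one, hs2, hs5, hs25, hs50] at hf50
  rcases even_vals D hV 10 (by norm_num) with h | h | h <;> omega

theorem s_thirtytwo (D : NseData N s)
    (hV : ∀ m, s m = 0 ∨ s m = 1 ∨ s m = 15 ∨ s m = 20 ∨ s m = 24) : s 32 = 0 := by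
  have h1 := D.tot 32
  rw [show Nat.totient 32 = 16 by decide] at h1
  rcases even_vals D hV 32 (by norm_num) with h | h | h <;> omega

theorem not_128 (D : NseData N s)
    (hV : ∀ m, s m = 0 ∨ s m = 1 ∨ s m = 15 ∨ s m = 20 ∨ s m = 24) (hs2 : s 2 = 15) :
    ¬ 128 ∣ N := by
  intro h128
  have hs32 := s_thirtytwo D hV
  have hs64 : s 64 = 0 := D.mul 32 2 hs32
  have hs128 : s 128 = 0 := D.mul 32 4 hs32
  have hf := D.frob 128 h128
  rw [show (128 : ℕ).divisors = {1, 2, 4, 8, 16, 32, 64, 128} by decide,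
    Finset.sum_insert (by decide), Finset.sum_insert (by decide), Finset.sum_insert (by decide),
    Finset.sum_insert (by decide), Finset.sum_insert (by decide), Finset.sum_insert (by decide),
    Finset.sum_pair (by decide), D.one, hs2, hs32, hs64, hs128] at hf
  have h4 := even_vals D hV 4 (by norm_num)
  have h8 := even_vals D hV 8 (by norm_num)
  have h16 := even_vals D hV 16 (by norm_num)
  omega

theorem sixty_le (D : NseData N s) (hs2 : s 2 = 15) {m20 m24 : ℕ} (h20 : s m20 = 20)
    (h24 : s m24 = 24) : 60 ≤ N := by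
  have hd : ∀ m, s m ≠ 0 → m ∈ N.divisors := by
    intro m hm
    rw [Nat.mem_divisors]
    exact ⟨by by_contra h; exact hm (D.ndvd m h), D.pos.ne'⟩
  have hsub : ({1, 2, m20, m24} : Finset ℕ) ⊆ N.divisors := by
    intro d hd'
    simp only [Finset.mem_insert, Finset.mem_singleton] at hd'
    rcases hd' with rfl | rfl | rfl | rfl
    · exact hd 1 (by rw [D.one]; norm_num)
    · exact hd 2 (by rw [hs2]; norm_num)
    · exact hd _ (by rw [h20]; norm_num)
    · exact hd _ (by rw [h24]; norm_num)
  have h1 := Finset.sum_le_sum_of_subset (f := s) hsub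
  rw [← D.total] at h1
  have ha : (1 : ℕ) ∉ ({2, m20, m24} : Finset ℕ) := by
    simp only [Finset.mem_insert, Finset.mem_singleton, not_or]
    refine ⟨by norm_num, ?_, ?_⟩
    · rintro rfl
      rw [D.one] at h20; omega
    · rintro rfl
      rw [D.one] at h24; omega
  have hb : (2 : ℕ) ∉ ({m20, m24} : Finset ℕ) := by
    simp only [Finset.mem_insert, Finset.mem_singleton, not_or]
    refine ⟨?_, ?_⟩
    · rintro rfl
      rw [hs2] at h20; omega
    · rintro rfl
      rw [hs2] at h24; omega
  have hc : m20 ≠ m24 := by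
    rintro rfl
    rw [h20] at h24; omega
  rw [Finset.sum_insert ha, Finset.sum_insert hb, Finset.sum_pair hc, D.one, hs2, h20, h24] at h1
  omega

theorem key_zero (D : NseData N s) (hP : ∀ p, p.Prime → p ∣ N → p = 2 ∨ p = 3 ∨ p = 5)
    (h4 : s 4 = 0) (h6 : s 6 = 0) (h10 : s 10 = 0) (h15 : s 15 = 0) (h9 : s 9 = 0)
    (h25 : s 25 = 0) (d : ℕ) (hd1 : d ≠ 1) (hd2 : d ≠ 2) (hd3 : d ≠ 3) (hd5 : d ≠ 5) :
    s d = 0 := by
  by_contra hsd
  have hdN : d ∣ N := by
    by_contra h
    exact hsd (D.ndvd d h)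
  obtain ⟨p, hp, hpd⟩ := Nat.exists_prime_and_dvd hd1
  obtain ⟨k, rfl⟩ := hpd
  have hpP := hP p hp (Dvd.dvd.trans (Dvd.intro _ rfl) hdN)
  have hk1 : k ≠ 1 := by
    rintro rfl
    rw [mul_one] at hd2 hd3 hd5
    rcases hpP with h | h | h <;> omega
  obtain ⟨p', hp', hp'k⟩ := Nat.exists_prime_and_dvd hk1
  obtain ⟨k', rfl⟩ := hp'k
  have hp'P := hP p' hp' (Dvd.dvd.trans ((Dvd.intro k' rfl : p' ∣ p' * k').mul_left p) hdN)
  have h0 : s (p * p') = 0 := by
    rcases hpP with rfl | rfl | rfl <;> rcases hp'P with rfl | rfl | rfl <;> norm_num <;>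
      assumption
  apply hsd
  rw [← mul_assoc]
  exact D.mul _ _ h0

/-- REQUEST-N1 of helper15 -/
theorem arith_A5 {N : ℕ} {s : ℕ → ℕ} (D : NseData N s)
    (hV : ∀ m, s m = 0 ∨ s m = 1 ∨ s m = 15 ∨ s m = 20 ∨ s m = 24) (e15 : ∃ m, s m = 15)
    (e20 : ∃ m, s m = 20) (e24 : ∃ m, s m = 24) :
    N = 60 ∧ s 2 = 15 ∧ s 3 = 20 ∧ s 5 = 24 ∧
      ∀ m, m ≠ 1 → m ≠ 2 → m ≠ 3 → m ≠ 5 → s m = 0 := by
  have hs2 := s_two D hV e15
  have h2N : 2 ∣ N := by
    by_contra h
    rw [D.ndvd 2 h] at hs2
    omega
  have h9 := not_nine D hV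
  have h25 := not_twentyfive D hV hs2 h2N
  have h128 := not_128 D hV hs2
  obtain ⟨m20, h20⟩ := e20
  obtain ⟨m24, h24⟩ := e24
  have hP : ∀ p, p.Prime → p ∣ N → p = 2 ∨ p = 3 ∨ p = 5 := by
    intro p hp hpN
    rcases prime_cases D hV p hp hpN with h | h | h
    · exact Or.inl h
    · exact Or.inr (Or.inl h.1)
    · exact Or.inr (Or.inr h.1)
  by_cases h3N : 3 ∣ N
  · have hs3 := s_three D hV h3N
    by_cases h5N : 5 ∣ N
    · -- the main case
      have hs5 := s_five D hV h5N
      have h15N : 15 ∣ N :=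
        Nat.Coprime.mul_dvd_of_dvd_of_dvd (by norm_num : Nat.Coprime 3 5) h3N h5N
      have hf15 := D.frob 15 h15N
      rw [show (15 : ℕ).divisors = {1, 3, 5, 15} by decide, Finset.sum_insert (by decide),
        Finset.sum_insert (by decide), Finset.sum_pair (by decide), D.one, hs3, hs5] at hf15
      have hs15 : s 15 = 0 := by
        rcases even_vals D hV 15 (by norm_num) with h | h | h <;> omega
      have hs30 : s 30 = 0 := D.mul 15 2 hs15
      have h30N : 30 ∣ N :=
        Nat.Coprime.mul_dvd_of_dvd_of_dvd (by norm_num : Nat.Coprime 2 15) h2N h15N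
      have hf30 := D.frob 30 h30N
      rw [show (30 : ℕ).divisors = {1, 2, 3, 5, 6, 10, 15, 30} by decide,
        Finset.sum_insert (by decide), Finset.sum_insert (by decide),
        Finset.sum_insert (by decide), Finset.sum_insert (by decide),
        Finset.sum_insert (by decide), Finset.sum_insert (by decide),
        Finset.sum_pair (by decide), D.one, hs2, hs3, hs5, hs15, hs30] at hf30
      have h6' := even_vals D hV 6 (by norm_num)
      have h10' := even_vals D hV 10 (by norm_num)
      have hs6 : s 6 = 0 := by omega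
      have hs10 : s 10 = 0 := by omega
      have hs4 : s 4 = 0 := by
        by_cases h4N : 4 ∣ N
        · have h12N : 12 ∣ N :=
            Nat.Coprime.mul_dvd_of_dvd_of_dvd (by norm_num : Nat.Coprime 4 3) h4N h3N
          have h20N : 20 ∣ N :=
            Nat.Coprime.mul_dvd_of_dvd_of_dvd (by norm_num : Nat.Coprime 4 5) h4N h5N
          have hs12 : s 12 = 0 := D.mul 6 2 hs6
          have hs20 : s 20 = 0 := D.mul 10 2 hs10
          have hf12 := D.frob 12 h12N
          rw [show (12 : ℕ).divisors = {1, 2, 3, 4, 6, 12} by decide,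
            Finset.sum_insert (by decide), Finset.sum_insert (by decide),
            Finset.sum_insert (by decide), Finset.sum_insert (by decide),
            Finset.sum_pair (by decide), D.one, hs2, hs3, hs6, hs12] at hf12
          have hf20 := D.frob 20 h20N
          rw [show (20 : ℕ).divisors = {1, 2, 4, 5, 10, 20} by decide,
            Finset.sum_insert (by decide), Finset.sum_insert (by decide),
            Finset.sum_insert (by decide), Finset.sum_insert (by decide),
            Finset.sum_pair (by decide), D.one, hs2, hs5, hs10, hs20] at hf20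
          rcases even_vals D hV 4 (by norm_num) with h | h | h <;> omega
        · exact D.ndvd 4 h4N
      have key := key_zero D hP hs4 hs6 hs10 hs15 (D.ndvd 9 h9) (D.ndvd 25 h25)
      have hsum : ∑ d ∈ N.divisors, s d = ∑ d ∈ ({1, 2, 3, 5} : Finset ℕ), s d := by
        symm
        apply Finset.sum_subset
        · intro d hd
          simp only [Finset.mem_insert, Finset.mem_singleton] at hd
          rw [Nat.mem_divisors]
          refine ⟨?_, D.pos.ne'⟩
          rcases hd with rfl | rfl | rfl | rfl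
          · exact one_dvd _
          · exact h2N
          · exact h3N
          · exact h5N
        · intro d _ hd
          simp only [Finset.mem_insert, Finset.mem_singleton, not_or] at hd
          exact key d hd.1 hd.2.1 hd.2.2.1 hd.2.2.2
      have hN : N = 60 := by
        calc N = ∑ d ∈ N.divisors, s d := D.total
          _ = ∑ d ∈ ({1, 2, 3, 5} : Finset ℕ), s d := hsum
          _ = 60 := by
            rw [Finset.sum_insert (by decide), Finset.sum_insert (by decide),
              Finset.sum_pair (by decide), D.one, hs2, hs3, hs5]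
            norm_num
      exact ⟨hN, hs2, hs3, hs5, key⟩
    · -- `3 ∣ N`, `5 ∤ N`
      exfalso
      have e1 : (3 : ℕ) ^ 1 = 3 := by norm_num
      have e2 : (3 : ℕ) ^ (1 + 1) = 9 := by norm_num
      obtain ⟨n, -, hnN, hn, -⟩ := D.syl 3 1 Nat.prime_three (by rw [e1]; exact h3N)
        (by rw [e2]; exact h9) (by rw [e1, hs3]; norm_num)
      rw [e1, hs3, show Nat.totient 3 = 2 by decide] at hn
      have hn10 : n = 10 := by omega
      rw [hn10] at hnN
      exact h5N (Dvd.dvd.trans (by norm_num) hnN)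
  · by_cases h5N : 5 ∣ N
    · -- `3 ∤ N`, `5 ∣ N`
      exfalso
      have hs5 := s_five D hV h5N
      have e1 : (5 : ℕ) ^ 1 = 5 := by norm_num
      have e2 : (5 : ℕ) ^ (1 + 1) = 25 := by norm_num
      obtain ⟨n, -, hnN, hn, -⟩ := D.syl 5 1 Nat.prime_five (by rw [e1]; exact h5N)
        (by rw [e2]; exact h25) (by rw [e1, hs5]; norm_num)
      rw [e1, hs5, show Nat.totient 5 = 4 by decide] at hn
      have hn6 : n = 6 := by omega
      rw [hn6] at hnN
      exact h3N (Dvd.dvd.trans (by norm_num) hnN)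
    · -- `N` is a power of `2`
      exfalso
      have hN2 : N = 2 ^ N.primeFactorsList.length :=
        Nat.eq_prime_pow_of_unique_prime_dvd D.pos.ne' (fun {d} hd hdN => by
          rcases hP d hd hdN with h | h | h
          · exact h
          · exact absurd (h ▸ hdN) h3N
          · exact absurd (h ▸ hdN) h5N)
      obtain ⟨a, ha⟩ : ∃ a : ℕ, N = 2 ^ a := ⟨_, hN2⟩
      have ha6 : a ≤ 6 := by
        by_contra hcon
        push Not at hcon
        apply h128
        rw [ha]
        exact pow_dvd_pow 2 (show 7 ≤ a by omega)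
      have h60 := sixty_le D hs2 h20 h24
      have ha' : a = 6 := by
        interval_cases a <;> norm_num at ha <;> omega
      rw [ha'] at ha
      have hN64 : N = 64 := by rw [ha]; norm_num
      have hs32 := s_thirtytwo D hV
      have hs64 : s 64 = 0 := D.mul 32 2 hs32
      have hf := D.frob 64 (by rw [hN64])
      rw [show (64 : ℕ).divisors = {1, 2, 4, 8, 16, 32, 64} by decide,
        Finset.sum_insert (by decide), Finset.sum_insert (by decide),
        Finset.sum_insert (by decide), Finset.sum_insert (by decide),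
        Finset.sum_insert (by decide), Finset.sum_pair (by decide), D.one, hs2, hs32,
        hs64] at hf
      have h4 := even_vals D hV 4 (by norm_num)
      have h8 := even_vals D hV 8 (by norm_num)
      have h16 := even_vals D hV 16 (by norm_num)
      have hm20 : m20 ∣ 2 ^ 6 := by
        rw [← ha]
        by_contra h
        rw [D.ndvd m20 h] at h20
        omega
      obtain ⟨j, hj, rfl⟩ := (Nat.dvd_prime_pow Nat.prime_two).mp hm20
      have hone := D.one
      interval_cases j <;> norm_num at h20 <;> omega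

end Cfsg.Agent.Lib.H18.NseA5
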