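import Mathlib

set_option autoImplicit false

/-!
Helper library (helper18): "same prime graph" relation and a semidirect-product criterion.
-/

namespace Cfsg.Agent.Lib.H18

/-- Two groups have the same prime graph (in the form used by the statements). -/
def SamePG (G H : Type*) [Group G] [Group H] : Prop :=
  (∀ p : ℕ, p.Prime → (p ∣ Nat.card G ↔ p ∣ Nat.card H)) ∧
  (∀ p q : ℕ, p.Prime → q.Prime → p ≠ q →
    ((∃ g : G, orderOf g = p * q) ↔ (∃ g : H, orderOf g = p * q)))

theorem SamePG.refl (G : Type*) [Group G] : SamePG G G := ⟨fun _ _ => Iff.rfl, fun _ _ _ _ _ => Iff.rfl⟩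

theorem SamePG.symm {G H : Type*} [Group G] [Group H] (h : SamePG G H) : SamePG H G :=
  ⟨fun p hp => (h.1 p hp).symm, fun p q hp hq hpq => (h.2 p q hp hq hpq).symm⟩

theorem SamePG.trans {G H K : Type*} [Group G] [Group H] [Group K] (h1 : SamePG G H)
    (h2 : SamePG H K) : SamePG G K :=
  ⟨fun p hp => (h1.1 p hp).trans (h2.1 p hp),
    fun p q hp hq hpq => (h1.2 p q hp hq hpq).trans (h2.2 p q hp hq hpq)⟩

theorem samePG_of_mulEquiv {G H : Type*} [Group G] [Group H] (e : G ≃* H) : SamePG G H := by
  refine ⟨fun p _ => by rw [Nat.card_congr e.toEquiv], fun p q _ _ _ => ?_⟩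
  constructor
  · rintro ⟨g, hg⟩
    exact ⟨e g, by rw [MulEquiv.orderOf_eq]; exact hg⟩
  · rintro ⟨g, hg⟩
    exact ⟨e.symm g, by rw [MulEquiv.orderOf_eq]; exact hg⟩

theorem prime_dvd_card_iff_mem_spectrum {G : Type*} [Group G] [Finite G] {p : ℕ} (hp : p.Prime) :
    p ∣ Nat.card G ↔ p ∈ Set.range (orderOf : G → ℕ) := by
  constructor
  · intro h
    have : Fact p.Prime := ⟨hp⟩
    obtain ⟨x, hx⟩ := exists_prime_orderOf_dvd_card' p h
    exact ⟨x, hx⟩
  · rintro ⟨x, rfl⟩
    exact orderOf_dvd_natCard x

theorem samePG_of_spectrum_eq {G H : Type*} [Group G] [Group H] [Finite G] [Finite H]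
    (h : Set.range (orderOf : G → ℕ) = Set.range (orderOf : H → ℕ)) : SamePG G H := by
  refine ⟨fun p hp => ?_, fun p q _ _ _ => ?_⟩
  · rw [prime_dvd_card_iff_mem_spectrum hp, prime_dvd_card_iff_mem_spectrum hp, h]
  · have h1 : (∃ g : G, orderOf g = p * q) ↔ p * q ∈ Set.range (orderOf : G → ℕ) := Iff.rfl
    have h2 : (∃ g : H, orderOf g = p * q) ↔ p * q ∈ Set.range (orderOf : H → ℕ) := Iff.rfl
    rw [h1, h2, h]

section Semidirect

variable {N S : Type*} [CommGroup N] [Group S] (φ : S →* MulAut N)

theorem sd_conj_inl (h : N ⋊[φ] S) (v : N) :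
    h * SemidirectProduct.inl v * h⁻¹ = SemidirectProduct.inl (φ h.right v) := by
  have hh : h = SemidirectProduct.inl h.left * SemidirectProduct.inr h.right :=
    (SemidirectProduct.inl_left_mul_inr_right h).symm
  have h1 : SemidirectProduct.inr h.right * SemidirectProduct.inl v *
      (SemidirectProduct.inr h.right : N ⋊[φ] S)⁻¹ = SemidirectProduct.inl (φ h.right v) := by
    rw [SemidirectProduct.inl_aut, map_inv]
  calc h * SemidirectProduct.inl v * h⁻¹
      = SemidirectProduct.inl h.left * (SemidirectProduct.inr h.right * SemidirectProduct.inl v *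
          (SemidirectProduct.inr h.right : N ⋊[φ] S)⁻¹) * (SemidirectProduct.inl h.left)⁻¹ := by
        conv_lhs => rw [hh]
        group
    _ = SemidirectProduct.inl (h.left * φ h.right v * (h.left)⁻¹) := by
        rw [h1, ← map_inv, ← map_mul, ← map_mul]
    _ = SemidirectProduct.inl (φ h.right v) := by
        congr 1
        rw [mul_comm h.left, mul_assoc, mul_inv_cancel, mul_one]

theorem sd_eq_inl_of_right_eq_one (h : N ⋊[φ] S) (hr : h.right = 1) :
    h = SemidirectProduct.inl h.left := by
  have := SemidirectProduct.inl_left_mul_inr_right h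
  rw [hr, map_one, mul_one] at this
  exact this.symm

/-- The semidirect product criterion. `N` is a finite commutative group of exponent two, `S` a
finite group of even order without elements of order `2s` for odd primes `s`, in which only
involutions fix nonidentity elements of `N`. Then `N ⋊ S` and `S` have the same prime graph. -/
theorem samePG_semidirect [Finite N] [Finite S] (hexp : ∀ n : N, n * n = 1)
    (hA : ∀ s : ℕ, s.Prime → s ≠ 2 → ¬ ∃ g : S, orderOf g = 2 * s)
    (hB : ∀ (g : S) (v : N), v ≠ 1 → φ g v = v → g * g = 1)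
    (hC : 2 ∣ Nat.card S) : SamePG S (N ⋊[φ] S) := by
  classical
  have hfin : Finite (N ⋊[φ] S) :=
    Finite.of_equiv _ (SemidirectProduct.equivProd (N := N) (G := S) (φ := φ)).symm
  have hcard : Nat.card (N ⋊[φ] S) = Nat.card N * Nat.card S := by
    rw [Nat.card_congr (SemidirectProduct.equivProd (N := N) (G := S) (φ := φ)), Nat.card_prod]
  have hN2 : IsPGroup 2 N := by
    intro n
    exact ⟨1, by rw [pow_one, pow_two]; exact hexp n⟩
  obtain ⟨k, hk⟩ := (IsPGroup.iff_card).mp hN2
  -- kernel elements square to one
  have hker : ∀ h : N ⋊[φ] S, h.right = 1 → h * h = 1 := by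
    intro h hr
    rw [sd_eq_inl_of_right_eq_one φ h hr, ← map_mul, hexp, map_one]
  refine ⟨fun p hp => ?_, fun p q hp hq hpq => ?_⟩
  · rw [hcard, hk]
    constructor
    · intro h; exact Dvd.dvd.mul_left h _
    · intro h
      rcases (Nat.Prime.dvd_mul hp).mp h with h1 | h1
      · have := (Nat.prime_dvd_prime_iff_eq hp Nat.prime_two).mp (hp.dvd_of_dvd_pow h1)
        rw [this]; exact hC
      · exact h1
  · constructor
    · rintro ⟨g, hg⟩
      refine ⟨SemidirectProduct.inr g, ?_⟩
      rw [orderOf_injective (SemidirectProduct.inr : S →* N ⋊[φ] S) SemidirectProduct.inr_injective]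
      exact hg
    · rintro ⟨h, hh⟩
      set g : S := h.right with hg
      have hgr : g = SemidirectProduct.rightHom h := rfl
      have hn_dvd : orderOf g ∣ p * q := by
        rw [← hh, hgr]; exact orderOf_map_dvd _ h
      have hpow : (h ^ orderOf g) * (h ^ orderOf g) = 1 := by
        apply hker
        have : (h ^ orderOf g).right = g ^ orderOf g := by
          rw [hg]
          exact map_pow (SemidirectProduct.rightHom : N ⋊[φ] S →* S) h _
        rw [this, pow_orderOf_eq_one]
      have hpq_dvd : p * q ∣ 2 * orderOf g := by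
        rw [← hh]
        apply orderOf_dvd_of_pow_eq_one
        rw [two_mul, pow_add]; exact hpow
      by_cases h2 : p = 2 ∨ q = 2
      · exfalso
        -- reduce to order 2 * s with s an odd prime
        obtain ⟨s, hs, hs2, hord⟩ : ∃ s : ℕ, s.Prime ∧ s ≠ 2 ∧ orderOf h = 2 * s := by
          rcases h2 with h2 | h2
          · exact ⟨q, hq, fun h => hpq (h2.trans h.symm), by rw [hh, h2]⟩
          · exact ⟨p, hp, fun h => hpq (h.trans h2.symm), by rw [hh, h2, mul_comm]⟩
        have hpqs : p * q = 2 * s := by rw [← hh, hord]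
        rw [hpqs] at hn_dvd hpq_dvd
        have hsn : s ∣ orderOf g := (Nat.mul_dvd_mul_iff_left (by norm_num)).mp hpq_dvd
        obtain ⟨j, hj⟩ := hsn
        have hj2 : j ∣ 2 := by
          rw [hj, mul_comm 2 s] at hn_dvd
          exact (Nat.mul_dvd_mul_iff_left hs.pos).mp hn_dvd
        have hjcases : j = 1 ∨ j = 2 := (Nat.dvd_prime Nat.prime_two).mp hj2
        rcases hjcases with hj1 | hj2'
        · -- order of g is s
          have hgs : orderOf g = s := by rw [hj, hj1, mul_one]
          have hright : (h ^ s).right = 1 := by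
            have : (h ^ s).right = g ^ s := by
              rw [hg]
              exact map_pow (SemidirectProduct.rightHom : N ⋊[φ] S →* S) h _
            rw [this, ← hgs, pow_orderOf_eq_one]
          have hinl := sd_eq_inl_of_right_eq_one φ (h ^ s) hright
          set v : N := (h ^ s).left with hv
          have hv1 : v ≠ 1 := by
            intro hv1
            rw [hv1, map_one] at hinl
            have : orderOf h ∣ s := orderOf_dvd_of_pow_eq_one hinl
            rw [hord] at this
            have := Nat.le_of_dvd hs.pos this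
            have := hs.pos
            omega
          have hcomm : h * (h ^ s) * h⁻¹ = h ^ s := by
            rw [← pow_succ', pow_succ, mul_assoc, mul_inv_cancel, mul_one]
          rw [hinl, sd_conj_inl] at hcomm
          have hfix : φ g v = v := SemidirectProduct.inl_injective hcomm
          have hgg := hB g v hv1 hfix
          have : orderOf g ∣ 2 := orderOf_dvd_of_pow_eq_one (by rw [pow_two]; exact hgg)
          rw [hgs] at this
          exact hs2 ((Nat.prime_dvd_prime_iff_eq hs Nat.prime_two).mp this)
        · exact hA s hs hs2 ⟨g, by rw [hj, hj2', mul_comm]⟩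
      · push Not at h2
        refine ⟨g, ?_⟩
        apply Nat.dvd_antisymm hn_dvd
        have hcop : Nat.Coprime (p * q) 2 := by
          apply Nat.Coprime.mul_left
          · exact (Nat.coprime_primes hp Nat.prime_two).mpr h2.1
          · exact (Nat.coprime_primes hq Nat.prime_two).mpr h2.2
        exact hcop.dvd_of_dvd_mul_left hpq_dvd

end Semidirect

end Cfsg.Agent.Lib.H18
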