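import Mathlib

set_option autoImplicit false

/-!
Helper library (helper18): elementary facts about `SL(2,F)` over a field of characteristic 2.
-/

namespace Cfsg.Agent.Lib.H18

open Matrix

section
variable {F : Type*} [Field F] [CharP F 2]

local notation "SL2" => Matrix.SpecialLinearGroup (Fin 2) F

theorem sl2_det (g : SL2) : g.1 0 0 * g.1 1 1 - g.1 0 1 * g.1 1 0 = 1 := by
  have := g.2
  rwa [Matrix.det_fin_two] at this

/-- trace zero implies involution (char 2). -/
theorem sl2_sq_eq_one_of_trace (g : SL2) (htr : g.1 0 0 + g.1 1 1 = 0) : g * g = 1 := by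
  have hdet := sl2_det g
  have hd : g.1 1 1 = g.1 0 0 := by
    have h2 : g.1 1 1 = - g.1 0 0 := by linear_combination htr
    rw [h2, CharTwo.neg_eq]
  apply Matrix.SpecialLinearGroup.ext
  intro i j
  rw [Matrix.SpecialLinearGroup.coe_mul, Matrix.SpecialLinearGroup.coe_one, Matrix.mul_apply,
    Fin.sum_univ_two]
  have h2 : (2 : F) = 0 := CharTwo.two_eq_zero
  fin_cases i <;> fin_cases j <;> simp only [Fin.zero_eta, Fin.mk_one, Fin.isValue,
    Matrix.one_apply_eq, Matrix.one_apply_ne, ne_eq, zero_ne_one, one_ne_zero, not_false_eq_true]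
  · rw [hd] at hdet
    linear_combination hdet + (g.1 0 1 * g.1 1 0) * h2
  · rw [hd]
    linear_combination (g.1 0 0 * g.1 0 1) * h2
  · rw [hd]
    linear_combination (g.1 0 0 * g.1 1 0) * h2
  · rw [hd] at hdet ⊢
    linear_combination hdet + (g.1 0 1 * g.1 1 0) * h2

/-- (M1) An element of `SL(2,F)` fixing a nonzero vector is an involution (char 2). -/
theorem sl2_sq_eq_one_of_fixed (g : SL2) (v : Fin 2 → F) (hv : v ≠ 0) (hfix : g.1.mulVec v = v) :
    g * g = 1 := by
  apply sl2_sq_eq_one_of_trace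
  have hdet := sl2_det g
  have h0 : g.1 0 0 * v 0 + g.1 0 1 * v 1 = v 0 := by
    have := congrFun hfix 0
    simpa [Matrix.mulVec, dotProduct, Fin.sum_univ_two] using this
  have h1 : g.1 1 0 * v 0 + g.1 1 1 * v 1 = v 1 := by
    have := congrFun hfix 1
    simpa [Matrix.mulVec, dotProduct, Fin.sum_univ_two] using this
  have h2 : (2 : F) = 0 := CharTwo.two_eq_zero
  -- (tr) * v_i = 0 for both i
  have e0 : (g.1 0 0 + g.1 1 1) * v 0 = 0 := by
    linear_combination v 0 * hdet + v 0 * h2 - (g.1 1 1 - 1) * h0 + g.1 0 1 * h1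
  have e1 : (g.1 0 0 + g.1 1 1) * v 1 = 0 := by
    linear_combination v 1 * hdet + v 1 * h2 - (g.1 0 0 - 1) * h1 + g.1 1 0 * h0
  by_contra htr
  apply hv
  funext i
  fin_cases i
  · simpa using (mul_eq_zero.mp e0).resolve_left htr
  · simpa using (mul_eq_zero.mp e1).resolve_left htr

/-- (M2') Anything commuting with a nonidentity involution of `SL(2,F)` is an involution. -/
theorem sl2_sq_eq_one_of_commute (u t : SL2) (hu1 : u ≠ 1) (hu : u * u = 1) (hc : u * t = t * u) :
    t * t = 1 := by
  have h2 : (2 : F) = 0 := CharTwo.two_eq_zero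
  have hdu := sl2_det u
  -- entries of u * u = 1
  have huu : ∀ i j, (u.1 * u.1) i j = (1 : Matrix (Fin 2) (Fin 2) F) i j := by
    intro i j
    have := congrArg (fun m : SL2 => m.1 i j) hu
    simpa using this
  have e00 : u.1 0 0 * u.1 0 0 + u.1 0 1 * u.1 1 0 = 1 := by
    have := huu 0 0
    simpa [Matrix.mul_apply, Fin.sum_univ_two] using this
  have e01 : u.1 0 0 * u.1 0 1 + u.1 0 1 * u.1 1 1 = 0 := by
    have := huu 0 1
    simpa [Matrix.mul_apply, Fin.sum_univ_two] using this
  have e10 : u.1 1 0 * u.1 0 0 + u.1 1 1 * u.1 1 0 = 0 := by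
    have := huu 1 0
    simpa [Matrix.mul_apply, Fin.sum_univ_two] using this
  -- trace of u is zero
  have htru : u.1 0 0 + u.1 1 1 = 0 := by
    by_contra hne
    have hb : u.1 0 1 = 0 := by
      have : u.1 0 1 * (u.1 0 0 + u.1 1 1) = 0 := by linear_combination e01
      exact (mul_eq_zero.mp this).resolve_right hne
    have hcc : u.1 1 0 = 0 := by
      have : u.1 1 0 * (u.1 0 0 + u.1 1 1) = 0 := by linear_combination e10
      exact (mul_eq_zero.mp this).resolve_right hne
    rw [hb, hcc] at hdu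
    rw [hb] at e00
    have ha : u.1 0 0 = 1 := by
      have : (u.1 0 0 - 1) * (u.1 0 0 - 1) = 0 := by
        linear_combination e00 + (1 - u.1 0 0) * h2
      have := mul_self_eq_zero.mp this
      linear_combination this
    have hd : u.1 1 1 = 1 := by
      rw [ha] at hdu
      linear_combination hdu
    apply hne
    rw [ha, hd]
    linear_combination h2
  have hdd : u.1 1 1 = u.1 0 0 := by
    have h3 : u.1 1 1 = - u.1 0 0 := by linear_combination htru
    rw [h3, CharTwo.neg_eq]
  -- entries of u * t = t * u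
  have hct : ∀ i j, (u.1 * t.1) i j = (t.1 * u.1) i j := by
    intro i j
    have := congrArg (fun m : SL2 => m.1 i j) hc
    simpa using this
  have c01 : u.1 0 0 * t.1 0 1 + u.1 0 1 * t.1 1 1 = t.1 0 0 * u.1 0 1 + t.1 0 1 * u.1 1 1 := by
    have := hct 0 1
    simpa [Matrix.mul_apply, Fin.sum_univ_two] using this
  have c10 : u.1 1 0 * t.1 0 0 + u.1 1 1 * t.1 1 0 = t.1 1 0 * u.1 0 0 + t.1 1 1 * u.1 1 0 := by
    have := hct 1 0
    simpa [Matrix.mul_apply, Fin.sum_univ_two] using this
  rw [hdd] at c01 c10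
  have hb : u.1 0 1 * (t.1 0 0 + t.1 1 1) = 0 := by
    linear_combination c01 + (u.1 0 1 * t.1 0 0) * h2
  have hcz : u.1 1 0 * (t.1 0 0 + t.1 1 1) = 0 := by
    linear_combination c10 + (u.1 1 0 * t.1 1 1) * h2
  apply sl2_sq_eq_one_of_trace
  by_contra htr
  have hb0 : u.1 0 1 = 0 := (mul_eq_zero.mp hb).resolve_right htr
  have hc0 : u.1 1 0 = 0 := (mul_eq_zero.mp hcz).resolve_right htr
  rw [hb0] at e00
  have ha : u.1 0 0 = 1 := by
    have : (u.1 0 0 - 1) * (u.1 0 0 - 1) = 0 := by
      linear_combination e00 + (1 - u.1 0 0) * h2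
    have := mul_self_eq_zero.mp this
    linear_combination this
  apply hu1
  apply Matrix.SpecialLinearGroup.ext
  intro i j
  fin_cases i <;> fin_cases j <;> simp [ha, hb0, hc0, hdd]

end

end Cfsg.Agent.Lib.H18
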