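import Mathlib
import Cfsg.Agent.Lib.H18.SL2Char2
import Cfsg.Agent.Lib.H18.PrimeGraph
import Cfsg.Agent.Lib.H17.LargeIsospectral

set_option autoImplicit false

/-!
Helper library (helper18): the natural module of `SL(2,F)` in characteristic 2, the semidirect
product `F² ⋊ SL(2,F)` has the same prime graph as `SL(2,F) ≅ PSL(2,F)`.
-/

namespace Cfsg.Agent.Lib.H18

open Matrix

section
variable {F : Type*} [Field F]

local notation "SL2" => Matrix.SpecialLinearGroup (Fin 2) F
local notation "V2" => Multiplicative (Fin 2 → F)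

/-- The natural action of `SL(2,F)` on `F²`, written multiplicatively. -/
noncomputable def sl2Phi : SL2 →* MulAut V2 :=
  (MulAutMultiplicative (Fin 2 → F)).symm.toMonoidHom.comp
    ((DistribMulAction.toAddAut ((Fin 2 → F) ≃ₗ[F] (Fin 2 → F)) (Fin 2 → F)).comp
      Matrix.SpecialLinearGroup.toLin')

theorem sl2Phi_apply (g : SL2) (v : V2) :
    sl2Phi g v = Multiplicative.ofAdd (g.1.mulVec (Multiplicative.toAdd v)) := by
  rfl

variable [CharP F 2]

theorem v2_sq (n : V2) : n * n = 1 := by
  have : Multiplicative.toAdd n + Multiplicative.toAdd n = 0 := by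
    funext i
    exact CharTwo.add_self_eq_zero _
  exact congrArg Multiplicative.ofAdd this

/-- No element of order `2s`, `s` an odd prime, in `SL(2,F)`, char 2. -/
theorem sl2_no_two_mul (s : ℕ) (hs : s.Prime) (hs2 : s ≠ 2) : ¬ ∃ g : SL2, orderOf g = 2 * s := by
  rintro ⟨g, hg⟩
  have hspos : 0 < s := hs.pos
  have hu1 : g ^ s ≠ 1 := by
    intro h
    have := orderOf_dvd_of_pow_eq_one h
    rw [hg] at this
    have := Nat.le_of_dvd hspos this
    omega
  have hu : g ^ s * g ^ s = 1 := by
    rw [← pow_add, ← two_mul, ← hg, pow_orderOf_eq_one]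
  have hc : g ^ s * g ^ 2 = g ^ 2 * g ^ s := by
    rw [← pow_add, ← pow_add, add_comm]
  have ht := sl2_sq_eq_one_of_commute (g ^ s) (g ^ 2) hu1 hu hc
  rw [← pow_add] at ht
  have := orderOf_dvd_of_pow_eq_one ht
  rw [hg] at this
  have h2 : s ∣ 2 := by
    have : 2 * s ∣ 2 * 2 := this
    exact (Nat.mul_dvd_mul_iff_left (by norm_num)).mp this
  exact hs2 ((Nat.prime_dvd_prime_iff_eq hs Nat.prime_two).mp h2)

theorem sl2Phi_fixed (g : SL2) (v : V2) (hv : v ≠ 1) (h : sl2Phi g v = v) : g * g = 1 := by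
  apply sl2_sq_eq_one_of_fixed g (Multiplicative.toAdd v)
  · intro h0
    apply hv
    exact congrArg Multiplicative.ofAdd h0
  · rw [sl2Phi_apply] at h
    exact congrArg Multiplicative.toAdd h

/-- The transvection `[[1,1],[0,1]]`. -/
def sl2U : SL2 := ⟨!![1, 1; 0, 1], by simp [Matrix.det_fin_two]⟩

theorem sl2U_ne_one : (sl2U : SL2) ≠ 1 := by
  intro h
  have := congrArg (fun m : SL2 => m.1 0 1) h
  simp [sl2U] at this

theorem sl2U_sq : (sl2U : SL2) * sl2U = 1 := by
  apply sl2_sq_eq_one_of_trace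
  simp [sl2U]
  exact CharTwo.add_self_eq_zero _

theorem two_dvd_card_sl2 [Finite F] : 2 ∣ Nat.card SL2 := by
  have h : orderOf (sl2U : SL2) = 2 := by
    apply orderOf_eq_prime
    · rw [pow_two]; exact sl2U_sq
    · exact sl2U_ne_one
  have h2 := orderOf_dvd_natCard (sl2U : SL2)
  rwa [h] at h2

theorem sl2_center_eq_bot : Subgroup.center SL2 = ⊥ := by
  refine (Subgroup.eq_bot_iff_forall (Subgroup.center SL2)).mpr ?_
  intro A hA
  rw [Matrix.SpecialLinearGroup.mem_center_iff] at hA
  obtain ⟨r, hr, hA⟩ := hA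
  have hr1 : r = 1 := by
    rw [Fintype.card_fin] at hr
    have h2 : (2 : F) = 0 := CharTwo.two_eq_zero
    have : (r - 1) * (r - 1) = 0 := by
      linear_combination hr - r * h2 + h2
    have := mul_self_eq_zero.mp this
    exact sub_eq_zero.mp this
  apply Subtype.ext
  rw [← hA, hr1]
  simp

/-- `PSL(2,F) ≃* SL(2,F)` in characteristic 2. -/
noncomputable def psl2EquivSl2 : Matrix.ProjectiveSpecialLinearGroup (Fin 2) F ≃* SL2 :=
  (QuotientGroup.quotientMulEquivOfEq sl2_center_eq_bot).trans QuotientGroup.quotientBot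

theorem samePG_psl2_semidirect [Finite F] :
    SamePG (Matrix.ProjectiveSpecialLinearGroup (Fin 2) F) (V2 ⋊[sl2Phi] SL2) := by
  have : Fintype F := Fintype.ofFinite F
  classical
  have : Finite SL2 := inferInstance
  have : Finite V2 := inferInstance
  exact (samePG_of_mulEquiv psl2EquivSl2).trans
    (samePG_semidirect (N := V2) (S := SL2) sl2Phi v2_sq sl2_no_two_mul sl2Phi_fixed
      two_dvd_card_sl2)

/-- Arbitrarily large finite groups with the prime graph of `PSL(2,F)`, char 2. -/
theorem exists_large_samePG_psl2 [Finite F] (N : ℕ) :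
    ∃ (H : Type) (_ : Group H) (_ : Finite H), N < Nat.card H ∧
      SamePG (Matrix.ProjectiveSpecialLinearGroup (Fin 2) F) H := by
  have : Fintype F := Fintype.ofFinite F
  classical
  have : Finite SL2 := inferInstance
  have : Finite V2 := inferInstance
  have hfin : Finite (V2 ⋊[sl2Phi] SL2) :=
    Finite.of_equiv _ (SemidirectProduct.equivProd (N := V2) (G := SL2) (φ := sl2Phi)).symm
  let V : Subgroup (V2 ⋊[sl2Phi] SL2) := (SemidirectProduct.inl : V2 →* V2 ⋊[sl2Phi] SL2).range
  have hVn : V.Normal := by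
    show ((SemidirectProduct.inl : V2 →* V2 ⋊[sl2Phi] SL2).range).Normal
    rw [SemidirectProduct.range_inl_eq_ker_rightHom]
    infer_instance
  have hVne : V ≠ ⊥ := by
    intro hbot
    have hmem : (SemidirectProduct.inl (Multiplicative.ofAdd (fun _ => (1 : F)) : V2) :
        V2 ⋊[sl2Phi] SL2) ∈ V := ⟨_, rfl⟩
    rw [hbot, Subgroup.mem_bot] at hmem
    have h1 : (Multiplicative.ofAdd (fun _ => (1 : F)) : V2) = 1 := by
      apply SemidirectProduct.inl_injective (φ := sl2Phi)
      rw [hmem, map_one]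
    have := congrFun (congrArg Multiplicative.toAdd h1) 0
    simp at this
  have hcomm : ∀ x y : V, x * y = y * x := by
    rintro ⟨x, ⟨a, rfl⟩⟩ ⟨y, ⟨b, rfl⟩⟩
    apply Subtype.ext
    show SemidirectProduct.inl a * SemidirectProduct.inl b =
      SemidirectProduct.inl b * SemidirectProduct.inl a
    rw [← map_mul, ← map_mul, mul_comm]
  have hexp : ∀ x : V, x ^ 2 = 1 := by
    rintro ⟨x, ⟨a, rfl⟩⟩
    apply Subtype.ext
    show (SemidirectProduct.inl a : V2 ⋊[sl2Phi] SL2) ^ 2 = 1
    rw [← map_pow, pow_two, v2_sq, map_one]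
  obtain ⟨H, instG, instF, hcard, hspec⟩ :=
    Cfsg.Agent.Lib.H17.exists_large_isospectral_of_elemAb V hVne 2 Nat.prime_two hcomm hexp N
  refine ⟨H, instG, inferInstance, ?_, ?_⟩
  · rw [Nat.card_eq_fintype_card]; exact hcard
  · exact samePG_psl2_semidirect.trans (samePG_of_spectrum_eq hspec.symm)

end

end Cfsg.Agent.Lib.H18
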