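import Mathlib
import Cfsg.Agent.Lib.H16.RTWDefs
import Cfsg.Agent.Lib.H21.RTWAux

/-!
# S3175 piece ODD3 (helper18, twin): an automorphism of odd order of `T` which is trivial on `Z₃`, on `T/W` and on
`Z₄/Z₃` is trivial on `W/Z₃`.

Route: `C := {w ∈ W | α w ≡ w mod Z₃}` is a normal subgroup of `T`; if `C < W` some `u ∈ W ∖ C` is central modulo `C`
(`H21.RTW.exists_central_mod`); then `b := α u · u⁻¹` is central modulo `Z₃`, i.e. `b ∈ Z₄`, so `α b ≡ b`, so
`α^j u ≡ b^j u`, so `b^m ≡ 1`, `b² ≡ 1`, `m` odd: `b ≡ 1`, i.e. `u ∈ C`.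
-/

set_option autoImplicit false

namespace Cfsg.Agent.Lib.H18.RTN

open scoped commutatorElement
open Cfsg.Agent.Lib.H16.RTW

/-- **ODD3** (the `A × B`-lemma step): `α` is trivial on `W/Z₃`. -/
theorem mul_inv_mem_ucs3 {T : Type*} [Group T] [Finite T] (c : Ctx T) (α : MulAut T) (m : ℕ) (hm : Odd m)
    (hα : α ^ m = 1)
    (h3 : ∀ z ∈ Subgroup.upperCentralSeries T 3, α z = z)
    (hTW : ∀ t : T, α t * t⁻¹ ∈ c.W)
    (h4 : ∀ y ∈ Subgroup.upperCentralSeries T 4, α y * y⁻¹ ∈ Subgroup.upperCentralSeries T 3) :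
    ∀ w ∈ c.W, α w * w⁻¹ ∈ Subgroup.upperCentralSeries T 3 := by
  haveI hWn := c.hWn
  haveI : Fact (Nat.Prime 2) := ⟨Nat.prime_two⟩
  haveI hnil : Group.IsNilpotent T := c.hT.isNilpotent
  set Z : Subgroup T := Subgroup.upperCentralSeries T 3 with hZ
  set P : T →* T ⧸ Z := QuotientGroup.mk' Z with hP
  have hP1 : ∀ x : T, P x = 1 ↔ x ∈ Z := fun x => QuotientGroup.eq_one_iff x
  set A : T →* T ⧸ Z := P.comp α.toMonoidHom with hA
  have hA_apply : ∀ x, A x = P (α x) := fun x => rfl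
  have hker : Z ≤ A.ker := by
    intro z hz
    rw [MonoidHom.mem_ker, hA_apply, h3 z hz]
    exact (hP1 z).mpr hz
  set αb : T ⧸ Z →* T ⧸ Z := QuotientGroup.lift Z A hker with hαb
  have hαb_mk : ∀ x : T, αb (P x) = P (α x) := fun x => rfl
  -- the image of `W` is abelian
  have hWab : ∀ u ∈ c.W, ∀ v ∈ c.W, P u * P v = P v * P u := by
    intro u hu v hv
    have h := (hP1 _).mpr (c.hcomm u hu v hv)
    rw [commutatorElement_def, map_mul, map_mul, map_mul, map_inv, map_inv] at h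
    calc P u * P v = (P u * P v * (P u)⁻¹ * (P v)⁻¹) * (P v * P u) := by group
      _ = P v * P u := by rw [h, one_mul]
  -- `α t` and `t` act in the same way on the image of `W`
  have hconjA : ∀ (t : T) (a : T), a ∈ c.W → A t * P a * (A t)⁻¹ = P t * P a * (P t)⁻¹ := by
    intro t a ha
    have hs : α t * t⁻¹ ∈ c.W := hTW t
    have hc : t * a * t⁻¹ ∈ c.W := hWn.conj_mem a ha t
    have hAt : A t = P (α t * t⁻¹) * P t := by
      rw [hA_apply, ← map_mul]
      congr 1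
      group
    have hcomm : P (α t * t⁻¹) * P (t * a * t⁻¹) = P (t * a * t⁻¹) * P (α t * t⁻¹) := hWab _ hs _ hc
    have hca : P (t * a * t⁻¹) = P t * P a * (P t)⁻¹ := by rw [map_mul, map_mul, map_inv]
    rw [hca] at hcomm
    rw [hAt]
    calc P (α t * t⁻¹) * P t * P a * (P (α t * t⁻¹) * P t)⁻¹
        = (P (α t * t⁻¹) * (P t * P a * (P t)⁻¹)) * (P (α t * t⁻¹))⁻¹ := by group
      _ = ((P t * P a * (P t)⁻¹) * P (α t * t⁻¹)) * (P (α t * t⁻¹))⁻¹ := by rw [hcomm]
      _ = P t * P a * (P t)⁻¹ := by group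
  -- the subgroup `C`
  set C : Subgroup T := c.W ⊓ A.eqLocus P with hC
  have hCmem : ∀ x : T, x ∈ C ↔ x ∈ c.W ∧ A x = P x := fun x => Iff.rfl
  haveI hCn : C.Normal := by
    refine ⟨fun w hw t => ?_⟩
    obtain ⟨hwW, hwA⟩ := (hCmem w).mp hw
    refine (hCmem _).mpr ⟨hWn.conj_mem w hwW t, ?_⟩
    rw [map_mul, map_mul, map_inv, hwA, hconjA t w hwW, map_mul, map_mul, map_inv]
  have hCW : C ≤ c.W := inf_le_left
  by_contra hcon
  push Not at hcon
  obtain ⟨w, hwW, hw⟩ := hcon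
  have hne : ¬ c.W ≤ C := by
    intro h
    apply hw
    have hwA := ((hCmem w).mp (h hwW)).2
    rw [← hP1, map_mul, map_inv, ← hA_apply, hwA, mul_inv_cancel]
  obtain ⟨u, huW, huC, hucen⟩ := Cfsg.Agent.Lib.H21.RTW.exists_central_mod c.W C hCW hne
  -- `b := α u * u⁻¹`
  set b : T := α u * u⁻¹ with hb
  have hbW : b ∈ c.W := hTW u
  have hαu : α u = b * u := by rw [hb]; group
  have hαuW : α u ∈ c.W := by rw [hαu]; exact mul_mem hbW huW
  have hPb : P b = A u * (P u)⁻¹ := by rw [hb, map_mul, map_inv, hA_apply]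
  have hPb' : P b = (P u)⁻¹ * A u := by
    rw [hPb, hA_apply]
    have := hWab _ hαuW _ (inv_mem huW)
    rw [map_inv] at this
    exact this
  -- `b ∈ Z₄`
  have hb4 : b ∈ Subgroup.upperCentralSeries T 4 := by
    rw [show (4 : ℕ) = 3 + 1 from rfl, Subgroup.mem_upperCentralSeries_succ_iff]
    intro t
    rw [← hZ, ← hP1, commutatorElement_def, map_mul, map_mul, map_mul, map_inv, map_inv]
    have h1 := ((hCmem _).mp (hucen t)).2
    rw [commutatorElement_def, map_mul, map_mul, map_mul, map_inv, map_inv,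
      map_mul, map_mul, map_mul, map_inv, map_inv] at h1
    -- `A u * A t * (A u)⁻¹ * (A t)⁻¹ = P u * P t * (P u)⁻¹ * (P t)⁻¹`
    have h2 := hconjA t (α u)⁻¹ (inv_mem hαuW)
    rw [map_inv, ← hA_apply] at h2
    -- `A t * (A u)⁻¹ * (A t)⁻¹ = P t * (A u)⁻¹ * (P t)⁻¹`
    have h3' : A u * P t * (A u)⁻¹ = P u * P t * (P u)⁻¹ := by
      calc A u * P t * (A u)⁻¹ = A u * (P t * (A u)⁻¹ * (P t)⁻¹) * P t := by group
        _ = A u * (A t * (A u)⁻¹ * (A t)⁻¹) * P t := by rw [h2]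
        _ = (A u * A t * (A u)⁻¹ * (A t)⁻¹) * P t := by group
        _ = (P u * P t * (P u)⁻¹ * (P t)⁻¹) * P t := by rw [h1]
        _ = P u * P t * (P u)⁻¹ := by group
    rw [hPb']
    calc (P u)⁻¹ * A u * P t * ((P u)⁻¹ * A u)⁻¹ * (P t)⁻¹
        = (P u)⁻¹ * (A u * P t * (A u)⁻¹) * P u * (P t)⁻¹ := by group
      _ = (P u)⁻¹ * (P u * P t * (P u)⁻¹) * P u * (P t)⁻¹ := by rw [h3']
      _ = 1 := by group
  -- `ᾱ` fixes the class of `b`
  have hαb_b : αb (P b) = P b := by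
    have h := (hP1 _).mpr (h4 b hb4)
    rw [map_mul, map_inv, mul_inv_eq_one] at h
    rw [hαb_mk, h]
  have hαb_u : αb (P u) = P b * P u := by rw [hαb_mk, hαu, map_mul]
  have hiter1 : ∀ j : ℕ, (αb^[j]) (P u) = (P b) ^ j * P u := by
    intro j
    induction j with
    | zero => simp
    | succ j ih =>
      rw [Function.iterate_succ_apply', ih, map_mul, map_pow, hαb_b, hαb_u, ← mul_assoc, ← pow_succ]
  have hiter2 : ∀ (j : ℕ) (x : T), (αb^[j]) (P x) = P ((α ^ j) x) := by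
    intro j
    induction j with
    | zero => intro x; simp
    | succ j ih =>
      intro x
      rw [Function.iterate_succ_apply', ih, hαb_mk, pow_succ', MulAut.mul_apply]
  have hbm : (P b) ^ m = 1 := by
    have h1 := hiter1 m
    rw [hiter2 m u, hα, MulAut.one_apply] at h1
    exact (mul_eq_right).mp h1.symm
  have hb2 : (P b) ^ 2 = 1 := by
    rw [← map_pow, hP1]
    exact c.hsq b hbW
  have hPb1 : P b = 1 := by
    obtain ⟨k, rfl⟩ := hm
    rw [pow_succ, pow_mul, hb2, one_pow, one_mul] at hbm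
    exact hbm
  apply huC
  refine (hCmem u).mpr ⟨huW, ?_⟩
  rw [hA_apply, hαu, map_mul, hPb1, one_mul]

end Cfsg.Agent.Lib.H18.RTN
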