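import Cfsg.Agent.Lib.H18.UP2B6

/-!
# UP2-B4 (helper18): `SU_n(q)` is contained in no tensor-product subgroup (both factors of dimension `≥ 2`)

A Kronecker product `A ⊗ B` (both factors of size `≥ 2`) is never of the form `x ↦ x + φ x • w` with `φ ≠ 0`, `w ≠ 0`.
-/

set_option autoImplicit false
set_option linter.unusedSectionVars false

namespace Cfsg.Agent.Lib.H18.UP2

open Cfsg Cfsg.Geo Cfsg.Agent.Lib.H15.SUGen Cfsg.Agent.Lib.H15.UP2
open scoped MatrixGroups Matrix Kronecker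

section generic

variable {F : Type*} [Field F]

/-- a matrix all of whose vectors are eigenvectors is scalar -/
theorem scalar_of_forall_eigen {m : ℕ} (A : Matrix (Fin m) (Fin m) F)
    (h : ∀ u : Fin m → F, ∃ l : F, A *ᵥ u = l • u) :
    ∃ c : F, A = c • (1 : Matrix (Fin m) (Fin m) F) := by
  obtain ⟨a, ha⟩ := LinearMap.exists_eq_smul_id_of_forall_notLinearIndependent
    (f := Matrix.toLin' A) (by
      intro v hli
      obtain ⟨l, hl⟩ := h v
      rw [LinearIndependent.pair_iff] at hli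
      have := hli l (-1) (by rw [Matrix.toLin'_apply, hl]; simp)
      exact one_ne_zero (neg_eq_zero.1 this.2))
  refine ⟨a, ?_⟩
  apply Matrix.toLin'.injective
  rw [ha, map_smul, Matrix.toLin'_one]
  rfl

/-- the pure tensor `u ⊗ z` as a vector indexed by pairs -/
def pureV {n₁ n₂ : ℕ} (u : Fin n₁ → F) (z : Fin n₂ → F) : Fin n₁ × Fin n₂ → F :=
  fun p => u p.1 * z p.2

theorem pureV_apply {n₁ n₂ : ℕ} (u : Fin n₁ → F) (z : Fin n₂ → F) (i : Fin n₁) (j : Fin n₂) :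
    pureV u z (i, j) = u i * z j := rfl

theorem kron_mulVec_pureV {n₁ n₂ : ℕ} (A : Matrix (Fin n₁) (Fin n₁) F) (B : Matrix (Fin n₂) (Fin n₂) F)
    (u : Fin n₁ → F) (z : Fin n₂ → F) :
    (A ⊗ₖ B) *ᵥ pureV u z = pureV (A *ᵥ u) (B *ᵥ z) := by
  funext ⟨i, j⟩
  simp only [Matrix.mulVec, dotProduct, pureV, Fintype.sum_prod_type, Matrix.kroneckerMap_apply,
    Finset.sum_mul_sum]
  refine Finset.sum_congr rfl fun k _ => Finset.sum_congr rfl fun l _ => ?_
  ring

/-- `z ↦ u ⊗ z` -/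
def pureR {n₁ n₂ : ℕ} (u : Fin n₁ → F) : (Fin n₂ → F) →ₗ[F] (Fin n₁ × Fin n₂ → F) where
  toFun z := pureV u z
  map_add' z z' := by
    funext p
    simp only [pureV, Pi.add_apply]
    ring
  map_smul' c z := by
    funext p
    simp only [pureV, Pi.smul_apply, smul_eq_mul, RingHom.id_apply]
    ring

/-- `u ↦ u ⊗ z` -/
def pureL {n₁ n₂ : ℕ} (z : Fin n₂ → F) : (Fin n₁ → F) →ₗ[F] (Fin n₁ × Fin n₂ → F) where
  toFun u := pureV u z
  map_add' u u' := by
    funext p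
    simp only [pureV, Pi.add_apply]
    ring
  map_smul' c u := by
    funext p
    simp only [pureV, Pi.smul_apply, smul_eq_mul, RingHom.id_apply]
    ring

theorem finrank_ker_add_one' {m : ℕ} (φ : (Fin m → F) →ₗ[F] F) :
    m ≤ Module.finrank F (LinearMap.ker φ) + 1 := by
  have h1 := LinearMap.finrank_range_add_finrank_ker φ
  have h2 : Module.finrank F (LinearMap.range φ) ≤ 1 := by
    have := Submodule.finrank_le (LinearMap.range φ)
    rwa [Module.finrank_self] at this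
  rw [Module.finrank_fin_fun] at h1
  omega

theorem exists_ne_zero_of_functional {m : ℕ} (hm : 2 ≤ m) (ψ : (Fin m → F) →ₗ[F] F) :
    ∃ z : Fin m → F, z ≠ 0 ∧ ψ z = 0 := by
  have h1 := finrank_ker_add_one' ψ
  have hne : LinearMap.ker ψ ≠ ⊥ := by
    intro hbot
    rw [hbot, finrank_bot] at h1
    omega
  obtain ⟨z, hz, hz0⟩ := Submodule.exists_mem_ne_zero_of_ne_bot hne
  exact ⟨z, hz0, LinearMap.mem_ker.1 hz⟩

theorem exists_apply_ne_zero {ι : Type*} {u : ι → F} (hu : u ≠ 0) : ∃ i, u i ≠ 0 := by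
  by_contra h
  push Not at h
  exact hu (funext h)

/-- a Kronecker product with both factors of size `≥ 2` is not a transvection-like map -/
theorem kron_transvection {n₁ n₂ : ℕ} (h1 : 2 ≤ n₁) (h2 : 2 ≤ n₂)
    (A : Matrix (Fin n₁) (Fin n₁) F) (B : Matrix (Fin n₂) (Fin n₂) F)
    (φ : (Fin n₁ × Fin n₂ → F) →ₗ[F] F) (w : Fin n₁ × Fin n₂ → F)
    (h : ∀ x, (A ⊗ₖ B) *ᵥ x = x + φ x • w) : φ = 0 ∨ w = 0 := by
  have hA : ∀ u : Fin n₁ → F, ∃ l : F, A *ᵥ u = l • u := by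
    intro u
    by_cases hu : u = 0
    · exact ⟨0, by rw [hu, Matrix.mulVec_zero, smul_zero]⟩
    obtain ⟨z, hz0, hz⟩ := exists_ne_zero_of_functional h2 (φ.comp (pureR u))
    have hz' : φ (pureV u z) = 0 := hz
    have h3 := h (pureV u z)
    rw [hz', zero_smul, add_zero, kron_mulVec_pureV] at h3
    obtain ⟨i₀, hi₀⟩ := exists_apply_ne_zero hu
    obtain ⟨j₀, hj₀⟩ := exists_apply_ne_zero hz0
    have h4 : ∀ i, (A *ᵥ u) i * (B *ᵥ z) j₀ = u i * z j₀ := fun i => congrFun h3 (i, j₀)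
    have h5 : (B *ᵥ z) j₀ ≠ 0 := by
      intro h0
      have := h4 i₀
      rw [h0, mul_zero] at this
      exact mul_ne_zero hi₀ hj₀ this.symm
    refine ⟨z j₀ / (B *ᵥ z) j₀, ?_⟩
    funext i
    rw [Pi.smul_apply, smul_eq_mul]
    have := h4 i
    rw [div_mul_eq_mul_div, eq_div_iff h5, this, mul_comm]
  have hB : ∀ z : Fin n₂ → F, ∃ l : F, B *ᵥ z = l • z := by
    intro z
    by_cases hz : z = 0
    · exact ⟨0, by rw [hz, Matrix.mulVec_zero, smul_zero]⟩
    obtain ⟨u, hu0, hu⟩ := exists_ne_zero_of_functional h1 (φ.comp (pureL z))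
    have hu' : φ (pureV u z) = 0 := hu
    have h3 := h (pureV u z)
    rw [hu', zero_smul, add_zero, kron_mulVec_pureV] at h3
    obtain ⟨i₀, hi₀⟩ := exists_apply_ne_zero hu0
    obtain ⟨j₀, hj₀⟩ := exists_apply_ne_zero hz
    have h4 : ∀ j, (A *ᵥ u) i₀ * (B *ᵥ z) j = u i₀ * z j := fun j => congrFun h3 (i₀, j)
    have h5 : (A *ᵥ u) i₀ ≠ 0 := by
      intro h0
      have := h4 j₀
      rw [h0, zero_mul] at this
      exact mul_ne_zero hi₀ hj₀ this.symm
    refine ⟨u i₀ / (A *ᵥ u) i₀, ?_⟩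
    funext j
    rw [Pi.smul_apply, smul_eq_mul]
    have := h4 j
    rw [div_mul_eq_mul_div, eq_div_iff h5, mul_comm, this]
  obtain ⟨α, hα⟩ := scalar_of_forall_eigen A hA
  obtain ⟨β, hβ⟩ := scalar_of_forall_eigen B hB
  have hAB : A ⊗ₖ B = (α * β) • (1 : Matrix (Fin n₁ × Fin n₂) (Fin n₁ × Fin n₂) F) := by
    rw [hα, hβ, Matrix.smul_kronecker, Matrix.kronecker_smul, Matrix.one_kronecker_one, smul_smul]
  have h6 : ∀ x, (α * β) • x = x + φ x • w := by
    intro x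
    rw [← h x, hAB, Matrix.smul_mulVec, Matrix.one_mulVec]
  -- a non-zero vector killed by `φ`
  obtain ⟨u₀, hu₀⟩ : ∃ u₀ : Fin n₁ → F, u₀ ≠ 0 := by
    refine ⟨Pi.single ⟨0, by omega⟩ 1, ?_⟩
    intro h0
    have := congrFun h0 ⟨0, by omega⟩
    simp at this
  obtain ⟨z, hz0, hz⟩ := exists_ne_zero_of_functional h2 (φ.comp (pureR u₀))
  have hz' : φ (pureV u₀ z) = 0 := hz
  obtain ⟨i₀, hi₀⟩ := exists_apply_ne_zero hu₀
  obtain ⟨j₀, hj₀⟩ := exists_apply_ne_zero hz0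
  have h7 := congrFun (h6 (pureV u₀ z)) (i₀, j₀)
  rw [hz', zero_smul, add_zero, Pi.smul_apply, smul_eq_mul, pureV_apply] at h7
  have h8 : α * β = 1 := by
    have hne : u₀ i₀ * z j₀ ≠ 0 := mul_ne_zero hi₀ hj₀
    exact mul_right_cancel₀ hne (by rw [h7, one_mul])
  by_cases hw : w = 0
  · exact Or.inr hw
  · left
    obtain ⟨p, hp⟩ := exists_apply_ne_zero hw
    apply LinearMap.ext
    intro x
    have h9 := congrFun (h6 x) p
    rw [h8, one_smul, Pi.add_apply, Pi.smul_apply, smul_eq_mul] at h9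
    have h10 : φ x * w p = 0 := by
      have := h9
      linear_combination -this
    rcases mul_eq_zero.1 h10 with h11 | h11
    · rw [h11]; rfl
    · exact absurd h11 hp

end generic

section main

variable {F : Type*} [Field F] [Fintype F] {n q : ℕ}

theorem glReindex_symm_mulVec_comp' {κ : Type} [Fintype κ] [DecidableEq κ] (e : Fin n ≃ κ) (K : GL κ F)
    (X : κ → F) :
    ((glReindex e.symm K : GL (Fin n) F) : Matrix (Fin n) (Fin n) F) *ᵥ (X ∘ e) =
      ((K : Matrix κ κ F) *ᵥ X) ∘ e := by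
  funext i
  have h : ∀ a b, ((glReindex e.symm K : GL (Fin n) F) : Matrix (Fin n) (Fin n) F) a b =
      (K : Matrix κ κ F) (e a) (e b) := fun a b => rfl
  simp only [Matrix.mulVec, dotProduct, Function.comp_apply, h]
  exact Equiv.sum_comp e (fun b => (K : Matrix κ κ F) (e i) b * X b)

/-- **UP2-B4** -/
theorem not_su_le_tensorProductSubgroup (hF : Fintype.card F = q ^ 2) (n₁ n₂ : ℕ)
    (e : Fin n ≃ Fin n₁ × Fin n₂) (P : GL (Fin n) F) (h1 : 2 ≤ n₁) (h2 : 2 ≤ n₂) :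
    ¬ GU n F q ⊓ specialLinear (Fin n) F ≤ tensorProductSubgroup n₁ n₂ e P := by
  classical
  intro h
  have hn : 2 ≤ n := by
    have h3 := Fintype.card_congr e
    rw [Fintype.card_fin, Fintype.card_prod, Fintype.card_fin, Fintype.card_fin] at h3
    nlinarith
  obtain ⟨a, ha0, ha⟩ := exists_tr0 hF
  obtain ⟨v, hv, hv0⟩ := exists_isotropic_ne_zero hF hn
  obtain ⟨k', ⟨k, ⟨A, B, hk⟩, rfl⟩, hk'⟩ := h (utv_mem hF a v)
  have hτ : P * glReindex e.symm k * P⁻¹ = utv hF a v := hk'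
  obtain ⟨φ, hφ⟩ : ∃ φ : (Fin n₁ × Fin n₂ → F) →ₗ[F] F,
      φ = a • (phiM q (P : Matrix (Fin n) (Fin n) F) v).comp (LinearMap.funLeft F F e) := ⟨_, rfl⟩
  have hφa : ∀ y, φ y = a * hermForm n F q ((P : Matrix (Fin n) (Fin n) F) *ᵥ (y ∘ e)) v := by
    intro y
    rw [hφ]
    rfl
  obtain ⟨w, hw⟩ : ∃ w : Fin n₁ × Fin n₂ → F,
      w = (((P⁻¹ : GL (Fin n) F) : Matrix (Fin n) (Fin n) F) *ᵥ v) ∘ e.symm := ⟨_, rfl⟩
  have hmain : ∀ y, ((A : Matrix (Fin n₁) (Fin n₁) F) ⊗ₖ (B : Matrix (Fin n₂) (Fin n₂) F)) *ᵥ y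
      = y + φ y • w := by
    intro y
    rw [← hk]
    have h3 : ((P * glReindex e.symm k : GL (Fin n) F) : Matrix (Fin n) (Fin n) F) *ᵥ (y ∘ e) =
        ((utv hF a v * P : GL (Fin n) F) : Matrix (Fin n) (Fin n) F) *ᵥ (y ∘ e) := by
      have h4 : P * glReindex e.symm k = utv hF a v * P := by
        rw [← hτ]; group
      rw [h4]
    rw [Units.val_mul, Units.val_mul, ← Matrix.mulVec_mulVec, ← Matrix.mulVec_mulVec,
      glReindex_symm_mulVec_comp', utv_mulVec hF ha hv] at h3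
    have h5 := congrArg (fun x => ((P⁻¹ : GL (Fin n) F) : Matrix (Fin n) (Fin n) F) *ᵥ x) h3
    simp only [gl_inv_mul_mulVec, Matrix.mulVec_add, Matrix.mulVec_smul] at h5
    funext p
    have h6 := congrFun h5 (e.symm p)
    simp only [Function.comp_apply, Equiv.apply_symm_apply, Pi.add_apply, Pi.smul_apply,
      smul_eq_mul] at h6
    rw [h6, Pi.add_apply, Pi.smul_apply, smul_eq_mul, hφa, hw]
    rfl
  rcases kron_transvection h1 h2 _ _ φ w hmain with h0 | h0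
  · obtain ⟨y₀, hy₀⟩ := herm_nondeg hF hv0
    have h3 := hφa ((((P⁻¹ : GL (Fin n) F) : Matrix (Fin n) (Fin n) F) *ᵥ y₀) ∘ e.symm)
    have h4 : ((((P⁻¹ : GL (Fin n) F) : Matrix (Fin n) (Fin n) F) *ᵥ y₀) ∘ e.symm) ∘ e =
        ((P⁻¹ : GL (Fin n) F) : Matrix (Fin n) (Fin n) F) *ᵥ y₀ := by
      funext i
      simp
    rw [h4, gl_mul_inv_mulVec, h0, LinearMap.zero_apply] at h3
    exact mul_ne_zero ha0 hy₀ h3.symm
  · apply hv0
    have h3 : ((P⁻¹ : GL (Fin n) F) : Matrix (Fin n) (Fin n) F) *ᵥ v = 0 := by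
      funext i
      have := congrFun h0 (e i)
      rw [hw] at this
      simpa using this
    have h4 := gl_mul_inv_mulVec P v
    rw [h3, Matrix.mulVec_zero] at h4
    exact h4.symm

end main

end Cfsg.Agent.Lib.H18.UP2
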