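import Cfsg.Agent.Lib.H15.UP2Base

/-!
# UP2-B6 (helper18): `SU_n(q)` is not contained in the normaliser of an absolutely irreducible group with
scalar commutators (`n ≥ 5`)
-/

set_option autoImplicit false
set_option linter.unusedSectionVars false

namespace Cfsg.Agent.Lib.H18.UP2

open Cfsg Cfsg.Geo Cfsg.Agent.Lib.H15.SUGen Cfsg.Agent.Lib.H15.UP2
open scoped MatrixGroups Matrix

variable {F : Type*} [Field F] [Fintype F] {n q : ℕ}

/-- the functional `u ↦ f (M u) v` -/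
def phiM (q : ℕ) (M : Matrix (Fin n) (Fin n) F) (v : Fin n → F) : (Fin n → F) →ₗ[F] F where
  toFun u := hermForm n F q (M *ᵥ u) v
  map_add' u u' := by
    rw [Matrix.mulVec_add]
    exact hf_add_left _ _ _
  map_smul' c u := by
    rw [Matrix.mulVec_smul]
    exact hf_smul_left c _ _

theorem phiM_apply (M : Matrix (Fin n) (Fin n) F) (v u : Fin n → F) :
    phiM q M v u = hermForm n F q (M *ᵥ u) v := rfl

theorem finrank_ker_add_one (φ : (Fin n → F) →ₗ[F] F) :
    n ≤ Module.finrank F (LinearMap.ker φ) + 1 := by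
  have h1 := LinearMap.finrank_range_add_finrank_ker φ
  have h2 : Module.finrank F (LinearMap.range φ) ≤ 1 := by
    have := Submodule.finrank_le (LinearMap.range φ)
    rwa [Module.finrank_self] at this
  rw [Module.finrank_fin_fun] at h1
  omega

theorem finrank_ker_inf_ker (φ₁ φ₂ : (Fin n → F) →ₗ[F] F) :
    n ≤ Module.finrank F ↥(LinearMap.ker φ₁ ⊓ LinearMap.ker φ₂) + 2 := by
  have h1 := finrank_ker_add_one φ₁
  have h2 := finrank_ker_add_one φ₂
  have h3 := Submodule.finrank_sup_add_finrank_inf_eq (LinearMap.ker φ₁) (LinearMap.ker φ₂)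
  have h4 := Submodule.finrank_le (LinearMap.ker φ₁ ⊔ LinearMap.ker φ₂)
  rw [Module.finrank_fin_fun] at h4
  omega

theorem finrank_add_le_of_inf_eq_bot (A B : Submodule F (Fin n → F)) (h : A ⊓ B = ⊥) :
    Module.finrank F A + Module.finrank F B ≤ n := by
  have h3 := Submodule.finrank_sup_add_finrank_inf_eq A B
  have h4 := Submodule.finrank_le (A ⊔ B)
  rw [Module.finrank_fin_fun] at h4
  rw [h, finrank_bot] at h3
  omega

theorem gl_mul_inv_mulVec (x : GL (Fin n) F) (u : Fin n → F) :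
    (x : Matrix (Fin n) (Fin n) F) *ᵥ (((x⁻¹ : GL (Fin n) F) : Matrix (Fin n) (Fin n) F) *ᵥ u) = u := by
  rw [Matrix.mulVec_mulVec]
  have : (x : Matrix (Fin n) (Fin n) F) * ((x⁻¹ : GL (Fin n) F) : Matrix (Fin n) (Fin n) F) = 1 :=
    Units.mul_inv x
  rw [this, Matrix.one_mulVec]

theorem gl_inv_mul_mulVec (x : GL (Fin n) F) (u : Fin n → F) :
    ((x⁻¹ : GL (Fin n) F) : Matrix (Fin n) (Fin n) F) *ᵥ ((x : Matrix (Fin n) (Fin n) F) *ᵥ u) = u := by
  rw [Matrix.mulVec_mulVec]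
  have : ((x⁻¹ : GL (Fin n) F) : Matrix (Fin n) (Fin n) F) * (x : Matrix (Fin n) (Fin n) F) = 1 :=
    Units.inv_mul x
  rw [this, Matrix.one_mulVec]

theorem utv_fix (hF : Fintype.card F = q ^ 2) {a : F} {v : Fin n → F} (ha : a + a ^ q = 0)
    (hv : hermForm n F q v v = 0) (u : Fin n → F) (hu : hermForm n F q u v = 0) :
    ((utv hF a v : GL (Fin n) F) : Matrix (Fin n) (Fin n) F) *ᵥ u = u := by
  rw [utv_mulVec hF ha hv, hu, mul_zero, zero_smul, add_zero]

theorem utv_inv_fix (hF : Fintype.card F = q ^ 2) {a : F} {v : Fin n → F} (ha : a + a ^ q = 0)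
    (hv : hermForm n F q v v = 0) (u : Fin n → F) (hu : hermForm n F q u v = 0) :
    (((utv hF a v)⁻¹ : GL (Fin n) F) : Matrix (Fin n) (Fin n) F) *ᵥ u = u := by
  have h1 := utv_fix hF ha hv u hu
  have h2 := gl_inv_mul_mulVec (utv hF a v) u
  rw [h1] at h2
  exact h2

/-- the commutator `τ x τ⁻¹ x⁻¹` fixes the vectors `u` with `f u v = 0 = f (x⁻¹ u) v` -/
theorem comm_fix (hF : Fintype.card F = q ^ 2) {a : F} {v : Fin n → F} (ha : a + a ^ q = 0)
    (hv : hermForm n F q v v = 0) (x : GL (Fin n) F) (u : Fin n → F)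
    (h1 : hermForm n F q u v = 0)
    (h2 : hermForm n F q (((x⁻¹ : GL (Fin n) F) : Matrix (Fin n) (Fin n) F) *ᵥ u) v = 0) :
    ((utv hF a v * x * (utv hF a v)⁻¹ * x⁻¹ : GL (Fin n) F) : Matrix (Fin n) (Fin n) F) *ᵥ u = u := by
  simp only [Units.val_mul]
  rw [← Matrix.mulVec_mulVec, ← Matrix.mulVec_mulVec, ← Matrix.mulVec_mulVec,
    utv_inv_fix hF ha hv _ h2, gl_mul_inv_mulVec, utv_fix hF ha hv _ h1]

/-- every unitary transvection commutes with every element of `R` -/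
theorem comm_eq_one (hF : Fintype.card F = q ^ 2) (hn : 5 ≤ n)
    (R : Subgroup (GL (Fin n) F)) (habs : ActsAbsolutelyIrreducibly (matrixSet R))
    (hcl2 : ∀ x ∈ R, ∀ y ∈ R, x * y * x⁻¹ * y⁻¹ ∈ scalars (Fin n) F)
    (h : GU n F q ⊓ specialLinear (Fin n) F ≤ subgroupNormalizer R)
    {a : F} {v : Fin n → F} (ha : a + a ^ q = 0) (hv : hermForm n F q v v = 0)
    (x : GL (Fin n) F) (hx : x ∈ R) :
    utv hF a v * x * (utv hF a v)⁻¹ * x⁻¹ = 1 := by
  classical
  obtain ⟨τ, hτ⟩ : ∃ τ : GL (Fin n) F, τ = utv hF a v := ⟨_, rfl⟩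
  rw [← hτ]
  have hτN : τ ∈ Subgroup.normalizer (R : Set (GL (Fin n) F)) := hτ ▸ h (utv_mem hF a v)
  have hτx : τ * x * τ⁻¹ ∈ R := (Subgroup.mem_normalizer_iff.1 hτN x).1 hx
  obtain ⟨y, hy⟩ : ∃ y : GL (Fin n) F, y = τ * x * τ⁻¹ * x⁻¹ := ⟨_, rfl⟩
  have hyR : y ∈ R := hy ▸ R.mul_mem hτx (R.inv_mem hx)
  rw [← hy]
  obtain ⟨U, hU⟩ : ∃ U : Submodule F (Fin n → F), U = LinearMap.ker (phiM q 1 v) ⊓
      LinearMap.ker (phiM q ((x⁻¹ : GL (Fin n) F) : Matrix (Fin n) (Fin n) F) v) := ⟨_, rfl⟩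
  have hUmem : ∀ u, u ∈ U ↔ hermForm n F q u v = 0 ∧
      hermForm n F q (((x⁻¹ : GL (Fin n) F) : Matrix (Fin n) (Fin n) F) *ᵥ u) v = 0 := by
    intro u
    rw [hU, Submodule.mem_inf, LinearMap.mem_ker, LinearMap.mem_ker, phiM_apply, phiM_apply,
      Matrix.one_mulVec]
  have hUfix : ∀ u ∈ U, (y : Matrix (Fin n) (Fin n) F) *ᵥ u = u := by
    intro u hu
    rw [hy, hτ]
    exact comm_fix hF ha hv x u ((hUmem u).1 hu).1 ((hUmem u).1 hu).2
  have hUdim : n ≤ Module.finrank F U + 2 := hU ▸ finrank_ker_inf_ker _ _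
  by_cases hcen : ∀ s ∈ R, y * s = s * y
  · obtain ⟨c, hc⟩ := habs.2 (y : Matrix (Fin n) (Fin n) F) (by
      rintro s ⟨s', hs', rfl⟩
      have := congrArg (fun g : GL (Fin n) F => (g : Matrix (Fin n) (Fin n) F)) (hcen s' hs')
      simpa using this)
    have hUne : U ≠ ⊥ := by
      intro hbot
      rw [hbot, finrank_bot] at hUdim
      omega
    obtain ⟨u, huU, hu0⟩ := Submodule.exists_mem_ne_zero_of_ne_bot hUne
    have h1 := hUfix u huU
    rw [hc, Matrix.smul_mulVec, Matrix.one_mulVec] at h1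
    have hc1 : c = 1 := by
      by_contra hne
      apply hu0
      have h2 : (c - 1) • u = 0 := by rw [sub_smul, one_smul, h1, sub_self]
      rcases smul_eq_zero.1 h2 with h3 | h3
      · exact absurd (sub_eq_zero.1 h3) hne
      · exact h3
    apply Units.ext
    rw [hc, hc1, one_smul]
    rfl
  · exfalso
    push Not at hcen
    obtain ⟨w, hwR, hw⟩ := hcen
    obtain ⟨ξ, hξ⟩ := (mem_scalars_iff _).1 (hcl2 w hwR y hyR)
    obtain ⟨U', hU'⟩ : ∃ U' : Submodule F (Fin n → F),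
        U' = LinearMap.ker (phiM q ((w⁻¹ : GL (Fin n) F) : Matrix (Fin n) (Fin n) F) v) ⊓
          LinearMap.ker (phiM q (((x⁻¹ : GL (Fin n) F) : Matrix (Fin n) (Fin n) F) *
            ((w⁻¹ : GL (Fin n) F) : Matrix (Fin n) (Fin n) F)) v) := ⟨_, rfl⟩
    have hU'dim : n ≤ Module.finrank F U' + 2 := hU' ▸ finrank_ker_inf_ker _ _
    have hξ1 : (ξ : F) ≠ 1 := by
      intro h1
      apply hw
      have h2 : w * y * w⁻¹ * y⁻¹ = 1 := by
        apply Units.ext
        rw [hξ, h1, one_smul]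
        rfl
      have h3 := congrArg (fun g => g * y * w) h2
      simp only [inv_mul_cancel_right, one_mul] at h3
      exact h3.symm
    have h5 : ((w * y * w⁻¹ : GL (Fin n) F) : Matrix (Fin n) (Fin n) F)
        = ((ξ : F) • (1 : Matrix (Fin n) (Fin n) F)) * (y : Matrix (Fin n) (Fin n) F) := by
      have h6 : w * y * w⁻¹ * y⁻¹ * y = w * y * w⁻¹ := inv_mul_cancel_right _ _
      rw [← h6, Units.val_mul, hξ]
    have hinf : U ⊓ U' = ⊥ := by
      rw [eq_bot_iff]
      rintro u ⟨huU, huU'⟩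
      have h1 := hUfix u huU
      rw [SetLike.mem_coe, hU', Submodule.mem_inf, LinearMap.mem_ker, LinearMap.mem_ker, phiM_apply,
        phiM_apply, ← Matrix.mulVec_mulVec] at huU'
      have h2 : ((w⁻¹ : GL (Fin n) F) : Matrix (Fin n) (Fin n) F) *ᵥ u ∈ U :=
        (hUmem _).2 ⟨huU'.1, huU'.2⟩
      have h3 := hUfix _ h2
      have h4 := congrArg (fun M : Matrix (Fin n) (Fin n) F => M *ᵥ u) h5
      simp only [Units.val_mul, ← Matrix.mulVec_mulVec] at h4
      rw [h3, gl_mul_inv_mulVec, h1, Matrix.smul_mulVec, Matrix.one_mulVec] at h4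
      rw [Submodule.mem_bot]
      have h7 : ((ξ : F) - 1) • u = 0 := by rw [sub_smul, one_smul, ← h4, sub_self]
      rcases smul_eq_zero.1 h7 with h8 | h8
      · exact absurd (sub_eq_zero.1 h8) hξ1
      · exact h8
    have := finrank_add_le_of_inf_eq_bot U U' hinf
    omega

/-- **UP2-B6** -/
theorem not_su_le_subgroupNormalizer (hF : Fintype.card F = q ^ 2) (hn : 5 ≤ n)
    (R : Subgroup (GL (Fin n) F)) (habs : ActsAbsolutelyIrreducibly (matrixSet R))
    (hcl2 : ∀ x ∈ R, ∀ y ∈ R, x * y * x⁻¹ * y⁻¹ ∈ scalars (Fin n) F) :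
    ¬ GU n F q ⊓ specialLinear (Fin n) F ≤ subgroupNormalizer R := by
  classical
  intro h
  have hscal : ∀ x ∈ R, ∃ c : F, (x : Matrix (Fin n) (Fin n) F) = c • (1 : Matrix (Fin n) (Fin n) F) := by
    intro x hx
    apply scalar_of_comm_utv hF (by omega : 2 ≤ n)
    intro a v ha hv
    have h1 := comm_eq_one hF hn R habs hcl2 h ha hv x hx
    have h2 : utv hF a v * x = x * utv hF a v := by
      have h3 := congrArg (fun g => g * x * utv hF a v) h1
      simp only [inv_mul_cancel_right, one_mul] at h3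
      exact h3
    have h4 := congrArg (fun g : GL (Fin n) F => (g : Matrix (Fin n) (Fin n) F)) h2
    simp only [Units.val_mul] at h4
    exact h4.symm
  obtain ⟨W, hW⟩ : ∃ W : Submodule F (Fin n → F), W = F ∙ (Pi.single (⟨0, by omega⟩ : Fin n) (1 : F)) :=
    ⟨_, rfl⟩
  have hne : (Pi.single (⟨0, by omega⟩ : Fin n) (1 : F) : Fin n → F) ≠ 0 := by
    intro h0
    have := congrFun h0 ⟨0, by omega⟩
    simp at this
  have hinv : ∀ s ∈ matrixSet R, W.map (Matrix.toLin' s) ≤ W := by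
    rintro s ⟨x, hx, rfl⟩
    obtain ⟨c, hc⟩ := hscal x hx
    rintro _ ⟨u, hu, rfl⟩
    simp only [hc, Matrix.toLin'_apply, Matrix.smul_mulVec, Matrix.one_mulVec]
    exact W.smul_mem c hu
  have hfr : Module.finrank F W = 1 := by
    rw [hW]
    exact finrank_span_singleton hne
  rcases habs.1 W hinv with h0 | h0
  · rw [h0, finrank_bot] at hfr
    omega
  · rw [h0, finrank_top, Module.finrank_fin_fun] at hfr
    omega

end Cfsg.Agent.Lib.H18.UP2
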