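import Mathlib
import Cfsg.Agent.Lib.H17.AGH13Defs
import Cfsg.Agent.Lib.H18.AGENUM

/-!
# S4150 / H13 split — piece E5 `exists_chain13` (helper18)

The bridge: a normalised 11-cycle `x` of degree 13 gives `l = [x² 2, …, x¹⁰ 2]` (as naturals), a permutation of
`[4, …, 12]`, with `Chain (nf x) 3 l`.  On `exists_cycle_list13` (`x = formPerm (2 :: 3 :: lF)`).
-/

set_option autoImplicit false

namespace Cfsg.Agent.Lib.H18.AG

open Equiv Equiv.Perm Cfsg.Agent.Lib.H17.AG

theorem nf_val (x : Perm (Fin 13)) (v : Fin 13) : nf x v.val = (x v).val := by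
  unfold nf
  rw [dif_pos v.isLt]

/-- the chain along `formPerm (pre ++ cur :: t)`, whose first element is `a0` -/
theorem chain_formPerm (a0 : Fin 13) :
    ∀ (t pre : List (Fin 13)) (cur : Fin 13), (a0 :: (pre ++ cur :: t)).Nodup → a0.val = 2 →
      Chain (nf (List.formPerm (a0 :: (pre ++ cur :: t)))) cur.val (t.map Fin.val) := by
  intro t
  induction t with
  | nil =>
    intro pre cur hnd ha0
    show nf _ cur.val = 2
    rw [nf_val]
    have h1 := List.formPerm_apply_getLast a0 (pre ++ [cur])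
    have h2 : (a0 :: (pre ++ [cur])).getLast (List.cons_ne_nil _ _) = cur := by
      simp
    rw [h2] at h1
    rw [h1, ha0]
  | cons a t ih =>
    intro pre cur hnd ha0
    refine ⟨?_, ?_⟩
    · rw [nf_val]
      have h1 := List.formPerm_apply_lt_getElem (a0 :: (pre ++ cur :: a :: t)) hnd (pre.length + 1)
        (by simp)
      have h2 : (a0 :: (pre ++ cur :: a :: t))[pre.length + 1]'(by simp) = cur := by
        simp
      have h3 : (a0 :: (pre ++ cur :: a :: t))[pre.length + 1 + 1]'(by simp) = a := by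
        simp
      rw [h2, h3] at h1
      rw [h1]
    · have h := ih (pre ++ [cur]) a (by simpa using hnd) ha0
      simpa using h

/-- E5. The bridge: `l = [x² 2, …, x¹⁰ 2]` (as naturals). -/
theorem exists_chain13 (x : Perm (Fin 13)) (h0 : x 0 = 0) (h1 : x 1 = 1) (h2 : x 2 = 3)
    (hc : x.cycleType = {11}) :
    ∃ l : List Nat, l.Perm [4, 5, 6, 7, 8, 9, 10, 11, 12] ∧ Chain (nf x) 3 l := by
  obtain ⟨lF, hlF, hx⟩ := exists_cycle_list13 x h0 h1 h2 hc
  refine ⟨lF.map Fin.val, ?_, ?_⟩
  · have := hlF.map Fin.val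
    exact this
  · have hnd : (2 :: 3 :: lF : List (Fin 13)).Nodup :=
      (List.Perm.nodup_iff (List.Perm.cons 2 (List.Perm.cons 3 hlF))).2 (by decide)
    have h := chain_formPerm 2 lF [] 3 (by simpa using hnd) rfl
    rw [hx]
    exact h

end Cfsg.Agent.Lib.H18.AG
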