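import Mathlib

/-!
# Involutions of the alternating groups of degree at most 7 are conjugate (helper18)
-/

set_option autoImplicit false

namespace Cfsg.Agent.Lib.H18.AltInvol

open Equiv Equiv.Perm

variable {α : Type*} [Fintype α] [DecidableEq α]

/-- An even involution on at most 7 points has cycle type `{2, 2}`. -/
theorem cycleType_of_invol (hα : Fintype.card α ≤ 7) {s : Perm α} (hs : sign s = 1)
    (h2 : s ^ 2 = 1) (h1 : s ≠ 1) : s.cycleType = Multiset.replicate 2 2 := by
  have hord : orderOf s = 2 := by
    haveI : Fact (Nat.Prime 2) := ⟨Nat.prime_two⟩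
    exact orderOf_eq_prime h2 h1
  have hall : ∀ n ∈ s.cycleType, n = 2 := by
    intro n hn
    have hd := dvd_of_mem_cycleType hn
    have h2' := two_le_of_mem_cycleType hn
    rw [hord] at hd
    have := Nat.le_of_dvd (by norm_num) hd
    omega
  have hrep : s.cycleType = Multiset.replicate (Multiset.card s.cycleType) 2 :=
    Multiset.eq_replicate.mpr ⟨rfl, hall⟩
  set k := Multiset.card s.cycleType with hk
  have hsum : s.cycleType.sum = 2 * k := by
    rw [hrep, Multiset.sum_replicate, smul_eq_mul, mul_comm]
  have hle : 2 * k ≤ 7 := by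
    rw [← hsum]
    exact le_trans (sum_cycleType_le s) hα
  have hk0 : k ≠ 0 := by
    intro h
    exact h1 (card_cycleType_eq_zero.mp h)
  have hsign := sign_of_cycleType s
  rw [hs, hsum, ← hk] at hsign
  have hk2 : k = 2 := by
    have hk3 : k ≤ 3 := by omega
    interval_cases k
    · exact absurd rfl hk0
    · exfalso
      revert hsign
      decide
    · rfl
    · exfalso
      revert hsign
      decide
  rw [hrep, hk2]

/-- Even involutions on at most 7 points are conjugate under the alternating group. -/
theorem isConj_invol (hα : Fintype.card α ≤ 7) {s t : alternatingGroup α}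
    (hs2 : s ^ 2 = 1) (hs1 : s ≠ 1) (ht2 : t ^ 2 = 1) (ht1 : t ≠ 1) :
    ∃ g : alternatingGroup α, g * s * g⁻¹ = t := by
  have hs2' : (s : Perm α) ^ 2 = 1 := by
    have := congrArg Subtype.val hs2
    simpa using this
  have ht2' : (t : Perm α) ^ 2 = 1 := by
    have := congrArg Subtype.val ht2
    simpa using this
  have hs1' : (s : Perm α) ≠ 1 := fun h => hs1 (Subtype.ext h)
  have ht1' : (t : Perm α) ≠ 1 := fun h => ht1 (Subtype.ext h)
  have hcs := cycleType_of_invol hα (mem_alternatingGroup.mp s.2) hs2' hs1'
  have hct := cycleType_of_invol hα (mem_alternatingGroup.mp t.2) ht2' ht1'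
  have hconj : IsConj (s : Perm α) (t : Perm α) := by
    rw [isConj_iff_cycleType_eq, hcs, hct]
  obtain ⟨π, hπ⟩ := isConj_iff.mp hconj
  by_cases hπs : sign π = 1
  · refine ⟨⟨π, mem_alternatingGroup.mpr hπs⟩, ?_⟩
    apply Subtype.ext
    simpa using hπ
  · -- an odd permutation commuting with `s`
    obtain ⟨a, ha⟩ : ∃ a, (s : Perm α) a ≠ a := by
      by_contra hno
      push_neg at hno
      exact hs1' (Perm.ext hno)
    set c : Perm α := swap a ((s : Perm α) a) with hc
    have hssa : (s : Perm α) ((s : Perm α) a) = a := by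
      have := congrArg (fun f : Perm α => f a) hs2'
      simpa [pow_two] using this
    have hcomm : (s : Perm α) * c * (s : Perm α)⁻¹ = c := by
      rw [hc, ← Equiv.swap_apply_apply, hssa, swap_comm]
    have hsc : sign c = -1 := by
      rw [hc]
      exact sign_swap (Ne.symm ha)
    have hπ' : sign π = -1 := by
      rcases Int.units_eq_one_or (sign π) with h | h
      · exact absurd h hπs
      · exact h
    refine ⟨⟨π * c, mem_alternatingGroup.mpr (by rw [Perm.sign_mul, hπ', hsc]; rfl)⟩, ?_⟩
    apply Subtype.ext
    have hcs' : c * (s : Perm α) * c⁻¹ = s := by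
      have : (s : Perm α) * c = c * s := by
        nth_rewrite 2 [← hcomm]
        group
      rw [← this]; group
    simp only [Subgroup.coe_mul, Subgroup.coe_inv, mul_inv_rev]
    calc π * c * (s : Perm α) * (c⁻¹ * π⁻¹) = π * (c * (s : Perm α) * c⁻¹) * π⁻¹ := by group
      _ = π * s * π⁻¹ := by rw [hcs']
      _ = t := hπ

end Cfsg.Agent.Lib.H18.AltInvol
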