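import Mathlib
import Cfsg.Prelude.Def_Amalgam

set_option autoImplicit false

namespace Cfsg.Agent.Lib.H18

open Monoid Monoid.CoprodI Monoid.PushoutI

section word

variable {ι : Type*} {G : ι → Type*} [∀ i, Monoid (G i)]

/-- index of the last letter of a word -/
def wordLastIdx (W : Word G) : Option ι := W.toList.getLast?.map Sigma.fst

variable [DecidableEq ι] [∀ i, DecidableEq (G i)]

/-- the "side" of a word with respect to the index `i` -/
def wordSide (i : ι) (W : Word G) : ι := (wordLastIdx (Word.equivPair i W).tail).getD i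

theorem wordSide_empty (i : ι) : wordSide i (Word.empty : Word G) = i := by
  have h : Word.fstIdx (Word.empty : Word G) ≠ some i := by simp [Word.fstIdx, Word.empty]
  rw [wordSide, Word.equivPair_eq_of_fstIdx_ne h]
  simp [wordLastIdx, Word.empty]

theorem wordSide_eq_of_ne {i j : ι} (hij : i ≠ j) (W : Word G) (hW : W.fstIdx = some j) :
    wordSide i W = wordSide j W := by
  induction W using Word.consRecOn with
  | empty => simp [Word.fstIdx, Word.empty] at hW
  | cons k m W' h1 h2 _ =>
    have hk : k = j := by simpa [Word.fstIdx_cons] using hW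
    subst hk
    have e1 : Word.equivPair k (Word.cons m W' h1 h2) = ⟨m, W', h1⟩ := by
      rw [← Equiv.eq_symm_apply, Word.equivPair_symm, Word.rcons, dif_neg h2]
    have e2 : Word.fstIdx (Word.cons m W' h1 h2) ≠ some i := by
      rw [Word.fstIdx_cons]; simpa using (Ne.symm hij)
    rw [wordSide, wordSide, e1, Word.equivPair_eq_of_fstIdx_ne e2]
    simp only [wordLastIdx, Word.cons]
    rcases hL : W'.toList with _ | ⟨a, L⟩
    · simp
    · have : (a :: L).getLast? = some ((a :: L).getLast (by simp)) := List.getLast?_eq_some_getLast _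
      simp [List.getLast?_cons_cons, this]

theorem wordSide_fin_two {G : Fin 2 → Type*} [∀ i, Monoid (G i)] [∀ i, DecidableEq (G i)]
    (W : Word G) (hW : W.toList ≠ []) : wordSide 0 W = wordSide 1 W := by
  obtain ⟨j, hj⟩ : ∃ j, W.fstIdx = some j := by
    rcases hL : W.toList with _ | ⟨a, L⟩
    · exact absurd hL hW
    · exact ⟨a.1, by simp [Word.fstIdx, hL]⟩
  fin_cases j
  · exact (wordSide_eq_of_ne (by decide) W hj).symm
  · exact wordSide_eq_of_ne (by decide) W hj

end word

section normalword

variable {ι : Type*} {G : ι → Type*} {H : Type*} [∀ i, Group (G i)] [Group H] {φ : ∀ i, H →* G i}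
  {d : Monoid.PushoutI.NormalWord.Transversal φ} [DecidableEq ι] [∀ i, DecidableEq (G i)]

theorem equivPair_tail_summand_smul (i : ι) (g : G i) (w : NormalWord d) :
    (Word.equivPair i (g • w).toWord).tail = (Word.equivPair i w.toWord).tail := by
  rw [NormalWord.summand_smul_def']
  simp [NormalWord.equivPair, NormalWord.rcons, Word.equivPair_smul_same]

theorem wordSide_of_smul (i : ι) (g : G i) (w : NormalWord d) :
    wordSide i (PushoutI.of (φ := φ) i g • w).toWord = wordSide i w.toWord := by
  rw [wordSide, wordSide, NormalWord.of_smul_eq_smul, equivPair_tail_summand_smul]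

theorem mem_of_range_of_toList_eq_nil (x : PushoutI φ)
    (hx : (x • (NormalWord.empty : NormalWord d)).toWord.toList = []) (i : ι) :
    x ∈ (PushoutI.of (φ := φ) i).range := by
  have h1 : (x • (NormalWord.empty : NormalWord d)).prod = x := by
    rw [NormalWord.prod_smul, NormalWord.prod_empty, mul_one]
  have h2 : (x • (NormalWord.empty : NormalWord d)).toWord = Word.empty := by
    ext1; exact hx
  rw [NormalWord.prod, h2] at h1
  generalize (x • (NormalWord.empty : NormalWord d)).head = h at h1
  refine ⟨φ i h, ?_⟩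
  rw [PushoutI.of_apply_eq_base, ← h1]
  simp

end normalword

section graph

theorem reachable_const {V α : Type*} {Γ : SimpleGraph V} (c : V → α)
    (hc : ∀ u v, Γ.Adj u v → c u = c v) {u v : V} (h : Γ.Reachable u v) : c u = c v := by
  obtain ⟨p⟩ := h
  induction p with
  | nil => rfl
  | cons h p ih => exact (hc _ _ h).trans ih

universe u

variable {G : Fin 2 → Type u} [∀ i, Group (G i)] {B : Type u} [Group B] (φ : ∀ i, B →* G i)

theorem cosetGraph_adj_inl_inr {X : Type*} [Group X] (M₁ M₂ : Subgroup X) (x : X) :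
    (Cfsg.cosetGraph M₁ M₂).Adj (Sum.inl (x : X ⧸ M₁)) (Sum.inr (x : X ⧸ M₂)) := by
  rw [Cfsg.cosetGraph, SimpleGraph.fromRel_adj]
  exact ⟨by simp, Or.inl ⟨x, rfl, rfl⟩⟩

theorem cosetGraph_pushout_reachable (x y : PushoutI φ) :
    (Cfsg.cosetGraph (PushoutI.of (φ := φ) 0).range (PushoutI.of (φ := φ) 1).range).Reachable
      (Sum.inl ((y : PushoutI φ) : PushoutI φ ⧸ (PushoutI.of (φ := φ) 0).range))
      (Sum.inl ((y * x : PushoutI φ) : PushoutI φ ⧸ (PushoutI.of (φ := φ) 0).range)) := by
  have h0 : ∀ (g : G 0) (y : PushoutI φ),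
      ((y * PushoutI.of (φ := φ) 0 g : PushoutI φ) : PushoutI φ ⧸ (PushoutI.of (φ := φ) 0).range)
        = (y : PushoutI φ ⧸ (PushoutI.of (φ := φ) 0).range) := by
    intro g y
    rw [eq_comm, QuotientGroup.eq]
    exact ⟨g, by group⟩
  induction x using PushoutI.induction_on generalizing y with
  | of i g =>
    fin_cases i
    · simp only [Fin.zero_eta, Fin.isValue]
      rw [h0]
    · simp only [Fin.mk_one, Fin.isValue]
      have e : ((y * PushoutI.of (φ := φ) 1 g : PushoutI φ) :
          PushoutI φ ⧸ (PushoutI.of (φ := φ) 1).range)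
          = (y : PushoutI φ ⧸ (PushoutI.of (φ := φ) 1).range) := by
        rw [eq_comm, QuotientGroup.eq]
        exact ⟨g, by group⟩
      have a1 := cosetGraph_adj_inl_inr (PushoutI.of (φ := φ) 0).range
        (PushoutI.of (φ := φ) 1).range y
      have a2 := cosetGraph_adj_inl_inr (PushoutI.of (φ := φ) 0).range
        (PushoutI.of (φ := φ) 1).range (y * PushoutI.of (φ := φ) 1 g)
      rw [e] at a2
      exact a1.reachable.trans a2.symm.reachable
  | base h =>
    rw [← PushoutI.of_apply_eq_base φ 0, h0]
  | mul x x' ihx ihx' =>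
    have := (ihx y).trans (ihx' (y * x))
    rwa [mul_assoc] at this

theorem cosetGraph_pushout_connected :
    (Cfsg.cosetGraph (PushoutI.of (φ := φ) 0).range (PushoutI.of (φ := φ) 1).range).Connected := by
  have hb : ∀ v, (Cfsg.cosetGraph (PushoutI.of (φ := φ) 0).range
      (PushoutI.of (φ := φ) 1).range).Reachable (Sum.inl ((1 : PushoutI φ) :
        PushoutI φ ⧸ (PushoutI.of (φ := φ) 0).range)) v := by
    intro v
    rcases v with q | q
    · induction q using QuotientGroup.induction_on with
      | H x =>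
        have := cosetGraph_pushout_reachable φ x 1
        rwa [one_mul] at this
    · induction q using QuotientGroup.induction_on with
      | H x =>
        have := cosetGraph_pushout_reachable φ x 1
        rw [one_mul] at this
        exact this.trans (cosetGraph_adj_inl_inr _ _ x).reachable
  exact (SimpleGraph.connected_iff_exists_forall_reachable _).2 ⟨_, hb⟩


/-- The side function on vertices, relative to the base point `x`. -/
noncomputable def cosetSide [∀ i, DecidableEq (G i)]
    (d : Monoid.PushoutI.NormalWord.Transversal φ) (x : PushoutI φ) :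
    Cfsg.CosetVertex (PushoutI.of (φ := φ) 0).range (PushoutI.of (φ := φ) 1).range → Fin 2 :=
  Sum.elim
    (fun q => Quotient.liftOn' q
      (fun y => wordSide 0 ((y⁻¹ * x) • (NormalWord.empty : NormalWord d)).toWord) (by
        intro a b hab
        rw [QuotientGroup.leftRel_apply] at hab
        obtain ⟨g, hg⟩ := hab
        have : b⁻¹ * x = PushoutI.of (φ := φ) 0 g⁻¹ * (a⁻¹ * x) := by
          rw [map_inv, hg]; group
        simp only [this, mul_smul, wordSide_of_smul]))
    (fun q => Quotient.liftOn' q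
      (fun y => wordSide 1 ((y⁻¹ * x) • (NormalWord.empty : NormalWord d)).toWord) (by
        intro a b hab
        rw [QuotientGroup.leftRel_apply] at hab
        obtain ⟨g, hg⟩ := hab
        have : b⁻¹ * x = PushoutI.of (φ := φ) 1 g⁻¹ * (a⁻¹ * x) := by
          rw [map_inv, hg]; group
        simp only [this, mul_smul, wordSide_of_smul]))

theorem cosetGraph_pushout_not_reachable (hφ : ∀ i, Function.Injective (φ i)) (x : PushoutI φ) :
    ¬ ((Cfsg.cosetGraph (PushoutI.of (φ := φ) 0).range (PushoutI.of (φ := φ) 1).range).deleteEdges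
      {s(Sum.inl (x : PushoutI φ ⧸ (PushoutI.of (φ := φ) 0).range),
         Sum.inr (x : PushoutI φ ⧸ (PushoutI.of (φ := φ) 1).range))}).Reachable
      (Sum.inl (x : PushoutI φ ⧸ (PushoutI.of (φ := φ) 0).range))
      (Sum.inr (x : PushoutI φ ⧸ (PushoutI.of (φ := φ) 1).range)) := by
  classical
  obtain ⟨d⟩ := NormalWord.transversal_nonempty φ hφ
  intro hr
  have key : ∀ y : PushoutI φ,
      s(Sum.inl (y : PushoutI φ ⧸ (PushoutI.of (φ := φ) 0).range),
         Sum.inr (y : PushoutI φ ⧸ (PushoutI.of (φ := φ) 1).range)) ≠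
      s(Sum.inl (x : PushoutI φ ⧸ (PushoutI.of (φ := φ) 0).range),
         Sum.inr (x : PushoutI φ ⧸ (PushoutI.of (φ := φ) 1).range)) →
      cosetSide φ d x (Sum.inl (y : PushoutI φ ⧸ (PushoutI.of (φ := φ) 0).range)) =
      cosetSide φ d x (Sum.inr (y : PushoutI φ ⧸ (PushoutI.of (φ := φ) 1).range)) := by
    intro y hy
    show wordSide 0 ((y⁻¹ * x) • (NormalWord.empty : NormalWord d)).toWord
      = wordSide 1 ((y⁻¹ * x) • (NormalWord.empty : NormalWord d)).toWord
    apply wordSide_fin_two
    intro hnil
    apply hy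
    have h0 := mem_of_range_of_toList_eq_nil (y⁻¹ * x) hnil 0
    have h1 := mem_of_range_of_toList_eq_nil (y⁻¹ * x) hnil 1
    rw [← QuotientGroup.eq] at h0 h1
    rw [h0, h1]
  have := reachable_const (cosetSide φ d x) (by
    intro u v huv
    rw [SimpleGraph.deleteEdges_adj, Cfsg.cosetGraph, SimpleGraph.fromRel_adj] at huv
    obtain ⟨⟨-, ⟨y, rfl, rfl⟩ | ⟨y, rfl, rfl⟩⟩, hne⟩ := huv
    · exact key y (by simpa using hne)
    · exact (key y (by rw [Sym2.eq_swap]; simpa using hne)).symm) hr
  have e0 : cosetSide φ d x (Sum.inl (x : PushoutI φ ⧸ (PushoutI.of (φ := φ) 0).range)) = 0 := by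
    show wordSide 0 ((x⁻¹ * x) • (NormalWord.empty : NormalWord d)).toWord = 0
    rw [inv_mul_cancel, one_smul]
    exact wordSide_empty 0
  have e1 : cosetSide φ d x (Sum.inr (x : PushoutI φ ⧸ (PushoutI.of (φ := φ) 1).range)) = 1 := by
    show wordSide 1 ((x⁻¹ * x) • (NormalWord.empty : NormalWord d)).toWord = 1
    rw [inv_mul_cancel, one_smul]
    exact wordSide_empty 1
  rw [e0, e1] at this
  exact absurd this (by decide)

theorem cosetGraph_pushout_isTree (hφ : ∀ i, Function.Injective (φ i)) :
    (Cfsg.cosetGraph (PushoutI.of (φ := φ) 0).range (PushoutI.of (φ := φ) 1).range).IsTree := by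
  refine ⟨cosetGraph_pushout_connected φ, ?_⟩
  rw [SimpleGraph.isAcyclic_iff_forall_adj_isBridge]
  intro u v huv
  rw [SimpleGraph.isBridge_iff]
  have huv' := huv
  rw [Cfsg.cosetGraph, SimpleGraph.fromRel_adj] at huv'
  obtain ⟨-, ⟨y, rfl, rfl⟩ | ⟨y, rfl, rfl⟩⟩ := huv'
  · exact cosetGraph_pushout_not_reachable φ hφ y
  · rw [Sym2.eq_swap, SimpleGraph.reachable_comm]
    exact cosetGraph_pushout_not_reachable φ hφ y

end graph

end Cfsg.Agent.Lib.H18
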