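import Cfsg.Agent.Lib.H26.AschEO2F2c

/-!
# EO2-F2-ISO (helper18): the isotropic case of EO2-F2

`K` a self-adjoint field subalgebra of degree `r` in dimension `n = 2 r`, `QK` the `K`-valued quadratic form.  If `QK` has a
non-zero singular vector `v₁`, then the `QK`-singular vectors are exactly the two `K`-lines `K v₁`, `K (v₂ - β v₁)`; they are totally
singular `r`-spaces for `Q`, and `N(K) ∩ I(Q)` permutes them.
-/

set_option autoImplicit false
set_option linter.unusedSectionVars false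

namespace Cfsg.Agent.Lib.H18.EOP2

open Cfsg Cfsg.Geo Cfsg.Agent.Lib.H26.EOP2
open scoped MatrixGroups Matrix

variable {F : Type*} [Field F] [Fintype F] {n : ℕ}

section line

variable (r : ℕ) (K : Subalgebra F (Matrix (Fin n) (Fin n) F))

/-- the `K`-line of `u` -/
def lineK (u : Fin n → F) : Submodule F (Fin n → F) := LinearMap.range (lineMap K u)

theorem mem_lineK (u x : Fin n → F) :
    x ∈ lineK K u ↔ ∃ k : ↥K, (k : Matrix (Fin n) (Fin n) F) *ᵥ u = x := by
  unfold lineK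
  rw [LinearMap.mem_range]
  rfl

theorem act_mem_lineK (u : Fin n → F) (k : ↥K) : (k : Matrix (Fin n) (Fin n) F) *ᵥ u ∈ lineK K u :=
  (mem_lineK K u _).2 ⟨k, rfl⟩

theorem lineK_map (g : GL (Fin n) F) (hg : g ∈ subalgebraNormalizer K) (u : Fin n → F) :
    (lineK K u).map (Matrix.toLin' (g : Matrix (Fin n) (Fin n) F)) =
      lineK K ((g : Matrix (Fin n) (Fin n) F) *ᵥ u) := by
  apply le_antisymm
  · rintro _ ⟨x, hx, rfl⟩
    obtain ⟨k, rfl⟩ := (mem_lineK K u x).1 hx
    rw [Matrix.toLin'_apply, KForm.conjEquiv_act g hg]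
    exact act_mem_lineK K _ _
  · intro x hx
    obtain ⟨k, rfl⟩ := (mem_lineK K _ x).1 hx
    rw [KForm.conjEquiv_symm_act g hg]
    exact ⟨_, act_mem_lineK K u _, by rw [Matrix.toLin'_apply]⟩

variable (hK : IsFieldSubalgebra r K)

include hK

theorem f2_mul_eq_zero (a b : ↥K) (h : a * b = 0) : a = 0 ∨ b = 0 := by
  by_cases ha : a = 0
  · exact Or.inl ha
  · right
    obtain ⟨c, hc⟩ := f2_exists_inv r K hK a ha
    have h1 : c * (a * b) = b := by rw [← mul_assoc, f2_comm r K hK c a, hc, one_mul]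
    rw [← h1, h, mul_zero]

theorem lineK_smul (k : ↥K) (hk : k ≠ 0) (u : Fin n → F) :
    lineK K ((k : Matrix (Fin n) (Fin n) F) *ᵥ u) = lineK K u := by
  obtain ⟨b, hb⟩ := f2_exists_inv r K hK k hk
  apply le_antisymm
  · intro x hx
    obtain ⟨l, rfl⟩ := (mem_lineK K _ x).1 hx
    exact (mem_lineK K u _).2 ⟨l * k, f2_act_mul l k u⟩
  · intro x hx
    obtain ⟨l, rfl⟩ := (mem_lineK K _ x).1 hx
    refine (mem_lineK K _ _).2 ⟨l * b, ?_⟩
    rw [← f2_act_mul, mul_assoc, f2_comm r K hK b k, hb, mul_one]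

theorem finrank_lineK (u : Fin n → F) (hu : u ≠ 0) : Module.finrank F (lineK K u) = r :=
  finrank_range_lineMap r K hK u hu

end line

/-- **EO2-F2-ISO** -/
theorem f2_isotropic [Nonempty (Fin n)] (r : ℕ) (K : Subalgebra F (Matrix (Fin n) (Fin n) F))
    (hK : IsFieldSubalgebra r K) (Q : (Fin n → F) → F) (hQ : IsNondegenerateQuadraticForm Q)
    (hsa : IsSelfAdjointFor (QuadraticMap.polar Q) K) (S : KForm K Q) (hn : n = 2 * r)
    (v₁ : Fin n → F) (hv₁ : v₁ ≠ 0) (h0 : S.QK v₁ = 0) :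
    ∃ D : Fin 2 → Submodule F (Fin n → F), IsMDecomposition r D ∧ (∀ i, IsTotallySingularQuad Q (D i)) ∧
      subalgebraNormalizer K ⊓ isometryGroup F Q ≤ decompositionStabilizer D := by
  classical
  obtain ⟨v₂, hB, h12⟩ := S.exists_kbasis hK hQ hsa hn v₁ hv₁
  obtain ⟨β, hβ⟩ : ∃ β : ↥K, β = S.QK v₂ := ⟨_, rfl⟩
  obtain ⟨w, hw⟩ : ∃ w : Fin n → F, w = ((-β : ↥K) : Matrix (Fin n) (Fin n) F) *ᵥ v₁ +
      ((1 : ↥K) : Matrix (Fin n) (Fin n) F) *ᵥ v₂ := ⟨_, rfl⟩
  have hn0 : 0 < n := Fin.pos_iff_nonempty.mpr inferInstance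
  have hr0 : 0 < r := by omega
  have h1K : (1 : ↥K) ≠ 0 := by
    intro h
    have h2 : ((1 : ↥K) : Matrix (Fin n) (Fin n) F) = 0 := by rw [h]; rfl
    exact one_ne_zero h2
  have hw0 : w ≠ 0 := by
    intro h
    rw [hw] at h
    exact h1K (hB.inj _ _ h).2
  have hform : ∀ k₁ k₂ : ↥K, S.QK ((k₁ : Matrix (Fin n) (Fin n) F) *ᵥ v₁ +
      (k₂ : Matrix (Fin n) (Fin n) F) *ᵥ v₂) = k₂ * (k₁ + β * k₂) := by
    intro k₁ k₂
    rw [S.QK_basis hK hQ hsa, h0, h12, ← hβ]
    let _ : Field ↥K := (Cfsg.Agent.Lib.H5.OP2.isField_of_isFieldSubalgebra r K hK).toField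
    ring
  have hQw : S.QK w = 0 := by
    rw [hw, hform, mul_one, neg_add_cancel, mul_zero]
  -- `l w` in the basis
  have hlw : ∀ l : ↥K, (l : Matrix (Fin n) (Fin n) F) *ᵥ w =
      ((l * -β : ↥K) : Matrix (Fin n) (Fin n) F) *ᵥ v₁ + (l : Matrix (Fin n) (Fin n) F) *ᵥ v₂ := by
    intro l
    rw [hw, Matrix.mulVec_add, ← f2_act_mul, ← f2_act_mul, mul_one]
  -- the singular vectors
  have hsing : ∀ x : Fin n → F, x ≠ 0 → S.QK x = 0 → lineK K x = lineK K v₁ ∨ lineK K x = lineK K w := by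
    intro x hx0 hx
    obtain ⟨k₁, k₂, rfl⟩ := hB.span x
    rw [hform] at hx
    rcases f2_mul_eq_zero r K hK _ _ hx with h | h
    · left
      rw [h, f2_act_zero, add_zero] at hx0 ⊢
      have hk1 : k₁ ≠ 0 := by
        rintro rfl
        exact hx0 (f2_act_zero _)
      exact lineK_smul r K hK k₁ hk1 v₁
    · right
      have hk1 : k₁ = k₂ * -β := by
        have h' : k₁ = -(β * k₂) := eq_neg_of_add_eq_zero_left h
        rw [h', f2_comm r K hK β k₂]
        exact (mul_neg k₂ β).symm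
      have hk2 : k₂ ≠ 0 := by
        rintro rfl
        rw [zero_mul] at hk1
        rw [hk1, f2_act_zero, f2_act_zero, add_zero] at hx0
        exact hx0 rfl
      have h3 : (k₁ : Matrix (Fin n) (Fin n) F) *ᵥ v₁ + (k₂ : Matrix (Fin n) (Fin n) F) *ᵥ v₂ =
          (k₂ : Matrix (Fin n) (Fin n) F) *ᵥ w := by
        rw [hlw, hk1]
      rw [h3]
      exact lineK_smul r K hK k₂ hk2 w
  have hdisj : Disjoint (lineK K v₁) (lineK K w) := by
    rw [Submodule.disjoint_def]
    intro x hx1 hx2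
    obtain ⟨k, rfl⟩ := (mem_lineK K v₁ x).1 hx1
    obtain ⟨l, hl⟩ := (mem_lineK K w _).1 hx2
    rw [hlw] at hl
    have h3 : ((k - l * -β : ↥K) : Matrix (Fin n) (Fin n) F) *ᵥ v₁ +
        ((-l : ↥K) : Matrix (Fin n) (Fin n) F) *ᵥ v₂ = 0 := by
      rw [f2_act_sub, f2_act_neg, ← hl]
      abel
    have hl0 : l = 0 := neg_eq_zero.1 (hB.inj _ _ h3).2
    rw [← hl, hl0, zero_mul, f2_act_zero, f2_act_zero, add_zero]
  have hne : lineK K v₁ ≠ lineK K w := by
    intro h
    have h1 : v₁ ∈ lineK K v₁ := by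
      have := act_mem_lineK K v₁ 1
      rwa [f2_act_one] at this
    have h2 : v₁ ∈ lineK K w := h ▸ h1
    exact hv₁ ((Submodule.disjoint_def.1 hdisj) v₁ h1 h2)
  obtain ⟨D, hD0, hD1⟩ : ∃ D : Fin 2 → Submodule F (Fin n → F), D 0 = lineK K v₁ ∧ D 1 = lineK K w :=
    ⟨![lineK K v₁, lineK K w], rfl, rfl⟩
  refine ⟨D, ⟨le_rfl, hr0, ?_, ?_, ?_⟩, ?_, ?_⟩
  · intro i
    fin_cases i
    · show Module.finrank F (D 0) = r
      rw [hD0]
      exact finrank_lineK r K hK v₁ hv₁
    · show Module.finrank F (D 1) = r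
      rw [hD1]
      exact finrank_lineK r K hK w hw0
  · rw [iSupIndep_pair (i := (0 : Fin 2)) (j := 1) (by decide) (by decide), hD0, hD1]
    exact hdisj
  · rw [eq_top_iff]
    intro x _
    obtain ⟨k₁, k₂, rfl⟩ := hB.span x
    have h5 : (k₁ : Matrix (Fin n) (Fin n) F) *ᵥ v₁ + (k₂ : Matrix (Fin n) (Fin n) F) *ᵥ v₂ =
        ((k₁ - k₂ * -β : ↥K) : Matrix (Fin n) (Fin n) F) *ᵥ v₁ + (k₂ : Matrix (Fin n) (Fin n) F) *ᵥ w := by
      rw [hlw, f2_act_sub]
      abel
    rw [h5]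
    apply Submodule.add_mem
    · apply le_iSup D 0
      rw [hD0]
      exact act_mem_lineK K _ _
    · apply le_iSup D 1
      rw [hD1]
      exact act_mem_lineK K _ _
  · have hts : ∀ u : Fin n → F, S.QK u = 0 → IsTotallySingularQuad Q (lineK K u) := by
      intro u hu x hx
      obtain ⟨k, rfl⟩ := (mem_lineK K u x).1 hx
      rw [S.hQK, hu, zero_mul, zero_mul, map_zero]
    intro i
    fin_cases i
    · show IsTotallySingularQuad Q (D 0)
      rw [hD0]
      exact hts v₁ h0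
    · show IsTotallySingularQuad Q (D 1)
      rw [hD1]
      exact hts w hQw
  · rintro g ⟨hgK, hgQ⟩
    obtain ⟨c, hc0, hcQ, -⟩ := S.exists_semilinear hK hQ hsa g hgK hgQ
    have hginj : Function.Injective (Matrix.toLin' (g : Matrix (Fin n) (Fin n) F)) := by
      intro a b hab
      rw [Matrix.toLin'_apply, Matrix.toLin'_apply] at hab
      have := congrArg (fun z => ((g⁻¹ : GL (Fin n) F) : Matrix (Fin n) (Fin n) F) *ᵥ z) hab
      simp only [Matrix.mulVec_mulVec] at this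
      have h1 : ((g⁻¹ : GL (Fin n) F) : Matrix (Fin n) (Fin n) F) * (g : Matrix (Fin n) (Fin n) F) = 1 := by
        rw [← Units.val_mul, inv_mul_cancel, Units.val_one]
      rwa [h1, Matrix.one_mulVec, Matrix.one_mulVec] at this
    have himg : ∀ u : Fin n → F, u ≠ 0 → S.QK u = 0 →
        (lineK K u).map (Matrix.toLin' (g : Matrix (Fin n) (Fin n) F)) = lineK K v₁ ∨
        (lineK K u).map (Matrix.toLin' (g : Matrix (Fin n) (Fin n) F)) = lineK K w := by
      intro u hu0 hu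
      rw [lineK_map K g hgK]
      apply hsing
      · intro h
        apply hu0
        apply hginj
        rw [Matrix.toLin'_apply, h, map_zero]
      · rw [hcQ, hu, map_zero, mul_zero]
    have hmapne : (lineK K v₁).map (Matrix.toLin' (g : Matrix (Fin n) (Fin n) F)) ≠
        (lineK K w).map (Matrix.toLin' (g : Matrix (Fin n) (Fin n) F)) := by
      intro h
      exact hne (Submodule.map_injective_of_injective hginj h)
    rcases himg v₁ hv₁ h0 with h1 | h1 <;> rcases himg w hw0 hQw with h2 | h2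
    · exact absurd (h1.trans h2.symm) hmapne
    · refine ⟨1, fun i => ?_⟩
      fin_cases i
      · show (D 0).map _ = D 0
        rw [hD0, h1]
      · show (D 1).map _ = D 1
        rw [hD1, h2]
    · refine ⟨Equiv.swap 0 1, fun i => ?_⟩
      fin_cases i
      · show (D 0).map _ = D (Equiv.swap 0 1 0)
        rw [Equiv.swap_apply_left, hD0, hD1, h1]
      · show (D 1).map _ = D (Equiv.swap 0 1 1)
        rw [Equiv.swap_apply_right, hD0, hD1, h2]
    · exact absurd (h1.trans h2.symm) hmapne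

end Cfsg.Agent.Lib.H18.EOP2
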