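import Cfsg.Agent.Lib.H18.AschEO2Ta
import Cfsg.Agent.Lib.H29.Orth

/-!
# EO phase 2, task T (helper18): `plus_of_isometric_decomposition`

An isometric orthogonal decomposition forces plus type when the number of blocks is divisible by 4; when it is even
and the blocks have even dimension; when it is even and `-1` is a square; when the blocks are of plus type.
-/

set_option autoImplicit false
set_option linter.unusedSectionVars false
set_option linter.unusedVariables false

namespace Cfsg.Agent.Lib.H18.EOP2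

open Cfsg Cfsg.Geo
open Module
open Cfsg.Agent.Lib.H24.Elus
open Cfsg.Agent.Lib.H13.OSS
open Cfsg.Agent.Lib.H13.OES
open Cfsg.Agent.Lib.H10.OrtNd (PB TS PlusOn PB_apply PB_symm PB_self TS_mono)
open Cfsg.Agent.Lib.H29.Orth (toQF)

/-- `-1` is a sum of two squares in a finite field -/
theorem exists_sq_add_sq_eq_neg_one (F : Type*) [Field F] [Fintype F] :
    ∃ α β : F, α * α + β * β = -1 := by
  obtain ⟨p, hp⟩ := CharP.exists F
  haveI : Fact p.Prime := ⟨CharP.char_is_prime F p⟩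
  haveI : NeZero p := ⟨(Fact.out : p.Prime).ne_zero⟩
  obtain ⟨a, b, hab⟩ := CharP.sq_add_sq F p (-1)
  refine ⟨a, b, ?_⟩
  rw [← pow_two, ← pow_two, hab]
  simp

variable {F : Type*} [Field F] [Fintype F] {ι : Type} [Fintype ι] [DecidableEq ι]

/-- general index type version of `plus_of_isometric_decomposition` -/
theorem plus_of_isometric_decomposition_gen (Q : (ι → F) → F) (hQ : IsNondegenerateQuadraticForm Q)
    {t : ℕ} (k : ℕ) (D : Fin t → Submodule F (ι → F)) (hD : IsOrthogonalMDecomposition Q k D)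
    (h : 4 ∣ t ∨ (Even t ∧ Even k) ∨ (Even t ∧ ∃ c : F, c * c = -1) ∨ (∀ i, IsPlusTypeOn Q (D i))) :
    IsPlusTypeOn Q ⊤ := by
  classical
  obtain ⟨Qf, hQf⟩ : ∃ Qf : QuadraticForm F (ι → F), Qf = toQF Q hQ := ⟨_, rfl⟩
  have hQa : ∀ v, Qf v = Q v := fun v => by rw [hQf]; rfl
  have hPB : ∀ u v, PB Qf u v = QuadraticMap.polar Q u v := fun u v => by rw [hQf]; rfl
  have hnd : ∀ i, NDon (PB Qf) (D i) := by
    intro i u hu h0
    by_contra hne
    obtain ⟨-, x, hx, hx0⟩ := hD.decomp.nondegenerate i u hu hne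
    apply hx0
    rw [← hPB]
    exact h0 x hx
  have horth : ∀ i j, i ≠ j → OrthS Qf (D i) (D j) := by
    intro i j hij u hu v hv
    rw [hPB]
    exact hD.decomp.orthogonal i j hij u hu v hv
  have hiso : ∀ i j, ∃ e : D i ≃ₗ[F] D j, ∀ w : D i, Qf ((e w : D j) : ι → F) = Qf (w : ι → F) := by
    intro i j
    obtain ⟨e, he⟩ := hD.isometric i j
    exact ⟨e, fun w => by rw [hQa, hQa]; exact he w⟩
  have hfr : ∀ i, finrank F (D i) = k := hD.decomp.decomp.finrank_eq
  have htop : (Finset.univ : Finset (Fin t)).sup D = ⊤ := by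
    rw [Finset.sup_univ_eq_iSup]
    exact hD.decomp.decomp.iSup_eq_top
  have hgoal : PlusOn Qf ⊤ → IsPlusTypeOn Q ⊤ := by
    rintro ⟨U, hU, hUs, hUd⟩
    exact ⟨U, hU, fun w hw => by rw [← hQa]; exact hUs w hw, hUd⟩
  apply hgoal
  rw [← htop]
  have hpair_sup : ∀ x y : Fin t, ({x, y} : Finset (Fin t)).sup D = D x ⊔ D y := by
    intro x y
    rw [Finset.sup_insert, Finset.sup_singleton]
  rcases h with h4 | ⟨ht, hk⟩ | ⟨ht, c, hc⟩ | hplus
  · -- quadruples
    obtain ⟨r, hr⟩ := h4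
    obtain ⟨α, β, hαβ⟩ := exists_sq_add_sq_eq_neg_one F
    apply plusOn_finsetSup_of_chunks Qf D 4 (by norm_num) hnd horth ?_ r Finset.univ
      (by rw [Finset.card_univ, Fintype.card_fin, hr, mul_comm])
    intro s hs
    obtain ⟨a, s1, ha, rfl, hs1⟩ := Finset.card_eq_succ.mp hs
    obtain ⟨b, s2, hb, rfl, hs2⟩ := Finset.card_eq_succ.mp hs1
    obtain ⟨c, s3, hc, rfl, hs3⟩ := Finset.card_eq_succ.mp hs2
    obtain ⟨d, rfl⟩ := Finset.card_eq_one.mp hs3
    have hab : a ≠ b := fun h => ha (h ▸ Finset.mem_insert_self _ _)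
    have hac : a ≠ c := fun h => ha (h ▸ Finset.mem_insert_of_mem (Finset.mem_insert_self _ _))
    have had : a ≠ d := fun h => ha (h ▸ Finset.mem_insert_of_mem (Finset.mem_insert_of_mem
      (Finset.mem_singleton_self _)))
    have hbc : b ≠ c := fun h => hb (h ▸ Finset.mem_insert_self _ _)
    have hbd : b ≠ d := fun h => hb (h ▸ Finset.mem_insert_of_mem (Finset.mem_singleton_self _))
    have hcd : c ≠ d := fun h => hc (h ▸ Finset.mem_singleton_self _)
    rw [Finset.sup_insert, Finset.sup_insert, Finset.sup_insert, Finset.sup_singleton, ← sup_assoc]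
    obtain ⟨e₁, he₁⟩ := hiso a b
    obtain ⟨e₂, he₂⟩ := hiso a c
    obtain ⟨e₃, he₃⟩ := hiso a d
    exact plusOn_quad Qf (D a) (D b) (D c) (D d) (hnd a) (hnd b) (hnd c) (horth a b hab)
      (horth a c hac) (horth a d had) (horth b c hbc) (horth b d hbd) (horth c d hcd) e₁ e₂ e₃
      he₁ he₂ he₃ α β hαβ
  · -- pairs of even dimension
    obtain ⟨r, hr⟩ := ht
    apply plusOn_finsetSup_of_chunks Qf D 2 (by norm_num) hnd horth ?_ r Finset.univ
      (by rw [Finset.card_univ, Fintype.card_fin, hr]; ring)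
    intro s hs
    obtain ⟨x, y, hxy, rfl⟩ := Finset.card_eq_two.mp hs
    rw [hpair_sup]
    obtain ⟨e, he⟩ := hiso x y
    exact plusOn_pair_of_even Qf (D x) (D y) (hnd x) (hnd y) (horth x y hxy) e he
      (by rw [hfr]; exact hk)
  · -- pairs, `-1` a square
    obtain ⟨r, hr⟩ := ht
    apply plusOn_finsetSup_of_chunks Qf D 2 (by norm_num) hnd horth ?_ r Finset.univ
      (by rw [Finset.card_univ, Fintype.card_fin, hr]; ring)
    intro s hs
    obtain ⟨x, y, hxy, rfl⟩ := Finset.card_eq_two.mp hs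
    rw [hpair_sup]
    obtain ⟨e, he⟩ := hiso x y
    exact plusOn_pair_of_sq Qf (D x) (D y) (hnd x) (horth x y hxy) e he c hc
  · -- blocks of plus type
    apply plusOn_finsetSup_of_chunks Qf D 1 (by norm_num) hnd horth ?_ t Finset.univ
      (by rw [Finset.card_univ, Fintype.card_fin, mul_one])
    intro s hs
    obtain ⟨a, rfl⟩ := Finset.card_eq_one.mp hs
    rw [Finset.sup_singleton]
    obtain ⟨U, hU, hUs, hUd⟩ := hplus a
    exact ⟨U, hU, fun w hw => by rw [hQa]; exact hUs w hw, hUd⟩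

/-- **EO2-T**. -/
theorem plus_of_isometric_decomposition {n : ℕ} (Q : (Fin n → F) → F)
    (hQ : IsNondegenerateQuadraticForm Q) {t : ℕ} (k : ℕ)
    (D : Fin t → Submodule F (Fin n → F)) (hD : IsOrthogonalMDecomposition Q k D)
    (h : 4 ∣ t ∨ (Even t ∧ Even k) ∨ (Even t ∧ ∃ c : F, c * c = -1) ∨ (∀ i, IsPlusTypeOn Q (D i))) :
    IsPlusTypeOn Q ⊤ :=
  plus_of_isometric_decomposition_gen Q hQ k D hD h

end Cfsg.Agent.Lib.H18.EOP2
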