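import Cfsg.Agent.Lib.H13.OES1

/-!
# EO phase 2, task T (helper18): orthogonal sums of isometric blocks, generic part

Bundled quadratic forms on a finite-dimensional space over a finite field: the supremum of a family of pairwise
orthogonal non-degenerate blocks is of plus type as soon as the blocks can be grouped into chunks of plus type; pairs
of isometric blocks when `-1` is a square or the dimension is even; quadruples of isometric blocks.
-/

set_option autoImplicit false
set_option linter.unusedSectionVars false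
set_option linter.unusedVariables false

namespace Cfsg.Agent.Lib.H18.EOP2

open Module
open Cfsg.Agent.Lib.H24.Elus
open Cfsg.Agent.Lib.H13.OSS
open Cfsg.Agent.Lib.H13.OES
open Cfsg.Agent.Lib.H10.OrtNd (PB TS PlusOn PB_apply PB_symm PB_self TS_mono)

section gen

variable {F : Type*} [Field F] {V : Type*} [AddCommGroup V] [Module F V]
variable (Q : QuadraticForm F V)

/-- orthogonal subspaces for the polar form -/
def OrthS (A A' : Submodule F V) : Prop := ∀ u ∈ A, ∀ v ∈ A', PB Q u v = 0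

theorem OrthS.symm {A A' : Submodule F V} (h : OrthS Q A A') : OrthS Q A' A :=
  fun u hu v hv => by rw [PB_symm]; exact h v hv u hu

theorem OrthS.sup_right {A B C : Submodule F V} (h₁ : OrthS Q A B) (h₂ : OrthS Q A C) :
    OrthS Q A (B ⊔ C) := by
  intro u hu v hv
  obtain ⟨b, hb, c, hc, rfl⟩ := Submodule.mem_sup.mp hv
  rw [map_add, h₁ u hu b hb, h₂ u hu c hc, add_zero]

theorem OrthS.sup_left {A B C : Submodule F V} (h₁ : OrthS Q B A) (h₂ : OrthS Q C A) :
    OrthS Q (B ⊔ C) A :=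
  (OrthS.sup_right Q h₁.symm h₂.symm).symm

theorem OrthS.bot_right (A : Submodule F V) : OrthS Q A ⊥ := by
  intro u _ v hv
  rw [(Submodule.mem_bot F).mp hv, map_zero]

theorem Q_add_of_orth {u v : V} (h : PB Q u v = 0) : Q (u + v) = Q u + Q v := by
  rw [Q_add, h, add_zero]

theorem Q_lin2 (a b : F) (x y : V) :
    Q (a • x + b • y) = a * a * Q x + b * b * Q y + a * b * PB Q x y := by
  rw [Q_add, QuadraticMap.map_smul, QuadraticMap.map_smul]
  simp only [map_smul, LinearMap.smul_apply, smul_eq_mul]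
  ring

variable {κ : Type*} [DecidableEq κ] (D : κ → Submodule F V)

theorem orthS_finsetSup_right {A : Submodule F V} (s : Finset κ) (h : ∀ i ∈ s, OrthS Q A (D i)) :
    OrthS Q A (s.sup D) := by
  induction s using Finset.induction_on with
  | empty =>
    rw [Finset.sup_empty]
    exact OrthS.bot_right Q A
  | insert a s ha ih =>
    rw [Finset.sup_insert]
    exact OrthS.sup_right Q (h a (Finset.mem_insert_self a s))
      (ih (fun i hi => h i (Finset.mem_insert_of_mem hi)))

theorem orthS_finsetSup (s s' : Finset κ) (h : ∀ i ∈ s, ∀ j ∈ s', OrthS Q (D i) (D j)) :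
    OrthS Q (s.sup D) (s'.sup D) := by
  apply orthS_finsetSup_right
  intro j hj
  apply OrthS.symm
  apply orthS_finsetSup_right
  intro i hi
  exact (h i hi j hj).symm

theorem ndon_finsetSup (s : Finset κ) (hnd : ∀ i ∈ s, NDon (PB Q) (D i))
    (horth : ∀ i ∈ s, ∀ j ∈ s, i ≠ j → OrthS Q (D i) (D j)) : NDon (PB Q) (s.sup D) := by
  induction s using Finset.induction_on with
  | empty =>
    rw [Finset.sup_empty]
    exact NDon_bot _
  | insert a s ha ih =>
    rw [Finset.sup_insert]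
    apply NDon_supR (PB Q) (PB_refl Q) _ _ (hnd a (Finset.mem_insert_self a s))
    · exact ih (fun i hi => hnd i (Finset.mem_insert_of_mem hi))
        (fun i hi j hj hij => horth i (Finset.mem_insert_of_mem hi) j (Finset.mem_insert_of_mem hj) hij)
    · apply orthS_finsetSup_right
      intro i hi
      exact horth a (Finset.mem_insert_self a s) i (Finset.mem_insert_of_mem hi)
        (fun h => ha (h ▸ hi))

theorem finrank_sup_of_orth [FiniteDimensional F V] (A A' : Submodule F V) (hA : NDon (PB Q) A)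
    (horth : OrthS Q A A') : finrank F ↥(A ⊔ A') = finrank F A + finrank F A' := by
  have h := Submodule.finrank_sup_add_finrank_inf_eq A A'
  rw [inf_eq_bot_of_orthR (PB Q) (PB_refl Q) A A' hA horth, finrank_bot, add_zero] at h
  exact h

theorem plusOn_bot : PlusOn Q (⊥ : Submodule F V) :=
  ⟨⊥, le_rfl, TS_bot Q, by rw [finrank_bot]⟩

/-- grouping into chunks of plus type -/
theorem plusOn_finsetSup_of_chunks [Finite F] [FiniteDimensional F V] (m : ℕ) (hm : 0 < m)
    (hnd : ∀ i, NDon (PB Q) (D i)) (horth : ∀ i j, i ≠ j → OrthS Q (D i) (D j))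
    (hchunk : ∀ c : Finset κ, c.card = m → PlusOn Q (c.sup D)) :
    ∀ (r : ℕ) (s : Finset κ), s.card = r * m → PlusOn Q (s.sup D) := by
  intro r
  induction r with
  | zero =>
    intro s hs
    rw [Nat.zero_mul, Finset.card_eq_zero] at hs
    rw [hs, Finset.sup_empty]
    exact plusOn_bot Q
  | succ r ih =>
    intro s hs
    obtain ⟨c, hcs, hc⟩ := Finset.exists_subset_card_eq (show m ≤ s.card by rw [hs]; nlinarith)
    have hs' : (s \ c).card = r * m := by
      rw [Finset.card_sdiff_of_subset hcs, hs, hc]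
      rw [Nat.succ_mul]
      omega
    have hunion : s = c ∪ (s \ c) := (Finset.union_sdiff_of_subset hcs).symm
    rw [hunion, Finset.sup_union]
    apply PlusOn_sup Q _ _ (ndon_finsetSup Q D c (fun i _ => hnd i) (fun i _ j _ hij => horth i j hij))
    · apply orthS_finsetSup
      intro i hi j hj
      apply horth
      intro hij
      rw [hij] at hi
      exact (Finset.mem_sdiff.mp hj).2 hi
    · exact hchunk c hc
    · exact ih (s \ c) hs'

/-- a totally singular image of half the dimension -/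
theorem plusOn_of_map {M : Type*} [AddCommGroup M] [Module F M] (W : Submodule F V)
    (φ : M →ₗ[F] V) (hinj : Function.Injective φ) (hW : ∀ x, φ x ∈ W) (hQ : ∀ x, Q (φ x) = 0)
    (hdim : 2 * finrank F M = finrank F W) : PlusOn Q W := by
  refine ⟨LinearMap.range φ, ?_, ?_, ?_⟩
  · rintro _ ⟨x, rfl⟩
    exact hW x
  · rintro _ ⟨x, rfl⟩
    exact hQ x
  · rw [LinearMap.finrank_range_of_inj hinj, hdim]

/-- transport of the plus type along an isometry of subspaces -/
theorem plusOn_of_iso (A A' : Submodule F V) (e : A ≃ₗ[F] A')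
    (he : ∀ w : A, Q ((e w : A') : V) = Q (w : V)) (h : PlusOn Q A) : PlusOn Q A' := by
  obtain ⟨U, hUA, hUs, hUd⟩ := h
  refine ⟨((U.comap A.subtype).map (e : A →ₗ[F] A')).map A'.subtype, ?_, ?_, ?_⟩
  · rintro _ ⟨y, -, rfl⟩
    exact y.2
  · rintro _ ⟨_, ⟨x, hx, rfl⟩, rfl⟩
    show Q ((e x : A') : V) = 0
    rw [he]
    exact hUs _ hx
  · have e1 : finrank F (((U.comap A.subtype).map (e : A →ₗ[F] A')).map A'.subtype)
        = finrank F ((U.comap A.subtype).map (e : A →ₗ[F] A')) :=
      LinearEquiv.finrank_eq (Submodule.equivMapOfInjective _ A'.injective_subtype _).symm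
    have e2 : finrank F ((U.comap A.subtype).map (e : A →ₗ[F] A'))
        = finrank F (U.comap A.subtype) :=
      LinearEquiv.finrank_eq (Submodule.equivMapOfInjective _ e.injective _).symm
    have e3 : finrank F (U.comap A.subtype) = finrank F U :=
      LinearEquiv.finrank_eq (Submodule.comapSubtypeEquivOfLe hUA)
    rw [e1, e2, e3, hUd]
    exact LinearEquiv.finrank_eq e

/-- the graph construction: `φ₁`, `φ₂` into orthogonal subspaces with opposite norms -/
theorem plusOn_of_graph [FiniteDimensional F V] {M : Type*} [AddCommGroup M] [Module F M]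
    (A A' : Submodule F V) (hA : NDon (PB Q) A) (horth : OrthS Q A A')
    (φ₁ φ₂ : M →ₗ[F] V) (h₁ : ∀ x, φ₁ x ∈ A) (h₂ : ∀ x, φ₂ x ∈ A') (hinj : Function.Injective φ₁)
    (hQ : ∀ x, Q (φ₁ x) + Q (φ₂ x) = 0) (hdim : 2 * finrank F M = finrank F A + finrank F A') :
    PlusOn Q (A ⊔ A') := by
  apply plusOn_of_map Q (A ⊔ A') (φ₁ + φ₂)
  · rw [injective_iff_map_eq_zero]
    intro x hx
    rw [LinearMap.add_apply] at hx
    have h3 : φ₁ x ∈ A ⊓ A' := by
      refine Submodule.mem_inf.mpr ⟨h₁ x, ?_⟩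
      have : φ₁ x = -φ₂ x := eq_neg_of_add_eq_zero_left hx
      rw [this]
      exact A'.neg_mem (h₂ x)
    rw [inf_eq_bot_of_orthR (PB Q) (PB_refl Q) A A' hA horth, Submodule.mem_bot] at h3
    exact hinj (by rw [h3, map_zero])
  · intro x
    rw [LinearMap.add_apply]
    exact Submodule.add_mem_sup (h₁ x) (h₂ x)
  · intro x
    rw [LinearMap.add_apply, Q_add_of_orth Q (horth _ (h₁ x) _ (h₂ x))]
    exact hQ x
  · rw [hdim, finrank_sup_of_orth Q A A' hA horth]

/-- a pair of isometric orthogonal blocks when `-1` is a square -/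
theorem plusOn_pair_of_sq [FiniteDimensional F V] (A A' : Submodule F V) (hA : NDon (PB Q) A)
    (horth : OrthS Q A A') (e : A ≃ₗ[F] A') (he : ∀ w : A, Q ((e w : A') : V) = Q (w : V))
    (c : F) (hc : c * c = -1) : PlusOn Q (A ⊔ A') := by
  apply plusOn_of_graph Q A A' hA horth A.subtype (c • (A'.subtype ∘ₗ (e : A →ₗ[F] A')))
  · intro x
    exact x.2
  · intro x
    exact A'.smul_mem c (e x).2
  · exact A.injective_subtype
  · intro x
    show Q (x : V) + Q (c • ((e x : A') : V)) = 0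
    rw [QuadraticMap.map_smul, he, hc, smul_eq_mul]
    ring
  · rw [← LinearEquiv.finrank_eq e]
    ring

/-- a pair of isometric orthogonal blocks of even dimension -/
theorem plusOn_pair_of_even [Fintype F] [FiniteDimensional F V] (A A' : Submodule F V)
    (hA : NDon (PB Q) A) (hA' : NDon (PB Q) A')
    (horth : OrthS Q A A') (e : A ≃ₗ[F] A') (he : ∀ w : A, Q ((e w : A') : V) = Q (w : V))
    (hev : Even (finrank F A)) : PlusOn Q (A ⊔ A') := by
  have hev' : Even (finrank F A') := by rwa [← LinearEquiv.finrank_eq e]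
  by_cases hp : PlusOn Q A
  · exact PlusOn_sup Q A A' hA horth hp (plusOn_of_iso Q A A' e he hp)
  · have hp' : ¬ PlusOn Q A' := by
      intro h
      apply hp
      apply plusOn_of_iso Q A' A e.symm _ h
      intro w
      have := he (e.symm w)
      rw [LinearEquiv.apply_symm_apply] at this
      exact this.symm
    exact PlusOn_sup_of_not Q _ A A' rfl hA hA' horth hev hev' hp hp'

/-- a quadruple of isometric pairwise orthogonal blocks, using `α² + β² = -1` -/
theorem plusOn_quad [FiniteDimensional F V] (A B C E : Submodule F V)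
    (hA : NDon (PB Q) A) (hB : NDon (PB Q) B) (hC : NDon (PB Q) C)
    (hAB : OrthS Q A B) (hAC : OrthS Q A C) (hAE : OrthS Q A E) (hBC : OrthS Q B C)
    (hBE : OrthS Q B E) (hCE : OrthS Q C E)
    (e₁ : A ≃ₗ[F] B) (e₂ : A ≃ₗ[F] C) (e₃ : A ≃ₗ[F] E)
    (he₁ : ∀ w : A, Q ((e₁ w : B) : V) = Q (w : V)) (he₂ : ∀ w : A, Q ((e₂ w : C) : V) = Q (w : V))
    (he₃ : ∀ w : A, Q ((e₃ w : E) : V) = Q (w : V))
    (α β : F) (h : α * α + β * β = -1) : PlusOn Q ((A ⊔ B) ⊔ (C ⊔ E)) := by
  obtain ⟨φ₁, hφ₁⟩ : ∃ φ₁ : (A × A) →ₗ[F] V, φ₁ = A.subtype ∘ₗ LinearMap.fst F A A +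
      B.subtype ∘ₗ (e₁ : A →ₗ[F] B) ∘ₗ LinearMap.snd F A A := ⟨_, rfl⟩
  obtain ⟨φ₂, hφ₂⟩ : ∃ φ₂ : (A × A) →ₗ[F] V, φ₂ =
      C.subtype ∘ₗ (e₂ : A →ₗ[F] C) ∘ₗ (α • LinearMap.fst F A A + β • LinearMap.snd F A A) +
      E.subtype ∘ₗ (e₃ : A →ₗ[F] E) ∘ₗ (β • LinearMap.fst F A A + (-α) • LinearMap.snd F A A) :=
    ⟨_, rfl⟩
  have hφ₁a : ∀ x : A × A, φ₁ x = (x.1 : V) + ((e₁ x.2 : B) : V) := by
    intro x
    rw [hφ₁]
    rfl
  have hφ₂a : ∀ x : A × A, φ₂ x = ((e₂ (α • x.1 + β • x.2) : C) : V) +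
      ((e₃ (β • x.1 + (-α) • x.2) : E) : V) := by
    intro x
    rw [hφ₂]
    rfl
  apply plusOn_of_graph Q (A ⊔ B) (C ⊔ E) (NDon_supR (PB Q) (PB_refl Q) A B hA hB hAB)
    (OrthS.sup_left Q (OrthS.sup_right Q hAC hAE) (OrthS.sup_right Q hBC hBE)) φ₁ φ₂
  · intro x
    rw [hφ₁a]
    exact Submodule.add_mem_sup x.1.2 (e₁ x.2).2
  · intro x
    rw [hφ₂a]
    exact Submodule.add_mem_sup (e₂ _).2 (e₃ _).2
  · rw [injective_iff_map_eq_zero]
    intro x hx
    rw [hφ₁a] at hx
    have h3 : (x.1 : V) ∈ A ⊓ B := by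
      refine Submodule.mem_inf.mpr ⟨x.1.2, ?_⟩
      have : (x.1 : V) = -((e₁ x.2 : B) : V) := eq_neg_of_add_eq_zero_left hx
      rw [this]
      exact B.neg_mem (e₁ x.2).2
    rw [inf_eq_bot_of_orthR (PB Q) (PB_refl Q) A B hA hAB, Submodule.mem_bot] at h3
    rw [h3, zero_add] at hx
    have h4 : e₁ x.2 = 0 := Subtype.ext hx
    have h5 : x.2 = 0 := by
      have := e₁.injective (h4.trans (map_zero e₁).symm)
      exact this
    have h6 : x.1 = 0 := Subtype.ext h3
    exact Prod.ext h6 h5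
  · intro x
    rw [hφ₁a, hφ₂a, Q_add_of_orth Q (hAB _ x.1.2 _ (e₁ x.2).2),
      Q_add_of_orth Q (hCE _ (e₂ _).2 _ (e₃ _).2), he₁, he₂, he₃]
    have h7 : ((α • x.1 + β • x.2 : A) : V) = α • (x.1 : V) + β • (x.2 : V) := by
      rw [Submodule.coe_add, Submodule.coe_smul, Submodule.coe_smul]
    have h8 : ((β • x.1 + (-α) • x.2 : A) : V) = β • (x.1 : V) + (-α) • (x.2 : V) := by
      rw [Submodule.coe_add, Submodule.coe_smul, Submodule.coe_smul]
    rw [h7, h8, Q_lin2, Q_lin2]
    linear_combination (Q (x.1 : V) + Q (x.2 : V)) * h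
  · rw [Module.finrank_prod, finrank_sup_of_orth Q A B hA hAB, finrank_sup_of_orth Q C E hC hCE,
      ← LinearEquiv.finrank_eq e₁, ← LinearEquiv.finrank_eq e₂, ← LinearEquiv.finrank_eq e₃]
    ring

end gen

end Cfsg.Agent.Lib.H18.EOP2
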