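import Mathlib

/-!
# S5630 module M8, piece M8-O: indexing of the `H`-conjugates of a subgroup (helper18)
-/

set_option autoImplicit false

namespace Cfsg.Agent.Lib.H18.Asch

theorem conjMap_mul {G : Type*} [Group G] (a b : G) (X : Subgroup G) :
    X.map (MulAut.conj (a * b)).toMonoidHom
      = (X.map (MulAut.conj b).toMonoidHom).map (MulAut.conj a).toMonoidHom := by
  rw [Subgroup.map_map]
  congr 1
  ext x
  simp [mul_assoc]

theorem conjMap_one {G : Type*} [Group G] (X : Subgroup G) :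
    X.map (MulAut.conj (1 : G)).toMonoidHom = X := by
  ext x
  simp

theorem conjMap_injective {G : Type*} [Group G] (a : G) :
    Function.Injective (fun X : Subgroup G => X.map (MulAut.conj a).toMonoidHom) := by
  intro X Y hXY
  have h1 := congrArg (fun W : Subgroup G => W.map (MulAut.conj a⁻¹).toMonoidHom) hXY
  simp only at h1
  rw [← conjMap_mul, ← conjMap_mul, inv_mul_cancel, conjMap_one, conjMap_one] at h1
  exact h1

/-- **M8-O**.  The `H`-conjugates of a subgroup `T` of a finite group, indexed injectively by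
`Fin t`, with the permutation action of `H` on the index set. -/
theorem exists_orbit_indexing {G : Type*} [Group G] [Finite G] (H T : Subgroup G) :
    ∃ (t : ℕ) (S : Fin t → Subgroup G), 0 < t ∧ Function.Injective S ∧
      (∀ i, ∃ h ∈ H, S i = T.map (MulAut.conj h).toMonoidHom) ∧
      (∀ h ∈ H, ∃ i, S i = T.map (MulAut.conj h).toMonoidHom) ∧
      (∀ h ∈ H, ∃ σ : Equiv.Perm (Fin t), ∀ i, (S i).map (MulAut.conj h).toMonoidHom = S (σ i)) ∧
      (∀ i j, ∃ h ∈ H, (S i).map (MulAut.conj h).toMonoidHom = S j) := by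
  classical
  obtain ⟨O, hO⟩ : ∃ O : Set (Subgroup G),
      O = Set.range (fun h : H => T.map (MulAut.conj (h : G)).toMonoidHom) := ⟨_, rfl⟩
  have hOmem : ∀ X : Subgroup G, X ∈ O ↔ ∃ h ∈ H, X = T.map (MulAut.conj h).toMonoidHom := by
    intro X
    rw [hO]
    constructor
    · rintro ⟨h, rfl⟩
      exact ⟨h, h.2, rfl⟩
    · rintro ⟨h, hh, rfl⟩
      exact ⟨⟨h, hh⟩, rfl⟩
  haveI : Finite O := Finite.of_injective (fun X : O => (X : Subgroup G)) Subtype.val_injective
  have hTO : T ∈ O := (hOmem T).2 ⟨1, H.one_mem, (conjMap_one T).symm⟩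
  haveI : Nonempty O := ⟨⟨T, hTO⟩⟩
  have e : O ≃ Fin (Nat.card O) := Finite.equivFin O
  have hstab : ∀ h ∈ H, ∀ X ∈ O, X.map (MulAut.conj h).toMonoidHom ∈ O := by
    intro h hh X hX
    obtain ⟨h', hh', rfl⟩ := (hOmem X).1 hX
    rw [hOmem]
    exact ⟨h * h', H.mul_mem hh hh', (conjMap_mul h h' T).symm⟩
  refine ⟨Nat.card O, fun i => ((e.symm i : O) : Subgroup G), Nat.card_pos, ?_, ?_, ?_, ?_, ?_⟩
  · intro i j hij
    exact e.symm.injective (Subtype.ext hij)
  · intro i
    exact (hOmem _).1 (e.symm i).2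
  · intro h hh
    refine ⟨e ⟨T.map (MulAut.conj h).toMonoidHom, (hOmem _).2 ⟨h, hh, rfl⟩⟩, ?_⟩
    dsimp only
    rw [Equiv.symm_apply_apply]
  · intro h hh
    have hinj : Function.Injective
        (fun X : O => (⟨(X : Subgroup G).map (MulAut.conj h).toMonoidHom,
          hstab h hh X X.2⟩ : O)) := by
      intro X Y hXY
      have := congrArg Subtype.val hXY
      exact Subtype.ext (conjMap_injective h this)
    have hbij := Finite.injective_iff_bijective.1 hinj
    refine ⟨(e.symm.trans (Equiv.ofBijective _ hbij)).trans e, ?_⟩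
    intro i
    simp only [Equiv.trans_apply, Equiv.symm_apply_apply, Equiv.ofBijective_apply]
  · intro i j
    obtain ⟨h1, hh1, hS1⟩ := (hOmem _).1 (e.symm i).2
    obtain ⟨h2, hh2, hS2⟩ := (hOmem _).1 (e.symm j).2
    refine ⟨h2 * h1⁻¹, H.mul_mem hh2 (H.inv_mem hh1), ?_⟩
    dsimp only
    rw [hS1, hS2, ← conjMap_mul, inv_mul_cancel_right]

end Cfsg.Agent.Lib.H18.Asch
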