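import Mathlib

/-!
# S5630 module M8, piece M8-Q: the correspondence theorem in the form needed (helper18)
-/

set_option autoImplicit false

namespace Cfsg.Agent.Lib.H18.Asch

/-- **M8-Q**.  If every subgroup `K` of `L` that contains `L ⊓ Z` and is normalised by `L` is either
inside `Z` or all of `L`, and `L` is not inside `Z`, then `L / (L ∩ Z)` is a simple group. -/
theorem isSimpleGroup_quotient_of_minimal {G : Type*} [Group G] (L Z : Subgroup G) [Z.Normal]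
    (hne : ¬ L ≤ Z)
    (h : ∀ K : Subgroup G, K ≤ L → L ⊓ Z ≤ K → (∀ x ∈ L, ∀ k ∈ K, x * k * x⁻¹ ∈ K) →
      K ≤ Z ∨ K = L) :
    IsSimpleGroup (L ⧸ Z.subgroupOf L) := by
  haveI hnt : Nontrivial (L ⧸ Z.subgroupOf L) := by
    obtain ⟨x, hxL, hxZ⟩ := Set.not_subset.1 hne
    refine ⟨⟨((⟨x, hxL⟩ : L) : L ⧸ Z.subgroupOf L), 1, ?_⟩⟩
    intro h1
    rw [QuotientGroup.eq_one_iff, Subgroup.mem_subgroupOf] at h1
    exact hxZ h1
  refine ⟨fun Kb hKb => ?_⟩
  obtain ⟨K, hK⟩ : ∃ K : Subgroup G,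
      K = (Kb.comap (QuotientGroup.mk' (Z.subgroupOf L))).map L.subtype := ⟨_, rfl⟩
  have hmem : ∀ y : L, (y : G) ∈ K ↔ (y : L ⧸ Z.subgroupOf L) ∈ Kb := by
    intro y
    rw [hK]
    constructor
    · rintro ⟨y', hy', hyy'⟩
      have : y' = y := Subtype.ext hyy'
      rw [← this]
      exact hy'
    · intro hy
      exact ⟨y, hy, rfl⟩
  have hKL : K ≤ L := by
    rw [hK]
    exact Subgroup.map_subtype_le _
  have hLZ : L ⊓ Z ≤ K := by
    intro y hy
    have hyL : y ∈ L := hy.1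
    have : ((⟨y, hyL⟩ : L) : G) ∈ K := by
      rw [hmem]
      have h1 : ((⟨y, hyL⟩ : L) : L ⧸ Z.subgroupOf L) = 1 := by
        rw [QuotientGroup.eq_one_iff, Subgroup.mem_subgroupOf]
        exact hy.2
      rw [h1]
      exact Kb.one_mem
    exact this
  have hnorm : ∀ x ∈ L, ∀ k ∈ K, x * k * x⁻¹ ∈ K := by
    intro x hx k hk
    have hkL : k ∈ L := hKL hk
    have h1 : ((⟨k, hkL⟩ : L) : L ⧸ Z.subgroupOf L) ∈ Kb := (hmem ⟨k, hkL⟩).1 hk
    have h2 : (((⟨x, hx⟩ : L) * ⟨k, hkL⟩ * (⟨x, hx⟩ : L)⁻¹ : L) : L ⧸ Z.subgroupOf L) ∈ Kb := by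
      rw [QuotientGroup.mk_mul, QuotientGroup.mk_mul, QuotientGroup.mk_inv]
      exact hKb.conj_mem _ h1 _
    exact (hmem _).2 h2
  rcases h K hKL hLZ hnorm with hZ | hL
  · left
    rw [eq_bot_iff]
    intro q hq
    obtain ⟨y, rfl⟩ := QuotientGroup.mk_surjective q
    have hyK : (y : G) ∈ K := (hmem y).2 hq
    rw [Subgroup.mem_bot, QuotientGroup.eq_one_iff, Subgroup.mem_subgroupOf]
    exact hZ hyK
  · right
    rw [eq_top_iff]
    intro q _
    obtain ⟨y, rfl⟩ := QuotientGroup.mk_surjective q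
    apply (hmem y).1
    rw [hL]
    exact y.2

end Cfsg.Agent.Lib.H18.Asch
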