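import Mathlib

/-!
helper18 library (for S4484, part (X3)): in a nonabelian simple group a nontrivial isometric
representation is injective and no element `y ≠ 1` acts as a scalar.
-/

set_option autoImplicit false

namespace Cfsg.Agent.Lib.H18.B60

variable {G : Type*} [Group G] {E : Type*} [NormedAddCommGroup E] [InnerProductSpace ℂ E]

/-- A nontrivial homomorphism from a simple group is injective. -/
theorem injective_of_nontrivial [IsSimpleGroup G] {H : Type*} [Group H] (R : G →* H)
    (hR : ∃ g, R g ≠ 1) : Function.Injective R := by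
  rw [← MonoidHom.ker_eq_bot_iff]
  rcases (MonoidHom.normal_ker R).eq_bot_or_eq_top with h | h
  · exact h
  · exfalso
    obtain ⟨g, hg⟩ := hR
    apply hg
    have : g ∈ R.ker := by rw [h]; exact Subgroup.mem_top g
    exact MonoidHom.mem_ker.1 this

/-- (X3) scalar case: in a nonabelian simple group, an element acting as a scalar in an injective
representation is trivial. -/
theorem eq_one_of_scalar [IsSimpleGroup G] (hnc : ¬ ∀ a b : G, a * b = b * a)
    (R : G →* (E ≃ₗᵢ[ℂ] E)) (hinj : Function.Injective R) (y : G) (ε : ℂ)
    (hscal : ∀ v, R y v = ε • v) : y = 1 := by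
  by_contra hy
  have hcen : y ∈ Subgroup.center G := by
    rw [Subgroup.mem_center_iff]
    intro g
    apply hinj
    ext v
    rw [map_mul, map_mul, LinearIsometryEquiv.coe_mul, LinearIsometryEquiv.coe_mul,
      Function.comp_apply, Function.comp_apply, hscal, hscal, map_smul]
  have hnormal : (Subgroup.center G).Normal := inferInstance
  rcases hnormal.eq_bot_or_eq_top with h | h
  · rw [h, Subgroup.mem_bot] at hcen
    exact hy hcen
  · apply hnc
    intro a b
    have ha : a ∈ Subgroup.center G := by rw [h]; exact Subgroup.mem_top a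
    exact ((Subgroup.mem_center_iff.1 ha) b).symm

/-- (X3) in the eigenspace form: if the eigenspace of `R y` for `ε` is everything then `y = 1`. -/
theorem eq_one_of_eigenspace_top [IsSimpleGroup G] (hnc : ¬ ∀ a b : G, a * b = b * a)
    (R : G →* (E ≃ₗᵢ[ℂ] E)) (hinj : Function.Injective R) (y : G) (ε : ℂ)
    (htop : Module.End.eigenspace ((R y).toLinearEquiv : E →ₗ[ℂ] E) ε = ⊤) : y = 1 := by
  apply eq_one_of_scalar hnc R hinj y ε
  intro v
  have hv : v ∈ Module.End.eigenspace ((R y).toLinearEquiv : E →ₗ[ℂ] E) ε := by
    rw [htop]; exact Submodule.mem_top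
  exact Module.End.mem_eigenspace_iff.1 hv

end Cfsg.Agent.Lib.H18.B60
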