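import Mathlib

/-!
helper18 library (for S4484, part (A)): pieces (A0) and (A0').
-/

set_option autoImplicit false

namespace Cfsg.Agent.Lib.H18.BB

/-- (A0) a central element of order `p` of a Sylow `p`-subgroup: its class has size prime to `p`. -/
theorem exists_central_elt {G : Type*} [Group G] [Finite G] {p : ℕ} (hp : p.Prime)
    (hpG : p ∣ Nat.card G) :
    ∃ x : G, orderOf x = p ∧ ¬ p ∣ (Subgroup.centralizer ({x} : Set G)).index := by
  haveI : Fact p.Prime := ⟨hp⟩
  obtain ⟨P⟩ : Nonempty (Sylow p G) := inferInstance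
  have hPne : (P : Subgroup G) ≠ ⊥ := P.ne_bot_of_dvd_card hpG
  haveI : Nontrivial (P : Subgroup G) := (Subgroup.nontrivial_iff_ne_bot _).mpr hPne
  haveI hZnt : Nontrivial (Subgroup.center (P : Subgroup G)) := P.isPGroup'.center_nontrivial
  have hZp : IsPGroup p (Subgroup.center (P : Subgroup G)) := P.isPGroup'.to_subgroup _
  obtain ⟨n, hn⟩ := IsPGroup.iff_card.1 hZp
  have hn0 : n ≠ 0 := by
    rintro rfl
    rw [pow_zero] at hn
    have := (Nat.card_eq_one_iff_unique.1 hn).1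
    exact not_subsingleton _ this
  have hdvd : p ∣ Nat.card (Subgroup.center (P : Subgroup G)) := by
    rw [hn]; exact dvd_pow_self p hn0
  obtain ⟨z', hz'⟩ := exists_prime_orderOf_dvd_card' p hdvd
  refine ⟨((z' : (P : Subgroup G)) : G), ?_, ?_⟩
  · rw [Subgroup.orderOf_coe, Subgroup.orderOf_coe, hz']
  · have hle : (P : Subgroup G) ≤ Subgroup.centralizer ({((z' : (P : Subgroup G)) : G)} : Set G) := by
      intro x hx
      rw [Subgroup.mem_centralizer_iff]
      intro y hy
      rw [Set.mem_singleton_iff] at hy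
      rw [hy]
      have := (Subgroup.mem_center_iff.mp z'.2) ⟨x, hx⟩
      exact (congrArg (Subtype.val) this).symm
    have hd : (Subgroup.centralizer ({((z' : (P : Subgroup G)) : G)} : Set G)).index ∣
        (P : Subgroup G).index := Subgroup.index_dvd_of_le hle
    exact fun h => P.not_dvd_index (h.trans hd)

/-- (A0') arithmetic: a divisor `m` of `p^a q^b g₀` prime to `p` is `q^β e` with `q ∤ e`,
`e ∣ g₀`. -/
theorem index_split {p q a b g₀ m : ℕ} (hp : p.Prime) (hq : q.Prime)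
    (hm : m ∣ p ^ a * q ^ b * g₀) (hpm : ¬ p ∣ m) :
    ∃ β e : ℕ, m = q ^ β * e ∧ ¬ q ∣ e ∧ e ∣ g₀ := by
  have hm0 : m ≠ 0 := by
    rintro rfl
    exact hpm (dvd_zero p)
  have hcop : Nat.Coprime m (p ^ a) :=
    Nat.Coprime.pow_right a ((Nat.Prime.coprime_iff_not_dvd hp).mpr hpm).symm
  have hm2 : m ∣ q ^ b * g₀ := by
    rw [mul_assoc] at hm
    exact hcop.dvd_of_dvd_mul_left hm
  obtain ⟨β, e, hqe, hme⟩ := Nat.exists_eq_pow_mul_and_not_dvd hm0 q hq.ne_one
  refine ⟨β, e, hme, hqe, ?_⟩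
  have he : e ∣ q ^ b * g₀ := Dvd.dvd.trans (Dvd.intro_left _ hme.symm) hm2
  have hcop2 : Nat.Coprime e (q ^ b) :=
    Nat.Coprime.pow_right b ((Nat.Prime.coprime_iff_not_dvd hq).mpr hqe).symm
  exact hcop2.dvd_of_dvd_mul_left he

end Cfsg.Agent.Lib.H18.BB
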