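import Mathlib
import Cfsg.Prelude.Def_Blocks
import Cfsg.Prelude.Def_Characters
import Cfsg.Agent.Lib.H23.BlockLocal

/-!
helper18 library (for S4484, part (A)): piece (A5pre).
-/

set_option autoImplicit false

namespace Cfsg.Agent.Lib.H18.BB

open Cfsg Cfsg.Agent.Lib.H23

/-- (A5pre) principal block: `χ(x)/χ(1) ≡ 1 (mod M)` when `|cl(x)|` is prime to `p`. -/
theorem principal_congr {G : Type*} [Group G] [Finite G] {p : ℕ} {M : Ideal AlgInt}
    (hM : IsPModular p M) (χ : IrrCharacter G) (hχ : χ ∈ principalBlock M G) (x : G)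
    (hx : ¬ p ∣ (Subgroup.centralizer ({x} : Set G)).index) :
    MemLocalIdeal M ((χ : G → ℂ) x / (χ : G → ℂ) 1 - 1) := by
  haveI := isPrime_of_isPModular hM
  have h1 : MemLocalIdeal M (centralChar (fun _ : G => (1 : ℂ)) x - centralChar (χ : G → ℂ) x) :=
    hχ x
  set idx : ℕ := (Subgroup.centralizer ({x} : Set G)).index with hidx
  have hidx0 : (idx : ℂ) ≠ 0 := by
    intro h0
    have : idx = 0 := by exact_mod_cast h0
    exact hx (this ▸ dvd_zero p)
  have hinv : MemLocalRing M (-((idx : ℂ)⁻¹)) := memLocalRing_neg (memLocalRing_inv_natCast hM hx)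
  have h2 := memLocalIdeal_mul_left hinv h1
  have e : -((idx : ℂ)⁻¹) * (centralChar (fun _ : G => (1 : ℂ)) x - centralChar (χ : G → ℂ) x)
      = (χ : G → ℂ) x / (χ : G → ℂ) 1 - 1 := by
    unfold centralChar
    rw [← hidx]
    field_simp
    ring
  rw [e] at h2
  exact h2

end Cfsg.Agent.Lib.H18.BB
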