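import Mathlib

/-!
helper18 library (for S4640): (DUAL) the dual group `A →* ℂˣ` of a finite abelian group: cardinality and the
orthogonality relation `∑ λ, λ a = |A| [a = 1]`; the same for an abelian quotient `G ⧸ N`.  PURE (Mathlib only).
-/

set_option autoImplicit false

namespace Cfsg.Agent.Lib.H18.BK

section Dual

variable (A : Type*) [CommGroup A] [Finite A]

theorem card_dual : Nat.card (A →* ℂˣ) = Nat.card A := by
  have : NeZero (Monoid.exponent A) := ⟨Monoid.exponent_ne_zero_of_finite⟩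
  exact CommGroup.card_monoidHom_of_hasEnoughRootsOfUnity A ℂ

variable {A}

theorem exists_dual_apply_ne_one {a : A} (ha : a ≠ 1) : ∃ φ : A →* ℂˣ, φ a ≠ 1 := by
  have : NeZero (Monoid.exponent A) := ⟨Monoid.exponent_ne_zero_of_finite⟩
  exact CommGroup.exists_apply_ne_one_of_hasEnoughRootsOfUnity A ℂ ha

/-- orthogonality: `∑ λ, λ a = |A|` if `a = 1`, and `0` otherwise. -/
theorem sum_dual_apply [Fintype (A →* ℂˣ)] (a : A) [Decidable (a = 1)] :
    ∑ φ : A →* ℂˣ, ((φ a : ℂˣ) : ℂ) = if a = 1 then (Nat.card A : ℂ) else 0 := by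
  classical
  split_ifs with ha
  · subst ha
    simp only [map_one, Units.val_one, Finset.sum_const, Finset.card_univ, nsmul_eq_mul, mul_one]
    rw [← card_dual A, Nat.card_eq_fintype_card]
  · obtain ⟨ψ, hψ⟩ := exists_dual_apply_ne_one ha
    have h1 : ∑ φ : A →* ℂˣ, ((φ a : ℂˣ) : ℂ) = ((ψ a : ℂˣ) : ℂ) * ∑ φ : A →* ℂˣ, ((φ a : ℂˣ) : ℂ) := by
      rw [Finset.mul_sum]
      refine (Fintype.sum_equiv (Equiv.mulLeft ψ) _ _ ?_).symm
      intro φ
      simp only [Equiv.coe_mulLeft, MonoidHom.mul_apply, Units.val_mul]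
    have h2 : (1 - ((ψ a : ℂˣ) : ℂ)) * ∑ φ : A →* ℂˣ, ((φ a : ℂˣ) : ℂ) = 0 := by
      rw [sub_mul, one_mul, ← h1, sub_self]
    rcases mul_eq_zero.1 h2 with h | h
    · exfalso
      apply hψ
      have h3 : ((ψ a : ℂˣ) : ℂ) = 1 := (sub_eq_zero.1 h).symm
      exact Units.ext h3
    · exact h

theorem finsum_dual_apply (a : A) [Decidable (a = 1)] :
    ∑ᶠ φ : A →* ℂˣ, ((φ a : ℂˣ) : ℂ) = if a = 1 then (Nat.card A : ℂ) else 0 := by
  have := Fintype.ofFinite (A →* ℂˣ)
  rw [finsum_eq_sum_of_fintype]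
  exact sum_dual_apply a

end Dual

section Quot

variable {G : Type*} [Group G] [Finite G] (N : Subgroup G) [hN : N.Normal]

/-- the commutative group structure on an abelian quotient (same multiplication). -/
@[reducible] def quotCommGroup (hab : ∀ a b : G, a * b * a⁻¹ * b⁻¹ ∈ N) : CommGroup (G ⧸ N) :=
  { (inferInstance : Group (G ⧸ N)) with
    mul_comm := by
      intro x y
      induction x using QuotientGroup.induction_on with
      | H a =>
        induction y using QuotientGroup.induction_on with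
        | H b =>
          rw [← QuotientGroup.mk_mul, ← QuotientGroup.mk_mul, QuotientGroup.eq]
          have h := hab b⁻¹ a⁻¹
          have e : (a * b)⁻¹ * (b * a) = b⁻¹ * a⁻¹ * b⁻¹⁻¹ * a⁻¹⁻¹ := by group
          rw [e]
          exact h }

theorem card_quot_dual (hab : ∀ a b : G, a * b * a⁻¹ * b⁻¹ ∈ N) :
    Nat.card (G ⧸ N →* ℂˣ) = N.index := by
  letI := quotCommGroup N hab
  rw [Subgroup.index_eq_card]
  exact card_dual (G ⧸ N)

theorem finsum_quot_dual_apply (hab : ∀ a b : G, a * b * a⁻¹ * b⁻¹ ∈ N) (g : G) [Decidable (g ∈ N)] :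
    ∑ᶠ φ : G ⧸ N →* ℂˣ, ((φ (g : G ⧸ N) : ℂˣ) : ℂ) = if g ∈ N then (N.index : ℂ) else 0 := by
  classical
  letI := quotCommGroup N hab
  have h := finsum_dual_apply (A := G ⧸ N) (g : G ⧸ N)
  rw [h, Subgroup.index_eq_card]
  by_cases hg : g ∈ N
  · rw [if_pos hg, if_pos ((QuotientGroup.eq_one_iff g).2 hg)]
  · rw [if_neg hg, if_neg (fun h1 => hg ((QuotientGroup.eq_one_iff g).1 h1))]

end Quot

end Cfsg.Agent.Lib.H18.BK
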