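import Mathlib
import Cfsg.Prelude.Def_Characters
import Cfsg.Agent.Lib.L0.CharBasic
import Cfsg.Agent.Lib.L0.CharOps
import Cfsg.Agent.Lib.H24.CharLinearMul
import Cfsg.Agent.Lib.H18.BKDUAL

/-!
helper18 library (for S4640): (TW) twist counting.  `N ⊴ G` finite with `G ⧸ N` abelian:
`⟨χ|N, χ'|N⟩_N = ∑_{λ ∈ Hom(G/N, ℂˣ)} ⟨χ λ, χ'⟩_G`, and the corollary: an irreducible `χ` that is fixed by no
nontrivial twist restricts irreducibly to `N`.
-/

set_option autoImplicit false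

namespace Cfsg.Agent.Lib.H18.BK

open scoped ComplexConjugate

variable {G : Type*} [Group G] [Fintype G] (N : Subgroup G) [hN : N.Normal]

/-- the twist of a function by a linear character of `G ⧸ N`. -/
noncomputable def twist (φ : G ⧸ N →* ℂˣ) (f : G → ℂ) : G → ℂ :=
  fun g => f g * ((φ (g : G ⧸ N) : ℂˣ) : ℂ)

theorem twist_apply (φ : G ⧸ N →* ℂˣ) (f : G → ℂ) (g : G) :
    twist N φ f g = f g * ((φ (g : G ⧸ N) : ℂˣ) : ℂ) := rfl

theorem twist_one (f : G → ℂ) : twist N (1 : G ⧸ N →* ℂˣ) f = f := by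
  funext g
  simp [twist]

theorem twist_apply_of_mem (φ : G ⧸ N →* ℂˣ) (f : G → ℂ) {n : G} (hn : n ∈ N) :
    twist N φ f n = f n := by
  rw [twist_apply, (QuotientGroup.eq_one_iff n).2 hn, map_one, Units.val_one, mul_one]

/-- the homomorphism `G →* ℂˣ` of a linear character of `G ⧸ N`. -/
noncomputable def liftHom (φ : G ⧸ N →* ℂˣ) : G →* ℂˣ := φ.comp (QuotientGroup.mk' N)

theorem twist_eq_mul_hom (φ : G ⧸ N →* ℂˣ) (f : G → ℂ) :
    twist N φ f = fun g => f g * ((liftHom N φ g : ℂˣ) : ℂ) := rfl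

theorem isIrrCharacter_twist (φ : G ⧸ N →* ℂˣ) {χ : G → ℂ} (hχ : Cfsg.IsIrrCharacter G χ) :
    Cfsg.IsIrrCharacter G (twist N φ χ) :=
  Cfsg.Agent.Lib.H24.isIrrCharacter_mul_hom χ hχ (liftHom N φ)

/-- sum over `N` of a function on `G`, as a sum over `G` -/
theorem sum_subgroup_eq [Fintype N] [DecidablePred (· ∈ N)] (F : G → ℂ) :
    ∑ n : N, F n = ∑ g : G, if g ∈ N then F g else 0 := by
  rw [← Finset.sum_filter]
  refine Finset.sum_bij (fun (n : N) _ => (n : G)) ?_ ?_ ?_ ?_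
  · intro n _
    simp
  · intro a _ b _ hab
    exact Subtype.ext hab
  · intro g hg
    rw [Finset.mem_filter] at hg
    exact ⟨⟨g, hg.2⟩, Finset.mem_univ _, rfl⟩
  · intro n _
    rfl

/-- **(TW)** twist counting. -/
theorem classInner_restrict_eq_finsum_twist [Fintype N]
    (hab : ∀ a b : G, a * b * a⁻¹ * b⁻¹ ∈ N) (f f' : G → ℂ) :
    Cfsg.classInner (fun n : N => f n) (fun n : N => f' n) =
      ∑ᶠ φ : G ⧸ N →* ℂˣ, Cfsg.classInner (twist N φ f) f' := by
  classical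
  have hfin : Finite (G ⧸ N →* ℂˣ) := by
    letI := quotCommGroup N hab
    infer_instance
  have := Fintype.ofFinite (G ⧸ N →* ℂˣ)
  rw [finsum_eq_sum_of_fintype]
  unfold Cfsg.classInner
  rw [← Finset.mul_sum, Finset.sum_comm]
  have h1 : ∀ g : G, ∑ φ : G ⧸ N →* ℂˣ, twist N φ f g * conj (f' g) =
      if g ∈ N then (N.index : ℂ) * (f g * conj (f' g)) else 0 := by
    intro g
    have h2 : ∀ φ : G ⧸ N →* ℂˣ, twist N φ f g * conj (f' g) =
        (f g * conj (f' g)) * ((φ (g : G ⧸ N) : ℂˣ) : ℂ) := by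
      intro φ
      rw [twist_apply]
      ring
    rw [Finset.sum_congr rfl (fun φ _ => h2 φ), ← Finset.mul_sum, ← finsum_eq_sum_of_fintype,
      finsum_quot_dual_apply N hab g]
    split_ifs
    · ring
    · ring
  rw [Finset.sum_congr rfl (fun g _ => h1 g), sum_subgroup_eq N (fun g => f g * conj (f' g))]
  have h3 : ∀ g : G, (if g ∈ N then (N.index : ℂ) * (f g * conj (f' g)) else 0) =
      (N.index : ℂ) * (if g ∈ N then f g * conj (f' g) else 0) := by
    intro g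
    split_ifs
    · rfl
    · rw [mul_zero]
  rw [Finset.sum_congr rfl (fun g _ => h3 g), ← Finset.mul_sum, ← mul_assoc]
  congr 1
  have hcard : (Nat.card G : ℂ) = (Nat.card N : ℂ) * (N.index : ℂ) := by
    rw [← Nat.cast_mul, Subgroup.card_mul_index]
  have hN0 : (Nat.card N : ℂ) ≠ 0 := Nat.cast_ne_zero.2 Nat.card_pos.ne'
  have hi0 : (N.index : ℂ) ≠ 0 := Nat.cast_ne_zero.2 (Subgroup.index_ne_zero_of_finite)
  rw [hcard]
  field_simp

/-- an irreducible character fixed by no nontrivial twist of `G ⧸ N` restricts irreducibly to `N`. -/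
theorem isIrrCharacter_restrict_of_twist_ne [Fintype N]
    (hab : ∀ a b : G, a * b * a⁻¹ * b⁻¹ ∈ N) {χ : G → ℂ} (hχ : Cfsg.IsIrrCharacter G χ)
    (htw : ∀ φ : G ⧸ N →* ℂˣ, φ ≠ 1 → twist N φ χ ≠ χ) :
    Cfsg.IsIrrCharacter N (fun n : N => χ n) := by
  classical
  have hfin : Finite (G ⧸ N →* ℂˣ) := by
    letI := quotCommGroup N hab
    infer_instance
  have := Fintype.ofFinite (G ⧸ N →* ℂˣ)
  apply Cfsg.Agent.Lib.L0.isIrrCharacter_of_classInner_self_eq_one
    (Cfsg.Agent.Lib.L0.isCharacter_restrict N (Cfsg.Agent.Lib.L0.isCharacter_of_irr hχ))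
  rw [classInner_restrict_eq_finsum_twist N hab χ χ, finsum_eq_sum_of_fintype,
    Finset.sum_eq_single (1 : G ⧸ N →* ℂˣ)]
  · rw [twist_one]
    exact Cfsg.Agent.Lib.L0.irr_classInner_self hχ
  · intro φ _ hφ
    exact Cfsg.Agent.Lib.L0.irr_classInner_ne (isIrrCharacter_twist N φ hχ) hχ (htw φ hφ)
  · intro h
    exact absurd (Finset.mem_univ _) h

end Cfsg.Agent.Lib.H18.BK
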