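import Mathlib
import Cfsg.Agent.Lib.H8.BQ0

/-!
# S4719 Part II, piece G7 (helper18): an invariant subgroup with a central Sylow 2-subgroup is a 2-group when `O(G) = 1`

`T ≤ X` central of odd index `m`: the transfer `X → Z(X)` through `T` is `x ↦ x ^ m`; its kernel
`Y = {x ∈ X | x ^ m = 1}` has odd order and is invariant under `N_Γ(X)`, so `Y = ⊥` by `OddFree`; then every element of
`X` is killed by `|T|`, so `X` is a 2-group and `m = 1`.
-/

set_option autoImplicit false

universe u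

namespace Cfsg.Agent.Lib.H18.BQ

open Subgroup Cfsg.Agent.Lib.H8.BQ

open scoped IsMulCommutative in
/-- G7. -/
theorem eq_of_central_sylow {Γ : Type u} [Group Γ] [Finite Γ] (G V X T : Subgroup Γ)
    (hfree : OddFree G V) (hXG : X ≤ G) (hGX : G ≤ normalizer (X : Set Γ))
    (hVX : V ≤ normalizer (X : Set Γ)) (hTX : T ≤ X) (hT : IsPGroup 2 T)
    (hidx : ¬ 2 ∣ Nat.card X / Nat.card T) (hTc : T ≤ centralizer (X : Set Γ)) :
    X = T := by
  classical
  obtain ⟨m, hm⟩ : ∃ m : ℕ, m = Nat.card X / Nat.card T := ⟨_, rfl⟩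
  rw [← hm] at hidx
  have hcard : Nat.card T * m = Nat.card X := by
    rw [hm]
    exact Nat.mul_div_cancel' (card_dvd_of_le hTX)
  -- `T' = T ∩ X` inside `X` is central
  have hT'c : T.subgroupOf X ≤ center X := by
    intro t ht
    rw [mem_center_iff]
    intro g
    apply Subtype.ext
    have := (mem_centralizer_iff.1 (hTc (mem_subgroupOf.1 ht))) g g.2
    simpa using this
  have hidx' : (T.subgroupOf X).index = m := by
    have h1 : Nat.card (T.subgroupOf X) * (T.subgroupOf X).index = Nat.card X :=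
      (T.subgroupOf X).card_mul_index
    have h2 : Nat.card (T.subgroupOf X) = Nat.card T :=
      Nat.card_congr (subgroupOfEquivOfLe hTX).toEquiv
    rw [h2] at h1
    have hpos : 0 < Nat.card T := Nat.card_pos
    exact Nat.eq_of_mul_eq_mul_left hpos (h1.trans hcard.symm)
  -- the transfer
  let φ : T.subgroupOf X →* center X := Subgroup.inclusion hT'c
  let f := MonoidHom.transfer φ
  have hkey : ∀ (g : X) (k : ℕ) (g₀ : X), g₀⁻¹ * g ^ k * g₀ ∈ T.subgroupOf X →
      g₀⁻¹ * g ^ k * g₀ = g ^ k := by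
    intro g k g₀ h
    have hc := hT'c h
    rw [mem_center_iff] at hc
    have h1 := hc g₀
    have h2 : g₀ * (g₀⁻¹ * g ^ k * g₀) = g ^ k * g₀ := by group
    rw [h1] at h2
    exact mul_right_cancel h2
  have hf : ∀ g : X, ((f g : center X) : X) = g ^ m := by
    intro g
    have h1 := MonoidHom.transfer_eq_pow φ g (hkey g)
    show ((MonoidHom.transfer φ g : center X) : X) = g ^ m
    rw [h1, ← hidx']
    rfl
  -- the kernel, as a subgroup of `Γ`
  obtain ⟨Y, hYdef⟩ : ∃ Y : Subgroup Γ, Y = f.ker.map X.subtype := ⟨_, rfl⟩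
  have hYmem : ∀ y : Γ, y ∈ Y ↔ y ∈ X ∧ y ^ m = 1 := by
    intro y
    rw [hYdef]
    constructor
    · rintro ⟨x, hx, rfl⟩
      refine ⟨x.2, ?_⟩
      have h1 : f x = 1 := hx
      have h2 : ((f x : center X) : X) = 1 := by rw [h1]; rfl
      rw [hf] at h2
      have := congrArg Subtype.val h2
      simpa using this
    · rintro ⟨hyX, hym⟩
      refine ⟨⟨y, hyX⟩, ?_, rfl⟩
      show f ⟨y, hyX⟩ = 1
      apply Subtype.ext
      rw [hf]
      apply Subtype.ext
      simpa using hym
  have hnorm : normalizer (X : Set Γ) ≤ normalizer (Y : Set Γ) := by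
    intro n hn
    rw [mem_normalizer_iff]
    intro y
    rw [hYmem, hYmem]
    have hn' := mem_normalizer_iff.1 hn
    constructor
    · rintro ⟨hyX, hym⟩
      refine ⟨(hn' y).1 hyX, ?_⟩
      rw [conj_pow, hym]
      group
    · rintro ⟨hyX, hym⟩
      refine ⟨(hn' y).2 hyX, ?_⟩
      rw [conj_pow] at hym
      have h1 : y ^ m = n⁻¹ * (n * y ^ m * n⁻¹) * n := by group
      rw [h1, hym]
      group
  have hYodd : Odd (Nat.card Y) := by
    rw [← Nat.not_even_iff_odd, even_iff_two_dvd]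
    intro h2
    haveI : Fact (Nat.Prime 2) := ⟨Nat.prime_two⟩
    obtain ⟨y, hy⟩ := exists_prime_orderOf_dvd_card' (G := Y) 2 h2
    have hy' : orderOf (y : Γ) = 2 := by rw [Subgroup.orderOf_coe]; exact hy
    have h3 := ((hYmem y).1 y.2).2
    have hdvd := orderOf_dvd_of_pow_eq_one h3
    rw [hy'] at hdvd
    exact hidx hdvd
  have hYbot : Y = ⊥ :=
    hfree Y (fun y hy => hXG ((hYmem y).1 hy).1) hYodd (hGX.trans hnorm) (hVX.trans hnorm)
  obtain ⟨i, hi⟩ := IsPGroup.iff_card.1 hT
  have hX2 : IsPGroup 2 X := by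
    intro x
    refine ⟨i, ?_⟩
    have h1 : ((x : Γ) ^ 2 ^ i) ∈ Y := by
      rw [hYmem]
      refine ⟨X.pow_mem x.2 _, ?_⟩
      rw [← pow_mul, ← hi, hcard]
      have h2 : x ^ Nat.card X = 1 := pow_card_eq_one'
      have h3 : ((x ^ Nat.card X : X) : Γ) = ((1 : X) : Γ) := congrArg Subtype.val h2
      rw [Subgroup.coe_pow, Subgroup.coe_one] at h3
      exact h3
    rw [hYbot, mem_bot] at h1
    apply Subtype.ext
    simpa using h1
  obtain ⟨j, hj⟩ := IsPGroup.iff_card.1 hX2
  have hm1 : m = 1 := by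
    have hmd : m ∣ 2 ^ j := ⟨Nat.card T, by rw [← hj, ← hcard, mul_comm]⟩
    obtain ⟨l, -, hl⟩ := (Nat.dvd_prime_pow Nat.prime_two).1 hmd
    rcases l with _ | l
    · simpa using hl
    · exfalso
      apply hidx
      rw [hl, pow_succ]
      exact Dvd.intro_left _ rfl
  have hXT : Nat.card X = Nat.card T := by rw [← hcard, hm1, mul_one]
  exact (Subgroup.eq_of_le_of_card_ge hTX hXT.le).symm

end Cfsg.Agent.Lib.H18.BQ
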