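import Mathlib
import Cfsg.Agent.Lib.H8.BQ0
import Cfsg.Agent.Lib.H16.BQQA
import Cfsg.Agent.Lib.H25.BQQB
import Cfsg.Agent.Lib.H18.BQQC
import Cfsg.Agent.Lib.H10.BQQD
import Cfsg.Agent.Lib.H17.BQQE

/-!
# S4719 Part II, piece QUOT (helper18 twin): the hypothesis `QHyp` passes to `N_Γ(X)/X`
-/

set_option autoImplicit false

universe u

namespace Cfsg.Agent.Lib.H18.BQ

open Subgroup Cfsg.Agent.Lib.H8.BQ

/-- QUOT (assembly of QA..QE). -/
theorem exists_quotient {Γ : Type u} [Group Γ] [Finite Γ] (G V X : Subgroup Γ) (a n : ℕ)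
    (h : QHyp G V a n) (hXG : X ≤ G) (hGX : G ≤ normalizer (X : Set Γ))
    (hVX : V ≤ normalizer (X : Set Γ)) (hdisj : V ⊓ X = ⊥) :
    ∃ (Γ' : Type u) (_ : Group Γ') (_ : Finite Γ') (G' V' : Subgroup Γ'),
      QHyp G' V' a n ∧ Nat.card G' * Nat.card X = Nat.card G ∧
      ∀ Y' : Subgroup Γ', Y' ≤ G' → G' ≤ normalizer (Y' : Set Γ') →
        V' ≤ normalizer (Y' : Set Γ') →
        ∃ Y : Subgroup Γ, X ≤ Y ∧ Y ≤ G ∧ G ≤ normalizer (Y : Set Γ) ∧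
          V ≤ normalizer (Y : Set Γ) ∧ Nat.card Y = Nat.card Y' * Nat.card X := by
  have hc := Cfsg.Agent.Lib.H16.BQ.card_qImg X G hXG hGX
  refine ⟨QΓ X, inferInstance, inferInstance, qImg X G, qImg X V, ?_, hc, ?_⟩
  · obtain ⟨h4, h2, hlift⟩ := qImg_four X V h.card4 h.exp2 hVX hdisj
    refine ⟨Cfsg.Agent.Lib.H10.BQ.qImg_le_normalizer X G V hVX h.norm, h4, h2, ?_, ?_⟩
    · have hdvd : Nat.card (qImg X G) ∣ Nat.card G := Dvd.intro _ hc
      have hle := (Nat.factorization_le_iff_dvd Nat.card_pos.ne' Nat.card_pos.ne').2 hdvd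
      exact (hle 2).trans h.val
    · intro w hw hw1
      obtain ⟨v, hv, hvV, hv1, rfl⟩ := hlift w hw hw1
      exact (Cfsg.Agent.Lib.H25.BQ.card_qImg_inf_centralizer_le X G hXG hGX v hv).trans
        (h.cent v hvV hv1)
  · intro Y' hY'G hGY' hVY'
    exact Cfsg.Agent.Lib.H17.BQ.exists_lift X G V hXG hGX hVX Y' hY'G hGY' hVY'

end Cfsg.Agent.Lib.H18.BQ
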