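import Mathlib

/-!
# Central extensions from a bimultiplicative pairing (helper18)

Given groups `G`, `H`, a commutative group `M` and a bimultiplicative map `β : H → G → M`, the set
`G × H × M` with multiplication `(g,h,m)(g',h',m') = (gg', hh', m m' β(h,g'))` is a group
`BiExt β`, a central extension of `G × H` by `M` in which `[ (1,h,1), (g,1,1) ] = (1,1,β(h,g))`.
-/

set_option autoImplicit false

namespace Cfsg.Agent.Lib.H18

open scoped commutatorElement

universe u v w

/-- A bimultiplicative pairing `H → G → M`. -/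
structure BiMul (G : Type u) (H : Type v) (M : Type w) [Group G] [Group H] [CommGroup M] where
  toFun : H → G → M
  map_mul_left : ∀ h h' g, toFun (h * h') g = toFun h g * toFun h' g
  map_mul_right : ∀ h g g', toFun h (g * g') = toFun h g * toFun h g'

namespace BiMul

variable {G : Type u} {H : Type v} {M : Type w} [Group G] [Group H] [CommGroup M] (β : BiMul G H M)

theorem map_one_left (g : G) : β.toFun 1 g = 1 := by
  have := β.map_mul_left 1 1 g
  rw [mul_one] at this
  exact (mul_eq_left.mp this.symm)

theorem map_one_right (h : H) : β.toFun h 1 = 1 := by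
  have := β.map_mul_right h 1 1
  rw [mul_one] at this
  exact (mul_eq_left.mp this.symm)

theorem map_inv_left (h : H) (g : G) : β.toFun h⁻¹ g = (β.toFun h g)⁻¹ := by
  have := β.map_mul_left h⁻¹ h g
  rw [inv_mul_cancel, map_one_left] at this
  exact eq_inv_of_mul_eq_one_left this.symm

theorem map_inv_right (h : H) (g : G) : β.toFun h g⁻¹ = (β.toFun h g)⁻¹ := by
  have := β.map_mul_right h g⁻¹ g
  rw [inv_mul_cancel, map_one_right] at this
  exact eq_inv_of_mul_eq_one_left this.symm

end BiMul

/-- The central extension of `G × H` by `M` defined by `β`. -/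
@[ext] structure BiExt {G : Type u} {H : Type v} {M : Type w} [Group G] [Group H] [CommGroup M]
    (β : BiMul G H M) : Type (max u v w) where
  fst : G
  snd : H
  thd : M

namespace BiExt

variable {G : Type u} {H : Type v} {M : Type w} [Group G] [Group H] [CommGroup M] {β : BiMul G H M}

instance : Mul (BiExt β) := ⟨fun a b => ⟨a.fst * b.fst, a.snd * b.snd, a.thd * b.thd * β.toFun a.snd b.fst⟩⟩
instance : One (BiExt β) := ⟨⟨1, 1, 1⟩⟩
instance : Inv (BiExt β) := ⟨fun a => ⟨a.fst⁻¹, a.snd⁻¹, a.thd⁻¹ * β.toFun a.snd a.fst⟩⟩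

@[simp] theorem mul_fst (a b : BiExt β) : (a * b).fst = a.fst * b.fst := rfl
@[simp] theorem mul_snd (a b : BiExt β) : (a * b).snd = a.snd * b.snd := rfl
@[simp] theorem mul_thd (a b : BiExt β) : (a * b).thd = a.thd * b.thd * β.toFun a.snd b.fst := rfl
@[simp] theorem one_fst : (1 : BiExt β).fst = 1 := rfl
@[simp] theorem one_snd : (1 : BiExt β).snd = 1 := rfl
@[simp] theorem one_thd : (1 : BiExt β).thd = 1 := rfl
@[simp] theorem inv_fst (a : BiExt β) : (a⁻¹).fst = a.fst⁻¹ := rfl
@[simp] theorem inv_snd (a : BiExt β) : (a⁻¹).snd = a.snd⁻¹ := rfl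
@[simp] theorem inv_thd (a : BiExt β) : (a⁻¹).thd = a.thd⁻¹ * β.toFun a.snd a.fst := rfl

instance : Group (BiExt β) :=
  Group.ofLeftAxioms
    (by
      intro a b c
      ext
      · simp [mul_assoc]
      · simp [mul_assoc]
      · simp only [mul_thd, mul_fst, mul_snd, β.map_mul_left, β.map_mul_right]
        simp only [mul_assoc, mul_left_comm, mul_comm])
    (by
      intro a
      ext
      · simp
      · simp
      · simp [β.map_one_left])
    (by
      intro a
      ext
      · simp
      · simp
      · simp only [mul_thd, inv_thd, inv_snd, one_thd, β.map_inv_left]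
        rw [mul_comm a.thd⁻¹, mul_assoc, mul_assoc]
        simp)

/-- Projection onto `G × H`. -/
def proj (β : BiMul G H M) : BiExt β →* G × H where
  toFun a := (a.fst, a.snd)
  map_one' := rfl
  map_mul' _ _ := rfl

@[simp] theorem proj_apply (a : BiExt β) : proj β a = (a.fst, a.snd) := rfl

/-- `g ↦ (g, 1, 1)`. -/
def inl (β : BiMul G H M) : G →* BiExt β where
  toFun g := ⟨g, 1, 1⟩
  map_one' := rfl
  map_mul' g g' := by
    ext
    · rfl
    · simp
    · simp [β.map_one_left]

/-- `h ↦ (1, h, 1)`. -/
def inr (β : BiMul G H M) : H →* BiExt β where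
  toFun h := ⟨1, h, 1⟩
  map_one' := rfl
  map_mul' h h' := by
    ext
    · simp
    · rfl
    · simp [β.map_one_right]

/-- `m ↦ (1, 1, m)`. -/
def inm (β : BiMul G H M) : M →* BiExt β where
  toFun m := ⟨1, 1, m⟩
  map_one' := rfl
  map_mul' m m' := by
    ext
    · simp
    · simp
    · simp [β.map_one_left]

@[simp] theorem inl_fst (g : G) : (inl β g).fst = g := rfl
@[simp] theorem inl_snd (g : G) : (inl β g).snd = 1 := rfl
@[simp] theorem inl_thd (g : G) : (inl β g).thd = 1 := rfl
@[simp] theorem inr_fst (h : H) : (inr β h).fst = 1 := rfl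
@[simp] theorem inr_snd (h : H) : (inr β h).snd = h := rfl
@[simp] theorem inr_thd (h : H) : (inr β h).thd = 1 := rfl
@[simp] theorem inm_fst (m : M) : (inm β m).fst = 1 := rfl
@[simp] theorem inm_snd (m : M) : (inm β m).snd = 1 := rfl
@[simp] theorem inm_thd (m : M) : (inm β m).thd = m := rfl

theorem eq_inl_mul_inr_mul_inm (a : BiExt β) : a = inl β a.fst * inr β a.snd * inm β a.thd := by
  ext
  · simp
  · simp
  · simp [β.map_one_left, β.map_one_right]

theorem commutator_inr_inl (h : H) (g : G) : ⁅inr β h, inl β g⁆ = inm β (β.toFun h g) := by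
  rw [commutatorElement_def]
  ext
  · simp
  · simp
  · simp [β.map_one_left, β.map_one_right, β.map_inv_left, β.map_inv_right]

instance [Finite G] [Finite H] [Finite M] : Finite (BiExt β) :=
  Finite.of_injective (fun a : BiExt β => (a.fst, a.snd, a.thd)) (fun a b h => by
    simp only [Prod.mk.injEq] at h
    exact BiExt.ext h.1 h.2.1 h.2.2)

end BiExt

end Cfsg.Agent.Lib.H18
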