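import Mathlib
import Cfsg.Prelude.Def_BrauerPairs
import Cfsg.Prelude.Def_BlockLocal
import Cfsg.Prelude.Def_BlockRank
import Cfsg.Agent.Lib.L0.BrauerAutomizer
import Cfsg.Agent.Lib.L0.BrauerAbelian

/-!
helper18 library (S4645, piece (B2)): the inertial quotient `T / C_G(P)` of a maximal Brauer pair `(P, c)` with
ABELIAN `P` is a `p'`-group.  Exact signature of `tools/blueprints/S4645_sigs.lean`.
-/

set_option autoImplicit false

namespace Cfsg.Agent.Lib.H18.CY
open Cfsg

variable {G : Type*} [Group G] [Fintype G] {p : ℕ} {M : Ideal Cfsg.AlgInt}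

/-- (B2) `¬ p ∣ |T : C_G(P)|` for a maximal pair `(P, c)` with `P` abelian, `T = N_G(P, c)`. -/
theorem not_dvd_index_centralizer (hM : Cfsg.IsPModular p M) {B : Set (Cfsg.IrrCharacter G)}
    {P : Subgroup G} {c : Set (Cfsg.IrrCharacter (Subgroup.centralizer (P : Set G)))}
    (hmax : Cfsg.IsMaximalBrauerPair p M B P c) (hab : ∀ x ∈ P, ∀ y ∈ P, x * y = y * x)
    (T : Subgroup G) (hT : ∀ g : G, g ∈ T ↔ (g ∈ Subgroup.normalizer (P : Set G) ∧
      Cfsg.StabilizesBlock (Subgroup.centralizer (P : Set G)) c g)) :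
    ¬ p ∣ ((Subgroup.centralizer (P : Set G)).subgroupOf T).index := by
  have hPe : Cfsg.IsBrauerPair p M P c := hmax.1.1
  have h := (Cfsg.Agent.Lib.L0.BrauerAutomizer.fong_of_localMax hM hPe hPe.2
    (Relation.ReflTransGen.refl : Cfsg.SubpairLE p M P c P c)
    (Cfsg.Agent.Lib.L0.BrauerAbelian.localMax_of_maximal hM hmax _) T hT).2
  have hPC : P ≤ Subgroup.centralizer (P : Set G) := by
    intro x hx
    rw [Subgroup.mem_centralizer_iff]
    intro y hy
    exact hab y hy x hx
  have hsup : (P ⊓ Subgroup.normalizer (P : Set G)).subgroupOf T ⊔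
      (Subgroup.centralizer (P : Set G)).subgroupOf T =
      (Subgroup.centralizer (P : Set G)).subgroupOf T := by
    apply sup_eq_right.2
    intro t ht
    rw [Subgroup.mem_subgroupOf] at ht ⊢
    exact hPC ht.1
  rwa [hsup] at h

end Cfsg.Agent.Lib.H18.CY
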