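import Mathlib
import Cfsg.Prelude.Def_BrauerPairs
import Cfsg.Prelude.Def_BlockLocal
import Cfsg.Prelude.Def_BlockRank
import Cfsg.Agent.Lib.H23.CYE23
import Cfsg.Agent.Lib.H22.SubsecBasic
import Cfsg.Agent.Lib.L0.BrauerDefect
import Cfsg.Agent.Lib.L0.BrauerNormal
import Cfsg.Agent.Lib.L0.BrauerSubpair

/-!
helper18 library (S4645, piece (E2)): a block `f` of `K` with maximal pair `(D, e)`, `D` abelian and trivial inertial
quotient has only characters of height zero.  Glue around helper23's core `H23.CY.height_zero_of_inertial_one`.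
Exact signature of `tools/blueprints/S4645_sigs.lean`.
-/

set_option autoImplicit false

namespace Cfsg.Agent.Lib.H18.CY
open Cfsg

variable {K : Type*} [Group K] [Fintype K] {p : ℕ} {M : Ideal Cfsg.AlgInt}

/-- the S4715 wording of the stabiliser, for `T := H` itself, along a cast `C_K(D) = H`. -/
theorem mem_iff_of_cast {D : Subgroup K} {H : Subgroup K}
    (h : Subgroup.centralizer (D : Set K) = H)
    (e : Set (Cfsg.IrrCharacter (Subgroup.centralizer (D : Set K))))
    (hT : ∀ y : K, y ∈ Subgroup.normalizer (D : Set K) →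
      Cfsg.StabilizesBlock (Subgroup.centralizer (D : Set K)) e y →
      y ∈ Subgroup.centralizer (D : Set K)) :
    ∀ g : K, g ∈ H ↔ (g ∈ Subgroup.normalizer (D : Set K) ∧
      ∀ θ ∈ Cfsg.Agent.Lib.H22.Subsec.castB h e, ∀ θ' : Cfsg.IrrCharacter H,
        (∀ x x' : H, (x' : K) = g * x * g⁻¹ → (θ' : H → ℂ) x' = (θ : H → ℂ) x) →
          θ' ∈ Cfsg.Agent.Lib.H22.Subsec.castB h e) := by
  classical
  subst h
  intro g
  rw [Cfsg.Agent.Lib.H22.Subsec.castB_rfl]
  constructor
  · intro hg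
    refine ⟨Subgroup.centralizer_le_normalizer _ hg, ?_⟩
    intro θ hθ θ' hconj
    have hθθ' : θ' = θ := by
      apply Subtype.ext
      funext x'
      have hmem : g⁻¹ * (x' : K) * g ∈ Subgroup.centralizer (D : Set K) :=
        Subgroup.mul_mem _ (Subgroup.mul_mem _ (Subgroup.inv_mem _ hg) x'.2) hg
      have h1 := hconj ⟨g⁻¹ * (x' : K) * g, hmem⟩ x' (by
        simp [mul_assoc])
      rw [h1]
      have hcf := Cfsg.Agent.Lib.H24.irr_isClassFunction θ
      have h2 := hcf x' (⟨g, hg⟩⁻¹ : Subgroup.centralizer (D : Set K))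
      rw [← h2]
      refine congrArg _ (Subtype.ext ?_)
      simp
    rw [hθθ']
    exact hθ
  · rintro ⟨hgN, hst⟩
    have hgNC : g ∈ Subgroup.normalizer
        ((Subgroup.centralizer (D : Set K) : Subgroup K) : Set K) :=
      Cfsg.Agent.Lib.L0.BrauerSubpair.normalizer_le_normalizer_centralizer D hgN
    haveI : Fintype (Subgroup.centralizer (D : Set K)) := Fintype.ofFinite _
    refine hT g hgN ⟨hgNC, fun χ hχ => ?_⟩
    refine ⟨Cfsg.Agent.Lib.L0.BlockAut.cj
      (Cfsg.Agent.Lib.L0.PrincipalBrauerPair.conjAut _ g hgNC) χ, ?_,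
      Cfsg.Agent.Lib.L0.BrauerNormal.isConjCharOf_cj _ g hgNC χ⟩
    exact hst χ hχ _ (Cfsg.Agent.Lib.L0.BrauerNormal.isConjCharOf_cj _ g hgNC χ)

/-- (E2) ALL HEIGHTS ARE ZERO. -/
theorem heights_zero [Fact p.Prime] (hM : Cfsg.IsPModular p M) {f : Set (Cfsg.IrrCharacter K)}
    {D : Subgroup K} {e : Set (Cfsg.IrrCharacter (Subgroup.centralizer (D : Set K)))}
    (hmax : Cfsg.IsMaximalBrauerPair p M f D e) (hab : ∀ x ∈ D, ∀ y ∈ D, x * y = y * x)
    (hT : ∀ y : K, y ∈ Subgroup.normalizer (D : Set K) →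
      Cfsg.StabilizesBlock (Subgroup.centralizer (D : Set K)) e y →
      y ∈ Subgroup.centralizer (D : Set K)) :
    ∀ χ ∈ f, Cfsg.blockHeight p f (χ : K → ℂ) = 0 := by
  classical
  have hf : Cfsg.IsPBlock M f := hmax.1.2.1
  have hfD : Cfsg.IsDefectGroup p M f D :=
    Cfsg.Agent.Lib.L0.BrauerDefect.isDefectGroup_of_maximal hM hmax
  have hDC : D ≤ Subgroup.centralizer (D : Set K) := by
    intro x hx
    rw [Subgroup.mem_centralizer_iff]
    intro y hy
    exact hab y hy x hx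
  have hH : Subgroup.centralizer (D : Set K) = D ⊔ Subgroup.centralizer (D : Set K) :=
    (sup_eq_right.2 hDC).symm
  haveI : Fintype (Subgroup.centralizer (D : Set K)) := Fintype.ofFinite _
  have hind : Cfsg.IsInducedBlock M (D ⊔ Subgroup.centralizer (D : Set K))
      (Cfsg.Agent.Lib.H22.Subsec.castB hH e) f :=
    (Cfsg.Agent.Lib.H22.Subsec.isInducedBlock_castB hH e f).2
      (Cfsg.Agent.Lib.L0.BrauerDefect.isInducedBlock_of_pair hM hmax.1)
  exact Cfsg.Agent.Lib.H23.CY.height_zero_of_inertial_one p M hM f hf D hfD hab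
    (D ⊔ Subgroup.centralizer (D : Set K)) rfl (Cfsg.Agent.Lib.H22.Subsec.castB hH e) hind
    (D ⊔ Subgroup.centralizer (D : Set K)) (mem_iff_of_cast hH e hT) (Subgroup.relIndex_self _)

end Cfsg.Agent.Lib.H18.CY
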