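import Mathlib
import Cfsg.Agent.Lib.H12.CYDefs
import Cfsg.Agent.Lib.H18.S1950RG

/-!
# S1950 pieces RANK (`rank_one`) and GAUSS (`gper_not_const`) in the EXACT sigs of
`tools/blueprints/S1950_sigs_h12.lean` (helper18), wrappers of `Cfsg.Agent.Lib.H18.RG`.
-/

set_option autoImplicit false

namespace Cfsg.Agent.Lib.H18.CY

open Cfsg.Agent.Lib.H12.CY
open scoped ComplexConjugate

variable {p : ℕ} [Fact p.Prime]

/-- RANK.  Rank-one rigidity. -/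
theorem rank_one {ι α : Type*} [Fintype ι] (S : Set α) (w : ι → ℝ) (hw : ∀ i, 0 ≤ w i) (v : ι → α → ℂ) (h : α → ℂ)
    (Λ : ℂ) (hM : ∀ a ∈ S, ∀ c ∈ S, ∑ i, (w i : ℂ) * v i a * conj (v i c) = Λ * h a * conj (h c)) :
    ∀ i, 0 < w i → ∀ a ∈ S, ∀ c ∈ S, v i a * h c = v i c * h a := by
  intro i hi a ha c hc
  exact Cfsg.Agent.Lib.H18.RG.rank_one_rigid (A := ↥S) w hw (fun i x => v i x.1) (fun x => h x.1) Λ
    (fun x y => hM x.1 x.2 y.1 y.2) i hi ⟨a, ha⟩ ⟨c, hc⟩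

/-- GAUSS.  The periods are not constant on `F_p^×` unless `E = F_p^×`. -/
theorem gper_not_const (ψ : AddChar (ZMod p) ℂ) (hψ : ψ.IsPrimitive) (E : Finset (ZMod p))
    (h0 : (0 : ZMod p) ∉ E) (h1 : (1 : ZMod p) ∈ E) (hcard : E.card < p - 1) {k : ZMod p} (hk : k ≠ 0) :
    ∃ a c : ZMod p, a ≠ 0 ∧ c ≠ 0 ∧ gper ψ E (k * a) ≠ gper ψ E (k * c) := by
  by_contra hcon
  have hall : ∀ a c : ZMod p, a ≠ 0 → c ≠ 0 → gper ψ E (k * a) = gper ψ E (k * c) := by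
    intro a c ha hc
    by_contra hne
    exact hcon ⟨a, c, ha, hc, hne⟩
  have he1 : 1 ≤ E.card := Finset.card_pos.mpr ⟨1, h1⟩
  have he : E.card + 1 < p := by omega
  refine Cfsg.Agent.Lib.H18.RG.period_not_const ψ hψ E h0 he1 he k hk (gper ψ E (k * 1)) ?_
  intro a ha
  have := hall a 1 ha one_ne_zero
  rw [← this]
  unfold gper
  exact Finset.sum_congr rfl (fun t _ => by rw [mul_assoc])

end Cfsg.Agent.Lib.H18.CY
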