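import Mathlib
import Cfsg.Prelude.Def_FusionSystem
import Cfsg.Prelude.Def_FusionComponents
import Cfsg.Agent.Lib.H25.Fusion
import Cfsg.Agent.Lib.H25.Saturation
import Cfsg.Agent.Lib.H25.SatEquiv
import Cfsg.Agent.Lib.H25.FactorSystem
import Cfsg.Agent.Lib.H25.Morphism
import Cfsg.Agent.Lib.H26.FusionAbelian
import Cfsg.Agent.S5133
import Cfsg.Agent.S5134

set_option autoImplicit false

/-!
The Camina--Herzog criterion for saturated fusion systems on a finite 2-group `S` (helper18):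
if every element of `S` is conjugate in the system to an element of `Z(S)` then `S` is abelian.

Proof: involutions of `S` commute pairwise (the automizer of a central cyclic subgroup has odd
order), so `E = Ω₁(S)` is an elementary abelian strongly closed subgroup; by induction `S/E` is
abelian, hence every conjugation in the factor system is induced by an automorphism of `S`, and so
`S = Z(S) E`.
-/

namespace Cfsg.Agent.Lib.H18

open Cfsg Cfsg.FusionSystem Cfsg.Agent.Lib.H25 Cfsg.Agent.Lib.H26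

universe u

section Basic

variable {Ω : Type*} [Group Ω] {S : Subgroup Ω}

/-- A map of the system defined on a cyclic subgroup is an isomorphism onto the cyclic subgroup
generated by the image of the generator. -/
theorem isIso_zpowers {F : FusionSystem S} {x z : Ω} {φ : Subgroup.zpowers x →* Ω}
    (hφ : φ ∈ F.Hom (Subgroup.zpowers x)) (hφx : φ ⟨x, Subgroup.mem_zpowers x⟩ = z) :
    IsIso F (Subgroup.zpowers x) (Subgroup.zpowers z) (ext1 φ) := by
  have h := isIso_of_mem F hφ
  have hr : φ.range = Subgroup.zpowers z := by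
    ext y
    constructor
    · rintro ⟨a, rfl⟩
      obtain ⟨k, hk⟩ := Subgroup.mem_zpowers_iff.1 a.2
      have ha : a = (⟨x, Subgroup.mem_zpowers x⟩ : Subgroup.zpowers x) ^ k := by
        apply Subtype.ext
        rw [Subgroup.coe_zpow]
        exact hk.symm
      rw [ha, map_zpow, hφx]
      exact Subgroup.zpow_mem_zpowers z k
    · intro hy
      obtain ⟨k, hk⟩ := Subgroup.mem_zpowers_iff.1 hy
      refine ⟨(⟨x, Subgroup.mem_zpowers x⟩ : Subgroup.zpowers x) ^ k, ?_⟩
      rw [map_zpow, hφx]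
      exact hk
  rwa [hr] at h

/-- In a saturated fusion system on a finite 2-group, an automorphism of a cyclic subgroup
generated by a central element whose square fixes the generator fixes the generator. -/
theorem aut_central_fix [Finite S] (hS : IsPGroup 2 S) {F : FusionSystem S}
    (hF : F.IsSaturated 2) {z : Ω} (hz : z ∈ S ⊓ Subgroup.centralizer (S : Set Ω))
    {g : Ω → Ω} (hg : IsIso F (Subgroup.zpowers z) (Subgroup.zpowers z) g)
    (hg2 : g (g z) = z) : g z = z := by
  haveI : Fact (Nat.Prime 2) := ⟨Nat.prime_two⟩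
  set Z := Subgroup.zpowers z with hZdef
  have hzS : z ∈ S := hz.1
  have hzc : ∀ s ∈ S, s * z = z * s := fun s hs => hz.2 s hs
  have hZS : Z ≤ S := by
    rw [hZdef, Subgroup.zpowers_le]
    exact hzS
  have hZc : ∀ y ∈ Z, ∀ s ∈ S, s * y = y * s := by
    intro y hy s hs
    obtain ⟨k, rfl⟩ := Subgroup.mem_zpowers_iff.1 hy
    exact ((Commute.zpow_right (hzc s hs) k) : Commute s (z ^ k)).eq
  haveI hfinZ : Finite Z := finite_of_le S hZS
  -- `Z` is fully normalized
  have hNZ : normalizerIn S Z = S := by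
    apply le_antisymm inf_le_left
    intro s hs
    refine ⟨hs, ?_⟩
    show s ∈ Subgroup.normalizer (Z : Set Ω)
    rw [Subgroup.mem_normalizer_iff]
    intro y
    constructor
    · intro hy
      have : s * y * s⁻¹ = y := by rw [hZc y hy s hs]; group
      rw [this]; exact hy
    · intro hy
      have h1 := hZc _ hy s⁻¹ (S.inv_mem hs)
      have h2 : y = s⁻¹ * (s * y * s⁻¹) * s := by group
      have h3 : s⁻¹ * (s * y * s⁻¹) * s = s * y * s⁻¹ := by
        rw [h1]; group
      rw [h2, h3]; exact hy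
  have hfn : F.IsFullyNormalized Z := by
    refine ⟨hZS, fun Q _ => ?_⟩
    rw [hNZ]
    exact Nat.card_mono (Set.toFinite _) (inf_le_left : normalizerIn S Q ≤ S)
  obtain ⟨-, -, R, hR⟩ := fullyNormalized_props hS hF hfn
  have hbot : autInducedBy S Z = ⊥ := by
    rw [eq_bot_iff]
    intro α hα
    obtain ⟨s, hs, hα⟩ := (mem_autInducedBy_iff S Z α).1 hα
    rw [Subgroup.mem_bot]
    ext y
    rw [hα y, hZc y y.2 s hs]
    simp
  rw [hbot] at hR
  have hRbot : (R : Subgroup (F.autGroup Z)) = ⊥ := by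
    rw [hR]; exact Subgroup.bot_subgroupOf _
  haveI hfinA : Finite (F.autGroup Z) := inferInstance
  have hcop : ¬ 2 ∣ Nat.card (F.autGroup Z) := by
    intro hdvd
    have h1 := R.dvd_card_of_dvd_card hdvd
    have hcard : Nat.card (R : Subgroup (F.autGroup Z)) = 1 := by
      rw [hRbot]; exact Subgroup.card_bot
    rw [hcard] at h1
    exact absurd (Nat.dvd_one.mp h1) (by norm_num)
  obtain ⟨α, hα, hαg⟩ := exists_mem_autGroup_of_isIso F hg
  set zz : Z := ⟨z, Subgroup.mem_zpowers z⟩ with hzz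
  have hαz : ((α zz : Z) : Ω) = g z := hαg zz
  have hα2z : α (α zz) = zz := by
    apply Subtype.ext
    rw [hαg (α zz), hαz]
    exact hg2
  -- `α * α = 1`
  have hαα : α * α = 1 := by
    ext y
    obtain ⟨k, hk⟩ := Subgroup.mem_zpowers_iff.1 y.2
    have hy : y = zz ^ k := by
      apply Subtype.ext
      rw [Subgroup.coe_zpow]
      exact hk.symm
    rw [hy, MulAut.mul_apply, map_zpow, map_zpow, hα2z]
    rfl
  let a : F.autGroup Z := ⟨α, hα⟩
  have ha2 : a ^ 2 = 1 := by
    apply Subtype.ext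
    rw [pow_two]
    exact hαα
  have hord : orderOf a ∣ 2 := orderOf_dvd_of_pow_eq_one ha2
  have hord2 : orderOf a ∣ Nat.card (F.autGroup Z) := orderOf_dvd_natCard a
  have h1 : orderOf a = 1 := by
    rcases (Nat.dvd_prime Nat.prime_two).1 hord with h | h
    · exact h
    · rw [h] at hord2
      exact absurd hord2 hcop
  have ha1 : a = 1 := orderOf_eq_one_iff.1 h1
  have hα1 : α = 1 := congrArg Subtype.val ha1
  rw [← hαz, hα1]
  rfl

/-- If every element of `S` is conjugate in the saturated system to a central element, then any two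
elements of `S` of order at most 2 commute. -/
theorem invol_comm [Finite S] (hS : IsPGroup 2 S) {F : FusionSystem S} (hF : F.IsSaturated 2)
    (h : ∀ x ∈ S, ∃ z ∈ S ⊓ Subgroup.centralizer (S : Set Ω), F.IsConjElt x z)
    {t u : Ω} (ht : t ∈ S) (hu : u ∈ S) (ht2 : t * t = 1) (hu2 : u * u = 1) : t * u = u * t := by
  have htinv : t⁻¹ = t := inv_eq_of_mul_eq_one_right ht2
  have huinv : u⁻¹ = u := inv_eq_of_mul_eq_one_right hu2
  set w := t * u with hw
  have hwS : w ∈ S := S.mul_mem ht hu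
  obtain ⟨z, hz, φ, hφ, hφw⟩ := h w hwS
  have hi : IsIso F (Subgroup.zpowers w) (Subgroup.zpowers z) (ext1 φ) := isIso_zpowers hφ hφw
  have hWS : Subgroup.zpowers w ≤ S := by
    rw [Subgroup.zpowers_le]; exact hwS
  have hconj : t * w * t⁻¹ = w⁻¹ := by
    rw [hw, mul_inv_rev, htinv, huinv]
    calc t * (t * u) * t = (t * t) * u * t := by group
      _ = u * t := by rw [ht2, one_mul]
  have hct : IsIso F (Subgroup.zpowers w) (Subgroup.zpowers w) (fun x => t * x * t⁻¹) := by
    have h1 := IsIso.conj (F := F) hWS ht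
    have h2 : (Subgroup.zpowers w).map (MulAut.conj t).toMonoidHom = Subgroup.zpowers w := by
      rw [MonoidHom.map_zpowers]
      have : (MulAut.conj t).toMonoidHom w = w⁻¹ := by
        show t * w * t⁻¹ = w⁻¹
        exact hconj
      rw [this, Subgroup.zpowers_inv]
    rwa [h2] at h1
  obtain ⟨ψ, hψ, hψ1, hψ2⟩ := hi.symm
  have hg : IsIso F (Subgroup.zpowers z) (Subgroup.zpowers z)
      (ext1 φ ∘ ((fun x => t * x * t⁻¹) ∘ ψ)) := (hψ.trans hct).trans hi
  have hφw' : ext1 φ w = z := by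
    rw [ext1_apply_mem φ (Subgroup.mem_zpowers w)]; exact hφw
  have hψz : ψ z = w := by
    have := hψ1 w (Subgroup.mem_zpowers w)
    rwa [hφw'] at this
  have hgz : (ext1 φ ∘ ((fun x => t * x * t⁻¹) ∘ ψ)) z = z⁻¹ := by
    show ext1 φ (t * ψ z * t⁻¹) = z⁻¹
    rw [hψz, hconj, hi.map_inv (Subgroup.mem_zpowers w), hφw']
  have hgzinv : (ext1 φ ∘ ((fun x => t * x * t⁻¹) ∘ ψ)) z⁻¹ = z := by
    rw [hg.map_inv (Subgroup.mem_zpowers z), hgz, inv_inv]
  have hfix := aut_central_fix hS hF hz hg (by rw [hgz, hgzinv])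
  rw [hgz] at hfix
  -- `z⁻¹ = z`, hence `w * w = 1`
  have hzz : z * z = 1 := by
    calc z * z = z * z⁻¹ := by rw [hfix]
      _ = 1 := mul_inv_cancel z
  have hww : w * w = 1 := by
    have hmem : w * w ∈ Subgroup.zpowers w :=
      (Subgroup.zpowers w).mul_mem (Subgroup.mem_zpowers w) (Subgroup.mem_zpowers w)
    apply hi.injOn hmem (Subgroup.one_mem _)
    rw [hi.map_mul (Subgroup.mem_zpowers w) (Subgroup.mem_zpowers w), hφw', hzz, hi.map_one]
  -- conclude
  have h3 : w = w⁻¹ := (inv_eq_of_mul_eq_one_right hww).symm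
  calc w = w⁻¹ := h3
    _ = u⁻¹ * t⁻¹ := by rw [hw, mul_inv_rev]
    _ = u * t := by rw [htinv, huinv]

/-- `Ω₁(S)`, the set of elements of `S` of order at most 2, as a subgroup, under the hypothesis
that such elements commute pairwise. -/
def omegaOne (S : Subgroup Ω)
    (hc : ∀ t ∈ S, ∀ u ∈ S, t * t = 1 → u * u = 1 → t * u = u * t) : Subgroup Ω where
  carrier := {x | x ∈ S ∧ x * x = 1}
  one_mem' := ⟨S.one_mem, mul_one 1⟩
  mul_mem' := by
    rintro a b ⟨ha, ha2⟩ ⟨hb, hb2⟩
    refine ⟨S.mul_mem ha hb, ?_⟩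
    have hab := hc a ha b hb ha2 hb2
    calc a * b * (a * b) = a * (b * a) * b := by group
      _ = a * (a * b) * b := by rw [hab]
      _ = (a * a) * (b * b) := by group
      _ = 1 := by rw [ha2, hb2, one_mul]
  inv_mem' := by
    rintro a ⟨ha, ha2⟩
    refine ⟨S.inv_mem ha, ?_⟩
    rw [← mul_inv_rev, ha2, inv_one]

theorem mem_omegaOne {S : Subgroup Ω}
    {hc : ∀ t ∈ S, ∀ u ∈ S, t * t = 1 → u * u = 1 → t * u = u * t} {x : Ω} :
    x ∈ omegaOne S hc ↔ x ∈ S ∧ x * x = 1 := Iff.rfl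

theorem omegaOne_le {S : Subgroup Ω}
    (hc : ∀ t ∈ S, ∀ u ∈ S, t * t = 1 → u * u = 1 → t * u = u * t) : omegaOne S hc ≤ S :=
  fun _ hx => hx.1

theorem omegaOne_stronglyClosed (F : FusionSystem S)
    (hc : ∀ t ∈ S, ∀ u ∈ S, t * t = 1 → u * u = 1 → t * u = u * t) :
    F.StronglyClosed (omegaOne S hc) := by
  refine ⟨omegaOne_le hc, fun R hR φ hφ x => ?_⟩
  refine ⟨hom_mem_S F hφ x, ?_⟩
  have hx2 : x * x = 1 := Subtype.ext (hR x.2).2
  rw [← map_mul, hx2, map_one]

instance omegaOne_normal {S : Subgroup Ω}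
    (hc : ∀ t ∈ S, ∀ u ∈ S, t * t = 1 → u * u = 1 → t * u = u * t) :
    ((omegaOne S hc).subgroupOf S).Normal := by
  constructor
  intro x hx s
  rw [Subgroup.mem_subgroupOf] at hx ⊢
  refine ⟨(s * x * s⁻¹).2, ?_⟩
  have hx2 : (x : Ω) * x = 1 := hx.2
  show (s : Ω) * x * (s : Ω)⁻¹ * ((s : Ω) * x * (s : Ω)⁻¹) = 1
  calc (s : Ω) * x * (s : Ω)⁻¹ * ((s : Ω) * x * (s : Ω)⁻¹)
      = (s : Ω) * ((x : Ω) * x) * (s : Ω)⁻¹ := by group
    _ = 1 := by rw [hx2]; group

end Basic

/-- **Camina--Herzog for fusion systems.** In a saturated fusion system over a finite 2-group `S`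
in which every element of `S` is conjugate to an element of `Z(S)`, the group `S` is abelian. -/
theorem comm_of_conj_center : ∀ (n : ℕ) {Ω : Type u} [Group Ω] (S : Subgroup Ω) [Finite S],
    Nat.card S = n → IsPGroup 2 S → ∀ F : FusionSystem S, F.IsSaturated 2 →
    (∀ x ∈ S, ∃ z ∈ S ⊓ Subgroup.centralizer (S : Set Ω), F.IsConjElt x z) →
    ∀ x ∈ S, ∀ y ∈ S, x * y = y * x := by
  intro n
  induction n using Nat.strong_induction_on with
  | _ n ih =>
  intro Ω _ S _ hn hS F hF h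
  haveI : Fact (Nat.Prime 2) := ⟨Nat.prime_two⟩
  have hc : ∀ t ∈ S, ∀ u ∈ S, t * t = 1 → u * u = 1 → t * u = u * t :=
    fun t ht u hu ht2 hu2 => invol_comm hS hF h ht hu ht2 hu2
  set E := omegaOne S hc with hEdef
  have hES : E ≤ S := omegaOne_le hc
  have hEsc : F.StronglyClosed E := omegaOne_stronglyClosed F hc
  by_cases hEbot : E = ⊥
  · -- then `S` is trivial
    have hcard : Nat.card S = 1 := by
      by_contra hne
      obtain ⟨k, hk⟩ := hS.exists_card_eq
      have hk0 : k ≠ 0 := by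
        rintro rfl
        exact hne (by rw [hk, pow_zero])
      have h2 : 2 ∣ Nat.card S := by
        rw [hk]; exact dvd_pow_self 2 hk0
      obtain ⟨x, hx⟩ := exists_prime_orderOf_dvd_card' 2 h2
      have hx2 : x * x = 1 := by
        rw [← pow_two, ← hx]; exact pow_orderOf_eq_one x
      have hxE : (x : Ω) ∈ E := ⟨x.2, congrArg Subtype.val hx2⟩
      rw [hEbot, Subgroup.mem_bot] at hxE
      have hx1 : x = 1 := Subtype.ext hxE
      rw [hx1, orderOf_one] at hx
      norm_num at hx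
    have hsub : ∀ x ∈ S, x = 1 := by
      intro x hx
      have := (Nat.card_eq_one_iff_unique.1 hcard).1
      exact congrArg Subtype.val (Subsingleton.elim (⟨x, hx⟩ : S) 1)
    intro x hx y hy
    rw [hsub x hx, hsub y hy]
  · -- the factor system modulo `E`
    let θ : S →* (S ⧸ E.subgroupOf S) := QuotientGroup.mk' (E.subgroupOf S)
    have hsurj : Function.Surjective θ := QuotientGroup.mk'_surjective _
    have hker : ∀ s : S, θ s = 1 ↔ (s : Ω) ∈ E := by
      intro s
      rw [show θ s = (QuotientGroup.mk s : S ⧸ E.subgroupOf S) from rfl, QuotientGroup.eq_one_iff,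
        Subgroup.mem_subgroupOf]
    let Fb : FusionSystem (⊤ : Subgroup (S ⧸ E.subgroupOf S)) := factorSystem F hEsc θ hsurj hker
    have hfac : F.IsFactorSystem E θ Fb := factorSystem_isFactorSystem F hEsc θ hsurj hker
    have hsm : F.IsSurjectiveMorphism Fb θ := Cfsg.Agent.S5134.result 2 hS F hF E hEsc θ Fb hfac
    have hrange : θ.range = ⊤ := hsm.2.1
    haveI hfinT : Finite (⊤ : Subgroup (S ⧸ E.subgroupOf S)) := finite_S' hrange
    have hST : IsPGroup 2 (⊤ : Subgroup (S ⧸ E.subgroupOf S)) := isPGroup_S' hrange hS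
    have hsat : Fb.IsSaturated 2 := Cfsg.Agent.S5133.result 2 hS F hF Fb θ hsm
    have hK : kerSub θ = E := by
      ext x
      rw [mem_kerSub_iff]
      constructor
      · rintro ⟨hxS, hx1⟩
        rw [al_apply θ hxS] at hx1
        exact (hker ⟨x, hxS⟩).1 hx1
      · intro hx
        refine ⟨hES hx, ?_⟩
        rw [al_apply θ (hES hx)]
        exact (hker ⟨x, hES hx⟩).2 hx
    have hKsc : F.StronglyClosed (kerSub θ) := by rw [hK]; exact hEsc
    -- the order drops
    have hlt : Nat.card (⊤ : Subgroup (S ⧸ E.subgroupOf S)) < n := by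
      rw [Subgroup.card_top, ← hn, Subgroup.card_eq_card_quotient_mul_card_subgroup (E.subgroupOf S)]
      have hne : E.subgroupOf S ≠ ⊥ := by
        intro hb
        rw [Subgroup.subgroupOf_eq_bot] at hb
        apply hEbot
        rw [eq_bot_iff]
        exact fun x hx => (Subgroup.mem_bot.1 (hb.le_bot ⟨hx, hES hx⟩)) ▸ Subgroup.one_mem _
      have h1 : 1 < Nat.card (E.subgroupOf S) := (Subgroup.one_lt_card_iff_ne_bot _).2 hne
      have hpos : 0 < Nat.card (S ⧸ E.subgroupOf S) := Nat.card_pos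
      exact (lt_mul_iff_one_lt_right hpos).2 h1
    -- conjugacy to central elements passes to the factor system: a common construction
    have hpush : ∀ x ∈ S, ∃ z ∈ S ⊓ Subgroup.centralizer (S : Set Ω),
        ∃ φ' ∈ Fb.Hom (Subgroup.zpowers (al θ x)),
          φ' ⟨al θ x, Subgroup.mem_zpowers _⟩ = al θ z := by
      intro x hx
      obtain ⟨z, hz, φ, hφ, hφx⟩ := h x hx
      refine ⟨z, hz, ?_⟩
      have hi : IsIso F (Subgroup.zpowers x) (Subgroup.zpowers z) (ext1 φ) := isIso_zpowers hφ hφx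
      obtain ⟨f', hf', hf'al⟩ := push_iso hsm.1 hi
      have hle : Subgroup.zpowers (al θ x) ≤ imageAlong θ (Subgroup.zpowers x) := by
        rw [Subgroup.zpowers_le]
        exact (mem_image_iff θ _ _).2 ⟨x, Subgroup.mem_zpowers x, hx, rfl⟩
      obtain ⟨Q', -, hQ', -⟩ := hf'.restrict hle
      obtain ⟨φ', hφ', hφ'f, -⟩ := hQ'.exists_hom
      refine ⟨φ', hφ', ?_⟩
      rw [hφ'f]
      show f' (al θ x) = al θ z
      rw [hf'al x (Subgroup.mem_zpowers x), ext1_apply_mem φ (Subgroup.mem_zpowers x), hφx]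
    have hcentral : ∀ z ∈ S ⊓ Subgroup.centralizer (S : Set Ω),
        al θ z ∈ (⊤ : Subgroup (S ⧸ E.subgroupOf S)) ⊓
          Subgroup.centralizer (((⊤ : Subgroup (S ⧸ E.subgroupOf S)) : Subgroup _) : Set _) := by
      intro z hz
      refine ⟨Subgroup.mem_top _, ?_⟩
      intro y' _
      obtain ⟨y, rfl⟩ := hsurj y'
      rw [al_apply θ hz.1, ← map_mul, ← map_mul]
      congr 1
      apply Subtype.ext
      exact hz.2 y y.2
    -- induction: the quotient is abelian
    have hab' : ∀ a ∈ (⊤ : Subgroup (S ⧸ E.subgroupOf S)),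
        ∀ b ∈ (⊤ : Subgroup (S ⧸ E.subgroupOf S)), a * b = b * a := by
      refine ih _ hlt (⊤ : Subgroup (S ⧸ E.subgroupOf S)) rfl hST Fb hsat ?_
      intro x' _
      obtain ⟨x, rfl⟩ := hsurj x'
      obtain ⟨z, hz, φ', hφ', hφ'x⟩ := hpush x x.2
      refine ⟨al θ z, hcentral z hz, ?_⟩
      have hxx : al θ (x : Ω) = θ x := al_apply θ x.2
      rw [← hxx]
      exact ⟨φ', hφ', hφ'x⟩
    -- every element of `S` lies in `Z(S) E`
    have hdecomp : ∀ x ∈ S, ∃ c e : Ω, (c ∈ S ∧ ∀ s ∈ S, s * c = c * s) ∧ e ∈ E ∧ x = c * e := by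
      intro x hx
      obtain ⟨z, hz, φ', hφ', hφ'x⟩ := hpush x hx
      obtain ⟨f', hf', hf'φ⟩ := exists_isIso_top_of_comm Fb 2 hsat hab' hφ'
      obtain ⟨f, hf, hff'⟩ := lift_iso hsm hKsc hf'
      rw [pre_top hrange] at hf hff'
      have hzS : z ∈ S := hz.1
      have hfxS : f x ∈ S := hf.map_mem hx
      have h1 : al θ (f x) = al θ z := by
        rw [← hff' x hx]
        have := hf'φ ⟨al θ x, Subgroup.mem_zpowers _⟩
        rw [this, hφ'x]
      have h2 : (f x)⁻¹ * z ∈ E := by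
        rw [← hK]; exact inv_mul_mem_kerSub θ hfxS hzS h1
      have h3 : z⁻¹ * f x ∈ E := by
        have := E.inv_mem h2
        rwa [mul_inv_rev, inv_inv] at this
      obtain ⟨c, hcS, hfc⟩ := hf.surjOn hzS
      obtain ⟨e, heS, hfe⟩ := hf.surjOn (hES h3)
      refine ⟨c, e, ⟨hcS, fun s hs => ?_⟩, ⟨heS, ?_⟩, ?_⟩
      · apply hf.injOn (S.mul_mem hs hcS) (S.mul_mem hcS hs)
        rw [hf.map_mul hs hcS, hf.map_mul hcS hs, hfc]
        exact hz.2 (f s) (hf.map_mem hs)
      · apply hf.injOn (S.mul_mem heS heS) S.one_mem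
        rw [hf.map_mul heS heS, hfe, hf.map_one]
        exact h3.2
      · apply hf.injOn hx (S.mul_mem hcS heS)
        rw [hf.map_mul hcS heS, hfc, hfe]
        group
    intro x hx y hy
    obtain ⟨c₁, e₁, ⟨hc₁S, hc₁⟩, he₁, rfl⟩ := hdecomp x hx
    obtain ⟨c₂, e₂, ⟨hc₂S, hc₂⟩, he₂, rfl⟩ := hdecomp y hy
    have hee : e₁ * e₂ = e₂ * e₁ := hc e₁ he₁.1 e₂ he₂.1 he₁.2 he₂.2
    have h1 : e₁ * c₂ = c₂ * e₁ := hc₂ e₁ he₁.1
    have h2 : e₂ * c₁ = c₁ * e₂ := hc₁ e₂ he₂.1
    have h3 : c₂ * c₁ = c₁ * c₂ := hc₁ c₂ hc₂S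
    calc c₁ * e₁ * (c₂ * e₂) = c₁ * (e₁ * c₂) * e₂ := by group
      _ = c₁ * (c₂ * e₁) * e₂ := by rw [h1]
      _ = (c₁ * c₂) * (e₁ * e₂) := by group
      _ = (c₂ * c₁) * (e₂ * e₁) := by rw [h3, hee]
      _ = c₂ * (c₁ * e₂) * e₁ := by group
      _ = c₂ * (e₂ * c₁) * e₁ := by rw [h2]
      _ = c₂ * e₂ * (c₁ * e₁) := by group

end Cfsg.Agent.Lib.H18
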