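import Mathlib
import Cfsg.Agent.Lib.H18.CaminaHerzog
import Cfsg.Agent.Lib.H26.GroupSaturated

set_option autoImplicit false

/-!
The Camina--Herzog theorem for finite groups (helper18): if every 2-element of `G` is centralized
by a Sylow 2-subgroup of `G`, then the Sylow 2-subgroups of `G` are abelian.  Derived from the
fusion system version `comm_of_conj_center` applied to `F_P(G)`.
-/

namespace Cfsg.Agent.Lib.H18

open Cfsg Cfsg.FusionSystem Cfsg.Agent.Lib.H25 Cfsg.Agent.Lib.H26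

universe u

variable {G : Type u} [Group G] [Finite G]

/-- Group form: if every element of the Sylow 2-subgroup `P` is conjugate in `G` to an element of
`Z(P)`, then `P` is abelian. -/
theorem sylow_two_comm_of_conj_center (P : Sylow 2 G)
    (h : ∀ x ∈ (P : Subgroup G), ∃ g : G,
      g * x * g⁻¹ ∈ (P : Subgroup G) ⊓ Subgroup.centralizer ((P : Subgroup G) : Set G)) :
    ∀ x ∈ (P : Subgroup G), ∀ y ∈ (P : Subgroup G), x * y = y * x := by
  haveI : Fact (Nat.Prime 2) := ⟨Nat.prime_two⟩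
  have hsat := groupFusionSystem_isSaturated (p := 2) P
  refine comm_of_conj_center _ (P : Subgroup G) rfl P.isPGroup' _ hsat ?_
  intro x hx
  obtain ⟨g, hg⟩ := h x hx
  refine ⟨g * x * g⁻¹, hg, conjHom (Subgroup.zpowers x) g, ?_, rfl⟩
  have hle : Subgroup.zpowers x ≤ (P : Subgroup G) := by
    rw [Subgroup.zpowers_le]; exact hx
  refine ⟨hle, fun y => ?_, g, fun y => rfl⟩
  obtain ⟨k, hk⟩ := Subgroup.mem_zpowers_iff.1 y.2
  show g * (y : G) * g⁻¹ ∈ (P : Subgroup G)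
  rw [← hk, ← conj_zpow]
  exact Subgroup.zpow_mem _ hg.1 k

theorem mem_smul_sylow_iff {p : ℕ} {g : G} {Q : Sylow p G} {y : G} :
    y ∈ ((g • Q : Sylow p G) : Subgroup G) ↔ ∃ q ∈ (Q : Subgroup G), y = g * q * g⁻¹ := by
  rw [Sylow.coe_subgroup_smul, Subgroup.mem_smul_pointwise_iff_exists]
  constructor
  · rintro ⟨q, hq, rfl⟩
    exact ⟨q, hq, rfl⟩
  · rintro ⟨q, hq, rfl⟩
    exact ⟨q, hq, rfl⟩

/-- A 2-element centralizing a Sylow 2-subgroup lies in it. -/
theorem mem_sylow_of_le_centralizer (Q : Sylow 2 G) {x : G} (hx : ∃ k : ℕ, orderOf x = 2 ^ k)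
    (hQ : (Q : Subgroup G) ≤ Subgroup.centralizer ({x} : Set G)) : x ∈ (Q : Subgroup G) := by
  haveI : Fact (Nat.Prime 2) := ⟨Nat.prime_two⟩
  obtain ⟨k, hk⟩ := hx
  have hzx : IsPGroup 2 (Subgroup.zpowers x) := by
    apply IsPGroup.of_card (n := k)
    rw [Nat.card_zpowers, hk]
  have hcomm : ∀ q ∈ (Q : Subgroup G), x * q = q * x := by
    intro q hq
    exact (Subgroup.mem_centralizer_iff.1 (hQ hq)) x rfl
  have hnorm : Subgroup.zpowers x ≤ Subgroup.normalizer ((Q : Subgroup G) : Set G) := by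
    rw [Subgroup.zpowers_le, Subgroup.mem_normalizer_iff]
    intro q
    constructor
    · intro hq
      have : x * q * x⁻¹ = q := by rw [hcomm q hq]; group
      rw [this]; exact hq
    · intro hq
      have h1 := hcomm _ hq
      have h2 : q = x⁻¹ * ((x * q * x⁻¹) * x) := by group
      rw [← h1] at h2
      have h3 : x⁻¹ * (x * (x * q * x⁻¹)) = x * q * x⁻¹ := by group
      rw [h3] at h2
      have h4 : x * q * x⁻¹ = q := h2.symm
      rwa [h4] at hq
  have hsup : IsPGroup 2 ((Q : Subgroup G) ⊔ Subgroup.zpowers x : Subgroup G) :=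
    IsPGroup.to_sup_of_normal_left' Q.isPGroup' hzx hnorm
  have heq := Q.is_maximal' hsup le_sup_left
  have : x ∈ ((Q : Subgroup G) ⊔ Subgroup.zpowers x : Subgroup G) :=
    (le_sup_right : Subgroup.zpowers x ≤ _) (Subgroup.mem_zpowers x)
  rwa [heq] at this

/-- If every 2-element of `G` is centralized by some Sylow 2-subgroup, the Sylow 2-subgroups are
abelian. -/
theorem sylow_two_comm_of_central (P : Sylow 2 G)
    (h : ∀ x : G, (∃ k : ℕ, orderOf x = 2 ^ k) →
      ∃ Q : Sylow 2 G, (Q : Subgroup G) ≤ Subgroup.centralizer ({x} : Set G)) :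
    ∀ x ∈ (P : Subgroup G), ∀ y ∈ (P : Subgroup G), x * y = y * x := by
  haveI : Fact (Nat.Prime 2) := ⟨Nat.prime_two⟩
  apply sylow_two_comm_of_conj_center P
  intro x hx
  have hxo : ∃ k : ℕ, orderOf x = 2 ^ k := by
    obtain ⟨k, hk⟩ := P.isPGroup' ⟨x, hx⟩
    have h1 : x ^ 2 ^ k = 1 := congrArg Subtype.val hk
    exact (Nat.dvd_prime_pow Nat.prime_two).1 (orderOf_dvd_of_pow_eq_one h1) |>.imp fun _ h => h.2
  obtain ⟨Q, hQ⟩ := h x hxo
  have hxQ := mem_sylow_of_le_centralizer Q hxo hQ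
  obtain ⟨g, hg⟩ := MulAction.exists_smul_eq G Q P
  refine ⟨g, Subgroup.mem_inf.2 ⟨?_, ?_⟩⟩
  · rw [← hg, mem_smul_sylow_iff]
    exact ⟨x, hxQ, rfl⟩
  · rw [Subgroup.mem_centralizer_iff]
    intro y hy
    have hy' : y ∈ (P : Subgroup G) := hy
    rw [← hg, mem_smul_sylow_iff] at hy'
    obtain ⟨q, hq, rfl⟩ := hy'
    have hc : x * q = q * x := (Subgroup.mem_centralizer_iff.1 (hQ hq)) x rfl
    calc g * q * g⁻¹ * (g * x * g⁻¹) = g * (q * x) * g⁻¹ := by group
      _ = g * (x * q) * g⁻¹ := by rw [hc]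
      _ = g * x * g⁻¹ * (g * q * g⁻¹) := by group

/-- A subgroup of odd index contains a Sylow 2-subgroup. -/
theorem exists_sylow_le_of_odd_index (C : Subgroup G) (hC : ¬ 2 ∣ C.index) :
    ∃ Q : Sylow 2 G, (Q : Subgroup G) ≤ C := by
  haveI : Fact (Nat.Prime 2) := ⟨Nat.prime_two⟩
  obtain ⟨P⟩ : Nonempty (Sylow 2 G) := inferInstance
  -- `P` acts on `G ⧸ C` with a fixed point
  have hmod := (P.isPGroup').card_modEq_card_fixedPoints (G ⧸ C)
  have hne : Nat.card (MulAction.fixedPoints (P : Subgroup G) (G ⧸ C)) ≠ 0 := by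
    intro h0
    rw [h0] at hmod
    apply hC
    rw [Subgroup.index_eq_card]
    exact (Nat.modEq_zero_iff_dvd).1 hmod
  have : Nonempty (MulAction.fixedPoints (P : Subgroup G) (G ⧸ C)) := by
    by_contra hemp
    rw [not_nonempty_iff] at hemp
    exact hne Nat.card_of_isEmpty
  obtain ⟨⟨a, ha⟩⟩ := this
  obtain ⟨g, rfl⟩ := QuotientGroup.mk_surjective a
  refine ⟨g⁻¹ • P, ?_⟩
  intro y hy
  rw [mem_smul_sylow_iff] at hy
  obtain ⟨q, hq, rfl⟩ := hy
  have hfix := ha ⟨q, hq⟩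
  have h1 : ((q * g : G) : G ⧸ C) = (g : G ⧸ C) := hfix
  rw [QuotientGroup.eq] at h1
  have : g⁻¹ * q * g⁻¹⁻¹ = ((q * g)⁻¹ * g)⁻¹ := by group
  rw [this]
  exact C.inv_mem h1

end Cfsg.Agent.Lib.H18
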