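import Mathlib
import Cfsg.Agent.Lib.H20.BHM1
import Cfsg.Agent.Lib.H20.ConjCover

set_option autoImplicit false
open scoped Pointwise

/-!
# Chen's lemma: centerless groups with the same class sizes, one with disconnected prime graph

Part A: general tools.
-/

namespace Cfsg.Agent.Lib.H18.ChenOrder

open Cfsg.Agent.Lib.H20.BHM

variable {G : Type*} [Group G] [Finite G]

/-- A `p`-subgroup `P ≤ K` is `K`-conjugate into any `S ≤ K` of relative index prime to `p`. -/
theorem exists_conj_le {p : ℕ} [Fact p.Prime] (P : Subgroup G) (hP : IsPGroup p P)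
    (K S : Subgroup G) (hPK : P ≤ K) (hSK : S ≤ K) (hrel : ¬ p ∣ S.relIndex K) :
    ∃ k ∈ K, ∀ x ∈ P, k⁻¹ * x * k ∈ S := by
  have hP' : IsPGroup p (P.subgroupOf K) := hP.comap_subtype
  have hcard : ¬ p ∣ Nat.card (↥K ⧸ S.subgroupOf K) := by
    have : Nat.card (↥K ⧸ S.subgroupOf K) = S.relIndex K := by
      rw [Subgroup.relIndex, Subgroup.index]
    rw [this]; exact hrel
  obtain ⟨q, hq⟩ := hP'.nonempty_fixed_point_of_prime_not_dvd_card (↥K ⧸ S.subgroupOf K) hcard
  obtain ⟨k, rfl⟩ := QuotientGroup.mk_surjective q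
  rw [MulAction.mem_fixedPoints] at hq
  refine ⟨k.1, k.2, ?_⟩
  intro y hyP
  have hyK : y ∈ K := hPK hyP
  have h1 := hq ⟨⟨y, hyK⟩, by simpa [Subgroup.mem_subgroupOf] using hyP⟩
  have h2 : (((⟨y, hyK⟩ * k : ↥K)) : ↥K ⧸ S.subgroupOf K) = (k : ↥K ⧸ S.subgroupOf K) := h1
  have h3 : k⁻¹ * (⟨y, hyK⟩ * k) ∈ S.subgroupOf K := by
    have := QuotientGroup.eq.mp h2.symm
    simpa using this
  rw [Subgroup.mem_subgroupOf] at h3
  simpa [mul_assoc] using h3

/-- In a centerless finite group every prime divisor of the order divides some class size. -/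
theorem exists_dvd_cs_of_center_eq_bot (hZ : Subgroup.center G = ⊥) {p : ℕ} [Fact p.Prime]
    (hp : p ∣ Nat.card G) : ∃ x : G, p ∣ cs x := by
  by_contra hcon
  push Not at hcon
  obtain ⟨Q⟩ : Nonempty (Sylow p G) := inferInstance
  have hC : Subgroup.centralizer ((Q : Subgroup G) : Set G) = ⊤ := by
    by_contra hne
    obtain ⟨g, hg⟩ := Cfsg.Agent.Lib.H20.exists_not_mem_conj _ hne
    have hrel : ¬ p ∣ (Subgroup.centralizer ({g} : Set G)).relIndex ⊤ := by
      rw [Subgroup.relIndex_top_right]; exact hcon g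
    obtain ⟨k, -, hk⟩ := exists_conj_le (Q : Subgroup G) Q.2 ⊤ (Subgroup.centralizer ({g} : Set G))
      le_top le_top hrel
    apply hg k⁻¹
    rw [Subgroup.mem_pointwise_smul_iff_inv_smul_mem, MulAut.smul_def, MulAut.conj_inv_apply,
      Subgroup.mem_centralizer_iff, inv_inv]
    intro y hy
    have h1 := hk y hy
    rw [Subgroup.mem_centralizer_singleton_iff] at h1
    -- h1 : k⁻¹ * y * k * g = g * (k⁻¹ * y * k)
    have h2 : y * (k * g * k⁻¹) = k * ((k⁻¹ * y * k) * g) * k⁻¹ := by group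
    rw [h2, h1]; group
  have hQ : (Q : Subgroup G) ≤ Subgroup.center G := by
    intro y hy
    rw [Subgroup.mem_center_iff]
    intro g
    have : g ∈ Subgroup.centralizer ((Q : Subgroup G) : Set G) := by rw [hC]; trivial
    rw [Subgroup.mem_centralizer_iff] at this
    exact (this y hy).symm
  rw [hZ, le_bot_iff] at hQ
  have hcard := Q.card_eq_multiplicity
  rw [hQ, Subgroup.card_bot] at hcard
  have hpos : 0 < (Nat.card G).factorization p :=
    (Fact.out : p.Prime).factorization_pos_of_dvd Nat.card_pos.ne' hp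
  have : 1 < p ^ (Nat.card G).factorization p :=
    Nat.one_lt_pow hpos.ne' (Fact.out : p.Prime).one_lt
  omega

/-- `PS S m n`: for every prime of `S`, the full power dividing `m` divides `n`. -/
def PS (S : Set ℕ) (m n : ℕ) : Prop := ∀ q : ℕ, q.Prime → q ∈ S → m.factorization q ≤ n.factorization q

theorem PS.mono {S : Set ℕ} {m n n' : ℕ} (h : PS S m n) (hd : n ∣ n') (hn' : n' ≠ 0) : PS S m n' := by
  intro q hq hqS
  have hn : n ≠ 0 := fun h0 => hn' (by rw [h0] at hd; exact zero_dvd_iff.mp hd)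
  exact (h q hq hqS).trans ((Nat.factorization_le_iff_dvd hn hn').mpr hd q)

theorem dvd_of_PS_both {S T : Set ℕ} (hST : ∀ q : ℕ, q ∈ S ∨ q ∈ T) {m n : ℕ} (hm : m ≠ 0) (hn : n ≠ 0)
    (h1 : PS S m n) (h2 : PS T m n) : m ∣ n := by
  rw [← Nat.factorization_le_iff_dvd hm hn]
  intro q
  by_cases hq : q.Prime
  · rcases hST q with h | h
    · exact h1 q hq h
    · exact h2 q hq h
  · rw [Nat.factorization_eq_zero_of_not_prime m hq]; exact Nat.zero_le _

end Cfsg.Agent.Lib.H18.ChenOrder
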