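import Mathlib
import Cfsg.Agent.Lib.H18.ChenOrderA

set_option autoImplicit false
open scoped Pointwise

/-!
# Chen's lemma, part B: the core argument inside `G`.
-/

namespace Cfsg.Agent.Lib.H18.ChenOrder

open Cfsg.Agent.Lib.H20.BHM

variable {G : Type*} [Group G] [Finite G]

/-- Abstract hypotheses on the class sizes of `G` relative to a number `m` and a partition of the
primes into `S` and `T`. -/
structure Hyp (G : Type*) [Group G] (m : ℕ) (S T : Set ℕ) : Prop where
  hm : m ≠ 0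
  cover : ∀ q : ℕ, q ∈ S ∨ q ∈ T
  disj : ∀ q : ℕ, q ∈ S → q ∉ T
  dvd : ∀ g : G, cs g ∣ m
  ne : ∀ g : G, cs g ≠ m
  typ : ∀ g : G, g ≠ 1 → PS S m (cs g) ∨ PS T m (cs g)
  exS : ∃ g : G, g ≠ 1 ∧ PS S m (cs g)
  exT : ∃ g : G, g ≠ 1 ∧ PS T m (cs g)
  prime_dvd : ∀ p : ℕ, p.Prime → p ∣ Nat.card G → p ∣ m

variable {m : ℕ} {S T : Set ℕ}

theorem Hyp.excl (h : Hyp G m S T) (g : G) : ¬ (PS S m (cs g) ∧ PS T m (cs g)) := by
  rintro ⟨h1, h2⟩
  have := dvd_of_PS_both h.cover h.hm (cs_ne_zero g) h1 h2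
  exact h.ne g (Nat.dvd_antisymm (h.dvd g) this)

theorem Hyp.pow (h : Hyp G m S T) {w : G} (hw : PS S m (cs w)) {j : ℕ} (hj : w ^ j ≠ 1) :
    PS S m (cs (w ^ j)) := by
  rcases h.typ _ hj with h1 | h1
  · exact h1
  · exfalso
    exact h.excl w ⟨hw, h1.mono (cs_dvd_of_le (centralizer_le_pow w j)) (cs_ne_zero w)⟩

theorem exists_pow_mul_eq_left {w v : G} (hc : Commute w v)
    (hco : (orderOf w).Coprime (orderOf v)) : ∃ k : ℕ, (w * v) ^ k = w := by
  obtain ⟨j, hj⟩ := exists_pow_eq_self_of_coprime (x := w) (n := orderOf v) hco.symm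
  refine ⟨orderOf v * j, ?_⟩
  rw [pow_mul, hc.mul_pow, pow_orderOf_eq_one, mul_one, hj]

theorem exists_pow_mul_eq_right {w v : G} (hc : Commute w v)
    (hco : (orderOf w).Coprime (orderOf v)) : ∃ k : ℕ, (w * v) ^ k = v := by
  obtain ⟨k, hk⟩ := exists_pow_mul_eq_left hc.symm hco.symm
  exact ⟨k, by rw [hc.eq]; exact hk⟩

theorem Hyp.mul (h : Hyp G m S T) {w v : G} (hc : Commute w v)
    (hco : (orderOf w).Coprime (orderOf v)) (hw : PS S m (cs w)) : PS S m (cs (w * v)) := by
  obtain ⟨k, hk⟩ := exists_pow_mul_eq_left hc hco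
  have h1 : cs w ∣ cs (w * v) := by
    have := cs_dvd_of_le (centralizer_le_pow (w * v) k)
    rwa [hk] at this
  exact hw.mono h1 (cs_ne_zero _)

theorem Hyp.coprime (h : Hyp G m S T) {w v : G} (hc : Commute w v)
    (hco : (orderOf w).Coprime (orderOf v)) (hw : PS S m (cs w)) (hv : v ≠ 1) : PS S m (cs v) := by
  obtain ⟨k, hk⟩ := exists_pow_mul_eq_right hc hco
  have := h.pow (h.mul hc hco hw) (j := k) (by rw [hk]; exact hv)
  rwa [hk] at this

theorem Hyp.fact_eq (h : Hyp G m S T) {w : G} (hw : PS S m (cs w)) {b : ℕ} (hb : b.Prime)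
    (hbS : b ∈ S) : (cs w).factorization b = m.factorization b :=
  le_antisymm ((Nat.factorization_le_iff_dvd (cs_ne_zero w) h.hm).mpr (h.dvd w) b) (hw b hb hbS)

theorem fact_card_centralizer (w : G) (b : ℕ) :
    (Nat.card (Subgroup.centralizer ({w} : Set G))).factorization b + (cs w).factorization b
      = (Nat.card G).factorization b := by
  have h1 := (Subgroup.centralizer ({w} : Set G)).card_mul_index
  have h2 : (Nat.card (Subgroup.centralizer ({w} : Set G)) * cs w).factorization b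
      = (Nat.card G).factorization b := by
    unfold cs; rw [h1]
  rw [Nat.factorization_mul Nat.card_pos.ne' (cs_ne_zero w)] at h2
  simpa using h2

theorem Hyp.fact_centralizer (h : Hyp G m S T) {w : G} (hw : PS S m (cs w)) {b : ℕ} (hb : b.Prime)
    (hbS : b ∈ S) :
    (Nat.card (Subgroup.centralizer ({w} : Set G))).factorization b + m.factorization b
      = (Nat.card G).factorization b := by
  rw [← h.fact_eq hw hb hbS]; exact fact_card_centralizer w b

theorem Hyp.le_fact (h : Hyp G m S T) {b : ℕ} (hb : b.Prime) (hbS : b ∈ S) :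
    m.factorization b ≤ (Nat.card G).factorization b := by
  obtain ⟨g, -, hg⟩ := h.exS
  have := h.fact_centralizer hg hb hbS
  omega

theorem Hyp.le_fact' (h : Hyp G m S T) {a : ℕ} (ha : a.Prime) (haT : a ∈ T) :
    m.factorization a ≤ (Nat.card G).factorization a := by
  obtain ⟨g, -, hg⟩ := h.exT
  have h1 := hg a ha haT
  have h2 := fact_card_centralizer g a
  omega

/-- Cauchy inside a centralizer. -/
theorem exists_orderOf_commute {w : G} {p : ℕ} (hp : p.Prime)
    (hd : p ∣ Nat.card (Subgroup.centralizer ({w} : Set G))) :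
    ∃ t : G, orderOf t = p ∧ Commute w t := by
  haveI : Fact p.Prime := ⟨hp⟩
  obtain ⟨t, ht⟩ := exists_prime_orderOf_dvd_card' (G := ↥(Subgroup.centralizer ({w} : Set G))) p hd
  refine ⟨(t : G), ?_, ?_⟩
  · rw [Subgroup.orderOf_coe]; exact ht
  · have := t.2
    rw [Subgroup.mem_centralizer_singleton_iff] at this
    exact this.symm

end Cfsg.Agent.Lib.H18.ChenOrder
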