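import Mathlib
import Cfsg.Agent.Lib.H18.ChenOrderB

set_option autoImplicit false
open scoped Pointwise

/-!
# Chen's lemma, part C: the main contradiction.
-/

namespace Cfsg.Agent.Lib.H18.ChenOrder

open Cfsg.Agent.Lib.H20.BHM

variable {G : Type*} [Group G] [Finite G] {m : ℕ} {S T : Set ℕ}

theorem Hyp.main (h : Hyp G m S T) {b : ℕ} (hb : b.Prime) (hbS : b ∈ S) :
    (Nat.card G).factorization b = m.factorization b := by
  haveI : Fact b.Prime := ⟨hb⟩
  refine le_antisymm ?_ (h.le_fact hb hbS)
  by_contra hlt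
  push Not at hlt
  -- every type-S element has centralizer of order divisible by b
  have hdvdC : ∀ w : G, PS S m (cs w) → b ∣ Nat.card (Subgroup.centralizer ({w} : Set G)) := by
    intro w hw
    have := h.fact_centralizer hw hb hbS
    have hpos : 0 < (Nat.card (Subgroup.centralizer ({w} : Set G))).factorization b := by omega
    exact Nat.dvd_of_factorization_pos hpos.ne'
  have hbG : b ∣ Nat.card G := by
    have hpos : 0 < (Nat.card G).factorization b := by omega
    exact Nat.dvd_of_factorization_pos hpos.ne'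
  have hbm : 0 < m.factorization b :=
    hb.factorization_pos_of_dvd h.hm (h.prime_dvd b hb hbG)
  -- Step 2: a type-S element of order b
  obtain ⟨u, huo, huS⟩ : ∃ u : G, orderOf u = b ∧ PS S m (cs u) := by
    obtain ⟨v, hv1, hvS⟩ := h.exS
    by_cases hbv : b ∣ orderOf v
    · refine ⟨v ^ (orderOf v / b), orderOf_pow_orderOf_div (orderOf_pos v).ne' hbv, ?_⟩
      apply h.pow hvS
      intro h1
      have := orderOf_pow_orderOf_div (orderOf_pos v).ne' hbv
      rw [h1, orderOf_one] at this
      exact hb.one_lt.ne this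
    · obtain ⟨t, hto, htc⟩ := exists_orderOf_commute hb (hdvdC v hvS)
      refine ⟨t, hto, ?_⟩
      apply h.coprime htc _ hvS
      · intro h1
        rw [h1, orderOf_one] at hto
        exact hb.one_lt.ne hto
      · rw [hto]
        exact ((Nat.Prime.coprime_iff_not_dvd hb).mpr hbv).symm
  have hu1 : u ≠ 1 := by
    intro h1; rw [h1, orderOf_one] at huo; exact hb.one_lt.ne huo
  -- Step 3: y of prime order a in T commuting with u
  obtain ⟨a, ha, haT, halt⟩ : ∃ a : ℕ, a.Prime ∧ a ∈ T ∧ (cs u).factorization a < m.factorization a := by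
    by_contra hcon
    push Not at hcon
    exact h.excl u ⟨huS, fun q hq hqT => hcon q hq hqT⟩
  have hab : a ≠ b := fun hab => h.disj b hbS (hab ▸ haT)
  have haC : a ∣ Nat.card (Subgroup.centralizer ({u} : Set G)) := by
    have h1 := fact_card_centralizer u a
    have h2 := h.le_fact' ha haT
    have hpos : 0 < (Nat.card (Subgroup.centralizer ({u} : Set G))).factorization a := by omega
    exact Nat.dvd_of_factorization_pos hpos.ne'
  obtain ⟨y, hyo, huy⟩ := exists_orderOf_commute ha haC
  have hy1 : y ≠ 1 := by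
    intro h1; rw [h1, orderOf_one] at hyo; exact ha.one_lt.ne hyo
  have hcoprime : (orderOf u).Coprime (orderOf y) := by
    rw [huo, hyo]; exact (Nat.coprime_primes hb ha).mpr hab.symm
  have hyS : PS S m (cs y) := h.coprime huy hcoprime huS hy1
  have hxS : PS S m (cs (u * y)) := h.mul huy hcoprime huS
  -- Step 4
  have hCx_u : Subgroup.centralizer ({u * y} : Set G) ≤ Subgroup.centralizer ({u} : Set G) := by
    obtain ⟨k, hk⟩ := exists_pow_mul_eq_left huy hcoprime
    have := centralizer_le_pow (u * y) k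
    rwa [hk] at this
  have hCx_y : Subgroup.centralizer ({u * y} : Set G) ≤ Subgroup.centralizer ({y} : Set G) := by
    obtain ⟨k, hk⟩ := exists_pow_mul_eq_right huy hcoprime
    have := centralizer_le_pow (u * y) k
    rwa [hk] at this
  obtain ⟨ε, hε⟩ : ∃ ε : ℕ, ε = (Nat.card G).factorization b - m.factorization b := ⟨_, rfl⟩
  have hεx : (Nat.card (Subgroup.centralizer ({u * y} : Set G))).factorization b = ε := by
    have := h.fact_centralizer hxS hb hbS
    omega
  have hεu : (Nat.card (Subgroup.centralizer ({u} : Set G))).factorization b = ε := by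
    have := h.fact_centralizer huS hb hbS
    omega
  obtain ⟨Q1, hQ1card, hQ1le⟩ : ∃ Q1 : Subgroup G, Nat.card Q1 = b ^ ε ∧
      Q1 ≤ Subgroup.centralizer ({u * y} : Set G) := by
    have hd : b ^ ε ∣ Nat.card (Subgroup.centralizer ({u * y} : Set G)) := by
      rw [← hεx]; exact Nat.ordProj_dvd _ _
    obtain ⟨K, hK⟩ := Sylow.exists_subgroup_card_pow_prime b hd
    refine ⟨K.map (Subgroup.subtype _), ?_, Subgroup.map_subtype_le K⟩
    rw [Subgroup.card_map_of_injective (Subgroup.subtype_injective _)]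
    exact hK
  -- Step 5: a type-T b-element z commuting with u
  have hzp : IsPGroup b (Subgroup.zpowers u) := by
    apply IsPGroup.of_card (n := 1)
    rw [Nat.card_zpowers, huo, pow_one]
  obtain ⟨Q', hQ'⟩ := hzp.exists_le_sylow
  have huQ' : u ∈ (Q' : Subgroup G) := hQ' (Subgroup.mem_zpowers u)
  haveI : Nontrivial ↥(Q' : Subgroup G) := ⟨⟨⟨u, huQ'⟩, 1, fun h1 => hu1 (congrArg Subtype.val h1)⟩⟩
  haveI := Q'.2.center_nontrivial
  obtain ⟨z0, hz0⟩ := exists_ne (1 : ↥(Subgroup.center ↥(Q' : Subgroup G)))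
  obtain ⟨z, hz⟩ : ∃ z : G, z = ((z0 : ↥(Q' : Subgroup G)) : G) := ⟨_, rfl⟩
  have hzQ' : z ∈ (Q' : Subgroup G) := by rw [hz]; exact (z0 : ↥(Q' : Subgroup G)).2
  have hz1 : z ≠ 1 := by
    intro h1
    apply hz0
    apply Subtype.ext
    apply Subtype.ext
    rw [← hz, h1]; rfl
  have hzcomm : ∀ t ∈ (Q' : Subgroup G), t * z = z * t := by
    intro t ht
    have h1 := z0.2
    rw [Subgroup.mem_center_iff] at h1
    have h2 := h1 ⟨t, ht⟩
    have h3 := congrArg (Subtype.val) h2
    simpa [hz] using h3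
  have hzcs : ¬ b ∣ cs z := by
    intro hd
    have hle : (Q' : Subgroup G) ≤ Subgroup.centralizer ({z} : Set G) := by
      intro t ht
      rw [Subgroup.mem_centralizer_singleton_iff]
      exact hzcomm t ht
    exact Q'.not_dvd_index (hd.trans (Subgroup.index_dvd_of_le hle))
  have hzT : PS T m (cs z) := by
    rcases h.typ z hz1 with h1 | h1
    · exfalso
      have := h1 b hb hbS
      have h0 : (cs z).factorization b = 0 := Nat.factorization_eq_zero_of_not_dvd hzcs
      omega
    · exact h1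
  have hzu : z ∈ Subgroup.centralizer ({u} : Set G) := by
    rw [Subgroup.mem_centralizer_singleton_iff]
    exact (hzcomm u huQ').symm
  -- Step 6: conjugate z into Q1 inside C(u)
  have hQ1u : Q1 ≤ Subgroup.centralizer ({u} : Set G) := hQ1le.trans hCx_u
  have hrel : ¬ b ∣ Q1.relIndex (Subgroup.centralizer ({u} : Set G)) := by
    intro hd
    have h1 := Subgroup.relIndex_mul_relIndex (H := ⊥) (K := Q1)
      (L := Subgroup.centralizer ({u} : Set G)) bot_le hQ1u
    rw [Subgroup.relIndex_bot_left, Subgroup.relIndex_bot_left, hQ1card] at h1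
    have h2 : b ^ (ε + 1) ∣ Nat.card (Subgroup.centralizer ({u} : Set G)) := by
      rw [← h1, pow_succ]
      exact Nat.mul_dvd_mul_left _ hd
    have h3 := (Nat.Prime.pow_dvd_iff_le_factorization hb Nat.card_pos.ne').mp h2
    omega
  have hzpz : IsPGroup b (Subgroup.zpowers z) := by
    apply IsPGroup.to_le (K := (Q' : Subgroup G)) Q'.2
    rw [Subgroup.zpowers_le]; exact hzQ'
  obtain ⟨k, hk, hkz⟩ := exists_conj_le (Subgroup.zpowers z) hzpz
    (Subgroup.centralizer ({u} : Set G)) Q1 (by rw [Subgroup.zpowers_le]; exact hzu) hQ1u hrel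
  have hz' := hkz z (Subgroup.mem_zpowers z)
  have hz'y : k⁻¹ * z * k ∈ Subgroup.centralizer ({y} : Set G) := hCx_y (hQ1le hz')
  rw [Subgroup.mem_centralizer_singleton_iff] at hz'y
  have hcs' : cs (k⁻¹ * z * k) = cs z := by
    have := cs_conj k⁻¹ z
    rwa [inv_inv] at this
  have hz'1 : k⁻¹ * z * k ≠ 1 := by
    intro h1
    apply hz1
    have : z = k * (k⁻¹ * z * k) * k⁻¹ := by group
    rw [this, h1]; group
  have hord : orderOf (k⁻¹ * z * k) = orderOf z := by
    have h1 := MulEquiv.orderOf_eq (MulAut.conj k⁻¹) z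
    rwa [MulAut.conj_apply, inv_inv] at h1
  have hzord : ∃ e : ℕ, orderOf z = b ^ e := by
    obtain ⟨e, he⟩ := (IsPGroup.iff_orderOf.mp Q'.2) ⟨z, hzQ'⟩
    exact ⟨e, by rw [← he, Subgroup.orderOf_mk]⟩
  obtain ⟨e, he⟩ := hzord
  have hco2 : (orderOf y).Coprime (orderOf (k⁻¹ * z * k)) := by
    rw [hord, he, hyo]
    exact Nat.Coprime.pow_right e ((Nat.coprime_primes ha hb).mpr hab)
  have hfin := h.coprime (w := y) (v := k⁻¹ * z * k) hz'y.symm hco2 hyS hz'1
  rw [hcs'] at hfin
  exact h.excl z ⟨hfin, hzT⟩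

end Cfsg.Agent.Lib.H18.ChenOrder
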