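import Mathlib
import Cfsg.Agent.Lib.H18.ChenOrderC

set_option autoImplicit false
open scoped Pointwise

/-!
# Chen's lemma, part D: the group `M` with disconnected prime graph, and the final statement.
-/

namespace Cfsg.Agent.Lib.H18.ChenOrder

open Cfsg.Agent.Lib.H20.BHM

/-- In `M`, an element whose order is divisible by a prime of `S1` has centralizer of order prime to
every prime of `S2` dividing `|M|`, when there are no elements of order `a * b` (`a ∈ S1`, `b ∈ S2`). -/
theorem ps_of_no_mixed {M : Type*} [Group M] [Finite M] {S1 S2 : Set ℕ}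
    (hno : ∀ a ∈ S1, ∀ b ∈ S2, a.Prime → b.Prime → a ∣ Nat.card M → b ∣ Nat.card M →
      ¬ ∃ x : M, orderOf x = a * b)
    (hdisj : ∀ q : ℕ, q ∈ S1 → q ∉ S2)
    (x : M) {r : ℕ} (hr : r.Prime) (hrS : r ∈ S1) (hrx : r ∣ orderOf x) :
    PS S2 (Nat.card M) (cs x) := by
  intro b hb hbS
  by_cases hbM : b ∣ Nat.card M
  · have hnd : ¬ b ∣ Nat.card (Subgroup.centralizer ({x} : Set M)) := by
      intro hd
      obtain ⟨t, hto, hxt⟩ := exists_orderOf_commute hb hd
      have hx' : orderOf (x ^ (orderOf x / r)) = r :=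
        orderOf_pow_orderOf_div (orderOf_pos x).ne' hrx
      have hc : Commute (x ^ (orderOf x / r)) t := hxt.pow_left _
      have hrb : r ≠ b := fun h => hdisj r hrS (h ▸ hbS)
      have hco : (orderOf (x ^ (orderOf x / r))).Coprime (orderOf t) := by
        rw [hx', hto]; exact (Nat.coprime_primes hr hb).mpr hrb
      have h1 := hc.orderOf_mul_eq_mul_orderOf_of_coprime hco
      rw [hx', hto] at h1
      exact hno r hrS b hbS hr hb (hrx.trans (orderOf_dvd_natCard x)) hbM ⟨_, h1⟩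
    have h2 := fact_card_centralizer x b
    have h3 : (Nat.card (Subgroup.centralizer ({x} : Set M))).factorization b = 0 :=
      Nat.factorization_eq_zero_of_not_dvd hnd
    omega
  · rw [Nat.factorization_eq_zero_of_not_dvd hbM]; exact Nat.zero_le _

theorem cs_ne_card {M : Type*} [Group M] [Finite M] (hM : Nat.card M ≠ 1) (x : M) :
    cs x ≠ Nat.card M := by
  intro h
  have h1 := (Subgroup.centralizer ({x} : Set M)).card_mul_index
  have h2 : Nat.card (Subgroup.centralizer ({x} : Set M)) = 1 := by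
    have hpos : 0 < Nat.card M := Nat.card_pos
    have : Nat.card (Subgroup.centralizer ({x} : Set M)) * Nat.card M = 1 * Nat.card M := by
      rw [one_mul]; unfold cs at h; rw [h] at h1; exact h1
    exact Nat.eq_of_mul_eq_mul_right hpos this
  have h3 : Subgroup.centralizer ({x} : Set M) = ⊥ := Subgroup.card_eq_one.mp h2
  have hx : x ∈ Subgroup.centralizer ({x} : Set M) := by
    rw [Subgroup.mem_centralizer_singleton_iff]
  rw [h3, Subgroup.mem_bot] at hx
  have h4 : cs x = 1 := by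
    rw [cs_eq_one_iff, hx]; exact Subgroup.one_mem _
  exact hM (h ▸ h4)

section final

variable {G : Type*} {M : Type*} [Group G] [Finite G] [Group M] [Finite M]

theorem hyp_of_same (hZG : Subgroup.center G = ⊥) (hZM : Subgroup.center M = ⊥)
    (hrange : Set.range (fun g : G => cs g) = Set.range (fun g : M => cs g))
    {S T : Set ℕ} (hcover : ∀ q : ℕ, q ∈ S ∨ q ∈ T) (hdisj : ∀ q : ℕ, q ∈ S → q ∉ T)
    (hS : ∃ a ∈ T, a.Prime ∧ a ∣ Nat.card M) (hT : ∃ b ∈ S, b.Prime ∧ b ∣ Nat.card M)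
    (hno : ∀ a ∈ T, ∀ b ∈ S, a.Prime → b.Prime → a ∣ Nat.card M → b ∣ Nat.card M →
      ¬ ∃ x : M, orderOf x = a * b) :
    Hyp G (Nat.card M) S T := by
  have hdisj' : ∀ q : ℕ, q ∈ T → q ∉ S := fun q hqT hqS => hdisj q hqS hqT
  have hno' : ∀ a ∈ S, ∀ b ∈ T, a.Prime → b.Prime → a ∣ Nat.card M → b ∣ Nat.card M →
      ¬ ∃ x : M, orderOf x = a * b := by
    intro a ha b hb hap hbp had hbd ⟨x, hx⟩
    exact hno b hb a ha hbp hap hbd had ⟨x, by rw [hx, mul_comm]⟩
  have hM1 : Nat.card M ≠ 1 := by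
    obtain ⟨a, -, hap, had⟩ := hS
    intro h1
    rw [h1] at had
    exact hap.one_lt.ne' (Nat.dvd_one.mp had)
  have hto : ∀ g : G, ∃ x : M, cs x = cs g := by
    intro g
    have : cs g ∈ Set.range (fun g : M => cs g) := by rw [← hrange]; exact ⟨g, rfl⟩
    exact this
  have hfrom : ∀ x : M, ∃ g : G, cs g = cs x := by
    intro x
    have : cs x ∈ Set.range (fun g : G => cs g) := by rw [hrange]; exact ⟨x, rfl⟩
    exact this
  have hne1G : ∀ g : G, g ≠ 1 → cs g ≠ 1 := by
    intro g hg h1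
    rw [cs_eq_one_iff, hZG, Subgroup.mem_bot] at h1
    exact hg h1
  have hne1M : ∀ x : M, x ≠ 1 → cs x ≠ 1 := by
    intro g hg h1
    rw [cs_eq_one_iff, hZM, Subgroup.mem_bot] at h1
    exact hg h1
  have htypM : ∀ x : M, x ≠ 1 → PS S (Nat.card M) (cs x) ∨ PS T (Nat.card M) (cs x) := by
    intro x hx
    have ho : orderOf x ≠ 1 := fun h => hx (orderOf_eq_one_iff.mp h)
    obtain ⟨r, hr, hrx⟩ := Nat.exists_prime_and_dvd ho
    rcases hcover r with hrS | hrT
    · right
      exact ps_of_no_mixed hno' hdisj x hr hrS hrx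
    · left
      exact ps_of_no_mixed hno hdisj' x hr hrT hrx
  refine ⟨Nat.card_pos.ne', hcover, hdisj, ?_, ?_, ?_, ?_, ?_, ?_⟩
  · intro g
    obtain ⟨x, hx⟩ := hto g
    rw [← hx]; exact Subgroup.index_dvd_card _
  · intro g
    obtain ⟨x, hx⟩ := hto g
    rw [← hx]; exact cs_ne_card hM1 x
  · intro g hg
    obtain ⟨x, hx⟩ := hto g
    have hx1 : x ≠ 1 := by
      intro h1
      apply hne1G g hg
      rw [← hx, h1, cs_eq_one_iff]; exact Subgroup.one_mem _
    rw [← hx]; exact htypM x hx1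
  · -- an element of type S: from an element of M of prime order in T
    obtain ⟨a, haT, hap, had⟩ := hS
    haveI : Fact a.Prime := ⟨hap⟩
    obtain ⟨x, hx⟩ := exists_prime_orderOf_dvd_card' (G := M) a had
    have hx1 : x ≠ 1 := by
      intro h1; rw [h1, orderOf_one] at hx; exact hap.one_lt.ne hx
    obtain ⟨g, hg⟩ := hfrom x
    refine ⟨g, ?_, ?_⟩
    · intro h1
      apply hne1M x hx1
      rw [← hg, h1, cs_eq_one_iff]; exact Subgroup.one_mem _
    · rw [hg]
      exact ps_of_no_mixed hno hdisj' x hap haT (by rw [hx])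
  · obtain ⟨b, hbS, hbp, hbd⟩ := hT
    haveI : Fact b.Prime := ⟨hbp⟩
    obtain ⟨x, hx⟩ := exists_prime_orderOf_dvd_card' (G := M) b hbd
    have hx1 : x ≠ 1 := by
      intro h1; rw [h1, orderOf_one] at hx; exact hbp.one_lt.ne hx
    obtain ⟨g, hg⟩ := hfrom x
    refine ⟨g, ?_, ?_⟩
    · intro h1
      apply hne1M x hx1
      rw [← hg, h1, cs_eq_one_iff]; exact Subgroup.one_mem _
    · rw [hg]
      exact ps_of_no_mixed hno' hdisj x hbp hbS (by rw [hx])
  · intro p hp hpG
    haveI : Fact p.Prime := ⟨hp⟩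
    obtain ⟨g, hg⟩ := exists_dvd_cs_of_center_eq_bot hZG hpG
    obtain ⟨x, hx⟩ := hto g
    rw [← hx] at hg
    exact hg.trans (Subgroup.index_dvd_card _)

/-- **Chen's lemma**. -/
theorem card_eq_of_same (hZG : Subgroup.center G = ⊥) (hZM : Subgroup.center M = ⊥)
    (hrange : Set.range (fun g : G => cs g) = Set.range (fun g : M => cs g))
    (A : Set ℕ) (hA : ∃ a ∈ A, a.Prime ∧ a ∣ Nat.card M) (hB : ∃ b ∉ A, b.Prime ∧ b ∣ Nat.card M)
    (hno : ∀ a ∈ A, ∀ b ∉ A, a.Prime → b.Prime → a ∣ Nat.card M → b ∣ Nat.card M →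
      ¬ ∃ x : M, orderOf x = a * b) :
    Nat.card G = Nat.card M := by
  have h1 : Hyp G (Nat.card M) Aᶜ A :=
    hyp_of_same hZG hZM hrange (fun q => (em (q ∈ A)).symm.imp id id)
      (fun q hq hqA => hq hqA) hA hB hno
  have hno' : ∀ a ∈ Aᶜ, ∀ b ∈ A, a.Prime → b.Prime → a ∣ Nat.card M → b ∣ Nat.card M →
      ¬ ∃ x : M, orderOf x = a * b := by
    intro a ha b hb hap hbp had hbd ⟨x, hx⟩
    exact hno b hb a ha hbp hap hbd had ⟨x, by rw [hx, mul_comm]⟩
  have h2 : Hyp G (Nat.card M) A Aᶜ :=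
    hyp_of_same hZG hZM hrange (fun q => em (q ∈ A))
      (fun q hq hqA => hqA hq) hB hA hno'
  apply Nat.eq_of_factorization_eq Nat.card_pos.ne' Nat.card_pos.ne'
  intro p
  by_cases hp : p.Prime
  · by_cases hpA : p ∈ A
    · exact h2.main hp hpA
    · exact h1.main hp hpA
  · rw [Nat.factorization_eq_zero_of_not_prime _ hp, Nat.factorization_eq_zero_of_not_prime _ hp]

end final

end Cfsg.Agent.Lib.H18.ChenOrder
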