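import Cfsg.Agent.Lib.H18.Co1Mod2
import Cfsg.Agent.Lib.H27.LatW

/-!
# A word-problem checker for `Co1 = Co0 / ±1` by bit matrices (helper18): the computational layer

`bv i`, `i < 24`: 24 of helper27's generators of the lattice, independent modulo twice the lattice; `genMasks`: the
masks of all 38 generators over them.  `LData ng`: `ng` generator words with the images of the `bv i` and the bit
matrices of the `2 * ng` letters (letter `2 k` = generator `k`, letter `2 k + 1` = its inverse); `LData.chk D w` traces
the 38 masks through the word `w`; `LData.prod_mem_center`: if the check succeeds the product of the word is central.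
-/

set_option autoImplicit false
set_option maxRecDepth 100000

namespace Cfsg.Agent.Lib.H18.Co1M

open Cfsg Cfsg.Agent.Lib.H28 Cfsg.Agent.Lib.H27 Cfsg.Agent.Lib.H27.Eng Cfsg.Agent.Lib.H27.LatW

/-! ### The basis -/

/-- the indices in `genLists` of the 24 chosen vectors -/
def bIdx : List ℕ := [0, 1, 2, 3, 4, 5, 6, 7, 8, 9, 10, 24, 25, 26, 27, 28, 29, 30, 31, 32, 33, 34, 35, 37]

/-- the masks of helper27's 38 generators over the chosen vectors, modulo twice the lattice -/
def genMasks : List ℕ := [1, 2, 4, 8, 16, 32, 64, 128, 256, 512, 1024, 1141, 1183, 1355, 1763, 435, 870, 1740, 493,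
  986, 1972, 797, 1594, 0, 2048, 4096, 8192, 16384, 32768, 65536, 131072, 262144, 524288, 1048576, 2097152, 4194304,
  8387466, 8388608]

/-- the chosen vectors -/
def bv (i : ℕ) : V := genLists.getD (bIdx.getD i 0) []

set_option Elab.async false in
theorem bv_leech : allLt 24 (fun i => inLeech (toFn (bv i))) = true := by decide +kernel

/-- the chosen vectors as lattice vectors -/
noncomputable def bvec (i : ℕ) : leechLattice :=
  if h : i < 24 then ⟨toFn (bv i), mem_of_inLeech (allLt_spec bv_leech i h)⟩ else 0

theorem bvec_val {i : ℕ} (h : i < 24) : ((bvec i : leechLattice) : GolayPt → ℤ) = toFn (bv i) := by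
  unfold bvec
  rw [dif_pos h]

/-! ### List-level combinations -/

/-- sum of two vectors -/
def vaddL (a c : V) : V := (List.range 24).map (fun k => nth a k + nth c k)

theorem toFn_vaddL (a c : V) : toFn (vaddL a c) = toFn a + toFn c := by
  funext p
  unfold toFn vaddL
  rw [nth_map_range 24 _ (gIdx_lt p)]
  rfl

theorem toFn_nil : toFn [] = 0 := by
  funext p
  rfl

/-- the sum of the `bv i` over the bits `i < n` of `m` -/
def combLN (n m : ℕ) : V :=
  Nat.rec (motive := fun _ => V) [] (fun i acc => bif m.testBit i then vaddL acc (bv i) else acc) n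

/-- the sum of the `bv i` over the bits `i < 24` of `m` -/
def combL (m : ℕ) : V := combLN 24 m

theorem combLN_succ (n m : ℕ) :
    combLN (n + 1) m = bif m.testBit n then vaddL (combLN n m) (bv n) else combLN n m := rfl

theorem toFn_combLN (n m : ℕ) (hn : n ≤ 24) :
    toFn (combLN n m) = ((combN bvec n m : leechLattice) : GolayPt → ℤ) := by
  induction n with
  | zero =>
    show toFn [] = _
    rw [toFn_nil]
    unfold combN
    rw [Finset.range_zero, Finset.sum_empty]
    rfl
  | succ n ih =>
    have ih' := ih (by omega)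
    have e : combN bvec (n + 1) m = combN bvec n m + (if m.testBit n then bvec n else 0) := by
      unfold combN
      rw [Finset.sum_range_succ]
    rw [combLN_succ, e, AddSubgroup.coe_add, ← ih']
    by_cases h : m.testBit n
    · rw [h, cond_true, if_pos rfl, toFn_vaddL, bvec_val (by omega)]
    · rw [Bool.not_eq_true] at h
      rw [h, cond_false, if_neg (by simp)]
      simp

theorem toFn_combL (m : ℕ) : toFn (combL m) = ((combV bvec m : leechLattice) : GolayPt → ℤ) :=
  toFn_combLN 24 m le_rfl

/-- `x - combL m` is twice a lattice vector -/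
def halfChk (x : V) (m : ℕ) : Bool :=
  (List.range 24).all (fun k => decide ((nth x k - nth (combL m) k) % 2 = 0)) &&
    inLeech (toFn ((List.range 24).map (fun k => (nth x k - nth (combL m) k) / 2)))

theorem cong_of_halfChk {x : V} {m : ℕ} (h : halfChk x m = true) (hx : toFn x ∈ leechLattice) :
    Cong (⟨toFn x, hx⟩ : leechLattice) (combV bvec m) := by
  unfold halfChk at h
  rw [Bool.and_eq_true, List.all_eq_true] at h
  obtain ⟨h1, h2⟩ := h
  refine ⟨⟨_, mem_of_inLeech h2⟩, ?_⟩
  apply Subtype.ext
  rw [AddSubgroup.coe_sub, AddSubgroup.coe_nsmul, ← toFn_combL]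
  funext p
  have hk := gIdx_lt p
  have hev := of_decide_eq_true (h1 (gIdx p) (List.mem_range.2 hk))
  show toFn x p - toFn (combL m) p = (2 • toFn _) p
  rw [Pi.smul_apply]
  unfold toFn
  rw [nth_map_range 24 _ hk]
  rw [nsmul_eq_mul]
  push_cast
  omega

/-! ### The generators of the lattice -/

set_option Elab.async false in
theorem gens_ok : allLt 38 (fun k => halfChk (genLists.getD k []) (genMasks.getD k 0)) = true := by
  decide +kernel

theorem genLists_length : genLists.length = 38 := by decide +kernel

theorem cong_gen {l : V} (hl : l ∈ genLists) (hL : toFn l ∈ leechLattice) :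
    ∃ m ∈ genMasks, Cong (⟨toFn l, hL⟩ : leechLattice) (combV bvec m) := by
  obtain ⟨k, hk, rfl⟩ := List.getElem_of_mem hl
  have hk38 : k < 38 := by rw [← genLists_length]; exact hk
  have h := allLt_spec gens_ok k hk38
  rw [List.getD_eq_getElem _ _ hk] at h
  have hkm : k < genMasks.length := hk38
  rw [List.getD_eq_getElem _ _ hkm] at h
  exact ⟨genMasks[k], List.getElem_mem hkm, cong_of_halfChk h hL⟩

/-! ### Letters -/

/-- data of `ng` generators: the words, the images of the 24 vectors, the bit matrices of the `2 * ng` letters -/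
structure LData (ng : ℕ) where
  /-- the word of the generator `k` -/
  W : ℕ → List Gen
  /-- the image of `bv i` under the generator `k` -/
  img : ℕ → ℕ → V
  /-- the row `i` of the matrix of the letter `x` -/
  R : ℕ → ℕ → ℕ
  /-- the packed byte table of the matrix of the letter `x` -/
  T : ℕ → ℕ

variable {ng : ℕ}

/-- the check of the generator `k` -/
def LData.okGen (D : LData ng) (k : ℕ) : Bool :=
  (D.W k).all Gen.ok && allLt 24 (fun i => decide (actWord (D.W k) (bv i) = D.img k i) &&
    halfChk (D.img k i) (D.R (2 * k) i) &&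
    Nat.beq (mulRow (D.R (2 * k)) (D.R (2 * k + 1) i)) (Nat.pow 2 i)) &&
  tabOK (D.R (2 * k)) (D.T (2 * k)) && tabOK (D.R (2 * k + 1)) (D.T (2 * k + 1))

/-- the group element of the letter `x` -/
noncomputable def LData.ge (D : LData ng) (x : ℕ) : Co0 :=
  if x < 2 * ng then (if x % 2 = 0 then wordCo0 (D.W (x / 2)) else (wordCo0 (D.W (x / 2)))⁻¹) else 1

theorem combV_two_pow {i : ℕ} (hi : i < 24) : combV bvec (2 ^ i) = bvec i := by
  unfold combV combN
  rw [Finset.sum_eq_single i]
  · rw [Nat.testBit_two_pow_self, if_pos rfl]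
  · intro j _ hj
    rw [Nat.testBit_two_pow, if_neg]
    simp only [decide_eq_true_eq]
    exact fun h => hj h.symm
  · intro h
    exact absurd (Finset.mem_range.2 hi) h

theorem LData.cong_gen_even (D : LData ng) {k : ℕ} (hok : D.okGen k = true) {i : ℕ} (hi : i < 24) :
    Cong (wordCo0 (D.W k) • bvec i) (combV bvec (D.R (2 * k) i)) := by
  unfold LData.okGen at hok
  rw [Bool.and_eq_true, Bool.and_eq_true, Bool.and_eq_true] at hok
  have h := allLt_spec hok.1.1.2 i hi
  rw [Bool.and_eq_true, Bool.and_eq_true, decide_eq_true_eq] at h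
  obtain ⟨⟨h1, h2⟩, -⟩ := h
  have hb : toFn (bv i) ∈ leechLattice := mem_of_inLeech (allLt_spec bv_leech i hi)
  have h3 := actWord_spec (D.W k) hok.1.1.1 (bv i) hb
  rw [h1] at h3
  have hx : toFn (D.img k i) ∈ leechLattice := by rw [h3]; exact Subtype.property _
  have e : wordCo0 (D.W k) • bvec i = ⟨toFn (D.img k i), hx⟩ := by
    apply Subtype.ext
    show ((wordCo0 (D.W k) • bvec i : leechLattice) : GolayPt → ℤ) = toFn (D.img k i)
    rw [h3]
    congr 2
    apply Subtype.ext
    exact bvec_val hi
  rw [e]
  exact cong_of_halfChk h2 hx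

theorem LData.cong_gen_odd (D : LData ng) {k : ℕ} (hok : D.okGen k = true) {i : ℕ} (hi : i < 24) :
    Cong ((wordCo0 (D.W k))⁻¹ • bvec i) (combV bvec (D.R (2 * k + 1) i)) := by
  have hR := fun j (hj : j < 24) => D.cong_gen_even hok hj
  have h1 := smul_combV bvec (wordCo0 (D.W k)) (D.R (2 * k)) hR (D.R (2 * k + 1) i)
  have hok' := hok
  unfold LData.okGen at hok'
  rw [Bool.and_eq_true, Bool.and_eq_true, Bool.and_eq_true] at hok'
  have h := allLt_spec hok'.1.1.2 i hi
  rw [Bool.and_eq_true, Bool.and_eq_true] at h
  have h2 : mulRow (D.R (2 * k)) (D.R (2 * k + 1) i) = 2 ^ i := Nat.eq_of_beq_eq_true h.2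
  rw [h2, combV_two_pow hi] at h1
  have h3 := Cong.smul (wordCo0 (D.W k))⁻¹ h1
  rw [inv_smul_smul] at h3
  exact h3.symm

/-- all generators are checked -/
def LData.ok (D : LData ng) : Prop := ∀ k < ng, D.okGen k = true

theorem LData.cong_letter (D : LData ng) (hok : D.ok) :
    ∀ x < 2 * ng, ∀ i < 24, Cong (D.ge x • bvec i) (combV bvec (D.R x i)) := by
  intro x hx i hi
  unfold LData.ge
  rw [if_pos hx]
  have hk : x / 2 < ng := by omega
  by_cases h : x % 2 = 0
  · rw [if_pos h]
    have e : x = 2 * (x / 2) := by omega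
    rw [e, Nat.mul_div_cancel_left _ (by norm_num : 0 < 2)]
    exact D.cong_gen_even (hok _ hk) hi
  · rw [if_neg h]
    have e : x = 2 * (x / 2) + 1 := by omega
    have e2 : (2 * (x / 2) + 1) / 2 = x / 2 := by omega
    rw [e, e2]
    exact D.cong_gen_odd (hok _ hk) hi

theorem LData.tab_letter (D : LData ng) (hok : D.ok) : ∀ x < 2 * ng, tabOK (D.R x) (D.T x) = true := by
  intro x hx
  have hk : x / 2 < ng := by omega
  have h := hok _ hk
  unfold LData.okGen at h
  rw [Bool.and_eq_true, Bool.and_eq_true, Bool.and_eq_true] at h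
  by_cases h2 : x % 2 = 0
  · have e : x = 2 * (x / 2) := by omega
    rw [e]
    exact h.1.2
  · have e : x = 2 * (x / 2) + 1 := by omega
    rw [e]
    exact h.2

/-- **the checker**: all letters are `< 2 * ng` and the 38 masks are fixed by the trace -/
def LData.chk (D : LData ng) (w : List ℕ) : Bool :=
  w.all (fun x => decide (x < 2 * ng)) && genMasks.all (fun m => Nat.beq (traceF D.T w m) m)

/-- **soundness**: the product of a checked word is central in `Co0` -/
theorem LData.prod_mem_center (D : LData ng) (hok : D.ok) (w : List ℕ) (h : D.chk w = true) :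
    (w.map D.ge).prod ∈ Subgroup.center Co0 := by
  unfold LData.chk at h
  rw [Bool.and_eq_true, List.all_eq_true, List.all_eq_true] at h
  obtain ⟨hw, hm⟩ := h
  have hw' : ∀ x ∈ w, x < 2 * ng := fun x hx => of_decide_eq_true (hw x hx)
  apply mem_center_of_cong_gens
  intro l hl hL
  obtain ⟨m, hmem, hc⟩ := cong_gen hl hL
  have h1 := Cong.smul (w.map D.ge).prod hc
  have h2 := prod_smul_combV_fast bvec D.ge D.R D.T (2 * ng) (D.cong_letter hok) (D.tab_letter hok) w hw' m
  rw [Nat.eq_of_beq_eq_true (hm m hmem)] at h2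
  exact (h1.trans h2).trans hc.symm

end Cfsg.Agent.Lib.H18.Co1M
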