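import Cfsg.Agent.Lib.H27.Co0Word
import Cfsg.Agent.Lib.H27.Co0Mod2

/-!
# Words of `Co0` acting trivially on the lattice modulo twice the lattice (helper18)

A generic framework for a word-problem checker of `Co1 = Co0 / ±1`: congruence of lattice vectors modulo twice the
lattice, combinations `combV b m` of 24 vectors `b i` over a bit mask `m`, the product `mulRow R m` of a mask by a bit
matrix with rows `R i`, and the trace `traceM R w m` of a mask through a word of letters, each letter `x` acting by the
matrix `R x`.  If every letter `x` acts on the vectors `b i` by the rows `R x i` modulo twice the lattice, then the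
product of the word maps `combV b m` to `combV b (traceM R w m)` modulo twice the lattice; if the traces of the masks of
helper27's generators of the lattice are trivial, the product of the word lies in the centre of `Co0`.
-/

set_option autoImplicit false

namespace Cfsg.Agent.Lib.H18.Co1M

open Cfsg Cfsg.Agent.Lib.H28 Cfsg.Agent.Lib.H27 Cfsg.Agent.Lib.H27.Eng

/-! ### Congruence modulo twice the lattice -/

/-- congruence modulo twice the lattice -/
def Cong (v w : leechLattice) : Prop := ∃ u : leechLattice, v - w = 2 • u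

theorem Cong.refl (v : leechLattice) : Cong v v := ⟨0, by simp⟩

theorem Cong.of_eq {v w : leechLattice} (h : v = w) : Cong v w := h ▸ Cong.refl v

theorem Cong.symm {v w : leechLattice} (h : Cong v w) : Cong w v := by
  obtain ⟨u, hu⟩ := h
  exact ⟨-u, by rw [smul_neg, ← hu]; abel⟩

theorem Cong.trans {v w x : leechLattice} (h1 : Cong v w) (h2 : Cong w x) : Cong v x := by
  obtain ⟨u1, hu1⟩ := h1
  obtain ⟨u2, hu2⟩ := h2
  exact ⟨u1 + u2, by rw [smul_add, ← hu1, ← hu2]; abel⟩

theorem Cong.add {v w v' w' : leechLattice} (h1 : Cong v w) (h2 : Cong v' w') :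
    Cong (v + v') (w + w') := by
  obtain ⟨u1, hu1⟩ := h1
  obtain ⟨u2, hu2⟩ := h2
  exact ⟨u1 + u2, by rw [smul_add, ← hu1, ← hu2]; abel⟩

theorem Cong.zero_of_double (v : leechLattice) : Cong (v + v) 0 := ⟨v, by rw [sub_zero, two_nsmul]⟩

theorem Co0_smul_sub' (g : Co0) (v w : leechLattice) : g • (v - w) = g • v - g • w := by
  rw [sub_eq_add_neg, Co0_smul_add, Co0_smul_neg, ← sub_eq_add_neg]

theorem Cong.smul (g : Co0) {v w : leechLattice} (h : Cong v w) : Cong (g • v) (g • w) := by
  obtain ⟨u, hu⟩ := h
  refine ⟨g • u, ?_⟩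
  rw [← Co0_smul_sub', hu, two_nsmul, two_nsmul, Co0_smul_add]

theorem Cong.sum {ι : Type*} (s : Finset ι) (f g : ι → leechLattice) (h : ∀ i ∈ s, Cong (f i) (g i)) :
    Cong (∑ i ∈ s, f i) (∑ i ∈ s, g i) := by
  classical
  induction s using Finset.induction_on with
  | empty => simp only [Finset.sum_empty]; exact Cong.refl 0
  | insert a s ha ih =>
    rw [Finset.sum_insert ha, Finset.sum_insert ha]
    exact Cong.add (h a (Finset.mem_insert_self a s))
      (ih (fun i hi => h i (Finset.mem_insert_of_mem hi)))

theorem Co0_smul_sum {ι : Type*} (g : Co0) (s : Finset ι) (f : ι → leechLattice) :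
    g • (∑ i ∈ s, f i) = ∑ i ∈ s, g • f i := by
  classical
  induction s using Finset.induction_on with
  | empty => simp only [Finset.sum_empty]; exact Co0_smul_zero g
  | insert a s ha ih => rw [Finset.sum_insert ha, Finset.sum_insert ha, Co0_smul_add, ih]

/-! ### Combinations over a bit mask -/

section comb

variable (b : ℕ → leechLattice)

/-- the sum of the vectors `b i` over the bits `i < n` of the mask `m` -/
def combN (n m : ℕ) : leechLattice := ∑ i ∈ Finset.range n, if m.testBit i then b i else 0

/-- the sum of the vectors `b i` over the bits `i < 24` of the mask `m` -/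
def combV (m : ℕ) : leechLattice := combN b 24 m

theorem combN_xor (n m m' : ℕ) : Cong (combN b n (m ^^^ m')) (combN b n m + combN b n m') := by
  unfold combN
  rw [← Finset.sum_add_distrib]
  apply Cong.sum
  intro i _
  rw [Nat.testBit_xor]
  by_cases h1 : m.testBit i <;> by_cases h2 : m'.testBit i <;> simp only [h1, h2, bne_self_eq_false,
    Bool.false_eq_true, if_false, if_true, add_zero, zero_add, Bool.true_bne, Bool.false_bne, Bool.not_true,
    Bool.not_false, Bool.bne_true, Bool.bne_false]
  · exact (Cong.zero_of_double (b i)).symm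
  · exact Cong.refl _
  · exact Cong.refl _
  · exact Cong.refl _

theorem combV_xor (m m' : ℕ) : Cong (combV b (m ^^^ m')) (combV b m + combV b m') := combN_xor b 24 m m'

theorem combN_zero (n : ℕ) : combN b n 0 = 0 := by
  unfold combN
  apply Finset.sum_eq_zero
  intro i _
  rw [Nat.zero_testBit]
  rfl

/-- the product of the mask `m` (bits `< n`) by the matrix with rows `R i` -/
def mulRowN (R : ℕ → ℕ) (n m : ℕ) : ℕ :=
  Nat.rec (motive := fun _ => ℕ) 0 (fun i acc => bif m.testBit i then Nat.xor acc (R i) else acc) n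

/-- the product of the mask `m` by the matrix with rows `R i`, `i < 24` -/
def mulRow (R : ℕ → ℕ) (m : ℕ) : ℕ := mulRowN R 24 m

theorem mulRowN_succ (R : ℕ → ℕ) (n m : ℕ) :
    mulRowN R (n + 1) m = bif m.testBit n then (mulRowN R n m) ^^^ (R n) else mulRowN R n m := rfl

theorem combV_mulRowN (R : ℕ → ℕ) (n m : ℕ) :
    Cong (combV b (mulRowN R n m)) (∑ i ∈ Finset.range n, if m.testBit i then combV b (R i) else 0) := by
  induction n with
  | zero =>
    rw [Finset.range_zero, Finset.sum_empty]
    exact Cong.of_eq (combN_zero b 24)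
  | succ n ih =>
    rw [mulRowN_succ, Finset.sum_range_succ]
    by_cases h : m.testBit n
    · rw [h, cond_true, if_pos rfl]
      exact (combV_xor b _ _).trans (Cong.add ih (Cong.refl _))
    · rw [Bool.not_eq_true] at h
      rw [h, cond_false, if_neg (by simp), add_zero]
      exact ih

/-- a group element acting on the `b i` by the rows `R i` acts on the combinations by `mulRow R` -/
theorem smul_combV (g : Co0) (R : ℕ → ℕ) (hR : ∀ i < 24, Cong (g • b i) (combV b (R i))) (m : ℕ) :
    Cong (g • combV b m) (combV b (mulRow R m)) := by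
  have h1 : g • combV b m = ∑ i ∈ Finset.range 24, if m.testBit i then g • b i else 0 := by
    unfold combV combN
    rw [Co0_smul_sum]
    apply Finset.sum_congr rfl
    intro i _
    by_cases h : m.testBit i
    · rw [if_pos h, if_pos h]
    · rw [if_neg h, if_neg h, Co0_smul_zero]
  rw [h1]
  refine Cong.trans ?_ (combV_mulRowN b R 24 m).symm
  apply Cong.sum
  intro i hi
  by_cases h : m.testBit i
  · rw [if_pos h, if_pos h]
    exact hR i (Finset.mem_range.1 hi)
  · rw [if_neg h, if_neg h]
    exact Cong.refl 0

/-- the trace of a mask through a word (the last letter acts first) -/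
def traceM (R : ℕ → ℕ → ℕ) (w : List ℕ) (m : ℕ) : ℕ := w.foldr (fun x acc => mulRow (R x) acc) m

theorem prod_smul_combV (ge : ℕ → Co0) (R : ℕ → ℕ → ℕ) (L : ℕ)
    (hR : ∀ x < L, ∀ i < 24, Cong (ge x • b i) (combV b (R x i)))
    (w : List ℕ) (hw : ∀ x ∈ w, x < L) (m : ℕ) :
    Cong ((w.map ge).prod • combV b m) (combV b (traceM R w m)) := by
  induction w with
  | nil =>
    rw [List.map_nil, List.prod_nil, one_smul]
    exact Cong.refl _
  | cons x w ih =>
    have hx : x < L := hw x List.mem_cons_self
    have ih' := ih (fun y hy => hw y (List.mem_cons_of_mem _ hy))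
    rw [List.map_cons, List.prod_cons, mul_smul]
    have e : traceM R (x :: w) m = mulRow (R x) (traceM R w m) := rfl
    rw [e]
    exact (Cong.smul (ge x) ih').trans (smul_combV b (ge x) (R x) (hR x hx) _)

/-! ### Byte tables -/

theorem testBit_255 (i : ℕ) : (255 : ℕ).testBit i = decide (i < 8) :=
  Nat.testBit_two_pow_sub_one 8 i

/-- the byte number `j` of a mask, in place -/
def part (j m : ℕ) : ℕ := Nat.shiftLeft (Nat.land (Nat.shiftRight m (8 * j)) 255) (8 * j)

theorem testBit_part (j m i : ℕ) :
    (part j m).testBit i = (decide (8 * j ≤ i) && (m.testBit i && decide (i - 8 * j < 8))) := by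
  unfold part
  show (((m >>> (8 * j)) &&& 255) <<< (8 * j)).testBit i = _
  rw [Nat.testBit_shiftLeft, Nat.testBit_and, Nat.testBit_shiftRight, testBit_255]
  by_cases h : 8 * j ≤ i
  · rw [Nat.add_sub_cancel' h]
  · simp [h]

theorem combV_parts (m : ℕ) :
    combV b m = combV b (part 0 m) + combV b (part 1 m) + combV b (part 2 m) := by
  unfold combV combN
  rw [← Finset.sum_add_distrib, ← Finset.sum_add_distrib]
  apply Finset.sum_congr rfl
  intro i hi
  rw [testBit_part, testBit_part, testBit_part]
  have hi' := Finset.mem_range.1 hi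
  by_cases hm : m.testBit i
  · rw [hm]
    interval_cases i <;> simp
  · rw [Bool.not_eq_true] at hm
    rw [hm]
    simp

/-- lookup in a packed byte table: entry `v` of the byte `j` -/
def lkT (T j v : ℕ) : ℕ := Nat.land (Nat.shiftRight T (24 * (256 * j + v))) 16777215

/-- the byte number `j` of a mask -/
def byteOf (j m : ℕ) : ℕ := Nat.land (Nat.shiftRight m (8 * j)) 255

/-- the product of a mask by a matrix given by its byte table -/
def stepF (T m : ℕ) : ℕ :=
  Nat.xor (Nat.xor (lkT T 0 (byteOf 0 m)) (lkT T 1 (byteOf 1 m))) (lkT T 2 (byteOf 2 m))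

/-- the byte table `T` belongs to the matrix with rows `R i` -/
def tabOK (R : ℕ → ℕ) (T : ℕ) : Bool :=
  Nat.rec (motive := fun _ => Bool) true (fun j ih =>
    Nat.rec (motive := fun _ => Bool) true (fun v ih2 =>
      Nat.beq (mulRow R (Nat.shiftLeft v (8 * j))) (lkT T j v) && ih2) 256 && ih) 3

theorem tabOK_spec {R : ℕ → ℕ} {T : ℕ} (h : tabOK R T = true) {j : ℕ} (hj : j < 3) {v : ℕ} (hv : v < 256) :
    mulRow R (Nat.shiftLeft v (8 * j)) = lkT T j v := by
  have inner : ∀ (f : ℕ → Bool) (n : ℕ),
      Nat.rec (motive := fun _ => Bool) true (fun v ih2 => f v && ih2) n = true → ∀ v < n, f v = true := by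
    intro f n
    induction n with
    | zero => intro _ v hv; omega
    | succ n ih =>
      intro h v hv
      have h' : (f n && Nat.rec (motive := fun _ => Bool) true (fun v ih2 => f v && ih2) n) = true := h
      rw [Bool.and_eq_true] at h'
      rcases Nat.lt_succ_iff_lt_or_eq.mp hv with h1 | h1
      · exact ih h'.2 v h1
      · rw [h1]; exact h'.1
  have h1 := inner (fun j => Nat.rec (motive := fun _ => Bool) true (fun v ih2 =>
      Nat.beq (mulRow R (Nat.shiftLeft v (8 * j))) (lkT T j v) && ih2) 256) 3 h j hj
  have h2 := inner (fun v => Nat.beq (mulRow R (Nat.shiftLeft v (8 * j))) (lkT T j v)) 256 h1 v hv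
  exact Nat.eq_of_beq_eq_true h2

theorem byteOf_lt (j m : ℕ) : byteOf j m < 256 := by
  unfold byteOf
  have : (m >>> (8 * j)) &&& 255 ≤ 255 := Nat.and_le_right
  exact Nat.lt_succ_of_le this

theorem smul_combV_fast (g : Co0) (R : ℕ → ℕ) (hR : ∀ i < 24, Cong (g • b i) (combV b (R i)))
    (T : ℕ) (hT : tabOK R T = true) (m : ℕ) : Cong (g • combV b m) (combV b (stepF T m)) := by
  have hp : ∀ j < 3, Cong (g • combV b (part j m)) (combV b (lkT T j (byteOf j m))) := by
    intro j hj
    have h1 := smul_combV b g R hR (part j m)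
    have e : part j m = Nat.shiftLeft (byteOf j m) (8 * j) := rfl
    rw [e, tabOK_spec hT hj (byteOf_lt j m)] at h1
    rw [e]
    exact h1
  rw [combV_parts b m, Co0_smul_add, Co0_smul_add]
  have h3 := Cong.add (Cong.add (hp 0 (by norm_num)) (hp 1 (by norm_num))) (hp 2 (by norm_num))
  refine h3.trans ?_
  unfold stepF
  exact ((combV_xor b _ _).trans (Cong.add (combV_xor b _ _) (Cong.refl _))).symm

/-- the trace of a mask through a word by byte tables (the last letter acts first) -/
def traceF (T : ℕ → ℕ) (w : List ℕ) (m : ℕ) : ℕ := w.foldr (fun x acc => stepF (T x) acc) m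

theorem prod_smul_combV_fast (ge : ℕ → Co0) (R : ℕ → ℕ → ℕ) (T : ℕ → ℕ) (L : ℕ)
    (hR : ∀ x < L, ∀ i < 24, Cong (ge x • b i) (combV b (R x i)))
    (hT : ∀ x < L, tabOK (R x) (T x) = true)
    (w : List ℕ) (hw : ∀ x ∈ w, x < L) (m : ℕ) :
    Cong ((w.map ge).prod • combV b m) (combV b (traceF T w m)) := by
  induction w with
  | nil =>
    rw [List.map_nil, List.prod_nil, one_smul]
    exact Cong.refl _
  | cons x w ih =>
    have hx : x < L := hw x List.mem_cons_self
    have ih' := ih (fun y hy => hw y (List.mem_cons_of_mem _ hy))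
    rw [List.map_cons, List.prod_cons, mul_smul]
    have e : traceF T (x :: w) m = stepF (T x) (traceF T w m) := rfl
    rw [e]
    exact (Cong.smul (ge x) ih').trans (smul_combV_fast b (ge x) (R x) (hR x hx) (T x) (hT x hx) _)

end comb

/-! ### The conclusion -/

/-- the vectors moved by `g` by an element of twice the lattice -/
def congSub (g : Co0) : AddSubgroup (GolayPt → ℤ) where
  carrier := {x | ∃ hx : x ∈ leechLattice, Cong (g • (⟨x, hx⟩ : leechLattice)) ⟨x, hx⟩}
  zero_mem' := ⟨leechLattice.zero_mem, Cong.of_eq (Co0_smul_zero g)⟩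
  add_mem' := by
    rintro x y ⟨hx, hx'⟩ ⟨hy, hy'⟩
    refine ⟨leechLattice.add_mem hx hy, ?_⟩
    have := Cong.add hx' hy'
    rw [← Co0_smul_add] at this
    exact this
  neg_mem' := by
    rintro x ⟨hx, hx'⟩
    refine ⟨leechLattice.neg_mem hx, ?_⟩
    obtain ⟨u, hu⟩ := hx'
    refine ⟨-u, ?_⟩
    have e : (⟨-x, leechLattice.neg_mem hx⟩ : leechLattice) = -⟨x, hx⟩ := rfl
    rw [e, Co0_smul_neg, smul_neg, ← hu]
    abel

/-- an element of `Co0` acting trivially modulo twice the lattice on helper27's generators is central -/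
theorem mem_center_of_cong_gens (g : Co0)
    (h : ∀ l ∈ genLists, ∀ hl : toFn l ∈ leechLattice, Cong (g • (⟨toFn l, hl⟩ : leechLattice)) ⟨toFn l, hl⟩) :
    g ∈ Subgroup.center Co0 := by
  have key : ∀ l ∈ genLists, toFn l ∈ congSub g := fun l hl => ⟨genLists_mem hl, h l hl _⟩
  have hle : leechLattice ≤ congSub g := by
    apply leech_le_of_gens (congSub g)
    · intro i
      rw [← toFn_gen1L]
      apply key
      unfold genLists
      simp only [List.mem_append, List.mem_map, List.mem_range]
      exact Or.inl (Or.inl (Or.inl ⟨gIdx i, gIdx_lt i, rfl⟩))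
    · rw [← toFn_gen2L]
      apply key
      simp [genLists]
    · intro m hm
      rw [← toFn_gen3L]
      apply key
      unfold genLists
      simp only [List.mem_append, List.mem_map]
      exact Or.inl (Or.inr ⟨m, hm, rfl⟩)
    · rw [← toFn_gen4L]
      apply key
      simp [genLists]
  apply mem_center_of_trivial_mod2
  intro v
  obtain ⟨hv, u, hu⟩ := hle v.2
  refine ⟨u, ?_⟩
  have := congrArg (fun z : leechLattice => (z : GolayPt → ℤ)) hu
  exact this

end Cfsg.Agent.Lib.H18.Co1M
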