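import Cfsg.Agent.Lib.H27.McLOut
import Cfsg.Agent.Lib.H18.McL275Data

/-!
# A faithful permutation representation of degree 275 of the McLaughlin group `MC ≤ Co0` (helper18, for S2047)

The group `MC = Stab(V) ⊓ Stab(U)` of `Lib/H27/McLOutGen` permutes the 275 lattice vectors `pt i` of
`McL275Data`; the four generators `s d v c` act as the letters `0..3` of the table `pd`, and the representation
is faithful because the 275 vectors together with `U` and `V` span a sublattice of finite index.
-/

set_option autoImplicit false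

namespace Cfsg.Agent.Lib.H18.McL275

open Cfsg MulAction Cfsg.Agent.Lib.H28 Cfsg.Agent.Lib.H27 Cfsg.Agent.Lib.H27.Eng
open Cfsg.Agent.Lib.H27.LatW Cfsg.Agent.Lib.H27.PermN
open Cfsg.Agent.Lib.H27.McLOut Cfsg.Agent.Lib.H27.McLOutData Cfsg.Agent.Lib.H27.Co3GenData

/-! ### The points -/

theorem P_leech {i : ℕ} (hi : i < 275) : toFn (P i) ∈ leechLattice :=
  mem_of_inLeech (allLt_spec pts_leech i hi)

theorem unpkGo_length (f n : ℕ) : (unpkGo f n).length = f := by
  induction f generalizing n with
  | zero => rfl
  | succ f ih =>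
    show ((Int.ofNat (Nat.land n 15) - 8) :: unpkGo f (Nat.shiftRight n 4)).length = f + 1
    rw [List.length_cons, ih]

theorem P_length (i : ℕ) : (P i).length = 24 := unpkGo_length 24 _

theorem P_inj {i j : ℕ} (hi : i < 275) (hj : j < 275) (h : P i = P j) : i = j := by
  have hnd : (ptsN.map unpk).Nodup := nodup_of_strictSorted pts_sorted
  have hlen : (ptsN.map unpk).length = 275 := by rw [List.length_map, ptsN_length]
  have e : ∀ k (hk : k < 275), (ptsN.map unpk)[k]'(by rw [hlen]; exact hk) = P k := by
    intro k hk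
    unfold P
    rw [List.getElem_map, List.getD_eq_getElem _ _ (by rw [ptsN_length]; exact hk)]
  have h2 : (ptsN.map unpk)[i]'(by rw [hlen]; exact hi) = (ptsN.map unpk)[j]'(by rw [hlen]; exact hj) := by
    rw [e i hi, e j hj, h]
  exact (List.Nodup.getElem_inj_iff hnd).1 h2

/-- the `i`-th point as a lattice vector -/
noncomputable def pt (i : Fin 275) : leechLattice := ⟨toFn (P i), P_leech i.2⟩

theorem pt_val (i : Fin 275) : ((pt i : leechLattice) : GolayPt → ℤ) = toFn (P i) := rfl

theorem pt_injective : Function.Injective pt := by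
  intro i j h
  have h1 : toFn (P i) = toFn (P j) := congrArg Subtype.val h
  have h2 := eq_of_toFn_eq (P_length i) (P_length j) h1
  exact Fin.ext (P_inj i.2 j.2 h2)

/-! ### The action of the generators -/

theorem sgM_getD_ok {k : ℕ} (hk : k < 4) : (sgM.getD k []).all Gen.ok = true := by
  have h1 := sgM_ok
  unfold sgOK at h1
  rw [List.all_eq_true] at h1
  apply h1
  have hl : k < sgM.length := hk
  rw [List.getD_eq_getElem _ _ hl]
  exact List.getElem_mem hl

theorem lk_lt {k : ℕ} (hk : k < 8) (i : Fin 275) : lk GT k i < 275 := pd.lk_lt hk i.2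

/-- the generators act on the points as the letters of the table -/
theorem gen_act {k : ℕ} (hk : k < 4) (i : Fin 275) :
    wordCo0 (sgM.getD k []) • pt i = pt ⟨lk GT k i, lk_lt (by omega) i⟩ := by
  apply Subtype.ext
  have h1 := actWord_spec (sgM.getD k []) (sgM_getD_ok hk) (P i) (P_leech i.2)
  have h2 : actWord (sgM.getD k []) (P i) = P (lk GT k i) := by
    have := allLt_spec (allLt_spec tab_ok k hk) i i.2
    exact of_decide_eq_true this
  rw [h2] at h1
  exact h1.symm

/-- the inverses of the generators act on the points as the letters `4..7` -/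
theorem gen_inv_act {k : ℕ} (hk : k < 4) (i : Fin 275) :
    (wordCo0 (sgM.getD k []))⁻¹ • pt i = pt ⟨lk GT (k + 4) i, lk_lt (by omega) i⟩ := by
  rw [inv_smul_eq_iff, gen_act hk]
  congr 1
  apply Fin.ext
  have hl : linvL.getD k 0 = k + 4 := by
    interval_cases k <;> rfl
  have hl2 : linvL.getD (k + 4) 0 = k := by
    interval_cases k <;> rfl
  have := pd.lki_lk (d := k + 4) (p := i) (by omega) i.2
  show (i : ℕ) = lk GT k (lk GT (k + 4) i)
  rw [show pd.linv = linvL from rfl, hl2] at this
  exact this.symm

/-! ### The invariance of the set of points -/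

/-- `g` and its inverse map points to points -/
def Stable (g : Co0) : Prop := (∀ i, ∃ j, g • pt i = pt j) ∧ (∀ i, ∃ j, g⁻¹ • pt i = pt j)

theorem stable_gen {k : ℕ} (hk : k < 4) : Stable (wordCo0 (sgM.getD k [])) :=
  ⟨fun i => ⟨_, gen_act hk i⟩, fun i => ⟨_, gen_inv_act hk i⟩⟩

theorem stable_of_mem_K4M {g : Co0} (hg : g ∈ K4M) : Stable g := by
  unfold K4M at hg
  induction hg using Subgroup.closure_induction with
  | mem x hx =>
    rcases hx with rfl | rfl | rfl | rfl
    · exact stable_gen (k := 0) (by norm_num)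
    · exact stable_gen (k := 1) (by norm_num)
    · exact stable_gen (k := 2) (by norm_num)
    · exact stable_gen (k := 3) (by norm_num)
  | one =>
    exact ⟨fun i => ⟨i, one_smul _ _⟩, fun i => ⟨i, by rw [inv_one, one_smul]⟩⟩
  | mul a b _ _ iha ihb =>
    constructor
    · intro i
      obtain ⟨j, hj⟩ := ihb.1 i
      obtain ⟨l, hl⟩ := iha.1 j
      exact ⟨l, by rw [mul_smul, hj, hl]⟩
    · intro i
      obtain ⟨j, hj⟩ := iha.2 i
      obtain ⟨l, hl⟩ := ihb.2 j
      exact ⟨l, by rw [mul_inv_rev, mul_smul, hj, hl]⟩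
  | inv a _ iha =>
    exact ⟨iha.2, by rw [inv_inv]; exact iha.1⟩

theorem stable_of_mem {g : Co0} (hg : g ∈ MC) : Stable g :=
  stable_of_mem_K4M (by rw [K4M_eq]; exact hg)

/-! ### The representation -/

/-- the image of a point -/
noncomputable def im (g : ↥MC) (i : Fin 275) : Fin 275 := Classical.choose ((stable_of_mem g.2).1 i)

theorem im_spec (g : ↥MC) (i : Fin 275) : (g : Co0) • pt i = pt (im g i) :=
  Classical.choose_spec ((stable_of_mem g.2).1 i)

theorem im_one (i : Fin 275) : im 1 i = i := by
  apply pt_injective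
  rw [← im_spec, Subgroup.coe_one, one_smul]

theorem im_mul (g h : ↥MC) (i : Fin 275) : im (g * h) i = im g (im h i) := by
  apply pt_injective
  rw [← im_spec, ← im_spec, ← im_spec, Subgroup.coe_mul, mul_smul]

/-- the permutation representation on the 275 points -/
noncomputable def rho : ↥MC →* Equiv.Perm (Fin 275) where
  toFun g :=
    { toFun := im g
      invFun := im g⁻¹
      left_inv := fun i => by rw [← im_mul, inv_mul_cancel, im_one]
      right_inv := fun i => by rw [← im_mul, mul_inv_cancel, im_one] }
  map_one' := by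
    ext i
    show ((im 1 i : Fin 275) : ℕ) = _
    rw [im_one]
    rfl
  map_mul' g h := by
    ext i
    show ((im (g * h) i : Fin 275) : ℕ) = _
    rw [im_mul]
    rfl

theorem rho_apply (g : ↥MC) (i : Fin 275) : rho g i = im g i := rfl

theorem rho_spec (g : ↥MC) (i : Fin 275) : (g : Co0) • pt i = pt (rho g i) := im_spec g i

/-- the generators are mapped to the letters of `pd` -/
theorem rho_gen {k : ℕ} (hk : k < 4) (h : wordCo0 (sgM.getD k []) ∈ MC) :
    rho ⟨wordCo0 (sgM.getD k []), h⟩ = pd.bp k := by
  ext i
  have h1 := rho_spec ⟨wordCo0 (sgM.getD k []), h⟩ i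
  rw [gen_act hk] at h1
  have h2 := pt_injective h1
  rw [pd.bp_apply (by omega : k < 8), ← h2]
  rfl

theorem rho_s : rho sE = pd.bp 0 := rho_gen (k := 0) (by norm_num) wD_mem
theorem rho_d : rho dE = pd.bp 1 := rho_gen (k := 1) (by norm_num) wU_mem
theorem rho_v : rho vE = pd.bp 2 := rho_gen (k := 2) (by norm_num) wV_mem
theorem rho_c : rho cE = pd.bp 3 := rho_gen (k := 3) (by norm_num) wC_mem

/-- the statement in the form requested by helper6 -/
theorem rho_sgM (i : ℕ) (hi : i < 4) :
    rho ⟨wordCo0 (sgM[i]'hi), word_memM (List.getElem_mem hi)⟩ = pd.bp i := by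
  have h := rho_gen hi (by
    have hl : i < sgM.length := hi
    rw [List.getD_eq_getElem _ _ hl]
    exact word_memM (List.getElem_mem hl))
  have hl : i < sgM.length := hi
  rw [← h]
  congr 1
  apply Subtype.ext
  show wordCo0 sgM[i] = wordCo0 (sgM.getD i [])
  rw [List.getD_eq_getElem _ _ hl]

/-! ### Faithfulness -/

theorem eq_zero_of_dots (y : GolayPt → ℤ) (h1 : ∀ j : ZMod 23, 4 * y (some j) + 4 * y none = 0)
    (h2 : dotInt Spor.vecV y = 0) : y = 0 := by
  have hj : ∀ j : ZMod 23, y (some j) = -y none := fun j => by linarith [h1 j]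
  unfold dotInt at h2
  rw [Fintype.sum_option] at h2
  have e1 : Spor.vecV none = -5 := rfl
  have e2 : ∀ j : ZMod 23, Spor.vecV (some j) * y (some j) = y none := by
    intro j
    have : Spor.vecV (some j) = -1 := rfl
    rw [this, hj j]
    ring
  rw [e1, Finset.sum_congr rfl (fun j _ => e2 j), Finset.sum_const, Finset.card_univ, ZMod.card] at h2
  have h0 : y none = 0 := by
    rw [nsmul_eq_mul] at h2
    push_cast at h2
    linarith
  funext p
  cases p with
  | none => exact h0
  | some j => rw [hj j, h0]; rfl

theorem vecU_eq : Spor.vecU = vecA (some 0) none 4 4 := by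
  funext p
  unfold Spor.vecU vecA
  rw [Pi.add_apply, Pi.single_apply, Pi.single_apply]
  cases p with
  | none => simp
  | some j =>
    by_cases hj : j = 0
    · simp [hj]
    · simp [hj]

theorem toFn_P_eq {j : ZMod 23} (hj : j ≠ 0) : toFn (P (22 - j.val)) = vecA (some j) none 4 4 := by
  funext p
  rw [span_ok j hj p]
  unfold vecA
  rw [Pi.add_apply, Pi.single_apply, Pi.single_apply]
  cases p with
  | none => simp
  | some l =>
    by_cases hl : l = j
    · simp [hl]
    · simp [hl]

/-- an element of `MC` fixing the 275 points is trivial -/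
theorem eq_one_of_fix {g : Co0} (hg : g ∈ MC) (hfix : ∀ i, g • pt i = pt i) : g = 1 := by
  apply Co0_ext
  intro v
  rw [one_smul]
  set y : GolayPt → ℤ := ((g • v : leechLattice) : GolayPt → ℤ) - (v : GolayPt → ℤ) with hy
  have key : ∀ b : leechLattice, g • b = b → dotInt (b : GolayPt → ℤ) y = 0 := by
    intro b hb
    rw [hy, dotInt_sub_right]
    have := Co0_dot g b v
    rw [hb] at this
    rw [this, sub_self]
  have hy0 : y = 0 := by
    apply eq_zero_of_dots
    · intro j
      by_cases hj : j = 0
      · have := key Spor.leechU (smul_U hg)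
        have e : ((Spor.leechU : leechLattice) : GolayPt → ℤ) = vecA (some 0) none 4 4 := vecU_eq
        rw [e, dotInt_vecA] at this
        rw [hj]
        exact this
      · have hlt : 22 - j.val < 275 := by omega
        have := key (pt ⟨22 - j.val, hlt⟩) (hfix _)
        rw [pt_val, toFn_P_eq hj, dotInt_vecA] at this
        exact this
    · exact key Spor.leechV (smul_V hg)
  have := sub_eq_zero.1 hy0
  exact this

theorem rho_injective : Function.Injective rho := by
  rw [injective_iff_map_eq_one]
  intro g hg
  apply Subtype.ext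
  rw [Subgroup.coe_one]
  apply eq_one_of_fix g.2
  intro i
  rw [rho_spec, hg]
  rfl

/-! ### The image -/

theorem closure_gens_eq_top : Subgroup.closure ({sE, dE, vE, cE} : Set ↥MC) = ⊤ := by
  apply Subgroup.map_injective (Subgroup.subtype_injective MC)
  rw [MonoidHom.map_closure, ← MonoidHom.range_eq_map, Subgroup.range_subtype]
  have : (MC.subtype '' ({sE, dE, vE, cE} : Set ↥MC)) =
      {wordCo0 wD, wordCo0 wU, wordCo0 wV, wordCo0 wC} := by
    simp only [Set.image_insert_eq, Set.image_singleton]
    rfl
  rw [this]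
  exact K4M_eq

theorem rho_range : rho.range = pd.G := by
  rw [MonoidHom.range_eq_map, ← closure_gens_eq_top, MonoidHom.map_closure]
  unfold PD.G
  congr 1
  ext σ
  simp only [Set.image_insert_eq, Set.image_singleton, rho_s, rho_d, rho_v, rho_c, Set.mem_insert_iff,
    Set.mem_singleton_iff, Set.mem_ofPred_eq]
  constructor
  · rintro (rfl | rfl | rfl | rfl)
    · exact ⟨0, by norm_num, rfl⟩
    · exact ⟨1, by norm_num, rfl⟩
    · exact ⟨2, by norm_num, rfl⟩
    · exact ⟨3, by norm_num, rfl⟩
  · rintro ⟨d, hd, rfl⟩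
    interval_cases d
    · exact Or.inl rfl
    · exact Or.inr (Or.inl rfl)
    · exact Or.inr (Or.inr (Or.inl rfl))
    · exact Or.inr (Or.inr (Or.inr rfl))

/-- the group `MC` is isomorphic to the permutation group generated by the four letters -/
noncomputable def equivG : ↥MC ≃* ↥pd.G :=
  (MonoidHom.ofInjective rho_injective).trans (MulEquiv.subgroupCongr rho_range)

theorem equivG_apply (g : ↥MC) : ((equivG g : ↥pd.G) : Equiv.Perm (Fin 275)) = rho g := rfl

theorem card_G : Nat.card ↥pd.G = 898128000 := by
  rw [← Nat.card_congr equivG.toEquiv, card_MC]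

end Cfsg.Agent.Lib.H18.McL275
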