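import Cfsg.Agent.Lib.H6.Co2M.GSDefs
import Cfsg.Agent.Lib.H6.McLM.Link
import Cfsg.Agent.Lib.H18.McL275
import Cfsg.Agent.Lib.H7.McLMBase4Map

/-!
# S2044 piece H4T (helper18, for helper6): transport of the McLaughlin data `Base4` to `HS4 aG bG cG dG ≤ C2L`

The four marked elements `aG bG cG dG` of `C2L = Stab_Co0(leechU)` generate the image of helper27's McLaughlin group `MC`,
and, as elements of that subgroup, they satisfy helper6's `McLM.Base4` (transported from the permutation group on 275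
points along `H18.McL275.equivG`).
-/

set_option autoImplicit false
set_option maxRecDepth 100000

namespace Cfsg.Agent.Lib.H18.Co2M

open Cfsg.Agent.Lib.H6 Cfsg.Agent.Lib.H6.Co2M Cfsg.Agent.Lib.H27.McLOut
open Equiv Cfsg.Agent.Lib.H27.LatW Cfsg.Agent.Lib.H27.PermN

/-! ### The words `aW27 bW27 cW27` on the 275 points -/

/-- the letters of `pd2` for the letters `s s⁻¹ d d⁻¹ v v⁻¹ c c⁻¹` -/
def tr27 (x : ℕ) : ℕ :=
  match x with
  | 0 => 0 | 1 => 4 | 2 => 1 | 3 => 5 | 4 => 2 | 5 => 6 | 6 => 3 | 7 => 7 | _ => 0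

theorem tr27_lt (x : ℕ) : tr27 x < 14 := by
  unfold tr27
  split <;> norm_num

/-- the image of a point under a word in the letters `s s⁻¹ d d⁻¹ v v⁻¹ c c⁻¹` (the last letter acts first) -/
def trace27 (w : List ℕ) (p : ℕ) : ℕ := w.foldr (fun x q => lk McLM.GT4 (tr27 x) q) p

theorem gl_27 (x : ℕ) (hx : x < 8) :
    McLM.gl (McLM.pd2.bp 0) (McLM.pd2.bp 1) (McLM.pd2.bp 2) (McLM.pd2.bp 3) x = McLM.pd2.bp (tr27 x) := by
  have h0 := McLM.pd2.bp_linv (by norm_num : 0 < 14)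
  have h1 := McLM.pd2.bp_linv (by norm_num : 1 < 14)
  have h2 := McLM.pd2.bp_linv (by norm_num : 2 < 14)
  have h3 := McLM.pd2.bp_linv (by norm_num : 3 < 14)
  interval_cases x
  · rfl
  · exact h0.symm
  · rfl
  · exact h1.symm
  · rfl
  · exact h2.symm
  · rfl
  · exact h3.symm

theorem wv_27_apply (w : List ℕ) (hw : ∀ x ∈ w, x < 8) (p : Fin 275) :
    ((McLM.wv (McLM.pd2.bp 0) (McLM.pd2.bp 1) (McLM.pd2.bp 2) (McLM.pd2.bp 3) w p : Fin 275) : ℕ) =
      trace27 w p := by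
  induction w with
  | nil => rfl
  | cons x w ih =>
    have hx : x < 8 := hw x List.mem_cons_self
    have ih' := ih (fun y hy => hw y (List.mem_cons_of_mem _ hy))
    rw [McLM.wv_cons, gl_27 x hx, Perm.mul_apply, McLM.pd2.bp_apply (tr27_lt x), ih']
    rfl

set_option Elab.async false in
theorem chk_abc : (aW27.all (fun x => Nat.blt x 8) && bW27.all (fun x => Nat.blt x 8) &&
    cW27.all (fun x => Nat.blt x 8) &&
    allLt 275 (fun p => Nat.beq (trace27 aW27 p) (lk McLM.GT4 8 p) &&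
      Nat.beq (trace27 bW27 p) (lk McLM.GT4 10 p) && Nat.beq (trace27 cW27 p) (lk McLM.GT4 12 p))) = true := by
  decide +kernel

theorem word_lt8 {w : List ℕ} (h : w.all (fun x => Nat.blt x 8) = true) : ∀ x ∈ w, x < 8 :=
  fun x hx => Nat.le_of_ble_eq_true (List.all_eq_true.1 h x hx)

theorem aW27_lt : ∀ x ∈ aW27, x < 8 := by
  have h := chk_abc
  simp only [Bool.and_eq_true] at h
  exact word_lt8 h.1.1.1

theorem bW27_lt : ∀ x ∈ bW27, x < 8 := by
  have h := chk_abc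
  simp only [Bool.and_eq_true] at h
  exact word_lt8 h.1.1.2

theorem cW27_lt : ∀ x ∈ cW27, x < 8 := by
  have h := chk_abc
  simp only [Bool.and_eq_true] at h
  exact word_lt8 h.1.2

theorem chk_pt (p : Fin 275) : trace27 aW27 p = lk McLM.GT4 8 p ∧ trace27 bW27 p = lk McLM.GT4 10 p ∧
    trace27 cW27 p = lk McLM.GT4 12 p := by
  have h := chk_abc
  simp only [Bool.and_eq_true] at h
  have h2 := allLt_spec h.2 p p.2
  simp only [Bool.and_eq_true] at h2
  exact ⟨Nat.eq_of_beq_eq_true h2.1.1, Nat.eq_of_beq_eq_true h2.1.2, Nat.eq_of_beq_eq_true h2.2⟩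

theorem aP_eq : McLM.wv (McLM.pd2.bp 0) (McLM.pd2.bp 1) (McLM.pd2.bp 2) (McLM.pd2.bp 3) aW27 = McLM.aP := by
  ext p
  rw [wv_27_apply aW27 aW27_lt p, (chk_pt p).1]
  exact (McLM.pd2.bp_apply (by norm_num : 8 < 14) p).symm

theorem bP_eq : McLM.wv (McLM.pd2.bp 0) (McLM.pd2.bp 1) (McLM.pd2.bp 2) (McLM.pd2.bp 3) bW27 = McLM.bP := by
  ext p
  rw [wv_27_apply bW27 bW27_lt p, (chk_pt p).2.1]
  exact (McLM.pd2.bp_apply (by norm_num : 10 < 14) p).symm

theorem cP_eq : McLM.wv (McLM.pd2.bp 0) (McLM.pd2.bp 1) (McLM.pd2.bp 2) (McLM.pd2.bp 3) cW27 = McLM.cP := by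
  ext p
  rw [wv_27_apply cW27 cW27_lt p, (chk_pt p).2.2]
  exact (McLM.pd2.bp_apply (by norm_num : 12 < 14) p).symm

/-! ### The link between `pd2` and `McL275.pd` -/

set_option Elab.async false in
theorem hlk275 : allLt 4 (fun d => allLt 275 fun p =>
    Nat.beq (lk McLM.GT4 d p) (lk Cfsg.Agent.Lib.H18.McL275.pd.GT d p)) = true := by
  decide +kernel

theorem bp_eq {d : ℕ} (hd : d < 4) : McLM.pd2.bp d = Cfsg.Agent.Lib.H18.McL275.pd.bp d :=
  McLM.pd2_bp_eq Cfsg.Agent.Lib.H18.McL275.pd (by norm_num) hlk275 hd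

theorem G_eq : McLM.pd2.G = Cfsg.Agent.Lib.H18.McL275.pd.G :=
  McLM.pd2_G_eq Cfsg.Agent.Lib.H18.McL275.pd (by norm_num) hlk275

theorem card_pd2 : Nat.card ↥McLM.pd2.G = 898128000 := by
  rw [G_eq]
  exact Cfsg.Agent.Lib.H18.McL275.card_G

/-- the isomorphism of the permutation group with `MC` -/
noncomputable def E0 : ↥McLM.pd2.G ≃* ↥MC :=
  (MulEquiv.subgroupCongr G_eq).trans Cfsg.Agent.Lib.H18.McL275.equivG.symm

/-! ### The marked elements of `MC` -/

/-- the marked elements of `MC` -/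
noncomputable def aM : ↥MC := McLM.wv sE dE vE cE aW27
/-- the marked elements of `MC` -/
noncomputable def bM : ↥MC := McLM.wv sE dE vE cE bW27
/-- the marked elements of `MC` -/
noncomputable def cM : ↥MC := McLM.wv sE dE vE cE cW27
/-- the marked elements of `MC` -/
noncomputable def dM : ↥MC := sE

theorem rho_wv (w : List ℕ) : Cfsg.Agent.Lib.H18.McL275.rho (McLM.wv sE dE vE cE w) =
    McLM.wv (McLM.pd2.bp 0) (McLM.pd2.bp 1) (McLM.pd2.bp 2) (McLM.pd2.bp 3) w := by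
  rw [McLM.map_wv, Cfsg.Agent.Lib.H18.McL275.rho_s, Cfsg.Agent.Lib.H18.McL275.rho_d,
    Cfsg.Agent.Lib.H18.McL275.rho_v, Cfsg.Agent.Lib.H18.McL275.rho_c,
    bp_eq (d := 0) (by norm_num), bp_eq (d := 1) (by norm_num), bp_eq (d := 2) (by norm_num),
    bp_eq (d := 3) (by norm_num)]

theorem E0_of {x : ↥McLM.pd2.G} {m : ↥MC}
    (h : Cfsg.Agent.Lib.H18.McL275.rho m = (x : Perm (Fin 275))) : E0 x = m := by
  unfold E0
  rw [MulEquiv.trans_apply, MulEquiv.symm_apply_eq]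
  apply Subtype.ext
  rw [Cfsg.Agent.Lib.H18.McL275.equivG_apply, h]
  rfl

theorem E0_a : E0 McLM.aG = aM := E0_of ((rho_wv aW27).trans aP_eq)
theorem E0_b : E0 McLM.bG = bM := E0_of ((rho_wv bW27).trans bP_eq)
theorem E0_c : E0 McLM.cG = cM := E0_of ((rho_wv cW27).trans cP_eq)
theorem E0_d : E0 McLM.dG = dM :=
  E0_of (Cfsg.Agent.Lib.H18.McL275.rho_s.trans (bp_eq (d := 0) (by norm_num)).symm)

/-- the McLaughlin data in `MC` -/
theorem base4_MC : McLM.Base4 aM bM cM dM := by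
  have h := Cfsg.Agent.Lib.H7.McLM.base4_map E0 (McLM.base4_G card_pd2)
  rwa [E0_a, E0_b, E0_c, E0_d] at h

theorem incl_wv (w : List ℕ) (hw : ∀ x ∈ w, x < 8) :
    incl (McLM.wv sE dE vE cE w) = wv5 sC dC vC cC Cfsg.Agent.Lib.H6.Co2M.tC w := by
  rw [McLM.map_wv, wv5_eq_wv4 sC dC vC cC Cfsg.Agent.Lib.H6.Co2M.tC w hw]
  rfl

theorem incl_aM : incl aM = aG := incl_wv aW27 aW27_lt
theorem incl_bM : incl bM = bG := incl_wv bW27 bW27_lt
theorem incl_cM : incl cM = cG := incl_wv cW27 cW27_lt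
theorem incl_dM : incl dM = dG := rfl

/-- **H4T (1)**: the four marked elements generate the image of `MC` -/
theorem hs4_eq_range : HS4 aG bG cG dG = incl.range := by
  unfold HS4
  rw [← incl_aM, ← incl_bM, ← incl_cM, ← incl_dM, ← Cfsg.Agent.Lib.H7.McLM.closure4_map incl aM bM cM dM,
    base4_MC.gen, MonoidHom.range_eq_map]

/-- the isomorphism of `MC` with the subgroup generated by the four marked elements -/
noncomputable def E1 : ↥MC ≃* ↥(HS4 aG bG cG dG) :=
  (MonoidHom.ofInjective incl_injective).trans (MulEquiv.subgroupCongr hs4_eq_range.symm)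

theorem E1_coe (m : ↥MC) : ((E1 m : ↥(HS4 aG bG cG dG)) : ↥C2L) = incl m := rfl

/-- **H4T (2)**: the McLaughlin data for the four marked elements of `C2L`, in the subgroup they generate -/
theorem base4_HS4 :
    McLM.Base4 (aS aG bG cG dG) (bS aG bG cG dG) (cS aG bG cG dG) (dS aG bG cG dG) := by
  have h := Cfsg.Agent.Lib.H7.McLM.base4_map E1 base4_MC
  have ea : E1 aM = aS aG bG cG dG := Subtype.ext ((E1_coe aM).trans incl_aM)
  have eb : E1 bM = bS aG bG cG dG := Subtype.ext ((E1_coe bM).trans incl_bM)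
  have ec : E1 cM = cS aG bG cG dG := Subtype.ext ((E1_coe cM).trans incl_cM)
  have ed : E1 dM = dS aG bG cG dG := Subtype.ext ((E1_coe dM).trans incl_dM)
  rwa [ea, eb, ec, ed] at h

end Cfsg.Agent.Lib.H18.Co2M
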