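import Cfsg.Agent.Lib.H7.Co2Max
import Cfsg.Agent.Lib.H18.Co2H4T

/-!
# S2044 piece GEN5 (helper18, twin of helper22): the five marked elements generate `C2L = Stab_Co0(leechU)`

`MC = ⟨aG, bG, cG, dG⟩` (H4T) is maximal in `C2L` (helper7's `mc_maximal`) and `eG = tC * sC` moves the vector `WP`.
-/

set_option autoImplicit false
set_option maxRecDepth 100000

namespace Cfsg.Agent.Lib.H18.Co2M

open Cfsg MulAction Cfsg.Agent.Lib.H28 Cfsg.Agent.Lib.H27 Cfsg.Agent.Lib.H27.Eng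
open Cfsg.Agent.Lib.H27.McLOut Cfsg.Agent.Lib.H27.McLOutData Cfsg.Agent.Lib.H27.Co3GenData
open Cfsg.Agent.Lib.H6 Cfsg.Agent.Lib.H6.Co2M

set_option Elab.async false in
theorem wT_wp_ne : actWord wT wpL ≠ wpL := by decide +kernel

/-- the sign change `t` moves the vector `WP` -/
theorem wT_smul_WP_ne : wordCo0 wT • WP ≠ WP := by
  intro h
  apply wT_wp_ne
  have h1 := actWord_spec wT wT_ok wpL wpL_L
  have h2 : (⟨toFn wpL, wpL_L⟩ : leechLattice) = WP := Subtype.ext toFn_wpL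
  rw [h2, h, ← toFn_wpL] at h1
  exact eq_of_toFn_eq (by decide +kernel) (by decide +kernel) h1

theorem eG_smul_WP_ne : ((eG : ↥C2L) : Co0) • WP ≠ WP := by
  have e : ((eG : ↥C2L) : Co0) = wordCo0 wT * wordCo0 wD := rfl
  rw [e, mul_smul, smul_WP wD_mem]
  exact wT_smul_WP_ne

/-- **GEN5**: the five marked elements generate `C2L` -/
theorem gen5 : Subgroup.closure ({aG, bG, cG, dG, eG} : Set ↥C2L) = ⊤ := by
  set K : Subgroup ↥C2L := Subgroup.closure ({aG, bG, cG, dG, eG} : Set ↥C2L) with hK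
  have hsub : HS4 aG bG cG dG ≤ K := by
    unfold HS4
    rw [hK]
    apply Subgroup.closure_mono
    intro x hx
    simp only [Set.mem_insert_iff, Set.mem_singleton_iff] at hx ⊢
    rcases hx with rfl | rfl | rfl | rfl
    · exact Or.inl rfl
    · exact Or.inr (Or.inl rfl)
    · exact Or.inr (Or.inr (Or.inl rfl))
    · exact Or.inr (Or.inr (Or.inr (Or.inl rfl)))
  have h1 : MC ≤ K.map C2L.subtype := by
    intro g hg
    refine ⟨incl ⟨g, hg⟩, hsub ?_, rfl⟩
    rw [hs4_eq_range]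
    exact ⟨⟨g, hg⟩, rfl⟩
  have h2 : K.map C2L.subtype ≤ stabilizer Co0 Spor.leechU := by
    rintro _ ⟨x, -, rfl⟩
    exact x.2
  have he : ((eG : ↥C2L) : Co0) ∈ K.map C2L.subtype :=
    ⟨eG, Subgroup.subset_closure (by simp), rfl⟩
  have hN := Cfsg.Agent.Lib.H7.Co2M.mc_maximal (K.map C2L.subtype) h1 h2 _ he eG_smul_WP_ne
  rw [eq_top_iff]
  intro x _
  have hx : (x : Co0) ∈ K.map C2L.subtype := by
    rw [hN]
    exact x.2
  obtain ⟨y, hy, hyx⟩ := hx
  have : y = x := Subtype.ext hyx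
  rw [← this]
  exact hy

end Cfsg.Agent.Lib.H18.Co2M
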