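import Cfsg.Agent.Lib.H18.Co2RelDefs

/-! S2044 piece GSREL (helper18): chunked checks of the list `relLB` (generated). -/

set_option autoImplicit false
set_option maxRecDepth 1000000
set_option Elab.async false

namespace Cfsg.Agent.Lib.H18.Co2M

theorem chkB_0 : chkRange relLB 0 20 = true := by decide +kernel

theorem chkB_1 : chkRange relLB 20 20 = true := by decide +kernel

theorem chkB_2 : chkRange relLB 40 20 = true := by decide +kernel

theorem chkB_3 : chkRange relLB 60 20 = true := by decide +kernel

theorem chkB_4 : chkRange relLB 80 20 = true := by decide +kernel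

theorem chkB_5 : chkRange relLB 100 20 = true := by decide +kernel

theorem chkB_6 : chkRange relLB 120 20 = true := by decide +kernel

theorem chkB_7 : chkRange relLB 140 20 = true := by decide +kernel

theorem chkB_8 : chkRange relLB 160 20 = true := by decide +kernel

theorem chkB_9 : chkRange relLB 180 20 = true := by decide +kernel

theorem lenB : relLB.length ≤ 10 * 20 := by decide +kernel

theorem allB : ∀ w ∈ relLB, chkW27 w = true := by
  apply chk_of_chunks relLB 20 10 (by norm_num) lenB
  intro k hk
  interval_cases k
  · exact chkB_0
  · exact chkB_1
  · exact chkB_2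
  · exact chkB_3
  · exact chkB_4
  · exact chkB_5
  · exact chkB_6
  · exact chkB_7
  · exact chkB_8
  · exact chkB_9

end Cfsg.Agent.Lib.H18.Co2M
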