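import Cfsg.Agent.Lib.H18.Co2RelDefs

/-! S2044 piece GSREL (helper18): chunked checks of the list `relLC` (generated). -/

set_option autoImplicit false
set_option maxRecDepth 1000000
set_option Elab.async false

namespace Cfsg.Agent.Lib.H18.Co2M

theorem chkC_0 : chkRange relLC 0 13 = true := by decide +kernel

theorem chkC_1 : chkRange relLC 13 13 = true := by decide +kernel

theorem chkC_2 : chkRange relLC 26 13 = true := by decide +kernel

theorem chkC_3 : chkRange relLC 39 13 = true := by decide +kernel

theorem chkC_4 : chkRange relLC 52 13 = true := by decide +kernel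

theorem chkC_5 : chkRange relLC 65 13 = true := by decide +kernel

theorem chkC_6 : chkRange relLC 78 13 = true := by decide +kernel

theorem chkC_7 : chkRange relLC 91 13 = true := by decide +kernel

theorem chkC_8 : chkRange relLC 104 13 = true := by decide +kernel

theorem chkC_9 : chkRange relLC 117 13 = true := by decide +kernel

theorem chkC_10 : chkRange relLC 130 13 = true := by decide +kernel

theorem chkC_11 : chkRange relLC 143 13 = true := by decide +kernel

theorem lenC : relLC.length ≤ 12 * 13 := by decide +kernel

theorem allC : ∀ w ∈ relLC, chkW27 w = true := by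
  apply chk_of_chunks relLC 13 12 (by norm_num) lenC
  intro k hk
  interval_cases k
  · exact chkC_0
  · exact chkC_1
  · exact chkC_2
  · exact chkC_3
  · exact chkC_4
  · exact chkC_5
  · exact chkC_6
  · exact chkC_7
  · exact chkC_8
  · exact chkC_9
  · exact chkC_10
  · exact chkC_11

end Cfsg.Agent.Lib.H18.Co2M
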