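import Cfsg.Agent.Lib.H18.Co2RelDefs

/-! S2044 piece GSREL (helper18): chunked checks of the list `relLD` (generated). -/

set_option autoImplicit false
set_option maxRecDepth 1000000
set_option Elab.async false

namespace Cfsg.Agent.Lib.H18.Co2M

theorem chkD_0 : chkRange relLD 0 4 = true := by decide +kernel

theorem lenD : relLD.length ≤ 1 * 4 := by decide +kernel

theorem allD : ∀ w ∈ relLD, chkW27 w = true := by
  apply chk_of_chunks relLD 4 1 (by norm_num) lenD
  intro k hk
  interval_cases k
  · exact chkD_0

end Cfsg.Agent.Lib.H18.Co2M
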