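import Cfsg.Agent.Lib.H18.Co2RelA
import Cfsg.Agent.Lib.H18.Co2RelB
import Cfsg.Agent.Lib.H18.Co2RelC
import Cfsg.Agent.Lib.H18.Co2RelD

/-!
# S2044 piece GSREL (helper18, for helper6): the G-side relator checks in `C2L = Stab_Co0(leechU)`

All exact relators of the certificate `CB`, the orders of the conjugated elements, the fusion relators and the two
commutators hold for the five marked elements `aG bG cG dG eG` of `C2L`; each word is expanded into the letters
`s d v c t` (`GSExp.exW`) and checked by the word-problem checker `chkW27` of `Co2X`.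
-/

set_option autoImplicit false
set_option maxRecDepth 1000000

namespace Cfsg.Agent.Lib.H18.Co2M

open Cfsg.Agent.Lib.H6 Cfsg.Agent.Lib.H6.Co2M

theorem wv5_G_eq_one (w : List ℕ) (h : chkW27 (exW w) = true) : wv5 aG bG cG dG eG w = 1 := by
  rw [wv5_G]
  exact wv_eq_one_of_chk _ h

theorem rel5_G : ∀ w ∈ CB.exactL, wv5 aG bG cG dG eG w = 1 :=
  fun w hw => wv5_G_eq_one w (allA (exW w) (List.mem_map_of_mem hw))

theorem ord7_G : ∀ p ∈ cjL7, wv5 aG bG cG dG eG p.1 ^ 7 = 1 := by
  intro p hp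
  rw [← wv5_flatten_replicate]
  exact wv5_G_eq_one _ (allB _ (List.mem_map.2 ⟨p, hp, rfl⟩))

theorem ord11_G : ∀ p ∈ cjL11, wv5 aG bG cG dG eG p.1 ^ 11 = 1 := by
  intro p hp
  rw [← wv5_flatten_replicate]
  exact wv5_G_eq_one _ (allC _ (List.mem_map.2 ⟨p, hp, rfl⟩))

theorem fus_G : ∀ p ∈ fusL5, wv5 aG bG cG dG eG (fusW5 p) = 1 := by
  intro p hp
  apply wv5_G_eq_one
  apply allD
  unfold relLD
  exact List.mem_append_left _ (List.mem_map.2 ⟨p, hp, rfl⟩)

theorem fcomm1_G : wv5 aG bG cG dG eG (commW5 fuW fvW) = 1 := by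
  apply wv5_G_eq_one
  apply allD
  unfold relLD
  exact List.mem_append_right _ (by simp)

theorem fcomm2_G : wv5 aG bG cG dG eG (commW5 fuW' fvW') = 1 := by
  apply wv5_G_eq_one
  apply allD
  unfold relLD
  exact List.mem_append_right _ (by simp)

end Cfsg.Agent.Lib.H18.Co2M
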