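import Cfsg.Agent.Lib.H18.Co2RelDefs

/-! S2044 piece GSREL (helper18): chunked checks of the list `relLA` (generated). -/

set_option autoImplicit false
set_option maxRecDepth 1000000
set_option Elab.async false

namespace Cfsg.Agent.Lib.H18.Co2M

theorem chkA_0 : chkRange relLA 0 60 = true := by decide +kernel

theorem chkA_1 : chkRange relLA 60 60 = true := by decide +kernel

theorem chkA_2 : chkRange relLA 120 60 = true := by decide +kernel

theorem chkA_3 : chkRange relLA 180 60 = true := by decide +kernel

theorem chkA_4 : chkRange relLA 240 60 = true := by decide +kernel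

theorem chkA_5 : chkRange relLA 300 60 = true := by decide +kernel

theorem chkA_6 : chkRange relLA 360 60 = true := by decide +kernel

theorem chkA_7 : chkRange relLA 420 60 = true := by decide +kernel

theorem chkA_8 : chkRange relLA 480 60 = true := by decide +kernel

theorem chkA_9 : chkRange relLA 540 60 = true := by decide +kernel

theorem lenA : relLA.length ≤ 10 * 60 := by decide +kernel

theorem allA : ∀ w ∈ relLA, chkW27 w = true := by
  apply chk_of_chunks relLA 60 10 (by norm_num) lenA
  intro k hk
  interval_cases k
  · exact chkA_0
  · exact chkA_1
  · exact chkA_2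
  · exact chkA_3
  · exact chkA_4
  · exact chkA_5
  · exact chkA_6
  · exact chkA_7
  · exact chkA_8
  · exact chkA_9

end Cfsg.Agent.Lib.H18.Co2M
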