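import Cfsg.Agent.Lib.H18.Co2X
import Cfsg.Agent.Lib.H6.Co2M.Words5
import Cfsg.Agent.Lib.H6.Co2M.GSExp

/-!
# S2044 piece GSREL (helper18, for helper6): the lists of expanded relators and the chunked checker
-/

set_option autoImplicit false
set_option maxRecDepth 1000000

namespace Cfsg.Agent.Lib.H18.Co2M

open Cfsg.Agent.Lib.H6 Cfsg.Agent.Lib.H6.Co2M

/-- the expanded exact relators of the certificate `CB` -/
def relLA : List (List ℕ) := CB.exactL.map exW

/-- the expanded seventh powers -/
def relLB : List (List ℕ) := cjL7.map fun p => exW (List.replicate 7 p.1).flatten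

/-- the expanded eleventh powers -/
def relLC : List (List ℕ) := cjL11.map fun p => exW (List.replicate 11 p.1).flatten

/-- the expanded fusion relators and commutators -/
def relLD : List (List ℕ) :=
  (fusL5.map fun p => exW (fusW5 p)) ++ [exW (commW5 fuW fvW), exW (commW5 fuW' fvW')]

/-- the check of the words number `a ≤ i < a + n` of a list -/
def chkRange (L : List (List ℕ)) (a n : ℕ) : Bool := ((L.drop a).take n).all chkW27

theorem mem_chunk {α : Type*} (L : List α) (n : ℕ) (hn : 0 < n) {w : α} (hw : w ∈ L) :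
    ∃ k, k * n < L.length ∧ w ∈ (L.drop (k * n)).take n := by
  obtain ⟨i, hi, rfl⟩ := List.getElem_of_mem hw
  refine ⟨i / n, lt_of_le_of_lt (Nat.div_mul_le_self i n) hi, ?_⟩
  rw [List.mem_take_iff_getElem]
  have hm := Nat.mod_lt i hn
  have hd := Nat.div_add_mod' i n
  refine ⟨i % n, ?_, ?_⟩
  · rw [List.length_drop]
    omega
  · rw [List.getElem_drop]
    congr 1

theorem chk_of_chunks (L : List (List ℕ)) (n K : ℕ) (hn : 0 < n) (hK : L.length ≤ K * n)
    (h : ∀ k < K, chkRange L (k * n) n = true) : ∀ w ∈ L, chkW27 w = true := by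
  intro w hw
  obtain ⟨k, hk, hmem⟩ := mem_chunk L n hn hw
  have hkK : k < K := by
    by_contra hc
    have : K * n ≤ k * n := Nat.mul_le_mul_right n (by omega)
    omega
  exact List.all_eq_true.1 (h k hkK) w hmem

theorem wv5_flatten_replicate {K : Type*} [Group K] (x y z t s : K) (w : List ℕ) (n : ℕ) :
    wv5 x y z t s (List.replicate n w).flatten = wv5 x y z t s w ^ n := by
  induction n with
  | zero => simp [wv5_nil]
  | succ n ih =>
    rw [List.replicate_succ, List.flatten_cons, wv5_append, ih, pow_succ']

end Cfsg.Agent.Lib.H18.Co2M
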