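import Cfsg.Agent.Lib.H18.Co2XData

/-! Checks of the tables of `Co2XData` on the points `2300 ≤ i < 2875` (helper18, S2044 GSX; generated by `tools/co2_h18/gen.py`). -/

set_option autoImplicit false
set_option maxRecDepth 1000000
set_option Elab.async false

namespace Cfsg.Agent.Lib.H18.Co2M

theorem leech_4 : leechChk 2300 575 = true := by decide +kernel

theorem tab_4_0 : tabChk 0 2300 575 = true := by decide +kernel

theorem tab_4_1 : tabChk 1 2300 575 = true := by decide +kernel

theorem tab_4_2 : tabChk 2 2300 575 = true := by decide +kernel

theorem tab_4_4 : tabChk 4 2300 575 = true := by decide +kernel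

theorem tab_4_3_0 : tabChk 3 2300 192 = true := by decide +kernel

theorem tab_4_3_1 : tabChk 3 2492 192 = true := by decide +kernel

theorem tab_4_3_2 : tabChk 3 2684 191 = true := by decide +kernel

end Cfsg.Agent.Lib.H18.Co2M
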