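import Cfsg.Agent.Lib.H18.Co2XChk0
import Cfsg.Agent.Lib.H18.Co2XChk1
import Cfsg.Agent.Lib.H18.Co2XChk2
import Cfsg.Agent.Lib.H18.Co2XChk3
import Cfsg.Agent.Lib.H18.Co2XChk4
import Cfsg.Agent.Lib.H18.Co2XChk5
import Cfsg.Agent.Lib.H18.Co2XChk6
import Cfsg.Agent.Lib.H18.Co2XChk7

/-!
# A word-problem checker for `C2L = Stab_Co0(leechU)` (helper18, S2044 piece GSX, for helper6)

`chkW27 w` traces the 44 vectors `4 e_0 ± 4 e_j` (`j = 1, …, 22`) through the word `w` in the ten letters
`0 … 9 = s s⁻¹ d d⁻¹ v v⁻¹ c c⁻¹ t t⁻¹` using the tables of `Co2XData` on the 4600 vectors `y` with `(y, leechU) = 16`;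
an element of `C2L` fixing these 44 vectors is trivial, because together with `leechU` they span a sublattice of
finite index.
-/

set_option autoImplicit false
set_option maxRecDepth 1000000

namespace Cfsg.Agent.Lib.H18.Co2M

open Cfsg MulAction Cfsg.Agent.Lib.H28 Cfsg.Agent.Lib.H27 Cfsg.Agent.Lib.H27.Eng
open Cfsg.Agent.Lib.H27.LatW
open Cfsg.Agent.Lib.H27.McLOut Cfsg.Agent.Lib.H27.McLOutData Cfsg.Agent.Lib.H27.Co3GenData
open Cfsg.Agent.Lib.H6.Co2M

/-! ### Small checks -/

set_option Elab.async false in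
/-- the tables have entries `< 4600` and the odd letters are the inverses of the even ones -/
theorem inv_ok : allLt 5 (fun k => allLt 4600 fun i =>
    decide (lk13 (tab (2 * k)) i < 4600) && decide (lk13 (tab (2 * k + 1)) i < 4600) &&
      Nat.beq (lk13 (tab (2 * k)) (lk13 (tab (2 * k + 1)) i)) i) = true := by
  decide +kernel

set_option Elab.async false in
theorem genW_ok : allLt 5 (fun k => (genW k).all Gen.ok) = true := by decide +kernel

set_option Elab.async false in
theorem baseP_ok : ∀ j : ZMod 23, j ≠ 0 → ∀ p : Cfsg.GolayPt,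
    toFn (P (baseP.getD (j.val - 1) 0)) p = if p = some 0 then 4 else if p = some j then 4 else 0 := by
  decide +kernel

set_option Elab.async false in
theorem baseM_ok : ∀ j : ZMod 23, j ≠ 0 → ∀ p : Cfsg.GolayPt,
    toFn (P (baseM.getD (j.val - 1) 0)) p = if p = some 0 then 4 else if p = some j then -4 else 0 := by
  decide +kernel

theorem base_lt : ∀ i ∈ baseP ++ baseM, i < 4600 := by decide

/-! ### Assembling the chunks -/

theorem tabChk_spec {k a n : ℕ} (h : tabChk k a n = true) {i : ℕ} (h1 : a ≤ i) (h2 : i < a + n) :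
    actWord (genW k) (P i) = P (lk13 (tab (2 * k)) i) := by
  have := allLt_spec h (i - a) (by omega)
  rw [show a + (i - a) = i by omega] at this
  exact of_decide_eq_true this

theorem leechChk_spec {a n : ℕ} (h : leechChk a n = true) {i : ℕ} (h1 : a ≤ i) (h2 : i < a + n) :
    toFn (P i) ∈ leechLattice := by
  have := allLt_spec h (i - a) (by omega)
  rw [show a + (i - a) = i by omega] at this
  exact mem_of_inLeech this

theorem P_leech {i : ℕ} (hi : i < 4600) : toFn (P i) ∈ leechLattice := by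
  obtain ⟨r, hr, h1, h2⟩ : ∃ r < 8, 575 * r ≤ i ∧ i < 575 * r + 575 := ⟨i / 575, by omega, by omega, by omega⟩
  interval_cases r
  · exact leechChk_spec leech_0 h1 h2
  · exact leechChk_spec leech_1 h1 h2
  · exact leechChk_spec leech_2 h1 h2
  · exact leechChk_spec leech_3 h1 h2
  · exact leechChk_spec leech_4 h1 h2
  · exact leechChk_spec leech_5 h1 h2
  · exact leechChk_spec leech_6 h1 h2
  · exact leechChk_spec leech_7 h1 h2

theorem tab3_of {a : ℕ} (h0 : tabChk 3 a 192 = true) (h1 : tabChk 3 (a + 192) 192 = true)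
    (h2 : tabChk 3 (a + 384) 191 = true) {i : ℕ} (hi1 : a ≤ i) (hi2 : i < a + 575) :
    actWord (genW 3) (P i) = P (lk13 (tab (2 * 3)) i) := by
  by_cases c1 : i < a + 192
  · exact tabChk_spec h0 hi1 c1
  · by_cases c2 : i < a + 384
    · exact tabChk_spec h1 (by omega) (by omega)
    · exact tabChk_spec h2 (by omega) (by omega)

theorem tab_ok {k : ℕ} (hk : k < 5) {i : ℕ} (hi : i < 4600) :
    actWord (genW k) (P i) = P (lk13 (tab (2 * k)) i) := by
  obtain ⟨r, hr, h1, h2⟩ : ∃ r < 8, 575 * r ≤ i ∧ i < 575 * r + 575 := ⟨i / 575, by omega, by omega, by omega⟩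
  interval_cases k
  · interval_cases r
    · exact tabChk_spec tab_0_0 h1 h2
    · exact tabChk_spec tab_1_0 h1 h2
    · exact tabChk_spec tab_2_0 h1 h2
    · exact tabChk_spec tab_3_0 h1 h2
    · exact tabChk_spec tab_4_0 h1 h2
    · exact tabChk_spec tab_5_0 h1 h2
    · exact tabChk_spec tab_6_0 h1 h2
    · exact tabChk_spec tab_7_0 h1 h2
  · interval_cases r
    · exact tabChk_spec tab_0_1 h1 h2
    · exact tabChk_spec tab_1_1 h1 h2
    · exact tabChk_spec tab_2_1 h1 h2
    · exact tabChk_spec tab_3_1 h1 h2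
    · exact tabChk_spec tab_4_1 h1 h2
    · exact tabChk_spec tab_5_1 h1 h2
    · exact tabChk_spec tab_6_1 h1 h2
    · exact tabChk_spec tab_7_1 h1 h2
  · interval_cases r
    · exact tabChk_spec tab_0_2 h1 h2
    · exact tabChk_spec tab_1_2 h1 h2
    · exact tabChk_spec tab_2_2 h1 h2
    · exact tabChk_spec tab_3_2 h1 h2
    · exact tabChk_spec tab_4_2 h1 h2
    · exact tabChk_spec tab_5_2 h1 h2
    · exact tabChk_spec tab_6_2 h1 h2
    · exact tabChk_spec tab_7_2 h1 h2
  · interval_cases r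
    · exact tab3_of tab_0_3_0 tab_0_3_1 tab_0_3_2 h1 h2
    · exact tab3_of tab_1_3_0 tab_1_3_1 tab_1_3_2 h1 h2
    · exact tab3_of tab_2_3_0 tab_2_3_1 tab_2_3_2 h1 h2
    · exact tab3_of tab_3_3_0 tab_3_3_1 tab_3_3_2 h1 h2
    · exact tab3_of tab_4_3_0 tab_4_3_1 tab_4_3_2 h1 h2
    · exact tab3_of tab_5_3_0 tab_5_3_1 tab_5_3_2 h1 h2
    · exact tab3_of tab_6_3_0 tab_6_3_1 tab_6_3_2 h1 h2
    · exact tab3_of tab_7_3_0 tab_7_3_1 tab_7_3_2 h1 h2
  · interval_cases r
    · exact tabChk_spec tab_0_4 h1 h2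
    · exact tabChk_spec tab_1_4 h1 h2
    · exact tabChk_spec tab_2_4 h1 h2
    · exact tabChk_spec tab_3_4 h1 h2
    · exact tabChk_spec tab_4_4 h1 h2
    · exact tabChk_spec tab_5_4 h1 h2
    · exact tabChk_spec tab_6_4 h1 h2
    · exact tabChk_spec tab_7_4 h1 h2

theorem inv_spec {k : ℕ} (hk : k < 5) {i : ℕ} (hi : i < 4600) :
    lk13 (tab (2 * k)) i < 4600 ∧ lk13 (tab (2 * k + 1)) i < 4600 ∧
      lk13 (tab (2 * k)) (lk13 (tab (2 * k + 1)) i) = i := by
  have h := allLt_spec (allLt_spec inv_ok k hk) i hi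
  rw [Bool.and_eq_true, Bool.and_eq_true, decide_eq_true_eq, decide_eq_true_eq] at h
  exact ⟨h.1.1, h.1.2, Nat.eq_of_beq_eq_true h.2⟩

/-! ### The points and the action of the letters -/

/-- the `i`-th point as a lattice vector (`0` for `i ≥ 4600`) -/
noncomputable def pt (i : ℕ) : leechLattice := if h : i < 4600 then ⟨toFn (P i), P_leech h⟩ else 0

theorem pt_val {i : ℕ} (hi : i < 4600) : ((pt i : leechLattice) : GolayPt → ℤ) = toFn (P i) := by
  unfold pt
  rw [dif_pos hi]

theorem genW_all_ok {k : ℕ} (hk : k < 5) : (genW k).all Gen.ok = true := allLt_spec genW_ok k hk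

theorem gen_act {k : ℕ} (hk : k < 5) {i : ℕ} (hi : i < 4600) :
    wordCo0 (genW k) • pt i = pt (lk13 (tab (2 * k)) i) := by
  apply Subtype.ext
  have h1 := actWord_spec (genW k) (genW_all_ok hk) (P i) (P_leech hi)
  rw [tab_ok hk hi] at h1
  rw [pt_val (inv_spec hk hi).1, h1]
  congr 2
  apply Subtype.ext
  exact pt_val hi

theorem gen_inv_act {k : ℕ} (hk : k < 5) {i : ℕ} (hi : i < 4600) :
    (wordCo0 (genW k))⁻¹ • pt i = pt (lk13 (tab (2 * k + 1)) i) := by
  obtain ⟨-, h2, h3⟩ := inv_spec hk hi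
  rw [inv_smul_eq_iff, gen_act hk h2, h3]

/-- the five generators in `Co0` -/
noncomputable abbrev g0 : Co0 := wordCo0 wD
/-- the five generators in `Co0` -/
noncomputable abbrev g1 : Co0 := wordCo0 wU
/-- the five generators in `Co0` -/
noncomputable abbrev g2 : Co0 := wordCo0 wV
/-- the five generators in `Co0` -/
noncomputable abbrev g3 : Co0 := wordCo0 wC
/-- the five generators in `Co0` -/
noncomputable abbrev g4 : Co0 := wordCo0 wT

theorem tab_lt {x : ℕ} (hx : x < 10) {i : ℕ} (hi : i < 4600) : lk13 (tab x) i < 4600 := by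
  interval_cases x
  · exact (inv_spec (k := 0) (by norm_num) hi).1
  · exact (inv_spec (k := 0) (by norm_num) hi).2.1
  · exact (inv_spec (k := 1) (by norm_num) hi).1
  · exact (inv_spec (k := 1) (by norm_num) hi).2.1
  · exact (inv_spec (k := 2) (by norm_num) hi).1
  · exact (inv_spec (k := 2) (by norm_num) hi).2.1
  · exact (inv_spec (k := 3) (by norm_num) hi).1
  · exact (inv_spec (k := 3) (by norm_num) hi).2.1
  · exact (inv_spec (k := 4) (by norm_num) hi).1
  · exact (inv_spec (k := 4) (by norm_num) hi).2.1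

theorem letter_act {x : ℕ} (hx : x < 10) {i : ℕ} (hi : i < 4600) :
    gl5 g0 g1 g2 g3 g4 x • pt i = pt (lk13 (tab x) i) := by
  interval_cases x
  · exact gen_act (k := 0) (by norm_num) hi
  · exact gen_inv_act (k := 0) (by norm_num) hi
  · exact gen_act (k := 1) (by norm_num) hi
  · exact gen_inv_act (k := 1) (by norm_num) hi
  · exact gen_act (k := 2) (by norm_num) hi
  · exact gen_inv_act (k := 2) (by norm_num) hi
  · exact gen_act (k := 3) (by norm_num) hi
  · exact gen_inv_act (k := 3) (by norm_num) hi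
  · exact gen_act (k := 4) (by norm_num) hi
  · exact gen_inv_act (k := 4) (by norm_num) hi

/-! ### The checker -/

/-- the image of the point `i` under the word `w` (the last letter acts first) -/
def trace (w : List ℕ) (i : ℕ) : ℕ := w.foldr (fun x j => lk13 (tab x) j) i

/-- **the word-problem checker**: all letters are `< 10` and the word fixes the 44 base points -/
def chkW27 (w : List ℕ) : Bool :=
  w.all (fun x => decide (x < 10)) && (baseP ++ baseM).all (fun i => Nat.beq (trace w i) i)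

theorem trace_spec (w : List ℕ) (hw : ∀ x ∈ w, x < 10) {i : ℕ} (hi : i < 4600) :
    trace w i < 4600 ∧ wv5 g0 g1 g2 g3 g4 w • pt i = pt (trace w i) := by
  induction w with
  | nil => exact ⟨hi, by rw [wv5_nil, one_smul]; rfl⟩
  | cons x w ih =>
    obtain ⟨h1, h2⟩ := ih (fun y hy => hw y (List.mem_cons_of_mem _ hy))
    have hx : x < 10 := hw x List.mem_cons_self
    have e : trace (x :: w) i = lk13 (tab x) (trace w i) := rfl
    refine ⟨by rw [e]; exact tab_lt hx h1, ?_⟩
    rw [wv5_cons, mul_smul, h2, letter_act hx h1, e]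

/-! ### Faithfulness on the base -/

theorem vecU_eq : Spor.vecU = vecA (some 0) none 4 4 := by
  funext p
  unfold Spor.vecU vecA
  rw [Pi.add_apply, Pi.single_apply, Pi.single_apply]
  cases p with
  | none => simp
  | some j =>
    by_cases hj : j = 0
    · simp [hj]
    · simp [hj]

theorem toFn_baseP {j : ZMod 23} (hj : j ≠ 0) :
    toFn (P (baseP.getD (j.val - 1) 0)) = vecA (some 0) (some j) 4 4 := by
  funext p
  rw [baseP_ok j hj p]
  unfold vecA
  rw [Pi.add_apply, Pi.single_apply, Pi.single_apply]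
  have hj' : (some j : GolayPt) ≠ some 0 := fun h => hj (Option.some.inj h)
  by_cases h1 : p = some 0
  · rw [if_pos h1, if_pos h1, if_neg (by rw [h1]; exact hj'.symm), add_zero]
  · rw [if_neg h1, if_neg h1, zero_add]

theorem toFn_baseM {j : ZMod 23} (hj : j ≠ 0) :
    toFn (P (baseM.getD (j.val - 1) 0)) = vecA (some 0) (some j) 4 (-4) := by
  funext p
  rw [baseM_ok j hj p]
  unfold vecA
  rw [Pi.add_apply, Pi.single_apply, Pi.single_apply]
  have hj' : (some j : GolayPt) ≠ some 0 := fun h => hj (Option.some.inj h)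
  by_cases h1 : p = some 0
  · rw [if_pos h1, if_pos h1, if_neg (by rw [h1]; exact hj'.symm), add_zero]
  · rw [if_neg h1, if_neg h1, zero_add]

theorem getD_mem_base {j : ZMod 23} (hj : j ≠ 0) :
    baseP.getD (j.val - 1) 0 ∈ baseP ++ baseM ∧ baseM.getD (j.val - 1) 0 ∈ baseP ++ baseM := by
  revert j
  decide

theorem eq_zero_of_dots (y : GolayPt → ℤ)
    (h1 : ∀ j : ZMod 23, j ≠ 0 → 4 * y (some 0) + 4 * y (some j) = 0)
    (h2 : ∀ j : ZMod 23, j ≠ 0 → 4 * y (some 0) + (-4) * y (some j) = 0)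
    (h3 : 4 * y (some 0) + 4 * y none = 0) : y = 0 := by
  have h10 : (1 : ZMod 23) ≠ 0 := by decide
  have h0 : y (some 0) = 0 := by linarith [h1 1 h10, h2 1 h10]
  funext p
  cases p with
  | none =>
    show y none = 0
    linarith
  | some j =>
    show y (some j) = 0
    by_cases hj : j = 0
    · rw [hj]; exact h0
    · linarith [h1 j hj]

/-- an element of `C2L` fixing the 44 base points is trivial -/
theorem eq_one_of_fix_base {g : Co0} (hg : g ∈ C2L) (hfix : ∀ i ∈ baseP ++ baseM, g • pt i = pt i) :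
    g = 1 := by
  apply Co0_ext
  intro v
  rw [one_smul]
  set y : GolayPt → ℤ := ((g • v : leechLattice) : GolayPt → ℤ) - (v : GolayPt → ℤ) with hy
  have key : ∀ b : leechLattice, g • b = b → dotInt (b : GolayPt → ℤ) y = 0 := by
    intro b hb
    rw [hy, dotInt_sub_right]
    have := Co0_dot g b v
    rw [hb] at this
    rw [this, sub_self]
  have hy0 : y = 0 := by
    apply eq_zero_of_dots
    · intro j hj
      have hm := (getD_mem_base hj).1
      have := key (pt _) (hfix _ hm)
      rw [pt_val (base_lt _ hm), toFn_baseP hj, dotInt_vecA] at this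
      exact this
    · intro j hj
      have hm := (getD_mem_base hj).2
      have := key (pt _) (hfix _ hm)
      rw [pt_val (base_lt _ hm), toFn_baseM hj, dotInt_vecA] at this
      exact this
    · have := key Spor.leechU (mem_stabilizer_iff.1 hg)
      have e : ((Spor.leechU : leechLattice) : GolayPt → ℤ) = vecA (some 0) none 4 4 := vecU_eq
      rw [e, dotInt_vecA] at this
      exact this
  have := sub_eq_zero.1 hy0
  exact this

/-- **soundness of the checker** -/
theorem wv_eq_one_of_chk (w : List ℕ) (h : chkW27 w = true) : wv5 sC dC vC cC Cfsg.Agent.Lib.H6.Co2M.tC w = 1 := by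
  unfold chkW27 at h
  rw [Bool.and_eq_true, List.all_eq_true, List.all_eq_true] at h
  obtain ⟨hw, hb⟩ := h
  have hw' : ∀ x ∈ w, x < 10 := fun x hx => of_decide_eq_true (hw x hx)
  apply Subtype.ext
  have e : ((wv5 sC dC vC cC Cfsg.Agent.Lib.H6.Co2M.tC w : ↥C2L) : Co0) = wv5 g0 g1 g2 g3 g4 w :=
    map_wv5 sC dC vC cC Cfsg.Agent.Lib.H6.Co2M.tC C2L.subtype w
  rw [Subgroup.coe_one]
  apply eq_one_of_fix_base (wv5 sC dC vC cC Cfsg.Agent.Lib.H6.Co2M.tC w).2
  intro i hi
  have hi' := base_lt i hi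
  rw [e, (trace_spec w hw' hi').2, Nat.eq_of_beq_eq_true (hb i hi)]

end Cfsg.Agent.Lib.H18.Co2M
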