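import Cfsg.Agent.Lib.H24.CharOrth
import Cfsg.Agent.Lib.H24.CharLinearMul
import Cfsg.Agent.Lib.L0.CharLinear
import Cfsg.Agent.Lib.H7.ConjOrbit
import Cfsg.Agent.Lib.H22.PPrimeCore
import Cfsg.Agent.Lib.H23.DegreeDvd
import Cfsg.Prelude.Def_CaseTheorems

/-!
# Characters with `χ(1) - χ(u)` constant or `χ(u) = 0` (helper18, for S4757)

`Hyp u c`: every non-principal irreducible `χ` has `χ(1) - χ(u) = c` or `χ(u) = 0`.
`c_eq_two_of_not_perfect`, `structure_of_c_eq_two` (`c = 2` ⇒ `u` an involution with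
`C(u) = ⟨u⟩` and `G = ⟨u⟩ O(G)`), `not_perfect_of_structure`.  Second orthogonality counting.
-/

set_option autoImplicit false

namespace Cfsg.Agent.Lib.H18.ConstDiff

open Cfsg Cfsg.Agent.Lib.L0 Cfsg.Agent.Lib.H24
open scoped ComplexConjugate

variable {G : Type*} [Group G] [Finite G]

/-- the hypothesis: `χ(1) - χ(u) = c` or `χ(u) = 0` for all non-principal irreducible `χ`. -/
def Hyp (u : G) (c : ℂ) : Prop :=
  ∀ χ : IrrCharacter G, (χ : G → ℂ) ≠ (fun _ => (1 : ℂ)) →
    ((χ : G → ℂ) 1 - (χ : G → ℂ) u = c ∨ (χ : G → ℂ) u = 0)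

theorem hom_val {u : G} {c : ℂ} (hyp : Hyp u c) (f : G →* ℂˣ) (hf : f ≠ 1) :
    1 - (f u : ℂ) = c := by
  have hne : ((homIrr f : IrrCharacter G) : G → ℂ) ≠ (fun _ => (1 : ℂ)) := by
    intro h
    apply hf
    ext g
    have := congrFun h g
    rw [homIrr_apply] at this
    simpa using this
  rcases hyp (homIrr f) hne with h | h
  · rw [homIrr_apply, homIrr_apply, map_one] at h
    simpa using h
  · rw [homIrr_apply] at h
    exact absurd h (Units.ne_zero _)

/-- the principal character as an `IrrCharacter`. -/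
noncomputable def princ (G : Type*) [Group G] : IrrCharacter G := homIrr 1

theorem princ_apply (g : G) : ((princ G : IrrCharacter G) : G → ℂ) g = 1 := by
  unfold princ
  rw [homIrr_apply]
  simp

theorem eq_princ_of_coe {χ : IrrCharacter G} (h : (χ : G → ℂ) = (fun _ => (1 : ℂ))) :
    χ = princ G := by
  apply Subtype.ext
  rw [h]
  funext g
  exact (princ_apply g).symm

theorem coe_ne_of_ne_princ {χ : IrrCharacter G} (h : χ ≠ princ G) :
    (χ : G → ℂ) ≠ (fun _ => (1 : ℂ)) := fun h' => h (eq_princ_of_coe h')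

/-- `c = 0` is impossible. -/
theorem c_ne_zero {u : G} (hu : u ≠ 1) {c : ℂ} (hyp : Hyp u c) : c ≠ 0 := by
  classical
  rintro rfl
  have := Fintype.ofFinite G
  have := Fintype.ofFinite (IrrCharacter G)
  have h1 := second_orthogonality (G := G) u 1
  rw [if_neg (fun h => hu (isConj_one_left.mp h))] at h1
  have h2 := congrArg Complex.re h1
  rw [Complex.re_sum, Complex.zero_re] at h2
  have hnonneg : ∀ χ : IrrCharacter G,
      0 ≤ ((χ : G → ℂ) u * conj ((χ : G → ℂ) 1)).re := by
    intro χ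
    obtain ⟨d, hd0, hd⟩ := irr_one_eq χ
    by_cases hχ : χ = princ G
    · rw [hχ, princ_apply, princ_apply]; simp
    · rcases hyp χ (coe_ne_of_ne_princ hχ) with h | h
      · have : (χ : G → ℂ) u = d := by
          rw [← hd]
          linear_combination -h
        rw [this, hd, Complex.conj_natCast, ← Nat.cast_mul, Complex.natCast_re]
        positivity
      · rw [h, zero_mul]; simp
  have hle := Finset.single_le_sum (f := fun χ : IrrCharacter G =>
    ((χ : G → ℂ) u * conj ((χ : G → ℂ) 1)).re) (fun χ _ => hnonneg χ) (Finset.mem_univ (princ G))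
  rw [h2] at hle
  simp only [princ_apply] at hle
  norm_num at hle

/-- not perfect implies `c = 2`. -/
theorem c_eq_two_of_not_perfect {u : G} (hu : u ≠ 1) {c : ℂ} (hyp : Hyp u c)
    (hnp : commutator G ≠ ⊤) : c = 2 := by
  obtain ⟨f, hf⟩ : ∃ f : G →* ℂˣ, f ≠ 1 := by
    by_contra hno
    push Not at hno
    have hsub : Subsingleton (G →* ℂˣ) := ⟨fun a b => (hno a).trans (hno b).symm⟩
    have h1 : Nat.card (G →* ℂˣ) = 1 := Nat.card_unique
    have h2 := card_linear_irr (G := G)
    rw [Nat.card_congr linearCharEquiv, h1] at h2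
    exact hnp (Subgroup.index_eq_one.mp h2.symm)
  have hf' : f⁻¹ ≠ 1 := by
    intro h
    apply hf
    ext g
    have := DFunLike.congr_fun h g
    rw [MonoidHom.inv_apply, MonoidHom.one_apply, inv_eq_one] at this
    rw [this, MonoidHom.one_apply]
  have h1 := hom_val hyp f hf
  have h2 := hom_val hyp f⁻¹ hf'
  have h3 : ((f⁻¹ u : ℂˣ) : ℂ) = ((f u : ℂˣ) : ℂ)⁻¹ := by
    rw [MonoidHom.inv_apply, Units.val_inv_eq_inv_val]
  rw [h3] at h2
  have hne : ((f u : ℂˣ) : ℂ) ≠ 0 := Units.ne_zero _
  have h4 : ((f u : ℂˣ) : ℂ) = ((f u : ℂˣ) : ℂ)⁻¹ := by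
    have : 1 - ((f u : ℂˣ) : ℂ) = 1 - ((f u : ℂˣ) : ℂ)⁻¹ := h1.trans h2.symm
    linear_combination -this
  have h5 : ((f u : ℂˣ) : ℂ) ^ 2 = 1 := by
    rw [sq]
    nth_rewrite 2 [h4]
    exact mul_inv_cancel₀ hne
  have h6 : (((f u : ℂˣ) : ℂ) - 1) * (((f u : ℂˣ) : ℂ) + 1) = 0 := by
    linear_combination h5
  rcases mul_eq_zero.mp h6 with h | h
  · exfalso
    apply c_ne_zero hu hyp
    rw [← h1]
    linear_combination -h
  · rw [← h1]
    linear_combination -h

/-- with `c = 2` all nontrivial homomorphisms to `ℂˣ` coincide. -/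
theorem hom_unique {u : G} (hyp : Hyp u 2) (f f' : G →* ℂˣ) (hf : f ≠ 1) (hf' : f' ≠ 1) :
    f = f' := by
  have h1 := hom_val hyp f hf
  have h2 := hom_val hyp f' hf'
  have hfu : ((f u : ℂˣ) : ℂ) = -1 := by linear_combination -h1
  have hfu' : ((f' u : ℂˣ) : ℂ) = -1 := by linear_combination -h2
  have key : ∀ a b : G →* ℂˣ, ((a u : ℂˣ) : ℂ) = -1 → ((b u : ℂˣ) : ℂ) = -1 → a * b = 1 := by
    intro a b ha hb
    by_contra hab
    have := hom_val hyp (a * b) hab
    rw [MonoidHom.mul_apply, Units.val_mul, ha, hb] at this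
    norm_num at this
  have h3 := key f f hfu hfu
  have h4 := key f f' hfu hfu'
  refine MonoidHom.ext fun g => ?_
  have e3 := DFunLike.congr_fun h3 g
  have e4 := DFunLike.congr_fun h4 g
  rw [MonoidHom.mul_apply, MonoidHom.one_apply] at e3 e4
  exact mul_left_cancel (e3.trans e4.symm)

/-- the main counting step for `c = 2`. -/
theorem card_centralizer_le {u : G} (hu : u ≠ 1) (hyp : Hyp u 2) :
    ∃ L : Finset (IrrCharacter G), (∀ χ ∈ L, χ ≠ princ G ∧ (χ : G → ℂ) 1 = 1) ∧
      Nat.card (Subgroup.centralizer ({u} : Set G)) ≤ 2 * L.card ∧ L.card ≤ 1 := by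
  classical
  have := Fintype.ofFinite G
  have := Fintype.ofFinite (IrrCharacter G)
  set L : Finset (IrrCharacter G) :=
    Finset.univ.filter (fun χ => χ ≠ princ G ∧ (χ : G → ℂ) 1 = 1) with hL
  have hLmem : ∀ χ ∈ L, χ ≠ princ G ∧ (χ : G → ℂ) 1 = 1 := by
    intro χ hχ
    exact (Finset.mem_filter.mp hχ).2
  refine ⟨L, hLmem, ?_, ?_⟩
  · have h1 := second_orthogonality (G := G) u 1
    rw [if_neg (fun h => hu (isConj_one_left.mp h))] at h1
    have h2 := second_orthogonality (G := G) u u
    rw [if_pos (IsConj.refl u)] at h2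
    have h3 : ∑ χ : IrrCharacter G, ((χ : G → ℂ) u * conj ((χ : G → ℂ) u) -
        (χ : G → ℂ) u * conj ((χ : G → ℂ) 1)) =
        (Nat.card (Subgroup.centralizer ({u} : Set G)) : ℂ) := by
      rw [Finset.sum_sub_distrib, h1, h2, sub_zero]
    have h4 := congrArg Complex.re h3
    rw [Complex.re_sum, Complex.natCast_re] at h4
    have hbound : ∀ χ : IrrCharacter G,
        ((χ : G → ℂ) u * conj ((χ : G → ℂ) u) - (χ : G → ℂ) u * conj ((χ : G → ℂ) 1)).re ≤
          if χ ∈ L then (2 : ℝ) else 0 := by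
      intro χ
      obtain ⟨d, hd0, hd⟩ := irr_one_eq χ
      have hrhs : (0 : ℝ) ≤ if χ ∈ L then (2 : ℝ) else 0 := by split_ifs <;> norm_num
      by_cases hχ : χ = princ G
      · subst hχ
        rw [princ_apply, princ_apply]
        simpa using hrhs
      · rcases hyp χ (coe_ne_of_ne_princ hχ) with h | h
        · have hu' : (χ : G → ℂ) u = (d : ℂ) - 2 := by
            rw [← hd]
            linear_combination -h
          have hterm : (χ : G → ℂ) u * conj ((χ : G → ℂ) u) -
              (χ : G → ℂ) u * conj ((χ : G → ℂ) 1) = ((4 - 2 * (d : ℝ) : ℝ) : ℂ) := by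
            rw [hu', hd, map_sub, Complex.conj_natCast, map_ofNat]
            push_cast
            ring
          rw [hterm, Complex.ofReal_re]
          by_cases hd1 : d = 1
          · have hmem : χ ∈ L := by
              rw [hL, Finset.mem_filter]
              refine ⟨Finset.mem_univ _, hχ, ?_⟩
              rw [hd, hd1]; simp
            rw [if_pos hmem, hd1]
            norm_num
          · have hd2 : (2 : ℝ) ≤ (d : ℝ) := by
              have : 2 ≤ d := by omega
              exact_mod_cast this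
            linarith
        · rw [h, zero_mul, zero_mul, sub_zero, Complex.zero_re]
          exact hrhs
    have h5 : (Nat.card (Subgroup.centralizer ({u} : Set G)) : ℝ) ≤
        ∑ χ : IrrCharacter G, if χ ∈ L then (2 : ℝ) else 0 := by
      rw [← h4]
      exact Finset.sum_le_sum (fun χ _ => hbound χ)
    rw [Finset.sum_ite_mem, Finset.univ_inter, Finset.sum_const, nsmul_eq_mul] at h5
    have h6 : (Nat.card (Subgroup.centralizer ({u} : Set G)) : ℝ) ≤ ((2 * L.card : ℕ) : ℝ) := by
      push_cast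
      linarith
    exact_mod_cast h6
  · rw [Finset.card_le_one]
    intro a ha b hb
    obtain ⟨ha0, ha1⟩ := hLmem a ha
    obtain ⟨hb0, hb1⟩ := hLmem b hb
    set fa := linearCharEquiv (⟨a, ha1⟩ : {χ : IrrCharacter G // (χ : G → ℂ) 1 = 1}) with hfa
    set fb := linearCharEquiv (⟨b, hb1⟩ : {χ : IrrCharacter G // (χ : G → ℂ) 1 = 1}) with hfb
    have hval : ∀ (χ : IrrCharacter G) (h1 : (χ : G → ℂ) 1 = 1) (g : G),
        ((linearCharEquiv (⟨χ, h1⟩ : {χ : IrrCharacter G // (χ : G → ℂ) 1 = 1}) g : ℂˣ) : ℂ) =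
          (χ : G → ℂ) g := fun χ h1 g => rfl
    have hne : ∀ (χ : IrrCharacter G) (h1 : (χ : G → ℂ) 1 = 1), χ ≠ princ G →
        linearCharEquiv (⟨χ, h1⟩ : {χ : IrrCharacter G // (χ : G → ℂ) 1 = 1}) ≠ 1 := by
      intro χ h1 h0 h
      apply h0
      apply eq_princ_of_coe
      funext g
      rw [← hval χ h1 g, h]
      simp
    have := hom_unique hyp fa fb (hne a ha1 ha0) (hne b hb1 hb0)
    have h2 := linearCharEquiv.injective this
    exact congrArg Subtype.val h2

omit [Finite G] in
theorem unit_eq_neg_one {z : ℂˣ} (h : z * z = 1) (h1 : z ≠ 1) : (z : ℂ) = -1 := by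
  have h2 : (z : ℂ) * (z : ℂ) = 1 := by
    have := congrArg (Units.val) h
    simpa using this
  have h3 : ((z : ℂ) - 1) * ((z : ℂ) + 1) = 0 := by linear_combination h2
  rcases mul_eq_zero.mp h3 with h | h
  · exfalso
    apply h1
    apply Units.ext
    rw [Units.val_one]
    linear_combination h
  · linear_combination h

/-- `c = 2` implies the structure (a). -/
theorem structure_of_c_eq_two {u : G} (hu : u ≠ 1) (hyp : Hyp u 2) :
    orderOf u = 2 ∧ Subgroup.zpowers u ⊔ Cfsg.oddCore G = ⊤ ∧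
      Subgroup.centralizer ({u} : Set G) = Subgroup.zpowers u := by
  classical
  obtain ⟨L, hLmem, hcard, hL1⟩ := card_centralizer_le hu hyp
  have hzle : Subgroup.zpowers u ≤ Subgroup.centralizer ({u} : Set G) := by
    rw [Subgroup.zpowers_le, Subgroup.mem_centralizer_singleton_iff]
  have hzcard : Nat.card (Subgroup.zpowers u) = orderOf u := Nat.card_zpowers u
  have hord2 : 2 ≤ orderOf u := by
    have h1 : orderOf u ≠ 1 := fun h => hu (orderOf_eq_one_iff.mp h)
    have h0 : 0 < orderOf u := orderOf_pos u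
    omega
  have hle : orderOf u ≤ Nat.card (Subgroup.centralizer ({u} : Set G)) := by
    rw [← hzcard]; exact Subgroup.card_le_of_le hzle
  have hLc : L.card = 1 := by omega
  have hord : orderOf u = 2 := by omega
  have hC : Subgroup.centralizer ({u} : Set G) = Subgroup.zpowers u :=
    (Subgroup.eq_of_le_of_card_ge hzle (by rw [hzcard]; omega)).symm
  refine ⟨hord, ?_, hC⟩
  obtain ⟨lam, hlam⟩ := Finset.card_eq_one.mp hLc
  have hlamL : lam ∈ L := by rw [hlam]; exact Finset.mem_singleton_self _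
  obtain ⟨hlam0, hlam1⟩ := hLmem lam hlamL
  set f := linearCharEquiv (⟨lam, hlam1⟩ : {χ : IrrCharacter G // (χ : G → ℂ) 1 = 1}) with hf
  have hval : ∀ g : G, ((f g : ℂˣ) : ℂ) = (lam : G → ℂ) g := fun g => rfl
  have hf1 : f ≠ 1 := by
    intro h
    apply hlam0
    apply eq_princ_of_coe
    funext g
    rw [← hval g, h]
    simp
  have hfu : ((f u : ℂˣ) : ℂ) = -1 := by
    have := hom_val hyp f hf1
    linear_combination -this
  have hfu1 : f u ≠ 1 := by
    intro h
    rw [h] at hfu
    norm_num at hfu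
  have hff : ∀ g : G, f g * f g = 1 := by
    intro g
    have h1 : f * f = 1 := by
      by_contra hab
      have := hom_val hyp (f * f) hab
      rw [MonoidHom.mul_apply, Units.val_mul, hfu] at this
      norm_num at this
    have e := DFunLike.congr_fun h1 g
    rwa [MonoidHom.mul_apply, MonoidHom.one_apply] at e
  set N : Subgroup G := f.ker with hN
  have hNn : N.Normal := inferInstance
  have huN : u ∉ N := fun h => hfu1 (MonoidHom.mem_ker.mp h)
  have hsup : Subgroup.zpowers u ⊔ N = ⊤ := by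
    rw [eq_top_iff]
    intro g _
    by_cases hg : f g = 1
    · exact Subgroup.mem_sup_right (MonoidHom.mem_ker.mpr hg)
    · have h1 : f g = f u := by
        apply Units.ext
        rw [unit_eq_neg_one (hff g) hg, hfu]
      have h2 : u⁻¹ * g ∈ N := by
        rw [hN, MonoidHom.mem_ker, map_mul, map_inv, h1, inv_mul_cancel]
      have h3 : g = u * (u⁻¹ * g) := by group
      rw [h3]
      exact Subgroup.mul_mem_sup (Subgroup.mem_zpowers u) h2
  have hNu : N ⊓ Subgroup.centralizer ({u} : Set G) = ⊥ := by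
    rw [hC]
    have hdvd : Nat.card ↥(N ⊓ Subgroup.zpowers u) ∣ 2 := by
      have := Subgroup.card_dvd_of_le (inf_le_right : N ⊓ Subgroup.zpowers u ≤ Subgroup.zpowers u)
      rwa [hzcard, hord] at this
    rcases (Nat.dvd_prime Nat.prime_two).mp hdvd with h | h
    · exact Subgroup.card_eq_one.mp h
    · exfalso
      have h2 : N ⊓ Subgroup.zpowers u = Subgroup.zpowers u :=
        Subgroup.eq_of_le_of_card_ge inf_le_right (by rw [hzcard, hord, h])
      apply huN
      have : u ∈ N ⊓ Subgroup.zpowers u := by rw [h2]; exact Subgroup.mem_zpowers u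
      exact this.1
  have huNn : u ∈ Subgroup.normalizer (N : Set G) := by
    rw [Subgroup.normalizer_eq_top_iff.mpr hNn]; trivial
  have hmod := Cfsg.Agent.Lib.H7.card_modEq_card_inf_centralizer hord huNn
  rw [hNu, Subgroup.card_bot] at hmod
  have hcop : (Nat.card N).Coprime 2 := by
    rw [Nat.coprime_comm, Nat.Prime.coprime_iff_not_dvd Nat.prime_two]
    intro h2
    have := (Nat.modEq_zero_iff_dvd.mpr h2).symm.trans hmod
    exact absurd this (by decide)
  have hNO : N ≤ Cfsg.oddCore G := Cfsg.Agent.Lib.H22.le_pPrimeCore 2 N hNn hcop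
  rw [eq_top_iff, ← hsup]
  exact sup_le_sup_left hNO _

/-- structure (a) implies `G` not perfect. -/
theorem not_perfect_of_structure {u : G} (hord : orderOf u = 2)
    (hsup : Subgroup.zpowers u ⊔ Cfsg.oddCore G = ⊤) : commutator G ≠ ⊤ := by
  intro hperf
  set O : Subgroup G := Cfsg.oddCore G with hO
  have hcyc : IsCyclic (G ⧸ O) := by
    refine ⟨⟨((u : G) : G ⧸ O), fun x => ?_⟩⟩
    induction x using QuotientGroup.induction_on with
    | H g =>
      have hg : g ∈ ((Subgroup.zpowers u ⊔ O : Subgroup G) : Set G) := by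
        rw [hsup]; trivial
      rw [Subgroup.mul_normal] at hg
      obtain ⟨a, ha, b, hb, rfl⟩ := hg
      obtain ⟨k, rfl⟩ := Subgroup.mem_zpowers_iff.mp ha
      refine Subgroup.mem_zpowers_iff.mpr ⟨k, ?_⟩
      rw [QuotientGroup.mk_mul, (QuotientGroup.eq_one_iff b).mpr hb, mul_one,
        QuotientGroup.mk_zpow]
  let _ : CommGroup (G ⧸ O) := hcyc.commGroup
  have hle : commutator G ≤ O := by
    have := Abelianization.commutator_subset_ker (QuotientGroup.mk' O)
    rwa [QuotientGroup.ker_mk'] at this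
  rw [hperf] at hle
  have hOtop : O = ⊤ := top_le_iff.mp hle
  have hcop : (Nat.card O).Coprime 2 := Cfsg.Agent.Lib.H22.card_pPrimeCore_coprime 2
  have hdvd : orderOf u ∣ Nat.card O := by
    rw [hOtop, Subgroup.card_top]; exact orderOf_dvd_natCard u
  rw [hord] at hdvd
  have := Nat.Coprime.eq_one_of_dvd hcop.symm hdvd
  omega

end Cfsg.Agent.Lib.H18.ConstDiff
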