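import Mathlib
import Cfsg.Prelude.Def_Classical
import Cfsg.Agent.Lib.H14.F9
import Cfsg.Agent.Lib.H2.Spec5

/-!
# S3670 pieces M3 / M8 (helper18): centralizers in `SU(3, F9)` of matrices with a cyclic vector

Engine: if `mat z` has a cyclic vector then the centralizer of `z` in `SU(3,F9)` is in bijection with the
polynomials `a + b Z + c Z²` (`Z = mat z`) lying in `SU`; their number is computed by `decide`.
-/

set_option autoImplicit false

namespace Cfsg.Agent.Lib.H18.DG

open Matrix hiding SpecialLinearGroup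
open Matrix (SpecialLinearGroup)
open Cfsg.Agent.Lib.H14

/-- the Frobenius map of `F9` -/
def frobF9 : F9 →+* F9 where
  toFun x := x ^ 3
  map_one' := by decide
  map_mul' := by decide
  map_zero' := by decide
  map_add' := by decide

theorem frobF9_apply (x : F9) : frobF9 x = x ^ 3 := rfl

/-- the determinant of a `3 × 3` matrix, written out -/
def det3 (m : Matrix (Fin 3) (Fin 3) F9) : F9 :=
  m 0 0 * m 1 1 * m 2 2 - m 0 0 * m 1 2 * m 2 1 - m 0 1 * m 1 0 * m 2 2 + m 0 1 * m 1 2 * m 2 0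
    + m 0 2 * m 1 0 * m 2 1 - m 0 2 * m 1 1 * m 2 0

theorem det3_eq (m : Matrix (Fin 3) (Fin 3) F9) : det3 m = m.det := (Matrix.det_fin_three m).symm

/-- the polynomial `a + b Z + c Z²` -/
def poly (Z : Matrix (Fin 3) (Fin 3) F9) (t : F9 × F9 × F9) : Matrix (Fin 3) (Fin 3) F9 :=
  t.1 • (1 : Matrix (Fin 3) (Fin 3) F9) + t.2.1 • Z + t.2.2 • (Z * Z)

/-- unitary of determinant one -/
def IsSU (m : Matrix (Fin 3) (Fin 3) F9) : Prop := mᵀ * m.map frobF9 = 1 ∧ det3 m = 1

instance (m : Matrix (Fin 3) (Fin 3) F9) : Decidable (IsSU m) := by unfold IsSU; infer_instance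

/-- the polynomials in `Z` lying in `SU` -/
def centSet (Z : Matrix (Fin 3) (Fin 3) F9) : Finset (Matrix (Fin 3) (Fin 3) F9) :=
  (Finset.univ.filter (fun t : F9 × F9 × F9 => IsSU (poly Z t))).image (poly Z)

/-- the special unitary group `SU(3, F9)` -/
abbrev SU3 : Type := ↥(Cfsg.SU 3 F9 3)

/-- the matrix of an element -/
abbrev mat (g : SU3) : Matrix (Fin 3) (Fin 3) F9 :=
  ((g : SpecialLinearGroup (Fin 3) F9) : Matrix (Fin 3) (Fin 3) F9)

theorem mat_injective : Function.Injective mat := fun _ _ e => Subtype.ext (Subtype.ext e)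

theorem isSU_mat (g : SU3) : IsSU (mat g) :=
  ⟨(Cfsg.Agent.Lib.H2.Spec.mem_SU_iff_mul frobF9 frobF9_apply _).1 g.2, by
    rw [det3_eq]; exact g.1.2⟩

/-- an element of `SU(3, F9)` from its matrix -/
def mkSU (m : Matrix (Fin 3) (Fin 3) F9) (h : IsSU m) : SU3 :=
  ⟨⟨m, by rw [← det3_eq]; exact h.2⟩,
    (Cfsg.Agent.Lib.H2.Spec.mem_SU_iff_mul frobF9 frobF9_apply _).2 h.1⟩

theorem mat_mkSU (m : Matrix (Fin 3) (Fin 3) F9) (h : IsSU m) : mat (mkSU m h) = m := rfl

theorem mat_pow (g : SU3) (n : ℕ) : mat (g ^ n) = mat g ^ n := by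
  induction n with
  | zero => rw [pow_zero, pow_zero]; rfl
  | succ k ih => rw [pow_succ, pow_succ, ← ih]; rfl

/-- the commutant of a matrix with a cyclic vector consists of polynomials -/
theorem cyc_commute {F : Type*} [Field F] (g h : Matrix (Fin 3) (Fin 3) F) (v : Fin 3 → F)
    (hv : (Matrix.of ![v, g.mulVec v, (g * g).mulVec v]).det ≠ 0) (hc : g * h = h * g) :
    ∃ a b c : F, h = a • (1 : Matrix (Fin 3) (Fin 3) F) + b • g + c • (g * g) := by
  set N : Matrix (Fin 3) (Fin 3) F := Matrix.of ![v, g.mulVec v, (g * g).mulVec v] with hN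
  have hNu : IsUnit N.det := isUnit_iff_ne_zero.mpr hv
  set w : Fin 3 → F := (h.mulVec v) ᵥ* N⁻¹ with hw
  have hwN : w ᵥ* N = h.mulVec v := by
    rw [hw, Matrix.vecMul_vecMul, Matrix.nonsing_inv_mul N hNu, Matrix.vecMul_one]
  set p : Matrix (Fin 3) (Fin 3) F := w 0 • (1 : Matrix (Fin 3) (Fin 3) F) + w 1 • g + w 2 • (g * g)
    with hp
  have hpv : p.mulVec v = h.mulVec v := by
    rw [← hwN]
    ext i
    simp only [hp, hN, Matrix.vecMul, dotProduct, Fin.sum_univ_three, Matrix.add_mulVec,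
      Matrix.smul_mulVec, Matrix.one_mulVec, Pi.add_apply, Pi.smul_apply, smul_eq_mul,
      Matrix.of_apply, Matrix.cons_val_zero, Matrix.cons_val_one, Matrix.cons_val_two]
    simp
  have hpg : g * p = p * g := by
    simp [hp, mul_add, add_mul, Matrix.mul_assoc]
  have hrow : ∀ j, h.mulVec (N j) = p.mulVec (N j) := by
    intro j
    fin_cases j
    · show h.mulVec v = p.mulVec v
      exact hpv.symm
    · show h.mulVec (g.mulVec v) = p.mulVec (g.mulVec v)
      calc h.mulVec (g.mulVec v) = (h * g).mulVec v := Matrix.mulVec_mulVec _ _ _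
        _ = (g * h).mulVec v := by rw [hc]
        _ = g.mulVec (h.mulVec v) := (Matrix.mulVec_mulVec _ _ _).symm
        _ = g.mulVec (p.mulVec v) := by rw [hpv]
        _ = (g * p).mulVec v := Matrix.mulVec_mulVec _ _ _
        _ = (p * g).mulVec v := by rw [hpg]
        _ = p.mulVec (g.mulVec v) := (Matrix.mulVec_mulVec _ _ _).symm
    · show h.mulVec ((g * g).mulVec v) = p.mulVec ((g * g).mulVec v)
      have hc2 : (g * g) * h = h * (g * g) := by
        rw [Matrix.mul_assoc, hc, ← Matrix.mul_assoc, hc, Matrix.mul_assoc]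
      have hp2 : (g * g) * p = p * (g * g) := by
        rw [Matrix.mul_assoc, hpg, ← Matrix.mul_assoc, hpg, Matrix.mul_assoc]
      calc h.mulVec ((g * g).mulVec v) = (h * (g * g)).mulVec v := Matrix.mulVec_mulVec _ _ _
        _ = ((g * g) * h).mulVec v := by rw [hc2]
        _ = (g * g).mulVec (h.mulVec v) := (Matrix.mulVec_mulVec _ _ _).symm
        _ = (g * g).mulVec (p.mulVec v) := by rw [hpv]
        _ = ((g * g) * p).mulVec v := Matrix.mulVec_mulVec _ _ _
        _ = (p * (g * g)).mulVec v := by rw [hp2]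
        _ = p.mulVec ((g * g).mulVec v) := (Matrix.mulVec_mulVec _ _ _).symm
  have hmul : h * Nᵀ = p * Nᵀ := by
    ext i j
    have := congrFun (hrow j) i
    simpa [Matrix.mul_apply, Matrix.mulVec, dotProduct] using this
  refine ⟨w 0, w 1, w 2, ?_⟩
  have hNt : IsUnit Nᵀ.det := by rw [Matrix.det_transpose]; exact hNu
  calc h = h * (Nᵀ * Nᵀ⁻¹) := by rw [Matrix.mul_nonsing_inv _ hNt, Matrix.mul_one]
    _ = p * (Nᵀ * Nᵀ⁻¹) := by rw [← Matrix.mul_assoc, hmul, Matrix.mul_assoc]
    _ = p := by rw [Matrix.mul_nonsing_inv _ hNt, Matrix.mul_one]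

/-- the centralizer of an element whose matrix has a cyclic vector -/
theorem card_centralizer (z : SU3) (v : Fin 3 → F9)
    (hv : (Matrix.of ![v, (mat z).mulVec v, (mat z * mat z).mulVec v]).det ≠ 0) :
    Nat.card (Subgroup.centralizer ({z} : Set SU3)) = (centSet (mat z)).card := by
  classical
  have hmem : ∀ h : ↥(Subgroup.centralizer ({z} : Set SU3)), mat h.1 ∈ centSet (mat z) := by
    intro h
    have hc : z * h.1 = h.1 * z := (Subgroup.mem_centralizer_iff.mp h.2) z rfl
    have hc' : mat z * mat h.1 = mat h.1 * mat z := congrArg mat hc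
    obtain ⟨a, b, c, habc⟩ := cyc_commute (mat z) (mat h.1) v hv hc'
    refine Finset.mem_image.mpr ⟨(a, b, c), Finset.mem_filter.mpr ⟨Finset.mem_univ _, ?_⟩, ?_⟩
    · show IsSU (poly (mat z) (a, b, c))
      rw [show poly (mat z) (a, b, c) = mat h.1 from habc.symm]
      exact isSU_mat _
    · exact habc.symm
  rw [← Fintype.card_coe (centSet (mat z)), ← Nat.card_eq_fintype_card]
  refine Nat.card_congr (Equiv.ofBijective (fun h => ⟨mat h.1, hmem h⟩) ⟨?_, ?_⟩)
  · intro h h' e
    have e' := congrArg (fun x : ↥(centSet (mat z)) => (x : Matrix (Fin 3) (Fin 3) F9)) e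
    exact Subtype.ext (mat_injective e')
  · rintro ⟨m, hm⟩
    obtain ⟨t, ht, rfl⟩ := Finset.mem_image.mp hm
    have ht' : IsSU (poly (mat z) t) := (Finset.mem_filter.mp ht).2
    refine ⟨⟨mkSU _ ht', ?_⟩, rfl⟩
    rw [Subgroup.mem_centralizer_iff]
    intro g hg
    rw [Set.mem_singleton_iff.mp hg]
    apply mat_injective
    show mat z * poly (mat z) t = poly (mat z) t * mat z
    simp [poly, mul_add, add_mul, Matrix.mul_assoc]

end Cfsg.Agent.Lib.H18.DG
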