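import Mathlib
import Cfsg.Agent.Lib.H18.DGCent

/-!
# S3670 piece M3 (helper18): an element of order `3` of `SU(3, F9)` with centralizer of order `9`
-/

set_option autoImplicit false
set_option maxRecDepth 100000

namespace Cfsg.Agent.Lib.H18.DG

open Matrix hiding SpecialLinearGroup
open Matrix (SpecialLinearGroup)
open Cfsg.Agent.Lib.H14

/-- the matrix `y = !![0,0,i; i,0,0; 0,-1,0]` -/
def Ym : Matrix (Fin 3) (Fin 3) F9 :=
  !![F9.e00, F9.e00, F9.e01; F9.e01, F9.e00, F9.e00; F9.e00, F9.e20, F9.e00]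

theorem isSU_Ym : IsSU Ym := by decide +kernel

/-- `y` as an element of `SU(3, F9)` -/
def yel : SU3 := mkSU Ym isSU_Ym

theorem card_centSet_Ym : (centSet Ym).card = 9 := by decide +kernel

theorem cyc_Ym : (Matrix.of ![![F9.e10, F9.e00, F9.e00], Ym.mulVec ![F9.e10, F9.e00, F9.e00],
    (Ym * Ym).mulVec ![F9.e10, F9.e00, F9.e00]]).det ≠ 0 := by
  rw [← det3_eq]
  decide +kernel

theorem orderOf_yel : orderOf yel = 3 := by
  haveI : Fact (Nat.Prime 3) := ⟨Nat.prime_three⟩
  have h3 : yel ^ 3 = 1 := by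
    apply mat_injective
    rw [mat_pow]
    show Ym ^ 3 = 1
    decide +kernel
  have h1 : yel ≠ 1 := by
    intro h
    have h' := congrArg mat h
    revert h'
    show ¬ (Ym = 1)
    decide +kernel
  exact orderOf_eq_prime h3 h1

/-- **M3**. -/
theorem exists_order3 : ∃ y : ↥(Cfsg.SU 3 F9 3), orderOf y = 3 ∧
    Nat.card (Subgroup.centralizer ({y} : Set ↥(Cfsg.SU 3 F9 3))) = 9 :=
  ⟨yel, orderOf_yel, (card_centralizer yel _ cyc_Ym).trans card_centSet_Ym⟩

end Cfsg.Agent.Lib.H18.DG
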