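import Mathlib
import Cfsg.Agent.Lib.H18.DGCent

/-!
# S3670 piece M8 (helper18): an element of order `8` of `SU(3, F9)` with centralizer of order `8`
-/

set_option autoImplicit false
set_option maxRecDepth 100000

namespace Cfsg.Agent.Lib.H18.DG

open Matrix hiding SpecialLinearGroup
open Matrix (SpecialLinearGroup)
open Cfsg.Agent.Lib.H14

/-- the matrix `z = !![0,0,i; 0,i,0; 1,0,0]` -/
def Zm : Matrix (Fin 3) (Fin 3) F9 :=
  !![F9.e00, F9.e00, F9.e01; F9.e00, F9.e01, F9.e00; F9.e10, F9.e00, F9.e00]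

theorem isSU_Zm : IsSU Zm := by decide +kernel

/-- `z` as an element of `SU(3, F9)` -/
def zel : SU3 := mkSU Zm isSU_Zm

theorem card_centSet_Zm : (centSet Zm).card = 8 := by decide +kernel

theorem cyc_Zm : (Matrix.of ![![F9.e00, F9.e01, F9.e01], Zm.mulVec ![F9.e00, F9.e01, F9.e01],
    (Zm * Zm).mulVec ![F9.e00, F9.e01, F9.e01]]).det ≠ 0 := by
  rw [← det3_eq]
  decide +kernel

theorem orderOf_zel : orderOf zel = 8 := by
  have h8 : zel ^ 2 ^ (2 + 1) = 1 := by
    apply mat_injective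
    rw [mat_pow]
    show Zm ^ 8 = 1
    decide +kernel
  have h4 : ¬ zel ^ 2 ^ 2 = 1 := by
    intro h
    have h' := congrArg mat h
    rw [mat_pow] at h'
    revert h'
    show ¬ (Zm ^ 4 = 1)
    decide +kernel
  have := orderOf_eq_prime_pow h4 h8
  simpa using this

/-- **M8**. -/
theorem exists_order8 : ∃ z : ↥(Cfsg.SU 3 F9 3), orderOf z = 8 ∧
    Nat.card (Subgroup.centralizer ({z} : Set ↥(Cfsg.SU 3 F9 3))) = 8 :=
  ⟨zel, orderOf_zel, (card_centralizer zel _ cyc_Zm).trans card_centSet_Zm⟩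

end Cfsg.Agent.Lib.H18.DG
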