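import Mathlib

set_option autoImplicit false

/-!
Helper library (helper18): the subgroup generated by the derangements of a finite transitive
permutation group (Burnside-counting argument).
-/

namespace Cfsg.Agent.Lib.H18

open MulAction

/-- Burnside's lemma stated with `Nat.card`. -/
theorem burnside_natcard (H X : Type*) [Group H] [Finite H] [MulAction H X] [Finite X]
    [Fintype H] :
    ∑ h : H, Nat.card (fixedBy X h) = Nat.card (orbitRel.Quotient H X) * Nat.card H := by
  classical
  have := Fintype.ofFinite X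
  have : Fintype (orbitRel.Quotient H X) := Fintype.ofFinite _
  have h := MulAction.sum_card_fixedBy_eq_card_orbits_mul_card_group H X
  simp only [Nat.card_eq_fintype_card]
  convert h using 2

/-- The subgroup generated by the derangements. -/
def derSub (G Ω : Type*) [Group G] [MulAction G Ω] : Subgroup G :=
  Subgroup.closure {g : G | ∀ ω : Ω, g • ω ≠ ω}

theorem derSub_def (G Ω : Type*) [Group G] [MulAction G Ω] :
    derSub G Ω = Subgroup.closure {g : G | ∀ ω : Ω, g • ω ≠ ω} := rfl

theorem derSub_normal (G Ω : Type*) [Group G] [MulAction G Ω] : (derSub G Ω).Normal := by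
  have h : derSub G Ω = Subgroup.normalClosure {g : G | ∀ ω : Ω, g • ω ≠ ω} := by
    apply le_antisymm Subgroup.closure_le_normalClosure
    rw [Subgroup.normalClosure]
    apply Subgroup.closure_mono
    intro y hy
    rw [Group.mem_conjugatesOfSet_iff] at hy
    obtain ⟨g, hg, hc⟩ := hy
    obtain ⟨x, hx⟩ := isConj_iff.mp hc
    intro ω h
    apply hg (x⁻¹ • ω)
    rw [← hx] at h
    have : x • (g • (x⁻¹ • ω)) = ω := by
      simpa [mul_smul] using h
    calc g • x⁻¹ • ω = x⁻¹ • (x • (g • (x⁻¹ • ω))) := by simp
      _ = x⁻¹ • ω := by rw [this]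
  rw [h]; exact Subgroup.normalClosure_normal

theorem one_le_card_fixedBy_of_not_mem {G Ω : Type*} [Group G] [MulAction G Ω] [Finite Ω]
    (g : G) (hg : g ∉ derSub G Ω) : 1 ≤ Nat.card (fixedBy Ω g) := by
  have : ¬ ∀ ω : Ω, g • ω ≠ ω := fun h => hg (Subgroup.subset_closure h)
  push Not at this
  obtain ⟨ω, hω⟩ := this
  have : Nonempty (fixedBy Ω g) := ⟨⟨ω, hω⟩⟩
  exact Nat.one_le_iff_ne_zero.mpr (Nat.card_ne_zero.mpr ⟨this, inferInstance⟩)

/-- Main counting statement. For a finite group acting transitively on a nonempty finite set,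
the subgroup `D` generated by derangements has exactly one orbit and each element outside `D`
has exactly one fixed point. -/
theorem derSub_main {G Ω : Type*} [Group G] [Finite G] [MulAction G Ω] [Finite Ω] [Nonempty Ω]
    (htrans : IsPretransitive G Ω) :
    Nat.card (orbitRel.Quotient (derSub G Ω) Ω) = 1 ∧
      ∀ g : G, g ∉ derSub G Ω → Nat.card (fixedBy Ω g) = 1 := by
  classical
  have := Fintype.ofFinite G
  set D := derSub G Ω with hD
  let f : G → ℕ := fun g => Nat.card (fixedBy Ω g)
  -- Burnside for G
  have hG : ∑ g : G, f g = Nat.card G := by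
    have h := burnside_natcard G Ω
    have h1 : Nat.card (orbitRel.Quotient G Ω) = 1 := by
      have : Subsingleton (orbitRel.Quotient G Ω) :=
        (MulAction.pretransitive_iff_subsingleton_quotient G Ω).mp htrans
      have : Nonempty (orbitRel.Quotient G Ω) := ⟨Quotient.mk'' (Classical.arbitrary Ω)⟩
      exact Nat.card_eq_one_iff_unique.mpr ⟨inferInstance, inferInstance⟩
    rw [h1, one_mul] at h
    exact h
  -- Burnside for D
  have hDsum : ∑ d : D, f (d : G) = Nat.card (orbitRel.Quotient D Ω) * Nat.card D := by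
    have h := burnside_natcard D Ω
    exact h
  have hk : 1 ≤ Nat.card (orbitRel.Quotient D Ω) := by
    have : Nonempty (orbitRel.Quotient D Ω) := ⟨Quotient.mk'' (Classical.arbitrary Ω)⟩
    exact Nat.one_le_iff_ne_zero.mpr (Nat.card_ne_zero.mpr ⟨inferInstance, inferInstance⟩)
  -- split the sum over G
  have hsplit : ∑ g ∈ Finset.univ.filter (fun g : G => g ∈ D), f g
      + ∑ g ∈ Finset.univ.filter (fun g : G => ¬ g ∈ D), f g = ∑ g : G, f g :=
    Finset.sum_filter_add_sum_filter_not Finset.univ (fun g : G => g ∈ D) f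
  have hin : ∑ g ∈ Finset.univ.filter (fun g : G => g ∈ D), f g = ∑ d : D, f (d : G) := by
    apply Finset.sum_subtype
    intro x; simp
  have hcardsplit : (Finset.univ.filter (fun g : G => g ∈ D)).card
      + (Finset.univ.filter (fun g : G => ¬ g ∈ D)).card = Nat.card G := by
    rw [Finset.card_filter_add_card_filter_not, Finset.card_univ, Nat.card_eq_fintype_card]
  have hcardD : (Finset.univ.filter (fun g : G => g ∈ D)).card = Nat.card D := by
    rw [Nat.card_eq_fintype_card, Fintype.card_subtype]
  have hout : (Finset.univ.filter (fun g : G => ¬ g ∈ D)).card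
      ≤ ∑ g ∈ Finset.univ.filter (fun g : G => ¬ g ∈ D), f g := by
    rw [Finset.card_eq_sum_ones]
    apply Finset.sum_le_sum
    intro g hg
    rw [Finset.mem_filter] at hg
    exact one_le_card_fixedBy_of_not_mem g hg.2
  have hDpos : 0 < Nat.card D := Nat.card_pos
  set k := Nat.card (orbitRel.Quotient D Ω) with hk_def
  set a := (Finset.univ.filter (fun g : G => ¬ g ∈ D)).card with ha_def
  set S := ∑ g ∈ Finset.univ.filter (fun g : G => ¬ g ∈ D), f g with hS_def
  have e1 : k * Nat.card D + S = Nat.card D + a := by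
    rw [← hDsum, ← hin, hsplit, hG, ← hcardD, hcardsplit]
  have hkD : Nat.card D ≤ k * Nat.card D := Nat.le_mul_of_pos_left _ hk
  have hk1 : k = 1 := by
    have : k * Nat.card D ≤ Nat.card D := by omega
    have h2 : k * Nat.card D ≤ 1 * Nat.card D := by simpa using this
    have := Nat.le_of_mul_le_mul_right h2 hDpos
    omega
  have hSa : S = a := by
    rw [hk1, one_mul] at e1; omega
  refine ⟨hk1, ?_⟩
  -- each term is exactly one
  have hall : ∀ g ∈ Finset.univ.filter (fun g : G => ¬ g ∈ D), (1 : ℕ) = f g := by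
    have hle : ∀ g ∈ Finset.univ.filter (fun g : G => ¬ g ∈ D), (1 : ℕ) ≤ f g := by
      intro g hg
      rw [Finset.mem_filter] at hg
      exact one_le_card_fixedBy_of_not_mem g hg.2
    have hsum : ∑ g ∈ Finset.univ.filter (fun g : G => ¬ g ∈ D), (1 : ℕ)
        = ∑ g ∈ Finset.univ.filter (fun g : G => ¬ g ∈ D), f g := by
      rw [← Finset.card_eq_sum_ones, ← ha_def, ← hS_def, hSa]
    exact (Finset.sum_eq_sum_iff_of_le hle).mp hsum
  intro g hg
  exact (hall g (by simp [hg])).symm

theorem derSub_pretransitive {G Ω : Type*} [Group G] [Finite G] [MulAction G Ω] [Finite Ω]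
    (htrans : IsPretransitive G Ω) : IsPretransitive (derSub G Ω) Ω := by
  rcases isEmpty_or_nonempty Ω with h | h
  · exact ⟨fun x => (IsEmpty.false x).elim⟩
  · have h1 := (derSub_main htrans).1
    rw [MulAction.pretransitive_iff_subsingleton_quotient]
    exact (Nat.card_eq_one_iff_unique.mp h1).1

theorem card_fixedBy_eq_one_of_not_mem {G Ω : Type*} [Group G] [Finite G] [MulAction G Ω]
    [Finite Ω] (htrans : IsPretransitive G Ω) (g : G) (hg : g ∉ derSub G Ω) :
    Nat.card (fixedBy Ω g) = 1 := by
  rcases isEmpty_or_nonempty Ω with h | h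
  · exfalso
    apply hg
    apply Subgroup.subset_closure
    intro ω; exact (IsEmpty.false ω).elim
  · exact (derSub_main htrans).2 g hg

end Cfsg.Agent.Lib.H18
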