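import Mathlib
import Cfsg.Agent.Lib.H18.Derangements

set_option autoImplicit false

/-!
Helper library (helper18): transitive groups in which all derangements are involutions:
every element with a fixed point fixes exactly one point or all points.
-/

namespace Cfsg.Agent.Lib.H18

open MulAction

/-- Double counting: if all derangements square to one, `|D| * n ≤ ∑_g π(g)(π(g)-1)`. -/
theorem der_card_mul_le {G Ω : Type*} [Group G] [Fintype G] [MulAction G Ω] [Fintype Ω]
    [DecidableEq Ω] [DecidableEq G]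
    (hinv : ∀ g : G, (∀ ω : Ω, g • ω ≠ ω) → g * g = 1) :
    (Finset.univ.filter (fun g : G => ∀ ω : Ω, g • ω ≠ ω)).card * Fintype.card Ω ≤
      ∑ g : G, ((Finset.univ.filter (fun ω : Ω => g • ω = ω)).card *
        (Finset.univ.filter (fun ω : Ω => g • ω = ω)).card -
        (Finset.univ.filter (fun ω : Ω => g • ω = ω)).card) := by
  classical
  set D : Finset G := Finset.univ.filter (fun g : G => ∀ ω : Ω, g • ω ≠ ω) with hD
  set P : Finset (Ω × Ω) := (Finset.univ : Finset Ω).offDiag with hP
  -- left side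
  have hL : ∑ x ∈ P, (D.filter (fun t => t • x.1 = x.2)).card = D.card * Fintype.card Ω := by
    have h1 := Finset.sum_card_bipartiteAbove_eq_sum_card_bipartiteBelow (s := P) (t := D)
      (fun (x : Ω × Ω) (t : G) => t • x.1 = x.2)
    simp only [Finset.bipartiteAbove, Finset.bipartiteBelow] at h1
    rw [h1]
    have h2 : ∀ t ∈ D, (P.filter (fun x : Ω × Ω => t • x.1 = x.2)).card = Fintype.card Ω := by
      intro t ht
      have htD : ∀ ω : Ω, t • ω ≠ ω := (Finset.mem_filter.mp ht).2
      have : P.filter (fun x : Ω × Ω => t • x.1 = x.2) =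
          (Finset.univ : Finset Ω).image (fun ω => (ω, t • ω)) := by
        ext ⟨ω, ω'⟩
        simp only [Finset.mem_filter, Finset.mem_image, Finset.mem_univ, true_and, hP,
          Finset.mem_offDiag, Prod.mk.injEq]
        constructor
        · rintro ⟨_, h⟩
          exact ⟨ω, rfl, h⟩
        · rintro ⟨ω₀, rfl, rfl⟩
          exact ⟨(htD ω₀).symm, rfl⟩
      rw [this, Finset.card_image_of_injective]
      · rfl
      · intro ω₁ ω₂ h
        exact (Prod.mk.inj h).1
    rw [Finset.sum_congr rfl h2, Finset.sum_const, smul_eq_mul]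
  -- right side
  have hR : ∑ x ∈ P, (Finset.univ.filter (fun g : G => g • x.1 = x.1 ∧ g • x.2 = x.2)).card =
      ∑ g : G, ((Finset.univ.filter (fun ω : Ω => g • ω = ω)).card *
        (Finset.univ.filter (fun ω : Ω => g • ω = ω)).card -
        (Finset.univ.filter (fun ω : Ω => g • ω = ω)).card) := by
    have h1 := Finset.sum_card_bipartiteAbove_eq_sum_card_bipartiteBelow (s := P)
      (t := (Finset.univ : Finset G))
      (fun (x : Ω × Ω) (g : G) => g • x.1 = x.1 ∧ g • x.2 = x.2)
    simp only [Finset.bipartiteAbove, Finset.bipartiteBelow] at h1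
    rw [h1]
    apply Finset.sum_congr rfl
    intro g _
    rw [← Finset.offDiag_card]
    congr 1
    ext ⟨ω, ω'⟩
    simp only [Finset.mem_filter, Finset.mem_univ, true_and, hP, Finset.mem_offDiag]
    tauto
  rw [← hL, ← hR]
  apply Finset.sum_le_sum
  intro x hx
  have hne : x.1 ≠ x.2 := by
    rw [hP, Finset.mem_offDiag] at hx
    exact hx.2.2
  by_cases hemp : (D.filter (fun t => t • x.1 = x.2)) = ∅
  · rw [hemp]; simp
  · obtain ⟨t₀, ht₀⟩ := Finset.nonempty_iff_ne_empty.mpr hemp
    rw [Finset.mem_filter] at ht₀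
    have ht₀D : ∀ ω : Ω, t₀ • ω ≠ ω := (Finset.mem_filter.mp ht₀.1).2
    have ht₀2 : t₀ * t₀ = 1 := hinv t₀ ht₀D
    have ht₀' : t₀ • x.2 = x.1 := by
      rw [← ht₀.2, ← mul_smul, ht₀2, one_smul]
    apply Finset.card_le_card_of_injOn (fun t => t₀ * t)
    · intro t ht
      rw [Finset.mem_coe, Finset.mem_filter] at ht
      have htD : ∀ ω : Ω, t • ω ≠ ω := (Finset.mem_filter.mp ht.1).2
      have ht2 : t * t = 1 := hinv t htD
      have ht' : t • x.2 = x.1 := by
        rw [← ht.2, ← mul_smul, ht2, one_smul]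
      rw [Finset.mem_coe, Finset.mem_filter]
      refine ⟨Finset.mem_univ _, ?_, ?_⟩
      · rw [mul_smul, ht.2, ht₀']
      · rw [mul_smul, ht', ht₀.2]
    · intro t _ t' _ h
      exact mul_left_cancel h

/-- If `G` is transitive on the finite nonempty set `Ω` and all derangements square to one,
then every element with a fixed point has exactly one fixed point or fixes everything. -/
theorem fixed_unique_or_all_of_der_involutions {G Ω : Type*} [Group G] [Finite G] [MulAction G Ω]
    [Finite Ω] [Nonempty Ω] (htrans : IsPretransitive G Ω)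
    (hinv : ∀ g : G, (∀ ω : Ω, g • ω ≠ ω) → g * g = 1) (g₀ : G) (hg₀ : ∃ ω : Ω, g₀ • ω = ω) :
    (∀ ω ω' : Ω, g₀ • ω = ω → g₀ • ω' = ω' → ω = ω') ∨ (∀ ω : Ω, g₀ • ω = ω) := by
  classical
  have := Fintype.ofFinite G
  have := Fintype.ofFinite Ω
  set D : Finset G := Finset.univ.filter (fun g : G => ∀ ω : Ω, g • ω ≠ ω) with hD
  let p : G → ℕ := fun g => (Finset.univ.filter (fun ω : Ω => g • ω = ω)).card
  set n := Fintype.card Ω with hn
  have hcount : D.card * n ≤ ∑ g : G, (p g * p g - p g) := der_card_mul_le hinv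
  -- Burnside
  have hB : ∑ g : G, p g = Fintype.card G := by
    have h := burnside_natcard G Ω
    have h1 : Nat.card (orbitRel.Quotient G Ω) = 1 := by
      have : Subsingleton (orbitRel.Quotient G Ω) :=
        (MulAction.pretransitive_iff_subsingleton_quotient G Ω).mp htrans
      have : Nonempty (orbitRel.Quotient G Ω) := ⟨Quotient.mk'' (Classical.arbitrary Ω)⟩
      exact Nat.card_eq_one_iff_unique.mpr ⟨inferInstance, inferInstance⟩
    rw [h1, one_mul, Nat.card_eq_fintype_card] at h
    rw [← h]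
    apply Finset.sum_congr rfl
    intro g _
    show (Finset.univ.filter (fun ω : Ω => g • ω = ω)).card = Nat.card (fixedBy Ω g)
    rw [Nat.card_eq_fintype_card, Fintype.card_subtype]
    rfl
  have hple : ∀ g : G, p g ≤ n := fun g => Finset.card_le_univ _
  have hpD : ∀ g : G, g ∈ D → p g = 0 := by
    intro g hg
    have hgD : ∀ ω : Ω, g • ω ≠ ω := (Finset.mem_filter.mp hg).2
    show (Finset.univ.filter (fun ω : Ω => g • ω = ω)).card = 0
    rw [Finset.card_eq_zero, Finset.filter_eq_empty_iff]
    intro ω _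
    exact hgD ω
  have hpnD : ∀ g : G, g ∉ D → 1 ≤ p g := by
    intro g hg
    have : ¬ ∀ ω : Ω, g • ω ≠ ω := fun h => hg (Finset.mem_filter.mpr ⟨Finset.mem_univ _, h⟩)
    push Not at this
    obtain ⟨ω, hω⟩ := this
    show 1 ≤ (Finset.univ.filter (fun ω : Ω => g • ω = ω)).card
    exact Finset.card_pos.mpr ⟨ω, Finset.mem_filter.mpr ⟨Finset.mem_univ _, hω⟩⟩
  -- the integer-valued terms
  let T : G → ℤ := fun g => ((p g : ℤ) - 1) * ((n : ℤ) - p g) + (if g ∈ D then (n : ℤ) else 0)
  have hT0 : ∀ g ∈ (Finset.univ : Finset G), 0 ≤ T g := by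
    intro g _
    by_cases hg : g ∈ D
    · simp only [T, if_pos hg, hpD g hg]
      simp
    · simp only [T, if_neg hg, add_zero]
      have h1 : (1 : ℤ) ≤ p g := by exact_mod_cast hpnD g hg
      have h2 : (p g : ℤ) ≤ n := by exact_mod_cast hple g
      exact mul_nonneg (by linarith) (by linarith)
  have hTsum : ∑ g : G, T g ≤ 0 := by
    have e1 : ∑ g : G, T g = (n : ℤ) * ∑ g : G, (p g : ℤ) - (n : ℤ) * Fintype.card G
        - ∑ g : G, (((p g * p g - p g : ℕ)) : ℤ) + (D.card : ℤ) * n := by
      have : ∀ g : G, T g = (n : ℤ) * (p g : ℤ) - (n : ℤ) - (((p g * p g - p g : ℕ)) : ℤ)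
          + (if g ∈ D then (n : ℤ) else 0) := by
        intro g
        simp only [T]
        rw [Nat.cast_sub (Nat.le_mul_self (p g))]
        push_cast
        ring
      rw [Finset.sum_congr rfl (fun g _ => this g)]
      rw [Finset.sum_add_distrib, Finset.sum_sub_distrib, Finset.sum_sub_distrib,
        ← Finset.mul_sum, Finset.sum_const, Finset.card_univ, Finset.sum_ite_mem,
        Finset.univ_inter, Finset.sum_const]
      simp only [nsmul_eq_mul]
      ring
    rw [e1]
    have e2 : ∑ g : G, (p g : ℤ) = (Fintype.card G : ℤ) := by exact_mod_cast hB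
    rw [e2]
    have e3 : ((D.card * n : ℕ) : ℤ) ≤ ((∑ g : G, (p g * p g - p g) : ℕ) : ℤ) := by
      exact_mod_cast hcount
    push_cast at e3
    linarith
  have hTzero := (Finset.sum_eq_zero_iff_of_nonneg hT0).mp (le_antisymm hTsum
    (Finset.sum_nonneg hT0)) g₀ (Finset.mem_univ _)
  have hg₀D : g₀ ∉ D := by
    intro h
    obtain ⟨ω, hω⟩ := hg₀
    exact (Finset.mem_filter.mp h).2 ω hω
  simp only [T, if_neg hg₀D, add_zero] at hTzero
  rcases mul_eq_zero.mp hTzero with h | h
  · left
    have h1 : p g₀ = 1 := by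
      have : (p g₀ : ℤ) = 1 := by linarith
      exact_mod_cast this
    intro ω ω' hω hω'
    have := Finset.card_le_one.mp (le_of_eq h1) ω
      (Finset.mem_filter.mpr ⟨Finset.mem_univ _, hω⟩) ω'
      (Finset.mem_filter.mpr ⟨Finset.mem_univ _, hω'⟩)
    exact this
  · right
    have h1 : p g₀ = n := by
      have : (p g₀ : ℤ) = n := by linarith
      exact_mod_cast this
    intro ω
    have : Finset.univ.filter (fun ω : Ω => g₀ • ω = ω) = Finset.univ := by
      apply Finset.eq_univ_of_card
      exact h1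
    have hmem : ω ∈ Finset.univ.filter (fun ω : Ω => g₀ • ω = ω) := by
      rw [this]; exact Finset.mem_univ _
    exact (Finset.mem_filter.mp hmem).2

end Cfsg.Agent.Lib.H18
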