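import Mathlib
import Cfsg.Agent.Lib.H18.AltInvol
import Cfsg.Agent.Lib.H18.AltStem3

/-!
# A double cover of `A_n` (`4 ≤ n ≤ 7`) with a non-central involution splits (helper18)
-/

set_option autoImplicit false

namespace Cfsg.Agent.Lib.H18.DoubleCoverSplit

open Cfsg.Agent.Lib.H18

/-- Carmichael's bound for the subgroup generated by elements satisfying the relations. -/
theorem card_closure_bound {G : Type*} [Group G] (m : ℕ) (b : ℕ → G) (hrel : Car3.Rel b m) :
    Finite (Subgroup.closure {g : G | ∃ j, j < m ∧ g = b j}) ∧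
      2 * Nat.card (Subgroup.closure {g : G | ∃ j, j < m ∧ g = b j}) ≤ (m + 2).factorial := by
  set S : Set G := {g | ∃ j, j < m ∧ g = b j} with hS
  set H : Subgroup G := Subgroup.closure S with hHdef
  have hmem : ∀ j, j < m → b j ∈ H := fun j hj => Subgroup.subset_closure ⟨j, hj, rfl⟩
  let a' : ℕ → H := fun j => if hj : j < m then ⟨b j, hmem j hj⟩ else 1
  have ha' : ∀ j (hj : j < m), a' j = ⟨b j, hmem j hj⟩ := fun j hj => by
    simp only [a', dif_pos hj]
  have hrel' : Car3.Rel a' m := by
    constructor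
    · intro i hi
      rw [ha' i hi]
      exact Subtype.ext (hrel.cube i hi)
    · intro i j hi hj hij
      rw [ha' i hi, ha' j hj]
      exact Subtype.ext (hrel.sq i j hi hj hij)
  have hgen' : Subgroup.closure {g : H | ∃ j, j < m ∧ g = a' j} = ⊤ := by
    have h1 := Subgroup.closure_closure_coe_preimage (k := S)
    have h2 : ((↑) : Subgroup.closure S → G) ⁻¹' S = {g : H | ∃ j, j < m ∧ g = a' j} := by
      ext g
      simp only [Set.mem_preimage, Set.mem_setOf_eq, hS]
      constructor
      · rintro ⟨j, hj, e⟩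
        exact ⟨j, hj, by rw [ha' j hj]; exact Subtype.ext e⟩
      · rintro ⟨j, hj, e⟩
        refine ⟨j, hj, ?_⟩
        rw [e, ha' j hj]
    rw [← h2]
    exact h1
  exact Car3.card_bound m a' hrel' hgen'

variable {m : ℕ} {H : Type*} [Group H] [Finite H]

/-- **Splitting.** -/
theorem exists_complement (hm5 : m ≤ 5)
    (σ : H →* alternatingGroup (Fin (m + 2))) (hσ : Function.Surjective σ)
    (z : H) (hzc : ∀ g : H, g * z = z * g) (hz2 : z * z = 1) (hσz : σ z = 1)
    (hker : ∀ h : H, σ h = 1 → h = 1 ∨ h = z)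
    (x : H) (hx2 : x * x = 1) (hx : σ x ≠ 1) :
    ∃ L : Subgroup H, σ.ker.IsComplement' L := by
  have h01 : (0 : Fin (m + 2)) ≠ 1 := AltStem.zero_ne_one'
  -- lifts of order 3
  have hlift : ∀ j : ℕ, ∃ w : H, (∀ hj : j < m, σ w = AltStem.VG h01 (AltStem.pt j hj)) ∧
      w * w * w = 1 := by
    intro j
    by_cases hj : j < m
    · obtain ⟨g, hg⟩ := hσ (AltStem.VG h01 (AltStem.pt j hj))
      have hg3 : σ (g ^ 3) = 1 := by rw [map_pow, hg, AltStem.VG_pow]
      refine ⟨g ^ 4, fun _ => ?_, ?_⟩
      · rw [map_pow, hg, pow_succ, AltStem.VG_pow, one_mul]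
      · have e : g ^ 4 * g ^ 4 * g ^ 4 = (g ^ 3) ^ 4 := by group
        rw [e]
        rcases hker _ hg3 with h | h
        · rw [h, one_pow]
        · rw [h]
          calc z ^ 4 = (z * z) * (z * z) := by
                rw [show (4 : ℕ) = 2 + 2 from rfl, pow_add, pow_two]
            _ = 1 := by rw [hz2, one_mul]
    · exact ⟨1, fun hj' => absurd hj' hj, by group⟩
  choose W hWσ hW3 using hlift
  have hsq : ∀ i j, i < m → j < m → i ≠ j → W i * W j * (W i * W j) = 1 := by
    intro i j hi hj hij
    have hne : AltStem.pt i hi ≠ AltStem.pt j hj := by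
      intro h
      have := congrArg Fin.val h
      simp only [AltStem.pt] at this
      omega
    set t : alternatingGroup (Fin (m + 2)) :=
      AltStem.VG h01 (AltStem.pt i hi) * AltStem.VG h01 (AltStem.pt j hj) with ht
    have ht2 : t ^ 2 = 1 := AltStem.VG_mul_sq h01 (AltStem.pt_ne_zero i hi)
      (AltStem.pt_ne_one i hi) (AltStem.pt_ne_zero j hj) (AltStem.pt_ne_one j hj) hne
    have hσW : σ (W i * W j) = t := by rw [map_mul, hWσ i hi, hWσ j hj]
    have key : ∀ y : H, y * y = 1 → σ y = t → W i * W j * (W i * W j) = 1 := by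
      intro y hy2 hyt
      have h1 : σ (y⁻¹ * (W i * W j)) = 1 := by
        rw [map_mul, map_inv, hyt, hσW, inv_mul_cancel]
      rcases hker _ h1 with h | h
      · have : W i * W j = y := by
          have := congrArg (fun u => y * u) h
          simpa using this
        rw [this, hy2]
      · have : W i * W j = y * z := by
          have := congrArg (fun u => y * u) h
          simpa using this
        rw [this]
        calc y * z * (y * z) = y * (z * y) * z := by group
          _ = y * (y * z) * z := by rw [hzc y]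
          _ = (y * y) * (z * z) := by group
          _ = 1 := by rw [hy2, hz2, one_mul]
    by_cases ht1 : t = 1
    · exact key 1 (one_mul 1) (by rw [map_one, ht1])
    · have hs2 : (σ x) ^ 2 = 1 := by rw [← map_pow, pow_two, hx2, map_one]
      obtain ⟨g, hg⟩ := AltInvol.isConj_invol (by rw [Fintype.card_fin]; omega) hs2 hx ht2 ht1
      obtain ⟨g', rfl⟩ := hσ g
      refine key (g' * x * g'⁻¹) ?_ ?_
      · calc g' * x * g'⁻¹ * (g' * x * g'⁻¹) = g' * (x * x) * g'⁻¹ := by group
          _ = 1 := by rw [hx2]; group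
      · rw [map_mul, map_mul, map_inv]
        exact hg
  have hrel : Car3.Rel W m := ⟨fun i _ => hW3 i, hsq⟩
  set L : Subgroup H := Subgroup.closure {g : H | ∃ j, j < m ∧ g = W j} with hL
  obtain ⟨_, hcard⟩ := card_closure_bound m W hrel
  rw [← hL] at hcard
  -- `σ` maps `L` onto the alternating group
  have hmap : L.map σ = ⊤ := by
    rw [hL, MonoidHom.map_closure, ← AltStem.closure_VG h01]
    congr 1
    ext y
    constructor
    · rintro ⟨w, ⟨j, hj, rfl⟩, rfl⟩
      exact ⟨AltStem.pt j hj, AltStem.pt_ne_zero j hj, AltStem.pt_ne_one j hj, hWσ j hj⟩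
    · rintro ⟨i, hi0, hi1, rfl⟩
      obtain ⟨j, hj, rfl⟩ := AltStem.exists_pt i hi0 hi1
      exact ⟨W j, ⟨j, hj, rfl⟩, hWσ j hj⟩
  haveI : Nontrivial (Fin (m + 2)) := ⟨⟨0, 1, h01⟩⟩
  have hA := two_mul_nat_card_alternatingGroup (α := Fin (m + 2))
  rw [Nat.card_perm, Nat.card_fin] at hA
  -- the restriction of `σ` to `L` is surjective, hence bijective
  have hsurj : Function.Surjective (σ.comp L.subtype) := by
    intro y
    have : y ∈ L.map σ := by rw [hmap]; trivial
    obtain ⟨w, hw, rfl⟩ := this
    exact ⟨⟨w, hw⟩, rfl⟩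
  have hbij : Function.Bijective (σ.comp L.subtype) := by
    apply hsurj.bijective_of_nat_card_le
    omega
  have hLcard : Nat.card L = Nat.card (alternatingGroup (Fin (m + 2))) :=
    Nat.card_congr (Equiv.ofBijective _ hbij)
  have hHcard : Nat.card H = Nat.card σ.ker * Nat.card (alternatingGroup (Fin (m + 2))) := by
    rw [Subgroup.card_eq_card_quotient_mul_card_subgroup σ.ker,
      Nat.card_congr (QuotientGroup.quotientKerEquivOfSurjective σ hσ).toEquiv, mul_comm]
  refine ⟨L, Subgroup.isComplement'_of_card_mul_and_disjoint ?_ ?_⟩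
  · rw [hLcard, hHcard]
  · rw [Subgroup.disjoint_def]
    intro y hyk hyL
    have h1 : (σ.comp L.subtype) ⟨y, hyL⟩ = (σ.comp L.subtype) 1 := by
      rw [map_one]
      exact hyk
    have := hbij.1 h1
    exact congrArg Subtype.val this

end Cfsg.Agent.Lib.H18.DoubleCoverSplit
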