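import Mathlib
import Cfsg.Prelude.Def_SporadicB
import Cfsg.Agent.Lib.H18.DoubleCoverSplit

/-!
# Non-split double covers of `A_n`, `n ≤ 7`, have a unique involution (helper18)
-/

set_option autoImplicit false

namespace Cfsg.Agent.Lib.H18.DoubleCoverInvol

open Cfsg.Agent.Lib.H18

theorem isCyclic_alt_small (n : ℕ) (hn : n ≤ 3) : IsCyclic (alternatingGroup (Fin n)) := by
  by_cases h2 : 2 ≤ n
  · haveI : Nontrivial (Fin n) := Fin.nontrivial_iff_two_le.mpr h2
    have hA := two_mul_nat_card_alternatingGroup (α := Fin n)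
    rw [Nat.card_perm, Nat.card_fin] at hA
    have hn' : n = 2 ∨ n = 3 := by omega
    rcases hn' with rfl | rfl
    · have : Nat.card (alternatingGroup (Fin 2)) = 1 := by
        have : (2 : ℕ).factorial = 2 := by decide
        omega
      haveI : Subsingleton (alternatingGroup (Fin 2)) := (Nat.card_eq_one_iff_unique.mp this).1
      exact isCyclic_of_subsingleton
    · have hc3 : Nat.card (alternatingGroup (Fin 3)) = 3 := by
        have : (3 : ℕ).factorial = 6 := by decide
        omega
      haveI : Fact (Nat.Prime 3) := ⟨Nat.prime_three⟩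
      exact isCyclic_of_prime_card hc3
  · haveI : Subsingleton (Fin n) := by
      have : n ≤ 1 := by omega
      exact Fin.subsingleton_iff_le_one.mpr this
    haveI : Subsingleton (Equiv.Perm (Fin n)) := inferInstance
    haveI : Subsingleton (alternatingGroup (Fin n)) := inferInstance
    exact isCyclic_of_subsingleton

theorem invol_mem_center (n : ℕ) (H : Type*) [Group H] [Finite H] (hn : n ≤ 7)
    (hH : Cfsg.IsNonsplitDoubleCover H (alternatingGroup (Fin n))) (x : H) (hx : orderOf x = 2) :
    x ∈ Subgroup.center H := by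
  obtain ⟨hc2, ⟨e⟩, hns⟩ := hH
  set Z := Subgroup.center H with hZ
  set σ : H →* alternatingGroup (Fin n) := e.toMonoidHom.comp (QuotientGroup.mk' Z) with hσdef
  have hσsurj : Function.Surjective σ := e.surjective.comp (QuotientGroup.mk'_surjective Z)
  have hσker : σ.ker = Z := by
    ext g
    rw [MonoidHom.mem_ker, hσdef, MonoidHom.comp_apply]
    simp only [MulEquiv.toMonoidHom_eq_coe, MonoidHom.coe_coe, EmbeddingLike.map_eq_one_iff,
      QuotientGroup.mk'_apply, QuotientGroup.eq_one_iff]
  by_cases hn3 : n ≤ 3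
  · haveI := isCyclic_alt_small n hn3
    rw [Subgroup.mem_center_iff]
    intro g
    exact commutative_of_cyclic_center_quotient σ (le_of_eq hσker) g x
  · by_contra hxZ
    obtain ⟨m, rfl⟩ : ∃ m, n = m + 2 := ⟨n - 2, by omega⟩
    -- the central involution
    obtain ⟨z, hz1, hzu⟩ := (Nat.card_eq_two_iff' (1 : Z)).mp hc2
    have hz2 : (z : H) * z = 1 := by
      have h := pow_card_eq_one' (G := Z) (x := z)
      rw [hc2, pow_two] at h
      exact congrArg Subtype.val h
    have hker : ∀ h : H, σ h = 1 → h = 1 ∨ h = z := by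
      intro h hh
      have hhZ : h ∈ Z := by rw [← hσker]; exact hh
      by_cases h1 : (⟨h, hhZ⟩ : Z) = 1
      · left
        exact congrArg Subtype.val h1
      · right
        exact congrArg Subtype.val (hzu ⟨h, hhZ⟩ h1)
    have hx2 : x * x = 1 := by
      rw [← pow_two, ← hx]
      exact pow_orderOf_eq_one x
    have hσx : σ x ≠ 1 := by
      intro h
      apply hxZ
      rw [← hσker]
      exact h
    obtain ⟨L, hL⟩ := DoubleCoverSplit.exists_complement (by omega) σ hσsurj (z : H)
      (fun g => (Subgroup.mem_center_iff.mp z.2 g)) hz2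
      (by
        have : (z : H) ∈ σ.ker := by rw [hσker]; exact z.2
        exact this) hker x hx2 hσx
    rw [hσker] at hL
    exact hns L hL

theorem unique_involution (n : ℕ) (H : Type*) [Group H] [Finite H] (hn : n ≤ 7)
    (hH : Cfsg.IsNonsplitDoubleCover H (alternatingGroup (Fin n))) (x y : H)
    (hx : orderOf x = 2) (hy : orderOf y = 2) : x = y := by
  have hxZ := invol_mem_center n H hn hH x hx
  have hyZ := invol_mem_center n H hn hH y hy
  obtain ⟨hc2, -, -⟩ := hH
  obtain ⟨z, hz1, hzu⟩ := (Nat.card_eq_two_iff' (1 : Subgroup.center H)).mp hc2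
  have hx1 : (⟨x, hxZ⟩ : Subgroup.center H) ≠ 1 := by
    intro h
    have : x = 1 := congrArg Subtype.val h
    rw [this, orderOf_one] at hx
    exact absurd hx (by norm_num)
  have hy1 : (⟨y, hyZ⟩ : Subgroup.center H) ≠ 1 := by
    intro h
    have : y = 1 := congrArg Subtype.val h
    rw [this, orderOf_one] at hy
    exact absurd hy (by norm_num)
  have e1 := hzu _ hx1
  have e2 := hzu _ hy1
  have := e1.trans e2.symm
  exact congrArg Subtype.val this

end Cfsg.Agent.Lib.H18.DoubleCoverInvol
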