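import Mathlib
import Cfsg.Prelude.Def_Solvable
import Cfsg.Prelude.Def_Perm
import Cfsg.Prelude.Def_Transfer
import Cfsg.Prelude.Def_CaseTheorems
import Cfsg.Agent.S3360
import Cfsg.Agent.Lib.H22.PPrimeCore

/-!
# S4025 piece AFF (architect helper19), exact signature.

Schur–Zassenhaus complement `L` of `Q` in `X`; `X` acts on `X ⧸ L ≃ Q ≃ F`; `g = u·l` acts as
`y ↦ ε u + ε (l (ε⁻¹ y) l⁻¹)`; kernel `= core_X(L) = O_{p'}(X)`.
-/

set_option autoImplicit false

namespace Cfsg.Agent.Lib.H18.EOC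

/-- The core of a complement of a normal Sylow `p`-subgroup is `O_{p'}`. -/
theorem aff_core {X : Type*} [Group X] [Finite X] {p : ℕ} [Fact p.Prime]
    (Q : Subgroup X) [Q.Normal] (hQp : IsPGroup p Q) (hQidx : ¬ p ∣ Q.index)
    (L : Subgroup X) (hL : Subgroup.IsComplement' Q L) :
    L.normalCore = Cfsg.pPrimeCore p X := by
  classical
  have hp : p.Prime := Fact.out
  have hLcard : Nat.card L = Q.index := (hL.symm.index_eq_card).symm
  have hLcop : (Nat.card L).Coprime p := by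
    rw [hLcard]
    exact ((Nat.Prime.coprime_iff_not_dvd hp).mpr hQidx).symm
  apply le_antisymm
  · apply Cfsg.Agent.Lib.H22.le_pPrimeCore p _ inferInstance
    exact Nat.Coprime.coprime_dvd_left (Subgroup.card_dvd_of_le (Subgroup.normalCore_le L)) hLcop
  · haveI : (Cfsg.pPrimeCore p X).Normal := Cfsg.pPrimeCore_normal p X
    rw [Subgroup.normal_le_normalCore]
    set K := Cfsg.pPrimeCore p X with hK
    have hKcop : (Nat.card K).Coprime p := Cfsg.Agent.Lib.H22.card_pPrimeCore_coprime p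
    have h1 : Nat.card (L ⊔ K : Subgroup X) ∣ Nat.card L * Nat.card K :=
      Cfsg.Agent.Lib.H22.card_sup_dvd_mul L K
    have h2 : (Nat.card (L ⊔ K : Subgroup X)).Coprime p :=
      Nat.Coprime.coprime_dvd_left h1 (Nat.Coprime.mul_left hLcop hKcop)
    have h3 : Nat.card (L ⊔ K : Subgroup X) ∣ Nat.card Q * Nat.card L := by
      rw [hL.card_mul_card]
      exact Subgroup.card_subgroup_dvd_card _
    obtain ⟨k, hk⟩ := IsPGroup.iff_card.mp hQp
    have h4 : Nat.card (L ⊔ K : Subgroup X) ∣ Nat.card L := by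
      rw [mul_comm] at h3
      refine Nat.Coprime.dvd_of_dvd_mul_right ?_ h3
      rw [hk]
      exact Nat.Coprime.pow_right k h2
    have h5 : L = L ⊔ K :=
      Subgroup.eq_of_le_of_card_ge le_sup_left (Nat.le_of_dvd Nat.card_pos h4)
    rw [h5]
    exact le_sup_right

/-- **AFF** (Schur–Zassenhaus + coset action). -/
theorem aff {X : Type*} [Group X] [Finite X] {p : ℕ} [Fact p.Prime]
    (Q : Subgroup X) [Q.Normal] (hQp : IsPGroup p Q) (hQidx : ¬ p ∣ Q.index)
    (hQab : ∀ a ∈ Q, ∀ b ∈ Q, a * b = b * a)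
    {F : Type*} [Field F]
    (ε : ↥Q ≃ F) (hε : ∀ x y : ↥Q, ε (x * y) = ε x + ε y)
    (hsl : ∀ g : X, ∃ (a : F) (σ : F ≃+* F), ∀ x : ↥Q,
      ε (MulAut.conjNormal g x) = a * σ (ε x)) :
    ∃ Φ : X →* Equiv.Perm F,
      Φ.ker = Cfsg.pPrimeCore p X ∧
      (∀ g, Φ g ∈ Cfsg.semiaffineGroup F) ∧
      (∀ b : F, ∃ g, ∀ y, Φ g y = y + b) ∧
      (∀ g : X, ∃ g' : X, ∀ y, Φ g' y = ε (MulAut.conjNormal g (ε.symm y))) := by
  classical
  have hp : p.Prime := Fact.out
  -- Schur–Zassenhaus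
  have hcop : Nat.Coprime (Nat.card Q) Q.index := by
    obtain ⟨k, hk⟩ := IsPGroup.iff_card.mp hQp
    rw [hk]
    exact Nat.Coprime.pow_left k ((Nat.Prime.coprime_iff_not_dvd hp).mpr hQidx)
  obtain ⟨L, hL⟩ := Subgroup.exists_right_complement'_of_coprime hcop
  have hdec : ∀ g : X, ∃ u ∈ Q, ∃ l ∈ L, g = u * l := by
    intro g
    obtain ⟨⟨u, l⟩, h⟩ := hL.2 g
    exact ⟨u.1, u.2, l.1, l.2, h.symm⟩
  have hdisj : ∀ x : X, x ∈ Q → x ∈ L → x = 1 := by
    intro x hxQ hxL
    have := hL.disjoint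
    rw [Subgroup.disjoint_def] at this
    exact this hxQ hxL
  -- the bijection `Q ≃ X ⧸ L`
  let f : ↥Q → X ⧸ L := fun q => QuotientGroup.mk (q : X)
  have hf : Function.Bijective f := by
    constructor
    · intro q₁ q₂ h
      have h' : ((q₁ : X)⁻¹ * (q₂ : X)) ∈ L := QuotientGroup.eq.mp h
      have h'' : ((q₁ : X)⁻¹ * (q₂ : X)) ∈ Q := Q.mul_mem (Q.inv_mem q₁.2) q₂.2
      have := hdisj _ h'' h'
      ext
      exact (inv_mul_eq_one.mp this)
    · intro y
      obtain ⟨g, rfl⟩ := QuotientGroup.mk_surjective y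
      obtain ⟨u, hu, l, hl, rfl⟩ := hdec g
      refine ⟨⟨u, hu⟩, ?_⟩
      change (QuotientGroup.mk u : X ⧸ L) = QuotientGroup.mk (u * l)
      rw [QuotientGroup.eq]
      simpa using hl
  let e0 : ↥Q ≃ X ⧸ L := Equiv.ofBijective f hf
  let e : X ⧸ L ≃ F := e0.symm.trans ε
  let Φ : X →* Equiv.Perm F :=
    (e.permCongrHom.toMonoidHom).comp (MulAction.toPermHom X (X ⧸ L))
  have hΦdef : ∀ (g : X) (y : F), Φ g y = e (g • e.symm y) := by
    intro g y
    rfl
  have hΦ : ∀ (u : X) (hu : u ∈ Q) (l : X) (_ : l ∈ L) (q : ↥Q),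
      Φ (u * l) (ε q) = ε (⟨u, hu⟩ * MulAut.conjNormal l q) := by
    intro u hu l hl q
    rw [hΦdef]
    have h1 : e.symm (ε q) = (QuotientGroup.mk (q : X) : X ⧸ L) := by
      change e0 (ε.symm (ε q)) = _
      rw [Equiv.symm_apply_apply]
      rfl
    rw [h1]
    change ε (e0.symm ((u * l) • (QuotientGroup.mk (q : X) : X ⧸ L))) = _
    congr 1
    rw [Equiv.symm_apply_eq]
    change ((u * l) • (QuotientGroup.mk (q : X) : X ⧸ L)) =
      QuotientGroup.mk (((⟨u, hu⟩ * MulAut.conjNormal l q : ↥Q) : X))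
    rw [MulAction.Quotient.smul_mk, QuotientGroup.eq]
    rw [Subgroup.coe_mul, MulAut.conjNormal_apply]
    simp only [smul_eq_mul]
    have : (u * l * (q : X))⁻¹ * (u * (l * (q : X) * l⁻¹)) = l⁻¹ := by group
    rw [this]
    exact L.inv_mem hl
  have hconjQ : ∀ (u : X) (_ : u ∈ Q) (z : ↥Q), MulAut.conjNormal u z = z := by
    intro u hu z
    ext
    rw [MulAut.conjNormal_apply, hQab u hu z z.2, mul_inv_cancel_right]
  refine ⟨Φ, ?_, ?_, ?_, ?_⟩
  · -- kernel
    have hker : Φ.ker = L.normalCore := by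
      rw [Subgroup.normalCore_eq_ker]
      ext g
      rw [MonoidHom.mem_ker, MonoidHom.mem_ker]
      change e.permCongrHom (MulAction.toPermHom X (X ⧸ L) g) = 1 ↔ _
      exact map_eq_one_iff _ e.permCongrHom.injective
    rw [hker]
    exact aff_core Q hQp hQidx L hL
  · -- semiaffine
    intro g
    obtain ⟨u, hu, l, hl, rfl⟩ := hdec g
    obtain ⟨a, σ, haσ⟩ := hsl l
    have ha : a ≠ 0 := by
      intro ha0
      have := haσ ((MulAut.conjNormal l).symm (ε.symm 1))
      rw [MulEquiv.apply_symm_apply, Equiv.apply_symm_apply, ha0, zero_mul] at this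
      exact one_ne_zero this
    refine ⟨Units.mk0 a ha, ε ⟨u, hu⟩, σ, fun y => ?_⟩
    have := hΦ u hu l hl (ε.symm y)
    rw [Equiv.apply_symm_apply] at this
    rw [this, hε, haσ, Equiv.apply_symm_apply, Units.val_mk0, add_comm]
  · -- translations
    intro b
    refine ⟨((ε.symm b : ↥Q) : X), fun y => ?_⟩
    have := hΦ ((ε.symm b : ↥Q) : X) (ε.symm b).2 1 L.one_mem (ε.symm y)
    rw [Equiv.apply_symm_apply, mul_one] at this
    rw [this, hε, map_one, MulAut.one_apply, Equiv.apply_symm_apply, add_comm]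
    simp
  · -- linear parts
    intro g
    obtain ⟨u, hu, l, hl, rfl⟩ := hdec g
    refine ⟨l, fun y => ?_⟩
    have := hΦ 1 Q.one_mem l hl (ε.symm y)
    rw [Equiv.apply_symm_apply, one_mul] at this
    rw [this]
    congr 1
    rw [map_mul, MulAut.mul_apply, hconjQ u hu]
    exact one_mul _

end Cfsg.Agent.Lib.H18.EOC
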