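import Mathlib
import Cfsg.Prelude.Def_Solvable
import Cfsg.Prelude.Def_Perm
import Cfsg.Prelude.Def_Transfer
import Cfsg.Prelude.Def_CaseTheorems
import Cfsg.Agent.S3360

/-!
# S4025 piece EXC81B (architect helper19), exact signature.
-/

set_option autoImplicit false

namespace Cfsg.Agent.Lib.H18.EOC

open scoped Pointwise in
/-- **EXC81B**.  `H = X ⧸ C_X(Q)` is solvable (quotient of `X ⧸ K`); `X` acts transitively on the
`130` subgroups of order `9` of `Q` with `C_X(Q)` acting trivially, so `130 ∣ |H|`. -/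
theorem exc81b {X : Type*} [Group X] [Finite X]
    (Q : Subgroup X) [Q.Normal]
    (K : Subgroup X) [K.Normal] (hKQ : ∀ k ∈ K, ∀ a ∈ Q, k * a = a * k)
    (hsolv : Group.IsSolvable (X ⧸ K))
    (hlc : Nat.card {A : Subgroup X // A ≤ Q ∧ Nat.card A = 9} = 130)
    (htr : ∀ A B : Subgroup X, A ≤ Q → B ≤ Q → Nat.card A = 9 → Nat.card B = 9 →
      ∃ g : X, B = A.map (MulAut.conj g).toMonoidHom) :
    Group.IsSolvable (X ⧸ (MulAut.conjNormal : X →* MulAut ↥Q).ker) ∧
    130 ∣ Nat.card (X ⧸ (MulAut.conjNormal : X →* MulAut ↥Q).ker) := by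
  classical
  set C : Subgroup X := (MulAut.conjNormal : X →* MulAut ↥Q).ker with hC
  have hmemC : ∀ c : X, c ∈ C ↔ ∀ a ∈ Q, c * a * c⁻¹ = a := by
    intro c
    rw [hC, MonoidHom.mem_ker]
    constructor
    · intro h a ha
      have := congrArg (fun f : MulAut ↥Q => ((f ⟨a, ha⟩ : ↥Q) : X)) h
      simpa [MulAut.conjNormal_apply] using this
    · intro h
      ext ⟨a, ha⟩
      simp [MulAut.conjNormal_apply, h a ha]
  have hKC : K ≤ C := by
    intro k hk
    rw [hmemC]
    intro a ha
    rw [hKQ k hk a ha, mul_inv_cancel_right]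
  refine ⟨?_, ?_⟩
  · -- solvable
    have hsurj : Function.Surjective (QuotientGroup.map K C (MonoidHom.id X) hKC) := by
      intro y
      obtain ⟨x, rfl⟩ := QuotientGroup.mk_surjective y
      exact ⟨(x : X ⧸ K), rfl⟩
    exact solvable_of_surjective hsurj
  · -- 130 divides
    letI : MulAction X (Subgroup X) := MulAction.compHom (Subgroup X) (MulAut.conj : X →* MulAut X)
    have hsmul : ∀ (g : X) (A : Subgroup X), g • A = A.map (MulAut.conj g).toMonoidHom := by
      intro g A
      rfl
    have hne : Nonempty {A : Subgroup X // A ≤ Q ∧ Nat.card A = 9} := by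
      by_contra hcon
      rw [not_nonempty_iff] at hcon
      rw [Nat.card_of_isEmpty] at hlc
      omega
    obtain ⟨⟨A₀, hA₀Q, hA₀c⟩⟩ := hne
    have horb : MulAction.orbit X A₀ = {A : Subgroup X | A ≤ Q ∧ Nat.card A = 9} := by
      ext B
      constructor
      · rintro ⟨g, rfl⟩
        change g • A₀ ≤ Q ∧ Nat.card ↥(g • A₀) = 9
        rw [hsmul]
        refine ⟨?_, ?_⟩
        · rintro _ ⟨a, ha, rfl⟩
          have : g * a * g⁻¹ ∈ Q := ‹Q.Normal›.conj_mem a (hA₀Q ha) g
          simpa [MulAut.conj_apply] using this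
        · rw [Subgroup.card_map_of_injective (MulAut.conj g).injective]
          exact hA₀c
      · rintro ⟨hBQ, hBc⟩
        obtain ⟨g, hg⟩ := htr A₀ B hA₀Q hBQ hA₀c hBc
        exact ⟨g, by change g • A₀ = B; rw [hsmul, hg]⟩
    have hidx : (MulAction.stabilizer X A₀).index = 130 := by
      rw [MulAction.index_stabilizer, horb, ← hlc, ← Nat.card_coe_set_eq]
      rfl
    have hCstab : C ≤ MulAction.stabilizer X A₀ := by
      intro c hc
      rw [MulAction.mem_stabilizer_iff, hsmul]
      rw [hmemC] at hc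
      ext x
      constructor
      · rintro ⟨a, ha, rfl⟩
        have := hc a (hA₀Q ha)
        simp only [MulEquiv.coe_toMonoidHom, MulAut.conj_apply]
        rw [this]; exact ha
      · intro hx
        refine ⟨x, hx, ?_⟩
        have := hc x (hA₀Q hx)
        simp only [MulEquiv.coe_toMonoidHom, MulAut.conj_apply]
        exact this
    have := Subgroup.index_dvd_of_le hCstab
    rw [hidx] at this
    rwa [← Subgroup.index_eq_card]

end Cfsg.Agent.Lib.H18.EOC
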