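/-
S5188 farm-out (architect helper26), piece **S5188-P6b**: recognition of `Q₈ × C₂`.
Exact statement of tools/blueprints/S5188_sigs.lean (`equiv_quaternion_prod`).
-/
import Mathlib
import Cfsg.Agent.Lib.H2.L34H

set_option autoImplicit false

namespace Cfsg.Agent.Lib.H18.Ess

open Cfsg.Agent.Lib.H2.L34

/-- the homomorphism from the quaternion group of order eight given by quaternion relations -/
theorem exists_q8_hom {Γ : Type*} [Group Γ] (a b : Γ) (ha4 : a ^ 4 = 1)
    (hb : b * b = a ^ 2) (hab : b * a * b⁻¹ = a⁻¹) :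
    ∃ F : QuaternionGroup 2 →* Γ, (∀ i, F (QuaternionGroup.a i) = a ^ i.val) ∧
      (∀ i, F (QuaternionGroup.xa i) = b * a ^ i.val) := by
  have ha4' : a ^ (2 * 2) = 1 := ha4
  let f : QuaternionGroup 2 → Γ := fun x =>
    match x with
    | QuaternionGroup.a i => a ^ i.val
    | QuaternionGroup.xa i => b * a ^ i.val
  have hfr : ∀ i, f (QuaternionGroup.a i) = a ^ i.val := fun _ => rfl
  have hfs : ∀ i, f (QuaternionGroup.xa i) = b * a ^ i.val := fun _ => rfl
  have hcomm : ∀ i j : ℕ, a ^ j * (a ^ i)⁻¹ = (a ^ i)⁻¹ * a ^ j := fun i j =>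
    (((Commute.refl a).pow_pow j i).inv_right).eq
  have h2val : (((2 : ℕ) : ZMod (2 * 2))).val = 2 := by decide
  have hmul : ∀ x y, f (x * y) = f x * f y := by
    intro x y
    rcases x with i | i <;> rcases y with j | j
    · rw [QuaternionGroup.a_mul_a, hfr, hfr, hfr, pow_val_add' a ha4']
    · rw [QuaternionGroup.a_mul_xa, hfr, hfs, hfs, sub_eq_add_neg, pow_val_add' a ha4',
        pow_val_neg' a ha4']
      have h1 : a ^ i.val * (b * a ^ j.val) = b * ((a ^ i.val)⁻¹ * a ^ j.val) := by
        rw [← mul_assoc, pow_mul_refl a b hab, mul_assoc]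
      rw [h1, hcomm]
    · rw [QuaternionGroup.xa_mul_a, hfr, hfs, hfs, pow_val_add' a ha4', mul_assoc]
    · rw [QuaternionGroup.xa_mul_xa, hfr, hfs, hfs, sub_eq_add_neg, pow_val_add' a ha4',
        pow_val_add' a ha4', pow_val_neg' a ha4', h2val]
      have h1 : b * a ^ i.val * (b * a ^ j.val) = b * (a ^ i.val * b) * a ^ j.val := by group
      rw [h1, pow_mul_refl a b hab, ← mul_assoc, hb, mul_assoc, mul_assoc, hcomm]
  exact ⟨MonoidHom.mk' f hmul, hfr, hfs⟩

/-- in a non-abelian group of order 16 with centre of order 4 all squares are central -/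
theorem sq_mem_center {G : Type*} [Group G] [Finite G] (hcard : Nat.card G = 2 ^ 4)
    (hZ : Nat.card (Subgroup.center G) = 2 ^ 2) (x y : G) (hxy : x * y ≠ y * x) (g : G) :
    g ^ 2 ∈ Subgroup.center G := by
  have hq : Nat.card (G ⧸ Subgroup.center G) = 4 := by
    have h := Subgroup.card_eq_card_quotient_mul_card_subgroup (Subgroup.center G)
    rw [hcard, hZ] at h
    omega
  have hnc : ¬ IsCyclic (G ⧸ Subgroup.center G) := by
    intro hc
    apply hxy
    exact commutative_of_cyclic_center_quotient (QuotientGroup.mk' (Subgroup.center G))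
      (by rw [QuotientGroup.ker_mk']) x y
  rw [← QuotientGroup.eq_one_iff, QuotientGroup.mk_pow]
  set q : G ⧸ Subgroup.center G := (g : G ⧸ Subgroup.center G) with hqdef
  have h1 : orderOf q ∣ 4 := by
    rw [← hq]
    exact orderOf_dvd_natCard q
  have h2 : orderOf q ≠ 4 := by
    intro h
    apply hnc
    exact isCyclic_of_orderOf_eq_card q (by rw [h, hq])
  have h3 : orderOf q ∣ 2 := by
    have hmem : orderOf q ∈ Nat.divisors 4 := Nat.mem_divisors.2 ⟨h1, by norm_num⟩
    have hd : Nat.divisors 4 = {1, 2, 4} := by decide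
    rw [hd] at hmem
    simp only [Finset.mem_insert, Finset.mem_singleton] at hmem
    rcases hmem with h | h | h
    · rw [h]
      norm_num
    · rw [h]
    · exact absurd h h2
  exact orderOf_dvd_iff_pow_eq_one.1 h3

/-- **S5188-P6b** (recognition of `Q₈ × C₂`). -/
theorem equiv_quaternion_prod {G : Type*} [Group G] [Finite G]
    (hcard : Nat.card G = 2 ^ 4) (hZ : Nat.card (Subgroup.center G) = 2 ^ 2)
    (hZe : ∀ z ∈ Subgroup.center G, z ^ 2 = 1)
    (x y : G) (hxy : x * y ≠ y * x) (h1 : x ^ 2 = y ^ 2) (h2 : (x * y) ^ 2 = x ^ 2) :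
    Nonempty (G ≃* QuaternionGroup 2 × Multiplicative (ZMod 2)) := by
  have heZ : x ^ 2 ∈ Subgroup.center G := sq_mem_center hcard hZ x y hxy x
  have he2 : (x ^ 2) ^ 2 = 1 := hZe _ heZ
  have hx4 : x ^ 4 = 1 := by
    rw [← he2, ← pow_mul]
  have hyxy : y * x * y = x := by
    have h3 : x * (y * x * y) = x * x := by
      calc x * (y * x * y) = (x * y) ^ 2 := by rw [sq]; group
        _ = x ^ 2 := h2
        _ = x * x := sq x
    exact mul_left_cancel h3
  have hx2ne : x ^ 2 ≠ 1 := by
    intro h
    apply hxy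
    have hy2 : y ^ 2 = 1 := by rw [← h1, h]
    calc x * y = (y * x * y) * y := by rw [hyxy]
      _ = y * x * y ^ 2 := by rw [sq]; group
      _ = y * x := by rw [hy2, mul_one]
  have hab : y * x * y⁻¹ = x⁻¹ := by
    calc y * x * y⁻¹ = (y * x * y) * (y ^ 2)⁻¹ := by rw [sq]; group
      _ = x * (x ^ 2)⁻¹ := by rw [hyxy, ← h1]
      _ = x⁻¹ := by rw [sq]; group
  have hb : y * y = x ^ 2 := by rw [← sq, h1]
  obtain ⟨FQ, hFa, hFxa⟩ := exists_q8_hom x y hx4 hb hab
  -- a central element outside `⟨x²⟩`
  obtain ⟨d, hdZ, hd1, hde⟩ : ∃ d ∈ Subgroup.center G, d ≠ 1 ∧ d ≠ x ^ 2 := by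
    by_contra hcon
    push Not at hcon
    have hsub : (Subgroup.center G : Set G) ⊆ {1, x ^ 2} := by
      intro d hd
      by_cases h : d = 1
      · rw [h]
        exact Set.mem_insert _ _
      · rw [hcon d hd h]
        exact Set.mem_insert_of_mem _ rfl
    have hle : (Subgroup.center G : Set G).ncard ≤ ({1, x ^ 2} : Set G).ncard :=
      Set.ncard_le_ncard hsub (Set.toFinite _)
    have hle2 : ({1, x ^ 2} : Set G).ncard ≤ 2 := by
      have := Set.ncard_insert_le (1 : G) {x ^ 2}
      rw [Set.ncard_singleton] at this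
      exact this
    have hc : Nat.card (Subgroup.center G) = (Subgroup.center G : Set G).ncard :=
      Nat.card_coe_set_eq _
    rw [hZ] at hc
    omega
  have hd2 : d ^ 2 = 1 := hZe d hdZ
  -- the homomorphism from `C₂`
  let D : Multiplicative (ZMod 2) →* G := MonoidHom.mk'
    (fun c => d ^ (Multiplicative.toAdd c).val)
    (by
      intro c c'
      exact pow_val_add' d hd2 _ _)
  have hDdef : ∀ c, D c = d ^ (Multiplicative.toAdd c).val := fun _ => rfl
  have hDZ : ∀ c, D c ∈ Subgroup.center G := by
    intro c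
    rw [hDdef]
    exact pow_mem hdZ _
  have hcommQD : ∀ (q : QuaternionGroup 2) (c : Multiplicative (ZMod 2)),
      Commute (FQ q) (D c) := by
    intro q c
    exact Subgroup.mem_center_iff.1 (hDZ c) (FQ q)
  let F : QuaternionGroup 2 × Multiplicative (ZMod 2) →* G :=
    MonoidHom.noncommCoprod FQ D hcommQD
  have hF : ∀ q c, F (q, c) = FQ q * D c := by
    intro q c
    exact MonoidHom.noncommCoprod_apply _ _ _ _
  have hD0 : D (Multiplicative.ofAdd (0 : ZMod 2)) = 1 := by
    rw [hDdef, toAdd_ofAdd, ZMod.val_zero, pow_zero]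
  have hD1 : D (Multiplicative.ofAdd (1 : ZMod 2)) = d := by
    rw [hDdef, toAdd_ofAdd]
    have : (1 : ZMod 2).val = 1 := by decide
    rw [this, pow_one]
  have hxnZ : x ∉ Subgroup.center G := by
    intro hx
    exact hxy (Subgroup.mem_center_iff.1 hx y).symm
  have hinj : Function.Injective F := by
    rw [injective_iff_map_eq_one]
    rintro ⟨q, c⟩ h
    rw [hF] at h
    rcases q with i | i
    · -- rotations
      rw [hFa] at h
      have hk : Multiplicative.toAdd c = 0 ∨ Multiplicative.toAdd c = 1 := by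
        generalize Multiplicative.toAdd c = k
        fin_cases k
        · left; rfl
        · right; rfl
      rcases hk with hk | hk
      · have hDc : D c = 1 := by rw [hDdef, hk, ZMod.val_zero, pow_zero]
        rw [hDc, mul_one] at h
        have h3 := pow_lt_four hx4 hx2ne _ (ZMod.val_lt i) h
        have h4 : i = 0 := (ZMod.val_eq_zero i).mp h3
        have hc1 : c = 1 := Multiplicative.toAdd.injective (hk.trans toAdd_one.symm)
        rw [h4, hc1]
        rfl
      · exfalso
        have hDc : D c = d := by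
          rw [hDdef, hk]
          have : (1 : ZMod 2).val = 1 := by decide
          rw [this, pow_one]
        rw [hDc] at h
        have hlt : i.val < 4 := ZMod.val_lt i
        have hxi : x ^ i.val = d⁻¹ := eq_inv_of_mul_eq_one_left h
        have hxiZ : x ^ i.val ∈ Subgroup.center G := by
          rw [hxi]
          exact inv_mem hdZ
        interval_cases hi : i.val
        · rw [pow_zero, one_mul] at h
          exact hd1 h
        · rw [pow_one] at hxiZ
          exact hxnZ hxiZ
        · apply hde
          have h5 : d = (x ^ 2)⁻¹ := (eq_inv_of_mul_eq_one_right h)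
          rw [h5, inv_eq_iff_mul_eq_one, ← sq, he2]
        · apply hxnZ
          have h5 : x = (x ^ 3)⁻¹ := by
            rw [eq_inv_iff_mul_eq_one, ← pow_succ', hx4]
          rw [h5]
          exact inv_mem hxiZ
    · -- reflections
      exfalso
      rw [hFxa] at h
      have hw : y * x ^ i.val ∈ Subgroup.center G := by
        have : y * x ^ i.val = (D c)⁻¹ := eq_inv_of_mul_eq_one_left h
        rw [this]
        exact inv_mem (hDZ c)
      have h3 := Subgroup.mem_center_iff.1 hw x
      apply hxy
      have h4 : x * y * x ^ i.val = y * x * x ^ i.val := by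
        calc x * y * x ^ i.val = x * (y * x ^ i.val) := by rw [mul_assoc]
          _ = y * x ^ i.val * x := h3
          _ = y * (x ^ i.val * x) := by rw [mul_assoc]
          _ = y * (x * x ^ i.val) := by rw [← pow_succ, pow_succ']
          _ = y * x * x ^ i.val := by rw [mul_assoc]
      exact mul_right_cancel h4
  have hbij : Function.Bijective F := by
    rw [Nat.bijective_iff_injective_and_card]
    refine ⟨hinj, ?_⟩
    rw [Nat.card_prod, Nat.card_eq_fintype_card, QuaternionGroup.card, hcard,
      Nat.card_eq_fintype_card, Fintype.card_multiplicative, ZMod.card]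
    norm_num
  exact ⟨(MulEquiv.ofBijective F hbij).symm⟩

end Cfsg.Agent.Lib.H18.Ess
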