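import Mathlib
import Cfsg.Agent.Lib.H9.ExtSpDefs

/-!
# S5664 farm-out, piece P3c: `q = 2`, the 7-transvection relation on a totally isotropic 3-space
-/

set_option autoImplicit false

namespace Cfsg.Agent.Lib.H18.ExtSp

open Module Cfsg.Agent.Lib.H9.ExtSp

variable {F K V : Type*} [Field F] [Field K] [Algebra F K] [AddCommGroup V] [Module F V]
  [Module K V] [IsScalarTower F K V]
  {B : LinearMap.BilinForm K V} {lam : K →ₗ[F] F} {M : Subgroup (V ≃ₗ[F] V)}

/-- a product of `F`-transvections with pairwise `f`-orthogonal centres -/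
theorem ftv_list_prod_apply (hB : ∀ x, B x x = 0) (l : List V)
    (hl : ∀ a ∈ l, ∀ b ∈ l, lam (B a b) = 0) (u : V) :
    ((l.map (fun a => ftv B lam hB a 1)).prod) u
      = u + (l.map (fun a => lam (B u a) • a)).sum := by
  induction l with
  | nil => simp
  | cons a l ih =>
    have ih' := ih (fun x hx y hy =>
      hl x (List.mem_cons_of_mem _ hx) y (List.mem_cons_of_mem _ hy))
    rw [List.map_cons, List.prod_cons, LinearEquiv.mul_apply, ih', ftv_apply, List.map_cons,
      List.sum_cons]
    have hsum : ∀ l' : List V, (∀ b ∈ l', lam (B b a) = 0) →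
        lam (B ((l'.map (fun a => lam (B u a) • a)).sum) a) = 0 := by
      intro l' hl'
      induction l' with
      | nil => simp
      | cons b l' ih2 =>
        rw [List.map_cons, List.sum_cons, map_add, LinearMap.add_apply, map_add, B_smul_left_F,
          map_smul, hl' b List.mem_cons_self, smul_zero, zero_add]
        exact ih2 (fun x hx => hl' x (List.mem_cons_of_mem _ hx))
    have h1 : lam (B (u + (l.map (fun a => lam (B u a) • a)).sum) a) = lam (B u a) := by
      rw [map_add, LinearMap.add_apply, map_add,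
        hsum l (fun b hb => hl b (List.mem_cons_of_mem _ hb) a List.mem_cons_self), add_zero]
    rw [h1, one_mul]
    abel

/-- **P3c** (`q = 2`: the 7-relation). -/
theorem hasFtv_of_rel_all [FiniteDimensional F K] [FiniteDimensional K V] (S : Setup B lam M)
    (hF : Nat.card F = 2) (hK : 2 ≤ finrank F K) (hd : 4 ≤ finrank K V)
    (hall : ∀ x y : V, x ≠ 0 → y ≠ 0 → Rel B lam S.alt M x y) : HasFtv B lam M := by
  classical
  -- characteristic 2
  have h2 : (2 : F) = 0 := by
    haveI : Finite F := Nat.finite_of_card_ne_zero (by rw [hF]; norm_num)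
    haveI := Fintype.ofFinite F
    have h := Nat.cast_card_eq_zero F
    rw [← Nat.card_eq_fintype_card, hF] at h
    exact_mod_cast h
  have h2V : ∀ v : V, v + v = 0 := by
    intro v
    rw [← two_smul F v, h2, zero_smul]
  -- a non-zero vector
  obtain ⟨c, hc⟩ : ∃ c : V, c ≠ 0 :=
    (Module.finrank_pos_iff_exists_ne_zero (R := K)).1 (by omega)
  -- an element outside the prime field
  obtain ⟨ω, hω⟩ : ∃ ω : K, ∀ a : F, a • (1 : K) ≠ ω := by
    by_contra hcon
    push Not at hcon
    have := finrank_le_one (R := F) (1 : K) hcon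
    omega
  -- a vector of `c^⊥` outside `K c`
  obtain ⟨x₃, hx3c, hx3⟩ : ∃ x₃ : V, B c x₃ = 0 ∧ x₃ ∉ Submodule.span K {c} := by
    by_contra hcon
    push Not at hcon
    have hle : LinearMap.ker (B c) ≤ Submodule.span K {c} := fun x hx =>
      hcon x (LinearMap.mem_ker.1 hx)
    have h1 := Submodule.finrank_mono hle
    rw [finrank_span_singleton hc] at h1
    have h3 := LinearMap.finrank_range_add_finrank_ker (B c)
    have h4 : finrank K (LinearMap.range (B c)) ≤ 1 := by
      have := Submodule.finrank_le (LinearMap.range (B c))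
      rwa [Module.finrank_self] at this
    omega
  have hcx3 : B x₃ c = 0 := by rw [B_skew B S.alt, hx3c, neg_zero]
  -- the totally isotropic `K`-plane
  have hiso : ∀ k e k' e' : K, lam (B (k • c + e • x₃) (k' • c + e' • x₃)) = 0 := by
    intro k e k' e'
    simp only [map_add, LinearMap.add_apply, map_smul, LinearMap.smul_apply, S.alt, hx3c, hcx3,
      smul_zero, add_zero, map_zero]
  have hnot : ∀ k : K, k • c + x₃ ≠ 0 := by
    intro k h
    apply hx3
    have : x₃ = (-k) • c := by
      rw [neg_smul]; exact eq_neg_of_add_eq_zero_right h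
    rw [this]
    exact Submodule.smul_mem _ _ (Submodule.mem_span_singleton_self c)
  have hω0 : ω ≠ 0 := by
    intro h; exact hω 0 (by rw [zero_smul, h])
  have hω1 : 1 + ω ≠ 0 := by
    intro h
    apply hω 1
    rw [one_smul]
    have h3 : (1 : K) + 1 = 0 := by
      have := congrArg (algebraMap F K) h2
      rw [map_zero, map_ofNat] at this
      rw [one_add_one_eq_two]; exact this
    calc (1 : K) = 1 + (1 + ω) := by rw [h, add_zero]
      _ = (1 + 1) + ω := by ring
      _ = ω := by rw [h3, zero_add]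
  -- the six centres
  have hx1 : c ≠ 0 := hc
  have hx2 : ω • c ≠ 0 := smul_ne_zero hω0 hc
  have hx3' : x₃ ≠ 0 := by
    have := hnot 0; rwa [zero_smul, zero_add] at this
  have hx12 : c + ω • c ≠ 0 := by
    have : c + ω • c = (1 + ω) • c := by rw [add_smul, one_smul]
    rw [this]; exact smul_ne_zero hω1 hc
  have hx13 : c + x₃ ≠ 0 := by
    have := hnot 1; rwa [one_smul] at this
  have hx23 : ω • c + x₃ ≠ 0 := hnot ω
  have hx123 : c + ω • c + x₃ ≠ 0 := by
    have := hnot (1 + ω); rwa [add_smul, one_smul] at this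
  have hM : (ftv B lam S.alt c 1 * ftv B lam S.alt (ω • c) 1) *
      (ftv B lam S.alt x₃ 1 * ftv B lam S.alt (c + ω • c) 1) *
      (ftv B lam S.alt (c + x₃) 1 * ftv B lam S.alt (ω • c + x₃) 1) ∈ M :=
    M.mul_mem (M.mul_mem (hall _ _ hx1 hx2) (hall _ _ hx3' hx12)) (hall _ _ hx13 hx23)
  refine ⟨_, hM, c + ω • c + x₃, hx123, 1, one_ne_zero, ?_⟩
  intro u
  have hl : ∀ a ∈ [c, ω • c, x₃, c + ω • c, c + x₃, ω • c + x₃],
      ∃ k e : K, a = k • c + e • x₃ := by
    intro a ha
    simp only [List.mem_cons, List.not_mem_nil, or_false] at ha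
    rcases ha with rfl | rfl | rfl | rfl | rfl | rfl
    · exact ⟨1, 0, by rw [one_smul, zero_smul, add_zero]⟩
    · exact ⟨ω, 0, by rw [zero_smul, add_zero]⟩
    · exact ⟨0, 1, by rw [one_smul, zero_smul, zero_add]⟩
    · exact ⟨1 + ω, 0, by rw [add_smul, one_smul, zero_smul, add_zero]⟩
    · exact ⟨1, 1, by rw [one_smul, one_smul]⟩
    · exact ⟨ω, 1, by rw [one_smul]⟩
  have hprod := ftv_list_prod_apply (lam := lam) S.alt
    [c, ω • c, x₃, c + ω • c, c + x₃, ω • c + x₃]
    (by
      intro a ha b hb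
      obtain ⟨k, e, rfl⟩ := hl a ha
      obtain ⟨k', e', rfl⟩ := hl b hb
      exact hiso k e k' e') u
  simp only [List.map_cons, List.map_nil, List.prod_cons, List.prod_nil, mul_one,
    List.sum_cons, List.sum_nil, add_zero] at hprod
  have hassoc : (ftv B lam S.alt c 1 * ftv B lam S.alt (ω • c) 1) *
      (ftv B lam S.alt x₃ 1 * ftv B lam S.alt (c + ω • c) 1) *
      (ftv B lam S.alt (c + x₃) 1 * ftv B lam S.alt (ω • c + x₃) 1)
      = ftv B lam S.alt c 1 * (ftv B lam S.alt (ω • c) 1 * (ftv B lam S.alt x₃ 1 *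
        (ftv B lam S.alt (c + ω • c) 1 * (ftv B lam S.alt (c + x₃) 1 *
          ftv B lam S.alt (ω • c + x₃) 1)))) := by
    simp only [mul_assoc]
  rw [hassoc, hprod, one_mul]
  obtain ⟨a, ha⟩ : ∃ a : F, a = lam (B u c) := ⟨_, rfl⟩
  obtain ⟨b, hb⟩ : ∃ b : F, b = lam (B u (ω • c)) := ⟨_, rfl⟩
  obtain ⟨d, hd'⟩ : ∃ d : F, d = lam (B u x₃) := ⟨_, rfl⟩
  simp only [map_add, ← ha, ← hb, ← hd']
  have key : a • c + (b • ω • c + (d • x₃ + ((a + b) • (c + ω • c) +
      ((a + d) • (c + x₃) + (b + d) • (ω • c + x₃)))))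
      = (a + b + d) • (c + ω • c + x₃) +
        ((a • c + a • c) + (b • ω • c + b • ω • c) + (d • x₃ + d • x₃)) := by
    simp only [add_smul, smul_add]
    abel
  rw [key, h2V (a • c), h2V (b • ω • c), h2V (d • x₃), add_zero, add_zero, add_zero]

end Cfsg.Agent.Lib.H18.ExtSp
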