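import Mathlib
import Cfsg.Agent.Lib.H9.ExtSpDefs

/-!
# S5664 farm-out, piece TR: the `K`-transvections act transitively on non-zero vectors
-/

set_option autoImplicit false

namespace Cfsg.Agent.Lib.H18.ExtSp

open Module Cfsg.Agent.Lib.H9.ExtSp

variable {F K V : Type*} [Field F] [Field K] [Algebra F K] [AddCommGroup V] [Module F V]
  [Module K V] [IsScalarTower F K V]
  {B : LinearMap.BilinForm K V} {lam : K →ₗ[F] F} {M : Subgroup (V ≃ₗ[F] V)}

/-- one `K`-transvection maps `v` to `w` when `B v w ≠ 0` -/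
theorem exists_klin_map_of_ne (S : Setup B lam M) {v w : V} (h : B v w ≠ 0) :
    ∃ g ∈ M, (∀ (k : K) (x : V), g (k • x) = k • g x) ∧ g v = w := by
  refine ⟨ktv (F := F) B S.alt (v - w) (B v w)⁻¹, ktv_mem S _ _, ktv_klin B S.alt _ _, ?_⟩
  rw [ktv_apply, map_sub, S.alt, zero_sub, mul_neg, inv_mul_cancel₀ h, neg_smul, one_smul]
  abel

/-- a non-zero vector is not in the radical -/
theorem exists_B_ne_zero (S : Setup B lam M) {v : V} (hv : v ≠ 0) : ∃ u, B v u ≠ 0 := by
  by_contra hc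
  push Not at hc
  exact hv (S.nondeg v hc)

/-- **TR** (the `K`-transvections act transitively on non-zero vectors). -/
theorem exists_klin_map (S : Setup B lam M) {v w : V} (hv : v ≠ 0) (hw : w ≠ 0) :
    ∃ g ∈ M, (∀ (k : K) (x : V), g (k • x) = k • g x) ∧ g v = w := by
  by_cases h : B v w ≠ 0
  · exact exists_klin_map_of_ne S h
  · obtain ⟨u1, hu1⟩ := exists_B_ne_zero S hv
    obtain ⟨u2, hu2⟩ := exists_B_ne_zero S hw
    have h3 : ∃ u, B v u ≠ 0 ∧ B w u ≠ 0 := by
      by_cases h4 : B w u1 = 0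
      · by_cases h5 : B v u2 = 0
        · refine ⟨u1 + u2, ?_, ?_⟩
          · rw [map_add, h5, add_zero]; exact hu1
          · rw [map_add, h4, zero_add]; exact hu2
        · exact ⟨u2, h5, hu2⟩
      · exact ⟨u1, hu1, h4⟩
    obtain ⟨u, huv, huw⟩ := h3
    have huw' : B u w ≠ 0 := by
      rw [B_skew B S.alt u w]; exact neg_ne_zero.2 huw
    obtain ⟨g1, hg1, hk1, he1⟩ := exists_klin_map_of_ne S huv
    obtain ⟨g2, hg2, hk2, he2⟩ := exists_klin_map_of_ne S huw'
    refine ⟨g2 * g1, M.mul_mem hg2 hg1, ?_, ?_⟩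
    · intro k x
      rw [LinearEquiv.mul_apply, LinearEquiv.mul_apply, hk1, hk2]
    · rw [LinearEquiv.mul_apply, he1, he2]

end Cfsg.Agent.Lib.H18.ExtSp
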