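import Cfsg.Agent.Lib.H18.FpfCyclicDegree
import Cfsg.Agent.Lib.H23.Extraspecial
import Cfsg.Agent.Lib.H23.RelMGroup

/-!
# Cyclic fixed-point-free coprime action on an extraspecial group (helper18)

`card_dvd_of_fpf_extraspecial`: `P` extraspecial of order `p^(2n+1)`, `H` cyclic of order prime to
`p` normalizing `P` with `C_P(x) = Z(P)` for `1 ≠ x ∈ H`; then `|H|` divides `p^n + 1` or `p^n - 1`.
-/

set_option autoImplicit false

namespace Cfsg.Agent.Lib.H18

open Cfsg

theorem card_dvd_of_fpf_extraspecial {G : Type*} [Group G] [Finite G] {p : ℕ} [hp : Fact p.Prime]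
    (P H : Subgroup G) (hP : Cfsg.IsExtraspecial p ↥P) (n : ℕ) (hn : Nat.card P = p ^ (2 * n + 1))
    (hH : IsCyclic H) (hcop : (Nat.card H).Coprime p)
    (hHP : H ≤ Subgroup.normalizer (P : Set G))
    (hfix : ∀ x ∈ H, x ≠ 1 → P ⊓ Subgroup.centralizer {x} = (Subgroup.center ↥P).map P.subtype) :
    Nat.card H ∣ p ^ n + 1 ∨ Nat.card H ∣ p ^ n - 1 := by
  classical
  by_cases hH1 : H = ⊥
  · left
    rw [hH1, Subgroup.card_bot]
    exact one_dvd _
  -- elements of `H` centralize `Z(P)`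
  have hZs : ∀ s ∈ H, ∀ z ∈ (Subgroup.center ↥P).map P.subtype, s * z = z * s := by
    intro s hs z hz
    by_cases hs1 : s = 1
    · rw [hs1, one_mul, mul_one]
    · rw [← hfix s hs hs1] at hz
      exact (Subgroup.mem_centralizer_singleton_iff.mp hz.2).symm
  -- an irreducible character of degree `p ^ n`
  haveI : Fintype ↥P := Fintype.ofFinite _
  have hcard := Cfsg.Agent.Lib.H23.card_irr_pow_of_extraspecial p n hP hn
  have hpos : 0 < Nat.card {χ : Cfsg.IrrCharacter P // (χ : P → ℂ) 1 = (p : ℂ) ^ n} := by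
    rw [hcard]
    have := hp.out.two_le
    omega
  obtain ⟨⟨θ, hθ1⟩⟩ := (Nat.card_pos_iff.mp hpos).1
  have hn0 := Cfsg.Agent.Lib.H23.extraspecial_exponent_ne_zero p n hP hn
  -- `θ` vanishes off the centre
  have hvan : ∀ g : P, g ∉ Subgroup.center ↥P → (θ : P → ℂ) g = 0 := by
    intro g hg
    obtain ⟨m, ρ, hirr, hχ⟩ := θ.2
    haveI : ρ.IsIrreducible := hirr
    have hdim : Module.finrank ℂ (Fin m → ℂ) ≠ 1 := by
      intro h1
      have h2 : (θ : P → ℂ) 1 = 1 := by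
        rw [← hχ, Representation.char_one, h1]
        simp
      rw [hθ1] at h2
      have h3 : (p ^ n : ℕ) = 1 := by exact_mod_cast h2
      rcases Nat.pow_eq_one.mp h3 with h4 | h4
      · exact hp.out.one_lt.ne' h4
      · exact hn0 h4
    rw [← hχ]
    exact Cfsg.Agent.Lib.H23.char_eq_zero_of_not_mem_center_of_extraspecial p hP ρ hdim hg
  -- the ambient group `Γ = P H`
  have hPle : P ≤ P ⊔ H := le_sup_left
  have hHle : H ≤ P ⊔ H := le_sup_right
  haveI : Fintype ↥(P ⊔ H) := Fintype.ofFinite _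
  set G' : Subgroup ↥(P ⊔ H) := P.subgroupOf (P ⊔ H) with hG'
  set S' : Subgroup ↥(P ⊔ H) := H.subgroupOf (P ⊔ H) with hS'
  set e : ↥G' ≃* ↥P := Subgroup.subgroupOfEquivOfLe hPle with he
  set eS : ↥S' ≃* ↥H := Subgroup.subgroupOfEquivOfLe hHle with heS
  have hcardG : Nat.card G' = p ^ (2 * n + 1) := by
    rw [← hn]; exact Nat.card_congr e.toEquiv
  have hcardS : Nat.card S' = Nat.card H := Nat.card_congr eS.toEquiv
  have hnorm : ∀ s ∈ S', ∀ g ∈ G', s * g * s⁻¹ ∈ G' := by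
    intro s hs g hg
    rw [hS', Subgroup.mem_subgroupOf] at hs
    rw [hG', Subgroup.mem_subgroupOf] at hg ⊢
    have h1 := (Subgroup.mem_normalizer_iff.mp (hHP hs)) (g : G)
    exact h1.mp hg
  have hcop' : (Nat.card G').Coprime (Nat.card S') := by
    rw [hcardG, hcardS]
    exact (Nat.Coprime.pow_right _ hcop).symm
  have htop : G' ⊔ S' = ⊤ := by
    rw [hG', hS', ← Subgroup.subgroupOf_sup hPle hHle, Subgroup.subgroupOf_self]
  have hcyc : IsCyclic S' := by
    haveI := hH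
    exact isCyclic_of_surjective eS.symm.toMonoidHom eS.symm.surjective
  have hS1 : S' ≠ ⊥ := by
    intro h
    apply hH1
    rw [eq_bot_iff]
    intro x hx
    have h1 : (⟨x, hHle hx⟩ : ↥(P ⊔ H)) ∈ S' := by
      rw [hS', Subgroup.mem_subgroupOf]; exact hx
    rw [h, Subgroup.mem_bot] at h1
    rw [Subgroup.mem_bot]
    exact congrArg Subtype.val h1
  set C : Subgroup ↥(P ⊔ H) := ((Subgroup.center ↥P).map P.subtype).subgroupOf (P ⊔ H) with hC
  have hfpf : ∀ x ∈ S', x ≠ 1 → G' ⊓ Subgroup.centralizer ({x} : Set ↥(P ⊔ H)) = C := by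
    intro x hx hx1
    rw [hS', Subgroup.mem_subgroupOf] at hx
    have hx1' : (x : G) ≠ 1 := fun h => hx1 (Subtype.ext h)
    ext y
    rw [Subgroup.mem_inf, hG', Subgroup.mem_subgroupOf, hC, Subgroup.mem_subgroupOf,
      ← hfix (x : G) hx hx1', Subgroup.mem_inf, Subgroup.mem_centralizer_singleton_iff,
      Subgroup.mem_centralizer_singleton_iff]
    constructor
    · rintro ⟨h1, h2⟩
      exact ⟨h1, congrArg Subtype.val h2⟩
    · rintro ⟨h1, h2⟩
      exact ⟨h1, Subtype.ext h2⟩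
  have hCcomm : ∀ a ∈ C, ∀ b ∈ C, a * b = b * a := by
    intro a ha b hb
    rw [hC, Subgroup.mem_subgroupOf] at ha hb
    obtain ⟨a', ha', haa⟩ := ha
    obtain ⟨b', hb', hbb⟩ := hb
    apply Subtype.ext
    show (a : G) * (b : G) = (b : G) * (a : G)
    rw [← haa, ← hbb]
    have h1 := Subgroup.mem_center_iff.mp ha' b'
    have h2 := congrArg (P.subtype) h1
    rw [map_mul, map_mul] at h2
    exact h2.symm
  -- the character on `G'`
  have hχirr : Cfsg.IsIrrCharacter G' ((θ : P → ℂ) ∘ e) :=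
    Cfsg.Agent.Lib.H23.isIrrCharacter_comp_mulEquiv e θ.2
  have hd : (⟨(θ : P → ℂ) ∘ e, hχirr⟩ : Cfsg.IrrCharacter G').1 1 = ((p ^ n : ℕ) : ℂ) := by
    show (θ : P → ℂ) (e 1) = _
    rw [map_one, hθ1]
    push_cast
    rfl
  have hinv : ∀ s ∈ S', ∀ g g' : G', (g' : ↥(P ⊔ H)) = s * g * s⁻¹ →
      (⟨(θ : P → ℂ) ∘ e, hχirr⟩ : Cfsg.IrrCharacter G').1 g' =
        (⟨(θ : P → ℂ) ∘ e, hχirr⟩ : Cfsg.IrrCharacter G').1 g := by
    intro s hs g g' hgg
    show (θ : P → ℂ) (e g') = (θ : P → ℂ) (e g)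
    rw [hS', Subgroup.mem_subgroupOf] at hs
    have hval : ((e g' : P) : G) = (s : G) * ((e g : P) : G) * (s : G)⁻¹ := by
      have := congrArg (Subtype.val : ↥(P ⊔ H) → G) hgg
      exact this
    by_cases hz : e g ∈ Subgroup.center ↥P
    · have hzm : ((e g : P) : G) ∈ (Subgroup.center ↥P).map P.subtype := ⟨e g, hz, rfl⟩
      have h1 := hZs (s : G) hs _ hzm
      have h2 : e g' = e g := by
        apply Subtype.ext
        rw [hval, h1]
        group
      rw [h2]
    · rw [hvan _ hz]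
      apply hvan
      intro hz'
      apply hz
      have hzm : ((e g' : P) : G) ∈ (Subgroup.center ↥P).map P.subtype := ⟨e g', hz', rfl⟩
      have h1 := hZs (s : G)⁻¹ (H.inv_mem hs) _ hzm
      have h2 : e g = e g' := by
        apply Subtype.ext
        have h3 : ((e g : P) : G) = (s : G)⁻¹ * ((e g' : P) : G) * (s : G) := by
          rw [hval]; group
        rw [h3, h1]
        group
      rw [h2]
      exact hz'
  obtain ⟨ε, hε, hdvd⟩ := card_dvd_degree_sub_sign G' S' hnorm hcop' htop hcyc hS1 C hfpf hCcomm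
    ⟨(θ : P → ℂ) ∘ e, hχirr⟩ (p ^ n) hd hinv
  rw [hcardS] at hdvd
  rcases hε with h | h
  · right
    rw [h] at hdvd
    have h1 : ((p ^ n : ℕ) : ℤ) - 1 = ((p ^ n - 1 : ℕ) : ℤ) := by
      rw [Nat.cast_sub (Nat.one_le_pow _ _ hp.out.pos)]
      simp
    rw [h1] at hdvd
    exact Int.natCast_dvd_natCast.mp hdvd
  · left
    rw [h] at hdvd
    have h1 : ((p ^ n : ℕ) : ℤ) - (-1) = ((p ^ n + 1 : ℕ) : ℤ) := by
      push_cast
      ring
    rw [h1] at hdvd
    exact Int.natCast_dvd_natCast.mp hdvd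

end Cfsg.Agent.Lib.H18
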