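import Cfsg.Agent.S5157
import Cfsg.Agent.S5134
import Cfsg.Agent.S5133
import Cfsg.Agent.Lib.H25.MorphismClosed
import Cfsg.Agent.Lib.H24.F59Def

/-!
# S5159, piece (FWD-D): a factor system of a solvable saturated fusion system is solvable

Blueprint `tools/blueprints/S5159.md`: push a chain of strongly closed subgroups with abelian factors (S5157) along the
surjective morphism `θ` (S5134); the image system is saturated (S5133).
-/

set_option autoImplicit false

namespace Cfsg.Agent.Lib.H18.F59

open Cfsg Cfsg.FusionSystem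
open scoped commutatorElement

variable {Ω : Type*} [Group Ω] {S : Subgroup Ω}

/-- (FWD-D) only needs `T` strongly closed. -/
theorem fwd_factor [Finite S] (p : ℕ) [Fact p.Prime] (hS : IsPGroup p S) (F : FusionSystem S)
    (hF : F.IsSaturated p) {T : Subgroup Ω} (hT : F.StronglyClosed T) {Ω' : Type*} [Group Ω']
    {S' : Subgroup Ω'} (θ : S →* Ω') (D : FusionSystem S') (hD : F.IsFactorSystem T θ D)
    (h : F.IsSolvableSystem) : D.IsSolvableSystem := by
  have hsm := Cfsg.Agent.S5134.result p hS F hF T hT θ D hD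
  have hDsat : D.IsSaturated p := Cfsg.Agent.S5133.result p hS F hF D θ hsm
  have hrange : θ.range = S' := hsm.2.1
  haveI : Finite S' := Cfsg.Agent.Lib.H25.finite_S' hrange
  have hS' : IsPGroup p S' := Cfsg.Agent.Lib.H25.isPGroup_S' hrange hS
  obtain ⟨n, Tc, h0, hl, hm, hs, hc⟩ := (Cfsg.Agent.S5157.result p hS F hF).1 h
  refine (Cfsg.Agent.S5157.result p hS' D hDsat).2
    ⟨n, fun i => imageAlong θ (Tc i), ?_, ?_, ?_, ?_, ?_⟩
  · show imageAlong θ (Tc 0) = ⊥
    rw [h0]
    unfold imageAlong
    rw [Subgroup.bot_subgroupOf, Subgroup.map_bot]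
  · show imageAlong θ (Tc (Fin.last n)) = S'
    rw [hl]
    unfold imageAlong
    rw [Subgroup.subgroupOf_self, ← MonoidHom.range_eq_map, hrange]
  · intro i j hij
    show imageAlong θ (Tc i) ≤ imageAlong θ (Tc j)
    unfold imageAlong
    apply Subgroup.map_mono
    intro x hx
    exact hm hij hx
  · intro i
    exact Cfsg.Agent.Lib.H25.image_stronglyClosed hsm (hs i)
  · intro i
    show ⁅imageAlong θ (Tc i.succ), imageAlong θ (Tc i.succ)⁆ ≤ imageAlong θ (Tc i.castSucc)
    unfold imageAlong
    rw [← Subgroup.map_commutator]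
    apply Subgroup.map_mono
    rw [Subgroup.commutator_le]
    intro g₁ hg₁ g₂ hg₂
    rw [Subgroup.mem_subgroupOf] at hg₁ hg₂ ⊢
    apply hc i
    have : ((⁅g₁, g₂⁆ : S) : Ω) = ⁅(g₁ : Ω), (g₂ : Ω)⁆ := by
      simp [commutatorElement_def]
    rw [this]
    exact Subgroup.commutator_mem_commutator hg₁ hg₂

end Cfsg.Agent.Lib.H18.F59
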