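import Cfsg.Agent.Lib.H18.Fi22MM2Net

/-!
# S2053 piece M2 (helper18): kernel checks of the words 18 .. 35 of `covW2`
(one declaration per word and no parallel elaboration: the kernel caches the intermediate big numbers of one
declaration)
-/

set_option Elab.async false
set_option autoImplicit false
set_option maxRecDepth 100000

namespace Cfsg.Agent.Lib.H18.Fi22M.M2

open Cfsg.Agent.Lib.H11.BitNet

open Cfsg.Agent.Lib.H28.Fi22M

theorem chk_18 : chkW (covW2.getD 18 []) = true := by decide +kernel

theorem chk_19 : chkW (covW2.getD 19 []) = true := by decide +kernel

theorem chk_20 : chkW (covW2.getD 20 []) = true := by decide +kernel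

theorem chk_21 : chkW (covW2.getD 21 []) = true := by decide +kernel

theorem chk_22 : chkW (covW2.getD 22 []) = true := by decide +kernel

theorem chk_23 : chkW (covW2.getD 23 []) = true := by decide +kernel

theorem chk_24 : chkW (covW2.getD 24 []) = true := by decide +kernel

theorem chk_25 : chkW (covW2.getD 25 []) = true := by decide +kernel

theorem chk_26 : chkW (covW2.getD 26 []) = true := by decide +kernel

theorem chk_27 : chkW (covW2.getD 27 []) = true := by decide +kernel

theorem chk_28 : chkW (covW2.getD 28 []) = true := by decide +kernel

theorem chk_29 : chkW (covW2.getD 29 []) = true := by decide +kernel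

theorem chk_30 : chkW (covW2.getD 30 []) = true := by decide +kernel

theorem chk_31 : chkW (covW2.getD 31 []) = true := by decide +kernel

theorem chk_32 : chkW (covW2.getD 32 []) = true := by decide +kernel

theorem chk_33 : chkW (covW2.getD 33 []) = true := by decide +kernel

theorem chk_34 : chkW (covW2.getD 34 []) = true := by decide +kernel

theorem chk_35 : chkW (covW2.getD 35 []) = true := by decide +kernel

theorem part1_ok : ∀ i, 18 ≤ i → i < 36 → chkW (covW2.getD i []) = true := by
  intro i h1 h2
  interval_cases i
  exacts [chk_18, chk_19, chk_20, chk_21, chk_22, chk_23, chk_24, chk_25, chk_26, chk_27, chk_28, chk_29, chk_30, chk_31, chk_32, chk_33, chk_34, chk_35]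

end Cfsg.Agent.Lib.H18.Fi22M.M2
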