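import Cfsg.Agent.Lib.H18.Fi22MM2Net

/-!
# S2053 piece M2 (helper18): kernel checks of the words 36 .. 47 of `covW2`
(one declaration per word and no parallel elaboration: the kernel caches the intermediate big numbers of one
declaration)
-/

set_option Elab.async false
set_option autoImplicit false
set_option maxRecDepth 100000

namespace Cfsg.Agent.Lib.H18.Fi22M.M2

open Cfsg.Agent.Lib.H11.BitNet

open Cfsg.Agent.Lib.H28.Fi22M

theorem chk_36_0 : chkP (covW2.getD 36 []) 0 = true := by decide +kernel
theorem chk_36_1 : chkP (covW2.getD 36 []) 1 = true := by decide +kernel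
theorem chk_36_2 : chkP (covW2.getD 36 []) 2 = true := by decide +kernel
theorem chk_36_3 : chkP (covW2.getD 36 []) 3 = true := by decide +kernel
theorem chk_36_4 : chkP (covW2.getD 36 []) 4 = true := by decide +kernel
theorem chk_36_5 : chkP (covW2.getD 36 []) 5 = true := by decide +kernel
theorem chk_36_6 : chkP (covW2.getD 36 []) 6 = true := by decide +kernel
theorem chk_36_7 : chkP (covW2.getD 36 []) 7 = true := by decide +kernel
theorem chk_36_8 : chkP (covW2.getD 36 []) 8 = true := by decide +kernel
theorem chk_36_9 : chkP (covW2.getD 36 []) 9 = true := by decide +kernel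
theorem chk_36_10 : chkP (covW2.getD 36 []) 10 = true := by decide +kernel
theorem chk_36_11 : chkP (covW2.getD 36 []) 11 = true := by decide +kernel
theorem chk_36_12 : chkP (covW2.getD 36 []) 12 = true := by decide +kernel
theorem chk_36_13 : chkP (covW2.getD 36 []) 13 = true := by decide +kernel
theorem chk_36_14 : chkP (covW2.getD 36 []) 14 = true := by decide +kernel

theorem chk_36 : chkW (covW2.getD 36 []) = true := by
  apply chkW_of_planes
  intro b hb
  interval_cases b
  exacts [chk_36_0, chk_36_1, chk_36_2, chk_36_3, chk_36_4, chk_36_5, chk_36_6, chk_36_7, chk_36_8, chk_36_9, chk_36_10, chk_36_11, chk_36_12, chk_36_13, chk_36_14]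

theorem chk_37_0 : chkP (covW2.getD 37 []) 0 = true := by decide +kernel
theorem chk_37_1 : chkP (covW2.getD 37 []) 1 = true := by decide +kernel
theorem chk_37_2 : chkP (covW2.getD 37 []) 2 = true := by decide +kernel
theorem chk_37_3 : chkP (covW2.getD 37 []) 3 = true := by decide +kernel
theorem chk_37_4 : chkP (covW2.getD 37 []) 4 = true := by decide +kernel
theorem chk_37_5 : chkP (covW2.getD 37 []) 5 = true := by decide +kernel
theorem chk_37_6 : chkP (covW2.getD 37 []) 6 = true := by decide +kernel
theorem chk_37_7 : chkP (covW2.getD 37 []) 7 = true := by decide +kernel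
theorem chk_37_8 : chkP (covW2.getD 37 []) 8 = true := by decide +kernel
theorem chk_37_9 : chkP (covW2.getD 37 []) 9 = true := by decide +kernel
theorem chk_37_10 : chkP (covW2.getD 37 []) 10 = true := by decide +kernel
theorem chk_37_11 : chkP (covW2.getD 37 []) 11 = true := by decide +kernel
theorem chk_37_12 : chkP (covW2.getD 37 []) 12 = true := by decide +kernel
theorem chk_37_13 : chkP (covW2.getD 37 []) 13 = true := by decide +kernel
theorem chk_37_14 : chkP (covW2.getD 37 []) 14 = true := by decide +kernel

theorem chk_37 : chkW (covW2.getD 37 []) = true := by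
  apply chkW_of_planes
  intro b hb
  interval_cases b
  exacts [chk_37_0, chk_37_1, chk_37_2, chk_37_3, chk_37_4, chk_37_5, chk_37_6, chk_37_7, chk_37_8, chk_37_9, chk_37_10, chk_37_11, chk_37_12, chk_37_13, chk_37_14]

theorem chk_38 : chkW (covW2.getD 38 []) = true := by decide +kernel

theorem chk_39 : chkW (covW2.getD 39 []) = true := by decide +kernel

theorem chk_40 : chkW (covW2.getD 40 []) = true := by decide +kernel

theorem chk_41 : chkW (covW2.getD 41 []) = true := by decide +kernel

theorem chk_42 : chkW (covW2.getD 42 []) = true := by decide +kernel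

theorem chk_43 : chkW (covW2.getD 43 []) = true := by decide +kernel

theorem chk_44 : chkW (covW2.getD 44 []) = true := by decide +kernel

theorem chk_45 : chkW (covW2.getD 45 []) = true := by decide +kernel

theorem chk_46 : chkW (covW2.getD 46 []) = true := by decide +kernel

theorem chk_47 : chkW (covW2.getD 47 []) = true := by decide +kernel

theorem part2_ok : ∀ i, 36 ≤ i → i < 48 → chkW (covW2.getD i []) = true := by
  intro i h1 h2
  interval_cases i
  exacts [chk_36, chk_37, chk_38, chk_39, chk_40, chk_41, chk_42, chk_43, chk_44, chk_45, chk_46, chk_47]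

end Cfsg.Agent.Lib.H18.Fi22M.M2
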