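import Cfsg.Agent.Lib.H18.Fi22MM2Net

/-!
# S2053 piece M2 (helper18): kernel checks of the words 48 .. 50 of `covW2`
(one declaration per word and no parallel elaboration: the kernel caches the intermediate big numbers of one
declaration)
-/

set_option Elab.async false
set_option autoImplicit false
set_option maxRecDepth 100000

namespace Cfsg.Agent.Lib.H18.Fi22M.M2

open Cfsg.Agent.Lib.H11.BitNet

open Cfsg.Agent.Lib.H28.Fi22M

theorem chk_48_0 : chkP (covW2.getD 48 []) 0 = true := by decide +kernel
theorem chk_48_1 : chkP (covW2.getD 48 []) 1 = true := by decide +kernel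
theorem chk_48_2 : chkP (covW2.getD 48 []) 2 = true := by decide +kernel
theorem chk_48_3 : chkP (covW2.getD 48 []) 3 = true := by decide +kernel
theorem chk_48_4 : chkP (covW2.getD 48 []) 4 = true := by decide +kernel
theorem chk_48_5 : chkP (covW2.getD 48 []) 5 = true := by decide +kernel
theorem chk_48_6 : chkP (covW2.getD 48 []) 6 = true := by decide +kernel
theorem chk_48_7 : chkP (covW2.getD 48 []) 7 = true := by decide +kernel
theorem chk_48_8 : chkP (covW2.getD 48 []) 8 = true := by decide +kernel
theorem chk_48_9 : chkP (covW2.getD 48 []) 9 = true := by decide +kernel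
theorem chk_48_10 : chkP (covW2.getD 48 []) 10 = true := by decide +kernel
theorem chk_48_11 : chkP (covW2.getD 48 []) 11 = true := by decide +kernel
theorem chk_48_12 : chkP (covW2.getD 48 []) 12 = true := by decide +kernel
theorem chk_48_13 : chkP (covW2.getD 48 []) 13 = true := by decide +kernel
theorem chk_48_14 : chkP (covW2.getD 48 []) 14 = true := by decide +kernel

theorem chk_48 : chkW (covW2.getD 48 []) = true := by
  apply chkW_of_planes
  intro b hb
  interval_cases b
  exacts [chk_48_0, chk_48_1, chk_48_2, chk_48_3, chk_48_4, chk_48_5, chk_48_6, chk_48_7, chk_48_8, chk_48_9, chk_48_10, chk_48_11, chk_48_12, chk_48_13, chk_48_14]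

theorem chk_49_0 : chkP (covW2.getD 49 []) 0 = true := by decide +kernel
theorem chk_49_1 : chkP (covW2.getD 49 []) 1 = true := by decide +kernel
theorem chk_49_2 : chkP (covW2.getD 49 []) 2 = true := by decide +kernel
theorem chk_49_3 : chkP (covW2.getD 49 []) 3 = true := by decide +kernel
theorem chk_49_4 : chkP (covW2.getD 49 []) 4 = true := by decide +kernel
theorem chk_49_5 : chkP (covW2.getD 49 []) 5 = true := by decide +kernel
theorem chk_49_6 : chkP (covW2.getD 49 []) 6 = true := by decide +kernel
theorem chk_49_7 : chkP (covW2.getD 49 []) 7 = true := by decide +kernel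
theorem chk_49_8 : chkP (covW2.getD 49 []) 8 = true := by decide +kernel
theorem chk_49_9 : chkP (covW2.getD 49 []) 9 = true := by decide +kernel
theorem chk_49_10 : chkP (covW2.getD 49 []) 10 = true := by decide +kernel
theorem chk_49_11 : chkP (covW2.getD 49 []) 11 = true := by decide +kernel
theorem chk_49_12 : chkP (covW2.getD 49 []) 12 = true := by decide +kernel
theorem chk_49_13 : chkP (covW2.getD 49 []) 13 = true := by decide +kernel
theorem chk_49_14 : chkP (covW2.getD 49 []) 14 = true := by decide +kernel

theorem chk_49 : chkW (covW2.getD 49 []) = true := by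
  apply chkW_of_planes
  intro b hb
  interval_cases b
  exacts [chk_49_0, chk_49_1, chk_49_2, chk_49_3, chk_49_4, chk_49_5, chk_49_6, chk_49_7, chk_49_8, chk_49_9, chk_49_10, chk_49_11, chk_49_12, chk_49_13, chk_49_14]

theorem chk_50_0 : chkP (covW2.getD 50 []) 0 = true := by decide +kernel
theorem chk_50_1 : chkP (covW2.getD 50 []) 1 = true := by decide +kernel
theorem chk_50_2 : chkP (covW2.getD 50 []) 2 = true := by decide +kernel
theorem chk_50_3 : chkP (covW2.getD 50 []) 3 = true := by decide +kernel
theorem chk_50_4 : chkP (covW2.getD 50 []) 4 = true := by decide +kernel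
theorem chk_50_5 : chkP (covW2.getD 50 []) 5 = true := by decide +kernel
theorem chk_50_6 : chkP (covW2.getD 50 []) 6 = true := by decide +kernel
theorem chk_50_7 : chkP (covW2.getD 50 []) 7 = true := by decide +kernel
theorem chk_50_8 : chkP (covW2.getD 50 []) 8 = true := by decide +kernel
theorem chk_50_9 : chkP (covW2.getD 50 []) 9 = true := by decide +kernel
theorem chk_50_10 : chkP (covW2.getD 50 []) 10 = true := by decide +kernel
theorem chk_50_11 : chkP (covW2.getD 50 []) 11 = true := by decide +kernel
theorem chk_50_12 : chkP (covW2.getD 50 []) 12 = true := by decide +kernel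
theorem chk_50_13 : chkP (covW2.getD 50 []) 13 = true := by decide +kernel
theorem chk_50_14 : chkP (covW2.getD 50 []) 14 = true := by decide +kernel

theorem chk_50 : chkW (covW2.getD 50 []) = true := by
  apply chkW_of_planes
  intro b hb
  interval_cases b
  exacts [chk_50_0, chk_50_1, chk_50_2, chk_50_3, chk_50_4, chk_50_5, chk_50_6, chk_50_7, chk_50_8, chk_50_9, chk_50_10, chk_50_11, chk_50_12, chk_50_13, chk_50_14]

theorem part3_ok : ∀ i, 48 ≤ i → i < 51 → chkW (covW2.getD i []) = true := by
  intro i h1 h2
  interval_cases i
  exacts [chk_48, chk_49, chk_50]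

end Cfsg.Agent.Lib.H18.Fi22M.M2
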