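import Cfsg.Agent.Lib.H18.Fi22MM2Net

/-!
# S2053 piece M2 (helper18): kernel checks of the words 51 .. 53 of `covW2`
(one declaration per word and no parallel elaboration: the kernel caches the intermediate big numbers of one
declaration)
-/

set_option Elab.async false
set_option autoImplicit false
set_option maxRecDepth 100000

namespace Cfsg.Agent.Lib.H18.Fi22M.M2

open Cfsg.Agent.Lib.H11.BitNet

open Cfsg.Agent.Lib.H28.Fi22M

theorem chk_51_0 : chkP (covW2.getD 51 []) 0 = true := by decide +kernel
theorem chk_51_1 : chkP (covW2.getD 51 []) 1 = true := by decide +kernel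
theorem chk_51_2 : chkP (covW2.getD 51 []) 2 = true := by decide +kernel
theorem chk_51_3 : chkP (covW2.getD 51 []) 3 = true := by decide +kernel
theorem chk_51_4 : chkP (covW2.getD 51 []) 4 = true := by decide +kernel
theorem chk_51_5 : chkP (covW2.getD 51 []) 5 = true := by decide +kernel
theorem chk_51_6 : chkP (covW2.getD 51 []) 6 = true := by decide +kernel
theorem chk_51_7 : chkP (covW2.getD 51 []) 7 = true := by decide +kernel
theorem chk_51_8 : chkP (covW2.getD 51 []) 8 = true := by decide +kernel
theorem chk_51_9 : chkP (covW2.getD 51 []) 9 = true := by decide +kernel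
theorem chk_51_10 : chkP (covW2.getD 51 []) 10 = true := by decide +kernel
theorem chk_51_11 : chkP (covW2.getD 51 []) 11 = true := by decide +kernel
theorem chk_51_12 : chkP (covW2.getD 51 []) 12 = true := by decide +kernel
theorem chk_51_13 : chkP (covW2.getD 51 []) 13 = true := by decide +kernel
theorem chk_51_14 : chkP (covW2.getD 51 []) 14 = true := by decide +kernel

theorem chk_51 : chkW (covW2.getD 51 []) = true := by
  apply chkW_of_planes
  intro b hb
  interval_cases b
  exacts [chk_51_0, chk_51_1, chk_51_2, chk_51_3, chk_51_4, chk_51_5, chk_51_6, chk_51_7, chk_51_8, chk_51_9, chk_51_10, chk_51_11, chk_51_12, chk_51_13, chk_51_14]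

theorem chk_52_0 : chkP (covW2.getD 52 []) 0 = true := by decide +kernel
theorem chk_52_1 : chkP (covW2.getD 52 []) 1 = true := by decide +kernel
theorem chk_52_2 : chkP (covW2.getD 52 []) 2 = true := by decide +kernel
theorem chk_52_3 : chkP (covW2.getD 52 []) 3 = true := by decide +kernel
theorem chk_52_4 : chkP (covW2.getD 52 []) 4 = true := by decide +kernel
theorem chk_52_5 : chkP (covW2.getD 52 []) 5 = true := by decide +kernel
theorem chk_52_6 : chkP (covW2.getD 52 []) 6 = true := by decide +kernel
theorem chk_52_7 : chkP (covW2.getD 52 []) 7 = true := by decide +kernel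
theorem chk_52_8 : chkP (covW2.getD 52 []) 8 = true := by decide +kernel
theorem chk_52_9 : chkP (covW2.getD 52 []) 9 = true := by decide +kernel
theorem chk_52_10 : chkP (covW2.getD 52 []) 10 = true := by decide +kernel
theorem chk_52_11 : chkP (covW2.getD 52 []) 11 = true := by decide +kernel
theorem chk_52_12 : chkP (covW2.getD 52 []) 12 = true := by decide +kernel
theorem chk_52_13 : chkP (covW2.getD 52 []) 13 = true := by decide +kernel
theorem chk_52_14 : chkP (covW2.getD 52 []) 14 = true := by decide +kernel

theorem chk_52 : chkW (covW2.getD 52 []) = true := by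
  apply chkW_of_planes
  intro b hb
  interval_cases b
  exacts [chk_52_0, chk_52_1, chk_52_2, chk_52_3, chk_52_4, chk_52_5, chk_52_6, chk_52_7, chk_52_8, chk_52_9, chk_52_10, chk_52_11, chk_52_12, chk_52_13, chk_52_14]

theorem chk_53_0 : chkP (covW2.getD 53 []) 0 = true := by decide +kernel
theorem chk_53_1 : chkP (covW2.getD 53 []) 1 = true := by decide +kernel
theorem chk_53_2 : chkP (covW2.getD 53 []) 2 = true := by decide +kernel
theorem chk_53_3 : chkP (covW2.getD 53 []) 3 = true := by decide +kernel
theorem chk_53_4 : chkP (covW2.getD 53 []) 4 = true := by decide +kernel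
theorem chk_53_5 : chkP (covW2.getD 53 []) 5 = true := by decide +kernel
theorem chk_53_6 : chkP (covW2.getD 53 []) 6 = true := by decide +kernel
theorem chk_53_7 : chkP (covW2.getD 53 []) 7 = true := by decide +kernel
theorem chk_53_8 : chkP (covW2.getD 53 []) 8 = true := by decide +kernel
theorem chk_53_9 : chkP (covW2.getD 53 []) 9 = true := by decide +kernel
theorem chk_53_10 : chkP (covW2.getD 53 []) 10 = true := by decide +kernel
theorem chk_53_11 : chkP (covW2.getD 53 []) 11 = true := by decide +kernel
theorem chk_53_12 : chkP (covW2.getD 53 []) 12 = true := by decide +kernel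
theorem chk_53_13 : chkP (covW2.getD 53 []) 13 = true := by decide +kernel
theorem chk_53_14 : chkP (covW2.getD 53 []) 14 = true := by decide +kernel

theorem chk_53 : chkW (covW2.getD 53 []) = true := by
  apply chkW_of_planes
  intro b hb
  interval_cases b
  exacts [chk_53_0, chk_53_1, chk_53_2, chk_53_3, chk_53_4, chk_53_5, chk_53_6, chk_53_7, chk_53_8, chk_53_9, chk_53_10, chk_53_11, chk_53_12, chk_53_13, chk_53_14]

theorem part4_ok : ∀ i, 51 ≤ i → i < 54 → chkW (covW2.getD i []) = true := by
  intro i h1 h2
  interval_cases i
  exacts [chk_51, chk_52, chk_53]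

end Cfsg.Agent.Lib.H18.Fi22M.M2
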