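import Cfsg.Agent.Lib.H18.Fi22MM2Net

/-!
# S2053 piece M2 (helper18): kernel checks of the words 54 .. 57 of `covW2`
(one declaration per word and no parallel elaboration: the kernel caches the intermediate big numbers of one
declaration)
-/

set_option Elab.async false
set_option autoImplicit false
set_option maxRecDepth 100000

namespace Cfsg.Agent.Lib.H18.Fi22M.M2

open Cfsg.Agent.Lib.H11.BitNet

open Cfsg.Agent.Lib.H28.Fi22M

theorem chk_54_0 : chkP (covW2.getD 54 []) 0 = true := by decide +kernel
theorem chk_54_1 : chkP (covW2.getD 54 []) 1 = true := by decide +kernel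
theorem chk_54_2 : chkP (covW2.getD 54 []) 2 = true := by decide +kernel
theorem chk_54_3 : chkP (covW2.getD 54 []) 3 = true := by decide +kernel
theorem chk_54_4 : chkP (covW2.getD 54 []) 4 = true := by decide +kernel
theorem chk_54_5 : chkP (covW2.getD 54 []) 5 = true := by decide +kernel
theorem chk_54_6 : chkP (covW2.getD 54 []) 6 = true := by decide +kernel
theorem chk_54_7 : chkP (covW2.getD 54 []) 7 = true := by decide +kernel
theorem chk_54_8 : chkP (covW2.getD 54 []) 8 = true := by decide +kernel
theorem chk_54_9 : chkP (covW2.getD 54 []) 9 = true := by decide +kernel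
theorem chk_54_10 : chkP (covW2.getD 54 []) 10 = true := by decide +kernel
theorem chk_54_11 : chkP (covW2.getD 54 []) 11 = true := by decide +kernel
theorem chk_54_12 : chkP (covW2.getD 54 []) 12 = true := by decide +kernel
theorem chk_54_13 : chkP (covW2.getD 54 []) 13 = true := by decide +kernel
theorem chk_54_14 : chkP (covW2.getD 54 []) 14 = true := by decide +kernel

theorem chk_54 : chkW (covW2.getD 54 []) = true := by
  apply chkW_of_planes
  intro b hb
  interval_cases b
  exacts [chk_54_0, chk_54_1, chk_54_2, chk_54_3, chk_54_4, chk_54_5, chk_54_6, chk_54_7, chk_54_8, chk_54_9, chk_54_10, chk_54_11, chk_54_12, chk_54_13, chk_54_14]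

theorem chk_55_0 : chkP (covW2.getD 55 []) 0 = true := by decide +kernel
theorem chk_55_1 : chkP (covW2.getD 55 []) 1 = true := by decide +kernel
theorem chk_55_2 : chkP (covW2.getD 55 []) 2 = true := by decide +kernel
theorem chk_55_3 : chkP (covW2.getD 55 []) 3 = true := by decide +kernel
theorem chk_55_4 : chkP (covW2.getD 55 []) 4 = true := by decide +kernel
theorem chk_55_5 : chkP (covW2.getD 55 []) 5 = true := by decide +kernel
theorem chk_55_6 : chkP (covW2.getD 55 []) 6 = true := by decide +kernel
theorem chk_55_7 : chkP (covW2.getD 55 []) 7 = true := by decide +kernel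
theorem chk_55_8 : chkP (covW2.getD 55 []) 8 = true := by decide +kernel
theorem chk_55_9 : chkP (covW2.getD 55 []) 9 = true := by decide +kernel
theorem chk_55_10 : chkP (covW2.getD 55 []) 10 = true := by decide +kernel
theorem chk_55_11 : chkP (covW2.getD 55 []) 11 = true := by decide +kernel
theorem chk_55_12 : chkP (covW2.getD 55 []) 12 = true := by decide +kernel
theorem chk_55_13 : chkP (covW2.getD 55 []) 13 = true := by decide +kernel
theorem chk_55_14 : chkP (covW2.getD 55 []) 14 = true := by decide +kernel

theorem chk_55 : chkW (covW2.getD 55 []) = true := by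
  apply chkW_of_planes
  intro b hb
  interval_cases b
  exacts [chk_55_0, chk_55_1, chk_55_2, chk_55_3, chk_55_4, chk_55_5, chk_55_6, chk_55_7, chk_55_8, chk_55_9, chk_55_10, chk_55_11, chk_55_12, chk_55_13, chk_55_14]

theorem chk_56_0 : chkP (covW2.getD 56 []) 0 = true := by decide +kernel
theorem chk_56_1 : chkP (covW2.getD 56 []) 1 = true := by decide +kernel
theorem chk_56_2 : chkP (covW2.getD 56 []) 2 = true := by decide +kernel
theorem chk_56_3 : chkP (covW2.getD 56 []) 3 = true := by decide +kernel
theorem chk_56_4 : chkP (covW2.getD 56 []) 4 = true := by decide +kernel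
theorem chk_56_5 : chkP (covW2.getD 56 []) 5 = true := by decide +kernel
theorem chk_56_6 : chkP (covW2.getD 56 []) 6 = true := by decide +kernel
theorem chk_56_7 : chkP (covW2.getD 56 []) 7 = true := by decide +kernel
theorem chk_56_8 : chkP (covW2.getD 56 []) 8 = true := by decide +kernel
theorem chk_56_9 : chkP (covW2.getD 56 []) 9 = true := by decide +kernel
theorem chk_56_10 : chkP (covW2.getD 56 []) 10 = true := by decide +kernel
theorem chk_56_11 : chkP (covW2.getD 56 []) 11 = true := by decide +kernel
theorem chk_56_12 : chkP (covW2.getD 56 []) 12 = true := by decide +kernel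
theorem chk_56_13 : chkP (covW2.getD 56 []) 13 = true := by decide +kernel
theorem chk_56_14 : chkP (covW2.getD 56 []) 14 = true := by decide +kernel

theorem chk_56 : chkW (covW2.getD 56 []) = true := by
  apply chkW_of_planes
  intro b hb
  interval_cases b
  exacts [chk_56_0, chk_56_1, chk_56_2, chk_56_3, chk_56_4, chk_56_5, chk_56_6, chk_56_7, chk_56_8, chk_56_9, chk_56_10, chk_56_11, chk_56_12, chk_56_13, chk_56_14]

theorem chk_57_0 : chkP (covW2.getD 57 []) 0 = true := by decide +kernel
theorem chk_57_1 : chkP (covW2.getD 57 []) 1 = true := by decide +kernel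
theorem chk_57_2 : chkP (covW2.getD 57 []) 2 = true := by decide +kernel
theorem chk_57_3 : chkP (covW2.getD 57 []) 3 = true := by decide +kernel
theorem chk_57_4 : chkP (covW2.getD 57 []) 4 = true := by decide +kernel
theorem chk_57_5 : chkP (covW2.getD 57 []) 5 = true := by decide +kernel
theorem chk_57_6 : chkP (covW2.getD 57 []) 6 = true := by decide +kernel
theorem chk_57_7 : chkP (covW2.getD 57 []) 7 = true := by decide +kernel
theorem chk_57_8 : chkP (covW2.getD 57 []) 8 = true := by decide +kernel
theorem chk_57_9 : chkP (covW2.getD 57 []) 9 = true := by decide +kernel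
theorem chk_57_10 : chkP (covW2.getD 57 []) 10 = true := by decide +kernel
theorem chk_57_11 : chkP (covW2.getD 57 []) 11 = true := by decide +kernel
theorem chk_57_12 : chkP (covW2.getD 57 []) 12 = true := by decide +kernel
theorem chk_57_13 : chkP (covW2.getD 57 []) 13 = true := by decide +kernel
theorem chk_57_14 : chkP (covW2.getD 57 []) 14 = true := by decide +kernel

theorem chk_57 : chkW (covW2.getD 57 []) = true := by
  apply chkW_of_planes
  intro b hb
  interval_cases b
  exacts [chk_57_0, chk_57_1, chk_57_2, chk_57_3, chk_57_4, chk_57_5, chk_57_6, chk_57_7, chk_57_8, chk_57_9, chk_57_10, chk_57_11, chk_57_12, chk_57_13, chk_57_14]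

theorem part5_ok : ∀ i, 54 ≤ i → i < 58 → chkW (covW2.getD i []) = true := by
  intro i h1 h2
  interval_cases i
  exacts [chk_54, chk_55, chk_56, chk_57]

end Cfsg.Agent.Lib.H18.Fi22M.M2
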