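import Cfsg.Agent.Lib.H18.Fi22MM2Chk0
import Cfsg.Agent.Lib.H18.Fi22MM2Chk1
import Cfsg.Agent.Lib.H18.Fi22MM2Chk2
import Cfsg.Agent.Lib.H18.Fi22MM2Chk3
import Cfsg.Agent.Lib.H18.Fi22MM2Chk4
import Cfsg.Agent.Lib.H18.Fi22MM2Chk5

/-!
# S2053 piece M2 (helper18): `z2 ≠ 1` in the presented double cover of `Fi₂₂`

The nine generators are mapped to the involutions `mm x` of `Equiv.Perm ℕ` (data of helper28,
`tools/fi22m_h28/perm2.txt.xz`); every word of `covW2` is trivial there, and the word `zw2` is not.
-/

set_option Elab.async false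
set_option autoImplicit false
set_option maxRecDepth 100000

namespace Cfsg.Agent.Lib.H18.Fi22M.M2

open Cfsg.Agent.Lib.H11.BitNet

open Cfsg.Agent.Lib.H28.Fi22M
open Cfsg.Agent.Lib.H17.Fi22Glue (gen idx rels relW gen_idx idx_lt)
open Cfsg.Agent.Lib.H14.SuzM (wv)

theorem covW_length : covW2.length = 58 := by decide

theorem all_ok : ∀ i < 58, chkW (covW2.getD i []) = true := by
  intro i hi
  by_cases h0 : i < 18
  · exact part0_ok i (by omega) h0
  by_cases h1 : i < 36
  · exact part1_ok i (by omega) h1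
  by_cases h2 : i < 48
  · exact part2_ok i (by omega) h2
  by_cases h3 : i < 51
  · exact part3_ok i (by omega) h3
  by_cases h4 : i < 54
  · exact part4_ok i (by omega) h4
  exact part5_ok i (by omega) hi

theorem wv_mm_eq_one : ∀ w ∈ covW2, wv mm w = 1 := by
  intro w hw
  obtain ⟨i, hi, rfl⟩ := List.mem_iff_getElem.1 hw
  have h := all_ok i (by rw [← covW_length]; exact hi)
  rw [List.getD_eq_getElem _ _ hi] at h
  exact chkW_sound _ h

theorem chk_z : chkW zw2 = false := by decide +kernel

theorem wv_mm_z : wv mm zw2 ≠ 1 := chkW_ne _ chk_z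

theorem mk_word (w : List ℕ) :
    (FreeGroup.mk (w.map fun x => (gen x, true)) : FreeGroup Cfsg.Spor.Fi22.Gen) =
      (w.map fun x => FreeGroup.of (gen x)).prod := by
  induction w with
  | nil => rfl
  | cons x w ih =>
    rw [List.map_cons, List.map_cons, List.prod_cons, ← ih]
    rfl

/-- the representation of the presented cover -/
noncomputable def piM : PC2 →* Equiv.Perm ℕ :=
  PresentedGroup.toGroup (f := fun u => mm (idx u)) (by
    rintro r ⟨w, hw, rfl⟩
    rw [mk_word, map_list_prod, List.map_map]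
    have h := wv_mm_eq_one w hw
    unfold wv at h
    rw [← h]
    congr 1
    apply List.map_congr_left
    intro x _
    show FreeGroup.lift (fun u => mm (idx u)) (FreeGroup.of (gen x)) = mm x
    rw [FreeGroup.lift_apply_of]
    exact mm_idx_gen x)

theorem piM_pc (x : ℕ) : piM (pc2 x) = mm x := by
  unfold piM pc2
  rw [PresentedGroup.toGroup.of]
  exact mm_idx_gen x

theorem piM_wv (w : List ℕ) : piM (wv pc2 w) = wv mm w := by
  unfold wv
  rw [map_list_prod, List.map_map]
  congr 1
  apply List.map_congr_left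
  intro x _
  exact piM_pc x

/-- **M2**: the central element of the presented cover is not trivial -/
theorem z2_ne_one : z2 ≠ 1 := by
  intro h
  apply wv_mm_z
  have h1 := congrArg piM h
  rw [map_one] at h1
  rw [← h1]
  unfold z2
  rw [piM_wv]

end Cfsg.Agent.Lib.H18.Fi22M.M2

namespace Cfsg.Agent.Lib.H18.Fi22M

/-- **M2** (exact signature of `tools/blueprints/S2053_sigs2.lean`) -/
theorem z2_ne_one : Cfsg.Agent.Lib.H28.Fi22M.z2 ≠ 1 := M2.z2_ne_one

end Cfsg.Agent.Lib.H18.Fi22M

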