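import Cfsg.Agent.Lib.H18.Fi22MM2Net

/-!
# S2053 piece M2 (helper18): kernel checks of the words 0 .. 17 of `covW2`
(one declaration per word and no parallel elaboration: the kernel caches the intermediate big numbers of one
declaration)
-/

set_option Elab.async false
set_option autoImplicit false
set_option maxRecDepth 100000

namespace Cfsg.Agent.Lib.H18.Fi22M.M2

open Cfsg.Agent.Lib.H11.BitNet

open Cfsg.Agent.Lib.H28.Fi22M

theorem chk_0 : chkW (covW2.getD 0 []) = true := by decide +kernel

theorem chk_1 : chkW (covW2.getD 1 []) = true := by decide +kernel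

theorem chk_2 : chkW (covW2.getD 2 []) = true := by decide +kernel

theorem chk_3 : chkW (covW2.getD 3 []) = true := by decide +kernel

theorem chk_4 : chkW (covW2.getD 4 []) = true := by decide +kernel

theorem chk_5 : chkW (covW2.getD 5 []) = true := by decide +kernel

theorem chk_6 : chkW (covW2.getD 6 []) = true := by decide +kernel

theorem chk_7 : chkW (covW2.getD 7 []) = true := by decide +kernel

theorem chk_8 : chkW (covW2.getD 8 []) = true := by decide +kernel

theorem chk_9 : chkW (covW2.getD 9 []) = true := by decide +kernel

theorem chk_10 : chkW (covW2.getD 10 []) = true := by decide +kernel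

theorem chk_11 : chkW (covW2.getD 11 []) = true := by decide +kernel

theorem chk_12 : chkW (covW2.getD 12 []) = true := by decide +kernel

theorem chk_13 : chkW (covW2.getD 13 []) = true := by decide +kernel

theorem chk_14 : chkW (covW2.getD 14 []) = true := by decide +kernel

theorem chk_15 : chkW (covW2.getD 15 []) = true := by decide +kernel

theorem chk_16 : chkW (covW2.getD 16 []) = true := by decide +kernel

theorem chk_17 : chkW (covW2.getD 17 []) = true := by decide +kernel

theorem part0_ok : ∀ i, 0 ≤ i → i < 18 → chkW (covW2.getD i []) = true := by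
  intro i h1 h2
  interval_cases i
  exacts [chk_0, chk_1, chk_2, chk_3, chk_4, chk_5, chk_6, chk_7, chk_8, chk_9, chk_10, chk_11, chk_12, chk_13, chk_14, chk_15, chk_16, chk_17]

end Cfsg.Agent.Lib.H18.Fi22M.M2
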