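import Cfsg.Agent.Lib.H18.Fi22MM2Net0
import Cfsg.Agent.Lib.H18.Fi22MM2Net1
import Cfsg.Agent.Lib.H18.Fi22MM2Net2
import Cfsg.Agent.Lib.H18.Fi22MM2Net3
import Cfsg.Agent.Lib.H18.Fi22MM2Net4
import Cfsg.Agent.Lib.H18.Fi22MM2Net5
import Cfsg.Agent.Lib.H18.Fi22MM2Net6
import Cfsg.Agent.Lib.H18.Fi22MM2Net7
import Cfsg.Agent.Lib.H18.Fi22MM2Net8
import Cfsg.Agent.Lib.H28.Fi22M.Cov

/-!
# S2053 piece M2 (helper18): the permutation model of the presented double cover of `Fi₂₂` and the word checker

Each of the nine letters is a product of delta-swap involutions on `2 ^ 15` slots (`Lib/H11/BitNet`, helper11); the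
words are checked on the `15` identity bit planes by native big-number operations in the kernel.
-/

set_option autoImplicit false
set_option maxRecDepth 100000

namespace Cfsg.Agent.Lib.H18.Fi22M.M2

open Cfsg.Agent.Lib.H11.BitNet

open Cfsg.Agent.Lib.H28.Fi22M
open Cfsg.Agent.Lib.H17.Fi22Glue (gen idx rels relW gen_idx idx_lt)
open Cfsg.Agent.Lib.H14.SuzM (wv)

/-- the stages of a letter -/
def lst : ℕ → List (ℕ × ℕ)
  | 0 => s0 | 1 => s1 | 2 => s2 | 3 => s3 | 4 => s4 | 5 => s5 | 6 => s6 | 7 => s7 | 8 => s8 | _ => []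

/-- the stages of a letter, through the generator names -/
def lstG (x : ℕ) : List (ℕ × ℕ) := lst (idx (gen x))

/-- the stages of a word -/
def wst : List ℕ → List (ℕ × ℕ)
  | [] => []
  | x :: w => lstG x ++ wst w

theorem lst_good (x : ℕ) : ∀ s ∈ lst x, Good (2 ^ 15) s := by
  unfold lst
  split
  · exact s0_good
  · exact s1_good
  · exact s2_good
  · exact s3_good
  · exact s4_good
  · exact s5_good
  · exact s6_good
  · exact s7_good
  · exact s8_good
  · intro s hs; exact absurd hs (List.not_mem_nil)

theorem wst_good (w : List ℕ) : ∀ s ∈ wst w, Good (2 ^ 15) s := by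
  induction w with
  | nil => intro s hs; exact absurd hs (List.not_mem_nil)
  | cons x w ih =>
    intro s hs
    rcases List.mem_append.mp hs with h | h
    · exact lst_good _ s h
    · exact ih s h

/-- the nine generators of the model -/
noncomputable def mm (x : ℕ) : Equiv.Perm ℕ := netPerm (lstG x)

theorem mm_idx_gen (x : ℕ) : mm (idx (gen x)) = mm x := by
  unfold mm lstG
  rw [gen_idx]

theorem wv_eq (w : List ℕ) : wv mm w = netPerm (wst w) := by
  induction w with
  | nil => rfl
  | cons x w ih =>
    have h1 : wv mm (x :: w) = mm x * wv mm w := by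
      unfold wv
      rw [List.map_cons, List.prod_cons]
    rw [h1, ih]
    exact (netPerm_append _ _).symm

/-- the check of one relator word -/
noncomputable def chkW (w : List ℕ) : Bool := chkEq 15 (wst w) []

theorem chkW_sound (w : List ℕ) (h : chkW w = true) : wv mm w = 1 := by
  rw [wv_eq]
  exact netPerm_eq_of_chk 15 _ [] (wst_good _) (fun _ hs => absurd hs (List.not_mem_nil)) h

/-- the check of one relator word on one bit plane -/
noncomputable def chkP (w : List ℕ) (b : ℕ) : Bool :=
  force (idPlane b 15) fun v => Nat.beq (evalPlane (wst w) v) v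

theorem chkW_of_planes (w : List ℕ) (h : ∀ b < 15, chkP w b = true) : chkW w = true := by
  unfold chkW chkEq planes
  rw [List.all_eq_true]
  intro v hv
  obtain ⟨b, hb, rfl⟩ := List.mem_map.1 hv
  have h1 := h b (List.mem_range.1 hb)
  unfold chkP at h1
  rw [force_eq] at h1 ⊢
  exact h1

theorem chkW_ne (w : List ℕ) (h : chkW w = false) : wv mm w ≠ 1 := by
  rw [wv_eq]
  exact netPerm_ne_of_chk 15 _ [] (fun s hs => (wst_good w s hs).1) (fun _ hs => absurd hs (List.not_mem_nil)) h

end Cfsg.Agent.Lib.H18.Fi22M.M2
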