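import Cfsg.Agent.S4451
import Cfsg.Agent.Lib.H24.GlaubFPF3
import Cfsg.Agent.Lib.H24.CharAbelian

/-!
# Degree congruence for a fixed-point-free cyclic coprime action (helper18)

`card_dvd_degree_sub_sign`: `Γ = G S`, `G` normal, `S` cyclic nontrivial of order coprime to `|G|`,
every nonidentity element of `S` has the same abelian centralizer `C` in `G`; then for every
`S`-invariant irreducible character `χ` of `G`, `|S|` divides `χ(1) - ε` for a sign `ε`.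
(Packaging of helper24's S4451 with the existence of the canonical extension and of the
Glauberman correspondent.)
-/

set_option autoImplicit false

namespace Cfsg.Agent.Lib.H18

open Cfsg Cfsg.Agent.Lib.H24 Cfsg.Agent.Lib.H24.Glaub

theorem card_dvd_degree_sub_sign {Γ : Type*} [Group Γ] [Fintype Γ] (G S : Subgroup Γ)
    (hnorm : ∀ s ∈ S, ∀ g ∈ G, s * g * s⁻¹ ∈ G) (hcop : (Nat.card G).Coprime (Nat.card S))
    (htop : G ⊔ S = ⊤) (hcyc : IsCyclic S) (hS1 : S ≠ ⊥)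
    (C : Subgroup Γ) (hfpf : ∀ x ∈ S, x ≠ 1 → G ⊓ Subgroup.centralizer ({x} : Set Γ) = C)
    (hCcomm : ∀ a ∈ C, ∀ b ∈ C, a * b = b * a)
    (χ : Cfsg.IrrCharacter G) (d : ℕ) (hd : (χ : G → ℂ) 1 = d)
    (hinv : ∀ s ∈ S, ∀ g g' : G, (g' : Γ) = s * g * s⁻¹ → (χ : G → ℂ) g' = (χ : G → ℂ) g) :
    ∃ ε : ℤ, (ε = 1 ∨ ε = -1) ∧ (Nat.card S : ℤ) ∣ (d : ℤ) - ε := by
  classical
  haveI : Fintype G := Fintype.ofFinite _
  haveI : Fintype C := Fintype.ofFinite _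
  obtain ⟨g₀, hg₀⟩ := hcyc.exists_generator
  obtain ⟨s₀, hs₀def⟩ : ∃ s₀ : Γ, s₀ = (g₀ : Γ) := ⟨_, rfl⟩
  have hs₀S : s₀ ∈ S := by rw [hs₀def]; exact g₀.2
  have hs₀ : Subgroup.zpowers s₀ = S := by
    ext x
    constructor
    · intro hx
      obtain ⟨k, rfl⟩ := Subgroup.mem_zpowers_iff.mp hx
      exact S.zpow_mem hs₀S k
    · intro hx
      obtain ⟨k, hk⟩ := Subgroup.mem_zpowers_iff.mp (hg₀ ⟨x, hx⟩)
      rw [Subgroup.mem_zpowers_iff]
      refine ⟨k, ?_⟩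
      have := congrArg (Subtype.val : S → Γ) hk
      rw [Subgroup.coe_zpow] at this
      rw [hs₀def]
      exact this
  have hord : orderOf s₀ = Nat.card S := by
    rw [← Nat.card_zpowers, hs₀]
  have hs₀ne : s₀ ≠ 1 := by
    intro h
    apply hS1
    rw [← hs₀, h, Subgroup.zpowers_one_eq_bot]
  haveI hGn : G.Normal := normal_of_sup_eq_top G S hnorm htop
  have hset : CycSetup G s₀ :=
    cycSetup_of_sup_eq_top G s₀ (by rw [hs₀]; exact htop) (by rw [hord]; exact hcop)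
  have hsinv : SInv G s₀ (χ : G → ℂ) := by
    intro n
    exact hinv s₀ hs₀S n ⟨s₀ * n * s₀⁻¹, hGn.conj_mem n n.2 s₀⟩ rfl
  obtain ⟨χh, hχh, hres, hdet⟩ := hset.exists_canonical χ.2 hsinv
  have hirr : Cfsg.IsIrrCharacter G (fun n : G => χh n) := by
    have : (fun n : G => χh n) = (χ : G → ℂ) := funext hres
    rw [this]
    exact χ.2
  have hCeq : fixedSub G s₀ = C := hfpf s₀ hs₀S hs₀ne
  have hgen : ∀ k : ℕ, k.Coprime (orderOf s₀) → ∀ c ∈ C, χh (c * s₀ ^ k) = χh (c * s₀) := by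
    intro k hk c hc
    exact hset.canonical_gen hχh hirr hdet hk (by rw [hCeq]; exact hc)
  obtain ⟨β, ε₀, hε₀, hβ⟩ := exists_sign_irr_gen' C hCeq hset.cop hχh hirr hgen
  have hC : C = G ⊓ Subgroup.centralizer (S : Set Γ) := by
    rw [← hs₀, inf_centralizer_zpowers, hCeq]
  have hCG : C ≤ G := by rw [hC]; exact inf_le_left
  have hβ' : ∀ c : C, ∀ s : Γ, Subgroup.zpowers s = S →
      χh ((c : Γ) * s) = (ε₀ : ℂ) * (β : C → ℂ) c := by
    intro c s hs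
    obtain ⟨k, hk, rfl⟩ := exists_pow_of_zpowers_eq (hs.trans hs₀.symm)
    rw [hgen k hk c c.2]
    exact hβ c
  obtain ⟨ε, hε, -, -, hdvd⟩ := Cfsg.Agent.S4451.result G S hnorm hcop htop hcyc C hC hCG hfpf χ
    hinv ⟨χh, hχh⟩ (fun g => hres g) (by rw [← hord]; exact hdet) β ε₀ hε₀ hβ'
  refine ⟨ε, hε, ?_⟩
  have hdegχ : Cfsg.charDegree (χ : G → ℂ) = d :=
    Cfsg.Agent.Lib.H23.charDegree_eq_of_apply_one hd
  have hβ1 : (β : C → ℂ) 1 = ((1 : ℕ) : ℂ) := by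
    rw [irr_apply_one_of_comm (fun a b => Subtype.ext (hCcomm a a.2 b b.2)) β]
    simp
  have hdegβ : Cfsg.charDegree (β : C → ℂ) = 1 :=
    Cfsg.Agent.Lib.H23.charDegree_eq_of_apply_one hβ1
  rw [hdegχ, hdegβ] at hdvd
  simpa using hdvd

end Cfsg.Agent.Lib.H18
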