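import Cfsg.Agent.Lib.H18.FpfCyclicDegree
import Cfsg.Agent.Lib.H23.RelMGroup

/-!
# Degree congruence for a fixed-point-free cyclic coprime action, ambient form (helper18)

`card_dvd_degree_sub_sign_amb`: `K, S ≤ Γ`, `S` normalises `K`, `S` cyclic nontrivial of order
coprime to `|K|`, every nonidentity element of `S` has the same abelian centralizer `C` in `K`;
then for every `S`-invariant irreducible character `φ` of `K`, `|S|` divides `φ(1) - ε` for a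
sign `ε`.  (No assumption `K ⊔ S = ⊤`.)
-/

set_option autoImplicit false

namespace Cfsg.Agent.Lib.H18

open Cfsg

theorem card_dvd_degree_sub_sign_amb {Γ : Type*} [Group Γ] [Finite Γ] (K S : Subgroup Γ)
    (hnormKS : ∀ s ∈ S, ∀ g ∈ K, s * g * s⁻¹ ∈ K) (hcop : (Nat.card K).Coprime (Nat.card S))
    (hcyc : IsCyclic S) (hS1 : S ≠ ⊥)
    (C : Subgroup Γ) (hfix : ∀ x ∈ S, x ≠ 1 → K ⊓ Subgroup.centralizer ({x} : Set Γ) = C)
    (hCcomm : ∀ a ∈ C, ∀ b ∈ C, a * b = b * a)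
    (φ : K → ℂ) (hφ : Cfsg.IsIrrCharacter K φ) (d : ℕ) (hd : φ 1 = d)
    (hinv : ∀ s ∈ S, ∀ g g' : K, (g' : Γ) = s * g * s⁻¹ → φ g' = φ g) :
    ∃ ε : ℤ, (ε = 1 ∨ ε = -1) ∧ (Nat.card S : ℤ) ∣ (d : ℤ) - ε := by
  classical
  have hPle : K ≤ K ⊔ S := le_sup_left
  have hHle : S ≤ K ⊔ S := le_sup_right
  haveI : Fintype ↥(K ⊔ S) := Fintype.ofFinite _
  set G' : Subgroup ↥(K ⊔ S) := K.subgroupOf (K ⊔ S) with hG'
  set S' : Subgroup ↥(K ⊔ S) := S.subgroupOf (K ⊔ S) with hS'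
  set e : ↥G' ≃* ↥K := Subgroup.subgroupOfEquivOfLe hPle with he
  set eS : ↥S' ≃* ↥S := Subgroup.subgroupOfEquivOfLe hHle with heS
  have hcardG : Nat.card G' = Nat.card K := Nat.card_congr e.toEquiv
  have hcardS : Nat.card S' = Nat.card S := Nat.card_congr eS.toEquiv
  have hnorm : ∀ s ∈ S', ∀ g ∈ G', s * g * s⁻¹ ∈ G' := by
    intro s hs g hg
    rw [hS', Subgroup.mem_subgroupOf] at hs
    rw [hG', Subgroup.mem_subgroupOf] at hg ⊢
    exact hnormKS _ hs _ hg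
  have hcop' : (Nat.card G').Coprime (Nat.card S') := by
    rw [hcardG, hcardS]
    exact hcop
  have htop : G' ⊔ S' = ⊤ := by
    rw [hG', hS', ← Subgroup.subgroupOf_sup hPle hHle, Subgroup.subgroupOf_self]
  have hcyc' : IsCyclic S' := by
    haveI := hcyc
    exact isCyclic_of_surjective eS.symm.toMonoidHom eS.symm.surjective
  have hS1' : S' ≠ ⊥ := by
    intro h
    apply hS1
    rw [eq_bot_iff]
    intro x hx
    have h1 : (⟨x, hHle hx⟩ : ↥(K ⊔ S)) ∈ S' := by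
      rw [hS', Subgroup.mem_subgroupOf]; exact hx
    rw [h, Subgroup.mem_bot] at h1
    rw [Subgroup.mem_bot]
    exact congrArg Subtype.val h1
  set C' : Subgroup ↥(K ⊔ S) := C.subgroupOf (K ⊔ S) with hC'
  have hfpf : ∀ x ∈ S', x ≠ 1 → G' ⊓ Subgroup.centralizer ({x} : Set ↥(K ⊔ S)) = C' := by
    intro x hx hx1
    rw [hS', Subgroup.mem_subgroupOf] at hx
    have hx1' : (x : Γ) ≠ 1 := fun h => hx1 (Subtype.ext h)
    ext y
    rw [Subgroup.mem_inf, hG', Subgroup.mem_subgroupOf, hC', Subgroup.mem_subgroupOf,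
      ← hfix (x : Γ) hx hx1', Subgroup.mem_inf, Subgroup.mem_centralizer_singleton_iff,
      Subgroup.mem_centralizer_singleton_iff]
    constructor
    · rintro ⟨h1, h2⟩
      exact ⟨h1, congrArg Subtype.val h2⟩
    · rintro ⟨h1, h2⟩
      exact ⟨h1, Subtype.ext h2⟩
  have hCcomm' : ∀ a ∈ C', ∀ b ∈ C', a * b = b * a := by
    intro a ha b hb
    rw [hC', Subgroup.mem_subgroupOf] at ha hb
    apply Subtype.ext
    exact hCcomm _ ha _ hb
  have hχirr : Cfsg.IsIrrCharacter G' (φ ∘ e) :=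
    Cfsg.Agent.Lib.H23.isIrrCharacter_comp_mulEquiv e hφ
  have hd' : (⟨φ ∘ e, hχirr⟩ : Cfsg.IrrCharacter G').1 1 = (d : ℂ) := by
    show φ (e 1) = _
    rw [map_one, hd]
  have hinv' : ∀ s ∈ S', ∀ g g' : G', (g' : ↥(K ⊔ S)) = s * g * s⁻¹ →
      (⟨φ ∘ e, hχirr⟩ : Cfsg.IrrCharacter G').1 g' =
        (⟨φ ∘ e, hχirr⟩ : Cfsg.IrrCharacter G').1 g := by
    intro s hs g g' hgg
    show φ (e g') = φ (e g)
    rw [hS', Subgroup.mem_subgroupOf] at hs
    apply hinv (s : Γ) hs (e g) (e g')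
    have := congrArg (Subtype.val : ↥(K ⊔ S) → Γ) hgg
    exact this
  obtain ⟨ε, hε, hdvd⟩ := card_dvd_degree_sub_sign G' S' hnorm hcop' htop hcyc' hS1' C' hfpf
    hCcomm' ⟨φ ∘ e, hχirr⟩ d hd' hinv'
  rw [hcardS] at hdvd
  exact ⟨ε, hε, hdvd⟩

end Cfsg.Agent.Lib.H18
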