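import Mathlib
import Cfsg.Agent.Lib.H18.Derangements
import Cfsg.Agent.Lib.H21.ClassSize

/-!
# The regular normal subgroup of a sharply 2-transitive finite group (helper18)

For a finite group `G` acting transitively on `Ω` (`|Ω| = n ≥ 2`) such that non-identity elements fix
at most one point and `|G| = n (n - 1)`, the derangements together with `1` form the centralizer of
any derangement; this is an abelian normal regular subgroup of prime exponent.  No use of
Frobenius' theorem.
-/

set_option autoImplicit false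

namespace Cfsg.Agent.Lib.H18

open MulAction

/-- Hypotheses satisfied by a finite sharply 2-transitive action. -/
structure SharpTwo (G Ω : Type*) [Group G] [MulAction G Ω] : Prop where
  trans : IsPretransitive G Ω
  free2 : ∀ (g : G) (a b : Ω), a ≠ b → g • a = a → g • b = b → g = 1
  card : Nat.card G = Nat.card Ω * (Nat.card Ω - 1)
  two_le : 2 ≤ Nat.card Ω

variable {G Ω : Type*} [Group G] [Finite G] [MulAction G Ω] [Finite Ω]

/-- The derangements. -/
def IsDer (G : Type*) {Ω : Type*} [Group G] [MulAction G Ω] (g : G) : Prop := ∀ a : Ω, g • a ≠ a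

omit [Finite G] [Finite Ω] in
theorem IsDer.conj {g : G} (hg : IsDer (Ω := Ω) G g) (c : G) : IsDer (Ω := Ω) G (c * g * c⁻¹) := by
  intro a h
  apply hg (c⁻¹ • a)
  have : c⁻¹ • ((c * g * c⁻¹) • a) = c⁻¹ • a := by rw [h]
  rwa [← mul_smul, ← mul_assoc, ← mul_assoc, inv_mul_cancel, one_mul, mul_smul] at this

omit [Finite G] [Finite Ω] in
theorem IsDer.ne_one [Nonempty Ω] {g : G} (hg : IsDer (Ω := Ω) G g) : g ≠ 1 := by
  rintro rfl
  obtain ⟨a⟩ := ‹Nonempty Ω›
  exact hg a (one_smul _ _)

omit [Finite G] [Finite Ω] in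
theorem SharpTwo.nonempty (h : SharpTwo G Ω) : Nonempty Ω := by
  have := h.two_le
  by_contra hne
  rw [not_nonempty_iff] at hne
  rw [Nat.card_of_isEmpty] at this
  omega

omit [Finite G] [Finite Ω] in
/-- Number of fixed points of an element. -/
theorem SharpTwo.card_fixedBy (h : SharpTwo G Ω) [DecidablePred (IsDer (Ω := Ω) G)]
    [DecidableEq G] (g : G) :
    Nat.card (fixedBy Ω g) = (if IsDer (Ω := Ω) G g then 0 else 1) +
      (if g = 1 then Nat.card Ω - 1 else 0) := by
  have htl := h.two_le
  by_cases h1 : g = 1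
  · subst h1
    have := h.nonempty
    have hnd : ¬ IsDer (Ω := Ω) G (1 : G) := fun hd => hd.ne_one rfl
    rw [if_neg hnd, if_pos rfl]
    have : fixedBy Ω (1 : G) = Set.univ := by ext; simp
    rw [this, Nat.card_congr (Equiv.Set.univ Ω)]
    omega
  · rw [if_neg h1, add_zero]
    by_cases hd : IsDer (Ω := Ω) G g
    · rw [if_pos hd]
      have : IsEmpty (fixedBy Ω g) := ⟨fun ⟨a, ha⟩ => hd a ha⟩
      exact Nat.card_of_isEmpty
    · rw [if_neg hd]
      unfold IsDer at hd
      push Not at hd
      obtain ⟨a, ha⟩ := hd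
      have : Unique (fixedBy Ω g) :=
        { default := ⟨a, ha⟩
          uniq := fun ⟨b, hb⟩ => by
            by_contra hne
            apply h1
            refine h.free2 g a b ?_ ha hb
            intro hab; apply hne; exact Subtype.ext hab.symm }
      exact Nat.card_unique

/-- There are exactly `n - 1` derangements. -/
theorem SharpTwo.card_der (h : SharpTwo G Ω) :
    Nat.card {g : G // IsDer (Ω := Ω) G g} = Nat.card Ω - 1 := by
  classical
  have : Fintype G := Fintype.ofFinite G
  have hb := burnside_natcard G Ω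
  have hq : Nat.card (orbitRel.Quotient G Ω) = 1 := by
    have := h.trans
    have := h.nonempty
    have : Subsingleton (orbitRel.Quotient G Ω) := by
      constructor
      intro x y
      induction x using Quotient.inductionOn'
      induction y using Quotient.inductionOn'
      apply Quotient.sound'
      exact MulAction.exists_smul_eq G _ _
    obtain ⟨a⟩ := h.nonempty
    have : Nonempty (orbitRel.Quotient G Ω) := ⟨Quotient.mk'' a⟩
    exact Nat.card_eq_one_iff_unique.mpr ⟨inferInstance, inferInstance⟩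
  rw [hq, one_mul] at hb
  simp_rw [h.card_fixedBy] at hb
  rw [Finset.sum_add_distrib, Finset.sum_ite_eq' Finset.univ (1 : G)] at hb
  simp only [Finset.mem_univ, if_true] at hb
  rw [Finset.sum_ite, Finset.sum_const_zero, zero_add, Finset.sum_const, smul_eq_mul, mul_one]
    at hb
  have hsplit : (Finset.univ.filter (fun g : G => IsDer (Ω := Ω) G g)).card +
      (Finset.univ.filter (fun g : G => ¬ IsDer (Ω := Ω) G g)).card = Nat.card G := by
    rw [Finset.card_filter_add_card_filter_not, Finset.card_univ, Nat.card_eq_fintype_card]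
  rw [Nat.card_eq_fintype_card, Fintype.card_subtype]
  omega


omit [Finite G] [Finite Ω] in
/-- An element commuting with a derangement is `1` or a derangement. -/
theorem SharpTwo.comm_der (h : SharpTwo G Ω) {x g : G} (hx : IsDer (Ω := Ω) G x)
    (hc : g * x = x * g) : g = 1 ∨ IsDer (Ω := Ω) G g := by
  by_contra hcon
  push Not at hcon
  obtain ⟨h1, hd⟩ := hcon
  unfold IsDer at hd
  push Not at hd
  obtain ⟨a, ha⟩ := hd
  apply h1
  refine h.free2 g a (x • a) (fun e => hx a e.symm) ha ?_
  rw [← mul_smul, hc, mul_smul, ha]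

/-- The centralizer of a derangement is `{1} ∪ derangements`, of order `n`; all derangements are
conjugate. -/
theorem SharpTwo.centralizer_der (h : SharpTwo G Ω) {x : G} (hx : IsDer (Ω := Ω) G x) :
    Nat.card (Subgroup.centralizer ({x} : Set G)) = Nat.card Ω ∧
    (∀ g : G, g ∈ Subgroup.centralizer ({x} : Set G) ↔ g = 1 ∨ IsDer (Ω := Ω) G g) ∧
    (∀ y : G, IsDer (Ω := Ω) G y → IsConj x y) := by
  classical
  have : Fintype G := Fintype.ofFinite G
  have := h.nonempty
  have htl := h.two_le
  set n := Nat.card Ω with hn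
  set D : Finset G := Finset.univ.filter (fun g : G => IsDer (Ω := Ω) G g) with hD
  have hDcard : D.card = n - 1 := by
    rw [← h.card_der, Nat.card_eq_fintype_card, Fintype.card_subtype]
  have h1D : (1 : G) ∉ D := by
    rw [hD, Finset.mem_filter]; exact fun hd => hd.2.ne_one rfl
  set N : Finset G := insert 1 D with hN
  have hNcard : N.card = n := by rw [hN, Finset.card_insert_of_notMem h1D, hDcard]; omega
  set C : Finset G := Finset.univ.filter (fun g : G => g ∈ Subgroup.centralizer ({x} : Set G))
    with hC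
  set cl : Finset G := Finset.univ.filter (fun y : G => IsConj x y) with hcl
  have hCN : C ⊆ N := by
    intro g hg
    rw [hC, Finset.mem_filter, Subgroup.mem_centralizer_singleton_iff] at hg
    rcases h.comm_der hx hg.2 with h1 | hd
    · rw [h1]; exact Finset.mem_insert_self _ _
    · exact Finset.mem_insert_of_mem (Finset.mem_filter.mpr ⟨Finset.mem_univ _, hd⟩)
  have hclD : cl ⊆ D := by
    intro y hy
    rw [hcl, Finset.mem_filter, isConj_iff] at hy
    obtain ⟨c, rfl⟩ := hy.2
    exact Finset.mem_filter.mpr ⟨Finset.mem_univ _, hx.conj c⟩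
  have hCc : Nat.card (Subgroup.centralizer ({x} : Set G)) = C.card := by
    rw [Nat.card_eq_fintype_card, Fintype.card_subtype]
  have hclc : Nat.card {y : G // IsConj x y} = cl.card := by
    rw [Nat.card_eq_fintype_card, Fintype.card_subtype]
  have hprod : cl.card * C.card = n * (n - 1) := by
    rw [← hclc, ← hCc, Cfsg.Agent.Lib.H21.card_conj_mul_card_centralizer, h.card]
  have hC_le : C.card ≤ n := hNcard ▸ Finset.card_le_card hCN
  have hcl_le : cl.card ≤ n - 1 := hDcard ▸ Finset.card_le_card hclD
  have hCn : C.card = n := by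
    by_contra hne
    have hlt : C.card < n := lt_of_le_of_ne hC_le hne
    have : cl.card * C.card < n * (n - 1) := by
      calc cl.card * C.card ≤ (n - 1) * C.card := Nat.mul_le_mul_right _ hcl_le
        _ < (n - 1) * n := Nat.mul_lt_mul_of_pos_left hlt (by omega)
        _ = n * (n - 1) := Nat.mul_comm _ _
    omega
  have hcln : cl.card = n - 1 := by
    rw [hCn, Nat.mul_comm] at hprod
    exact Nat.eq_of_mul_eq_mul_left (by omega) hprod
  have hCeq : C = N := Finset.eq_of_subset_of_card_le hCN (by rw [hNcard, hCn])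
  have hcleq : cl = D := Finset.eq_of_subset_of_card_le hclD (by rw [hDcard, hcln])
  refine ⟨hCc.trans hCn, ?_, ?_⟩
  · intro g
    have : g ∈ C ↔ g ∈ N := by rw [hCeq]
    rw [hC, hN, Finset.mem_filter, Finset.mem_insert, hD, Finset.mem_filter] at this
    simpa using this
  · intro y hy
    have : y ∈ cl := by rw [hcleq]; exact Finset.mem_filter.mpr ⟨Finset.mem_univ _, hy⟩
    exact (Finset.mem_filter.mp this).2


/-- The regular normal subgroup (Frobenius kernel) of a sharply 2-transitive finite group. -/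
theorem SharpTwo.exists_kernel (h : SharpTwo G Ω) :
    ∃ (N : Subgroup G) (p j : ℕ), p.Prime ∧ 1 ≤ j ∧ Nat.card Ω = p ^ j ∧ Nat.card N = p ^ j ∧
      N.Normal ∧ (∀ g : G, g ∈ N ↔ g = 1 ∨ IsDer (Ω := Ω) G g) ∧
      (∀ a b : G, a ∈ N → b ∈ N → a * b = b * a) ∧ (∀ g ∈ N, g ^ p = 1) := by
  have := h.nonempty
  have htl := h.two_le
  obtain ⟨⟨x₀, hx₀⟩⟩ : Nonempty {g : G // IsDer (Ω := Ω) G g} := by
    rw [← Finite.card_pos_iff, h.card_der]; omega
  obtain ⟨hNc, hNmem, hNconj⟩ := h.centralizer_der hx₀
  set N := Subgroup.centralizer ({x₀} : Set G) with hN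
  have hx₀N : x₀ ∈ N := (hNmem x₀).mpr (Or.inr hx₀)
  have hnormal : N.Normal := by
    constructor
    intro g hg c
    rcases (hNmem g).mp hg with rfl | hd
    · simp [N.one_mem]
    · exact (hNmem _).mpr (Or.inr (hd.conj c))
  have hcomm : ∀ a b : G, a ∈ N → b ∈ N → a * b = b * a := by
    intro a b ha hb
    rcases (hNmem a).mp ha with rfl | hd
    · simp
    · have hb' : b ∈ Subgroup.centralizer ({a} : Set G) :=
        ((h.centralizer_der hd).2.1 b).mpr ((hNmem b).mp hb)
      rw [Subgroup.mem_centralizer_singleton_iff] at hb'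
      exact hb'.symm
  -- all derangements have the same order, which is prime
  have hord : ∀ y : G, IsDer (Ω := Ω) G y → orderOf y = orderOf x₀ := by
    intro y hy
    obtain ⟨c, rfl⟩ := isConj_iff.mp (hNconj y hy)
    have := (MulAut.conj c).orderOf_eq x₀
    rwa [MulAut.conj_apply] at this
  have hq1 : orderOf x₀ ≠ 1 := fun h1 => hx₀.ne_one (orderOf_eq_one_iff.mp h1)
  have hq0 : orderOf x₀ ≠ 0 := (orderOf_pos x₀).ne'
  set p := (orderOf x₀).minFac with hp
  have hpp : p.Prime := Nat.minFac_prime hq1
  have hpd : p ∣ orderOf x₀ := Nat.minFac_dvd _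
  have hyord : orderOf (x₀ ^ (orderOf x₀ / p)) = p := orderOf_pow_orderOf_div hq0 hpd
  have hyN : x₀ ^ (orderOf x₀ / p) ∈ N := N.pow_mem hx₀N _
  have hpq : orderOf x₀ = p := by
    rcases (hNmem _).mp hyN with h1 | hd
    · rw [h1, orderOf_one] at hyord
      exact absurd hyord.symm hpp.ne_one
    · rw [← hord _ hd, hyord]
  have hexp : ∀ g ∈ N, g ^ p = 1 := by
    intro g hg
    rcases (hNmem g).mp hg with rfl | hd
    · exact one_pow _
    · rw [← hpq, ← hord g hd]; exact pow_orderOf_eq_one g
  have : Fact p.Prime := ⟨hpp⟩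
  have hPG : IsPGroup p N := by
    intro g
    refine ⟨1, ?_⟩
    rw [pow_one]
    exact Subtype.ext (by simpa using hexp g.1 g.2)
  obtain ⟨j, hj⟩ := hPG.exists_card_eq
  have hj1 : 1 ≤ j := by
    rcases Nat.eq_zero_or_pos j with h0 | hpos
    · rw [h0, pow_zero, hNc] at hj; omega
    · exact hpos
  exact ⟨N, p, j, hpp, hj1, hNc.symm.trans hj, hj, hnormal, hNmem, hcomm, hexp⟩

/-- The kernel acts regularly. -/
theorem SharpTwo.kernel_regular (h : SharpTwo G Ω) (N : Subgroup G)
    (hNc : Nat.card N = Nat.card Ω) (hNmem : ∀ g : G, g ∈ N → g = 1 ∨ IsDer (Ω := Ω) G g) :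
    IsPretransitive N Ω ∧ ∀ a : Ω, stabilizer N a = ⊥ := by
  have hstab : ∀ a : Ω, stabilizer N a = ⊥ := by
    intro a
    rw [eq_bot_iff]
    intro g hg
    rw [mem_stabilizer_iff] at hg
    rcases hNmem g.1 g.2 with h1 | hd
    · exact Subtype.ext h1
    · exact absurd hg (hd a)
  refine ⟨?_, hstab⟩
  have := h.nonempty
  obtain ⟨a⟩ := this
  have hinj : Function.Injective (fun g : N => g • a) := by
    intro g₁ g₂ he
    have : (g₂⁻¹ * g₁) ∈ stabilizer N a := by
      rw [mem_stabilizer_iff, mul_smul]
      change g₂⁻¹ • (g₁ • a) = a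
      have he' : g₁ • a = g₂ • a := he
      rw [he', inv_smul_smul]
    rw [hstab a, Subgroup.mem_bot] at this
    exact (inv_mul_eq_one.mp this).symm
  have hbij : Function.Bijective (fun g : N => g • a) := by
    have : Finite N := inferInstance
    exact (Nat.bijective_iff_injective_and_card _).mpr ⟨hinj, hNc⟩
  constructor
  intro x y
  obtain ⟨g₁, hg₁⟩ := hbij.2 x
  obtain ⟨g₂, hg₂⟩ := hbij.2 y
  refine ⟨g₂ * g₁⁻¹, ?_⟩
  simp only at hg₁ hg₂
  rw [← hg₁, ← hg₂, mul_smul, inv_smul_smul]

end Cfsg.Agent.Lib.H18
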