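import Mathlib
import Cfsg.Agent.Lib.H18.FrobeniusThm

/-!
# Norm computations for Frobenius groups acting on abelian groups (helper18)

* `frob_compl_bijective` : the elements outside the Frobenius kernel are parametrized by
  `(F ⧸ H) × (H ∖ {1})` via `(q, h) ↦ q.out * h * q.out⁻¹`.
* `frob_pow_index_eq_one` : if the Frobenius group `F` with complement `H` acts on the abelian
  group `A` such that neither `H` nor the Frobenius kernel fixes a nontrivial element of `A`, then
  `a ^ [F : H] = 1` for all `a : A`.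
-/

set_option autoImplicit false

namespace Cfsg.Agent.Lib.H18

open scoped Pointwise
open Cfsg Cfsg.Agent.Lib.H1

variable {F : Type*} [Group F]

/-- The map `(q, h) ↦ q.out * h * q.out⁻¹` onto the complement of the Frobenius kernel. -/
noncomputable def frobComplMap {H : Subgroup F} (qh : (F ⧸ H) × {h : H // h ≠ 1}) :
    {x : F // x ∉ frobeniusKernel H} :=
  ⟨qh.1.out * (qh.2 : H) * qh.1.out⁻¹, by
    rw [not_mem_frobeniusKernel_iff]
    refine ⟨?_, qh.1.out, mem_conj_smul_iff.mpr ?_⟩
    · intro h1
      apply qh.2.2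
      have : ((qh.2 : H) : F) = qh.1.out⁻¹ * (qh.1.out * (qh.2 : H) * qh.1.out⁻¹) * qh.1.out := by
        group
      rw [h1] at this
      apply Subtype.ext
      rw [this]
      simp
    · have : qh.1.out⁻¹ * (qh.1.out * ((qh.2 : H) : F) * qh.1.out⁻¹) * qh.1.out = (qh.2 : H) := by
        group
      rw [this]
      exact (qh.2 : H).2⟩

theorem frobComplMap_coe {H : Subgroup F} (qh : (F ⧸ H) × {h : H // h ≠ 1}) :
    ((frobComplMap qh : {x : F // x ∉ frobeniusKernel H}) : F) =
      qh.1.out * (qh.2 : H) * qh.1.out⁻¹ := rfl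

theorem frob_compl_bijective {H : Subgroup F} (hH : IsFrobeniusComplement H) :
    Function.Bijective (frobComplMap (H := H)) := by
  constructor
  · rintro ⟨q, h⟩ ⟨q', h'⟩ hqq
    have e : q.out * (h : H) * q.out⁻¹ = q'.out * (h' : H) * q'.out⁻¹ := congrArg Subtype.val hqq
    have e2 : (q'.out⁻¹ * q.out) * (h : H) * (q'.out⁻¹ * q.out)⁻¹ = (h' : H) := by
      have : (q'.out⁻¹ * q.out) * (h : H) * (q'.out⁻¹ * q.out)⁻¹ =
          q'.out⁻¹ * (q.out * (h : H) * q.out⁻¹) * q'.out := by group
      rw [this, e]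
      group
    have hne : ((h : H) : F) ≠ 1 := fun h0 => h.2 (Subtype.ext h0)
    have hmem : q'.out⁻¹ * q.out ∈ H :=
      frob_mem_of_conj_mem hH (h : H).2 hne (e2 ▸ (h' : H).2)
    have hq : q' = q := by
      rw [← q.out_eq', ← q'.out_eq']
      exact QuotientGroup.eq.mpr hmem
    subst hq
    have : ((h : H) : F) = (h' : H) := by
      have := e2
      simp only [inv_mul_cancel, one_mul, inv_one, mul_one] at this
      exact this
    have : h = h' := Subtype.ext (Subtype.ext this)
    rw [this]
  · rintro ⟨x, hx⟩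
    rw [not_mem_frobeniusKernel_iff] at hx
    obtain ⟨hx1, c, hc⟩ := hx
    rw [mem_conj_smul_iff] at hc
    obtain ⟨h₀, hh₀⟩ := QuotientGroup.mk_out_eq_mul H c
    set q : F ⧸ H := QuotientGroup.mk c with hq
    have hmem : q.out⁻¹ * x * q.out ∈ H := by
      rw [hh₀]
      have : (c * (h₀ : F))⁻¹ * x * (c * h₀) = (h₀ : F)⁻¹ * (c⁻¹ * x * c) * h₀ := by group
      rw [this]
      exact H.mul_mem (H.mul_mem (H.inv_mem h₀.2) hc) h₀.2
    have hne : (⟨q.out⁻¹ * x * q.out, hmem⟩ : H) ≠ 1 := by
      intro h0
      have h0' : q.out⁻¹ * x * q.out = 1 := congrArg Subtype.val h0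
      apply hx1
      have : x = q.out * (q.out⁻¹ * x * q.out) * q.out⁻¹ := by group
      rw [this, h0']
      group
    refine ⟨(q, ⟨⟨q.out⁻¹ * x * q.out, hmem⟩, hne⟩), ?_⟩
    apply Subtype.ext
    show q.out * (q.out⁻¹ * x * q.out) * q.out⁻¹ = x
    group

section Norm

variable [Finite F] {A : Type*} [CommGroup A] [MulDistribMulAction F A]

/-- If neither a Frobenius complement `H` of `F` nor the Frobenius kernel has a nontrivial fixed
point on the abelian group `A`, then `A` has exponent dividing `[F : H]`. -/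
theorem frob_pow_index_eq_one (H : Subgroup F) (hH : IsFrobeniusComplement H)
    (hCH : ∀ a : A, (∀ h ∈ H, h • a = a) → a = 1)
    (hCK : ∀ a : A, (∀ k ∈ frobeniusKernel H, k • a = a) → a = 1) (a : A) :
    a ^ H.index = 1 := by
  classical
  have : Fintype F := Fintype.ofFinite F
  have : Fintype (F ⧸ H) := Fintype.ofFinite _
  set K : Subgroup F := frobKer H hH with hK
  -- the total norm is trivial
  have hP : ∏ x : F, x • a = 1 := by
    apply hCK
    intro k _
    exact Finset.smul_prod_perm a k
  -- the norm over the kernel is trivial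
  have hPK : ∏ k : K, (k : F) • a = 1 := by
    apply hCK
    intro k hk
    have hkK : k ∈ K := (mem_frobKer hH).mpr hk
    have := Finset.smul_prod_perm (G := K) a ⟨k, hkK⟩
    simpa [Subgroup.smul_def] using this
  -- the norm over `H` is trivial
  have hτ : ∀ w : A, ∏ h : H, (h : F) • w = 1 := by
    intro w
    apply hCH
    intro h hh
    have := Finset.smul_prod_perm (G := H) w ⟨h, hh⟩
    simpa [Subgroup.smul_def] using this
  -- the product over `H ∖ {1}`
  have hτ' : ∀ w : A, ∏ h : {h : H // h ≠ 1}, ((h : H) : F) • w = w⁻¹ := by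
    intro w
    have h1 : ((1 : H) : F) • w * ∏ h ∈ Finset.univ.erase (1 : H), (h : F) • w =
        ∏ h : H, (h : F) • w :=
      Finset.mul_prod_erase Finset.univ (fun h : H => (h : F) • w) (Finset.mem_univ 1)
    have h2 : ∏ h ∈ Finset.univ.erase (1 : H), (h : F) • w =
        ∏ h : {h : H // h ≠ 1}, ((h : H) : F) • w :=
      Finset.prod_subtype _ (by simp) _
    rw [hτ w, h2, Subgroup.coe_one, one_smul] at h1
    exact eq_inv_of_mul_eq_one_right h1
  -- split the total norm
  have hsplit := Fintype.prod_subtype_mul_prod_subtype (fun x : F => x ∈ frobeniusKernel H)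
    (fun x : F => x • a)
  have hfirst : ∏ i : {x : F // x ∈ frobeniusKernel H}, (i : F) • a = 1 := by
    rw [← hPK]
    refine Fintype.prod_equiv (Equiv.subtypeEquivRight fun x => (mem_frobKer hH).symm) _ _ ?_
    intro x
    rfl
  have hsecond : ∏ i : {x : F // x ∉ frobeniusKernel H}, (i : F) • a = (a ^ H.index)⁻¹ := by
    rw [← Fintype.prod_bijective _ (frob_compl_bijective hH) (fun qh => ((frobComplMap qh :
      {x : F // x ∉ frobeniusKernel H}) : F) • a) (fun x => (x : F) • a) (fun _ => rfl)]
    rw [Fintype.prod_prod_type]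
    have hq : ∀ q : F ⧸ H, ∏ h : {h : H // h ≠ 1},
        ((frobComplMap (q, h) : {x : F // x ∉ frobeniusKernel H}) : F) • a = a⁻¹ := by
      intro q
      have e : ∀ h : {h : H // h ≠ 1},
          ((frobComplMap (q, h) : {x : F // x ∉ frobeniusKernel H}) : F) • a =
            q.out • (((h : H) : F) • (q.out⁻¹ • a)) := by
        intro h
        rw [frobComplMap_coe, smul_smul, smul_smul]
      rw [Finset.prod_congr rfl fun h _ => e h, ← Finset.smul_prod', hτ', smul_inv', smul_smul,
        mul_inv_cancel, one_smul]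
    rw [Finset.prod_congr rfl fun q _ => hq q, Finset.prod_const, Finset.card_univ,
      Subgroup.index_eq_card, Nat.card_eq_fintype_card, inv_pow]
  rw [hP, hfirst, hsecond, one_mul] at hsplit
  exact inv_eq_one.mp hsplit

end Norm

end Cfsg.Agent.Lib.H18
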