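import Mathlib
import Cfsg.Prelude.Def_Characters
import Cfsg.Agent.Lib.L0.CharInd
import Cfsg.Agent.Lib.L0.CharBasic
import Cfsg.Agent.Lib.L0.CharInner
import Cfsg.Agent.Lib.L0.CharOps
import Cfsg.Agent.Lib.L0.CharIndChar
import Cfsg.Agent.Lib.L0.CharDegree
import Cfsg.Agent.Lib.H8.Clifford
import Cfsg.Agent.Lib.H24.CharGallagher
import Cfsg.Agent.Lib.H24.CharOrth
import Cfsg.Agent.Lib.H24.CharBasic
import Cfsg.Agent.Lib.H24.RealOddIndex
import Cfsg.Agent.Lib.H23.ExtendCyclic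
import Cfsg.Agent.Lib.H23.RelMGroup

/-!
# Fully ramified characters under a Frobenius action with cyclic complement (helper18)

`Γ/N` Frobenius with kernel `G/N` and cyclic complement, `θ ∈ Irr(N)` invariant and fully
ramified in `G` (`θ^G = e χ`): then `|Γ:G|` divides `e - 1` or `e + 1` (Isaacs, Problem 13.10).

Proof: extend `θ` to `ψ` on a complement `U`, compute `[ψ^Γ, ψ^Γ] = 1 + (e² - 1)/m` by the
TI-property of `U ∖ N`, decompose `ψ^Γ` along the `m` extensions of `χ` (Gallagher) with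
multiplicities summing to `e`, and finish by an elementary numeric lemma.
-/

set_option autoImplicit false

namespace Cfsg.Agent.Lib.H18.FrobRam

open Cfsg Cfsg.Agent.Lib.L0 Cfsg.Agent.Lib.H24
open scoped ComplexConjugate

section numeric
/-- numeric core -/
theorem num_lemma {ι : Type*} [Fintype ι] (a : ι → ℕ) (m e : ℕ) (hm : Fintype.card ι = m)
    (hm0 : 0 < m) (hsum : ∑ i, a i = e) (hsq : m * ∑ i, (a i) ^ 2 + 1 ≤ m + e ^ 2)
    (hcop : m ∣ e → m = 1) :
    (m : ℤ) ∣ (e : ℤ) - 1 ∨ (m : ℤ) ∣ (e : ℤ) + 1 := by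
  classical
  set q : ℤ := ((e / m : ℕ) : ℤ) with hq
  set r : ℤ := ((e % m : ℕ) : ℤ) with hr
  have hdm : (e : ℤ) = q * m + r := by
    rw [hq, hr]
    have := Nat.div_add_mod e m
    have h2 : ((m * (e / m) + e % m : ℕ) : ℤ) = (e : ℤ) := by rw [this]
    rw [Nat.cast_add, Nat.cast_mul] at h2
    linarith
  have hr0 : 0 ≤ r := by rw [hr]; positivity
  have hrm : r < m := by
    rw [hr]
    exact_mod_cast Nat.mod_lt e hm0
  set c : ι → ℤ := fun i => (a i : ℤ) - q with hc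
  have hcsum : ∑ i, c i = r := by
    simp only [hc, Finset.sum_sub_distrib, Finset.sum_const, Finset.card_univ, hm, nsmul_eq_mul]
    have : ∑ i, (a i : ℤ) = e := by exact_mod_cast hsum
    rw [this, hdm]
    ring
  have hcsq : ∑ i, c i ≤ ∑ i, (c i) ^ 2 := by
    apply Finset.sum_le_sum
    intro i _
    have h1 : c i ≤ 0 ∨ 1 ≤ c i := by omega
    rcases h1 with h1 | h1
    · nlinarith
    · nlinarith
  have hsqZ : (m : ℤ) * ∑ i, ((a i : ℤ)) ^ 2 + 1 ≤ m + (e : ℤ) ^ 2 := by exact_mod_cast hsq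
  have hexp : ∑ i, ((a i : ℤ)) ^ 2 = ∑ i, (c i) ^ 2 + 2 * q * r + m * q ^ 2 := by
    have h1 : ∀ i, ((a i : ℤ)) ^ 2 = (c i) ^ 2 + 2 * q * c i + q ^ 2 := by
      intro i
      simp only [hc]
      ring
    simp only [h1, Finset.sum_add_distrib, ← Finset.mul_sum, hcsum, Finset.sum_const,
      Finset.card_univ, hm, nsmul_eq_mul]
  rw [hexp, hdm] at hsqZ
  have hkey : (m : ℤ) * r + 1 ≤ m + r ^ 2 := by
    have hm' : (0 : ℤ) < m := by exact_mod_cast hm0
    have h3 : (m : ℤ) * r ≤ m * ∑ i, (c i) ^ 2 := by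
      apply mul_le_mul_of_nonneg_left _ hm'.le
      rw [← hcsum]
      exact hcsq
    nlinarith
  have hprod : (r - 1) * ((m : ℤ) - 1 - r) ≤ 0 := by nlinarith
  have hcases : r = 0 ∨ r = 1 ∨ r = (m : ℤ) - 1 := by
    by_contra hcon
    rw [not_or, not_or] at hcon
    obtain ⟨h0, h1, h2⟩ := hcon
    have h3 : 2 ≤ r := by omega
    have h4 : r ≤ (m : ℤ) - 2 := by omega
    nlinarith
  rcases hcases with h | h | h
  · have : m ∣ e := by
      have : e % m = 0 := by
        have : ((e % m : ℕ) : ℤ) = 0 := by rw [← hr]; exact h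
        exact_mod_cast this
      exact Nat.dvd_of_mod_eq_zero this
    have hm1 := hcop this
    left
    rw [hm1]
    simp
  · left
    refine ⟨q, ?_⟩
    rw [hdm, h]; ring
  · right
    refine ⟨q + 1, ?_⟩
    rw [hdm, h]; ring


theorem exists_frob_complement {Γ : Type*} [Group Γ] [Finite Γ] (G N : Subgroup Γ) [hG : G.Normal]
    [hN : N.Normal] (hNG : N ≤ G) (hGlt : G ≠ ⊤) (hcyc : IsCyclic (Γ ⧸ G))
    (hfrob : ∀ x : Γ, x ∉ G → ∀ g : Γ, g ∈ G → x * g * x⁻¹ * g⁻¹ ∈ N → g ∈ N) :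
    ∃ U : Subgroup Γ, N ≤ U ∧ (∀ u ∈ U, u ∈ G → u ∈ N) ∧ U ⊔ G = ⊤ ∧
      IsCyclic (U ⧸ N.subgroupOf U) ∧
      ∀ t : Γ, t ∉ U → ∀ u ∈ U, t⁻¹ * u * t ∈ U → u ∈ N := by
  classical
  obtain ⟨q, hq⟩ := hcyc.exists_generator
  obtain ⟨x, rfl⟩ := QuotientGroup.mk_surjective q
  have hxG : x ∉ G := by
    intro hx
    apply hGlt
    rw [eq_top_iff]
    intro y _
    have h1 : (QuotientGroup.mk x : Γ ⧸ G) = 1 := (QuotientGroup.eq_one_iff x).mpr hx
    obtain ⟨k, hk⟩ := Subgroup.mem_zpowers_iff.mp (hq (QuotientGroup.mk y))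
    rw [h1, one_zpow] at hk
    exact (QuotientGroup.eq_one_iff y).mp hk.symm
  set m := orderOf (QuotientGroup.mk x : Γ ⧸ G) with hm
  have hxm : x ^ m ∈ N := by
    have h1 : x ^ m ∈ G := by
      rw [← QuotientGroup.eq_one_iff, QuotientGroup.mk_pow, hm, pow_orderOf_eq_one]
    apply hfrob x hxG (x ^ m) h1
    have : x * x ^ m * x⁻¹ * (x ^ m)⁻¹ = 1 := by
      rw [← pow_succ', pow_succ, mul_inv_cancel_right, mul_inv_cancel]
    rw [this]
    exact N.one_mem
  have hpowG : ∀ k : ℤ, x ^ k ∈ G → x ^ k ∈ N := by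
    intro k hk
    have h1 : (QuotientGroup.mk x : Γ ⧸ G) ^ k = 1 := by
      rw [← QuotientGroup.mk_zpow]
      exact (QuotientGroup.eq_one_iff _).mpr hk
    obtain ⟨j, hj⟩ := (orderOf_dvd_iff_zpow_eq_one).mpr h1
    rw [hj, zpow_mul, zpow_natCast]
    exact N.zpow_mem hxm j
  set U : Subgroup Γ := N ⊔ Subgroup.zpowers x with hU
  have hNU : N ≤ U := le_sup_left
  have hmemU : ∀ u, u ∈ U ↔ ∃ n ∈ N, ∃ k : ℤ, n * x ^ k = u := by
    intro u
    rw [hU, ← SetLike.mem_coe, Subgroup.normal_mul, Set.mem_mul]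
    constructor
    · rintro ⟨n, hn, z, hz, rfl⟩
      obtain ⟨k, rfl⟩ := Subgroup.mem_zpowers_iff.mp hz
      exact ⟨n, hn, k, rfl⟩
    · rintro ⟨n, hn, k, rfl⟩
      exact ⟨n, hn, x ^ k, Subgroup.zpow_mem_zpowers x k, rfl⟩
  have hUG : ∀ u ∈ U, u ∈ G → u ∈ N := by
    intro u hu huG
    obtain ⟨n, hn, k, rfl⟩ := (hmemU u).mp hu
    have h1 : x ^ k ∈ G := by
      have := G.mul_mem (G.inv_mem (hNG hn)) huG
      simpa using this
    exact N.mul_mem hn (hpowG k h1)
  have hsup : U ⊔ G = ⊤ := by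
    rw [eq_top_iff]
    intro y _
    obtain ⟨k, hk⟩ := Subgroup.mem_zpowers_iff.mp (hq (QuotientGroup.mk y))
    have h1 : (x ^ k)⁻¹ * y ∈ G := by
      rw [← QuotientGroup.eq, QuotientGroup.mk_zpow]
      exact hk
    have h2 : y = x ^ k * ((x ^ k)⁻¹ * y) := by group
    rw [h2]
    apply Subgroup.mul_mem_sup _ h1
    exact (hmemU _).mpr ⟨1, N.one_mem, k, by simp⟩
  refine ⟨U, hNU, hUG, hsup, ?_, ?_⟩
  · -- cyclic quotient
    let f : Subgroup.zpowers x →* U ⧸ N.subgroupOf U :=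
      (QuotientGroup.mk' (N.subgroupOf U)).comp
        (Subgroup.inclusion (le_sup_right : Subgroup.zpowers x ≤ U))
    apply isCyclic_of_surjective f
    intro y
    obtain ⟨u, rfl⟩ := QuotientGroup.mk_surjective y
    obtain ⟨n, hn, k, hnk⟩ := (hmemU u).mp u.2
    refine ⟨⟨x ^ k, Subgroup.zpow_mem_zpowers x k⟩, ?_⟩
    simp only [f, MonoidHom.comp_apply, QuotientGroup.mk'_apply]
    rw [QuotientGroup.eq, Subgroup.mem_subgroupOf]
    simp only [Subgroup.coe_mul, Subgroup.coe_inv, Subgroup.coe_inclusion]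
    rw [← hnk]
    have : (x ^ k)⁻¹ * (n * x ^ k) = (x ^ k)⁻¹ * n * ((x ^ k)⁻¹)⁻¹ := by group
    rw [this]
    exact hN.conj_mem n hn _
  · intro t ht u hu htu
    have htop : t ∈ U ⊔ G := by rw [hsup]; trivial
    rw [← SetLike.mem_coe, Subgroup.mul_normal, Set.mem_mul] at htop
    obtain ⟨u', hu', g, hg, rfl⟩ := htop
    have hgN : g ∉ N := by
      intro hgN
      exact ht (U.mul_mem hu' (hNU hgN))
    set v := u'⁻¹ * u * u' with hv
    have hvU : v ∈ U := U.mul_mem (U.mul_mem (U.inv_mem hu') hu) hu'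
    have hgv : g⁻¹ * v * g ∈ U := by
      have : (u' * g)⁻¹ * u * (u' * g) = g⁻¹ * v * g := by rw [hv]; group
      rw [← this]
      exact htu
    -- w = v * g⁻¹ * v⁻¹ * g
    have hwU : v * g⁻¹ * v⁻¹ * (g⁻¹)⁻¹ ∈ U := by
      have : v * g⁻¹ * v⁻¹ * (g⁻¹)⁻¹ = v * (g⁻¹ * v * g)⁻¹ := by group
      rw [this]
      exact U.mul_mem hvU (U.inv_mem hgv)
    have hwG : v * g⁻¹ * v⁻¹ * (g⁻¹)⁻¹ ∈ G := by
      apply G.mul_mem (hG.conj_mem _ (G.inv_mem hg) v)
      rw [inv_inv]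
      exact hg
    have hwN := hUG _ hwU hwG
    have hvG : v ∈ G := by
      by_contra hvG
      have := hfrob v hvG g⁻¹ (G.inv_mem hg) hwN
      exact hgN (by simpa using N.inv_mem this)
    have hvN := hUG v hvU hvG
    have : u = u' * v * u'⁻¹ := by rw [hv]; group
    rw [this]
    exact hN.conj_mem v hvN u'


end numeric

section chars

variable {Γ : Type*} [Group Γ] [Fintype Γ]

/-- induced class function from a subgroup `U` with `U ∖ N` a TI-set: value off `N`. -/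
theorem indFun_apply_of_TI (U N : Subgroup Γ) [Fintype U]
    (hTI : ∀ t : Γ, t ∉ U → ∀ u ∈ U, t⁻¹ * u * t ∈ U → u ∈ N)
    (ψ : U → ℂ) (hψ : IsClassFunction U ψ) (u : U) (hu : (u : Γ) ∉ N) :
    indFun U ψ u = ψ u := by
  classical
  rw [indFun_apply]
  have h1 : ∀ t : Γ, extendByZero U ψ (t⁻¹ * (u : Γ) * t) =
      extendByZero U (fun _ => ψ u) t * 1 := by
    intro t
    by_cases ht : t ∈ U
    · have hmem : t⁻¹ * (u : Γ) * t ∈ U := U.mul_mem (U.mul_mem (U.inv_mem ht) u.2) ht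
      rw [extendByZero_apply_of_mem U _ hmem, extendByZero_apply_of_mem U _ ht, mul_one]
      have h2 : (⟨t⁻¹ * (u : Γ) * t, hmem⟩ : U) = (⟨t, ht⟩ : U)⁻¹ * u * ((⟨t, ht⟩ : U)⁻¹)⁻¹ := by
        apply Subtype.ext
        simp
      rw [h2, hψ]
    · have hmem : t⁻¹ * (u : Γ) * t ∉ U := fun h => hu (hTI t ht u u.2 h)
      rw [extendByZero_apply_not_mem U _ hmem, extendByZero_apply_not_mem U _ ht, zero_mul]
  rw [Finset.sum_congr rfl (fun t _ => h1 t), sum_extendByZero_mul]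
  simp only [mul_one, Finset.sum_const, Finset.card_univ, nsmul_eq_mul]
  rw [← Nat.card_eq_fintype_card, ← mul_assoc, inv_mul_cancel₀, one_mul]
  exact_mod_cast (Nat.card_pos (α := U)).ne'

/-- value on `N` of a function induced from `U ≥ N` extending an invariant `θ`. -/
theorem indFun_apply_of_mem_normal (U N : Subgroup Γ) [hN : N.Normal] (hNU : N ≤ U)
    (θ : N → ℂ)
    (hinv : ∀ (x : Γ) (n : N), θ ⟨x * n * x⁻¹, hN.conj_mem n n.2 x⟩ = θ n)
    (ψ : U → ℂ) (hext : ∀ n : N, ψ ⟨n, hNU n.2⟩ = θ n) (n : N) :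
    indFun U ψ n = (U.index : ℂ) * θ n := by
  classical
  rw [indFun_apply]
  have h1 : ∀ t : Γ, extendByZero U ψ (t⁻¹ * (n : Γ) * t) = θ n := by
    intro t
    have hmem : t⁻¹ * (n : Γ) * t ∈ N := by
      have := hN.conj_mem n n.2 t⁻¹
      simpa using this
    rw [extendByZero_apply_of_mem U _ (hNU hmem)]
    have := hext ⟨_, hmem⟩
    rw [this]
    have h3 := hinv t⁻¹ n
    convert h3 using 2
    simp
  rw [Finset.sum_congr rfl (fun t _ => h1 t)]
  simp only [Finset.sum_const, Finset.card_univ, nsmul_eq_mul]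
  rw [← Nat.card_eq_fintype_card, ← mul_assoc]
  congr 1
  have hU : (Nat.card U : ℂ) ≠ 0 := by exact_mod_cast (Nat.card_pos (α := U)).ne'
  rw [← U.index_mul_card]
  push_cast
  field_simp

theorem sum_irr_mul_conj {H : Type*} [Group H] [Fintype H] {θ : H → ℂ} (hθ : IsIrrCharacter H θ) :
    ∑ h : H, θ h * conj (θ h) = (Nat.card H : ℂ) := by
  have h1 := irr_classInner_self hθ
  unfold classInner at h1
  have hH : (Nat.card H : ℂ) ≠ 0 := by exact_mod_cast (Nat.card_pos (α := H)).ne'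
  field_simp at h1
  exact h1

/-- cross term -/
theorem sum_mul_conj_extendByZero (U N : Subgroup Γ) [Fintype U] [Fintype N] (hNU : N ≤ U)
    (θ : N → ℂ) (hθ : IsIrrCharacter N θ)
    (ψ : U → ℂ) (hext : ∀ n : N, ψ ⟨n, hNU n.2⟩ = θ n) :
    ∑ u : U, ψ u * conj (extendByZero N θ (u : Γ)) = (Nat.card N : ℂ) := by
  classical
  rw [← sum_extendByZero_mul U ψ (fun g => conj (extendByZero N θ g))]
  have h1 : ∀ g : Γ, extendByZero U ψ g * conj (extendByZero N θ g) =
      extendByZero N (fun n => conj (θ n)) g * extendByZero U ψ g := by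
    intro g
    by_cases hg : g ∈ N
    · rw [extendByZero_apply_of_mem N _ hg, extendByZero_apply_of_mem N _ hg, mul_comm]
    · rw [extendByZero_apply_not_mem N _ hg, extendByZero_apply_not_mem N _ hg, map_zero,
        mul_zero, zero_mul]
  rw [Finset.sum_congr rfl (fun g _ => h1 g), sum_extendByZero_mul N]
  have h2 : ∀ n : N, conj (θ n) * extendByZero U ψ (n : Γ) = θ n * conj (θ n) := by
    intro n
    rw [extendByZero_apply_of_mem U _ (hNU n.2), hext, mul_comm]
  rw [Finset.sum_congr rfl (fun n _ => h2 n), sum_irr_mul_conj hθ]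

theorem card_mul_norm_indFun (U N : Subgroup Γ) [Fintype U] [Fintype N] [hN : N.Normal]
    (hNU : N ≤ U)
    (hTI : ∀ t : Γ, t ∉ U → ∀ u ∈ U, t⁻¹ * u * t ∈ U → u ∈ N)
    (θ : N → ℂ) (hθ : IsIrrCharacter N θ)
    (hinv : ∀ (x : Γ) (n : N), θ ⟨x * n * x⁻¹, hN.conj_mem n n.2 x⟩ = θ n)
    (ψ : U → ℂ) (hψ : IsIrrCharacter U ψ) (hext : ∀ n : N, ψ ⟨n, hNU n.2⟩ = θ n) :
    (Nat.card U : ℂ) * classInner (indFun U ψ) (indFun U ψ) =
      (Nat.card U : ℂ) + ((U.index : ℂ) - 1) * (Nat.card N : ℂ) := by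
  classical
  have hcf : IsClassFunction U ψ := isClassFunction_of_isCharacter (isCharacter_of_irr hψ)
  rw [frobenius_reciprocity U ψ _ (indFun_isClassFunction U ψ)]
  have hval : ∀ u : U, indFun U ψ (u : Γ) = ψ u + ((U.index : ℂ) - 1) * extendByZero N θ (u : Γ) := by
    intro u
    by_cases hu : (u : Γ) ∈ N
    · have h1 := indFun_apply_of_mem_normal U N hNU θ hinv ψ hext ⟨u, hu⟩
      rw [extendByZero_apply_of_mem N _ hu]
      have h2 : ψ u = θ ⟨u, hu⟩ := hext ⟨u, hu⟩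
      rw [h2]
      simp only at h1
      rw [h1]
      ring
    · rw [extendByZero_apply_not_mem N _ hu, indFun_apply_of_TI U N hTI ψ hcf u hu]
      ring
  unfold classInner
  have hU : (Nat.card U : ℂ) ≠ 0 := by exact_mod_cast (Nat.card_pos (α := U)).ne'
  rw [← mul_assoc, mul_inv_cancel₀ hU, one_mul]
  have h3 : ∀ u : U, ψ u * conj (indFun U ψ (u : Γ)) =
      ψ u * conj (ψ u) + ((U.index : ℂ) - 1) * (ψ u * conj (extendByZero N θ (u : Γ))) := by
    intro u
    rw [hval u, map_add, map_mul, map_sub, map_one, Complex.conj_natCast]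
    ring
  rw [Finset.sum_congr rfl (fun u _ => h3 u), Finset.sum_add_distrib, ← Finset.mul_sum,
    sum_irr_mul_conj hψ, sum_mul_conj_extendByZero U N hNU θ hθ ψ hext]

/-- Bessel inequality for class functions. -/
theorem bessel_nat {ι : Type*} [Fintype ι] [DecidableEq ι] (Ψ : Γ → ℂ) (ξ : ι → Γ → ℂ) (a : ι → ℕ)
    (horth : ∀ i j, classInner (ξ i) (ξ j) = if i = j then 1 else 0)
    (ha : ∀ i, classInner Ψ (ξ i) = a i) (K : ℕ) (hK : classInner Ψ Ψ = K) :
    ∑ i, (a i) ^ 2 ≤ K := by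
  classical
  set S : Γ → ℂ := ∑ i, (a i : ℂ) • ξ i with hS
  have h1 : classInner Ψ S = ((∑ i, (a i) ^ 2 : ℕ) : ℂ) := by
    rw [hS, classInner_sum_right]
    push_cast
    refine Finset.sum_congr rfl fun i _ => ?_
    rw [classInner_smul_right, ha, Complex.conj_natCast]
    ring
  have h2 : classInner S Ψ = ((∑ i, (a i) ^ 2 : ℕ) : ℂ) := by
    rw [← classInner_conj_symm, h1, Complex.conj_natCast]
  have h3 : classInner S S = ((∑ i, (a i) ^ 2 : ℕ) : ℂ) := by
    rw [hS, classInner_sum_left]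
    push_cast
    refine Finset.sum_congr rfl fun i _ => ?_
    rw [classInner_smul_left, classInner_sum_right]
    have : ∀ j, classInner (ξ i) ((a j : ℂ) • ξ j) = if i = j then (a j : ℂ) else 0 := by
      intro j
      rw [classInner_smul_right, horth, Complex.conj_natCast]
      split_ifs <;> simp
    rw [Finset.sum_congr rfl (fun j _ => this j), Finset.sum_ite_eq]
    simp only [Finset.mem_univ, if_true]
    ring
  have h4 : classInner (Ψ - S) (Ψ - S) = (K : ℂ) - ((∑ i, (a i) ^ 2 : ℕ) : ℂ) := by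
    rw [classInner_sub_left, classInner_sub_right, classInner_sub_right, hK, h1, h2, h3]
    ring
  rw [classInner_self_eq] at h4
  have h5 : (0 : ℝ) ≤ (Nat.card Γ : ℝ)⁻¹ * ∑ g : Γ, ‖(Ψ - S) g‖ ^ 2 := by positivity
  have h6 : ((Nat.card Γ : ℝ)⁻¹ * ∑ g : Γ, ‖(Ψ - S) g‖ ^ 2) =
      (K : ℝ) - ((∑ i, (a i) ^ 2 : ℕ) : ℝ) := by
    exact_mod_cast h4
  rw [h6] at h5
  have h7 : ((∑ i, (a i) ^ 2 : ℕ) : ℝ) ≤ (K : ℝ) := by linarith
  exact_mod_cast h7

/-- inner product of `ψ^Γ` with `θ^Γ`. -/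
theorem card_mul_classInner_indFun_indFun (U N : Subgroup Γ) [Fintype U] [Fintype N]
    [hN : N.Normal] (hNU : N ≤ U)
    (θ : N → ℂ) (hθ : IsIrrCharacter N θ)
    (hinv : ∀ (x : Γ) (n : N), θ ⟨x * n * x⁻¹, hN.conj_mem n n.2 x⟩ = θ n)
    (ψ : U → ℂ) (hext : ∀ n : N, ψ ⟨n, hNU n.2⟩ = θ n) :
    (Nat.card U : ℂ) * classInner (indFun U ψ) (indFun N θ) = (Nat.card Γ : ℂ) := by
  classical
  rw [frobenius_reciprocity U ψ _ (indFun_isClassFunction N θ)]
  have hval : ∀ g : Γ, indFun N θ g = (N.index : ℂ) * extendByZero N θ g := by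
    intro g
    by_cases hg : g ∈ N
    · rw [extendByZero_apply_of_mem N _ hg]
      exact indFun_coe_of_invariant N θ hinv ⟨g, hg⟩
    · rw [extendByZero_apply_not_mem N _ hg, mul_zero]
      exact Cfsg.Agent.Lib.H8.indFun_of_not_mem_normal N θ hg
  unfold classInner
  have hU : (Nat.card U : ℂ) ≠ 0 := by exact_mod_cast (Nat.card_pos (α := U)).ne'
  rw [← mul_assoc, mul_inv_cancel₀ hU, one_mul]
  have h3 : ∀ u : U, ψ u * conj (indFun N θ (u : Γ)) =
      (N.index : ℂ) * (ψ u * conj (extendByZero N θ (u : Γ))) := by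
    intro u
    rw [hval, map_mul, Complex.conj_natCast]
    ring
  rw [Finset.sum_congr rfl (fun u _ => h3 u), ← Finset.mul_sum,
    sum_mul_conj_extendByZero U N hNU θ hθ ψ hext, ← N.index_mul_card]
  push_cast
  ring

omit [Fintype Γ] in
theorem invariant_of_ramified (G N : Subgroup Γ) [hG : G.Normal] [hN : N.Normal] [Fintype G]
    (θ : N → ℂ)
    (hinv : ∀ (x : Γ) (n : N), θ ⟨x * n * x⁻¹, hN.conj_mem n n.2 x⟩ = θ n)
    (χ : G → ℂ) (e : ℂ) (he : e ≠ 0)
    (hram : indFun (N.subgroupOf G) (fun n : N.subgroupOf G => θ ⟨(n : G), n.2⟩) =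
      fun g => e * χ g) :
    ∀ (x : Γ) (g : G), χ ⟨x * g * x⁻¹, hG.conj_mem g g.2 x⟩ = χ g := by
  classical
  intro x g
  set θ' : N.subgroupOf G → ℂ := fun n : N.subgroupOf G => θ ⟨(n : G), n.2⟩ with hθ'
  set c : G ≃* G := MulAut.conjNormal x with hc
  have hcval : ∀ z : G, ((c z : G) : Γ) = x * z * x⁻¹ := fun z => MulAut.conjNormal_apply x z
  have hmem : ∀ z : G, c z ∈ N.subgroupOf G ↔ z ∈ N.subgroupOf G := by
    intro z
    rw [Subgroup.mem_subgroupOf, Subgroup.mem_subgroupOf, hcval]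
    constructor
    · intro h
      have := hN.conj_mem _ h x⁻¹
      simpa [mul_assoc] using this
    · intro h
      exact hN.conj_mem _ h x
  have hext : ∀ z : G, extendByZero (N.subgroupOf G) θ' (c z) = extendByZero (N.subgroupOf G) θ' z := by
    intro z
    by_cases hz : z ∈ N.subgroupOf G
    · rw [extendByZero_apply_of_mem _ _ hz, extendByZero_apply_of_mem _ _ ((hmem z).mpr hz)]
      simp only [hθ']
      have := hinv x ⟨(z : Γ), hz⟩
      convert this using 2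
      exact Subtype.ext (hcval z)
    · rw [extendByZero_apply_not_mem _ _ hz, extendByZero_apply_not_mem _ _ (fun h => hz ((hmem z).mp h))]
  have hkey : indFun (N.subgroupOf G) θ' (c g) = indFun (N.subgroupOf G) θ' g := by
    rw [indFun_apply, indFun_apply]
    congr 1
    rw [← Equiv.sum_comp c.toEquiv]
    refine Finset.sum_congr rfl fun y _ => ?_
    have : (c.toEquiv y)⁻¹ * c g * c.toEquiv y = c (y⁻¹ * g * y) := by
      simp only [MulEquiv.toEquiv_eq_coe, EquivLike.coe_coe, map_mul, map_inv]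
    rw [this, hext]
  rw [hram] at hkey
  simp only at hkey
  have h2 : c g = ⟨x * g * x⁻¹, hG.conj_mem g g.2 x⟩ := Subtype.ext (hcval g)
  rw [h2] at hkey
  exact mul_left_cancel₀ he hkey


/-- **Isaacs, Problem 13.10.** -/
theorem index_dvd_of_frobenius_ramified (G N : Subgroup Γ) [hG : G.Normal] [hN : N.Normal]
    [Fintype G] [Fintype N] (hNG : N ≤ G) (hGlt : G ≠ ⊤) (hcyc : IsCyclic (Γ ⧸ G))
    (hfrob : ∀ x : Γ, x ∉ G → ∀ g : Γ, g ∈ G → x * g * x⁻¹ * g⁻¹ ∈ N → g ∈ N)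
    (θ : N → ℂ) (hθ : IsIrrCharacter N θ)
    (hinv : ∀ (x : Γ) (n : N), θ ⟨x * n * x⁻¹, hN.conj_mem n n.2 x⟩ = θ n)
    (χ : G → ℂ) (hχ : IsIrrCharacter G χ) (e : ℕ)
    (hram : indFun (N.subgroupOf G) (fun n : N.subgroupOf G => θ ⟨(n : G), n.2⟩) =
      fun g => (e : ℂ) * χ g) :
    (G.index : ℤ) ∣ (e : ℤ) - 1 ∨ (G.index : ℤ) ∣ (e : ℤ) + 1 := by
  classical
  -- Step 1: e ≠ 0
  have he0 : e ≠ 0 := by
    rintro rfl
    have h1 := congrFun hram 1
    rw [Cfsg.Agent.Lib.L0.indFun_apply_one] at h1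
    simp only [Nat.cast_zero, zero_mul] at h1
    rcases mul_eq_zero.mp h1 with h2 | h2
    · have : (N.subgroupOf G).index ≠ 0 := Subgroup.index_ne_zero_of_finite
      exact this (by exact_mod_cast h2)
    · exact irr_one_ne_zero ⟨θ, hθ⟩ h2
  have heC : (e : ℂ) ≠ 0 := by exact_mod_cast he0
  -- Step 2: χ invariant
  have hχinv := invariant_of_ramified G N θ hinv χ (e : ℂ) heC hram
  -- Step 3: complement
  obtain ⟨U, hNU, hUG, hsup, hcycU, hTI⟩ := exists_frob_complement G N hNG hGlt hcyc hfrob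
  have : Fintype U := Fintype.ofFinite _
  -- Step 4: extension ψ of θ to U
  obtain ⟨ψ, hψ, hext⟩ : ∃ ψ : U → ℂ, IsIrrCharacter U ψ ∧ ∀ n : N, ψ ⟨n, hNU n.2⟩ = θ n := by
    set eq : N.subgroupOf U ≃* N := Subgroup.subgroupOfEquivOfLe hNU with heq
    have hθ' : IsIrrCharacter (N.subgroupOf U) (θ ∘ eq) :=
      Cfsg.Agent.Lib.H23.isIrrCharacter_comp_mulEquiv eq hθ
    have hinv' : ∀ (g : U) (n : N.subgroupOf U),
        (θ ∘ eq) ⟨g * n * g⁻¹, (inferInstance : (N.subgroupOf U).Normal).conj_mem (n : U) n.2 g⟩ =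
          (θ ∘ eq) n := by
      intro g n
      exact hinv (g : Γ) (eq n)
    obtain ⟨ψ, hψ, hψext⟩ := Cfsg.Agent.Lib.H23.exists_extension_of_cyclic (N.subgroupOf U) hcycU
      (θ ∘ eq) hθ' hinv'
    refine ⟨ψ, hψ, fun n => ?_⟩
    have := hψext ⟨⟨n, hNU n.2⟩, n.2⟩
    rw [this]
    rfl
  -- Step 5: extension χ̂ of χ to Γ
  obtain ⟨χh, hχh, hχhext⟩ := Cfsg.Agent.Lib.H23.exists_extension_of_cyclic G hcyc χ hχ hχinv
  -- Step 6: T = e • X
  set T : Γ → ℂ := indFun N θ with hT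
  set X : Γ → ℂ := indFun G χ with hX
  have hTX : T = (e : ℂ) • X := by
    have h : indFun G (indFun (N.subgroupOf G) (fun n : N.subgroupOf G => θ ⟨(n : G), n.2⟩)) =
        indFun N θ := indFun_trans N G hNG θ
    rw [hram] at h
    rw [hT, ← h, hX, ← indFun_smul]
    rfl
  -- Step 7
  have hTT : classInner T T = (N.index : ℂ) := classInner_indFun_self_of_invariant N θ hθ hinv
  have hXX : classInner X X = (G.index : ℂ) := classInner_indFun_self_of_invariant G χ hχ hχinv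
  have hidx : N.index = e ^ 2 * G.index := by
    have : (N.index : ℂ) = (e : ℂ) ^ 2 * G.index := by
      rw [← hTT, hTX, classInner_smul_left, classInner_smul_right, hXX, Complex.conj_natCast]
      ring
    exact_mod_cast this
  -- Step 8
  have hm0 : 0 < G.index := Nat.pos_of_ne_zero Subgroup.index_ne_zero_of_finite
  have hinfUG : G ⊓ U = N := le_antisymm (fun u hu => hUG u hu.2 hu.1) (le_inf hNG hNU)
  have hrel : N.relIndex U = G.index := by
    rw [← hinfUG, Subgroup.inf_relIndex_right, ← Subgroup.relIndex_sup_right (K := G) (H := U),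
      hsup, Subgroup.relIndex_top_right]
  have hcardU : Nat.card U = G.index * Nat.card N := by
    rw [← hrel]
    have h1 := (N.subgroupOf U).index_mul_card
    rw [Nat.card_congr (Subgroup.subgroupOfEquivOfLe hNU).toEquiv] at h1
    exact h1.symm
  have hN0 : 0 < Nat.card N := Nat.card_pos
  -- Step 9
  have hUidx : U.index = e ^ 2 := by
    have h1 := U.index_mul_card
    have h2 := N.index_mul_card
    rw [hcardU] at h1
    rw [hidx] at h2
    have : U.index * (G.index * Nat.card N) = e ^ 2 * (G.index * Nat.card N) := by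
      rw [h1, ← h2]; ring
    exact Nat.eq_of_mul_eq_mul_right (Nat.mul_pos hm0 hN0) this
  -- Step 10
  set Ψ : Γ → ℂ := indFun U ψ with hΨ
  have hΨchar : IsCharacter Γ Ψ := isCharacter_indFun U (isCharacter_of_irr hψ)
  obtain ⟨K, hK⟩ := classInner_char_char_nat hΨchar hΨchar
  have hNC : (Nat.card N : ℂ) ≠ 0 := by exact_mod_cast hN0.ne'
  have hKeq : G.index * K + 1 = G.index + e ^ 2 := by
    have h1 := card_mul_norm_indFun U N hNU hTI θ hθ hinv ψ hψ hext
    rw [← hΨ, hK, hUidx, hcardU] at h1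
    push_cast at h1
    have h2 : (G.index : ℂ) * K + 1 = G.index + (e : ℂ) ^ 2 := by
      have : (Nat.card N : ℂ) * ((G.index : ℂ) * K + 1) =
          (Nat.card N : ℂ) * (G.index + (e : ℂ) ^ 2) := by linear_combination h1
      exact mul_left_cancel₀ hNC this
    exact_mod_cast h2
  -- Step 11
  have hU0 : (Nat.card U : ℂ) ≠ 0 := by exact_mod_cast (Nat.card_pos (α := U)).ne'
  have hΨX : classInner Ψ X = (e : ℂ) := by
    have h1 := card_mul_classInner_indFun_indFun U N hNU θ hθ hinv ψ hext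
    rw [← hΨ, ← hT, hTX, classInner_smul_right, Complex.conj_natCast] at h1
    have h2 : (Nat.card Γ : ℂ) = (e : ℂ) ^ 2 * (Nat.card U : ℂ) := by
      rw [← U.index_mul_card, hUidx]; push_cast; ring
    rw [h2] at h1
    have : (Nat.card U : ℂ) * (e : ℂ) * classInner Ψ X = (Nat.card U : ℂ) * (e : ℂ) * e := by
      linear_combination h1
    exact mul_left_cancel₀ (mul_ne_zero hU0 heC) this
  -- Step 12: the family of extensions of χ
  have : Fintype (IrrCharacter (Γ ⧸ G)) := Fintype.ofFinite _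
  have : Fintype (Γ ⧸ G) := Fintype.ofFinite _
  have hcomm : ∀ a b : Γ ⧸ G, a * b = b * a := fun a b =>
    (IsCyclic.isMulCommutative (α := Γ ⧸ G)).is_comm.comm a b
  have hμ1 : ∀ μ : IrrCharacter (Γ ⧸ G), (μ : Γ ⧸ G → ℂ) 1 = 1 := fun μ =>
    Cfsg.Agent.Lib.L0.irr_apply_one_of_comm hcomm μ.2
  have hcardI : Fintype.card (IrrCharacter (Γ ⧸ G)) = G.index := by
    have h1 := sum_irr_one_sq (G := Γ ⧸ G)
    simp only [hμ1, one_pow, Finset.sum_const, Finset.card_univ, nsmul_eq_mul, mul_one] at h1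
    rw [Subgroup.index_eq_card]
    exact_mod_cast h1
  set lam : IrrCharacter (Γ ⧸ G) → Γ → ℂ :=
    fun μ => (μ : Γ ⧸ G → ℂ) ∘ (QuotientGroup.mk' G) with hlam
  have hlamirr : ∀ μ, IsIrrCharacter Γ (lam μ) := fun μ =>
    isIrrCharacter_comp_of_surjective (QuotientGroup.mk' G) (QuotientGroup.mk'_surjective G) μ.2
  have hlaminj : ∀ μ μ', lam μ = lam μ' → μ = μ' := by
    intro μ μ' h
    apply Subtype.ext
    funext q
    obtain ⟨g, rfl⟩ := QuotientGroup.mk_surjective q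
    exact congrFun h g
  set ξ : IrrCharacter (Γ ⧸ G) → Γ → ℂ := fun μ => lam μ * χh with hξ
  have hχhcf : IsClassFunction Γ χh := isClassFunction_of_isCharacter (isCharacter_of_irr hχh)
  have hXsum : X = ∑ μ, ξ μ := by
    have h1 := indFun_mul_restrict G (fun _ => (1 : ℂ)) χh hχhcf
    have h2 : ((fun _ : G => (1 : ℂ)) * fun n : G => χh n) = χ := by
      funext g
      simp [hχhext]
    rw [h2, indFun_one_eq_sum] at h1
    rw [hX, h1, Finset.sum_mul]
    refine Finset.sum_congr rfl fun μ _ => ?_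
    rw [hμ1, one_smul]
  have hone : IsIrrCharacter G (fun _ : G => (1 : ℂ)) :=
    Cfsg.Agent.Lib.H24.isIrrCharacter_one (G := G)
  have hβ : ∀ ν : IrrCharacter (Γ ⧸ G),
      classInner (indFun G (fun _ => (1 : ℂ))) (lam ν) ≠ 0 := by
    intro ν
    rw [frobenius_reciprocity G _ _
      (isClassFunction_of_isCharacter (isCharacter_of_irr (hlamirr ν)))]
    have h3 : (fun g : G => lam ν (g : Γ)) = fun _ => (1 : ℂ) := by
      funext g
      simp only [hlam, Function.comp, QuotientGroup.mk'_apply]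
      rw [(QuotientGroup.eq_one_iff _).mpr g.2, hμ1]
    rw [h3, irr_classInner_self hone]
    exact one_ne_zero
  have horth : ∀ μ μ', classInner (ξ μ) (ξ μ') = if μ = μ' then 1 else 0 := by
    intro μ μ'
    have h4 := gallagher_orthonormal G (fun _ => (1 : ℂ)) χ hone (fun _ _ => rfl) hχinv
      (by convert hχ using 1; funext g; simp) χh hχh hχhext ⟨lam μ, hlamirr μ⟩
      ⟨lam μ', hlamirr μ'⟩ (hβ μ) (hβ μ')
    rw [hξ]
    simp only
    rw [h4]
    by_cases hμ : μ = μ'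
    · rw [if_pos hμ, if_pos (by rw [hμ])]
    · rw [if_neg hμ, if_neg]
      intro h
      exact hμ (hlaminj μ μ' (congrArg Subtype.val h))
  -- Step 13
  have hξchar : ∀ μ, IsCharacter Γ (ξ μ) := fun μ =>
    isCharacter_mul (isCharacter_of_irr (hlamirr μ)) (isCharacter_of_irr hχh)
  have ha : ∀ μ, ∃ n : ℕ, classInner Ψ (ξ μ) = n := fun μ =>
    classInner_char_char_nat hΨchar (hξchar μ)
  choose a ha using ha
  have hsum : ∑ μ, a μ = e := by
    have : classInner Ψ X = ((∑ μ, a μ : ℕ) : ℂ) := by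
      rw [hXsum, classInner_sum_right]
      push_cast
      exact Finset.sum_congr rfl fun μ _ => ha μ
    rw [hΨX] at this
    exact_mod_cast this.symm
  have hbes := bessel_nat Ψ ξ a horth ha K hK
  apply num_lemma a G.index e hcardI hm0 hsum
  · calc G.index * ∑ μ, a μ ^ 2 + 1 ≤ G.index * K + 1 := by
          exact Nat.add_le_add_right (Nat.mul_le_mul_left _ hbes) 1
      _ = G.index + e ^ 2 := hKeq
  · intro hdvd
    have : G.index ∣ 1 := by
      have h1 : G.index ∣ G.index * K + 1 := by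
        rw [hKeq]
        exact dvd_add dvd_rfl (dvd_pow hdvd two_ne_zero)
      exact (Nat.dvd_add_right (dvd_mul_right _ _)).mp h1
    exact Nat.dvd_one.mp this

end chars

end Cfsg.Agent.Lib.H18.FrobRam
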