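import Mathlib
import Cfsg.Agent.Lib.H18.FrobeniusThm
import Cfsg.Agent.Lib.H24.CharDefl

/-!
# Wielandt's generalisation of Frobenius' theorem (helper18)

If `K ⊴ M ≤ G` and `M ∩ gMg⁻¹ ≤ K` for all `g ∉ M`, then there is `N ⊴ G` with `N ∩ M = K` and
`NM = G`.  The proof is the classical one through induced characters (as for Frobenius' theorem).

Main results: `WielandtHyp M K`, `wielandt_theorem`.
-/

set_option autoImplicit false

namespace Cfsg.Agent.Lib.H18

open scoped ComplexConjugate Pointwise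
open Cfsg

/-- Hypothesis of Wielandt's theorem. -/
structure WielandtHyp {G : Type*} [Group G] (M K : Subgroup G) : Prop where
  le : K ≤ M
  conj_mem : ∀ m ∈ M, ∀ k ∈ K, m * k * m⁻¹ ∈ K
  inter : ∀ g : G, g ∉ M → ∀ x ∈ M, g⁻¹ * x * g ∈ M → x ∈ K

namespace WielandtHyp

variable {G : Type*} [Group G] {M K : Subgroup G}

theorem inter' (hW : WielandtHyp M K) {g : G} (hg : g ∉ M) {x : G} (hx : x ∈ M)
    (hgx : g⁻¹ * x * g ∈ M) : g⁻¹ * x * g ∈ K := by
  have hg' : g⁻¹ ∉ M := fun h => hg (by simpa using M.inv_mem h)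
  refine hW.inter g⁻¹ hg' _ hgx ?_
  have : g⁻¹⁻¹ * (g⁻¹ * x * g) * g⁻¹ = x := by group
  rw [this]
  exact hx

theorem conj_mem' (hW : WielandtHyp M K) {m : G} (hm : m ∈ M) {k : G} (hk : k ∈ K) :
    m⁻¹ * k * m ∈ K := by
  have := hW.conj_mem m⁻¹ (M.inv_mem hm) k hk
  simpa using this

theorem conj_mem_iff (hW : WielandtHyp M K) {m : G} (hm : m ∈ M) {k : G} :
    m⁻¹ * k * m ∈ K ↔ k ∈ K := by
  constructor
  · intro h
    have := hW.conj_mem m hm _ h
    have e : m * (m⁻¹ * k * m) * m⁻¹ = k := by group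
    rwa [e] at this
  · exact fun h => hW.conj_mem' hm h

theorem normal_subgroupOf (hW : WielandtHyp M K) : (K.subgroupOf M).Normal := by
  refine ⟨fun k hk m => ?_⟩
  rw [Subgroup.mem_subgroupOf] at hk ⊢
  exact hW.conj_mem m m.2 k hk

end WielandtHyp

section Induction

variable {G : Type*} [Group G] [Fintype G] {M K : Subgroup G}

/-- Induction of a class function vanishing on `K`: values on `M`. -/
theorem indFun_wiel_apply_mem (hW : WielandtHyp M K) (θ : M → ℂ) (hθ : IsClassFunction M θ)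
    (hθK : ∀ m : M, (m : G) ∈ K → θ m = 0) (m : M) : indFun M θ (m : G) = θ m := by
  classical
  rw [Cfsg.Agent.Lib.L0.indFun_apply]
  have key : ∀ x : G, extendByZero M θ (x⁻¹ * (m : G) * x) = if x ∈ M then θ m else 0 := by
    intro x
    split_ifs with hx
    · have hmem : x⁻¹ * (m : G) * x ∈ M := M.mul_mem (M.mul_mem (M.inv_mem hx) m.2) hx
      rw [Cfsg.Agent.Lib.L0.extendByZero_apply_of_mem _ _ hmem]
      have := hθ m (⟨x, hx⟩⁻¹ : M)
      rw [← this]
      congr 1
      apply Subtype.ext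
      simp
    · by_cases hmem : x⁻¹ * (m : G) * x ∈ M
      · rw [Cfsg.Agent.Lib.L0.extendByZero_apply_of_mem _ _ hmem]
        exact hθK _ (hW.inter' hx m.2 hmem)
      · rw [Cfsg.Agent.Lib.L0.extendByZero_apply_not_mem _ _ hmem]
  rw [Finset.sum_congr rfl fun x _ => key x, Finset.sum_ite, Finset.sum_const_zero, add_zero,
    Finset.sum_const, nsmul_eq_mul]
  have hcard : (Finset.univ.filter fun x : G => x ∈ M).card = Nat.card M := by
    rw [Nat.card_eq_fintype_card, Fintype.card_subtype]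
  rw [hcard]
  have hN : (Nat.card M : ℂ) ≠ 0 := by
    exact_mod_cast (Nat.card_pos (α := M)).ne'
  field_simp

/-- Induction of a function vanishing on `K`: it vanishes at the elements no conjugate of which
lies in `M ∖ K`. -/
theorem indFun_wiel_apply_outside (θ : M → ℂ) (hθK : ∀ m : M, (m : G) ∈ K → θ m = 0) {x : G}
    (hx : ∀ y : G, y⁻¹ * x * y ∈ M → y⁻¹ * x * y ∈ K) : indFun M θ x = 0 := by
  rw [Cfsg.Agent.Lib.L0.indFun_apply]
  have key : ∀ y : G, extendByZero M θ (y⁻¹ * x * y) = 0 := by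
    intro y
    by_cases hmem : y⁻¹ * x * y ∈ M
    · rw [Cfsg.Agent.Lib.L0.extendByZero_apply_of_mem _ _ hmem]
      exact hθK _ (hx y hmem)
    · exact Cfsg.Agent.Lib.L0.extendByZero_apply_not_mem _ _ hmem
  rw [Finset.sum_congr rfl fun y _ => key y, Finset.sum_const_zero, mul_zero]

end Induction

section Irreducible

open Cfsg.Agent.Lib.L0 Cfsg.Agent.Lib.H24 Cfsg.Agent.Lib.H8

variable {G : Type*} [Group G] [Fintype G] {H : Subgroup G} [Fintype H]

/-- Norm computation for `frobExt ψ`, assuming only that `Ind θ` restricts to `θ` on `H`. -/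
theorem frobExt_norm_of_res (ψ : IrrCharacter H)
    (hres : ∀ h : H, indFun H (frobTheta (ψ : H → ℂ)) (h : G) = frobTheta (ψ : H → ℂ) h) :
    classInner (frobExt (G := G) (ψ : H → ℂ)) (frobExt (G := G) (ψ : H → ℂ)) = 1 := by
  obtain ⟨n, -, hn⟩ := irr_one_eq ψ
  set c : ℂ := (ψ : H → ℂ) 1 with hc
  have hcc : conj c = c := by rw [hn, Complex.conj_natCast]
  set θ : H → ℂ := frobTheta (ψ : H → ℂ) with hθ
  set Θ : G → ℂ := indFun H θ with hΘ
  set δ : ℂ := classInner (ψ : H → ℂ) (fun _ : H => (1 : ℂ)) with hδ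
  have hδ' : classInner (fun _ : H => (1 : ℂ)) (ψ : H → ℂ) = δ := by
    have h1 := irr_orthonormal ψ (trivialIrr H)
    have h2 := irr_orthonormal (trivialIrr H) ψ
    have e1 : classInner (ψ : H → ℂ) (fun _ : H => (1 : ℂ)) = if ψ = trivialIrr H then 1 else 0 := h1
    have e2 : classInner (fun _ : H => (1 : ℂ)) (ψ : H → ℂ) = if trivialIrr H = ψ then 1 else 0 := h2
    rw [hδ, e1, e2]
    by_cases hh : ψ = trivialIrr H
    · rw [if_pos hh, if_pos hh.symm]
    · rw [if_neg hh, if_neg (fun h => hh h.symm)]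
  have hψψ : classInner (ψ : H → ℂ) (ψ : H → ℂ) = 1 := by
    have := irr_orthonormal ψ ψ
    simpa using this
  have h11H := classInner_one_one H
  have h11G := classInner_one_one G
  have hθeq : θ = c • (fun _ : H => (1 : ℂ)) + (-1 : ℂ) • (ψ : H → ℂ) := frobTheta_eq _
  have hθ1 : classInner θ (fun _ : H => (1 : ℂ)) = c - δ := by
    rw [hθeq, classInner_add_left, classInner_smul_left, classInner_smul_left, h11H]
    ring
  have hθθ : classInner θ θ = c * c - 2 * c * δ + 1 := by
    have e1 : classInner θ θ = c * classInner (fun _ : H => (1 : ℂ)) θ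
        + (-1) * classInner (ψ : H → ℂ) θ := by
      conv_lhs => rw [hθeq]
      rw [classInner_add_left, classInner_smul_left, classInner_smul_left, ← hθeq]
    have e2 : classInner (fun _ : H => (1 : ℂ)) θ = c - δ := by
      rw [hθeq, classInner_add_right, classInner_smul_right, classInner_smul_right, h11H, hδ',
        hcc]
      simp
      ring
    have e3 : classInner (ψ : H → ℂ) θ = c * δ - 1 := by
      rw [hθeq, classInner_add_right, classInner_smul_right, classInner_smul_right, hψψ, hcc]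
      simp
      ring
    rw [e1, e2, e3]
    ring
  have hΘres : (fun h : H => Θ h) = θ := by
    funext h
    exact hres h
  have h1cf : IsClassFunction G (fun _ : G => (1 : ℂ)) := fun _ _ => rfl
  have hΘ1 : classInner Θ (fun _ : G => (1 : ℂ)) = c - δ := by
    rw [hΘ, frobenius_reciprocity H θ _ h1cf]
    exact hθ1
  have h1Θ : classInner (fun _ : G => (1 : ℂ)) Θ = c - δ := by
    rw [← classInner_conj_symm, hΘ1, map_sub, hcc]
    congr 1
    rw [hδ, classInner_conj_symm, hδ']
  have hΘΘ : classInner Θ Θ = c * c - 2 * c * δ + 1 := by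
    rw [hΘ, frobenius_reciprocity H θ _ (indFun_isClassFunction H θ)]
    rw [← hΘ, hΘres]
    exact hθθ
  have hext : frobExt (G := G) (ψ : H → ℂ) = c • (fun _ : G => (1 : ℂ)) - Θ := frobExt_eq _
  rw [hext, classInner_sub_left, classInner_sub_right, classInner_sub_right,
    classInner_smul_left, classInner_smul_left, classInner_smul_right, classInner_smul_right,
    h11G, hΘ1, h1Θ, hΘΘ, hcc]
  ring

theorem frobExt_isIrrCharacter_of_res (ψ : IrrCharacter H)
    (hres : ∀ h : H, indFun H (frobTheta (ψ : H → ℂ)) (h : G) = frobTheta (ψ : H → ℂ) h) :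
    IsIrrCharacter G (frobExt (G := G) (ψ : H → ℂ)) := by
  rcases genChar_norm_one (frobExt_isGeneralizedCharacter ψ) (frobExt_norm_of_res ψ hres) with h | h
  · exact h
  · exfalso
    obtain ⟨n, hn0, hn⟩ := irr_one_eq ψ
    obtain ⟨m, hm0, hm⟩ := irr_one_eq ⟨_, h⟩
    simp only [Pi.neg_apply] at hm
    have h1 : frobExt (G := G) (ψ : H → ℂ) 1 = (ψ : H → ℂ) 1 := by
      simp only [frobExt]
      rw [Cfsg.Agent.Lib.H24.indFun_one, frobTheta_one, mul_zero, sub_zero]
    rw [h1, hn] at hm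
    have : ((n + m : ℕ) : ℂ) = 0 := by
      push_cast
      rw [← hm]
      ring
    have h0 : n + m = 0 := by exact_mod_cast this
    omega

end Irreducible

section Main

open Cfsg.Agent.Lib.L0 Cfsg.Agent.Lib.H24 Cfsg.Agent.Lib.H8 Cfsg.Agent.Lib.H1

variable {G : Type*} [Group G] [Finite G]

/-- **Wielandt's theorem** (generalising Frobenius' theorem). -/
theorem wielandt_theorem (M K : Subgroup G) (hW : WielandtHyp M K) :
    ∃ N : Subgroup G, N.Normal ∧ N ⊓ M = K ∧ N ⊔ M = ⊤ ∧
      Nat.card N * Nat.card M = Nat.card G * Nat.card K ∧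
      ∀ x : G, x ∉ N → ∃ y : G, y⁻¹ * x * y ∈ M ∧ y⁻¹ * x * y ∉ K := by
  classical
  have : Fintype G := Fintype.ofFinite G
  have : Fintype M := Fintype.ofFinite M
  -- the relevant characters
  let I : Type _ := {ψ : IrrCharacter M // ∀ m : M, (m : G) ∈ K → (ψ : M → ℂ) m = (ψ : M → ℂ) 1}
  have hθK : ∀ ψ : I, ∀ m : M, (m : G) ∈ K → frobTheta ((ψ.1 : IrrCharacter M) : M → ℂ) m = 0 := by
    intro ψ m hm
    simp only [frobTheta]
    rw [ψ.2 m hm, sub_self]
  have hcf : ∀ ψ : IrrCharacter M, IsClassFunction M (ψ : M → ℂ) := fun ψ =>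
    isClassFunction_of_isCharacter (isCharacter_of_irr ψ.2)
  have hres : ∀ ψ : I, ∀ h : M, indFun M (frobTheta ((ψ.1 : IrrCharacter M) : M → ℂ)) (h : G) =
      frobTheta ((ψ.1 : IrrCharacter M) : M → ℂ) h := fun ψ h =>
    indFun_wiel_apply_mem hW _ (frobTheta_isClassFunction (hcf ψ.1)) (hθK ψ) h
  have hirr : ∀ ψ : I, IsIrrCharacter G (frobExt (G := G) ((ψ.1 : IrrCharacter M) : M → ℂ)) :=
    fun ψ => frobExt_isIrrCharacter_of_res ψ.1 (hres ψ)
  have hext_mem : ∀ ψ : I, ∀ m : M, frobExt (G := G) ((ψ.1 : IrrCharacter M) : M → ℂ) (m : G) =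
      ((ψ.1 : IrrCharacter M) : M → ℂ) m := by
    intro ψ m
    simp only [frobExt]
    rw [hres ψ m]
    simp [frobTheta]
  have hext_one : ∀ ψ : I, frobExt (G := G) ((ψ.1 : IrrCharacter M) : M → ℂ) 1 =
      ((ψ.1 : IrrCharacter M) : M → ℂ) 1 := by
    intro ψ
    have := hext_mem ψ 1
    simpa using this
  let N : Subgroup G := ⨅ ψ : I,
    charKer (frobExt (G := G) ((ψ.1 : IrrCharacter M) : M → ℂ)) (isCharacter_of_irr (hirr ψ))
  have hNn : N.Normal := Subgroup.normal_iInf_normal fun ψ => inferInstance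
  have hmemN : ∀ x : G, x ∈ N ↔ ∀ ψ : I,
      frobExt (G := G) ((ψ.1 : IrrCharacter M) : M → ℂ) x = ((ψ.1 : IrrCharacter M) : M → ℂ) 1 := by
    intro x
    simp only [N, Subgroup.mem_iInf, mem_charKer, hext_one]
  -- `K ≤ N`
  have hKN : K ≤ N := by
    intro k hk
    rw [hmemN]
    intro ψ
    have := hext_mem ψ ⟨k, hW.le hk⟩
    rw [this]
    exact ψ.2 ⟨k, hW.le hk⟩ hk
  -- `N ⊓ M ≤ K`
  have hNM : N ⊓ M ≤ K := by
    rintro x ⟨hxN, hxM⟩
    have hnorm : (K.subgroupOf M).Normal := hW.normal_subgroupOf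
    have h1 : (QuotientGroup.mk' (K.subgroupOf M) ⟨x, hxM⟩ : M ⧸ K.subgroupOf M) = 1 := by
      apply eq_one_of_forall_irr_eq
      intro ψ
      have hψ' : ∀ m : M, (m : G) ∈ K → ((inflIrr (K.subgroupOf M) ψ : IrrCharacter M) : M → ℂ) m =
          ((inflIrr (K.subgroupOf M) ψ : IrrCharacter M) : M → ℂ) 1 := by
        intro m hm
        rw [inflIrr_apply, inflIrr_apply]
        have : ((m : M) : M ⧸ K.subgroupOf M) = ((1 : M) : M ⧸ K.subgroupOf M) := by
          rw [QuotientGroup.mk_one, QuotientGroup.eq_one_iff]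
          exact hm
        rw [this]
      let ψ' : I := ⟨inflIrr (K.subgroupOf M) ψ, hψ'⟩
      have e1 := (hmemN x).mp hxN ψ'
      have e2 := hext_mem ψ' ⟨x, hxM⟩
      have e3 : ((ψ'.1 : IrrCharacter M) : M → ℂ) ⟨x, hxM⟩ = ((ψ'.1 : IrrCharacter M) : M → ℂ) 1 := by
        rw [← e2]
        exact e1
      have e4 := e3
      simp only [ψ'] at e4
      rw [inflIrr_apply, inflIrr_apply] at e4
      exact e4
    have := (QuotientGroup.eq_one_iff _).mp h1
    exact this
  have hNMeq : N ⊓ M = K := le_antisymm hNM (le_inf hKN hW.le)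
  -- the "outside" set lies in `N`
  have hXN : ∀ x : G, (∀ y : G, y⁻¹ * x * y ∈ M → y⁻¹ * x * y ∈ K) → x ∈ N := by
    intro x hx
    rw [hmemN]
    intro ψ
    simp only [frobExt]
    rw [indFun_wiel_apply_outside _ (hθK ψ) hx, sub_zero]
  -- counting
  have hout : ∀ x : G, x ∉ N → ∃ y : G, y⁻¹ * x * y ∈ M ∧ y⁻¹ * x * y ∉ K := by
    intro x hx
    have : ¬ ∀ y : G, y⁻¹ * x * y ∈ M → y⁻¹ * x * y ∈ K := fun h => hx (hXN x h)
    push Not at this
    exact this
  suffices hsup : N ⊔ M = ⊤ ∧ Nat.card N * Nat.card M = Nat.card G * Nat.card K from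
    ⟨N, hNn, hNMeq, hsup.1, hsup.2, hout⟩
  -- the complement of the outside set is covered by conjugates of `M ∖ K`
  let D : Type _ := (G ⧸ M) × {m : M // (m : G) ∉ K}
  let f : D → G := fun d => (d.1.out : G) * ((d.2 : M) : G) * (d.1.out : G)⁻¹
  have hcover : ∀ x : G, x ∉ N → x ∈ Set.range f := by
    intro x hx
    have : ¬ ∀ y : G, y⁻¹ * x * y ∈ M → y⁻¹ * x * y ∈ K := fun h => hx (hXN x h)
    push Not at this
    obtain ⟨y, hyM, hyK⟩ := this
    -- `y = q.out * m₀`
    set q : G ⧸ M := (y : G ⧸ M) with hq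
    have hm0 : (q.out : G)⁻¹ * y ∈ M := by
      have := QuotientGroup.out_eq' q
      rw [hq] at this ⊢
      exact QuotientGroup.leftRel_apply.mp (Quotient.exact' this)
    set m0 : G := (q.out : G)⁻¹ * y with hm0def
    have hy : y = q.out * m0 := by rw [hm0def]; group
    have hmem : m0 * (y⁻¹ * x * y) * m0⁻¹ ∈ M := M.mul_mem (M.mul_mem hm0 hyM) (M.inv_mem hm0)
    have hnotK : m0 * (y⁻¹ * x * y) * m0⁻¹ ∉ K := by
      intro h
      apply hyK
      have := hW.conj_mem' hm0 h
      have e : m0⁻¹ * (m0 * (y⁻¹ * x * y) * m0⁻¹) * m0 = y⁻¹ * x * y := by group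
      rwa [e] at this
    refine ⟨(q, ⟨⟨_, hmem⟩, hnotK⟩), ?_⟩
    simp only [f]
    rw [hy]
    group
  -- cardinalities
  have hcardD : Nat.card D = M.index * (Nat.card M - Nat.card K) := by
    rw [Nat.card_prod]
    congr 1
    have e1 : Nat.card {m : M // (m : G) ∉ K} = Nat.card M - Nat.card {m : M // (m : G) ∈ K} := by
      rw [Nat.card_eq_fintype_card, Nat.card_eq_fintype_card, Nat.card_eq_fintype_card]
      exact Fintype.card_subtype_compl _
    have e2 : Nat.card {m : M // (m : G) ∈ K} = Nat.card K := by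
      have : Nat.card (K.subgroupOf M) = Nat.card K :=
        Nat.card_congr (Subgroup.subgroupOfEquivOfLe hW.le).toEquiv
      rw [← this]
      rfl
    rw [e1, e2]
  have hcompl : Nat.card {x : G // x ∉ N} ≤ M.index * (Nat.card M - Nat.card K) := by
    rw [← hcardD]
    have : Function.Injective (fun x : {x : G // x ∉ N} => (hcover x.1 x.2).choose) := by
      intro a b hab
      have ha := (hcover a.1 a.2).choose_spec
      have hb := (hcover b.1 b.2).choose_spec
      apply Subtype.ext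
      rw [← ha, ← hb]
      exact congrArg f hab
    exact Nat.card_le_card_of_injective _ this
  have hsplit : Nat.card N + Nat.card {x : G // x ∉ N} = Nat.card G := by
    have := Nat.card_congr (Equiv.sumCompl (fun x : G => x ∈ N))
    rw [Nat.card_sum] at this
    exact this
  have hKM : Nat.card K ≤ Nat.card M := Subgroup.card_le_of_le hW.le
  have hGM : M.index * Nat.card M = Nat.card G := by
    rw [mul_comm]; exact M.card_mul_index
  have hNlower : M.index * Nat.card K ≤ Nat.card N := by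
    have h1 : M.index * (Nat.card M - Nat.card K) = M.index * Nat.card M - M.index * Nat.card K :=
      Nat.mul_sub _ _ _
    have h2 : M.index * Nat.card K ≤ M.index * Nat.card M := Nat.mul_le_mul_left _ hKM
    omega
  -- `|N ⊔ M| * |K| = |N| * |M|`
  have hrel : (N ⊓ M).relIndex M = N.relIndex (N ⊔ M) := by
    rw [Subgroup.inf_relIndex_right, Subgroup.relIndex_sup_left]
  have c1 : Nat.card (N ⊓ M : Subgroup G) * (N ⊓ M).relIndex M = Nat.card M := by
    have h1 := Subgroup.relIndex_mul_relIndex ⊥ (N ⊓ M) M bot_le inf_le_right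
    rwa [Subgroup.relIndex_bot_left, Subgroup.relIndex_bot_left] at h1
  have c2 : Nat.card N * N.relIndex (N ⊔ M) = Nat.card (N ⊔ M : Subgroup G) := by
    have h1 := Subgroup.relIndex_mul_relIndex ⊥ N (N ⊔ M) bot_le le_sup_left
    rwa [Subgroup.relIndex_bot_left, Subgroup.relIndex_bot_left] at h1
  rw [hNMeq] at c1
  rw [hNMeq] at hrel
  have hprod : Nat.card (N ⊔ M : Subgroup G) * Nat.card K = Nat.card N * Nat.card M := by
    rw [← c2, ← c1, hrel]
    ring
  have hKpos : 0 < Nat.card K := Nat.card_pos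
  have hge : Nat.card G ≤ Nat.card (N ⊔ M : Subgroup G) := by
    have h1 : Nat.card G * Nat.card K ≤ Nat.card (N ⊔ M : Subgroup G) * Nat.card K := by
      rw [hprod, ← hGM]
      calc M.index * Nat.card M * Nat.card K = (M.index * Nat.card K) * Nat.card M := by ring
        _ ≤ Nat.card N * Nat.card M := Nat.mul_le_mul_right _ hNlower
    exact Nat.le_of_mul_le_mul_right h1 hKpos
  have htop : N ⊔ M = ⊤ :=
    Subgroup.card_eq_iff_eq_top _ |>.mp (le_antisymm (Subgroup.card_le_card_group _) hge)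
  refine ⟨htop, ?_⟩
  rw [← hprod, htop, Subgroup.card_top]

end Main

end Cfsg.Agent.Lib.H18
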