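/-
S4330 (Fumagalli's subnormality criterion, solvable case; architect helper14, tools/blueprints/S4330.md), piece **P6**:
the statement from the avoiding-vector theorem (★) `exists_avoiding`.

`S4330_of_avoiding` takes (★) as an explicit hypothesis `hav`; the final `S4330_statement` is obtained by plugging helper14's P7.
-/
import Mathlib
import Cfsg.Prelude.Def_Solvable
import Cfsg.Agent.Lib.H14.FumDefs
import Cfsg.Agent.Lib.H14.Subnormal
import Cfsg.Agent.Lib.H7.Kazarin2
import Cfsg.Agent.Lib.H1.PCore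
import Cfsg.Agent.Lib.H3.SFC2Core
import Cfsg.Agent.Lib.H29.SFD1

set_option autoImplicit false
set_option linter.style.haveILetI false
open Pointwise

namespace Cfsg.Agent.Lib.H18.Fum

open Cfsg.Agent.Lib.H14.Fum

universe u

/-- the weak form of the class hypothesis: every class contains `g` such that `A` lies in a `p`-subgroup `Y`
normalised by `g A g⁻¹` -/
def Hyp2 (p : ℕ) {G : Type u} [Group G] (A : Subgroup G) : Prop :=
  ∀ c : G, ∃ g : G, IsConj c g ∧ ∃ Y : Subgroup G, IsPGroup p Y ∧ A ≤ Y ∧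
    ∀ x ∈ A, g * x * g⁻¹ ∈ Subgroup.normalizer (Y : Set G)

/-- the class hypothesis of S4330 implies the weak form -/
theorem hyp2_of_subnormal {G : Type u} [Group G] [Finite G] (p : ℕ) [Fact p.Prime] (A : Subgroup G)
    (hA : IsPGroup p A)
    (h : ∀ c : G, ∃ g : G, IsConj c g ∧ (A.subgroupOf (A ⊔ MulAut.conj g • A)).IsSubnormal) :
    Hyp2 p A := by
  intro c
  obtain ⟨g, hcg, hsn⟩ := h c
  refine ⟨g, hcg, ?_⟩
  set X : Subgroup G := A ⊔ MulAut.conj g • A with hX
  have hAX : A ≤ X := le_sup_left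
  have hp1 : IsPGroup p (A.subgroupOf X) := hA.comap_subtype
  have hle := Cfsg.Agent.Lib.H14.le_pCore_of_isSubnormal_of_isPGroup p (A.subgroupOf X) hsn hp1
  haveI hn : (Cfsg.pCore p ↥X).Normal := Cfsg.Agent.Lib.H1.pCore_normal p ↥X
  refine ⟨(Cfsg.pCore p ↥X).map X.subtype, ?_, ?_, ?_⟩
  · exact (Cfsg.Agent.Lib.H1.pCore_isPGroup p ↥X).map _
  · intro x hx
    exact ⟨⟨x, hAX hx⟩, hle (Subgroup.mem_subgroupOf.2 hx), rfl⟩
  · intro x hx
    have hgx : g * x * g⁻¹ ∈ X := by
      apply (le_sup_right : MulAut.conj g • A ≤ X)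
      exact ⟨x, hx, rfl⟩
    have h1 : (⟨g * x * g⁻¹, hgx⟩ : ↥X) ∈ Subgroup.normalizer ((Cfsg.pCore p ↥X : Subgroup ↥X) : Set ↥X) := by
      rw [Subgroup.normalizer_eq_top_iff.2 hn]
      exact Subgroup.mem_top _
    exact Subgroup.le_normalizer_map X.subtype ⟨_, h1, rfl⟩

/-- the weak class hypothesis passes to quotients -/
theorem hyp2_quotient {G : Type u} [Group G] (p : ℕ) (A : Subgroup G) (hA : Hyp2 p A)
    (N : Subgroup G) [N.Normal] : Hyp2 p (A.map (QuotientGroup.mk' N)) := by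
  intro cb
  obtain ⟨c, rfl⟩ := QuotientGroup.mk'_surjective N cb
  obtain ⟨g, hcg, Y, hY, hAY, hn⟩ := hA c
  refine ⟨QuotientGroup.mk' N g, (QuotientGroup.mk' N).map_isConj hcg, Y.map (QuotientGroup.mk' N), hY.map _,
    Subgroup.map_mono hAY, ?_⟩
  rintro _ ⟨x, hx, rfl⟩
  have h1 : QuotientGroup.mk' N g * QuotientGroup.mk' N x * (QuotientGroup.mk' N g)⁻¹ =
      QuotientGroup.mk' N (g * x * g⁻¹) := by
    rw [map_mul, map_mul, map_inv]
  rw [h1]
  exact Subgroup.le_normalizer_map _ ⟨_, hn x hx, rfl⟩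

/-- the index of a non-trivial subgroup is smaller than the order of the group -/
theorem index_lt_card_of_ne_bot {G : Type u} [Group G] [Finite G] (N : Subgroup G) (hN : N ≠ ⊥) :
    N.index < Nat.card G := by
  have h1 := Subgroup.card_mul_index N
  have h2 : 1 < Nat.card N := (Subgroup.one_lt_card_iff_ne_bot N).2 hN
  have h3 : 0 < N.index := Nat.pos_of_ne_zero Subgroup.index_ne_zero_of_finite
  nlinarith

/-- **P6, core**: the criterion from the avoiding-vector theorem `hav` (= (★)), for the weak class hypothesis. -/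
theorem le_pCore_of_hyp2 (p : ℕ) [Fact p.Prime]
    (hav : ∀ (V : Type u) [CommGroup V] [Finite V], (Nat.card V).Coprime p →
      ∀ (Γ T : Subgroup (MulAut V)), T ≤ Γ → (∀ γ ∈ Γ, ∀ t ∈ T, γ * t * γ⁻¹ ∈ T) → IsPGroup p T →
      ∀ a : MulAut V, a ∈ T → a ^ p = 1 → a ≠ 1 → ∃ v : V, ∀ γ ∈ Γ, (γ * a * γ⁻¹) v ≠ v) :
    ∀ n : ℕ, ∀ (G : Type u) [Group G] [Finite G], Nat.card G = n → Group.IsSolvable G →
      ∀ A : Subgroup G, Hyp2 p A → A ≤ Cfsg.pCore p G := by
  intro n
  induction n using Nat.strong_induction_on with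
  | _ n ih =>
  intro G _ _ hn hsol A hA
  have hpp : p.Prime := Fact.out
  haveI hOn : (Cfsg.pCore p G).Normal := Cfsg.Agent.Lib.H1.pCore_normal p G
  by_cases hO : Cfsg.pCore p G = ⊥
  swap
  · -- (b) pass to `G / O_p(G)`
    have hlt : Nat.card (G ⧸ Cfsg.pCore p G) < n := by
      rw [← hn, ← Subgroup.index_eq_card]
      exact index_lt_card_of_ne_bot _ hO
    haveI := hsol
    haveI : Group.IsSolvable (G ⧸ Cfsg.pCore p G) := inferInstance
    have h1 := ih _ hlt (G ⧸ Cfsg.pCore p G) rfl inferInstance _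
      (hyp2_quotient p A hA (Cfsg.pCore p G))
    rw [Cfsg.Agent.Lib.H7.Kaz.pCore_quotient_pCore_eq_bot, Subgroup.map_le_iff_le_comap] at h1
    intro x hx
    have h2 := h1 hx
    rw [Subgroup.mem_comap, Subgroup.mem_bot] at h2
    exact (QuotientGroup.eq_one_iff x).1 h2
  · -- (c) `O_p(G) = 1`: then `A = 1`
    rw [hO]
    by_contra hAne
    have hAne' : A ≠ ⊥ := fun h => hAne (h ▸ le_rfl)
    -- `A` is a `p`-group
    obtain ⟨-, -, Y0, hY0, hAY0, -⟩ := hA 1
    have hAp : IsPGroup p A := hY0.to_le hAY0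
    -- an element of order `p`
    have hdvd : p ∣ Nat.card A := by
      rcases hAp.card_eq_or_dvd with h | h
      · exact absurd (Subgroup.card_eq_one.1 h) hAne'
      · exact h
    obtain ⟨a', ha'⟩ := exists_prime_orderOf_dvd_card' p hdvd
    obtain ⟨a, haA⟩ := a'
    have hoa : orderOf a = p := by
      rw [← ha']
      exact (Subgroup.orderOf_mk a haA).symm
    have hap : a ^ p = 1 := by rw [← hoa]; exact pow_orderOf_eq_one a
    have ha1 : a ≠ 1 := by
      intro h
      rw [h, orderOf_one] at hoa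
      exact hpp.one_lt.ne hoa
    -- (d) a normal elementary abelian `r`-subgroup `N`, `r ≠ p`
    haveI : Nontrivial G := ⟨⟨a, 1, ha1⟩⟩
    obtain ⟨N, hNn, hN1, hNmin⟩ := Cfsg.Agent.Lib.H29.SF.exists_minimal_normal_D1 (G := G)
    haveI := hNn
    obtain ⟨hNab, r, hr, hNr⟩ := Cfsg.Agent.Lib.H3.SF.elemAbelian_of_minimal_normal hsol N hN1 hNmin
    haveI : Fact r.Prime := ⟨hr⟩
    have hNrg : IsPGroup r N := by
      intro x
      refine ⟨1, ?_⟩
      rw [pow_one]
      apply Subtype.ext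
      rw [Subgroup.coe_pow]
      exact hNr x.1 x.2
    have hrp : r ≠ p := by
      rintro rfl
      exact hN1 (le_bot_iff.1 (hO ▸ Cfsg.Agent.Lib.H1.le_pCore hNn hNrg))
    haveI hNc : IsMulCommutative ↥N := ⟨⟨fun x y => Subtype.ext (hNab x.1 x.2 y.1 y.2)⟩⟩
    have hcop : (Nat.card ↥N).Coprime p := by
      obtain ⟨k, hk⟩ := hNrg.exists_card_eq
      rw [hk]
      exact Nat.Coprime.pow_left k ((Nat.coprime_primes hr hpp).2 hrp)
    -- (e) induction on `G / N`
    have hlt : Nat.card (G ⧸ N) < n := by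
      rw [← hn, ← Subgroup.index_eq_card]
      exact index_lt_card_of_ne_bot _ hN1
    haveI := hsol
    haveI : Group.IsSolvable (G ⧸ N) := inferInstance
    have hAK0 := ih _ hlt (G ⧸ N) rfl inferInstance _ (hyp2_quotient p A hA N)
    set K : Subgroup G := (Cfsg.pCore p (G ⧸ N)).comap (QuotientGroup.mk' N) with hKdef
    haveI hKn : K.Normal :=
      (Cfsg.Agent.Lib.H1.pCore_normal p (G ⧸ N)).comap _
    have hAK : A ≤ K := Subgroup.map_le_iff_le_comap.1 hAK0
    have hKp : ∀ k ∈ K, ∃ j : ℕ, k ^ (p ^ j) ∈ N := by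
      intro k hk
      obtain ⟨j, hj⟩ := Cfsg.Agent.Lib.H1.pCore_isPGroup p (G ⧸ N) ⟨_, hk⟩
      refine ⟨j, ?_⟩
      have h1 := congrArg Subtype.val hj
      rw [Subgroup.coe_pow, Subgroup.coe_one, ← map_pow] at h1
      exact (QuotientGroup.eq_one_iff _).1 h1
    have hNK : N ≤ K := by
      intro x hx
      show QuotientGroup.mk' N x ∈ Cfsg.pCore p (G ⧸ N)
      rw [show QuotientGroup.mk' N x = 1 from (QuotientGroup.eq_one_iff x).2 hx]
      exact Subgroup.one_mem _
    -- (f) the action on `N`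
    let φ : G →* MulAut ↥N := MulAut.conjNormal
    have hφ : ∀ (g : G) (x : ↥N), ((φ g x : ↥N) : G) = g * x * g⁻¹ := fun g x => rfl
    have hφN : ∀ x ∈ N, φ x = 1 := by
      intro x hx
      apply MulEquiv.ext
      intro y
      apply Subtype.ext
      rw [hφ, MulAut.one_apply, hNab x hx y.1 y.2, mul_inv_cancel_right]
    have hTn : ∀ γ ∈ φ.range, ∀ t ∈ K.map φ, γ * t * γ⁻¹ ∈ K.map φ := by
      rintro _ ⟨x, rfl⟩ _ ⟨k, hk, rfl⟩
      refine ⟨x * k * x⁻¹, hKn.conj_mem k hk x, ?_⟩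
      rw [map_mul, map_mul, map_inv]
    have hT : IsPGroup p (K.map φ) := by
      rintro ⟨_, k, hk, rfl⟩
      obtain ⟨j, hj⟩ := hKp k hk
      refine ⟨j, Subtype.ext ?_⟩
      rw [Subgroup.coe_pow, Subgroup.coe_one, ← map_pow]
      exact hφN _ hj
    have haT : φ a ∈ K.map φ := ⟨a, hAK haA, rfl⟩
    have hφap : φ a ^ p = 1 := by rw [← map_pow, hap, map_one]
    have hφa1 : φ a ≠ 1 := by
      intro h1
      -- `a` centralises `N`
      have hac : a ∈ Subgroup.centralizer (N : Set G) := by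
        rw [Subgroup.mem_centralizer_iff]
        intro x hx
        have h2 := congrArg (fun f : MulAut ↥N => ((f ⟨x, hx⟩ : ↥N) : G)) h1
        simp only [hφ, MulAut.one_apply] at h2
        calc x * a = (a * x * a⁻¹) * a := by rw [h2]
          _ = a * x := by group
      set C : Subgroup G := K ⊓ Subgroup.centralizer (N : Set G) with hCdef
      haveI hCn : C.Normal := Subgroup.normal_inf_normal _ _
      have haC : a ∈ C := ⟨hAK haA, hac⟩
      -- `C` is nilpotent
      have hcen : ∀ c : ↥C, ∃ j : ℕ, c ^ (p ^ j) ∈ Subgroup.center ↥C := by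
        intro c
        obtain ⟨j, hj⟩ := hKp c.1 c.2.1
        refine ⟨j, ?_⟩
        rw [Subgroup.mem_center_iff]
        intro d
        apply Subtype.ext
        rw [Subgroup.coe_mul, Subgroup.coe_mul, Subgroup.coe_pow]
        exact (Subgroup.mem_centralizer_iff.1 d.2.2 _ hj).symm
      have hq : IsPGroup p (↥C ⧸ Subgroup.center ↥C) := by
        intro y
        obtain ⟨c, rfl⟩ := QuotientGroup.mk_surjective y
        obtain ⟨j, hj⟩ := hcen c
        refine ⟨j, ?_⟩
        rw [← QuotientGroup.mk_pow]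
        exact (QuotientGroup.eq_one_iff _).2 hj
      haveI hnil : Group.IsNilpotent ↥C := Group.of_quotient_center_nilpotent hq.isNilpotent
      -- the Sylow `p`-subgroup of `C` is normal in `G`
      obtain ⟨P0⟩ := (inferInstance : Nonempty (Sylow p ↥C))
      haveI hP0n : (P0 : Subgroup ↥C).Normal := inferInstance
      haveI hP0c : (P0 : Subgroup ↥C).Characteristic := Sylow.characteristic_of_normal P0 hP0n
      have hP0G : ((P0 : Subgroup ↥C).map C.subtype).Normal := inferInstance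
      have hP0p : IsPGroup p ((P0 : Subgroup ↥C).map C.subtype) := P0.2.map _
      have hP0bot : (P0 : Subgroup ↥C).map C.subtype = ⊥ :=
        le_bot_iff.1 (hO ▸ Cfsg.Agent.Lib.H1.le_pCore hP0G hP0p)
      -- `a` lies in it
      have hza : IsPGroup p (Subgroup.zpowers (⟨a, haC⟩ : ↥C)) := by
        apply IsPGroup.of_card (n := 1)
        rw [Nat.card_zpowers, pow_one]
        rw [← hoa]
        exact (Subgroup.orderOf_mk a haC)
      obtain ⟨Q, hQ⟩ := hza.exists_le_sylow
      haveI := Sylow.unique_of_normal P0 hP0n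
      have hQP : Q = P0 := Subsingleton.elim _ _
      have haP0 : (⟨a, haC⟩ : ↥C) ∈ (P0 : Subgroup ↥C) := by
        rw [← hQP]
        exact hQ (Subgroup.mem_zpowers _)
      have : a ∈ (P0 : Subgroup ↥C).map C.subtype := ⟨⟨a, haC⟩, haP0, rfl⟩
      rw [hP0bot, Subgroup.mem_bot] at this
      exact ha1 this
    -- (g) the avoiding vector
    open scoped IsMulCommutative in
    obtain ⟨v, hv⟩ := hav ↥N hcop φ.range (K.map φ) (Subgroup.map_le_range φ K) hTn hT (φ a) haT
      hφap hφa1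
    -- (h) the class of `v`
    obtain ⟨g, hvg, Y, hY, hAY, hYn⟩ := hA (v : G)
    obtain ⟨y, hy⟩ := isConj_iff.1 hvg
    have hgN : g ∈ N := by
      rw [← hy]
      exact hNn.conj_mem _ v.2 y
    set m : G := g * a * g⁻¹ * a⁻¹ with hm
    have hmN : m ∈ N := by
      have h1 : m = g * (a * g⁻¹ * a⁻¹) := by rw [hm]; group
      rw [h1]
      exact N.mul_mem hgN (hNn.conj_mem _ (N.inv_mem hgN) a)
    have haY : a ∈ Y := hAY haA
    have hmY : m ∈ Subgroup.normalizer (Y : Set G) :=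
      (Subgroup.normalizer (Y : Set G)).mul_mem (hYn a haA)
        (Subgroup.le_normalizer (Y.inv_mem haY))
    have hcomm : a * m = m * a := by
      have h1 : a * m * a⁻¹ * m⁻¹ ∈ Y := by
        have h2 : m * a⁻¹ * m⁻¹ ∈ Y := (Subgroup.mem_normalizer_iff.1 hmY a⁻¹).1 (Y.inv_mem haY)
        have h3 : a * m * a⁻¹ * m⁻¹ = a * (m * a⁻¹ * m⁻¹) := by group
        rw [h3]
        exact Y.mul_mem haY h2
      have h4 : a * m * a⁻¹ * m⁻¹ ∈ N :=
        N.mul_mem (hNn.conj_mem _ hmN a) (N.inv_mem hmN)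
      have hdis := IsPGroup.disjoint_of_ne p r hrp.symm Y N hY hNrg
      have h5 : a * m * a⁻¹ * m⁻¹ = 1 := by
        have := (Subgroup.disjoint_def.1 hdis) h1 h4
        exact this
      calc a * m = (a * m * a⁻¹ * m⁻¹) * (m * a) := by group
        _ = m * a := by rw [h5, one_mul]
    have hag : a * g * a⁻¹ = m⁻¹ * g := by rw [hm]; group
    have hpow : ∀ k : ℕ, a ^ k * g * (a ^ k)⁻¹ = (m ^ k)⁻¹ * g := by
      intro k
      induction k with
      | zero => simp
      | succ k ihk =>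
        have hcomm' : a * (m ^ k)⁻¹ = (m ^ k)⁻¹ * a := by
          have h1 : Commute a m := hcomm
          exact (h1.pow_right k).inv_right.eq
        calc a ^ (k + 1) * g * (a ^ (k + 1))⁻¹ = a * (a ^ k * g * (a ^ k)⁻¹) * a⁻¹ := by
              rw [pow_succ']; group
          _ = a * ((m ^ k)⁻¹ * g) * a⁻¹ := by rw [ihk]
          _ = (a * (m ^ k)⁻¹) * g * a⁻¹ := by group
          _ = (m ^ k)⁻¹ * (a * g * a⁻¹) := by rw [hcomm']; group
          _ = (m ^ k)⁻¹ * (m⁻¹ * g) := by rw [hag]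
          _ = (m ^ (k + 1))⁻¹ * g := by rw [pow_succ]; group
    have hmp : m ^ p = 1 := by
      have h1 := hpow p
      rw [hap, one_mul, inv_one, mul_one] at h1
      have h2 : (m ^ p)⁻¹ = 1 := by
        have := mul_right_cancel (a := (1 : G)) (b := g) (c := (m ^ p)⁻¹) (by rw [one_mul]; exact h1)
        exact this.symm
      exact inv_eq_one.1 h2
    have hm1 : m = 1 := by
      have h1 : orderOf m ∣ p := orderOf_dvd_of_pow_eq_one hmp
      have h2 : orderOf m ∣ r := orderOf_dvd_of_pow_eq_one (hNr m hmN)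
      have h3 : orderOf m ∣ Nat.gcd p r := Nat.dvd_gcd h1 h2
      rw [(Nat.coprime_primes hpp hr).2 hrp.symm] at h3
      exact orderOf_eq_one_iff.1 (Nat.dvd_one.1 h3)
    have hga : g * a * g⁻¹ = a := by
      have h1 : g * a * g⁻¹ = m * a := by rw [hm]; group
      rw [h1, hm1, one_mul]
    -- contradiction
    apply hv (φ y⁻¹) ⟨y⁻¹, rfl⟩
    apply Subtype.ext
    have h1 : φ y⁻¹ * φ a * (φ y⁻¹)⁻¹ = φ (y⁻¹ * a * y) := by
      rw [map_mul, map_mul, map_inv, inv_inv]
    rw [h1, hφ]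
    have h2 : y⁻¹ * a * y * (v : G) * (y⁻¹ * a * y)⁻¹ = y⁻¹ * (a * (y * v * y⁻¹) * a⁻¹) * y := by group
    rw [h2, hy]
    have h3 : a * g * a⁻¹ = g := by
      have : g * a = a * g := by
        calc g * a = (g * a * g⁻¹) * g := by group
          _ = a * g := by rw [hga]
      rw [← this]; group
    rw [h3, ← hy]
    group

/-- **P6**: S4330 from the avoiding-vector theorem (★), given as the explicit hypothesis `hav`.
To obtain `S4330_statement` plug
`hav := fun V _ _ hcop Γ T h1 h2 h3 a h4 h5 h6 => exists_avoiding hp hcop Γ T h1 h2 h3 a h4 h5 h6`. -/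
theorem S4330_of_avoiding {G : Type u} [Group G] [Finite G]
    (hG : Group.IsSolvable G) (p : ℕ) [Fact p.Prime] (A : Subgroup G) (hA : IsPGroup p A)
    (hav : ∀ (V : Type u) [CommGroup V] [Finite V], (Nat.card V).Coprime p →
      ∀ (Γ T : Subgroup (MulAut V)), T ≤ Γ → (∀ γ ∈ Γ, ∀ t ∈ T, γ * t * γ⁻¹ ∈ T) → IsPGroup p T →
      ∀ a : MulAut V, a ∈ T → a ^ p = 1 → a ≠ 1 → ∃ v : V, ∀ γ ∈ Γ, (γ * a * γ⁻¹) v ≠ v)
    (h : ∀ c : G, ∃ g : G, IsConj c g ∧ (A.subgroupOf (A ⊔ MulAut.conj g • A)).IsSubnormal) :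
    A ≤ Cfsg.pCore p G :=
  le_pCore_of_hyp2 p hav (Nat.card G) G rfl hG A (hyp2_of_subnormal p A hA h)

end Cfsg.Agent.Lib.H18.Fum
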