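import Cfsg.Agent.Lib.H1.G85.Defs
import Cfsg.Agent.Lib.H5.Glaub.NcDist
import Cfsg.Agent.Lib.H13.GlaubIVL

/-!
# S4385, wave 2, piece (CH23): chain facts for `(q,t) = (2,3)`

`P_(-1) = I[-3,-1]`, `P_0 = I[-2,0]`, `Q = P_(-1) ⊓ P_0 = I[-2,-1] = {1, x(-1), x(-2), x(-1)x(-2)}`, normalised by `H0`
(index 2 in both); `x(-3)` fixes `x(-2)` and moves `x(-1)`, `x 0` fixes `x(-1)` and moves `x(-2)`.
-/

set_option autoImplicit false

namespace Cfsg.Agent.Lib.H18.G85

open scoped Pointwise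
open Cfsg.Agent.Lib.H5.Glaub Cfsg.Agent.Lib.H5.Glaub.Setup Cfsg.Agent.Lib.H1.G85

section generic

variable {G : Type*} [Group G]

/-- the cyclic group generated by an involution -/
theorem mem_zpowers_invol {x g : G} (hx : x * x = 1) : g ∈ Subgroup.zpowers x ↔ g = 1 ∨ g = x := by
  constructor
  · intro hg
    obtain ⟨n, rfl⟩ := Subgroup.mem_zpowers_iff.1 hg
    have h2 : x ^ (2 : ℤ) = 1 := by rw [zpow_two]; exact hx
    rcases Int.emod_two_eq_zero_or_one n with h | h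
    · left
      have : n = 2 * (n / 2) := by omega
      rw [this, zpow_mul, h2, one_zpow]
    · right
      have : n = 2 * (n / 2) + 1 := by omega
      rw [this, zpow_add, zpow_mul, h2, one_zpow, one_mul, zpow_one]
  · rintro (rfl | rfl)
    · exact one_mem _
    · exact Subgroup.mem_zpowers _

theorem mem_X_iff {S : Setup G} {t : ℕ} {x : ℤ → G} (hx : Gen S t x) (k : ℤ) (g : G) :
    g ∈ S.X t k ↔ g = 1 ∨ g = x k := by
  rw [hx.X_eq k]; exact mem_zpowers_invol (hx.sq k)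

theorem x_mem_X {S : Setup G} {t : ℕ} {x : ℤ → G} (hx : Gen S t x) (k : ℤ) : x k ∈ S.X t k :=
  (mem_X_iff hx k _).2 (Or.inr rfl)

theorem comm_X_iff {S : Setup G} {t : ℕ} {x : ℤ → G} (hx : Gen S t x) (i j : ℤ) :
    Comm (S.X t i) (S.X t j) ↔ x i * x j = x j * x i := by
  constructor
  · intro h
    exact h _ (x_mem_X hx i) _ (x_mem_X hx j)
  · intro h a ha b hb
    rcases (mem_X_iff hx i a).1 ha with rfl | rfl <;> rcases (mem_X_iff hx j b).1 hb with rfl | rfl
    · rfl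
    · simp
    · simp
    · exact h

theorem x_inv {S : Setup G} {t : ℕ} {x : ℤ → G} (hx : Gen S t x) (k : ℤ) : (x k)⁻¹ = x k :=
  inv_eq_of_mul_eq_one_left (hx.sq k)

/-- a subgroup of order 4 containing two different commuting involutions -/
theorem mem_four [Finite G] (Q : Subgroup G) (hcard : Nat.card Q = 4) (u v : G) (huQ : u ∈ Q) (hvQ : v ∈ Q)
    (hu : u ≠ 1) (hv : v ≠ 1) (huv : u ≠ v) (hu2 : u * u = 1) (hv2 : v * v = 1) (g : G) :
    g ∈ Q ↔ g = 1 ∨ g = u ∨ g = v ∨ g = u * v := by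
  classical
  have huv1 : u * v ≠ 1 := by
    intro h
    apply huv
    calc u = u * (v * v) := by rw [hv2, mul_one]
      _ = (u * v) * v := by rw [mul_assoc]
      _ = v := by rw [h, one_mul]
  have huvu : u * v ≠ u := by
    intro h
    apply hv
    calc v = (u * u) * v := by rw [hu2, one_mul]
      _ = u * (u * v) := by rw [mul_assoc]
      _ = 1 := by rw [h, hu2]
  have huvv : u * v ≠ v := by
    intro h
    apply hu
    calc u = u * (v * v) := by rw [hv2, mul_one]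
      _ = (u * v) * v := by rw [mul_assoc]
      _ = 1 := by rw [h, hv2]
  let T : Finset G := {1, u, v, u * v}
  have hT : T.card = 4 := by
    simp only [T]
    rw [Finset.card_insert_of_notMem, Finset.card_insert_of_notMem, Finset.card_insert_of_notMem,
      Finset.card_singleton]
    · simp only [Finset.mem_singleton]; exact fun h => huvv h.symm
    · simp only [Finset.mem_insert, Finset.mem_singleton, not_or]
      exact ⟨huv, fun h => huvu h.symm⟩
    · simp only [Finset.mem_insert, Finset.mem_singleton, not_or]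
      exact ⟨fun h => hu h.symm, fun h => hv h.symm, fun h => huv1 h.symm⟩
  have hsub : (T : Set G) ⊆ (Q : Set G) := by
    intro g hg
    simp only [T, Finset.coe_insert, Finset.coe_singleton, Set.mem_insert_iff,
      Set.mem_singleton_iff] at hg
    rcases hg with rfl | rfl | rfl | rfl
    · exact one_mem _
    · exact huQ
    · exact hvQ
    · exact mul_mem huQ hvQ
  have heq : (T : Set G) = (Q : Set G) := by
    apply Set.eq_of_subset_of_ncard_le hsub
    rw [Set.ncard_coe_finset, hT]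
    have : Nat.card (Q : Set G) = 4 := hcard
    rw [Nat.card_coe_set_eq] at this
    exact this.le
  constructor
  · intro hg
    have : g ∈ (T : Set G) := by rw [heq]; exact hg
    simpa [T] using this
  · intro hg
    have : g ∈ (T : Set G) := by simpa [T] using hg
    exact hsub this

/-- a subgroup of index 2 is normalised -/
theorem le_normalizer_of_card [Finite G] {A B : Subgroup G} (hAB : A ≤ B)
    (hc : Nat.card B = 2 * Nat.card A) : B ≤ Subgroup.normalizer (A : Set G) := by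
  rw [← Subgroup.normal_subgroupOf_iff_le_normalizer hAB]
  apply Subgroup.normal_of_index_eq_two
  have h1 : Nat.card (A.subgroupOf B) * (A.subgroupOf B).index = Nat.card B :=
    Subgroup.card_mul_index _
  have h2 : Nat.card (A.subgroupOf B) = Nat.card A :=
    Nat.card_congr (Subgroup.subgroupOfEquivOfLe hAB).toEquiv
  rw [h2, hc] at h1
  have hpos : 0 < Nat.card A := Nat.card_pos
  nlinarith [h1]

end generic

section chain

variable {G : Type*} [Group G] [Finite G]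

/-- (CH23) chain facts for `(q,t) = (2,3)` -/
theorem chain23 (S : Setup G) (hp2 : S.p = 2) (hU : S.Uni 3) (hI : S.Ivl 3) (hD : S.Dist 3 2) (hC : S.Cen 3 2)
    (x : ℤ → G) (hx : Gen S 3 x) (hodd : ¬ 2 ∣ (S.Pj 0).relIndex (H0 S)) :
    (∀ k : ℤ, -3 ≤ k → k ≤ 0 → x k ∈ H0 S) ∧
    (∀ g : G, g ∈ S.Pj (-1) ⊓ S.Pj 0 ↔ g = 1 ∨ g = x (-1) ∨ g = x (-2) ∨ g = x (-1) * x (-2)) ∧
    H0 S ≤ Subgroup.normalizer ((S.Pj (-1) ⊓ S.Pj 0 : Subgroup G) : Set G) ∧
    x (-1) ≠ x (-2) ∧ x (-1) * x (-2) = x (-2) * x (-1) ∧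
    x (-3) * x (-2) * (x (-3))⁻¹ = x (-2) ∧ x (-3) * x (-1) * (x (-3))⁻¹ = x (-1) * x (-2) ∧
    x 0 * x (-1) * (x 0)⁻¹ = x (-1) ∧ x 0 * x (-2) * (x 0)⁻¹ = x (-2) * x (-1) ∧
    ∃ m : ℕ, ¬ 2 ∣ m ∧ Nat.card ↥(H0 S) = 8 * m := by
  -- `Q = P_(-1) ⊓ P_0 = I[-2,-1]`
  have hQeq : S.Pj (-1) ⊓ S.Pj 0 = S.Iv 3 (-2) (-1) := by
    ext g
    rw [Subgroup.mem_inf, Cfsg.Agent.Lib.H13.Glaub.mem_Iv S 3 hU (by norm_num) (by norm_num)]
    constructor
    · rintro ⟨h1, h2⟩ j hj1 hj2
      have : j = -1 ∨ j = 0 := by push_cast at hj2; omega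
      rcases this with rfl | rfl
      · exact h1
      · exact h2
    · intro h
      exact ⟨h (-1) (by norm_num) (by norm_num), h 0 (by norm_num) (by norm_num)⟩
  have hQcard : Nat.card (S.Iv 3 (-2) (-1)) = 4 := by
    rw [hI.card (-2) (-1) (by norm_num) (by norm_num), hp2]; norm_num
  have hPm1 : S.Pj (-1) = S.Iv 3 (-3) (-1) := by rw [hI.Pj_eq (-1)]; norm_num
  have hP0 : S.Pj 0 = S.Iv 3 (-2) 0 := by rw [hI.Pj_eq 0]; norm_num
  have hPm1card : Nat.card (S.Pj (-1)) = 8 := by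
    have := hU.card (-1) 0 (Nat.zero_le _)
    rw [S.J_unfold_zero, hp2] at this
    rw [this]; norm_num
  have hP0card : Nat.card (S.Pj 0) = 8 := by
    have := hU.card 0 0 (Nat.zero_le _)
    rw [S.J_unfold_zero, hp2] at this
    rw [this]; norm_num
  -- the `x k` lie in `H0`
  have hxH : ∀ k : ℤ, -3 ≤ k → k ≤ 0 → x k ∈ H0 S := by
    intro k h1 h2
    by_cases hk : k ≤ -1
    · apply Pj_neg_one_le_H0 S
      rw [hPm1]
      exact S.X_le_Iv 3 h1 hk (x_mem_X hx k)
    · apply Pj_zero_le_H0 S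
      rw [hP0]
      exact S.X_le_Iv 3 (by omega) h2 (x_mem_X hx k)
  have hm1Q : x (-1) ∈ S.Iv 3 (-2) (-1) := S.X_le_Iv 3 (by norm_num) le_rfl (x_mem_X hx (-1))
  have hm2Q : x (-2) ∈ S.Iv 3 (-2) (-1) := S.X_le_Iv 3 le_rfl (by norm_num) (x_mem_X hx (-2))
  have hne12 : x (-1) ≠ x (-2) := by
    intro h
    have hle : S.Iv 3 (-2) (-1) ≤ S.X 3 (-1) := by
      rw [S.Iv_le_iff]
      intro k h1 h2
      have : k = -2 ∨ k = -1 := by omega
      rcases this with rfl | rfl
      · rw [hx.X_eq (-2), hx.X_eq (-1), h]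
      · exact le_rfl
    have h1 := Subgroup.card_le_of_le hle
    rw [hQcard, card_X S 3 hU (-1), hp2] at h1
    omega
  -- commutation
  have hcomm : ∀ i j : ℤ, |i - j| < 2 → x i * x j = x j * x i := by
    intro i j h
    apply (comm_X_iff hx i j).1
    apply hD.comm
    push_cast
    exact h
  have hnc31 : x (-3) * x (-1) ≠ x (-1) * x (-3) := by
    intro h
    have := hD.ncomm (-3)
    have e : (-3 : ℤ) + ((2 : ℕ) : ℤ) = -1 := by norm_num
    rw [e] at this
    exact this ((comm_X_iff hx (-3) (-1)).2 h)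
  have hnc20 : x (-2) * x 0 ≠ x 0 * x (-2) := by
    intro h
    have := hD.ncomm (-2)
    have e : (-2 : ℤ) + ((2 : ℕ) : ℤ) = 0 := by norm_num
    rw [e] at this
    exact this ((comm_X_iff hx (-2) 0).2 h)
  have hc12 : x (-1) * x (-2) = x (-2) * x (-1) := hcomm (-1) (-2) (by norm_num)
  have hc32 : x (-3) * x (-2) = x (-2) * x (-3) := hcomm (-3) (-2) (by norm_num)
  have hc01 : x 0 * x (-1) = x (-1) * x 0 := hcomm 0 (-1) (by norm_num)
  -- `H0` normalises `Q`
  have hN : H0 S ≤ Subgroup.normalizer ((S.Pj (-1) ⊓ S.Pj 0 : Subgroup G) : Set G) := by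
    unfold H0
    apply sup_le
    · apply le_normalizer_of_card inf_le_left
      rw [hQeq, hQcard, hPm1card]
    · apply le_normalizer_of_card inf_le_right
      rw [hQeq, hQcard, hP0card]
  have hmem : ∀ g : G, g ∈ S.Pj (-1) ⊓ S.Pj 0 ↔
      g = 1 ∨ g = x (-1) ∨ g = x (-2) ∨ g = x (-1) * x (-2) := by
    intro g
    rw [hQeq]
    exact mem_four _ hQcard (x (-1)) (x (-2)) hm1Q hm2Q (hx.ne_one _) (hx.ne_one _) hne12
      (hx.sq _) (hx.sq _) g
  have h32 : x (-3) * x (-2) * (x (-3))⁻¹ = x (-2) := by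
    rw [hc32, mul_assoc, mul_inv_cancel, mul_one]
  have h01 : x 0 * x (-1) * (x 0)⁻¹ = x (-1) := by
    rw [hc01, mul_assoc, mul_inv_cancel, mul_one]
  have h31 : x (-3) * x (-1) * (x (-3))⁻¹ = x (-1) * x (-2) := by
    have hin : x (-3) * x (-1) * (x (-3))⁻¹ ∈ S.Pj (-1) ⊓ S.Pj 0 :=
      (Subgroup.mem_normalizer_iff.1 (hN (hxH (-3) le_rfl (by norm_num))) (x (-1))).1
        (by rw [hQeq]; exact hm1Q)
    rcases (hmem _).1 hin with h | h | h | h
    · exfalso; apply hx.ne_one (-1)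
      calc x (-1) = (x (-3))⁻¹ * (x (-3) * x (-1) * (x (-3))⁻¹) * x (-3) := by group
        _ = 1 := by rw [h]; group
    · exfalso; apply hnc31
      calc x (-3) * x (-1) = (x (-3) * x (-1) * (x (-3))⁻¹) * x (-3) := by group
        _ = x (-1) * x (-3) := by rw [h]
    · exfalso; apply hne12
      calc x (-1) = (x (-3))⁻¹ * (x (-3) * x (-1) * (x (-3))⁻¹) * x (-3) := by group
        _ = (x (-3))⁻¹ * (x (-3) * x (-2) * (x (-3))⁻¹) * x (-3) := by rw [h, h32]
        _ = x (-2) := by group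
    · exact h
  have h02 : x 0 * x (-2) * (x 0)⁻¹ = x (-2) * x (-1) := by
    have hin : x 0 * x (-2) * (x 0)⁻¹ ∈ S.Pj (-1) ⊓ S.Pj 0 :=
      (Subgroup.mem_normalizer_iff.1 (hN (hxH 0 (by norm_num) le_rfl)) (x (-2))).1
        (by rw [hQeq]; exact hm2Q)
    rcases (hmem _).1 hin with h | h | h | h
    · exfalso; apply hx.ne_one (-2)
      calc x (-2) = (x 0)⁻¹ * (x 0 * x (-2) * (x 0)⁻¹) * x 0 := by group
        _ = 1 := by rw [h]; group
    · exfalso; apply hne12
      calc x (-1) = (x 0)⁻¹ * (x 0 * x (-1) * (x 0)⁻¹) * x 0 := by group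
        _ = (x 0)⁻¹ * (x 0 * x (-2) * (x 0)⁻¹) * x 0 := by rw [h, h01]
        _ = x (-2) := by group
    · exfalso; apply hnc20
      calc x (-2) * x 0 = x 0 * ((x 0)⁻¹ * x (-2) * x 0) := by group
        _ = x 0 * ((x 0)⁻¹ * (x 0 * x (-2) * (x 0)⁻¹) * x 0) := by rw [h]
        _ = x 0 * x (-2) := by group
    · rw [h, hc12]
  refine ⟨hxH, hmem, hN, hne12, hc12, h32, h31, h01, h02, (S.Pj 0).relIndex (H0 S), hodd, ?_⟩
  have h1 : Nat.card ((S.Pj 0).subgroupOf (H0 S)) * ((S.Pj 0).subgroupOf (H0 S)).index =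
      Nat.card (H0 S) := Subgroup.card_mul_index _
  have h2 : Nat.card ((S.Pj 0).subgroupOf (H0 S)) = Nat.card (S.Pj 0) :=
    Nat.card_congr (Subgroup.subgroupOfEquivOfLe (Pj_zero_le_H0 S)).toEquiv
  rw [h2, hP0card] at h1
  exact h1.symm

end chain

end Cfsg.Agent.Lib.H18.G85
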