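import Mathlib
import Cfsg.Prelude.Def_Blocks
import Cfsg.Prelude.Def_Characters
import Cfsg.Agent.Lib.H23.BlockGenDecomp
import Cfsg.Agent.Lib.H23.FullyRamified
import Cfsg.Agent.Lib.H24.CharBasic
import Cfsg.Agent.Lib.L0.CharOps

/-!
# S4561 piece PIZ (helper18): in a group of central type every prime divisor of `|H|` divides `|Z(H)|`.

Route: `χ(1)² = |H : Z|` and `|χ(z)| = χ(1)` on `Z` force `χ` to vanish off `Z`.  If `r ∤ |Z|` and
`S ∈ Syl_r(H)` then `S ∩ Z = 1`, so `χ_S` vanishes off `1`, hence `[χ_S, 1_S] = χ(1)/|S|` is a natural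
number, `|S| ∣ χ(1)`, `|S|² ∣ |H : Z| ∣ |H|`, so `S = 1`.
-/

set_option autoImplicit false

namespace Cfsg.Agent.Lib.H18.GAG

open Cfsg Cfsg.Agent.Lib.L0
open scoped ComplexConjugate

section aux

variable {K : Type*} [Group K] [Fintype K]

theorem piz_central_pow (ξ : IrrCharacter K) {z : K} (hz : z ∈ Subgroup.center K) (n : ℕ) :
    (ξ : K → ℂ) (z ^ n) = ((ξ : K → ℂ) z / (ξ : K → ℂ) 1) ^ n * (ξ : K → ℂ) 1 := by
  induction n with
  | zero => rw [pow_zero, pow_zero, one_mul]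
  | succ n ih => rw [pow_succ', Cfsg.Agent.Lib.H23.irr_central_mul ξ hz, ih, pow_succ']; ring

theorem piz_lam_pow_eq_one (ξ : IrrCharacter K) {z : K} (hz : z ∈ Subgroup.center K) :
    ((ξ : K → ℂ) z / (ξ : K → ℂ) 1) ^ orderOf z = 1 := by
  have h := piz_central_pow ξ hz (orderOf z)
  rw [pow_orderOf_eq_one] at h
  have h0 : (ξ : K → ℂ) 1 ≠ 0 := Cfsg.Agent.Lib.H24.irr_one_ne_zero ξ
  have h1 : (((ξ : K → ℂ) z / (ξ : K → ℂ) 1) ^ orderOf z - 1) * (ξ : K → ℂ) 1 = 0 := by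
    rw [sub_mul, one_mul, ← h, sub_self]
  rcases mul_eq_zero.1 h1 with h2 | h2
  · exact sub_eq_zero.1 h2
  · exact absurd h2 h0

/-- `|χ(z)| = χ(1)` for central `z`. -/
theorem piz_norm_central (ξ : IrrCharacter K) {z : K} (hz : z ∈ Subgroup.center K) :
    ‖(ξ : K → ℂ) z‖ = ‖(ξ : K → ℂ) 1‖ := by
  have h := piz_lam_pow_eq_one ξ hz
  have h0 : (ξ : K → ℂ) 1 ≠ 0 := Cfsg.Agent.Lib.H24.irr_one_ne_zero ξ
  have h1 : ‖(ξ : K → ℂ) z / (ξ : K → ℂ) 1‖ = 1 :=
    Complex.norm_eq_one_of_pow_eq_one h (orderOf_pos z).ne'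
  rw [norm_div] at h1
  have h2 : ‖(ξ : K → ℂ) 1‖ ≠ 0 := norm_ne_zero_iff.mpr h0
  field_simp at h1
  exact h1

end aux

/-- PIZ. -/
theorem prime_dvd_card_center {H : Type*} [Group H] [Finite H] (χ : IrrCharacter H)
    (hdeg : (charDegree (χ : H → ℂ)) ^ 2 = (Subgroup.center H).index) (r : ℕ) (hr : r.Prime)
    (h : r ∣ Nat.card H) : r ∣ Nat.card (Subgroup.center H) := by
  classical
  haveI : Fintype H := Fintype.ofFinite H
  haveI : Fact r.Prime := ⟨hr⟩
  set Z := Subgroup.center H with hZ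
  haveI : Fintype ↥Z := Fintype.ofFinite _
  set d := charDegree (χ : H → ℂ) with hd
  have hd1 : (χ : H → ℂ) 1 = (d : ℂ) := (Cfsg.Agent.Lib.H24.charDegree_irr χ).symm
  -- `χ` vanishes off `Z`
  have hvan : ∀ g : H, g ∉ Z → (χ : H → ℂ) g = 0 := by
    rw [← Cfsg.Agent.Lib.H23.sum_normSq_subgroup_eq_iff Z (χ : H → ℂ)]
    have h1 := irr_classInner_self χ.2
    rw [classInner_self_eq] at h1
    have hG : (0 : ℝ) < Nat.card H := by exact_mod_cast Nat.card_pos
    have hsumG : ∑ g : H, ‖(χ : H → ℂ) g‖ ^ 2 = (Nat.card H : ℝ) := by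
      have : (Nat.card H : ℝ)⁻¹ * ∑ g : H, ‖(χ : H → ℂ) g‖ ^ 2 = 1 := by exact_mod_cast h1
      field_simp at this
      linarith
    rw [hsumG]
    have h2 : ∀ z : ↥Z, ‖(χ : H → ℂ) z‖ ^ 2 = (d : ℝ) ^ 2 := by
      intro z
      rw [piz_norm_central χ z.2, hd1]
      simp
    rw [Finset.sum_congr rfl (fun z _ => h2 z), Finset.sum_const, Finset.card_univ, nsmul_eq_mul,
      ← Nat.card_eq_fintype_card]
    have h3 : (Nat.card H : ℝ) = (Nat.card ↥Z : ℝ) * (Z.index : ℝ) := by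
      exact_mod_cast (Subgroup.card_mul_index Z).symm
    rw [h3, ← hdeg]
    push_cast
    rfl
  by_contra hrZ
  obtain S : Sylow r H := default
  haveI : Fintype ↥(S : Subgroup H) := Fintype.ofFinite _
  -- `χ` vanishes on `S \ 1`
  have hS0 : ∀ s : ↥(S : Subgroup H), s ≠ 1 → (χ : H → ℂ) s = 0 := by
    intro s hs
    apply hvan
    intro hsZ
    apply hrZ
    obtain ⟨k, hk⟩ := (S.2 s)
    have hord : orderOf (s : H) ∣ r ^ k := by
      apply orderOf_dvd_of_pow_eq_one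
      have := congrArg Subtype.val hk
      simpa using this
    obtain ⟨j, hj, hj'⟩ := (Nat.dvd_prime_pow hr).1 hord
    have hj0 : j ≠ 0 := by
      rintro rfl
      rw [pow_zero, orderOf_eq_one_iff] at hj'
      exact hs (Subtype.ext hj')
    have h4 : r ∣ orderOf (s : H) := by rw [hj']; exact dvd_pow_self r hj0
    have h5 : orderOf (⟨(s : H), hsZ⟩ : ↥Z) ∣ Nat.card ↥Z := orderOf_dvd_natCard _
    rw [Subgroup.orderOf_mk] at h5
    exact h4.trans h5
  -- `[χ_S, 1_S] = d / |S|`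
  have hchar : IsCharacter ↥(S : Subgroup H) (fun s : ↥(S : Subgroup H) => (χ : H → ℂ) s) :=
    isCharacter_restrict (S : Subgroup H) (isCharacter_of_irr χ.2)
  obtain ⟨n, hn⟩ := classInner_char_irr_nat hchar (isIrrCharacter_one (G := ↥(S : Subgroup H)))
  have hsum : ∑ s : ↥(S : Subgroup H), (χ : H → ℂ) s * conj ((1 : ↥(S : Subgroup H) → ℂ) s) = (d : ℂ) := by
    rw [Finset.sum_eq_single (1 : ↥(S : Subgroup H))]
    · simp [hd1]
    · intro s _ hs
      rw [hS0 s hs, zero_mul]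
    · intro h; exact absurd (Finset.mem_univ _) h
  have hcS : (Nat.card ↥(S : Subgroup H) : ℂ) ≠ 0 := Nat.cast_ne_zero.mpr Nat.card_pos.ne'
  have hdn : d = n * Nat.card ↥(S : Subgroup H) := by
    unfold classInner at hn
    rw [hsum] at hn
    have : (d : ℂ) = (n : ℂ) * (Nat.card ↥(S : Subgroup H) : ℂ) := by
      rw [← hn]; field_simp
    exact_mod_cast this
  -- arithmetic
  have hcard : Nat.card ↥(S : Subgroup H) = r ^ (Nat.card H).factorization r := S.card_eq_multiplicity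
  have hk1 : 1 ≤ (Nat.card H).factorization r :=
    (hr.dvd_iff_one_le_factorization Nat.card_pos.ne').1 h
  have hdvd : (Nat.card ↥(S : Subgroup H)) ^ 2 ∣ Nat.card H := by
    have h6 : (Nat.card ↥(S : Subgroup H)) ^ 2 ∣ d ^ 2 := pow_dvd_pow_of_dvd ⟨n, by rw [hdn]; ring⟩ 2
    rw [hdeg] at h6
    exact h6.trans (Subgroup.index_dvd_card Z)
  rw [hcard, ← pow_mul] at hdvd
  have := (hr.pow_dvd_iff_le_factorization Nat.card_pos.ne').1 hdvd
  omega

end Cfsg.Agent.Lib.H18.GAG
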