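import Mathlib
import Cfsg.Agent.Lib.H17.GHDefs

/-!
# S4402 — concrete tools for the tree group `T ≤ Perm (Fin 8)` (helper18)

`mem_T_iff_enc` (a twin of piece KE), `card_T_h18 : Nat.card T = 128`, `enc_injective`, the principle
`forall_T` and the tools used by the pieces K2, K3, K4 (conjugation through the generators, counting
by filters).
-/

set_option autoImplicit false
set_option linter.dupNamespace false

namespace Cfsg.Agent.Lib.H18.GH

open Subgroup Cfsg.Agent.Lib.H17.GH Cfsg.Agent.Lib.H14.A8Sylow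

/-- the order of the tree group -/
theorem card_T_h18 : Nat.card T = 128 := by
  have h := Sylow.card_eq_multiplicity TS
  have hT : ((TS : Sylow 2 (Equiv.Perm (Fin 8))) : Subgroup (Equiv.Perm (Fin 8))) = T :=
    IsPGroup.toSylow_coe isPGroup_T not_dvd_index_T
  rw [hT] at h
  rw [h]
  have hc : Nat.card (Equiv.Perm (Fin 8)) = 2 ^ 7 * 315 := by
    rw [Nat.card_eq_fintype_card, Fintype.card_perm, Fintype.card_fin]
    decide
  rw [hc, Nat.factorization_mul (by norm_num) (by norm_num), Nat.Prime.factorization_pow Nat.prime_two]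
  have h315 : (315 : ℕ).factorization 2 = 0 :=
    Nat.factorization_eq_zero_of_not_dvd (by norm_num)
  simp [h315]

set_option maxRecDepth 100000 in
theorem enc_mem_T : ∀ n : Fin 128, enc n ∈ T := by
  intro n
  rw [mem_T]
  revert n
  decide

set_option maxRecDepth 100000 in
theorem enc_injective : Function.Injective enc := by
  have h : ∀ n m : Fin 128, enc n = enc m → n = m := by decide
  intro n m hnm
  exact h n m hnm

/-- KE (twin). `enc` enumerates `T`. -/
theorem mem_T_iff_enc (σ : Equiv.Perm (Fin 8)) : σ ∈ T ↔ ∃ n : Fin 128, enc n = σ := by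
  constructor
  · intro hσ
    let f : Fin 128 → ↥T := fun n => ⟨enc n, enc_mem_T n⟩
    have hf : Function.Injective f := by
      intro n m hnm
      exact enc_injective (congrArg Subtype.val hnm)
    have hb : Function.Bijective f := by
      apply hf.bijective_of_nat_card_le
      rw [card_T_h18, Nat.card_eq_fintype_card, Fintype.card_fin]
    obtain ⟨n, hn⟩ := hb.2 ⟨σ, hσ⟩
    exact ⟨n, congrArg Subtype.val hn⟩
  · rintro ⟨n, rfl⟩
    exact enc_mem_T n

/-- the shared tool: a property of all elements of `T` follows from its instances at `enc n` -/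
theorem forall_T {Q : Equiv.Perm (Fin 8) → Prop} (h : ∀ n : Fin 128, Q (enc n)) :
    ∀ σ ∈ T, Q σ := by
  intro σ hσ
  obtain ⟨n, rfl⟩ := (mem_T_iff_enc σ).1 hσ
  exact h n

/-- the seven generators of `T` used by `enc` -/
def gens : Fin 7 → Equiv.Perm (Fin 8) := ![lsw 0, lsw 1, lsw 2, lsw 3, qsw 0, qsw 1, hsw]

/-- the elements conjugating a subgroup into itself, as a submonoid -/
def conjIn (K : Subgroup (Equiv.Perm (Fin 8))) : Submonoid (Equiv.Perm (Fin 8)) where
  carrier := {g | ∀ a ∈ K, g * a * g⁻¹ ∈ K}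
  mul_mem' := by
    intro g h hg hh a ha
    have : g * h * a * (g * h)⁻¹ = g * (h * a * h⁻¹) * g⁻¹ := by group
    rw [this]
    exact hg _ (hh _ ha)
  one_mem' := by
    intro a ha
    simpa using ha

theorem pw_mem_conjIn {K : Subgroup (Equiv.Perm (Fin 8))} {γ : Equiv.Perm (Fin 8)} (h : γ ∈ conjIn K)
    (b : Bool) : pw γ b ∈ conjIn K := by
  cases b
  · exact (conjIn K).one_mem
  · exact h

/-- a subgroup normalized by the seven generators is normalized by `T` -/
theorem conj_mem_of_gens {K : Subgroup (Equiv.Perm (Fin 8))} (h : ∀ j : Fin 7, gens j ∈ conjIn K) :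
    ∀ g ∈ T, ∀ a ∈ K, g * a * g⁻¹ ∈ K := by
  intro g hg
  obtain ⟨n, rfl⟩ := (mem_T_iff_enc g).1 hg
  have : enc n ∈ conjIn K := by
    unfold enc
    refine (conjIn K).mul_mem ((conjIn K).mul_mem ((conjIn K).mul_mem ((conjIn K).mul_mem
      ((conjIn K).mul_mem ((conjIn K).mul_mem ?_ ?_) ?_) ?_) ?_) ?_) ?_
    · exact pw_mem_conjIn (h 0) _
    · exact pw_mem_conjIn (h 1) _
    · exact pw_mem_conjIn (h 2) _
    · exact pw_mem_conjIn (h 3) _
    · exact pw_mem_conjIn (h 4) _
    · exact pw_mem_conjIn (h 5) _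
    · exact pw_mem_conjIn (h 6) _
  exact this

/-- counting a subset of `T` cut out by a decidable predicate -/
theorem ncard_eq_filter (q : Equiv.Perm (Fin 8) → Prop) [DecidablePred q] :
    {σ | σ ∈ T ∧ q σ}.ncard = (Finset.univ.filter (fun n : Fin 128 => q (enc n))).card := by
  have h : {σ | σ ∈ T ∧ q σ} = enc '' ((Finset.univ.filter (fun n : Fin 128 => q (enc n)) : Finset (Fin 128)) : Set (Fin 128)) := by
    ext σ
    simp only [Set.mem_ofPred_eq, Set.mem_image, Finset.coe_filter, Finset.mem_univ, true_and]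
    constructor
    · rintro ⟨hσ, hq⟩
      obtain ⟨n, rfl⟩ := (mem_T_iff_enc σ).1 hσ
      exact ⟨n, hq, rfl⟩
    · rintro ⟨n, hq, rfl⟩
      exact ⟨enc_mem_T n, hq⟩
  rw [h, Set.ncard_image_of_injective _ enc_injective, Set.ncard_coe_finset]

/-- counting a subgroup of `T` cut out by a decidable predicate -/
theorem card_eq_filter (K : Subgroup (Equiv.Perm (Fin 8))) (q : Equiv.Perm (Fin 8) → Prop)
    [DecidablePred q] (hK : ∀ σ, σ ∈ K ↔ σ ∈ T ∧ q σ) :
    Nat.card K = (Finset.univ.filter (fun n : Fin 128 => q (enc n))).card := by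
  rw [← ncard_eq_filter q, ← Nat.card_coe_set_eq]
  have : (K : Set (Equiv.Perm (Fin 8))) = {σ | σ ∈ T ∧ q σ} := by
    ext σ
    exact hK σ
  rw [← this]
  rfl

end Cfsg.Agent.Lib.H18.GH
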