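import Mathlib
import Cfsg.Agent.Lib.H17.GHDefs
import Cfsg.Agent.Lib.H18.GHK0

/-!
# S4402 — piece K2 `A1c_A2c` (helper18): the two normal `E16` of the tree group
-/

set_option autoImplicit false
set_option linter.dupNamespace false

namespace Cfsg.Agent.Lib.H18.GH

open Subgroup Cfsg.Agent.Lib.H17.GH Cfsg.Agent.Lib.H14.A8Sylow

/-- commuting with the four leaf transpositions -/
def inA1 (σ : Equiv.Perm (Fin 8)) : Prop := ∀ k : Fin 4, lsw k * σ = σ * lsw k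

instance : DecidablePred inA1 := fun σ => by unfold inA1; infer_instance

/-- commuting with the four generators of `A2c` -/
def inA2 (σ : Equiv.Perm (Fin 8)) : Prop :=
  dsw 0 1 * σ = σ * dsw 0 1 ∧ qsw 0 * σ = σ * qsw 0 ∧ dsw 2 3 * σ = σ * dsw 2 3 ∧
    qsw 1 * σ = σ * qsw 1

instance : DecidablePred inA2 := fun σ => by unfold inA2; infer_instance

theorem mem_A1c_iff (σ : Equiv.Perm (Fin 8)) : σ ∈ A1c ↔ σ ∈ T ∧ inA1 σ := by
  unfold A1c inA1
  rw [Subgroup.mem_inf, Subgroup.mem_centralizer_iff]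
  constructor
  · rintro ⟨h1, h2⟩
    refine ⟨h1, fun k => ?_⟩
    apply h2
    fin_cases k <;> simp
  · rintro ⟨h1, h2⟩
    refine ⟨h1, ?_⟩
    intro h hh
    simp only [Set.mem_insert_iff, Set.mem_singleton_iff] at hh
    rcases hh with rfl | rfl | rfl | rfl <;> exact h2 _

theorem mem_A2c_iff (σ : Equiv.Perm (Fin 8)) : σ ∈ A2c ↔ σ ∈ T ∧ inA2 σ := by
  unfold A2c inA2
  rw [Subgroup.mem_inf, Subgroup.mem_centralizer_iff]
  constructor
  · rintro ⟨h1, h2⟩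
    exact ⟨h1, h2 _ (by simp), h2 _ (by simp), h2 _ (by simp), h2 _ (by simp)⟩
  · rintro ⟨h1, h2, h3, h4, h5⟩
    refine ⟨h1, ?_⟩
    intro h hh
    simp only [Set.mem_insert_iff, Set.mem_singleton_iff] at hh
    rcases hh with rfl | rfl | rfl | rfl
    · exact h2
    · exact h3
    · exact h4
    · exact h5

theorem gens_mem_T : ∀ j : Fin 7, gens j ∈ T := by
  intro j
  rw [mem_T]
  revert j
  decide

set_option maxRecDepth 100000 in
theorem A1_sq_dec : ∀ n : Fin 128, inA1 (enc n) → enc n * enc n = 1 := by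
  unfold inA1
  decide

set_option maxRecDepth 100000 in
theorem A2_sq_dec : ∀ n : Fin 128, inA2 (enc n) → enc n * enc n = 1 := by
  unfold inA2
  decide

set_option maxRecDepth 100000 in
theorem A1_conj_dec : ∀ j : Fin 7, ∀ n : Fin 128, inA1 (enc n) → inA1 (gens j * enc n * (gens j)⁻¹) := by
  unfold inA1
  decide

set_option maxRecDepth 100000 in
theorem A2_conj_dec : ∀ j : Fin 7, ∀ n : Fin 128, inA2 (enc n) → inA2 (gens j * enc n * (gens j)⁻¹) := by
  unfold inA2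
  decide

set_option maxRecDepth 100000 in
theorem A1_card_dec : (Finset.univ.filter (fun n : Fin 128 => inA1 (enc n))).card = 16 := by
  unfold inA1
  decide

set_option maxRecDepth 100000 in
theorem A2_card_dec : (Finset.univ.filter (fun n : Fin 128 => inA2 (enc n))).card = 16 := by
  unfold inA2
  decide

theorem lsw0_mem_A1c : lsw 0 ∈ A1c := by
  rw [mem_A1c_iff]
  refine ⟨?_, ?_⟩
  · rw [mem_T]; decide
  · unfold inA1; decide

theorem lsw0_not_mem_A2c : lsw 0 ∉ A2c := by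
  rw [mem_A2c_iff]
  rintro ⟨-, h⟩
  revert h
  unfold inA2
  decide

/-- K2. The two normal `E16`. -/
theorem A1c_A2c : A1c ≤ T ∧ A2c ≤ T ∧ (∀ g ∈ T, ∀ a ∈ A1c, g * a * g⁻¹ ∈ A1c) ∧
    (∀ g ∈ T, ∀ a ∈ A2c, g * a * g⁻¹ ∈ A2c) ∧ (∀ a ∈ A1c, a * a = 1) ∧ (∀ a ∈ A2c, a * a = 1) ∧
    Nat.card A1c = 16 ∧ Nat.card A2c = 16 ∧ A1c ≠ A2c := by
  refine ⟨inf_le_left, inf_le_left, ?_, ?_, ?_, ?_, ?_, ?_, ?_⟩
  · apply conj_mem_of_gens
    intro j a ha
    rw [mem_A1c_iff] at ha ⊢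
    obtain ⟨haT, ha1⟩ := ha
    refine ⟨T.mul_mem (T.mul_mem (gens_mem_T j) haT) (T.inv_mem (gens_mem_T j)), ?_⟩
    obtain ⟨n, rfl⟩ := (mem_T_iff_enc a).1 haT
    exact A1_conj_dec j n ha1
  · apply conj_mem_of_gens
    intro j a ha
    rw [mem_A2c_iff] at ha ⊢
    obtain ⟨haT, ha1⟩ := ha
    refine ⟨T.mul_mem (T.mul_mem (gens_mem_T j) haT) (T.inv_mem (gens_mem_T j)), ?_⟩
    obtain ⟨n, rfl⟩ := (mem_T_iff_enc a).1 haT
    exact A2_conj_dec j n ha1
  · intro a ha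
    rw [mem_A1c_iff] at ha
    obtain ⟨n, rfl⟩ := (mem_T_iff_enc a).1 ha.1
    exact A1_sq_dec n ha.2
  · intro a ha
    rw [mem_A2c_iff] at ha
    obtain ⟨n, rfl⟩ := (mem_T_iff_enc a).1 ha.1
    exact A2_sq_dec n ha.2
  · rw [card_eq_filter A1c inA1 mem_A1c_iff, A1_card_dec]
  · rw [card_eq_filter A2c inA2 mem_A2c_iff, A2_card_dec]
  · intro h
    apply lsw0_not_mem_A2c
    rw [← h]
    exact lsw0_mem_A1c

end Cfsg.Agent.Lib.H18.GH
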