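import Mathlib
import Cfsg.Agent.Lib.H17.GHDefs
import Cfsg.Agent.Lib.H18.GHK0
import Cfsg.Agent.Lib.H18.GHK2

/-!
# S4402 — piece K3 `good_T` (helper18)
-/

set_option autoImplicit false
set_option linter.dupNamespace false

namespace Cfsg.Agent.Lib.H18.GH

open Subgroup Cfsg.Agent.Lib.H17.GH Cfsg.Agent.Lib.H14.A8Sylow

set_option maxRecDepth 100000 in
theorem good_dec : ∀ n : Fin 128, enc n * enc n = 1 →
    (inA1 (enc n) ∨ inA2 (enc n)) ∨
      ∃ m : Fin 128, ¬ ((enc m * enc n * (enc m)⁻¹) * enc n = enc n * (enc m * enc n * (enc m)⁻¹)) := by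
  unfold inA1 inA2
  decide +kernel

/-- K3. An involution (or 1) commuting with all its `T`-conjugates lies in `A1c ∪ A2c`. -/
theorem good_T : ∀ x ∈ T, x * x = 1 → (∀ g ∈ T, (g * x * g⁻¹) * x = x * (g * x * g⁻¹)) →
    x ∈ A1c ∨ x ∈ A2c := by
  intro x hx hsq hc
  obtain ⟨n, rfl⟩ := (mem_T_iff_enc x).1 hx
  rcases good_dec n hsq with (h | h) | ⟨m, hm⟩
  · exact Or.inl ((mem_A1c_iff _).2 ⟨hx, h⟩)
  · exact Or.inr ((mem_A2c_iff _).2 ⟨hx, h⟩)
  · exact absurd (hc (enc m) (enc_mem_T m)) hm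

end Cfsg.Agent.Lib.H18.GH
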