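import Mathlib
import Cfsg.Agent.Lib.H17.GHDefs
import Cfsg.Agent.Lib.H18.GHK0
import Cfsg.Agent.Lib.H18.GHK2

/-!
# S4402 — piece K4 `Omc_iff_card` (helper18)
-/

set_option autoImplicit false
set_option linter.dupNamespace false

namespace Cfsg.Agent.Lib.H18.GH

open Subgroup Cfsg.Agent.Lib.H17.GH Cfsg.Agent.Lib.H14.A8Sylow

/-- the `A1c`-part of `enc n` -/
def encL (n : Fin 128) : Equiv.Perm (Fin 8) :=
  pw (lsw 0) (n.val.testBit 0) * pw (lsw 1) (n.val.testBit 1) * pw (lsw 2) (n.val.testBit 2) *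
    pw (lsw 3) (n.val.testBit 3)

/-- the `A2c`-part of `enc n` -/
def encQ (n : Fin 128) : Equiv.Perm (Fin 8) :=
  pw (qsw 0) (n.val.testBit 4) * pw (qsw 1) (n.val.testBit 5)

/-- interchanging the two halves -/
def swapsHalves (σ : Equiv.Perm (Fin 8)) : Prop := ∀ i, blk4 (σ i) ≠ blk4 i

instance : DecidablePred swapsHalves := fun σ => by unfold swapsHalves; infer_instance

set_option maxRecDepth 100000 in
theorem encL_dec : ∀ n : Fin 128, (encL n ∈ T ∧ inA1 (encL n)) := by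
  intro n
  rw [mem_T]
  revert n
  unfold inA1
  decide

set_option maxRecDepth 100000 in
theorem encQ_dec : ∀ n : Fin 128, (encQ n ∈ T ∧ inA2 (encQ n)) := by
  intro n
  rw [mem_T]
  revert n
  unfold inA2
  decide

set_option maxRecDepth 100000 in
theorem split_dec : ∀ n : Fin 128, swapsHalves (enc n) ∨ enc n = encL n * encQ n := by
  unfold swapsHalves
  decide

set_option maxRecDepth 100000 in
theorem A1_blk4_dec : ∀ n : Fin 128, inA1 (enc n) → ∀ i, blk4 (enc n i) = blk4 i := by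
  unfold inA1
  decide

set_option maxRecDepth 100000 in
theorem A2_blk4_dec : ∀ n : Fin 128, inA2 (enc n) → ∀ i, blk4 (enc n i) = blk4 i := by
  unfold inA2
  decide

set_option maxRecDepth 100000 in
theorem Om_card_dec : (Finset.univ.filter (fun n : Fin 128 =>
    enc n * enc n = 1 ∧ swapsHalves (enc n))).card = 8 := by
  unfold swapsHalves
  decide

theorem A1c_blk4 : ∀ a ∈ A1c, ∀ i, blk4 (a i) = blk4 i := by
  intro a ha
  rw [mem_A1c_iff] at ha
  obtain ⟨n, rfl⟩ := (mem_T_iff_enc a).1 ha.1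
  exact A1_blk4_dec n ha.2

theorem A2c_blk4 : ∀ a ∈ A2c, ∀ i, blk4 (a i) = blk4 i := by
  intro a ha
  rw [mem_A2c_iff] at ha
  obtain ⟨n, rfl⟩ := (mem_T_iff_enc a).1 ha.1
  exact A2_blk4_dec n ha.2

theorem Omc_eq : Omc = {σ | σ ∈ T ∧ (σ * σ = 1 ∧ swapsHalves σ)} := rfl

/-- K4. `Omc` = the involutions of `T` outside `A1c A2c`; 8 of them. -/
theorem Omc_iff_card : (∀ x, x ∈ Omc ↔ (x ∈ T ∧ x * x = 1 ∧ ¬ ∃ a ∈ A1c, ∃ b ∈ A2c, x = a * b)) ∧
    Omc.ncard = 8 := by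
  refine ⟨?_, ?_⟩
  · intro x
    constructor
    · rintro ⟨hxT, hsq, hsw⟩
      refine ⟨hxT, hsq, ?_⟩
      rintro ⟨a, ha, b, hb, rfl⟩
      apply hsw 0
      rw [Equiv.Perm.mul_apply, A1c_blk4 a ha, A2c_blk4 b hb]
    · rintro ⟨hxT, hsq, hne⟩
      refine ⟨hxT, hsq, ?_⟩
      obtain ⟨n, rfl⟩ := (mem_T_iff_enc x).1 hxT
      rcases split_dec n with h | h
      · exact h
      · exfalso
        apply hne
        exact ⟨encL n, (mem_A1c_iff _).2 (encL_dec n), encQ n, (mem_A2c_iff _).2 (encQ_dec n), h⟩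
  · rw [Omc_eq, ncard_eq_filter (fun σ => σ * σ = 1 ∧ swapsHalves σ)]
    exact Om_card_dec

end Cfsg.Agent.Lib.H18.GH
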