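import Mathlib
import Cfsg.Agent.Lib.H18.ZPARITH

/-!
# S1951, piece E (helper12's sigs): the arithmetic endgame

Exact signature of `tools/blueprints/S1951_sigs.lean` (`Cfsg.Agent.Lib.H12.GR.Sigs.endgame`).
-/

set_option autoImplicit false

namespace Cfsg.Agent.Lib.H18.GR

open Finset

/-- E. The arithmetic endgame (pure arithmetic; no groups). -/
theorem endgame {ι : Type*} [Fintype ι] [DecidableEq ι] (i₀ : ι) (c : ι → ℤ) (d : ι → ℕ) (p q : ℕ)
    (hp : p.Prime) (hp2 : p ≠ 2) (hq : ∃ n : ℕ, 0 < n ∧ q = p ^ n)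
    (hc0 : c i₀ = 1) (hd0 : d i₀ = 1) (hdpos : ∀ i, 0 < d i)
    (hdeg : ∀ i, i ≠ i₀ → 0 < c i → c i + (q : ℤ) ≤ (d i : ℤ))
    (hG : ∑ i, (c i) ^ 2 = (q : ℤ)) (hI1 : ∑ i, c i * (d i : ℤ) = 0)
    (t : ℚ) (ht0 : 0 ≤ t) (ht : ((p : ℚ) - 1) * t ≤ 1)
    (hI : ∑ i, ((c i : ℚ) ^ 3) / (d i : ℚ) = (1 - t) * (q : ℚ)) : False := by
  obtain ⟨n, hn, hqn⟩ := hq
  have hp3 : 3 ≤ p := by
    have := hp.two_le
    omega
  have hpq : p ≤ q := by
    rw [hqn]
    calc p = p ^ 1 := (pow_one _).symm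
      _ ≤ p ^ n := Nat.pow_le_pow_right hp.pos hn
  set S : Finset ι := Finset.univ.erase i₀ with hS
  have hi₀ : i₀ ∈ (Finset.univ : Finset ι) := Finset.mem_univ _
  have hsplit : ∀ g : ι → ℤ, ∑ i, g i = g i₀ + ∑ i ∈ S, g i := fun g =>
    (Finset.add_sum_erase Finset.univ g hi₀).symm
  have hsplitq : ∀ g : ι → ℚ, ∑ i, g i = g i₀ + ∑ i ∈ S, g i := fun g =>
    (Finset.add_sum_erase Finset.univ g hi₀).symm
  have hsq' : ∑ i ∈ S, c i ^ 2 = (q : ℤ) - 1 := by
    have := hsplit (fun i => c i ^ 2)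
    simp only [hc0] at this
    rw [hG] at this
    linarith
  have hcle : ∀ i ∈ S, c i ^ 2 ≤ (q : ℤ) - 1 := by
    intro i hi
    rw [← hsq']
    exact Finset.single_le_sum (f := fun i => c i ^ 2) (fun j _ => sq_nonneg (c j)) hi
  have hdposz : ∀ i, (0 : ℤ) < (d i : ℤ) := fun i => by exact_mod_cast hdpos i
  -- termwise bound
  have hterm : ∀ i ∈ S, ((c i : ℚ) ^ 3) / (d i : ℚ) ≤ (c i : ℚ) ^ 2 / 3 := by
    intro i hi
    have hcast : ((d i : ℕ) : ℚ) = (((d i : ℕ) : ℤ) : ℚ) := by push_cast; rfl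
    rw [hcast]
    rcases le_or_gt (c i) 0 with hd | hd
    · refine (Cfsg.Agent.Lib.H18.ZP.term_nonpos hd (hdposz i)).trans ?_
      positivity
    · exact Cfsg.Agent.Lib.H18.ZP.term_le hd (by have := hcle i hi; linarith)
        (hdeg i (Finset.ne_of_mem_erase hi) hd)
  have hsumle : ∑ i, ((c i : ℚ) ^ 3) / (d i : ℚ) ≤ 1 + ((q : ℚ) - 1) / 3 := by
    rw [hsplitq]
    simp only [hc0, hd0]
    have h1 : ∑ i ∈ S, ((c i : ℚ) ^ 3) / (d i : ℚ) ≤ ∑ i ∈ S, (c i : ℚ) ^ 2 / 3 :=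
      Finset.sum_le_sum hterm
    have h2 : ∑ i ∈ S, (c i : ℚ) ^ 2 / 3 = ((q : ℚ) - 1) / 3 := by
      rw [← Finset.sum_div]
      congr 1
      have := congrArg (fun z : ℤ => (z : ℚ)) hsq'
      simp only [Int.cast_sum, Int.cast_pow, Int.cast_sub, Int.cast_one, Int.cast_natCast] at this
      exact this
    rw [h2] at h1
    norm_num
    linarith
  -- numeric consequence
  have hp3q : (3 : ℚ) ≤ (p : ℚ) := by exact_mod_cast hp3
  have hpqq : (p : ℚ) ≤ (q : ℚ) := by exact_mod_cast hpq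
  have hp1 : (0 : ℚ) < (p : ℚ) - 1 := by linarith
  have hq0 : (0 : ℚ) < (q : ℚ) := by linarith
  rw [hI] at hsumle
  -- (p-1)(1-t) q ≥ (p-2) q
  have hkey : ((p : ℚ) - 2) * (q : ℚ) ≤ ((p : ℚ) - 1) * (1 + ((q : ℚ) - 1) / 3) := by
    have h1 : ((p : ℚ) - 2) ≤ ((p : ℚ) - 1) * (1 - t) := by nlinarith
    calc ((p : ℚ) - 2) * (q : ℚ) ≤ (((p : ℚ) - 1) * (1 - t)) * (q : ℚ) :=
          mul_le_mul_of_nonneg_right h1 hq0.le
      _ = ((p : ℚ) - 1) * ((1 - t) * (q : ℚ)) := by ring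
      _ ≤ ((p : ℚ) - 1) * (1 + ((q : ℚ) - 1) / 3) := mul_le_mul_of_nonneg_left hsumle hp1.le
  have hp_eq : p = 3 := by
    by_contra hne
    have hp4 : 4 ≤ p := by omega
    have hp4q : (4 : ℚ) ≤ (p : ℚ) := by exact_mod_cast hp4
    nlinarith
  subst hp_eq
  have hq_le : q ≤ 4 := by
    have : (q : ℚ) ≤ 4 := by
      norm_num at hkey
      linarith
    exact_mod_cast this
  have hn1 : n = 1 := by
    by_contra hne
    have hn2 : 2 ≤ n := by omega
    have : 3 ^ 2 ≤ 3 ^ n := Nat.pow_le_pow_right (by norm_num) hn2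
    rw [hqn] at hq_le
    omega
  have hq3 : q = 3 := by rw [hqn, hn1]; norm_num
  subst hq3
  -- endgame q = 3
  have ht2 : t ≤ 1 / 2 := by
    norm_num at ht
    linarith
  have hlow2 : (1 : ℚ) / 2 ≤ ∑ i ∈ S, ((c i : ℚ) ^ 3) / (d i : ℚ) := by
    have h := hI
    rw [hsplitq] at h
    simp only [hc0, hd0] at h
    norm_num at h
    linarith
  have hsq3 : ∑ i ∈ S, c i ^ 2 = 2 := by rw [hsq']; norm_num
  have hneg : ∑ i ∈ S, c i * (d i : ℤ) = -1 := by
    have := hsplit (fun i => c i * (d i : ℤ))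
    simp only [hc0, hd0] at this
    rw [hI1] at this
    push_cast at this
    linarith
  obtain ⟨j, hjS, hj⟩ : ∃ j ∈ S, c j * (d j : ℤ) < 0 := by
    by_contra hcon
    push_neg at hcon
    have : 0 ≤ ∑ i ∈ S, c i * (d i : ℤ) := Finset.sum_nonneg hcon
    rw [hneg] at this
    norm_num at this
  have hcj : c j < 0 := by
    by_contra hge
    push_neg at hge
    have := mul_nonneg hge (hdposz j).le
    linarith
  -- bound by the positive part
  set h : ι → ℚ := fun i => if 0 < c i then (c i : ℚ) ^ 2 / 4 else 0 with hh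
  have hterm4 : ∀ i ∈ S, ((c i : ℚ) ^ 3) / (d i : ℚ) ≤ h i := by
    intro i hi
    have hdq : (0 : ℚ) < (d i : ℚ) := by exact_mod_cast hdpos i
    rcases le_or_gt (c i) 0 with hd | hd
    · have hcast : ((d i : ℕ) : ℚ) = (((d i : ℕ) : ℤ) : ℚ) := by push_cast; rfl
      rw [hcast, hh]
      simp only [if_neg (not_lt.2 hd)]
      exact Cfsg.Agent.Lib.H18.ZP.term_nonpos hd (hdposz i)
    · rw [hh]
      simp only [if_pos hd]
      have hdl := hcle i hi
      have hc1 : c i = 1 := by nlinarith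
      have hge := hdeg i (Finset.ne_of_mem_erase hi) hd
      rw [hc1] at hge
      have h4 : (4 : ℚ) ≤ (d i : ℚ) := by
        have : (4 : ℤ) ≤ (d i : ℤ) := by push_cast at hge; linarith
        exact_mod_cast this
      rw [hc1, div_le_div_iff₀ hdq (by norm_num)]
      push_cast
      linarith
  have hhle : ∀ i ∈ S.erase j, h i ≤ (c i : ℚ) ^ 2 / 4 := by
    intro i _
    simp only [hh]
    split_ifs
    · exact le_rfl
    · positivity
  have hhj : h j = 0 := by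
    rw [hh]
    simp only [if_neg (not_lt.2 hcj.le)]
  have hsumh : ∑ i ∈ S, h i ≤ 1 / 4 := by
    rw [← Finset.add_sum_erase S h hjS, hhj, zero_add]
    refine (Finset.sum_le_sum hhle).trans ?_
    rw [← Finset.sum_div]
    have h2 : ∑ i ∈ S.erase j, c i ^ 2 = 2 - c j ^ 2 := by
      have := Finset.add_sum_erase S (fun i => c i ^ 2) hjS
      rw [hsq3] at this
      linarith
    have h3 : ∑ i ∈ S.erase j, c i ^ 2 ≤ 1 := by
      rw [h2]
      nlinarith
    have h4 : ∑ i ∈ S.erase j, (c i : ℚ) ^ 2 ≤ 1 := by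
      have := (Int.cast_le (R := ℚ)).2 h3
      simpa only [Int.cast_sum, Int.cast_pow, Int.cast_one] using this
    linarith
  have := (Finset.sum_le_sum hterm4).trans hsumh
  linarith

end Cfsg.Agent.Lib.H18.GR
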