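import Mathlib
import Cfsg.Agent.Lib.H25.GsDefs

/-!
# S5665 piece (SF1) (helper18): the unitary transvections are symplectic and normalise `K`
-/

set_option autoImplicit false
set_option linter.unusedSimpArgs false
set_option linter.unusedSectionVars false
set_option linter.unusedVariables false

namespace Cfsg.Agent.Lib.H18.Gs

open Matrix Module
open Cfsg Cfsg.Geo
open Cfsg.Agent.Lib.H11.SubspMax
open Cfsg.Agent.Lib.H25.Gs
open Cfsg.Agent.Lib.H4 (sympForm_self sympForm_add_left sympForm_add_right sympForm_smul_left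
  sympForm_smul_right sympForm_swap)

variable {F : Type*} [Field F] {m : ℕ} {J : Matrix (Fin m ⊕ Fin m) (Fin m ⊕ Fin m) F} {d : F}

/-- an invertible matrix commuting with a subalgebra normalises it (any index type) -/
theorem mem_normalizer_of_comm_s {ι : Type} [Fintype ι] [DecidableEq ι] (K : Subalgebra F (Matrix ι ι F))
    (g : GL ι F) (h : ∀ k ∈ K, (g : Matrix ι ι F) * k = k * (g : Matrix ι ι F)) :
    g ∈ subalgebraNormalizer K := by
  have hinv : (g : Matrix ι ι F) * ((g⁻¹ : GL ι F) : Matrix ι ι F) = 1 := by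
    rw [← Units.val_mul, mul_inv_cancel, Units.val_one]
  have hinv' : ((g⁻¹ : GL ι F) : Matrix ι ι F) * (g : Matrix ι ι F) = 1 := by
    rw [← Units.val_mul, inv_mul_cancel, Units.val_one]
  intro k
  constructor
  · intro hk
    rw [h k hk, mul_assoc, hinv, mul_one]
    exact hk
  · intro hk'
    have h1 := h _ hk'
    have h2 : (g : Matrix ι ι F) * k * ((g⁻¹ : GL ι F) : Matrix ι ι F) * (g : Matrix ι ι F)
        = (g : Matrix ι ι F) * k := by
      rw [mul_assoc _ _ (g : Matrix ι ι F), hinv', mul_one]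
    rw [h2] at h1
    have h3 : (g : Matrix ι ι F) * k * ((g⁻¹ : GL ι F) : Matrix ι ι F) = k := by
      have h4 := congrArg (fun M => ((g⁻¹ : GL ι F) : Matrix ι ι F) * M) h1
      simp only [← mul_assoc, hinv', one_mul] at h4
      exact h4
    rw [← h3]
    exact hk'

/-- the action of a unitary transvection -/
theorem utv_mulVec {w : Fin m ⊕ Fin m → F} (hw : Sing J w) (c : F) (x : Fin m ⊕ Fin m → F) :
    ((utv J d w c : GL (Fin m ⊕ Fin m) F) : Matrix (Fin m ⊕ Fin m) (Fin m ⊕ Fin m) F) *ᵥ x =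
      x + (-(d * c) * Cfsg.sympForm m F x w) • w + (c * Cfsg.sympForm m F x (J *ᵥ w)) • (J *ᵥ w) := by
  unfold utv
  rw [gl_mul_mulVec, stv_mulVec, stv_mulVec, sympForm_add_left, sympForm_smul_left]
  have hw' : Cfsg.sympForm m F w (J *ᵥ w) = 0 := hw
  rw [hw', mul_zero, add_zero]

/-- the unitary transvections commute with `J` (on vectors) -/
theorem utv_comm_vec (S : SJ m J d) {w : Fin m ⊕ Fin m → F} (hw : Sing J w) (c : F)
    (x : Fin m ⊕ Fin m → F) :
    ((utv J d w c : GL (Fin m ⊕ Fin m) F) : Matrix (Fin m ⊕ Fin m) (Fin m ⊕ Fin m) F) *ᵥ (J *ᵥ x) =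
      J *ᵥ (((utv J d w c : GL (Fin m ⊕ Fin m) F) : Matrix (Fin m ⊕ Fin m) (Fin m ⊕ Fin m) F) *ᵥ x) := by
  rw [utv_mulVec hw, utv_mulVec hw, Matrix.mulVec_add, Matrix.mulVec_add, Matrix.mulVec_smul,
    Matrix.mulVec_smul, S.sq w, S.adj x w, S.adj x (J *ᵥ w), S.sq w, sympForm_smul_right]
  rw [add_assoc, add_assoc]
  congr 1
  rw [smul_smul, add_comm]
  congr 1
  · congr 1
    ring
  · congr 1
    ring

/-- the unitary transvections commute with `J` (as matrices) -/
theorem utv_comm_mat (S : SJ m J d) {w : Fin m ⊕ Fin m → F} (hw : Sing J w) (c : F) :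
    ((utv J d w c : GL (Fin m ⊕ Fin m) F) : Matrix (Fin m ⊕ Fin m) (Fin m ⊕ Fin m) F) * J =
      J * ((utv J d w c : GL (Fin m ⊕ Fin m) F) : Matrix (Fin m ⊕ Fin m) (Fin m ⊕ Fin m) F) := by
  apply Matrix.mulVec_injective
  funext x
  rw [← Matrix.mulVec_mulVec, ← Matrix.mulVec_mulVec]
  exact utv_comm_vec S hw c x

/-- **(SF1)** the unitary transvections are symplectic and normalise `K` (they commute with `J`) -/
theorem utv_mem (S : SJ m J d) (K : Subalgebra F (Matrix (Fin m ⊕ Fin m) (Fin m ⊕ Fin m) F))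
    (hKJ : ∀ k ∈ K, ∃ α β : F, k = α • (1 : Matrix (Fin m ⊕ Fin m) (Fin m ⊕ Fin m) F) + β • J)
    {w : Fin m ⊕ Fin m → F} (hw : Sing J w) (c : F) :
    utv J d w c ∈ subalgebraNormalizer K ⊓ Cfsg.spGL m F := by
  refine ⟨?_, ?_⟩
  · apply mem_normalizer_of_comm_s
    intro k hk
    obtain ⟨α, β, rfl⟩ := hKJ k hk
    rw [mul_add, add_mul, Matrix.mul_smul, Matrix.smul_mul, Matrix.mul_smul, Matrix.smul_mul,
      mul_one, one_mul, utv_comm_mat S hw c]
  · exact (Cfsg.spGL m F).mul_mem (stv_mem_spGL _ _) (stv_mem_spGL _ _)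

end Cfsg.Agent.Lib.H18.Gs
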