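import Mathlib
import Cfsg.Agent.Lib.H25.GsDefs
import Cfsg.Agent.Lib.H2.SpSimple

/-!
# S5665 piece (SF3) (helper18): a symplectic transvection does not normalise `K = F + F J`
-/

set_option autoImplicit false
set_option linter.unusedSimpArgs false
set_option linter.unusedSectionVars false
set_option linter.unusedVariables false

namespace Cfsg.Agent.Lib.H18.Gs

open Matrix Module
open Cfsg Cfsg.Geo
open Cfsg.Agent.Lib.H11.SubspMax
open Cfsg.Agent.Lib.H25.Gs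
open Cfsg.Agent.Lib.H4 (sympForm_self sympForm_add_left sympForm_add_right sympForm_smul_left
  sympForm_smul_right sympForm_swap)

variable {F : Type*} [Field F] {m : ℕ} {J : Matrix (Fin m ⊕ Fin m) (Fin m ⊕ Fin m) F} {d : F}

/-- `J` has no eigenvector -/
theorem sj_no_eigen (S : SJ m J d) {x : Fin m ⊕ Fin m → F} (hx : x ≠ 0) (l : F) : J *ᵥ x ≠ l • x := by
  intro h
  have h1 := S.sq x
  rw [h, Matrix.mulVec_smul, h, smul_smul] at h1
  have h2 : (l * l - d) • x = 0 := by rw [sub_smul, h1, sub_self]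
  rcases smul_eq_zero.1 h2 with h3 | h3
  · apply S.nsq l
    rw [pow_two]
    exact sub_eq_zero.1 h3
  · exact hx h3

/-- **(SF3)** properness: a symplectic transvection does not normalise `K` -/
theorem not_sp_le_normalizer (S : SJ m J d)
    (K : Subalgebra F (Matrix (Fin m ⊕ Fin m) (Fin m ⊕ Fin m) F)) (hJK : J ∈ K)
    (hKJ : ∀ k ∈ K, ∃ α β : F, k = α • (1 : Matrix (Fin m ⊕ Fin m) (Fin m ⊕ Fin m) F) + β • J) :
    ¬ Cfsg.spGL m F ≤ subalgebraNormalizer K := by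
  classical
  intro hle
  have hm := S.hm
  obtain ⟨i0, hi0⟩ : ∃ i : Fin m, i = ⟨0, by omega⟩ := ⟨_, rfl⟩
  obtain ⟨i1, hi1⟩ : ∃ i : Fin m, i = ⟨1, by omega⟩ := ⟨_, rfl⟩
  have hi01 : i0 ≠ i1 := by
    rw [hi0, hi1]
    intro h
    have := congrArg Fin.val h
    simp at this
  obtain ⟨v, hv⟩ : ∃ v : Fin m ⊕ Fin m → F, v = Pi.single (Sum.inl i0) 1 := ⟨_, rfl⟩
  obtain ⟨u, hu⟩ : ∃ u : Fin m ⊕ Fin m → F, u = Pi.single (Sum.inl i1) 1 := ⟨_, rfl⟩
  obtain ⟨x₀, hx₀⟩ : ∃ x : Fin m ⊕ Fin m → F, x = Pi.single (Sum.inr i0) 1 := ⟨_, rfl⟩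
  have hform : ∀ y : Fin m ⊕ Fin m → F, Cfsg.sympForm m F y v = y (Sum.inr i0) := by
    intro y
    rw [hv]
    exact Cfsg.Agent.Lib.H2.Sp.sympForm_single_inl y i0
  have hv0 : v ≠ 0 := by
    intro h
    have := congrFun h (Sum.inl i0)
    rw [hv, Pi.single_eq_same] at this
    exact one_ne_zero this
  have huv : Cfsg.sympForm m F u v = 0 := by
    rw [hform, hu, Pi.single_eq_of_ne (by simp)]
  have hxv : Cfsg.sympForm m F x₀ v = 1 := by
    rw [hform, hx₀, Pi.single_eq_same]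
  have hvv : Cfsg.sympForm m F v v = 0 := sympForm_self m v
  obtain ⟨t, ht⟩ : ∃ t : GL (Fin m ⊕ Fin m) F, t = stv v 1 := ⟨_, rfl⟩
  have htv : ∀ y : Fin m ⊕ Fin m → F,
      (t : Matrix (Fin m ⊕ Fin m) (Fin m ⊕ Fin m) F) *ᵥ y = y + Cfsg.sympForm m F y v • v := by
    intro y
    rw [ht, stv_mulVec, one_mul]
  have hN : t ∈ subalgebraNormalizer K := hle (ht ▸ stv_mem_spGL v 1)
  have hmem : (t : Matrix (Fin m ⊕ Fin m) (Fin m ⊕ Fin m) F) * J *
      ((t⁻¹ : GL (Fin m ⊕ Fin m) F) : Matrix (Fin m ⊕ Fin m) (Fin m ⊕ Fin m) F) ∈ K := (hN J).1 hJK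
  obtain ⟨α, β, hαβ⟩ := hKJ _ hmem
  have hvec : ∀ y : Fin m ⊕ Fin m → F,
      (t : Matrix (Fin m ⊕ Fin m) (Fin m ⊕ Fin m) F) *ᵥ (J *ᵥ y) =
        α • ((t : Matrix (Fin m ⊕ Fin m) (Fin m ⊕ Fin m) F) *ᵥ y) +
          β • (J *ᵥ ((t : Matrix (Fin m ⊕ Fin m) (Fin m ⊕ Fin m) F) *ᵥ y)) := by
    intro y
    have h1 := congrArg (fun M : Matrix (Fin m ⊕ Fin m) (Fin m ⊕ Fin m) F =>
      M *ᵥ ((t : Matrix (Fin m ⊕ Fin m) (Fin m ⊕ Fin m) F) *ᵥ y)) hαβ
    simp only [← Matrix.mulVec_mulVec, gl_inv_mulVec, Matrix.add_mulVec, Matrix.smul_mulVec,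
      Matrix.one_mulVec] at h1
    exact h1
  -- evaluate at `v`
  have h1 := hvec v
  rw [htv v, hvv, zero_smul, add_zero, htv (J *ᵥ v)] at h1
  have hβ : β = 1 := by
    by_contra hne
    have hne' : (1 - β) ≠ 0 := sub_ne_zero.2 (Ne.symm hne)
    apply sj_no_eigen S hv0 ((1 - β)⁻¹ * (α - Cfsg.sympForm m F (J *ᵥ v) v))
    have h2 : (1 - β) • (J *ᵥ v) = (α - Cfsg.sympForm m F (J *ᵥ v) v) • v := by
      rw [sub_smul, sub_smul, one_smul]
      rw [sub_eq_sub_iff_add_eq_add]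
      exact h1
    rw [mul_smul, ← h2, smul_smul, inv_mul_cancel₀ hne', one_smul]
  rw [hβ, one_smul] at h1
  have hα : α = Cfsg.sympForm m F (J *ᵥ v) v := by
    have h2 : (α - Cfsg.sympForm m F (J *ᵥ v) v) • v = 0 := by
      rw [sub_smul, sub_eq_zero]
      have h3 := h1
      rw [add_comm (α • v)] at h3
      exact (add_left_cancel h3).symm
    rcases smul_eq_zero.1 h2 with h3 | h3
    · exact sub_eq_zero.1 h3
    · exact absurd h3 hv0
  -- evaluate at `u`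
  have h4 := hvec u
  rw [htv u, huv, zero_smul, add_zero, htv (J *ᵥ u), hβ, one_smul] at h4
  have hα0 : α = 0 := by
    have h5 : Cfsg.sympForm m F (J *ᵥ u) v • v = α • u := by
      rw [add_comm (α • u)] at h4
      exact add_left_cancel h4
    have h6 := congrFun h5 (Sum.inl i1)
    rw [Pi.smul_apply, Pi.smul_apply, hv, hu, Pi.single_eq_same,
      Pi.single_eq_of_ne (by simpa using hi01.symm), smul_eq_mul, smul_eq_mul, mul_zero, mul_one] at h6
    exact h6.symm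
  -- evaluate at `x₀`
  have h7 := hvec x₀
  rw [htv x₀, hxv, one_smul, htv (J *ᵥ x₀), hβ, one_smul, hα0, zero_smul, zero_add,
    Matrix.mulVec_add] at h7
  have h8 : Cfsg.sympForm m F (J *ᵥ x₀) v • v = J *ᵥ v := add_left_cancel h7
  exact sj_no_eigen S hv0 _ h8.symm

end Cfsg.Agent.Lib.H18.Gs
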