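import Cfsg.Agent.Lib.H13.HSDefs2
import Cfsg.Agent.Lib.H18.HSA8

/-!
# stage 2 of the HS project, piece A5 (helper18): `caseA_alt`
prime degree `n ≥ 5`, `π ∩ [1,n] = {2, n}`, no transitive Hall `π`-subgroup of `A_n`.
-/

namespace Cfsg.Agent.Lib.H18.HS
open Equiv MulAction Cfsg.Agent.Lib.H13.HS
open scoped Pointwise

/-- orbit-stabilizer for a subgroup `K` of `Perm α` with a prescribed orbit `S` of `x`. -/
theorem a5_os {α : Type*} [Finite α] (K : Subgroup (Perm α)) (x : α) (S : Set α)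
    (h1 : ∀ g ∈ K, g x ∈ S) (h2 : ∀ y ∈ S, ∃ g ∈ K, g x = y) :
    Nat.card K = S.ncard * Nat.card (K ⊓ stabilizer (Perm α) x : Subgroup (Perm α)) := by
  have horb : MulAction.orbit K x = S := by
    ext y; constructor
    · rintro ⟨g, rfl⟩; exact h1 g g.2
    · intro hy
      obtain ⟨g, hg, rfl⟩ := h2 y hy
      exact ⟨⟨g, hg⟩, rfl⟩
  have hidx : (stabilizer K x).index = S.ncard := by
    rw [MulAction.index_stabilizer, horb]
  have hst : stabilizer K x = (K ⊓ stabilizer (Perm α) x).subgroupOf K := by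
    ext g
    simp only [mem_stabilizer_iff, Subgroup.mem_subgroupOf, Subgroup.mem_inf]
    constructor
    · intro h; exact ⟨g.2, h⟩
    · intro h; exact h.2
  have hcard : Nat.card (stabilizer K x) =
      Nat.card (K ⊓ stabilizer (Perm α) x : Subgroup (Perm α)) := by
    rw [hst]
    exact Nat.card_congr (Subgroup.subgroupOfEquivOfLe inf_le_left).toEquiv
  rw [← hidx, ← hcard]
  exact (Subgroup.index_mul_card _).symm

/-- a `r`-subgroup `X` of `A` has an `A`-conjugate inside a Hall subgroup `M` of `A`. -/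
theorem a5_conj_pgroup {G : Type*} [Group G] [Finite G] {π : Set ℕ} {M A : Subgroup G}
    (h : Cfsg.IsPiHallOf π M A) {r : ℕ} (hr : r.Prime) (hrπ : r ∈ π)
    (X : Subgroup G) (hXA : X ≤ A) (hX : IsPGroup r X) :
    ∃ g ∈ A, ∀ x ∈ X, g * x * g⁻¹ ∈ M := by
  have : Fact r.Prime := ⟨hr⟩
  have hH := a8_hall_subgroupOf h
  have hX' : IsPGroup r (X.subgroupOf A) := hX.comap_subtype
  have hnd : ¬ r ∣ Nat.card (A ⧸ M.subgroupOf A) := hH.2 r hr hrπ
  obtain ⟨q, hq⟩ := hX'.nonempty_fixed_point_of_prime_not_dvd_card (A ⧸ M.subgroupOf A) hnd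
  induction q using QuotientGroup.induction_on with
  | H g =>
    refine ⟨g⁻¹, A.inv_mem g.2, ?_⟩
    intro x hx
    have hxA : x ∈ A := hXA hx
    have h1 := hq ⟨⟨x, hxA⟩, Subgroup.mem_subgroupOf.mpr hx⟩
    have h2 : (((⟨x, hxA⟩ : A) * g : A) : A ⧸ M.subgroupOf A) = (g : A ⧸ M.subgroupOf A) := h1
    rw [QuotientGroup.eq] at h2
    have h3 := (M.subgroupOf A).inv_mem h2
    have h4 := Subgroup.mem_subgroupOf.mp h3
    simpa [mul_assoc] using h4

/-- a group generated by two commuting involutions is a `2`-group. -/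
theorem a5_klein_pgroup {G : Type*} [Group G] (a b : G) (ha : a * a = 1) (hb : b * b = 1)
    (hab : a * b = b * a) : IsPGroup 2 (Subgroup.closure ({a, b} : Set G)) := by
  have hcomm : ∀ x ∈ ({a, b} : Set G), ∀ y ∈ ({a, b} : Set G), x * y = y * x := by
    intro x hx y hy
    rcases hx with rfl | rfl <;> rcases hy with rfl | rfl
    · rfl
    · exact hab
    · exact hab.symm
    · rfl
  letI := Subgroup.closureCommGroupOfComm hcomm
  have hc : ∀ g ∈ Subgroup.closure ({a, b} : Set G), ∀ h ∈ Subgroup.closure ({a, b} : Set G),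
      g * h = h * g := by
    intro g hg h hh
    have := mul_comm (⟨g, hg⟩ : Subgroup.closure ({a, b} : Set G)) ⟨h, hh⟩
    exact Subtype.ext_iff.mp this
  have hsq : ∀ g ∈ Subgroup.closure ({a, b} : Set G), g * g = 1 := by
    intro g hg
    induction hg using Subgroup.closure_induction with
    | mem x hx =>
      rcases hx with rfl | rfl
      · exact ha
      · exact hb
    | one => simp
    | mul x y hx hy hx' hy' =>
      calc x * y * (x * y) = x * (y * x) * y := by group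
        _ = x * (x * y) * y := by rw [hc y hy x hx]
        _ = (x * x) * (y * y) := by group
        _ = 1 := by rw [hx', hy', one_mul]
    | inv x hx hx' =>
      have : x⁻¹ = x := by
        rw [inv_eq_iff_mul_eq_one]; exact hx'
      rw [this]; exact hx'
  intro g
  refine ⟨1, ?_⟩
  apply Subtype.ext
  have := hsq g.1 g.2
  simpa [pow_two] using this

/-- the Klein four-group on four points of `α`. -/
theorem a5_klein {α : Type*} [Finite α] (h4 : 4 ≤ Nat.card α) :
    ∃ (Δ : Set α) (V : Subgroup (Perm α)), Δ.ncard = 4 ∧ IsPGroup 2 V ∧ V ≤ altSub α ∧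
      (∀ t ∈ V, ∀ p ∉ Δ, t p = p) ∧ (∀ u ∈ Δ, ∀ v ∈ Δ, ∃ t ∈ V, t u = v) ∧
      ∃ t ∈ V, t ≠ 1 := by
  classical
  have := Fintype.ofFinite α
  have hA : altSub α = alternatingGroup α := altSub_eq α
  have hemb : Nonempty (Fin 4 ↪ α) := by
    apply Function.Embedding.nonempty_of_card_le
    rw [Fintype.card_fin, ← Nat.card_eq_fintype_card]; exact h4
  obtain ⟨ι⟩ := hemb
  let Φ : Perm (Fin 4) →* Perm α := Equiv.Perm.viaEmbeddingHom ι
  have hΦ1 : ∀ (σ : Perm (Fin 4)) (i : Fin 4), Φ σ (ι i) = ι (σ i) := fun σ i =>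
    Equiv.Perm.viaEmbedding_apply σ ι i
  have hΦ2 : ∀ (σ : Perm (Fin 4)) (p : α), p ∉ Set.range ι → Φ σ p = p := fun σ p hp =>
    Equiv.Perm.viaEmbedding_apply_of_notMem σ ι p hp
  have hΦs : ∀ σ : Perm (Fin 4), Equiv.Perm.sign (Φ σ) = Equiv.Perm.sign σ := by
    intro σ
    show Equiv.Perm.sign (Equiv.Perm.viaEmbedding σ ι) = _
    unfold Equiv.Perm.viaEmbedding
    exact @Equiv.Perm.sign_extendDomain _ _ _ _ _ _ σ _ (Classical.decPred _) _
  let a₀ : Perm (Fin 4) := Equiv.swap 0 1 * Equiv.swap 2 3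
  let b₀ : Perm (Fin 4) := Equiv.swap 0 2 * Equiv.swap 1 3
  have ha₀ : a₀ * a₀ = 1 := by decide
  have hb₀ : b₀ * b₀ = 1 := by decide
  have hab₀ : a₀ * b₀ = b₀ * a₀ := by decide
  let V₀ : Subgroup (Perm (Fin 4)) := Subgroup.closure {a₀, b₀}
  have hV₀ : IsPGroup 2 V₀ := a5_klein_pgroup a₀ b₀ ha₀ hb₀ hab₀
  have ha₀V : a₀ ∈ V₀ := Subgroup.subset_closure (by simp)
  have hb₀V : b₀ ∈ V₀ := Subgroup.subset_closure (by simp)
  have htr₀ : ∀ i j : Fin 4, ∃ σ ∈ V₀, σ i = j := by
    have key : ∀ i j : Fin 4, (1 : Perm (Fin 4)) i = j ∨ a₀ i = j ∨ b₀ i = j ∨ (a₀ * b₀) i = j := by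
      decide
    intro i j
    rcases key i j with h | h | h | h
    · exact ⟨1, V₀.one_mem, h⟩
    · exact ⟨a₀, ha₀V, h⟩
    · exact ⟨b₀, hb₀V, h⟩
    · exact ⟨a₀ * b₀, V₀.mul_mem ha₀V hb₀V, h⟩
  have hsign₀ : ∀ σ ∈ V₀, Equiv.Perm.sign σ = 1 := by
    intro σ hσ
    induction hσ using Subgroup.closure_induction with
    | mem x hx =>
      rcases hx with rfl | rfl
      · decide
      · decide
    | one => simp
    | mul x y _ _ hx' hy' => rw [map_mul, hx', hy', one_mul]
    | inv x _ hx' => rw [map_inv, hx', inv_one]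
  refine ⟨Set.range ι, V₀.map Φ, ?_, hV₀.map Φ, ?_, ?_, ?_, ?_⟩
  · rw [← Set.image_univ, Set.ncard_image_of_injective _ ι.injective, Set.ncard_univ]
    simp
  · rintro _ ⟨σ, hσ, rfl⟩
    rw [hA, Equiv.Perm.mem_alternatingGroup, hΦs]
    exact hsign₀ σ hσ
  · rintro _ ⟨σ, -, rfl⟩ p hp
    exact hΦ2 σ p hp
  · rintro _ ⟨i, rfl⟩ _ ⟨j, rfl⟩
    obtain ⟨σ, hσ, hσij⟩ := htr₀ i j
    exact ⟨Φ σ, ⟨σ, hσ, rfl⟩, by rw [hΦ1, hσij]⟩
  · refine ⟨Φ a₀, ⟨a₀, ha₀V, rfl⟩, ?_⟩
    intro h
    have h1 := hΦ1 a₀ 0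
    rw [h] at h1
    have h2 : ι 0 = ι (a₀ 0) := h1
    have h3 := ι.injective h2
    revert h3
    decide

/-- Jordan: a primitive group containing, for a 4-set `Δ`, elements fixing the complement of `Δ`
pointwise and acting transitively on `Δ`, is 2-transitive (`Nat.card α ≥ 5`). -/
theorem a5_two_trans {α : Type*} [Finite α] {M : Subgroup (Perm α)} (hprim : IsPreprimitive M α)
    (Δ : Set α) (hΔ : Δ.ncard = 4) (h5 : 5 ≤ Nat.card α)
    (hV : ∀ u ∈ Δ, ∀ v ∈ Δ, ∃ g ∈ M, (∀ z ∉ Δ, g z = z) ∧ g u = v) :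
    ∀ a b c d : α, a ≠ b → c ≠ d → ∃ g ∈ M, g a = c ∧ g b = d := by
  have hcompl : Δᶜ.ncard = (Nat.card α - 5) + 1 := by
    have := Set.ncard_add_ncard_compl Δ
    omega
  have htrans : IsPretransitive (fixingSubgroup M Δᶜ) (SubMulAction.ofFixingSubgroup M Δᶜ) := by
    constructor
    rintro ⟨u, hu⟩ ⟨v, hv⟩
    have huΔ : u ∈ Δ := by
      have := (SubMulAction.mem_ofFixingSubgroup_iff M).mp hu
      simpa using this
    have hvΔ : v ∈ Δ := by
      have := (SubMulAction.mem_ofFixingSubgroup_iff M).mp hv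
      simpa using this
    obtain ⟨g, hgM, hgfix, hguv⟩ := hV u huΔ v hvΔ
    have hmem : (⟨g, hgM⟩ : M) ∈ fixingSubgroup M Δᶜ := by
      rw [mem_fixingSubgroup_iff]
      intro y hy
      exact hgfix y hy
    refine ⟨⟨⟨g, hgM⟩, hmem⟩, ?_⟩
    apply Subtype.ext
    exact hguv
  have h2 : IsMultiplyPretransitive M α 2 :=
    hprim.is_two_pretransitive hcompl (by omega) htrans
  rw [is_two_pretransitive_iff] at h2
  intro a b c d hab hcd
  obtain ⟨g, hg1, hg2⟩ := h2 hab hcd
  exact ⟨g.1, g.2, hg1, hg2⟩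

/-- Witt-type fixed point argument for a 2-transitive group of odd degree whose point stabilizers
are 2-groups. -/
theorem a5_witt {α : Type*} [Finite α] {M : Subgroup (Perm α)}
    (h2tr : ∀ a b c d : α, a ≠ b → c ≠ d → ∃ g ∈ M, g a = c ∧ g b = d)
    (hodd : Odd (Nat.card α)) (h3 : 3 ≤ Nat.card α)
    (hMa : ∀ a : α, IsPGroup 2 (M ⊓ stabilizer (Perm α) a : Subgroup (Perm α))) :
    ∃ F : Set α, Odd F.ncard ∧ 3 ≤ F.ncard ∧ F.ncard ∣ Nat.card M ∧
      (F = Set.univ → (Nat.card M = Nat.card α * (Nat.card α - 1)) ∧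
         ∀ x y : α, x ≠ y → ∀ g ∈ M, g x = x → g y = y → g = 1) := by
  classical
  have hnt : Nontrivial α := by
    rw [← Finite.one_lt_card_iff_nontrivial]; omega
  obtain ⟨a, b, hab⟩ := exists_pair_ne α
  set n := Nat.card α with hn
  let St : α → α → Subgroup (Perm α) :=
    fun x y => M ⊓ stabilizer (Perm α) x ⊓ stabilizer (Perm α) y
  have hSt : ∀ x y (g : Perm α), g ∈ St x y ↔ g ∈ M ∧ g x = x ∧ g y = y := by
    intro x y g
    show g ∈ M ⊓ stabilizer (Perm α) x ⊓ stabilizer (Perm α) y ↔ _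
    rw [Subgroup.mem_inf, Subgroup.mem_inf, mem_stabilizer_iff, mem_stabilizer_iff]
    exact and_assoc
  have hcount : ∀ x y : α, x ≠ y → Nat.card M = n * ((n - 1) * Nat.card (St x y)) := by
    intro x y hxy
    have e1 := a5_os M x Set.univ (fun _ _ => Set.mem_univ _) (by
      intro z _
      obtain ⟨z', hz'⟩ := exists_ne z
      obtain ⟨g, hg, h1, _⟩ := h2tr x y z z' hxy hz'.symm
      exact ⟨g, hg, h1⟩)
    have e2 := a5_os (M ⊓ stabilizer (Perm α) x) y {x}ᶜ (by
      intro g hg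
      have hgx : g x = x := mem_stabilizer_iff.mp (Subgroup.mem_inf.mp hg).2
      simp only [Set.mem_compl_iff, Set.mem_singleton_iff]
      intro h
      apply hxy
      apply g.injective
      rw [hgx, h]) (by
      intro z hz
      have hzx : z ≠ x := hz
      obtain ⟨g, hg, h1, h2⟩ := h2tr x y x z hxy hzx.symm
      exact ⟨g, Subgroup.mem_inf.mpr ⟨hg, mem_stabilizer_iff.mpr h1⟩, h2⟩)
    rw [e1, e2, Set.ncard_univ, Set.ncard_compl, Set.ncard_singleton]
  set D := St a b with hD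
  let F : Set α := {z | ∀ d ∈ D, d z = z}
  have haF : a ∈ F := fun d hd => ((hSt a b d).mp hd).2.1
  have hbF : b ∈ F := fun d hd => ((hSt a b d).mp hd).2.2
  have hD2 : IsPGroup 2 D := (hMa a).to_le inf_le_left
  have hfix : (fixedPoints D α) = F := by
    ext z
    rw [mem_fixedPoints]
    constructor
    · intro h d hd; exact h ⟨d, hd⟩
    · intro h d; exact h d.1 d.2
  have hmod := hD2.card_modEq_card_fixedPoints α
  have hFc : Nat.card (fixedPoints D α) = F.ncard := by
    rw [hfix]; exact _root_.Nat.card_coe_set_eq F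
  rw [hFc] at hmod
  have hFodd : Odd F.ncard := by
    rw [Nat.odd_iff] at hodd ⊢
    rw [← hmod]; exact hodd
  have hF2 : 1 < F.ncard := (Set.one_lt_ncard_iff (Set.toFinite F)).mpr ⟨a, b, haF, hbF, hab⟩
  have hF3 : 3 ≤ F.ncard := by
    obtain ⟨k, hk⟩ := hFodd
    omega
  have hn1 : 0 < n - 1 := by omega
  have hn0 : 0 < n := by omega
  have hDeq : ∀ x ∈ F, ∀ y ∈ F, x ≠ y → St x y = D := by
    intro x hx y hy hxy
    have hle : D ≤ St x y := by
      intro d hd
      exact (hSt x y d).mpr ⟨((hSt a b d).mp hd).1, hx d hd, hy d hd⟩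
    have hc : Nat.card (St x y) = Nat.card D := by
      have e1 := hcount x y hxy
      have e2 := hcount a b hab
      rw [e1] at e2
      exact Nat.eq_of_mul_eq_mul_left hn1 (Nat.eq_of_mul_eq_mul_left hn0 e2)
    exact (Subgroup.eq_of_le_of_card_ge hle hc.le).symm
  have hwitt : ∀ x ∈ F, ∀ y ∈ F, x ≠ y → ∀ g ∈ M, g x ∈ F → g y ∈ F → ∀ z ∈ F, g z ∈ F := by
    intro x hx y hy hxy g hg hgx hgy z hz d hd
    have hdM : d ∈ M := ((hSt a b d).mp hd).1
    have he : g⁻¹ * d * g ∈ St x y := by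
      rw [hSt]
      refine ⟨M.mul_mem (M.mul_mem (M.inv_mem hg) hdM) hg, ?_, ?_⟩
      · simp only [Equiv.Perm.mul_apply]
        rw [hgx d hd]; simp
      · simp only [Equiv.Perm.mul_apply]
        rw [hgy d hd]; simp
    rw [hDeq x hx y hy hxy] at he
    have := hz _ he
    simp only [Equiv.Perm.mul_apply] at this
    have h' := congrArg g this
    simpa using h'
  -- the setwise stabilizer of F
  let N : Subgroup (Perm α) := M ⊓ stabilizer (Perm α) F
  have hNos := a5_os N a F (by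
    intro g hg
    have hgF : g • F = F := mem_stabilizer_iff.mp (Subgroup.mem_inf.mp hg).2
    have : g • a ∈ g • F := Set.smul_mem_smul_set haF
    rw [hgF] at this
    exact this) (by
    intro x' hx'
    obtain ⟨y', hy', hne⟩ : ∃ y' ∈ F, x' ≠ y' := by
      by_cases h : x' = a
      · exact ⟨b, hbF, by rw [h]; exact hab⟩
      · exact ⟨a, haF, h⟩
    obtain ⟨g, hg, h1, h2⟩ := h2tr a b x' y' hab hne
    refine ⟨g, Subgroup.mem_inf.mpr ⟨hg, ?_⟩, h1⟩
    rw [mem_stabilizer_set_iff_smul_set_subset (Set.toFinite F)]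
    rintro _ ⟨z, hz, rfl⟩
    exact hwitt a haF b hbF hab g hg (by rw [h1]; exact hx') (by rw [h2]; exact hy') z hz)
  have hFdvd : F.ncard ∣ Nat.card M :=
    (Dvd.intro _ hNos.symm).trans (Subgroup.card_dvd_of_le inf_le_left)
  refine ⟨F, hFodd, hF3, hFdvd, ?_⟩
  intro hFu
  have hDbot : D = ⊥ := by
    rw [Subgroup.eq_bot_iff_forall]
    intro d hd
    ext z
    have hz : z ∈ F := by rw [hFu]; exact Set.mem_univ z
    simpa using hz d hd
  have hDc : Nat.card D = 1 := by rw [hDbot]; exact Subgroup.card_bot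
  refine ⟨?_, ?_⟩
  · rw [hcount a b hab, hDc, mul_one]
  · intro x y hxy g hg hgx hgy
    have hc : Nat.card (St x y) = 1 := by
      have e1 := hcount x y hxy
      have e2 := hcount a b hab
      rw [e1, hDc] at e2
      exact Nat.eq_of_mul_eq_mul_left hn1 (Nat.eq_of_mul_eq_mul_left hn0 e2)
    have hbot := Subgroup.eq_bot_of_card_eq _ hc
    have hmem : g ∈ St x y := (hSt x y g).mpr ⟨hg, hgx, hgy⟩
    rw [hbot] at hmem
    exact Subgroup.mem_bot.mp hmem

theorem caseA_alt {α : Type*} [Finite α] {π : Set ℕ} {M : Subgroup (Perm α)}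
    (hM : Cfsg.IsPiHallOf π M (altSub α)) (htr : IsPretransitive M α)
    (hn : (Nat.card α).Prime) (h5 : 5 ≤ Nat.card α) (h2 : 2 ∈ π)
    (hfew : ∀ s : ℕ, s.Prime → s ∈ π → s ≤ Nat.card α → s = 2 ∨ s = Nat.card α) : False := by
  classical
  have := Fintype.ofFinite α
  have hA : altSub α = alternatingGroup α := altSub_eq α
  obtain ⟨hMA, hMnum, hMfree⟩ := id hM
  set n := Nat.card α with hn_def
  have hMdvd : Nat.card M ∣ n.factorial := by
    have h1 : Nat.card M ∣ Nat.card (Perm α) := Subgroup.card_subgroup_dvd_card M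
    rwa [Nat.card_perm] at h1
  have hprimes : ∀ p : ℕ, p.Prime → p ∣ Nat.card M → p = 2 ∨ p = n := by
    intro p hp hd
    exact hfew p hp (hMnum p hp hd) ((hp.dvd_factorial).mp (hd.trans hMdvd))
  have hprim : IsPreprimitive M α := IsPreprimitive.of_prime_card hn
  -- the Klein four-group, conjugated into `M`
  obtain ⟨Δ, V, hΔ, hV2, hVA, hVfix, hVtr, t₀, ht₀V, ht₀⟩ := a5_klein (α := α) (by omega)
  obtain ⟨g, hgA, hg⟩ := a5_conj_pgroup hM Nat.prime_two h2 V hVA hV2
  have hfixconj : ∀ t ∈ V, ∀ z ∉ g '' Δ, (g * t * g⁻¹) z = z := by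
    intro t ht z hz
    have hz' : g⁻¹ z ∉ Δ := by
      intro h
      apply hz
      exact ⟨g⁻¹ z, h, by simp⟩
    simp only [Equiv.Perm.mul_apply]
    rw [hVfix t ht _ hz']; simp
  -- 2-transitivity
  have h2tr := a5_two_trans hprim (g '' Δ)
    (by rw [Set.ncard_image_of_injective _ g.injective]; exact hΔ) h5 (by
      rintro _ ⟨u, hu, rfl⟩ _ ⟨v, hv, rfl⟩
      obtain ⟨t, ht, htuv⟩ := hVtr u hu v hv
      refine ⟨g * t * g⁻¹, hg t ht, hfixconj t ht, ?_⟩
      simp only [Equiv.Perm.mul_apply]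
      have h1 : g⁻¹ (g u) = u := by simp
      rw [h1, htuv])
  -- point stabilizers are 2-groups
  have hnodd : Odd n := hn.odd_of_ne_two (by omega)
  have hMa : ∀ a : α, IsPGroup 2 (M ⊓ stabilizer (Perm α) a : Subgroup (Perm α)) := by
    intro a
    have e1 := a5_os M a Set.univ (fun _ _ => Set.mem_univ _) (by
      intro z _
      obtain ⟨g', hg'⟩ := htr.exists_smul_eq a z
      exact ⟨g'.1, g'.2, hg'⟩)
    rw [Set.ncard_univ] at e1
    have hq : ∀ q : ℕ, q.Prime →
        q ∣ Nat.card (M ⊓ stabilizer (Perm α) a : Subgroup (Perm α)) → q = 2 := by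
      intro q hq hd
      rcases hprimes q hq (by rw [e1]; exact hd.mul_left _) with h | h
      · exact h
      · exfalso
        have h1 : n * n ∣ n.factorial := by
          refine dvd_trans ?_ hMdvd
          rw [e1]; rw [h] at hd; exact Nat.mul_dvd_mul_left n hd
        have h2' : n.factorial = n * (n - 1).factorial :=
          (Nat.mul_factorial_pred (by omega)).symm
        rw [h2'] at h1
        have h3 : n ∣ (n - 1).factorial := Nat.dvd_of_mul_dvd_mul_left (by omega) h1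
        have := (hn.dvd_factorial).mp h3
        omega
    have hcard := Nat.eq_prime_pow_of_unique_prime_dvd (p := 2) (Nat.card_pos.ne')
      (fun {d} hd hdd => hq d hd hdd)
    exact IsPGroup.of_card hcard
  obtain ⟨F, hFodd, hF3, hFdvd, hFu⟩ := a5_witt h2tr hnodd (by omega) hMa
  have hFn : F.ncard = n := by
    obtain ⟨p, hp, hpF⟩ := Nat.exists_prime_and_dvd (show F.ncard ≠ 1 by omega)
    rcases hprimes p hp (hpF.trans hFdvd) with h | h
    · exfalso
      rw [h] at hpF
      obtain ⟨k, hk⟩ := hFodd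
      omega
    · rw [h] at hpF
      have hle : F.ncard ≤ n := by
        have := Set.ncard_le_ncard (Set.subset_univ F) (Set.toFinite _)
        rwa [Set.ncard_univ] at this
      exact le_antisymm hle (Nat.le_of_dvd (by omega) hpF)
  have hFuniv : F = Set.univ := by
    apply Set.eq_of_subset_of_ncard_le (Set.subset_univ F)
    rw [Set.ncard_univ, hFn]
  obtain ⟨hcardM, htriv⟩ := hFu hFuniv
  have hn5 : n = 5 := by
    by_contra hne
    have hc : 1 < (g '' Δ)ᶜ.ncard := by
      rw [Set.ncard_compl, Set.ncard_image_of_injective _ g.injective, hΔ]; omega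
    obtain ⟨p, q, hp, hq, hpq⟩ := (Set.one_lt_ncard_iff (Set.toFinite _)).mp hc
    have h1 := htriv p q hpq (g * t₀ * g⁻¹) (hg t₀ ht₀V) (hfixconj t₀ ht₀V p hp)
      (hfixconj t₀ ht₀V q hq)
    apply ht₀
    have h2' : t₀ = g⁻¹ * (g * t₀ * g⁻¹) * g := by group
    rw [h2', h1]; group
  -- `|M| = 20` inside the simple group `A_5`
  have hcard20 : Nat.card M = 20 := by rw [hcardM, ← hn_def, hn5]
  have hsimple : IsSimpleGroup (alternatingGroup α) :=
    alternatingGroup.isSimpleGroup (by omega : 5 ≤ Nat.card α)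
  have hMA' : M ≤ alternatingGroup α := hA ▸ hMA
  let K : Subgroup (alternatingGroup α) := M.subgroupOf (alternatingGroup α)
  have hKc : Nat.card K = 20 := by
    rw [← hcard20]; exact Nat.card_congr (Subgroup.subgroupOfEquivOfLe hMA').toEquiv
  have hAc : Nat.card (alternatingGroup α) = 60 := by
    have : Nontrivial α := by
      rw [← Finite.one_lt_card_iff_nontrivial]; omega
    rw [nat_card_alternatingGroup, ← hn_def, hn5]
    rfl
  have hidx : K.index = 3 := by
    have := K.index_mul_card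
    rw [hKc, hAc] at this; omega
  rcases hsimple.eq_bot_or_eq_top_of_normal K.normalCore (Subgroup.normalCore_normal K) with h | h
  · have hker : (MulAction.toPermHom (alternatingGroup α) ((alternatingGroup α) ⧸ K)).ker = ⊥ := by
      rw [← Subgroup.normalCore_eq_ker]; exact h
    have hinj := (MonoidHom.ker_eq_bot_iff _).mp hker
    have hle := Nat.card_le_card_of_injective _ hinj
    have hq3 : Nat.card ((alternatingGroup α) ⧸ K) = 3 := hidx
    rw [hAc, Nat.card_perm, hq3] at hle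
    norm_num [Nat.factorial] at hle
  · have hK : K = ⊤ := top_le_iff.mp (h ▸ Subgroup.normalCore_le K)
    rw [hK, Subgroup.card_top, hAc] at hKc
    omega

end Cfsg.Agent.Lib.H18.HS
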