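import Cfsg.Agent.Lib.H13.HSDefs

/-!
# S2536 piece P8 (helper18 twin): `intrans_numeric`, the numeric step of the intransitive case
-/

namespace Cfsg.Agent.Lib.H18.HS
open Equiv MulAction Cfsg.Agent.Lib.H13.HS
open scoped Pointwise

/-- a prime `s` with `n - a < s ≤ n` (and `2 a ≤ n`) divides `n.choose a`. -/
theorem p8_prime_dvd_choose {n a s : ℕ} (hs : s.Prime) (ha2 : 2 * a ≤ n) (h1 : n - a < s)
    (h2 : s ≤ n) : s ∣ n.choose a := by
  have hle : a ≤ n := by omega
  have h := Nat.choose_mul_factorial_mul_factorial hle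
  have hdvd : s ∣ n.factorial := (hs.dvd_factorial).mpr h2
  rw [← h] at hdvd
  rcases (hs.dvd_mul).mp hdvd with h3 | h3
  · rcases (hs.dvd_mul).mp h3 with h4 | h4
    · exact h4
    · exact absurd ((hs.dvd_factorial).mp h4) (by omega)
  · exact absurd ((hs.dvd_factorial).mp h3) (by omega)

/-- Lucas: a prime `m` does not divide `(a + m).choose a` for `a < m`. -/
theorem p8_not_dvd_choose {a m : ℕ} (hm : m.Prime) (ham : a < m) : ¬ m ∣ (a + m).choose a := by
  have : Fact m.Prime := ⟨hm⟩
  have h := @Choose.choose_modEq_choose_mod_mul_choose_div_nat (a + m) a m _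
  have h1 : (a + m) % m = a := by
    rw [Nat.add_mod_right]; exact Nat.mod_eq_of_lt ham
  have h2 : a % m = a := Nat.mod_eq_of_lt ham
  have h3 : (a + m) / m = 1 := by
    rw [Nat.add_div_right _ hm.pos, Nat.div_eq_of_lt ham]
  have h4 : a / m = 0 := Nat.div_eq_of_lt ham
  rw [h1, h2, h3, h4] at h
  simp only [Nat.choose_self, Nat.choose_zero_right, mul_one] at h
  intro hd
  have h5 : (a + m).choose a ≡ 0 [MOD m] := (Nat.modEq_zero_iff_dvd).mpr hd
  have h6 : 1 ≡ 0 [MOD m] := h.symm.trans h5
  have h7 : m ∣ 1 := (Nat.modEq_zero_iff_dvd).mp h6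
  exact hm.one_lt.ne' (Nat.dvd_one.mp h7)

/-- P8 with the binomial lemma L1 as an explicit hypothesis. -/
theorem intrans_numeric_of_L1
    (hL1 : ∀ {n a : ℕ}, 2 ≤ a → 2 * a ≤ n →
      (∀ l : ℕ, l.Prime → l ≤ n - a → ¬ l ∣ n.choose a) → n = 7 ∧ a = 3)
    {π : Set ℕ} {n a : ℕ} (h2 : ¬ Few π n) (hnf : ¬ Full π n)
    (ha1 : 1 ≤ a) (ha2 : 2 * a ≤ n) (hfree : PiFree π (n.choose a)) (hc : Cls π (n - a)) :
    (a = 1 ∧ Below π n ∧ Full π (n - 1)) ∨ (n = 7 ∧ a = 3 ∧ TwoThree π 7) := by
  -- primes of π that are ≤ n are ≤ n - a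
  have hle : ∀ s : ℕ, s.Prime → s ∈ π → s ≤ n → s ≤ n - a := by
    intro s hs hsπ hsn
    by_contra hcon
    exact hfree s hs hsπ (p8_prime_dvd_choose hs ha2 (by omega) hsn)
  have key : (∀ l : ℕ, l.Prime → l ≤ n - a → ¬ l ∣ n.choose a) →
      (a = 1 ∧ n.Prime) ∨ (n = 7 ∧ a = 3) := by
    intro h
    rcases Nat.lt_or_ge a 2 with h' | h'
    · left
      have ha : a = 1 := by omega
      subst ha
      refine ⟨rfl, ?_⟩
      rw [Nat.choose_one_right] at h
      have hn2 : 2 ≤ n := by omega
      by_contra hnp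
      have hmf := Nat.minFac_prime (by omega : n ≠ 1)
      have hlt : n.minFac < n := (Nat.not_prime_iff_minFac_lt hn2).mp hnp
      exact h _ hmf (by omega) (Nat.minFac_dvd n)
    · right
      exact hL1 h' ha2 h
  rcases hc with hc | hc | hc | ⟨hm, hc⟩
  · -- Few
    exfalso; apply h2
    intro r s hr hs hrπ hsπ hrn hsn
    exact hc r s hr hs hrπ hsπ (hle r hr hrπ hrn) (hle s hs hsπ hsn)
  · -- Full π (n - a)
    have hno : ∀ l : ℕ, l.Prime → l ≤ n - a → ¬ l ∣ n.choose a :=
      fun l hl hla => hfree l hl (hc l hl hla)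
    rcases key hno with ⟨rfl, hnp⟩ | ⟨rfl, rfl⟩
    · left
      refine ⟨rfl, ?_, hc⟩
      have hnπ : n ∉ π := by
        intro hn
        apply hnf
        intro r hr hrn
        rcases Nat.lt_or_ge r n with h' | h'
        · exact hc r hr (by omega)
        · have : r = n := le_antisymm hrn h'
          rw [this]; exact hn
      refine ⟨hnp, ?_⟩
      intro r hr hrn
      constructor
      · intro hrπ
        rcases Nat.lt_or_ge r n with h' | h'
        · exact h'
        · exfalso; apply hnπ
          have : r = n := le_antisymm hrn h'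
          rw [← this]; exact hrπ
      · intro h'; exact hc r hr (by omega)
    · right
      refine ⟨rfl, rfl, ?_⟩
      intro r hr hr7
      have h2π : 2 ∈ π := hc 2 Nat.prime_two (by norm_num)
      have h3π : 3 ∈ π := hc 3 Nat.prime_three (by norm_num)
      have h5 : 5 ∉ π := fun h => hfree 5 (by norm_num) h (by decide)
      have h7 : 7 ∉ π := fun h => hfree 7 (by norm_num) h (by decide)
      interval_cases r
      · exact absurd hr (by decide)
      · exact absurd hr (by decide)
      · exact ⟨fun _ => Or.inl rfl, fun _ => h2π⟩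
      · exact ⟨fun _ => Or.inr rfl, fun _ => h3π⟩
      · exact absurd hr (by decide)
      · exact ⟨fun h => absurd h h5, fun h => by omega⟩
      · exact absurd hr (by decide)
      · exact ⟨fun h => absurd h h7, fun h => by omega⟩
  · -- Below π (n - a)
    exfalso
    obtain ⟨hmp, hB⟩ := hc
    have hF : ∃ r s : ℕ, r.Prime ∧ s.Prime ∧ r ∈ π ∧ s ∈ π ∧ r ≤ n ∧ s ≤ n ∧ r ≠ s := by
      by_contra hcon
      apply h2
      intro r s hr hs hrπ hsπ hrn hsn
      by_contra hne
      exact hcon ⟨r, s, hr, hs, hrπ, hsπ, hrn, hsn, hne⟩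
    obtain ⟨r, s, hr, hs, hrπ, hsπ, hrn, hsn, hne⟩ := hF
    have hrm : r < n - a := (hB r hr (hle r hr hrπ hrn)).mp hrπ
    have hsm : s < n - a := (hB s hs (hle s hs hsπ hsn)).mp hsπ
    have hr2 := hr.two_le
    have hs2 := hs.two_le
    have hm4 : 4 ≤ n - a := by omega
    have h2π : 2 ∈ π := (hB 2 Nat.prime_two (by omega)).mpr (by omega)
    rcases Nat.lt_or_ge a (n - a) with ham | ham
    · -- a < m
      have hn : n = a + (n - a) := by omega
      have hmnd : ¬ (n - a) ∣ n.choose a := by
        have := p8_not_dvd_choose hmp ham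
        rwa [← hn] at this
      have hno : ∀ l : ℕ, l.Prime → l ≤ n - a → ¬ l ∣ n.choose a := by
        intro l hl hla
        rcases Nat.lt_or_ge l (n - a) with h' | h'
        · exact hfree l hl ((hB l hl hla).mpr h')
        · have : l = n - a := le_antisymm hla h'
          rw [this]; exact hmnd
      rcases key hno with ⟨rfl, hnp⟩ | ⟨rfl, rfl⟩
      · -- n - 1 and n both prime, n - 1 ≥ 4
        rcases hmp.eq_two_or_odd with h' | h'
        · omega
        · rcases hnp.eq_two_or_odd with h'' | h''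
          · omega
          · omega
      · exact absurd hmp (by decide)
    · -- a = m
      have hn : n = 2 * a := by omega
      have h2d : 2 ∣ n.choose a := by
        rw [hn, ← Nat.centralBinom_eq_two_mul_choose]
        exact Nat.two_dvd_centralBinom_of_one_le ha1
      exact hfree 2 Nat.prime_two h2π h2d
  · -- TwoThree, m = 7 or 8
    exfalso
    have ham : a ≤ n - a := by omega
    rcases hm with hm | hm
    · have hn : n = a + 7 := by omega
      have h2π : 2 ∈ π := (hc 2 Nat.prime_two (by omega)).mpr (Or.inl rfl)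
      have h3π : 3 ∈ π := (hc 3 Nat.prime_three (by omega)).mpr (Or.inr rfl)
      have ha7 : a ≤ 7 := by omega
      subst hn
      have : 2 ∣ (a + 7).choose a ∨ 3 ∣ (a + 7).choose a := by
        interval_cases a <;> decide
      rcases this with h | h
      · exact hfree 2 Nat.prime_two h2π h
      · exact hfree 3 Nat.prime_three h3π h
    · have hn : n = a + 8 := by omega
      have h2π : 2 ∈ π := (hc 2 Nat.prime_two (by omega)).mpr (Or.inl rfl)
      have h3π : 3 ∈ π := (hc 3 Nat.prime_three (by omega)).mpr (Or.inr rfl)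
      have ha8 : a ≤ 8 := by omega
      subst hn
      have : 2 ∣ (a + 8).choose a ∨ 3 ∣ (a + 8).choose a := by
        interval_cases a <;> decide
      rcases this with h | h
      · exact hfree 2 Nat.prime_two h2π h
      · exact hfree 3 Nat.prime_three h3π h

end Cfsg.Agent.Lib.H18.HS
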