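import Mathlib

set_option autoImplicit false

/-!
Helper library (helper18): the Hamming graph on `ι → A` and its automorphism group
(`Sym(A) wr Sym(ι)` in product action): primitive when `|A| ≥ 3`, not 2-transitive when `|ι| ≥ 2`.
Also: the regular permutation representation of a group `Y` on a set `Ω` in bijection with `Y`.
-/

namespace Cfsg.Agent.Lib.H18.Ham

open MulAction
open scoped Pointwise

section Regular
variable {Y Ω : Type*} [Group Y] (Φ : Y ≃ Ω)

/-- Left regular representation of `Y`, transported to `Ω` along `Φ : Y ≃ Ω`. -/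
def regHom : Y →* Equiv.Perm Ω :=
  Φ.permCongrHom.toMonoidHom.comp (MulAction.toPermHom Y Y)

theorem regHom_apply (y : Y) (w : Ω) : regHom Φ y w = Φ (y * Φ.symm w) := rfl

theorem regHom_injective : Function.Injective (regHom Φ) := by
  intro y y' h
  have := congrArg (fun σ : Equiv.Perm Ω => σ (Φ 1)) h
  simp only [regHom_apply, Equiv.symm_apply_apply, mul_one] at this
  exact Φ.injective this

theorem regHom_range_isPretransitive : IsPretransitive ↥(regHom Φ).range Ω := by
  refine ⟨fun w w' => ?_⟩
  refine ⟨⟨regHom Φ (Φ.symm w' * (Φ.symm w)⁻¹), ⟨_, rfl⟩⟩, ?_⟩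
  change regHom Φ (Φ.symm w' * (Φ.symm w)⁻¹) w = w'
  rw [regHom_apply, inv_mul_cancel_right, Equiv.apply_symm_apply]

theorem regHom_range_stabilizer (w : Ω) : stabilizer ↥(regHom Φ).range w = ⊥ := by
  rw [eq_bot_iff]
  rintro ⟨σ, ⟨y, rfl⟩⟩ hfix
  have h1 : regHom Φ y w = w := hfix
  rw [regHom_apply] at h1
  have h2 : y * Φ.symm w = Φ.symm w := by
    apply Φ.injective
    rw [h1, Equiv.apply_symm_apply]
  have h3 : y = 1 := by
    have := mul_eq_right.1 h2
    exact this
  rw [Subgroup.mem_bot]
  apply Subtype.ext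
  change regHom Φ y = 1
  rw [h3, map_one]

/-- `Y ≃* range (regHom Φ)`. -/
noncomputable def regEquiv : ↥(regHom Φ).range ≃* Y :=
  (MonoidHom.ofInjective (regHom_injective Φ)).symm

end Regular

section Graph
variable {ι A : Type*}

/-- Two points of `ι → A` differ in at most one coordinate. -/
def Adj (x y : ι → A) : Prop := ∃ i, ∀ j, j ≠ i → x j = y j

variable (ι A) in
/-- Automorphisms of the (reflexive) Hamming graph. -/
def autAdj : Subgroup (Equiv.Perm (ι → A)) where
  carrier := {σ | ∀ x y, Adj (σ x) (σ y) ↔ Adj x y}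
  one_mem' := fun _ _ => Iff.rfl
  mul_mem' := fun {σ τ} hσ hτ x y => by
    change Adj (σ (τ x)) (σ (τ y)) ↔ _
    rw [hσ, hτ]
  inv_mem' := fun {σ} hσ x y => by
    have h := hσ (σ⁻¹ x) (σ⁻¹ y)
    have hx : σ (σ⁻¹ x) = x := σ.apply_symm_apply x
    have hy : σ (σ⁻¹ y) = y := σ.apply_symm_apply y
    rw [hx, hy] at h
    exact h.symm

theorem mem_autAdj {σ : Equiv.Perm (ι → A)} :
    σ ∈ autAdj ι A ↔ ∀ x y, Adj (σ x) (σ y) ↔ Adj x y := Iff.rfl

/-- Coordinatewise permutations. -/
def cw (π : ι → Equiv.Perm A) : Equiv.Perm (ι → A) := Equiv.piCongrRight π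

theorem cw_apply (π : ι → Equiv.Perm A) (x : ι → A) (i : ι) : cw π x i = π i (x i) := rfl

theorem cw_mem (π : ι → Equiv.Perm A) : cw π ∈ autAdj ι A := by
  intro x y
  constructor
  · rintro ⟨i, hi⟩
    exact ⟨i, fun j hj => (π j).injective (hi j hj)⟩
  · rintro ⟨i, hi⟩
    exact ⟨i, fun j hj => by rw [cw_apply, cw_apply, hi j hj]⟩

/-- Permutations of the coordinates. -/
def ri (τ : Equiv.Perm ι) : Equiv.Perm (ι → A) := Equiv.arrowCongr τ (Equiv.refl A)

theorem ri_apply (τ : Equiv.Perm ι) (x : ι → A) (i : ι) : ri τ x i = x (τ.symm i) := rfl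

theorem ri_mem (τ : Equiv.Perm ι) : ri (A := A) τ ∈ autAdj ι A := by
  intro x y
  constructor
  · rintro ⟨i, hi⟩
    refine ⟨τ.symm i, fun j hj => ?_⟩
    have h := hi (τ j) (fun h => hj (by rw [← h, Equiv.symm_apply_apply]))
    rwa [ri_apply, ri_apply, Equiv.symm_apply_apply] at h
  · rintro ⟨i, hi⟩
    refine ⟨τ i, fun j hj => ?_⟩
    rw [ri_apply, ri_apply]
    exact hi _ (fun h => hj (by rw [← h, Equiv.apply_symm_apply]))

theorem autAdj_isPretransitive [DecidableEq A] : IsPretransitive ↥(autAdj ι A) (ι → A) := by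
  refine ⟨fun x y => ⟨⟨cw (fun k => Equiv.swap (x k) (y k)), cw_mem _⟩, ?_⟩⟩
  funext k
  change cw (fun k => Equiv.swap (x k) (y k)) x k = y k
  rw [cw_apply, Equiv.swap_apply_left]

theorem exists_perm_two [DecidableEq A] (a b a' b' : A) (hab : a ≠ b) (hab' : a' ≠ b') :
    ∃ ρ : Equiv.Perm A, ρ a = a' ∧ ρ b = b' := by
  refine ⟨Equiv.swap (Equiv.swap a a' b) b' * Equiv.swap a a', ?_, ?_⟩
  · rw [Equiv.Perm.mul_apply, Equiv.swap_apply_left]
    apply Equiv.swap_apply_of_ne_of_ne
    · intro h
      have : Equiv.swap a a' a = Equiv.swap a a' b := by rw [Equiv.swap_apply_left]; exact h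
      exact hab ((Equiv.swap a a').injective this)
    · exact hab'
  · rw [Equiv.Perm.mul_apply, Equiv.swap_apply_left]

/-- Edge transitivity of the Hamming graph. -/
theorem exists_edge_map [DecidableEq ι] [DecidableEq A] (u x : ι → A) (i₀ i : ι) (z c : A)
    (hz : z ≠ u i₀) (hc : c ≠ x i) :
    ∃ g ∈ autAdj ι A, g u = x ∧ g (Function.update u i₀ z) = Function.update x i c := by
  obtain ⟨ρ, hρ1, hρ2⟩ := exists_perm_two (u i₀) z (x i) c hz.symm hc.symm
  let τ : Equiv.Perm ι := Equiv.swap i i₀
  have hτs : ∀ k, τ.symm k = τ k := fun k => by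
    change (Equiv.swap i i₀).symm k = _
    rw [Equiv.symm_swap]
  have hτi : τ i = i₀ := Equiv.swap_apply_left i i₀
  have hτk : ∀ k, k ≠ i → τ k ≠ i₀ := by
    intro k hk h
    apply hk
    have : τ k = τ i := by rw [h, hτi]
    exact τ.injective this
  let π : ι → Equiv.Perm A := fun k => if k = i then ρ else Equiv.swap (u (τ k)) (x k)
  refine ⟨cw π * ri τ, mul_mem (cw_mem π) (ri_mem τ), ?_, ?_⟩
  · funext k
    change cw π (ri τ u) k = x k
    rw [cw_apply, ri_apply, hτs]
    by_cases hk : k = i
    · subst hk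
      simp only [π, if_true]
      rw [hτi, hρ1]
    · simp only [π, if_neg hk]
      rw [Equiv.swap_apply_left]
  · funext k
    change cw π (ri τ (Function.update u i₀ z)) k = Function.update x i c k
    rw [cw_apply, ri_apply, hτs]
    by_cases hk : k = i
    · subst hk
      simp only [π, if_true]
      rw [hτi, Function.update_self, Function.update_self, hρ2]
    · simp only [π, if_neg hk]
      rw [Function.update_of_ne (hτk k hk), Function.update_of_ne hk, Equiv.swap_apply_left]

theorem exists_ne_ne (h3 : ∃ a b c : A, a ≠ b ∧ a ≠ c ∧ b ≠ c) (p q : A) :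
    ∃ z, z ≠ p ∧ z ≠ q := by
  obtain ⟨a, b, c, hab, hac, hbc⟩ := h3
  by_contra hcon
  push Not at hcon
  have ha := hcon a
  have hb := hcon b
  have hc := hcon c
  by_cases h1 : a = p
  · by_cases h2 : b = p
    · exact hab (h1.trans h2.symm)
    · have hbq := hb h2
      by_cases h3 : c = p
      · exact hac (h1.trans h3.symm)
      · exact hbc (hbq.trans (hc h3).symm)
  · have haq := ha h1
    by_cases h2 : b = p
    · by_cases h3 : c = p
      · exact hbc (h2.trans h3.symm)
      · exact hac (haq.trans (hc h3).symm)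
    · exact hab (haq.trans (hb h2).symm)

theorem mem_of_block {B : Set (ι → A)} (hB : IsBlock ↥(autAdj ι A) B) (g : Equiv.Perm (ι → A))
    (hg : g ∈ autAdj ι A) {a b : ι → A} (ha : a ∈ B) (hga : g a ∈ B) (hb : b ∈ B) : g b ∈ B := by
  have h := (isBlock_iff_smul_eq_of_mem.1 hB) (g := ⟨g, hg⟩) (a := a) ha hga
  have : (⟨g, hg⟩ : ↥(autAdj ι A)) • b ∈ (⟨g, hg⟩ : ↥(autAdj ι A)) • B := Set.smul_mem_smul_set hb
  rw [h] at this
  exact this

theorem block_eq_univ [Finite ι] (h3 : ∃ a b c : A, a ≠ b ∧ a ≠ c ∧ b ≠ c) (B : Set (ι → A))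
    (hB : IsBlock ↥(autAdj ι A) B) (hns : ¬ B.Subsingleton) : B = Set.univ := by
  classical
  have := Fintype.ofFinite ι
  rw [Set.not_subsingleton_iff] at hns
  obtain ⟨x, hx, y, hy, hxy⟩ := hns
  obtain ⟨i₀, hi₀⟩ := Function.ne_iff.1 hxy
  obtain ⟨z, hzx, hzy⟩ := exists_ne_ne h3 (x i₀) (y i₀)
  -- an edge inside `B`
  have hedge : Function.update y i₀ z ∈ B := by
    let π : ι → Equiv.Perm A := fun k => if k = i₀ then Equiv.swap (y i₀) z else 1
    have h1 : cw π x = x := by
      funext k
      rw [cw_apply]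
      by_cases hk : k = i₀
      · subst hk
        simp only [π, if_true]
        exact Equiv.swap_apply_of_ne_of_ne hi₀ hzx.symm
      · simp only [π, if_neg hk, Equiv.Perm.one_apply]
    have h2 : cw π y = Function.update y i₀ z := by
      funext k
      rw [cw_apply]
      by_cases hk : k = i₀
      · subst hk
        simp only [π, if_true]
        rw [Equiv.swap_apply_left, Function.update_self]
      · simp only [π, if_neg hk, Equiv.Perm.one_apply]
        rw [Function.update_of_ne hk]
    have := mem_of_block hB (cw π) (cw_mem π) hx (by rw [h1]; exact hx) hy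
    rwa [h2] at this
  -- `B` is closed under changing one coordinate
  have hstep : ∀ w ∈ B, ∀ (i : ι) (c : A), Function.update w i c ∈ B := by
    intro w hw i c
    by_cases hc : c = w i
    · rw [hc, Function.update_eq_self]
      exact hw
    · obtain ⟨g, hg, hg1, hg2⟩ := exists_edge_map y w i₀ i z c hzy hc
      have := mem_of_block hB g hg hy (by rw [hg1]; exact hw) hedge
      rwa [hg2] at this
  have hind : ∀ s : Finset ι, ∀ w : ι → A, (∀ i, i ∉ s → w i = x i) → w ∈ B := by
    intro s
    induction s using Finset.induction_on with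
    | empty =>
      intro w hw
      have : w = x := funext fun i => hw i (Finset.notMem_empty i)
      rw [this]
      exact hx
    | insert j s _ ih =>
      intro w hw
      have h0 : Function.update w j (x j) ∈ B := by
        apply ih
        intro i hi
        by_cases hij : i = j
        · subst hij
          rw [Function.update_self]
        · rw [Function.update_of_ne hij]
          exact hw i (by
            intro hmem
            rcases Finset.mem_insert.1 hmem with h | h
            · exact hij h
            · exact hi h)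
      have := hstep _ h0 j (w j)
      rwa [Function.update_idem, Function.update_eq_self] at this
  apply Set.eq_univ_of_forall
  intro w
  exact hind Finset.univ w (fun i hi => absurd (Finset.mem_univ i) hi)

theorem autAdj_isPreprimitive [Finite ι] (h3 : ∃ a b c : A, a ≠ b ∧ a ≠ c ∧ b ≠ c) :
    IsPreprimitive ↥(autAdj ι A) (ι → A) := by
  classical
  have := autAdj_isPretransitive (ι := ι) (A := A)
  refine IsPreprimitive.mk ?_
  intro B hB
  by_cases hs : B.Subsingleton
  · exact Or.inl hs
  · exact Or.inr (block_eq_univ h3 B hB hs)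

theorem autAdj_not_two_pretransitive {i j : ι} (hij : i ≠ j) {a b : A} (hab : a ≠ b) :
    ¬ IsMultiplyPretransitive ↥(autAdj ι A) (ι → A) 2 := by
  classical
  intro h
  rw [is_two_pretransitive_iff] at h
  let x : ι → A := fun _ => a
  let u : ι → A := Function.update x i b
  let v : ι → A := Function.update u j b
  have hxu : x ≠ u := by
    intro hh
    have := congrFun hh i
    simp only [u, Function.update_self, x] at this
    exact hab this
  have hvi : v i = b := by
    simp only [v, u]
    rw [Function.update_of_ne hij, Function.update_self]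
  have hvj : v j = b := by
    simp only [v]
    rw [Function.update_self]
  have hxv : x ≠ v := by
    intro hh
    have := congrFun hh i
    rw [hvi] at this
    exact hab this
  obtain ⟨⟨g, hg⟩, hg1, hg2⟩ := h (a := x) (b := u) (c := x) (d := v) hxu hxv
  have hg1' : g x = x := hg1
  have hg2' : g u = v := hg2
  have hadj : Adj x u := ⟨i, fun k hk => by
    simp only [u]
    rw [Function.update_of_ne hk]⟩
  have hadj' : Adj x v := by
    have := (hg x u).2 hadj
    rwa [hg1', hg2'] at this
  obtain ⟨k₀, hk₀⟩ := hadj'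
  by_cases hik : i = k₀
  · have hjk : j ≠ k₀ := fun h => hij (hik.trans h.symm)
    have := hk₀ j hjk
    rw [hvj] at this
    exact hab this
  · have := hk₀ i hik
    rw [hvi] at this
    exact hab this

/-- Left translations of `∀ i, F i`, transported along coordinatewise bijections, are
graph automorphisms. -/
theorem regHom_range_le {F : ι → Type*} [∀ i, Group (F i)] (φ : ∀ i, F i ≃ A) :
    (regHom (Equiv.piCongrRight φ)).range ≤ autAdj ι A := by
  rintro σ ⟨y, rfl⟩
  have : regHom (Equiv.piCongrRight φ) y =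
      cw (fun k => (φ k).symm.trans ((Equiv.mulLeft (y k)).trans (φ k))) := by
    ext w k
    rfl
  rw [this]
  exact cw_mem _

end Graph

end Cfsg.Agent.Lib.H18.Ham
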