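import Cfsg.Agent.Lib.H18.LeonardMain
import Cfsg.Agent.Lib.H24.PGalConj1
import Cfsg.Agent.Lib.H7.NoE8c
import Cfsg.Agent.Lib.H7.DihedralLemma2
import Cfsg.Agent.Lib.H23.ExtGeneral
import Cfsg.Agent.Lib.H23.DegreeDvd
import Cfsg.Agent.Lib.H9.PPrimeCore
import Cfsg.Agent.Lib.H10.PSolvable
import Cfsg.Agent.Lib.H10.PSolvable2

/-!
# Ito's theorem on `p`-solvable linear groups of degree `≤ p - 1` (helper18)

`Ito.main`: `G` finite `p`-solvable, `χ` a faithful character of degree `n ≤ p - 1`, a Sylow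
`p`-subgroup not normal.  Then `n = p - 1` is a power of `2` and `χ` is irreducible.
Minimal counterexample: `G = K P` with `K = O_{p'}(G)` a `q`-group (`exists_config`), then
Clifford theory, the centre `Z(φ)` of a `P`-invariant constituent `φ` of `χ_K` and orbit
counting `|K| ≡ |C_K(P)| (mod p)` (`config_ito`).
-/

set_option autoImplicit false

namespace Cfsg.Agent.Lib.H18.Ito

open Cfsg Cfsg.Agent.Lib.L0 Cfsg.Agent.Lib.H24 Cfsg.Agent.Lib.H24.Glaub
  Cfsg.Agent.Lib.H18.Leonard
open scoped ComplexConjugate commutatorElement Pointwise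

universe u

/-- a character with an irreducible constituent of the same degree equals it. -/
theorem eq_of_constituent_of_degree_eq {H : Type*} [Group H] [Fintype H] (θ : H → ℂ)
    (hθ : IsCharacter H θ) (η : IrrCharacter H) (hη : classInner θ (η : H → ℂ) ≠ 0)
    (hdeg : (η : H → ℂ) 1 = θ 1) : θ = (η : H → ℂ) := by
  classical
  have := Fintype.ofFinite (IrrCharacter H)
  obtain ⟨m, hm, hsum⟩ := Cfsg.Agent.Lib.H8.char_one_eq_sum θ hθ
  have hpos : ∀ χ : IrrCharacter H, 0 < charDegree (χ : H → ℂ) := by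
    intro χ
    obtain ⟨d, hd0, hd⟩ := irr_one_eq χ
    rw [Cfsg.Agent.Lib.H23.charDegree_eq_of_apply_one hd]
    exact hd0
  set n := charDegree (η : H → ℂ) with hn
  have hn' : n = ∑ χ : IrrCharacter H, m χ * charDegree (χ : H → ℂ) := by
    have h1 : (n : ℂ) = ((∑ χ : IrrCharacter H, m χ * charDegree (χ : H → ℂ) : ℕ) : ℂ) := by
      rw [← hsum, ← hdeg]
      exact (Cfsg.Agent.Lib.H23.apply_one_eq_charDegree _ η.2).symm
    exact_mod_cast h1
  have hmη : 1 ≤ m η := by
    by_contra h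
    have h0 : m η = 0 := by omega
    apply hη
    rw [hm, h0]
    simp
  have hnpos : 0 < n := hpos η
  have hothers : ∀ χ : IrrCharacter H, χ ≠ η → m χ = 0 := by
    intro χ hχ
    by_contra h
    have h1 : 1 ≤ m χ := by omega
    have h2 : m η * n + m χ * charDegree (χ : H → ℂ) ≤
        ∑ χ : IrrCharacter H, m χ * charDegree (χ : H → ℂ) := by
      rw [← Finset.sum_pair (f := fun χ : IrrCharacter H => m χ * charDegree (χ : H → ℂ))
        hχ.symm]
      exact Finset.sum_le_sum_of_subset (Finset.subset_univ _)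
    have h3 := hpos χ
    have h4 : n ≤ m η * n := Nat.le_mul_of_pos_left n hmη
    have h5 : 1 ≤ m χ * charDegree (χ : H → ℂ) := Nat.mul_pos h1 h3
    omega
  have hsum1 : ∑ χ : IrrCharacter H, m χ * charDegree (χ : H → ℂ) = m η * n := by
    rw [Finset.sum_eq_single η]
    · intro b _ hb
      rw [hothers b hb, zero_mul]
    · intro h
      exact absurd (Finset.mem_univ η) h
  have hmη1 : m η = 1 := by
    rw [hsum1] at hn'
    have : m η * n = 1 * n := by omega
    exact Nat.eq_of_mul_eq_mul_right hnpos this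
  have hexp := classFunction_expansion θ (isClassFunction_of_isCharacter hθ)
  rw [hexp, Finset.sum_eq_single η]
  · rw [hm, hmη1]
    simp
  · intro b _ hb
    rw [hm, hothers b hb]
    simp
  · intro h
    exact absurd (Finset.mem_univ η) h

/-- the minimal configuration in Ito's theorem. -/
theorem config_ito {G : Type u} [Group G] [Fintype G] (p q : ℕ) [hp : Fact p.Prime]
    [hq : Fact q.Prime] (K P : Subgroup G) [hKn : K.Normal] [Fintype K]
    (hP : IsPGroup p P) (hK : IsPGroup q K) (hpq : p ≠ q)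
    (hmin : ∀ Y : Subgroup G, Y ≤ K → P ≤ Subgroup.normalizer (Y : Set G) → Y ≠ K →
      Y ≤ Subgroup.centralizer (P : Set G))
    (hnc : ¬ K ≤ Subgroup.centralizer (P : Set G))
    (χ : G → ℂ) (hχ : IsCharacter G χ) (k : G) (hkK : k ∈ K) (hk : χ k ≠ χ 1)
    (n : ℕ) (hn : χ 1 = n) (hnp : n + 1 ≤ p) :
    n + 1 = p ∧ (∃ a : ℕ, n = 2 ^ a) ∧ IsIrrCharacter G χ := by
  classical
  have hPKn : ∀ x ∈ P, ∀ g ∈ K, x * g * x⁻¹ ∈ K := fun x _ g hg => hKn.conj_mem g hg x
  have hPK : P ≤ Subgroup.normalizer (K : Set G) := le_normalizer_of_normal K P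
  have hχK : IsCharacter K (fun g : K => χ g) := isCharacter_restrict K hχ
  obtain ⟨φ, hφ, hφk⟩ := exists_constituent_ne (fun g : K => χ g) hχK ⟨k, hkK⟩ hk
  obtain ⟨d, hd0, hd⟩ := irr_one_eq φ
  have hineq := card_mul_degree_le K P hPKn χ hχ φ hφ n d hn hd
  letI : MulAction P (IrrCharacter K) := irrAct K P hPKn
  set Stab : Subgroup ↥P := MulAction.stabilizer P φ with hStab
  -- the stabiliser is everything
  have hStabtop : Stab = ⊤ := by
    by_contra hne
    have hdvd : Nat.card Stab ∣ Nat.card P := Subgroup.card_subgroup_dvd_card Stab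
    obtain ⟨a, ha⟩ := hP.exists_card_eq
    have hlt : Nat.card Stab < Nat.card P :=
      lt_of_le_of_ne (Subgroup.card_le_card_group Stab)
        (fun h => hne (Subgroup.eq_top_of_card_eq Stab h))
    rw [ha] at hdvd
    obtain ⟨b, hb, hbeq⟩ := (Nat.dvd_prime_pow hp.out).mp hdvd
    have hba : b < a := by
      rcases Nat.lt_or_ge b a with h | h
      · exact h
      · exfalso
        have : b = a := le_antisymm hb h
        rw [hbeq, ha, this] at hlt
        exact lt_irrefl _ hlt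
    have h0 : Nat.card Stab * p ≤ Nat.card P := by
      rw [ha, hbeq, ← pow_succ]
      exact Nat.pow_le_pow_right hp.out.pos hba
    have hSpos : 0 < Nat.card Stab := Nat.card_pos
    have h1 : Nat.card Stab * p ≤ n * Nat.card Stab :=
      (h0.trans (Nat.le_mul_of_pos_right _ hd0)).trans hineq
    have h2 : n * Nat.card Stab < p * Nat.card Stab :=
      Nat.mul_lt_mul_of_pos_right (by omega) hSpos
    rw [mul_comm] at h1
    exact absurd h1 (not_le.mpr h2)
  have hinv : ∀ s ∈ P, ∀ g g' : K, (g' : G) = s * g * s⁻¹ →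
      (φ : K → ℂ) g' = (φ : K → ℂ) g := by
    intro s hs g g' hgg
    have hsS : (⟨s, hs⟩ : P) ∈ Stab := by rw [hStabtop]; trivial
    have h1 : (⟨s, hs⟩ : P) • φ = φ := MulAction.mem_stabilizer_iff.mp hsS
    have h2 := congrFun (congrArg Subtype.val h1) g'
    have h3 := irrAct_smul_apply K P hPKn ⟨s, hs⟩ φ g'
    rw [← h2]
    refine h3.trans ?_
    apply congrArg
    apply Subtype.ext
    show s⁻¹ * (g' : G) * (s⁻¹)⁻¹ = (g : G)
    rw [hgg]
    group
  have hdn : d ≤ n := by
    rw [hStabtop, Subgroup.card_top, mul_comm n] at hineq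
    exact Nat.le_of_mul_le_mul_left hineq Nat.card_pos
  have hcomm := commutator_eq_self p q K P hP hK hpq hmin hnc
  -- φ is not linear
  have hd1 : d ≠ 1 := by
    intro h1
    rw [h1, Nat.cast_one] at hd
    have hmul := linear_char_mul (isCharacter_of_irr φ.2) hd
    let L : Subgroup G :=
      { carrier := {g | ∃ h : g ∈ K, (φ : K → ℂ) ⟨g, h⟩ = 1}
        one_mem' := ⟨K.one_mem, hd⟩
        mul_mem' := by
          rintro a b ⟨ha, ha'⟩ ⟨hb, hb'⟩
          refine ⟨K.mul_mem ha hb, ?_⟩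
          have := hmul ⟨a, ha⟩ ⟨b, hb⟩
          rw [ha', hb', mul_one] at this
          exact this
        inv_mem' := by
          rintro a ⟨ha, ha'⟩
          refine ⟨K.inv_mem ha, ?_⟩
          have := hmul ⟨a⁻¹, K.inv_mem ha⟩ ⟨a, ha⟩
          have h2 : (⟨a⁻¹, K.inv_mem ha⟩ : K) * ⟨a, ha⟩ = 1 := by
            apply Subtype.ext; simp
          rw [h2, hd, ha', mul_one] at this
          exact this.symm }
    have hle : ⁅K, P⁆ ≤ L := by
      rw [Subgroup.commutator_le]
      intro a ha b hb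
      have hbK : b * a⁻¹ * b⁻¹ ∈ K := hKn.conj_mem _ (K.inv_mem ha) b
      have hab : ⁅a, b⁆ = a * (b * a⁻¹ * b⁻¹) := by rw [commutatorElement_def]; group
      have habK : ⁅a, b⁆ ∈ K := by rw [hab]; exact K.mul_mem ha hbK
      refine ⟨habK, ?_⟩
      have h3 : (⟨⁅a, b⁆, habK⟩ : K) = ⟨a, ha⟩ * ⟨b * a⁻¹ * b⁻¹, hbK⟩ :=
        Subtype.ext hab
      rw [h3, hmul]
      have h4 : (φ : K → ℂ) ⟨b * a⁻¹ * b⁻¹, hbK⟩ = (φ : K → ℂ) ⟨a⁻¹, K.inv_mem ha⟩ :=
        hinv b hb ⟨a⁻¹, K.inv_mem ha⟩ ⟨b * a⁻¹ * b⁻¹, hbK⟩ rfl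
      rw [h4, ← hmul]
      have h5 : (⟨a, ha⟩ : K) * ⟨a⁻¹, K.inv_mem ha⟩ = 1 := by
        apply Subtype.ext; simp
      rw [h5, hd]
    rw [hcomm] at hle
    obtain ⟨hk', hk''⟩ := hle hkK
    apply hφk
    rw [hd]
    exact hk''
  have hd2 : 2 ≤ d := by omega
  have hdeg : charDegree (φ : K → ℂ) = d := Cfsg.Agent.Lib.H23.charDegree_eq_of_apply_one hd
  -- the centre of φ
  set Z : Subgroup ↥K := PGalConj.Zc φ with hZ
  set Y : Subgroup G := Z.map K.subtype with hY
  have hYK : Y ≤ K := Subgroup.map_subtype_le Z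
  have hPY : P ≤ Subgroup.normalizer (Y : Set G) := by
    apply Cfsg.Agent.Lib.H7.le_normalizer_of_conj_mem
    rintro s hs y ⟨z, hz, rfl⟩
    have hzK : s * (z : G) * s⁻¹ ∈ K := hKn.conj_mem _ z.2 s
    refine ⟨⟨s * (z : G) * s⁻¹, hzK⟩, ?_, rfl⟩
    show (⟨s * (z : G) * s⁻¹, hzK⟩ : K) ∈ PGalConj.Zc φ
    rw [PGalConj.mem_Zc]
    intro g
    have hgK : s⁻¹ * (g : G) * s ∈ K := by
      have := hKn.conj_mem _ g.2 s⁻¹
      simpa using this
    have h1 := PGalConj.mem_Zc.mp hz ⟨s⁻¹ * (g : G) * s, hgK⟩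
    rw [← h1]
    apply hinv s hs
    show (s * (z : G) * s⁻¹) * (g : G) * (s * (z : G) * s⁻¹)⁻¹ * (g : G)⁻¹ =
      s * ((z : G) * (s⁻¹ * (g : G) * s) * (z : G)⁻¹ * (s⁻¹ * (g : G) * s)⁻¹) * s⁻¹
    group
  have hYne : Y ≠ K := by
    intro hYK'
    have hZtop : Z = ⊤ := by
      rw [eq_top_iff]
      intro g _
      have : (g : G) ∈ Y := by rw [hYK']; exact g.2
      obtain ⟨z, hz, hzg⟩ := this
      have : z = g := Subtype.ext hzg
      rw [← this]; exact hz
    have h1 := PGalConj.sq_mul_card_Zc φ (fun g hg => absurd (by rw [← hZ, hZtop]; trivial) hg)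
    rw [← hZ, hZtop, Subgroup.card_top, hdeg] at h1
    have hKpos : 0 < Nat.card K := Nat.card_pos
    have : d ^ 2 = 1 := Nat.eq_of_mul_eq_mul_right hKpos (by rw [h1, one_mul])
    nlinarith
  have hYC : Y ≤ Subgroup.centralizer (P : Set G) := hmin Y hYK hPY hYne
  have hK1 : K ≠ ⊥ := by
    intro h
    apply hnc
    rw [h]; exact bot_le
  -- K' is centralised by P, hence central
  have hK'C : ⁅K, K⁆ ≤ Subgroup.centralizer (P : Set G) := by
    apply hmin _ (Subgroup.commutator_le_left K K) (le_normalizer_commutator hPK hPK)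
    apply Cfsg.Agent.Lib.H7.commutator_ne_self_of_isPGroup q hK hK _ hK1
    rw [Subgroup.normalizer_eq_top]; exact le_top
  have hcentral := fixed_central p q K P hP hK hpq hmin hnc
  have hCZ : ∀ c : G, ∀ hc : c ∈ K ⊓ Subgroup.centralizer (P : Set G),
      (⟨c, hc.1⟩ : K) ∈ Z := by
    intro c hc
    apply PGalConj.center_le_relCenter
    rw [Subgroup.mem_center_iff]
    intro g
    apply Subtype.ext
    show (g : G) * c = c * (g : G)
    exact (hcentral c hc g g.2).symm
  have hcommZ : commutator ↥K ≤ Z := by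
    rw [commutator_def, Subgroup.commutator_le]
    intro a _ b _
    have h1 : ⁅(a : G), (b : G)⁆ ∈ ⁅K, K⁆ := Subgroup.commutator_mem_commutator a.2 b.2
    have h2 : ⁅(a : G), (b : G)⁆ ∈ K ⊓ Subgroup.centralizer (P : Set G) :=
      ⟨Subgroup.commutator_le_left K K h1, hK'C h1⟩
    have h3 := hCZ _ h2
    have h4 : (⟨⁅(a : G), (b : G)⁆, h2.1⟩ : K) = ⁅a, b⁆ := by
      apply Subtype.ext
      simp [commutatorElement_def]
    rw [← h4]; exact h3
  have hvan := PGalConj.vanish_off_Zc φ hcommZ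
  have hsq := PGalConj.sq_mul_card_Zc φ hvan
  rw [hdeg] at hsq
  -- Y = C_K(P)
  have hYeq : Y = K ⊓ Subgroup.centralizer (P : Set G) := by
    apply le_antisymm (le_inf hYK hYC)
    intro c hc
    exact ⟨⟨c, hc.1⟩, hCZ c hc, rfl⟩
  have hcardZ : Nat.card Z = Nat.card ↥(K ⊓ Subgroup.centralizer (P : Set G)) := by
    rw [← hYeq, hY]
    exact (Subgroup.card_map_of_injective K.subtype_injective).symm
  rw [← hZ, hcardZ] at hsq
  -- orbit counting
  have hmod := Cfsg.Agent.Lib.H7.NoE8.card_modEq_of_pGroup hP hPK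
  set c := Nat.card ↥(K ⊓ Subgroup.centralizer (P : Set G)) with hc
  have hcK : c ∣ Nat.card K := Subgroup.card_dvd_of_le inf_le_left
  obtain ⟨b, hb⟩ := hK.exists_card_eq
  have hcq : c.Coprime p := by
    have h1 : (Nat.card K).Coprime p := by
      rw [hb]
      exact Nat.Coprime.pow_left _ ((Nat.coprime_primes hq.out hp.out).mpr (Ne.symm hpq))
    exact Nat.Coprime.coprime_dvd_left hcK h1
  have hpd : p ∣ d ^ 2 - 1 := by
    rw [← hsq] at hmod
    -- d² c ≡ c mod p
    have h1 : d ^ 2 * c ≡ 1 * c [MOD p] := by rw [one_mul]; exact hmod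
    have h2 : d ^ 2 ≡ 1 [MOD p] := Nat.ModEq.cancel_right_of_coprime hcq.symm h1
    exact (Nat.modEq_iff_dvd' (by nlinarith)).mp h2.symm
  have hpd2 : p ≤ d + 1 := by
    have h1 : d ^ 2 - 1 = (d - 1) * (d + 1) := by
      have : d ^ 2 = (d - 1) * (d + 1) + 1 := by
        obtain ⟨e, rfl⟩ : ∃ e, d = e + 1 := ⟨d - 1, by omega⟩
        simp; ring
      omega
    rw [h1] at hpd
    rcases (Nat.Prime.dvd_mul hp.out).mp hpd with h | h
    · have := Nat.le_of_dvd (by omega) h
      omega
    · exact Nat.le_of_dvd (by omega) h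
  have hdn' : d = n := by omega
  have hnp' : n + 1 = p := by omega
  -- d is a power of q
  have hdK : d ∣ Nat.card K := by
    have := Cfsg.Agent.Lib.H23.charDegree_dvd_card (φ : K → ℂ) φ.2
    rwa [hdeg] at this
  rw [hb] at hdK
  obtain ⟨a, _, ha⟩ := (Nat.dvd_prime_pow hq.out).mp hdK
  have hq2 : q = 2 := by
    by_contra hq2
    have hqodd : Odd q := hq.out.odd_of_ne_two hq2
    have hdodd : Odd d := by rw [ha]; exact hqodd.pow
    have hpeven : Even p := by
      rw [← hnp', ← hdn']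
      exact hdodd.add_one
    have : p = 2 := (Nat.Prime.even_iff hp.out).mp hpeven
    omega
  refine ⟨hnp', ⟨a, by rw [← hdn', ha, hq2]⟩, ?_⟩
  -- irreducibility
  have hres : (fun g : K => χ g) = (φ : K → ℂ) := by
    apply eq_of_constituent_of_degree_eq _ hχK φ hφ
    rw [hd]
    show (d : ℂ) = χ ((1 : K) : G)
    rw [Subgroup.coe_one, hn, hdn']
  apply Cfsg.Agent.Lib.H23.isIrrCharacter_of_restrict_irr K hχ
  rw [hres]
  exact φ.2

/-- a `p`-subgroup of a group with a faithful character of degree `< p` is abelian. -/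
theorem abelian_of_faithful_small {G : Type*} [Group G] [Finite G] (p : ℕ) [hp : Fact p.Prime]
    (P : Subgroup G) (hP : IsPGroup p P) (χ : G → ℂ) (hχ : IsCharacter G χ)
    (hfaith : ∀ g : G, χ g = χ 1 → g = 1) (n : ℕ) (hn : χ 1 = n) (hnp : n < p) :
    ∀ x ∈ P, ∀ y ∈ P, x * y = y * x := by
  classical
  have := Fintype.ofFinite G
  have := Fintype.ofFinite P
  have := Fintype.ofFinite (IrrCharacter P)
  have hχP : IsCharacter P (fun g : P => χ g) := isCharacter_restrict P hχ
  obtain ⟨m, hm, hsum⟩ := Cfsg.Agent.Lib.H8.char_one_eq_sum (fun g : P => χ g) hχP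
  have hn' : n = ∑ η : IrrCharacter P, m η * charDegree (η : P → ℂ) := by
    have h1 : (n : ℂ) = ((∑ η : IrrCharacter P, m η * charDegree (η : P → ℂ) : ℕ) : ℂ) := by
      rw [← hsum, ← hn]
      rfl
    exact_mod_cast h1
  have hlin : ∀ η : IrrCharacter P, m η ≠ 0 → charDegree (η : P → ℂ) = 1 := by
    intro η hη
    have hle : charDegree (η : P → ℂ) ≤ n := by
      rw [hn']
      calc charDegree (η : P → ℂ) ≤ m η * charDegree (η : P → ℂ) :=
            Nat.le_mul_of_pos_left _ (Nat.pos_of_ne_zero hη)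
        _ ≤ ∑ η : IrrCharacter P, m η * charDegree (η : P → ℂ) :=
            Finset.single_le_sum (f := fun η : IrrCharacter P => m η * charDegree (η : P → ℂ))
              (fun _ _ => Nat.zero_le _) (Finset.mem_univ η)
    have hdvd := Cfsg.Agent.Lib.H23.charDegree_dvd_card (η : P → ℂ) η.2
    obtain ⟨a, ha⟩ := hP.exists_card_eq
    rw [ha] at hdvd
    obtain ⟨j, _, hj⟩ := (Nat.dvd_prime_pow hp.out).mp hdvd
    rcases Nat.eq_zero_or_pos j with h0 | h0
    · rw [hj, h0, pow_zero]
    · exfalso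
      have : p ≤ p ^ j := Nat.le_self_pow h0.ne' p
      omega
  intro x hx y hy
  set c : P := ⁅(⟨x, hx⟩ : P), ⟨y, hy⟩⁆ with hc
  have hcc : c ∈ commutator P :=
    Subgroup.commutator_mem_commutator (Subgroup.mem_top _) (Subgroup.mem_top _)
  have hexp := classFunction_expansion (fun g : P => χ g) (isClassFunction_of_isCharacter hχP)
  have h1 : χ (c : G) = χ 1 := by
    have e1 := congrFun hexp c
    have e2 := congrFun hexp 1
    rw [Finset.sum_apply] at e1 e2
    have e1' : χ (c : G) = ∑ η : IrrCharacter P,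
        (classInner (fun g : P => χ g) (η : P → ℂ) • (η : P → ℂ)) c := e1
    have e2' : χ 1 = ∑ η : IrrCharacter P,
        (classInner (fun g : P => χ g) (η : P → ℂ) • (η : P → ℂ)) 1 := e2
    rw [e1', e2']
    refine Finset.sum_congr rfl fun η _ => ?_
    simp only [Pi.smul_apply, smul_eq_mul]
    by_cases h : m η = 0
    · rw [hm, h]; simp
    · have h2 := PGalConj.commutator_le_ker_of_linear η (hlin η h) hcc
      rw [PGalConj.mem_ker] at h2
      rw [h2]
  have h2 := hfaith _ h1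
  have h3 : (c : G) = x * y * x⁻¹ * y⁻¹ := by
    rw [hc]
    simp [commutatorElement_def]
  rw [h3] at h2
  have := congrArg (fun t => t * y * x) h2
  simpa [mul_assoc] using this

/-- group-theoretic reduction: a `p`-solvable group with an abelian non-normal Sylow
`p`-subgroup `P`, normal in every proper overgroup, is `K P` with `K` a normal `q`-group
in the minimal configuration. -/
theorem exists_config {G : Type u} [Group G] [Finite G] (p : ℕ) [hp : Fact p.Prime]
    (hsolv : IsPSolvable p G) (S : Sylow p G)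
    (hab : ∀ x ∈ (S : Subgroup G), ∀ y ∈ (S : Subgroup G), x * y = y * x)
    (IH' : ∀ H : Subgroup G, (S : Subgroup G) ≤ H → H ≠ ⊤ →
      H ≤ Subgroup.normalizer ((S : Subgroup G) : Set G))
    (hnn : ¬ (S : Subgroup G).Normal) :
    ∃ (q : ℕ) (K : Subgroup G), q.Prime ∧ p ≠ q ∧ K.Normal ∧ IsPGroup q K ∧
      (∀ Y : Subgroup G, Y ≤ K → (S : Subgroup G) ≤ Subgroup.normalizer (Y : Set G) → Y ≠ K →
        Y ≤ Subgroup.centralizer ((S : Subgroup G) : Set G)) ∧
      ¬ K ≤ Subgroup.centralizer ((S : Subgroup G) : Set G) := by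
  set P : Subgroup G := (S : Subgroup G) with hPdef
  have hPp : IsPGroup p P := S.isPGroup'
  set K := Cfsg.pPrimeCore p G with hKdef
  have hKn : K.Normal := Cfsg.Agent.Lib.H22.pPrimeCore_normal p
  have hKcop : (Nat.card K).Coprime p := Cfsg.Agent.Lib.H22.card_pPrimeCore_coprime p
  have hcopPK : (Nat.card P).Coprime (Nat.card K) := by
    obtain ⟨e, he⟩ := IsPGroup.iff_card.mp hPp
    rw [he]
    exact (Nat.Coprime.pow_right e hKcop).symm
  have hKP : K ⊓ P = ⊥ := (Subgroup.disjoint_of_coprime_natCard hcopPK.symm).eq_bot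
  have hPNK : P ≤ Subgroup.normalizer (K : Set G) := by
    rw [Subgroup.normalizer_eq_top_iff.mpr hKn]; exact le_top
  -- `K P` is normal
  have hKPtop : K ⊔ P = ⊤ := by
    have hsurj := QuotientGroup.mk'_surjective K
    set π := QuotientGroup.mk' K with hπ
    set Sb : Sylow p (G ⧸ K) := S.mapSurjective hsurj with hSb
    have hSbcoe : (Sb : Subgroup (G ⧸ K)) = P.map π := rfl
    have hO : Cfsg.pPrimeCore p (G ⧸ K) = ⊥ := Cfsg.Agent.Lib.H9.pPrimeCore_quotient_eq_bot p
    have hsolv' : IsPSolvable p (G ⧸ K) := Cfsg.Agent.Lib.H10.isPSolvable_quotient hsolv K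
    have hC := Cfsg.Agent.Lib.H10.centralizer_pCore_le_of_isPSolvable p hsolv' hO
    have hOle : Cfsg.pCore p (G ⧸ K) ≤ P.map π := by
      rw [← hSbcoe]; exact Cfsg.Agent.Lib.H1.pCore_le_sylow Sb
    have hSbab : ∀ a ∈ P.map π, ∀ b ∈ P.map π, a * b = b * a := by
      rintro a ⟨x, hx, rfl⟩ b ⟨y, hy, rfl⟩
      rw [← map_mul, ← map_mul, hab x hx y hy]
    have hle : P.map π ≤ Cfsg.pCore p (G ⧸ K) := by
      refine le_trans ?_ hC
      intro a ha
      rw [Subgroup.mem_centralizer_iff]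
      intro b hb
      exact hSbab b (hOle hb) a ha
    have heq : P.map π = Cfsg.pCore p (G ⧸ K) := le_antisymm hle hOle
    have hMn : ((P.map π).comap π).Normal := by
      rw [heq]
      exact (Cfsg.Agent.Lib.H1.pCore_normal p (G ⧸ K)).comap π
    rw [Subgroup.comap_map_eq, hπ, QuotientGroup.ker_mk'] at hMn
    by_contra hne
    rw [sup_comm] at hne
    have h1 := IH' (P ⊔ K) le_sup_left hne
    have h2 := Sylow.normalizer_sup_eq_top' S (le_sup_left : (S : Subgroup G) ≤ P ⊔ K)
    have h3 : Subgroup.normalizer ((S : Subgroup G) : Set G) = ⊤ := by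
      rw [← h2]
      exact (sup_eq_left.mpr h1).symm
    exact hnn (Subgroup.normalizer_eq_top_iff.mp h3)
  have hmin : ∀ Y : Subgroup G, Y ≤ K → P ≤ Subgroup.normalizer (Y : Set G) → Y ≠ K →
      Y ≤ Subgroup.centralizer (P : Set G) := by
    intro Y hYK hPY hYne
    have hne : Y ⊔ P ≠ ⊤ := by
      intro htop
      apply hYne
      apply le_antisymm hYK
      intro k hk
      have hk' : k ∈ Y ⊔ P := by rw [htop]; trivial
      obtain ⟨y, hy, x, hx, rfl⟩ := Cfsg.Agent.Lib.H1.mem_sup_of_le_normalizer hPY hk'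
      have hxK : x ∈ K := by
        have := K.mul_mem (K.inv_mem (hYK hy)) hk
        simpa using this
      have hx1 : x ∈ K ⊓ P := ⟨hxK, hx⟩
      rw [hKP, Subgroup.mem_bot] at hx1
      rw [hx1, mul_one]; exact hy
    have h1 := IH' (Y ⊔ P) le_sup_right hne
    have hYNP : Y ≤ Subgroup.normalizer (P : Set G) := le_sup_left.trans h1
    apply le_centralizer_of_normalize hYNP hPY
    rw [eq_bot_iff, ← hKP]
    exact inf_le_inf_right _ hYK
  have hnc : ¬ K ≤ Subgroup.centralizer (P : Set G) := by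
    intro h
    apply hnn
    rw [← Subgroup.normalizer_eq_top_iff, eq_top_iff, ← hKPtop]
    exact sup_le (h.trans (Subgroup.centralizer_le_normalizer _)) Subgroup.le_normalizer
  have hPsolv : Group.IsSolvable P := by
    have := hPp.isNilpotent
    infer_instance
  have hcop : Cfsg.Agent.Lib.H1.CoprimeAction P K := ⟨hPNK, hcopPK, Or.inl hPsolv⟩
  obtain ⟨q, hq, hKq⟩ : ∃ q : ℕ, q.Prime ∧ IsPGroup q K := by
    by_contra hno
    push Not at hno
    apply hnc
    have hdvd : Nat.card K ∣ Nat.card ↥(K ⊓ Subgroup.centralizer (P : Set G)) := by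
      rw [← Nat.factorization_prime_le_iff_dvd Nat.card_pos.ne' Nat.card_pos.ne']
      intro q hq
      have : Fact q.Prime := ⟨hq⟩
      obtain ⟨Y, ⟨hYK, hYcard⟩, hPY⟩ := Cfsg.Agent.Lib.H1.coprime_exists_invariant_sylow hcop q
      have hYne : Y ≠ K := by
        rintro rfl
        exact hno q hq (IsPGroup.of_card hYcard)
      have hYC : Y ≤ K ⊓ Subgroup.centralizer (P : Set G) := le_inf hYK (hmin Y hYK hPY hYne)
      have := Subgroup.card_dvd_of_le hYC
      rw [hYcard] at this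
      exact (hq.pow_dvd_iff_le_factorization Nat.card_pos.ne').mp this
    have hCK' : K ⊓ Subgroup.centralizer (P : Set G) = K := by
      apply Subgroup.eq_of_le_of_card_ge inf_le_left
      exact Nat.le_of_dvd Nat.card_pos hdvd
    rw [← hCK']; exact inf_le_right
  have hKne : K ≠ ⊥ := by
    intro hK
    apply hnc; rw [hK]; exact bot_le
  have hpq : p ≠ q := by
    rintro rfl
    obtain ⟨e, he⟩ := IsPGroup.iff_card.mp hKq
    have he0 : e ≠ 0 := by
      rintro rfl
      apply hKne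
      rw [pow_zero] at he
      exact Subgroup.card_eq_one.mp he
    rw [he] at hKcop
    have := (Nat.coprime_pow_left_iff (Nat.pos_of_ne_zero he0) p p).mp hKcop
    exact hp.out.one_lt.ne' ((Nat.coprime_self p).mp this)
  exact ⟨q, K, hq, hpq, hKn, hKq, hmin, hnc⟩

/-- **Ito's theorem** for `p`-solvable groups: a faithful character of degree `n ≤ p - 1` and a
non-normal Sylow `p`-subgroup force `n = p - 1`, `n` a power of `2` and `χ` irreducible. -/
theorem main (p : ℕ) [hp : Fact p.Prime] : ∀ (N : ℕ) (G : Type u) [Group G] [Finite G]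
    (S : Sylow p G) (χ : G → ℂ) (n : ℕ), Nat.card G = N → IsPSolvable p G → IsCharacter G χ →
    (∀ g : G, χ g = χ 1 → g = 1) → χ 1 = n → n + 1 ≤ p → ¬ (S : Subgroup G).Normal →
    n + 1 = p ∧ (∃ a : ℕ, n = 2 ^ a) ∧ IsIrrCharacter G χ := by
  intro N
  induction N using Nat.strong_induction_on with
  | _ N IH =>
  intro G _ _ S χ n hcard hsolv hχ hfaith hn hnp hnn
  by_cases hex : ∃ H : Subgroup G, (S : Subgroup G) ≤ H ∧ H ≠ ⊤ ∧
      ¬ H ≤ Subgroup.normalizer ((S : Subgroup G) : Set G)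
  · obtain ⟨H, hPH, hH, hHN⟩ := hex
    have hlt : Nat.card H < N := by
      rw [← hcard]
      exact lt_of_le_of_ne (Subgroup.card_le_card_group H)
        (fun h => hH (Subgroup.eq_top_of_card_eq H h))
    have hnn' : ¬ ((S.subtype hPH : Sylow p H) : Subgroup H).Normal := by
      rw [Sylow.coe_subtype]
      intro h
      exact hHN ((Subgroup.normal_subgroupOf_iff_le_normalizer hPH).mp h)
    have hfaith' : ∀ g : H, (fun g : H => χ g) g = (fun g : H => χ g) 1 → g = 1 := by
      intro g hg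
      exact Subtype.ext (hfaith (g : G) (by simpa using hg))
    obtain ⟨h1, h2, h3⟩ := IH (Nat.card H) hlt H (S.subtype hPH) (fun g : H => χ g) n rfl
      (Cfsg.Agent.Lib.H4.PSolvSub.isPSolvable_subgroup hsolv H) (isCharacter_restrict H hχ)
      hfaith' (by simpa using hn) hnp hnn'
    exact ⟨h1, h2, Cfsg.Agent.Lib.H23.isIrrCharacter_of_restrict_irr H hχ h3⟩
  · push Not at hex
    have hab := abelian_of_faithful_small p (S : Subgroup G) S.isPGroup' χ hχ hfaith n hn
      (by omega)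
    obtain ⟨q, K, hq, hpq, hKn, hKq, hmin, hnc⟩ := exists_config p hsolv S hab hex hnn
    have hKne : K ≠ ⊥ := by
      intro hK
      apply hnc; rw [hK]; exact bot_le
    obtain ⟨k, hkK, hk1⟩ : ∃ k ∈ K, k ≠ 1 := by
      by_contra h
      push Not at h
      exact hKne ((Subgroup.eq_bot_iff_forall K).mpr h)
    have hχk : χ k ≠ χ 1 := fun h => hk1 (hfaith k h)
    let _ : Fintype G := Fintype.ofFinite G
    let _ : Fintype K := Fintype.ofFinite K
    have : Fact q.Prime := ⟨hq⟩
    exact config_ito p q K (S : Subgroup G) S.isPGroup' hKq hpq hmin hnc χ hχ k hkK hχk n hn hnp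

end Cfsg.Agent.Lib.H18.Ito
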