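import Mathlib
import Cfsg.Agent.Lib.H3.J1Main
import Cfsg.Agent.Lib.H18.StemF8
import Cfsg.Agent.Lib.H18.SL2Mult
import Cfsg.Agent.Lib.H20.Schur

/-!
# The Schur multiplier of `J₁` is trivial (helper18)

`|J₁| = 2^3·3·5·7·11·19` (helper3's `card_JJ`).  Sylow `r`-subgroups for odd `r` have order
`1` or `r`, hence are cyclic with trivial multiplier.  For `r = 2`: the involution
`a = X Y X Y⁻¹` and the element `t = X` of order `7` satisfy `a · tat⁻¹ = t³at⁻³`, so
`⟨a, tat⁻¹, t²at⁻²⟩` is a Sylow 2-subgroup and `StemF8.no_involution` applies.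
-/

set_option autoImplicit false
set_option maxRecDepth 100000

namespace Cfsg.Agent.Lib.H18.J1Mult

open Cfsg.Agent.Lib.H3.J1 Cfsg.Agent.Lib.H3 Cfsg.Spor Cfsg.Agent.Lib.H18

/-- the involution `X Y X Y⁻¹`. -/
def wA : List ℕ := [0, 1, 0, 3]

def wU1 : List ℕ := [0] ++ wA ++ [2]
def wU2 : List ℕ := [0, 0] ++ wA ++ [2, 2]
def wU3 : List ℕ := [0, 0, 0] ++ wA ++ [2, 2, 2]

theorem wp_zero : wp [0] = jankoX := by simp [wp, letter]
theorem wp_two : wp [2] = jankoX⁻¹ := by simp [wp, letter]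

theorem wp_U1 : wp wU1 = jankoX * wp wA * jankoX⁻¹ := by
  rw [wU1, wp_append, wp_append, wp_zero, wp_two]

theorem wp_U2 : wp wU2 = jankoX ^ 2 * wp wA * (jankoX ^ 2)⁻¹ := by
  rw [wU2, wp_append, wp_append, show ([0, 0] : List ℕ) = [0] ++ [0] from rfl,
    show ([2, 2] : List ℕ) = [2] ++ [2] from rfl, wp_append, wp_append, wp_zero, wp_two]
  simp only [pow_succ, pow_zero, one_mul, mul_inv_rev, mul_assoc]

theorem wp_U3 : wp wU3 = jankoX ^ 3 * wp wA * (jankoX ^ 3)⁻¹ := by
  rw [wU3, wp_append, wp_append, show ([0, 0, 0] : List ℕ) = [0] ++ [0] ++ [0] from rfl,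
    show ([2, 2, 2] : List ℕ) = [2] ++ [2] ++ [2] from rfl, wp_append, wp_append, wp_append,
    wp_append, wp_zero, wp_two]
  simp only [pow_succ, pow_zero, one_mul, mul_inv_rev, mul_assoc]

theorem wp_eq_of_code {l1 l2 : List ℕ} (h : codeW l1 = codeW l2) : wp l1 = wp l2 := by
  apply ModP.model.code_inj
  rw [code_wp, code_wp, h]

theorem wp_ne_of_code {l1 l2 : List ℕ} (h : codeW l1 ≠ codeW l2) : wp l1 ≠ wp l2 := by
  intro h2
  apply h
  rw [← code_wp, ← code_wp, h2]

theorem x_pow : jankoX ^ 7 = 1 := by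
  rw [← wp_zero, wp_pow]
  have : (1 : GG) = wp [] := by simp [wp]
  rw [this]
  exact wp_eq_of_code (by decide +kernel)

theorem a_sq : wp wA * wp wA = 1 := by
  rw [← wp_append]
  have : (1 : GG) = wp [] := by simp [wp]
  rw [this]
  exact wp_eq_of_code (by decide +kernel)

theorem comm01 : wp wA * wp wU1 = wp wU1 * wp wA := by
  rw [← wp_append, ← wp_append]
  exact wp_eq_of_code (by decide +kernel)

theorem comm02 : wp wA * wp wU2 = wp wU2 * wp wA := by
  rw [← wp_append, ← wp_append]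
  exact wp_eq_of_code (by decide +kernel)

theorem comm12 : wp wU1 * wp wU2 = wp wU2 * wp wU1 := by
  rw [← wp_append, ← wp_append]
  exact wp_eq_of_code (by decide +kernel)

theorem rel3 : wp wU3 = wp wA * wp wU1 := by
  rw [← wp_append]
  exact wp_eq_of_code (by decide +kernel)

theorem ne_1_0 : wp [] ≠ wp wA := wp_ne_of_code (by decide +kernel)
theorem ne_1_1 : wp [] ≠ wp wU1 := wp_ne_of_code (by decide +kernel)
theorem ne_1_2 : wp [] ≠ wp wU2 := wp_ne_of_code (by decide +kernel)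
theorem ne_1_3 : wp [] ≠ wp wU3 := wp_ne_of_code (by decide +kernel)
theorem ne_0_1 : wp wA ≠ wp wU1 := wp_ne_of_code (by decide +kernel)
theorem ne_0_2 : wp wA ≠ wp wU2 := wp_ne_of_code (by decide +kernel)
theorem ne_0_3 : wp wA ≠ wp wU3 := wp_ne_of_code (by decide +kernel)
theorem ne_1_2' : wp wU1 ≠ wp wU2 := wp_ne_of_code (by decide +kernel)
theorem ne_1_3' : wp wU1 ≠ wp wU3 := wp_ne_of_code (by decide +kernel)
theorem ne_2_3 : wp wU2 ≠ wp wU3 := wp_ne_of_code (by decide +kernel)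

instance : Finite JJ := Nat.finite_of_card_ne_zero (by rw [card_JJ]; norm_num)

/-- the elements inside `J₁`. -/
def aJ : JJ := ⟨wp wA, wp_mem _⟩
def tJ : JJ := ⟨jankoX, Subgroup.subset_closure (by simp)⟩
def u1J : JJ := tJ * aJ * tJ⁻¹
def u2J : JJ := tJ ^ 2 * aJ * (tJ ^ 2)⁻¹
def u3J : JJ := tJ ^ 3 * aJ * (tJ ^ 3)⁻¹

theorem u1J_coe : (u1J : GG) = wp wU1 := by rw [wp_U1]; rfl
theorem u2J_coe : (u2J : GG) = wp wU2 := by rw [wp_U2]; rfl
theorem u3J_coe : (u3J : GG) = wp wU3 := by rw [wp_U3]; rfl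
theorem aJ_coe : (aJ : GG) = wp wA := rfl
theorem one_coe : ((1 : JJ) : GG) = wp [] := by simp [wp]

/-- the Sylow 2-subgroup. -/
def PJ : Subgroup JJ := Subgroup.closure {aJ, u1J, u2J}

theorem gens_comm : ∀ x ∈ ({aJ, u1J, u2J} : Set JJ), ∀ y ∈ ({aJ, u1J, u2J} : Set JJ),
    x * y = y * x := by
  have c01 : aJ * u1J = u1J * aJ := Subtype.ext (by
    rw [Subgroup.coe_mul, Subgroup.coe_mul, u1J_coe, aJ_coe]; exact comm01)
  have c02 : aJ * u2J = u2J * aJ := Subtype.ext (by
    rw [Subgroup.coe_mul, Subgroup.coe_mul, u2J_coe, aJ_coe]; exact comm02)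
  have c12 : u1J * u2J = u2J * u1J := Subtype.ext (by
    rw [Subgroup.coe_mul, Subgroup.coe_mul, u2J_coe, u1J_coe]; exact comm12)
  intro x hx y hy
  rcases hx with rfl | rfl | rfl <;> rcases hy with rfl | rfl | rfl
  · rfl
  · exact c01
  · exact c02
  · exact c01.symm
  · rfl
  · exact c12
  · exact c02.symm
  · exact c12.symm
  · rfl

theorem aJ_sq : aJ * aJ = 1 := Subtype.ext (by
  rw [Subgroup.coe_mul, aJ_coe, Subgroup.coe_one]; exact a_sq)

theorem gens_sq : ∀ x ∈ ({aJ, u1J, u2J} : Set JJ), x * x = 1 := by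
  intro x hx
  rcases hx with rfl | rfl | rfl
  · exact aJ_sq
  · unfold u1J
    calc tJ * aJ * tJ⁻¹ * (tJ * aJ * tJ⁻¹) = tJ * (aJ * aJ) * tJ⁻¹ := by group
      _ = 1 := by rw [aJ_sq]; group
  · unfold u2J
    calc tJ ^ 2 * aJ * (tJ ^ 2)⁻¹ * (tJ ^ 2 * aJ * (tJ ^ 2)⁻¹)
        = tJ ^ 2 * (aJ * aJ) * (tJ ^ 2)⁻¹ := by group
      _ = 1 := by rw [aJ_sq]; group

theorem PJ_sq : ∀ x ∈ PJ, x * x = 1 := by
  intro x hx
  have hcomm : ∀ x ∈ PJ, ∀ y ∈ PJ, x * y = y * x := by
    intro x hx y hy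
    have := (Subgroup.closureCommGroupOfComm gens_comm).mul_comm ⟨x, hx⟩ ⟨y, hy⟩
    exact congrArg Subtype.val this
  induction hx using Subgroup.closure_induction with
  | mem z hz => exact gens_sq z hz
  | one => simp
  | mul a b ha hb iha ihb =>
    have hab := hcomm a ha b hb
    calc a * b * (a * b) = a * (b * a) * b := by group
      _ = a * (a * b) * b := by rw [hab]
      _ = (a * a) * (b * b) := by group
      _ = 1 := by rw [iha, ihb, one_mul]
  | inv a ha iha =>
    calc a⁻¹ * a⁻¹ = (a * a)⁻¹ := by group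
      _ = 1 := by rw [iha, inv_one]

theorem PJ_isPGroup : IsPGroup 2 PJ := by
  intro x
  refine ⟨1, ?_⟩
  have := PJ_sq x.1 x.2
  apply Subtype.ext
  rw [pow_one, sq, Subgroup.coe_mul]
  exact this

theorem five_le_card : 5 ≤ Nat.card PJ := by
  classical
  have hmem0 : aJ ∈ PJ := Subgroup.subset_closure (by simp)
  have hmem1 : u1J ∈ PJ := Subgroup.subset_closure (by simp)
  have hmem2 : u2J ∈ PJ := Subgroup.subset_closure (by simp)
  have hu3 : u3J = aJ * u1J := Subtype.ext (by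
    rw [Subgroup.coe_mul, u3J_coe, u1J_coe, aJ_coe]; exact rel3)
  have hmem3 : u3J ∈ PJ := by rw [hu3]; exact Subgroup.mul_mem _ hmem0 hmem1
  have d10 : (1 : JJ) ≠ aJ := fun h => ne_1_0 (by rw [← one_coe, ← aJ_coe, h])
  have d11 : (1 : JJ) ≠ u1J := fun h => ne_1_1 (by rw [← one_coe, ← u1J_coe, h])
  have d12 : (1 : JJ) ≠ u2J := fun h => ne_1_2 (by rw [← one_coe, ← u2J_coe, h])
  have d13 : (1 : JJ) ≠ u3J := fun h => ne_1_3 (by rw [← one_coe, ← u3J_coe, h])
  have d01 : aJ ≠ u1J := fun h => ne_0_1 (by rw [← aJ_coe, ← u1J_coe, h])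
  have d02 : aJ ≠ u2J := fun h => ne_0_2 (by rw [← aJ_coe, ← u2J_coe, h])
  have d03 : aJ ≠ u3J := fun h => ne_0_3 (by rw [← aJ_coe, ← u3J_coe, h])
  have d12' : u1J ≠ u2J := fun h => ne_1_2' (by rw [← u1J_coe, ← u2J_coe, h])
  have d13' : u1J ≠ u3J := fun h => ne_1_3' (by rw [← u1J_coe, ← u3J_coe, h])
  have d23 : u2J ≠ u3J := fun h => ne_2_3 (by rw [← u2J_coe, ← u3J_coe, h])
  set S : Finset JJ := insert 1 (insert aJ (insert u1J (insert u2J {u3J}))) with hS
  have hcard : S.card = 5 := by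
    rw [hS, Finset.card_insert_of_notMem, Finset.card_insert_of_notMem,
      Finset.card_insert_of_notMem, Finset.card_insert_of_notMem, Finset.card_singleton]
    · simp only [Finset.mem_singleton]; exact d23
    · simp only [Finset.mem_insert, Finset.mem_singleton, not_or]; exact ⟨d12', d13'⟩
    · simp only [Finset.mem_insert, Finset.mem_singleton, not_or]; exact ⟨d01, d02, d03⟩
    · simp only [Finset.mem_insert, Finset.mem_singleton, not_or]; exact ⟨d10, d11, d12, d13⟩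
  have hsub : (S : Set JJ) ⊆ (PJ : Set JJ) := by
    intro x hx
    rw [Finset.mem_coe, hS] at hx
    simp only [Finset.mem_insert, Finset.mem_singleton] at hx
    rcases hx with rfl | rfl | rfl | rfl | rfl
    · exact Subgroup.one_mem _
    · exact hmem0
    · exact hmem1
    · exact hmem2
    · exact hmem3
  have h1 := Set.ncard_le_ncard hsub (Set.toFinite _)
  rw [Set.ncard_coe_finset, hcard] at h1
  exact h1

theorem card_PJ : Nat.card PJ = 8 := by
  obtain ⟨k, hk⟩ := IsPGroup.iff_card.mp PJ_isPGroup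
  have hdvd : Nat.card PJ ∣ 175560 := by
    rw [← card_JJ]; exact Subgroup.card_subgroup_dvd_card PJ
  have h5 := five_le_card
  rw [hk] at hdvd h5 ⊢
  have hk3 : k ≤ 3 := by
    by_contra hcon
    have : 2 ^ 4 ∣ 175560 := (pow_dvd_pow 2 (by omega : 4 ≤ k)).trans hdvd
    norm_num at this
  interval_cases k <;> simp_all

theorem fact2 : (175560 : ℕ).factorization 2 = 3 := by
  have h : (175560 : ℕ) = 2 ^ 3 * 21945 := by norm_num
  rw [h, Nat.factorization_mul (by norm_num) (by norm_num), Nat.Prime.factorization_pow Nat.prime_two]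
  simp [Nat.factorization_eq_zero_of_not_dvd (show ¬ 2 ∣ 21945 by norm_num)]

/-- odd primes divide `|J₁|` at most once. -/
theorem fact_odd (r : ℕ) (hr : r.Prime) (hr2 : r ≠ 2) : (175560 : ℕ).factorization r ≤ 1 := by
  by_contra hcon
  rw [not_le] at hcon
  have hdvd : r ^ 2 ∣ 175560 :=
    (hr.pow_dvd_iff_le_factorization (by norm_num)).mpr hcon
  have hrd : r ∣ 175560 := (dvd_pow_self r (by norm_num)).trans hdvd
  have h175 : (175560 : ℕ) = 2 ^ 3 * 3 * 5 * 7 * 11 * 19 := by norm_num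
  have hcases : r = 3 ∨ r = 5 ∨ r = 7 ∨ r = 11 ∨ r = 19 := by
    rw [h175] at hrd
    rcases (Nat.Prime.dvd_mul hr).mp hrd with h | h
    · rcases (Nat.Prime.dvd_mul hr).mp h with h | h
      · rcases (Nat.Prime.dvd_mul hr).mp h with h | h
        · rcases (Nat.Prime.dvd_mul hr).mp h with h | h
          · rcases (Nat.Prime.dvd_mul hr).mp h with h | h
            · exact absurd ((Nat.prime_dvd_prime_iff_eq hr (by norm_num)).mp
                (hr.dvd_of_dvd_pow h)) hr2
            · left; exact (Nat.prime_dvd_prime_iff_eq hr (by norm_num)).mp h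
          · right; left; exact (Nat.prime_dvd_prime_iff_eq hr (by norm_num)).mp h
        · right; right; left; exact (Nat.prime_dvd_prime_iff_eq hr (by norm_num)).mp h
      · right; right; right; left; exact (Nat.prime_dvd_prime_iff_eq hr (by norm_num)).mp h
    · right; right; right; right; exact (Nat.prime_dvd_prime_iff_eq hr (by norm_num)).mp h
  rcases hcases with rfl | rfl | rfl | rfl | rfl <;> norm_num at hdvd

theorem ker_eq_bot (Γ : Type) [Group Γ] [Finite Γ] (σ : Γ →* JJ)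
    (hσ : Cfsg.IsStemExtension σ) : σ.ker = ⊥ := by
  rw [eq_bot_iff]
  intro x hx
  rw [Subgroup.mem_bot]
  by_contra hx1
  have hord : orderOf x ≠ 1 := fun h => hx1 (orderOf_eq_one_iff.mp h)
  obtain ⟨r, hr, hrd⟩ := Nat.exists_prime_and_dvd hord
  haveI : Fact r.Prime := ⟨hr⟩
  obtain ⟨m, hm⟩ := hrd
  have hmpos : 0 < m := by
    rcases Nat.eq_zero_or_pos m with h | h
    · rw [h, mul_zero] at hm
      exact absurd hm (orderOf_pos x).ne'
    · exact h
  set y := x ^ m with hy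
  have hyk : y ∈ σ.ker := Subgroup.pow_mem _ hx m
  have hyr : y ^ r = 1 := by
    rw [hy, ← pow_mul, mul_comm, ← hm, pow_orderOf_eq_one]
  have hy1 : y ≠ 1 := by
    intro h
    have h2 : orderOf x ∣ m := orderOf_dvd_of_pow_eq_one h
    rw [hm] at h2
    have h3 : r * m ≤ m := Nat.le_of_dvd hmpos h2
    have h4 : 2 ≤ r := hr.two_le
    nlinarith
  apply hy1
  by_cases hr2 : r = 2
  · subst hr2
    -- the Sylow 2-subgroup
    have hcard : Nat.card PJ = 2 ^ (Nat.card JJ).factorization 2 := by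
      rw [card_PJ, card_JJ, fact2]; norm_num
    let P : Sylow 2 JJ := Sylow.ofCard PJ hcard
    have htJ7 : tJ ^ 7 = 1 := Subtype.ext (by
      rw [Subgroup.coe_pow, Subgroup.coe_one]; exact x_pow)
    have h01 : Commute aJ (tJ * aJ * tJ⁻¹) := gens_comm aJ (by simp) u1J (by simp)
    have h02 : Commute aJ (tJ ^ 2 * aJ * (tJ ^ 2)⁻¹) := gens_comm aJ (by simp) u2J (by simp)
    have hrel : tJ ^ 3 * aJ * (tJ ^ 3)⁻¹ = aJ * (tJ * aJ * tJ⁻¹) := by
      change u3J = aJ * u1J
      exact Subtype.ext (by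
        rw [Subgroup.coe_mul, u3J_coe, u1J_coe, aJ_coe]; exact rel3)
    exact StemF8.no_involution σ hσ aJ tJ htJ7 h01 h02 hrel P (le_of_eq rfl) y hyk hyr
  · obtain ⟨R⟩ : Nonempty (Sylow r JJ) := inferInstance
    have hRcard : Nat.card R = r ^ (Nat.card JJ).factorization r := R.card_eq_multiplicity
    rw [card_JJ] at hRcard
    have hk := fact_odd r hr hr2
    have hcyc : IsCyclic R := by
      rcases Nat.le_one_iff_eq_zero_or_eq_one.mp hk with h | h
      · rw [h, pow_zero] at hRcard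
        haveI : Subsingleton R := (Nat.card_eq_one_iff_unique.mp hRcard).1
        exact isCyclic_of_subsingleton
      · rw [h, pow_one] at hRcard
        exact isCyclic_of_prime_card hRcard
    have hmult : Cfsg.HasCyclicSchurMultiplier R 1 :=
      SL2Mult.hasCyclicSchurMultiplier_one_of_isCyclic
    exact SL2Mult.eq_one_of_sylow_trivial r R hmult Γ σ hσ y hyk hyr

theorem j1_hasCyclicSchurMultiplier_one : Cfsg.HasCyclicSchurMultiplier JJ 1 :=
  Cfsg.Agent.Lib.H20.hasCyclicSchurMultiplier_one_of_ker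
    (fun Γ _ _ σ hσ => ker_eq_bot Γ σ hσ)

end Cfsg.Agent.Lib.H18.J1Mult
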