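import Mathlib

set_option autoImplicit false

/-!
Helper library (helper18): Jordan complements and Marggraf's theorem (3-transitivity).

`JC G s` : the pointwise stabilizer of `s` in `G` is transitive on the complement of `s`.
Main result: a primitive group with a Jordan complement `Δ` such that `n/2 ≤ |Δ| ≤ n - 2`
is 3-transitive.
-/

namespace Cfsg.Agent.Lib.H18

open MulAction
open scoped Pointwise

section Basic
variable {G Ω : Type*} [Group G] [MulAction G Ω]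

/-- `s` is a Jordan complement: the pointwise stabilizer of `s` is transitive off `s`. -/
def JC (G : Type*) {Ω : Type*} [Group G] [MulAction G Ω] (s : Set Ω) : Prop :=
  ∀ x, x ∉ s → ∀ y, y ∉ s → ∃ g : G, (∀ z ∈ s, g • z = z) ∧ g • x = y

theorem JC.smul {s : Set Ω} (h : JC G s) (g : G) : JC G (g • s) := by
  intro x hx y hy
  have hx' : g⁻¹ • x ∉ s := fun hh => hx (Set.mem_smul_set_iff_inv_smul_mem.mpr hh)
  have hy' : g⁻¹ • y ∉ s := fun hh => hy (Set.mem_smul_set_iff_inv_smul_mem.mpr hh)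
  obtain ⟨k, hk1, hk2⟩ := h _ hx' _ hy'
  refine ⟨g * k * g⁻¹, ?_, ?_⟩
  · intro z hz
    have hz' : g⁻¹ • z ∈ s := Set.mem_smul_set_iff_inv_smul_mem.mp hz
    rw [mul_smul, mul_smul, hk1 _ hz', smul_inv_smul]
  · rw [mul_smul, mul_smul, hk2, smul_inv_smul]

theorem JC.inter {s t : Set Ω} (hs : JC G s) (ht : JC G t) (h : s ∪ t ≠ Set.univ) :
    JC G (s ∩ t) := by
  obtain ⟨z, hz⟩ := (Set.ne_univ_iff_exists_notMem _).mp h
  have hzs : z ∉ s := fun hh => hz (Or.inl hh)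
  have hzt : z ∉ t := fun hh => hz (Or.inr hh)
  have key : ∀ x, x ∉ s ∩ t → ∃ g : G, (∀ w ∈ s ∩ t, g • w = w) ∧ g • x = z := by
    intro x hx
    by_cases hxs : x ∈ s
    · have hxt : x ∉ t := fun hh => hx ⟨hxs, hh⟩
      obtain ⟨g, hg1, hg2⟩ := ht x hxt z hzt
      exact ⟨g, fun w hw => hg1 w hw.2, hg2⟩
    · obtain ⟨g, hg1, hg2⟩ := hs x hxs z hzs
      exact ⟨g, fun w hw => hg1 w hw.1, hg2⟩
  intro x hx y hy
  obtain ⟨g, hg1, hg2⟩ := key x hx
  obtain ⟨k, hk1, hk2⟩ := key y hy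
  refine ⟨k⁻¹ * g, ?_, ?_⟩
  · intro w hw
    rw [mul_smul, hg1 w hw, inv_smul_eq_iff, hk1 w hw]
  · rw [mul_smul, hg2, inv_smul_eq_iff, hk2]

/-- A Jordan complement gives a transitive action of the fixing subgroup on the complement. -/
theorem JC.isPretransitive {s : Set Ω} (h : JC G s) :
    IsPretransitive (fixingSubgroup G s) (SubMulAction.ofFixingSubgroup G s) := by
  constructor
  intro x y
  obtain ⟨g, hg1, hg2⟩ := h x.1 x.2 y.1 y.2
  refine ⟨⟨g, (mem_fixingSubgroup_iff G).mpr hg1⟩, ?_⟩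
  apply Subtype.ext
  exact hg2

end Basic

section Three
variable {G Ω : Type*} [Group G] [MulAction G Ω]

/-- 2-transitivity together with a Jordan complement of size two gives 3-transitivity. -/
theorem isMultiplyPretransitive_three_of_JC_pair (h2 : IsMultiplyPretransitive G Ω 2) (a b : Ω)
    (hab : a ≠ b) (hJ : JC G ({a, b} : Set Ω)) : IsMultiplyPretransitive G Ω 3 := by
  rw [is_two_pretransitive_iff] at h2
  constructor
  intro x y
  have hx01 : x 0 ≠ x 1 := fun h => by simpa using x.injective h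
  have hx02 : x 0 ≠ x 2 := fun h => by simpa using x.injective h
  have hx12 : x 1 ≠ x 2 := fun h => by simpa using x.injective h
  have hy01 : y 0 ≠ y 1 := fun h => by simpa using y.injective h
  have hy02 : y 0 ≠ y 2 := fun h => by simpa using y.injective h
  have hy12 : y 1 ≠ y 2 := fun h => by simpa using y.injective h
  obtain ⟨g₁, hg1a, hg1b⟩ := h2 hx01 hab
  obtain ⟨g₂, hg2a, hg2b⟩ := h2 hy01 hab
  have h1 : g₁ • x 2 ∉ ({a, b} : Set Ω) := by
    intro h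
    rcases h with h | h
    · rw [← hg1a] at h; exact hx02 (smul_left_cancel g₁ h).symm
    · rw [Set.mem_singleton_iff, ← hg1b] at h; exact hx12 (smul_left_cancel g₁ h).symm
  have h2' : g₂ • y 2 ∉ ({a, b} : Set Ω) := by
    intro h
    rcases h with h | h
    · rw [← hg2a] at h; exact hy02 (smul_left_cancel g₂ h).symm
    · rw [Set.mem_singleton_iff, ← hg2b] at h; exact hy12 (smul_left_cancel g₂ h).symm
  obtain ⟨k, hk1, hk2⟩ := hJ _ h1 _ h2'
  have hka : k • a = a := hk1 a (by simp)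
  have hkb : k • b = b := hk1 b (by simp)
  refine ⟨g₂⁻¹ * k * g₁, ?_⟩
  ext i
  fin_cases i
  · show (g₂⁻¹ * k * g₁) • x 0 = y 0
    rw [mul_smul, mul_smul, hg1a, hka, inv_smul_eq_iff, hg2a]
  · show (g₂⁻¹ * k * g₁) • x 1 = y 1
    rw [mul_smul, mul_smul, hg1b, hkb, inv_smul_eq_iff, hg2b]
  · show (g₂⁻¹ * k * g₁) • x 2 = y 2
    rw [mul_smul, mul_smul, hk2, inv_smul_eq_iff]

end Three

section Minimal
variable {G Ω : Type*} [Group G] [MulAction G Ω] [Finite Ω]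

/-- A Jordan complement of minimal size among those of size at least two. -/
structure MinJC (G : Type*) {Ω : Type*} [Group G] [MulAction G Ω] (s : Set Ω) : Prop where
  jc : JC G s
  two_le : 2 ≤ s.ncard
  min : ∀ t : Set Ω, JC G t → 2 ≤ t.ncard → s.ncard ≤ t.ncard

omit [Finite Ω] in
theorem exists_minJC (Δ : Set Ω) (hΔ : JC G Δ) (h2 : 2 ≤ Δ.ncard) :
    ∃ s : Set Ω, MinJC G s ∧ s.ncard ≤ Δ.ncard := by
  classical
  have hex : ∃ k : ℕ, ∃ t : Set Ω, JC G t ∧ 2 ≤ t.ncard ∧ t.ncard = k := ⟨_, Δ, hΔ, h2, rfl⟩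
  obtain ⟨s, hs1, hs2, hs3⟩ := Nat.find_spec hex
  refine ⟨s, ⟨hs1, hs2, ?_⟩, ?_⟩
  · intro t ht1 ht2
    rw [hs3]
    exact Nat.find_min' hex ⟨t, ht1, ht2, rfl⟩
  · rw [hs3]
    exact Nat.find_min' hex ⟨Δ, hΔ, h2, rfl⟩

theorem MinJC.smul {s : Set Ω} (h : MinJC G s) (g : G) : MinJC G (g • s) :=
  ⟨h.jc.smul g, by rw [Set.ncard_smul_set]; exact h.two_le,
    fun t ht1 ht2 => by rw [Set.ncard_smul_set]; exact h.min t ht1 ht2⟩

theorem MinJC.inter {s t : Set Ω} (h : MinJC G s) (ht : JC G t) (hne : s ∪ t ≠ Set.univ) :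
    (s ∩ t).ncard ≤ 1 ∨ s ⊆ t := by
  by_cases hc : (s ∩ t).ncard ≤ 1
  · exact Or.inl hc
  · right
    have h2 : 2 ≤ (s ∩ t).ncard := by omega
    have hle := h.min _ (h.jc.inter ht hne) h2
    have heq : s ∩ t = s := Set.eq_of_subset_of_ncard_le Set.inter_subset_left hle
    rw [← heq]
    exact Set.inter_subset_right

/-- Two translates of a minimal Jordan complement whose union is not everything are equal or
meet in at most one point. -/
theorem MinJC.line_inter {s : Set Ω} (h : MinJC G s) (g₁ g₂ : G)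
    (hne : g₁ • s ∪ g₂ • s ≠ Set.univ) :
    (g₁ • s ∩ g₂ • s).ncard ≤ 1 ∨ g₁ • s = g₂ • s := by
  rcases (h.smul g₁).inter (h.jc.smul g₂) hne with h1 | h1
  · exact Or.inl h1
  · right
    apply Set.eq_of_subset_of_ncard_le h1
    rw [Set.ncard_smul_set, Set.ncard_smul_set]

theorem MinJC.ncard_eq {s t : Set Ω} (hs : MinJC G s) (ht : MinJC G t) : s.ncard = t.ncard :=
  le_antisymm (hs.min t ht.jc ht.two_le) (ht.min s hs.jc hs.two_le)

/-- Two minimal Jordan complements whose union is not everything are equal or meet in at most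
one point. -/
theorem MinJC.inter' {s t : Set Ω} (hs : MinJC G s) (ht : MinJC G t) (hne : s ∪ t ≠ Set.univ) :
    (s ∩ t).ncard ≤ 1 ∨ s = t := by
  rcases hs.inter ht.jc hne with h1 | h1
  · exact Or.inl h1
  · right
    apply Set.eq_of_subset_of_ncard_le h1
    rw [hs.ncard_eq ht]

/-- Case A: a minimal Jordan complement cannot have more than half of the points. -/
theorem MinJC.caseA {s : Set Ω} (h : MinJC G s) (hprim : IsPreprimitive G Ω)
    (hk : Nat.card Ω < 2 * s.ncard) (hk2 : s.ncard + 2 ≤ Nat.card Ω) : False := by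
  have hcompl : s.ncard + sᶜ.ncard = Nat.card Ω := Set.ncard_add_ncard_compl s
  have hB : IsBlock G sᶜ := by
    rw [isBlock_iff_smul_eq_or_disjoint]
    intro g
    by_cases hd : Disjoint (g • sᶜ) sᶜ
    · exact Or.inr hd
    · left
      rw [Set.not_disjoint_iff] at hd
      obtain ⟨z, hz1, hz2⟩ := hd
      rw [Set.smul_set_compl] at hz1
      have hne : s ∪ g • s ≠ Set.univ := by
        intro hu
        have : z ∈ s ∪ g • s := hu ▸ Set.mem_univ z
        rcases this with h' | h'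
        · exact hz2 h'
        · exact hz1 h'
      have hlt : (s ∪ g • s).ncard < Nat.card Ω := by
        rw [← Set.ncard_univ]
        exact Set.ncard_lt_ncard (Set.ssubset_univ_iff.mpr hne)
      have hsum := Set.ncard_union_add_ncard_inter s (g • s)
      rw [Set.ncard_smul_set] at hsum
      rcases h.inter (h.jc.smul g) hne with h1 | h1
      · omega
      · have heq : s = g • s := by
          apply Set.eq_of_subset_of_ncard_le h1
          rw [Set.ncard_smul_set]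
        rw [Set.smul_set_compl, ← heq]
  rcases hprim.isTrivialBlock_of_isBlock hB with h1 | h1
  · have := (Set.ncard_le_one_iff_subsingleton (s := sᶜ)).mpr h1
    omega
  · rw [h1, Set.ncard_univ] at hcompl
    have := h.two_le
    omega

theorem exists_line (h2 : IsMultiplyPretransitive G Ω 2) {s : Set Ω} (hs : MinJC G s)
    (x y : Ω) (hxy : x ≠ y) : ∃ ℓ : Set Ω, MinJC G ℓ ∧ x ∈ ℓ ∧ y ∈ ℓ := by
  have hfin : s.Finite := Set.finite_of_ncard_pos (by have := hs.two_le; omega)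
  obtain ⟨a, ha, b, hb, hab⟩ := (Set.one_lt_ncard hfin).mp hs.two_le
  rw [is_two_pretransitive_iff] at h2
  obtain ⟨g, hg1, hg2⟩ := h2 hab hxy
  exact ⟨g • s, hs.smul g, hg1 ▸ Set.smul_mem_smul_set ha, hg2 ▸ Set.smul_mem_smul_set hb⟩

theorem exists_third {ℓ : Set Ω} (h : 3 ≤ ℓ.ncard) (p x : Ω) : ∃ q ∈ ℓ, q ≠ p ∧ q ≠ x := by
  obtain ⟨a, ha, b, hb, c, hc, hab, hac, hbc⟩ := (Set.two_lt_ncard).mp h
  by_cases h1 : a ≠ p ∧ a ≠ x
  · exact ⟨a, ha, h1⟩
  by_cases h2 : b ≠ p ∧ b ≠ x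
  · exact ⟨b, hb, h2⟩
  refine ⟨c, hc, ?_, ?_⟩ <;> grind

/-- Case B: a minimal Jordan complement of size at least three cannot have exactly half of the
points. -/
theorem MinJC.caseB {s : Set Ω} (h : MinJC G s) (h2 : IsMultiplyPretransitive G Ω 2)
    (hk : 2 * s.ncard = Nat.card Ω) (hk3 : 3 ≤ s.ncard) : False := by
  -- if two lines have a common point their union is not everything
  have hunion : ∀ ℓ₁ ℓ₂ : Set Ω, MinJC G ℓ₁ → MinJC G ℓ₂ → ∀ a, a ∈ ℓ₁ → a ∈ ℓ₂ →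
      ℓ₁ ∪ ℓ₂ ≠ Set.univ := by
    intro ℓ₁ ℓ₂ h1 h2' a ha1 ha2 hu
    have hsum := Set.ncard_union_add_ncard_inter ℓ₁ ℓ₂
    rw [hu, Set.ncard_univ, ← h.ncard_eq h1, ← h.ncard_eq h2'] at hsum
    have h0 : (ℓ₁ ∩ ℓ₂).ncard = 0 := by omega
    rw [Set.ncard_eq_zero] at h0
    have : a ∈ ℓ₁ ∩ ℓ₂ := ⟨ha1, ha2⟩
    rw [h0] at this
    exact this
  have hinter : ∀ ℓ₁ ℓ₂ : Set Ω, MinJC G ℓ₁ → MinJC G ℓ₂ → ℓ₁ ≠ ℓ₂ → ∀ a, a ∈ ℓ₁ → a ∈ ℓ₂ →
      ∀ w, w ∈ ℓ₁ → w ∈ ℓ₂ → w = a := by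
    intro ℓ₁ ℓ₂ h1 h2' hne a ha1 ha2 w hw1 hw2
    rcases h1.inter' h2' (hunion ℓ₁ ℓ₂ h1 h2' a ha1 ha2) with h3 | h3
    · exact ((Set.ncard_le_one_iff).mp h3) ⟨hw1, hw2⟩ ⟨ha1, ha2⟩
    · exact absurd h3 hne
  obtain ⟨a, ha⟩ : s.Nonempty := by
    rw [← Set.ncard_pos]; omega
  obtain ⟨x, hx⟩ : ∃ x, x ∉ s := by
    by_contra hcon
    push Not at hcon
    have : s = Set.univ := Set.eq_univ_of_forall hcon
    rw [this, Set.ncard_univ] at hk hk3
    omega
  have hax : a ≠ x := fun hh => hx (hh ▸ ha)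
  obtain ⟨t, ht, hat, hxt⟩ := exists_line h2 h a x hax
  have hst : s ≠ t := fun hh => hx (hh ▸ hxt)
  -- |s ∪ t| = n - 1
  have hsum := Set.ncard_union_add_ncard_inter s t
  rw [← h.ncard_eq ht] at hsum
  have hi1 : (s ∩ t).ncard ≤ 1 := by
    rcases h.inter' ht (hunion s t h ht a ha hat) with h3 | h3
    · exact h3
    · exact absurd h3 hst
  have hne := hunion s t h ht a ha hat
  obtain ⟨z, hz⟩ := (Set.ne_univ_iff_exists_notMem _).mp hne
  have hzs : z ∉ s := fun hh => hz (Or.inl hh)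
  have hzt : z ∉ t := fun hh => hz (Or.inr hh)
  have hcompl : (s ∪ t).ncard + (s ∪ t)ᶜ.ncard = Nat.card Ω := Set.ncard_add_ncard_compl _
  have hc1 : (s ∪ t)ᶜ.ncard ≤ 1 := by omega
  have hzuniq : ∀ w, w ∉ s → w ∉ t → w = z := by
    intro w hws hwt
    have hw : w ∈ (s ∪ t)ᶜ := by
      intro hh
      rcases hh with hh | hh
      · exact hws hh
      · exact hwt hh
    exact ((Set.ncard_le_one_iff).mp hc1) hw hz
  have haz : a ≠ z := fun hh => hzs (hh ▸ ha)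
  obtain ⟨u, hu, hau, hzu⟩ := exists_line h2 h a z haz
  have hus : u ≠ s := fun hh => hzs (hh ▸ hzu)
  have hut : u ≠ t := fun hh => hzt (hh ▸ hzu)
  have hsub : u ⊆ {a, z} := by
    intro w hw
    by_cases hws : w ∈ s
    · left; exact hinter u s hu h hus a hau ha w hw hws
    · by_cases hwt : w ∈ t
      · left; exact hinter u t hu ht hut a hau hat w hw hwt
      · right; exact hzuniq w hws hwt
  have hle : u.ncard ≤ ({a, z} : Set Ω).ncard := Set.ncard_le_ncard hsub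
  rw [Set.ncard_pair haz, ← h.ncard_eq hu] at hle
  omega

/-- Case C: a minimal Jordan complement of size `k ≥ 3` with `2k < n` is incompatible with a
Jordan complement `Δ` having at least half and at most `n - 2` of the points. -/
theorem MinJC.caseC {s : Set Ω} (h : MinJC G s) (h2 : IsMultiplyPretransitive G Ω 2)
    (hk : 2 * s.ncard < Nat.card Ω) (hk3 : 3 ≤ s.ncard)
    (Δ : Set Ω) (hΔ : JC G Δ) (hbig : Nat.card Ω ≤ 2 * Δ.ncard)
    (hsmall : Δ.ncard + 2 ≤ Nat.card Ω) : False := by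
  -- two lines sharing two distinct points are equal
  have hL1 : ∀ ℓ₁ ℓ₂ : Set Ω, MinJC G ℓ₁ → MinJC G ℓ₂ → ∀ x y, x ≠ y → x ∈ ℓ₁ → y ∈ ℓ₁ →
      x ∈ ℓ₂ → y ∈ ℓ₂ → ℓ₁ = ℓ₂ := by
    intro ℓ₁ ℓ₂ h1 h2' x y hxy hx1 hy1 hx2 hy2
    have hne : ℓ₁ ∪ ℓ₂ ≠ Set.univ := by
      intro hu
      have hle := Set.ncard_union_le ℓ₁ ℓ₂
      rw [hu, Set.ncard_univ, ← h.ncard_eq h1, ← h.ncard_eq h2'] at hle
      omega
    rcases h1.inter' h2' hne with h3 | h3
    · exact absurd ((Set.ncard_le_one_iff).mp h3 ⟨hx1, hx2⟩ ⟨hy1, hy2⟩) hxy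
    · exact h3
  have hcompl : Δ.ncard + Δᶜ.ncard = Nat.card Ω := Set.ncard_add_ncard_compl Δ
  by_cases hC2 : ∃ ℓ : Set Ω, MinJC G ℓ ∧ Δᶜ ⊆ ℓ
  · obtain ⟨ℓ, hℓ, hsub⟩ := hC2
    have h2c : 1 < Δᶜ.ncard := by omega
    obtain ⟨γ₁, hγ₁, γ₂, hγ₂, hγ⟩ := (Set.one_lt_ncard).mp h2c
    obtain ⟨k, hk1, hk2⟩ := hΔ γ₁ hγ₁ γ₂ hγ₂
    obtain ⟨p, hp⟩ : ∃ p, p ∉ ℓ := by
      by_contra hcon
      push Not at hcon
      have : ℓ = Set.univ := Set.eq_univ_of_forall hcon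
      have hn := h.ncard_eq hℓ
      rw [this, Set.ncard_univ] at hn
      omega
    have hpΔ : p ∈ Δ := by
      by_contra hh
      exact hp (hsub hh)
    have hpγ : p ≠ γ₁ := fun hh => hp (hh ▸ hsub hγ₁)
    obtain ⟨ℓ', hℓ', hpℓ', hγℓ'⟩ := exists_line h2 h p γ₁ hpγ
    have h3' : 3 ≤ ℓ'.ncard := by rw [← h.ncard_eq hℓ']; exact hk3
    obtain ⟨q, hq, hqp, hqγ⟩ := exists_third h3' p γ₁
    have hqℓ : q ∉ ℓ := by
      intro hh
      have := hL1 ℓ' ℓ hℓ' hℓ γ₁ q (Ne.symm hqγ) hγℓ' hq (hsub hγ₁) hh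
      exact hp (this ▸ hpℓ')
    have hqΔ : q ∈ Δ := by
      by_contra hh
      exact hqℓ (hsub hh)
    have hkp : k • p = p := hk1 p hpΔ
    have hkq : k • q = q := hk1 q hqΔ
    have hpk : p ∈ k • ℓ' := hkp ▸ Set.smul_mem_smul_set hpℓ'
    have hqk : q ∈ k • ℓ' := hkq ▸ Set.smul_mem_smul_set hq
    have hγk : γ₂ ∈ k • ℓ' := hk2 ▸ Set.smul_mem_smul_set hγℓ'
    have heq : k • ℓ' = ℓ' := hL1 _ _ (hℓ'.smul k) hℓ' p q (Ne.symm hqp) hpk hqk hpℓ' hq
    rw [heq] at hγk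
    have := hL1 ℓ' ℓ hℓ' hℓ γ₁ γ₂ hγ hγℓ' hγk (hsub hγ₁) (hsub hγ₂)
    exact hp (this ▸ hpℓ')
  · push Not at hC2
    obtain ⟨p, hp⟩ : Δᶜ.Nonempty := by
      rw [← Set.ncard_pos]; omega
    have key : ∀ x, x ∈ Δ → ∃ y, y ∉ Δ ∧ y ≠ p ∧
        ∃ ℓ : Set Ω, MinJC G ℓ ∧ p ∈ ℓ ∧ x ∈ ℓ ∧ y ∈ ℓ ∧ ∀ w, w ∈ ℓ → w ∈ Δ → w = x := by
      intro x hx
      have hpx : p ≠ x := fun hh => hp (hh ▸ hx)
      obtain ⟨ℓ, hℓ, hpℓ, hxℓ⟩ := exists_line h2 h p x hpx
      have hne : ℓ ∪ Δ ≠ Set.univ := by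
        intro hu
        apply hC2 ℓ hℓ
        intro w hw
        have : w ∈ ℓ ∪ Δ := hu ▸ Set.mem_univ w
        rcases this with h' | h'
        · exact h'
        · exact absurd h' hw
      have huniq : ∀ w, w ∈ ℓ → w ∈ Δ → w = x := by
        intro w hw hwΔ
        rcases hℓ.inter hΔ hne with h3 | h3
        · exact (Set.ncard_le_one_iff).mp h3 ⟨hw, hwΔ⟩ ⟨hxℓ, hx⟩
        · exact absurd (h3 hpℓ) hp
      have h3' : 3 ≤ ℓ.ncard := by rw [← h.ncard_eq hℓ]; exact hk3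
      obtain ⟨y, hy, hyp, hyx⟩ := exists_third h3' p x
      refine ⟨y, ?_, hyp, ℓ, hℓ, hpℓ, hxℓ, hy, huniq⟩
      intro hyΔ
      exact hyx (huniq y hy hyΔ)
    choose! f hf using key
    have hinj : Set.InjOn f Δ := by
      intro x hx x' hx' hxx'
      obtain ⟨hy1, hy2, ℓ, hℓ, hpℓ, hxℓ, hyℓ, huniq⟩ := hf x hx
      obtain ⟨hy1', hy2', ℓ', hℓ', hpℓ', hxℓ', hyℓ', huniq'⟩ := hf x' hx'
      rw [← hxx'] at hyℓ'
      have heq : ℓ = ℓ' := hL1 ℓ ℓ' hℓ hℓ' p (f x) (Ne.symm hy2) hpℓ hyℓ hpℓ' hyℓ'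
      exact (huniq x' (heq ▸ hxℓ') hx').symm
    have hmaps : ∀ x ∈ Δ, f x ∈ Δᶜ \ {p} := by
      intro x hx
      obtain ⟨hy1, hy2, _⟩ := hf x hx
      exact ⟨hy1, hy2⟩
    have hle := Set.ncard_le_ncard_of_injOn f hmaps hinj
    have hdiff : (Δᶜ \ {p}).ncard = Δᶜ.ncard - 1 := Set.ncard_diff_singleton_of_mem hp
    omega

/-- Marggraf: a primitive, 2-transitive group with a Jordan complement having at least half
and at most `n - 2` of the points has a Jordan complement of size two. -/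
theorem exists_JC_pair (hprim : IsPreprimitive G Ω) (h2 : IsMultiplyPretransitive G Ω 2)
    (Δ : Set Ω) (hΔ : JC G Δ) (hbig : Nat.card Ω ≤ 2 * Δ.ncard)
    (hsmall : Δ.ncard + 2 ≤ Nat.card Ω) :
    ∃ a b : Ω, a ≠ b ∧ JC G ({a, b} : Set Ω) := by
  have hΔ2 : 2 ≤ Δ.ncard := by omega
  obtain ⟨s, hs, hsΔ⟩ := exists_minJC Δ hΔ hΔ2
  by_cases hk2 : s.ncard = 2
  · obtain ⟨a, b, hab, rfl⟩ := Set.ncard_eq_two.mp hk2
    exact ⟨a, b, hab, hs.jc⟩
  · exfalso
    have hk3 : 3 ≤ s.ncard := by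
      have := hs.two_le
      omega
    rcases lt_trichotomy (2 * s.ncard) (Nat.card Ω) with h1 | h1 | h1
    · exact hs.caseC h2 h1 hk3 Δ hΔ hbig hsmall
    · exact hs.caseB h2 h1 hk3
    · exact hs.caseA hprim h1 (by omega)

/-- Marggraf's theorem: a primitive group with a Jordan set `Γ`, `1 < |Γ| ≤ n/2`, is
3-transitive. -/
theorem isMultiplyPretransitive_three_of_jordan (hprim : IsPreprimitive G Ω) (Γ : Set Ω)
    (h1 : 1 < Γ.ncard) (h2 : 2 * Γ.ncard ≤ Nat.card Ω)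
    (htr : ∀ x ∈ Γ, ∀ y ∈ Γ, ∃ g : G, (∀ z, z ∉ Γ → g • z = z) ∧ g • x = y) :
    IsMultiplyPretransitive G Ω 3 := by
  have hJ : JC G Γᶜ := by
    intro x hx y hy
    have hx' : x ∈ Γ := by
      by_contra hh
      exact hx hh
    have hy' : y ∈ Γ := by
      by_contra hh
      exact hy hh
    obtain ⟨g, hg1, hg2⟩ := htr x hx' y hy'
    exact ⟨g, fun z hz => hg1 z hz, hg2⟩
  have hcompl : Γ.ncard + Γᶜ.ncard = Nat.card Ω := Set.ncard_add_ncard_compl Γ
  have h2t : IsMultiplyPretransitive G Ω 2 := by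
    apply hprim.is_two_pretransitive (s := Γᶜ) (n := Γᶜ.ncard - 1) (by omega) (by omega)
    exact hJ.isPretransitive
  obtain ⟨a, b, hab, hJab⟩ := exists_JC_pair hprim h2t Γᶜ hJ (by omega) (by omega)
  exact isMultiplyPretransitive_three_of_JC_pair h2t a b hab hJab

end Minimal

end Cfsg.Agent.Lib.H18
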