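import Mathlib
import Cfsg.Agent.Lib.H18.BKDUAL

/-!
helper18 library (for S4640): (DUAL1) `card_dual`, (DUAL2) `sum_dual` in the exact signatures of
`tools/blueprints/S4640_sigs.lean` (dual group as `{β : G →* ℂˣ // ∀ n ∈ N, β n = 1}`).  PURE.
-/

set_option autoImplicit false

namespace Cfsg.Agent.Lib.H18.KK

open Cfsg.Agent.Lib.H18.BK

variable {G : Type*} [Group G] [Finite G]

/-- the dual group of `G ⧸ N` in its two forms. -/
noncomputable def dualEquiv (N : Subgroup G) [N.Normal] :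
    {β : G →* ℂˣ // ∀ n ∈ N, β n = 1} ≃ (G ⧸ N →* ℂˣ) where
  toFun β := QuotientGroup.lift N β.1 (fun n hn => β.2 n hn)
  invFun φ := ⟨φ.comp (QuotientGroup.mk' N), fun n hn => by
    rw [MonoidHom.comp_apply, QuotientGroup.mk'_apply, (QuotientGroup.eq_one_iff n).2 hn, map_one]⟩
  left_inv β := by
    apply Subtype.ext
    ext g
    rfl
  right_inv φ := by
    ext x
    rfl

theorem dualEquiv_apply (N : Subgroup G) [N.Normal] (β : {β : G →* ℂˣ // ∀ n ∈ N, β n = 1}) (g : G) :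
    dualEquiv N β (g : G ⧸ N) = β.1 g := rfl

theorem dualEquiv_symm_apply (N : Subgroup G) [N.Normal] (φ : G ⧸ N →* ℂˣ) (g : G) :
    ((dualEquiv N).symm φ).1 g = φ (g : G ⧸ N) := rfl

/-- (DUAL1), exact signature. -/
theorem card_dual (N : Subgroup G) [N.Normal] (hab : ∀ a b : G, a * b * a⁻¹ * b⁻¹ ∈ N) :
    Nat.card {β : G →* ℂˣ // ∀ n ∈ N, β n = 1} = N.index := by
  rw [Nat.card_congr (dualEquiv N)]
  exact card_quot_dual N hab

/-- (DUAL2), exact signature. -/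
theorem sum_dual (N : Subgroup G) [N.Normal] (hab : ∀ a b : G, a * b * a⁻¹ * b⁻¹ ∈ N) (g : G)
    (hg : g ∉ N) : ∑ᶠ β : {β : G →* ℂˣ // ∀ n ∈ N, β n = 1}, ((β.1 g : ℂˣ) : ℂ) = 0 := by
  classical
  have h := finsum_quot_dual_apply N hab g
  rw [if_neg hg] at h
  rw [← h]
  exact finsum_eq_of_bijective (dualEquiv N) (dualEquiv N).bijective (fun β => rfl)

end Cfsg.Agent.Lib.H18.KK
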