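import Mathlib
import Cfsg.Prelude.Def_Characters
import Cfsg.Agent.Lib.H18.BKTW
import Cfsg.Agent.Lib.H18.KKDUAL

/-!
helper18 library (for S4640): (TW) `restrict_irr_of_no_twist` in the exact signature of
`tools/blueprints/S4640_sigs.lean`.
-/

set_option autoImplicit false

namespace Cfsg.Agent.Lib.H18.KK

open Cfsg.Agent.Lib.H18.BK

variable {G : Type*} [Group G] [Fintype G]

/-- (TW), exact signature. -/
theorem restrict_irr_of_no_twist (N : Subgroup G) [N.Normal] [Fintype N]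
    (hab : ∀ a b : G, a * b * a⁻¹ * b⁻¹ ∈ N) (χ : G → ℂ) (hχ : Cfsg.IsIrrCharacter G χ)
    (hno : ∀ β : G →* ℂˣ, (∀ n ∈ N, β n = 1) → (∀ g, χ g * ((β g : ℂˣ) : ℂ) = χ g) → β = 1) :
    Cfsg.IsIrrCharacter N (fun n : N => χ n) := by
  apply isIrrCharacter_restrict_of_twist_ne N hab hχ
  intro φ hφ heq
  apply hφ
  have h1 := hno ((dualEquiv N).symm φ).1 ((dualEquiv N).symm φ).2 (fun g => congrFun heq g)
  have h2 : (dualEquiv N).symm φ = (dualEquiv N).symm 1 := by
    apply Subtype.ext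
    rw [h1]
    ext g
    rfl
  exact (dualEquiv N).symm.injective h2

end Cfsg.Agent.Lib.H18.KK
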