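import Cfsg.Agent.Lib.H18.L648Defs

/-!
# S3702, lattice side: the list `allM` of the elements of `M648` in nine chunks (to bound the memory of the
kernel evaluations)
-/

set_option autoImplicit false

namespace Cfsg.Agent.Lib.H18.L648

open Cfsg Cfsg.Agent.Lib.H7.T648 Cfsg.Agent.Lib.H18

/-- the 72 elements with given `v 0`, `v 1` -/
def chunk (v0 v1 : ZMod 3) : List M648 :=
  ([0, 1, 2] : List (ZMod 3)).flatMap fun v2 => Kl.map fun k => ⟨![v0, v1, v2], k.a, k.b, k.p⟩

theorem allM_eq_chunks : allM = chunk 0 0 ++ (chunk 0 1 ++ (chunk 0 2 ++ (chunk 1 0 ++ (chunk 1 1 ++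
    (chunk 1 2 ++ (chunk 2 0 ++ (chunk 2 1 ++ (chunk 2 2 ++ [])))))))) := by
  simp only [allM, chunk, List.flatMap_cons, List.flatMap_nil, List.append_nil, List.append_assoc]

theorem all_allM_of_chunks (p : M648 → Bool)
    (h00 : (chunk 0 0).all p = true) (h01 : (chunk 0 1).all p = true)
    (h02 : (chunk 0 2).all p = true) (h10 : (chunk 1 0).all p = true)
    (h11 : (chunk 1 1).all p = true) (h12 : (chunk 1 2).all p = true)
    (h20 : (chunk 2 0).all p = true) (h21 : (chunk 2 1).all p = true)
    (h22 : (chunk 2 2).all p = true) : allM.all p = true := by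
  rw [allM_eq_chunks]
  simp only [List.all_append, h00, h01, h02, h10, h11, h12, h20, h21, h22, List.all_nil,
    Bool.and_self]

end Cfsg.Agent.Lib.H18.L648
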