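import Cfsg.Agent.Lib.H18.L648Defs

/-!
# S3702, lattice side: the verified search (kernel evaluation, about 50 s)
-/

set_option autoImplicit false

namespace Cfsg.Agent.Lib.H18.L648

open Cfsg Cfsg.Agent.Lib.H18 Cfsg.Agent.Lib.H18.LatEnum

set_option maxRecDepth 1000000 in
theorem search_eq : search MpN 9 = shapes := by
  decide +kernel

end Cfsg.Agent.Lib.H18.L648
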