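import Cfsg.Agent.Lib.H18.L648Chunk

/-!
# S3702, lattice side: the table of the monomial character `monoL 2` of `M648` (kernel evaluation, in
nine chunks to bound the memory)
-/

set_option autoImplicit false

namespace Cfsg.Agent.Lib.H18.L648

open Cfsg Cfsg.Agent.Lib.H7.T648 Cfsg.Agent.Lib.H18

set_option maxRecDepth 1000000

theorem tabP02_00 :
    (chunk 0 0).all (fun x => decide (psiZ (monoL 2) x = Ptab 2 (cls x))) = true := by
  decide +kernel

theorem tabP02_01 :
    (chunk 0 1).all (fun x => decide (psiZ (monoL 2) x = Ptab 2 (cls x))) = true := by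
  decide +kernel

theorem tabP02_02 :
    (chunk 0 2).all (fun x => decide (psiZ (monoL 2) x = Ptab 2 (cls x))) = true := by
  decide +kernel

theorem tabP02_10 :
    (chunk 1 0).all (fun x => decide (psiZ (monoL 2) x = Ptab 2 (cls x))) = true := by
  decide +kernel

theorem tabP02_11 :
    (chunk 1 1).all (fun x => decide (psiZ (monoL 2) x = Ptab 2 (cls x))) = true := by
  decide +kernel

theorem tabP02_12 :
    (chunk 1 2).all (fun x => decide (psiZ (monoL 2) x = Ptab 2 (cls x))) = true := by
  decide +kernel

theorem tabP02_20 :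
    (chunk 2 0).all (fun x => decide (psiZ (monoL 2) x = Ptab 2 (cls x))) = true := by
  decide +kernel

theorem tabP02_21 :
    (chunk 2 1).all (fun x => decide (psiZ (monoL 2) x = Ptab 2 (cls x))) = true := by
  decide +kernel

theorem tabP02_22 :
    (chunk 2 2).all (fun x => decide (psiZ (monoL 2) x = Ptab 2 (cls x))) = true := by
  decide +kernel

theorem tabP02 : allM.all (fun x => decide (psiZ (monoL 2) x = Ptab 2 (cls x))) = true :=
  all_allM_of_chunks _ tabP02_00 tabP02_01 tabP02_02 tabP02_10 tabP02_11 tabP02_12
    tabP02_20 tabP02_21 tabP02_22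

end Cfsg.Agent.Lib.H18.L648
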