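import Cfsg.Agent.Lib.H18.L648Defs

/-!
# S3702, lattice side: the class sizes of `M648` (kernel evaluation)
-/

set_option autoImplicit false

namespace Cfsg.Agent.Lib.H18.L648

open Cfsg Cfsg.Agent.Lib.H7.T648 Cfsg.Agent.Lib.H18

set_option maxRecDepth 1000000 in
theorem countP_cls : (List.finRange 14).all
    (fun c => decide (allM.countP (fun x => decide (cls x = c)) = csz c)) = true := by
  decide +kernel

set_option maxRecDepth 1000000 in
theorem length_allM : allM.length = 648 := by
  decide +kernel

end Cfsg.Agent.Lib.H18.L648
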