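import Mathlib
import Cfsg.Agent.Lib.H23.LSDefs

/-!
# S5286 piece AFF (helper18): the affine action of `FreeGroup X ⋊ Q` on the Cayley tree of `FreeGroup X`
-/

set_option autoImplicit false

namespace Cfsg.Agent.Lib.H18.LS

open Cfsg Cfsg.Agent.Lib.H23.LS

universe u v

section Generic

variable {X : Type u} [DecidableEq X] {Q : Type v} [Group Q] [MulAction Q X]

/-- (ACT) the word of `q • v`. -/
theorem toWord_actAut (q : Q) (v : FreeGroup X) :
    (actAut X Q q v).toWord = v.toWord.map fun a => (q • a.1, a.2) := by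
  have hv : v = FreeGroup.mk v.toWord := FreeGroup.mk_toWord.symm
  rw [actAut_apply]
  conv_lhs => rw [hv]
  rw [FreeGroup.map.mk, FreeGroup.toWord_mk]
  apply FreeGroup.IsReduced.reduce_eq
  have hred : FreeGroup.IsReduced v.toWord := FreeGroup.isReduced_toWord
  unfold FreeGroup.IsReduced at hred ⊢
  rw [List.isChain_map]
  refine hred.imp ?_
  intro a b hab h
  exact hab (MulAction.injective q h)

theorem actAut_letter (q : Q) (l : X × Bool) :
    actAut X Q q (letter l) = letter (q • l.1, l.2) := by
  rw [actAut_apply]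
  unfold letter
  rw [FreeGroup.map.mk]
  rfl

/-- (AFF) -/
theorem aff_mul (g h : Amb X Q) (v : FreeGroup X) : aff (g * h) v = aff g (aff h v) := by
  unfold aff
  rw [SemidirectProduct.mul_left, SemidirectProduct.mul_right, map_mul, MulAut.mul_apply, map_mul,
    mul_assoc]

theorem aff_one_right (g : Amb X Q) : aff g 1 = g.left := by
  unfold aff
  rw [map_one, mul_one]

theorem aff_inv_mul_aff (g : Amb X Q) (a b : FreeGroup X) :
    (aff g a)⁻¹ * aff g b = actAut X Q g.right (a⁻¹ * b) := by
  unfold aff
  rw [map_mul, map_inv, mul_inv_rev, mul_assoc, inv_mul_cancel_left]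

theorem norm_actAut (q : Q) (v : FreeGroup X) : (actAut X Q q v).norm = v.norm := by
  unfold FreeGroup.norm
  rw [toWord_actAut, List.length_map]

theorem dist_aff (g : Amb X Q) (a b : FreeGroup X) : dist (aff g a) (aff g b) = dist a b := by
  unfold Cfsg.Agent.Lib.H23.LS.dist
  rw [aff_inv_mul_aff, norm_actAut]

theorem aff_mul_letter (g : Amb X Q) (a : FreeGroup X) (l : X × Bool) :
    aff g (a * letter l) = aff g a * letter (g.right • l.1, l.2) := by
  unfold aff
  rw [map_mul, actAut_letter, mul_assoc]

theorem head_aff (g : Amb X Q) (a b : FreeGroup X) :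
    ((aff g a)⁻¹ * aff g b).toWord.head? =
      ((a⁻¹ * b).toWord.head?).map fun l => (g.right • l.1, l.2) := by
  rw [aff_inv_mul_aff, toWord_actAut, List.head?_map]

end Generic

end Cfsg.Agent.Lib.H18.LS
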