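import Mathlib
import Cfsg.Agent.Lib.H23.LSDefs
import Cfsg.Agent.Lib.H18.LSAFF

/-!
# S5286 piece PREF (helper18): the orbit of the base vertex under a subgroup generated by elements whose left
component has norm at most one is closed under taking prefixes
-/

set_option autoImplicit false

namespace Cfsg.Agent.Lib.H18.LS

open Cfsg Cfsg.Agent.Lib.H23.LS

universe u v

section Generic

variable {X : Type u} [DecidableEq X] {Q : Type v} [Group Q] [MulAction Q X]

/-- a free group element of norm at most one is trivial or a letter -/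
theorem eq_one_or_letter_of_norm_le_one (v : FreeGroup X) (h : v.norm ≤ 1) :
    v = 1 ∨ ∃ l, v = letter l := by
  unfold FreeGroup.norm at h
  match hw : v.toWord with
  | [] => left; exact FreeGroup.toWord_eq_nil_iff.1 hw
  | [l] =>
    right
    refine ⟨l, ?_⟩
    rw [← FreeGroup.mk_toWord (x := v), hw]
    rfl
  | a :: b :: L => rw [hw] at h; simp at h

theorem toWord_letter (l : X × Bool) : (letter l).toWord = [l] := by
  unfold letter
  rw [FreeGroup.toWord_mk]
  rfl

theorem mk_cons_cons_cancel (l l' : X × Bool) (M : List (X × Bool)) (h : l.1 = l'.1 ∧ l.2 = !l'.2) :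
    FreeGroup.mk (l :: l' :: M) = FreeGroup.mk M := by
  obtain ⟨x, b⟩ := l
  obtain ⟨x', b'⟩ := l'
  simp only at h
  obtain ⟨rfl, rfl⟩ := h
  exact Quot.sound FreeGroup.Red.Step.cons_not_rev

/-- the induction step of `pref_closure` -/
theorem pref_step (G : Subgroup (Amb X Q)) (s y : Amb X Q) (hs : s ∈ G) (hs1 : s.left.norm ≤ 1)
    (hy : ∀ n : ℕ, ∃ g' ∈ G, g'.left = FreeGroup.mk (y.left.toWord.take n)) :
    ∀ n : ℕ, ∃ g' ∈ G, g'.left = FreeGroup.mk ((s * y).left.toWord.take n) := by
  intro n
  obtain ⟨L', hL'⟩ : ∃ L', L' = y.left.toWord.map (fun a => (s.right • a.1, a.2)) := ⟨_, rfl⟩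
  have hword : (actAut X Q s.right y.left).toWord = L' := by rw [hL']; exact toWord_actAut _ _
  have key : ∀ k : ℕ, ∃ g' ∈ G, g'.left = s.left * FreeGroup.mk (L'.take k) := by
    intro k
    obtain ⟨g', hg', hg'l⟩ := hy k
    refine ⟨s * g', G.mul_mem hs hg', ?_⟩
    rw [SemidirectProduct.mul_left, hg'l, actAut_apply, FreeGroup.map.mk, hL', List.map_take]
  rcases eq_one_or_letter_of_norm_le_one s.left hs1 with h1 | ⟨l, hl⟩
  · obtain ⟨g', hg', hg'l⟩ := key n
    refine ⟨g', hg', ?_⟩
    rw [hg'l, SemidirectProduct.mul_left, h1, one_mul, one_mul, hword]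
  · have hred : FreeGroup.reduce L' = L' := by rw [← hword]; exact FreeGroup.reduce_toWord _
    have hw2 : (s * y).left.toWord = FreeGroup.reduce (l :: L') := by
      rw [SemidirectProduct.mul_left, FreeGroup.toWord_mul, hword, hl, toWord_letter]
      rfl
    rw [hw2, FreeGroup.reduce.cons, hred]
    cases L' with
    | nil =>
      cases n with
      | zero => exact ⟨1, G.one_mem, by simp [FreeGroup.one_eq_mk]⟩
      | succ n =>
        obtain ⟨g', hg', hg'l⟩ := key 0
        refine ⟨g', hg', ?_⟩
        rw [hg'l, hl]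
        simp [letter, FreeGroup.one_eq_mk]
    | cons l' L'' =>
      dsimp only
      split_ifs with hc
      · obtain ⟨g', hg', hg'l⟩ := key (n + 1)
        refine ⟨g', hg', ?_⟩
        rw [hg'l, hl, List.take_succ_cons]
        unfold letter
        rw [FreeGroup.mul_mk, List.singleton_append, mk_cons_cons_cancel l l' _ hc]
      · cases n with
        | zero => exact ⟨1, G.one_mem, by simp [FreeGroup.one_eq_mk]⟩
        | succ n =>
          obtain ⟨g', hg', hg'l⟩ := key n
          refine ⟨g', hg', ?_⟩
          rw [hg'l, hl, List.take_succ_cons]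
          unfold letter
          rw [FreeGroup.mul_mk, List.singleton_append]

/-- (PREF) prefix closure of the orbit of the base vertex. -/
theorem pref_closure (T : Set (Amb X Q)) (hT : ∀ t ∈ T, t.left.norm ≤ 1) :
    ∀ g ∈ Subgroup.closure T, ∀ n : ℕ, ∃ g' ∈ Subgroup.closure T,
      g'.left = FreeGroup.mk (g.left.toWord.take n) := by
  intro g hg
  induction hg using Subgroup.closure_induction_left with
  | one =>
    intro n
    exact ⟨1, Subgroup.one_mem _, by simp [FreeGroup.one_eq_mk]⟩
  | mul_left t ht y hy ih =>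
    exact pref_step _ t y (Subgroup.subset_closure ht) (hT t ht) ih
  | inv_mul_cancel t ht y hy ih =>
    refine pref_step _ t⁻¹ y (Subgroup.inv_mem _ (Subgroup.subset_closure ht)) ?_ ih
    rw [SemidirectProduct.inv_left, norm_actAut, FreeGroup.norm_inv_eq]
    exact hT t ht

end Generic

end Cfsg.Agent.Lib.H18.LS
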