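import Cfsg.Agent.Lib.H18.LeonardConfig
import Cfsg.Agent.Lib.H4.PSolvSub
import Cfsg.Agent.Lib.H1.PSolvDual
import Cfsg.Agent.Lib.H1.CoprimeSylow
import Cfsg.Agent.Lib.H1.Complement
import Cfsg.Agent.Lib.L0.CharOps

/-!
# Leonard's theorem (Isaacs, *Character theory*, Problem 13.?) -- helper18

A `p`-solvable group with a TI Sylow `p`-subgroup `P` and a faithful character `χ` with
`χ(1)² ≤ |P|` has `P` normal.  Minimal counterexample, reducing to `Leonard.config_degree`.
-/

set_option autoImplicit false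

namespace Cfsg.Agent.Lib.H18.Leonard

open Cfsg Cfsg.Agent.Lib.L0
open scoped Pointwise

universe u

/-- the hypotheses of Leonard's theorem, for a subgroup `P` of `G`. -/
structure Hyp (p : ℕ) (G : Type u) [Group G] (P : Subgroup G) : Prop where
  psolv : Cfsg.IsPSolvable p G
  sylow : ∃ S : Sylow p G, (S : Subgroup G) = P
  ti : ∀ g : G, g ∉ Subgroup.normalizer (P : Set G) → P ⊓ MulAut.conj g • P = ⊥
  char : ∃ χ : G → ℂ, IsCharacter G χ ∧ (∀ g, χ g = χ 1 → g = 1) ∧
    ∃ n : ℕ, χ 1 = n ∧ n ^ 2 ≤ Nat.card P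

theorem Hyp.subgroup {p : ℕ} [Fact p.Prime] {G : Type u} [Group G] {P : Subgroup G}
    (h : Hyp p G P) (H : Subgroup G) (hPH : P ≤ H) : Hyp p ↥H (P.subgroupOf H) := by
  obtain ⟨S, hS⟩ := h.sylow
  refine ⟨Cfsg.Agent.Lib.H4.PSolvSub.isPSolvable_subgroup h.psolv H, ?_, ?_, ?_⟩
  · subst hS
    exact ⟨S.subtype hPH, Sylow.coe_subtype _ _⟩
  · intro g hg
    have hg' : (g : G) ∉ Subgroup.normalizer (P : Set G) := by
      intro hgn
      apply hg
      rw [Subgroup.mem_normalizer_iff] at hgn ⊢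
      intro x
      rw [Subgroup.mem_subgroupOf, Subgroup.mem_subgroupOf]
      have := hgn (x : G)
      simpa using this
    have h1 := h.ti g hg'
    rw [eq_bot_iff]
    intro x hx
    rw [Subgroup.mem_inf, Cfsg.Agent.Lib.H1.mem_conj_smul_iff, Subgroup.mem_subgroupOf,
      Subgroup.mem_subgroupOf] at hx
    have hx1 : (x : G) ∈ P ⊓ MulAut.conj (g : G) • P := by
      rw [Subgroup.mem_inf, Cfsg.Agent.Lib.H1.mem_conj_smul_iff]
      refine ⟨hx.1, ?_⟩
      simpa using hx.2
    rw [h1, Subgroup.mem_bot] at hx1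
    rw [Subgroup.mem_bot]
    exact Subtype.ext hx1
  · obtain ⟨χ, hχ, hfaith, n, hn, hle⟩ := h.char
    refine ⟨fun g : H => χ g, isCharacter_restrict H hχ, ?_, n, ?_, ?_⟩
    · intro g hg
      have := hfaith (g : G) (by simpa using hg)
      exact Subtype.ext this
    · simpa using hn
    · rw [Nat.card_congr (Subgroup.subgroupOfEquivOfLe hPH).toEquiv]
      exact hle

/-- two subgroups normalising each other and meeting trivially commute. -/
theorem le_centralizer_of_normalize {G : Type u} [Group G] {A B : Subgroup G}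
    (hAB : A ≤ Subgroup.normalizer (B : Set G)) (hBA : B ≤ Subgroup.normalizer (A : Set G))
    (hinf : A ⊓ B = ⊥) : A ≤ Subgroup.centralizer (B : Set G) := by
  intro a ha
  rw [Subgroup.mem_centralizer_iff]
  intro b hb
  have h1 : a * b * a⁻¹ * b⁻¹ ∈ A := by
    have : b * a⁻¹ * b⁻¹ ∈ A := by
      have := (Subgroup.mem_normalizer_iff.mp (hBA hb) a⁻¹).mp (A.inv_mem ha)
      exact this
    have h2 := A.mul_mem ha this
    simpa [mul_assoc] using h2
  have h2 : a * b * a⁻¹ * b⁻¹ ∈ B := by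
    have : a * b * a⁻¹ ∈ B := (Subgroup.mem_normalizer_iff.mp (hAB ha) b).mp hb
    exact B.mul_mem this (B.inv_mem hb)
  have h3 : a * b * a⁻¹ * b⁻¹ ∈ A ⊓ B := ⟨h1, h2⟩
  rw [hinf, Subgroup.mem_bot] at h3
  have : a * b = b * a := by
    have := congrArg (fun t => t * b * a) h3
    simpa [mul_assoc] using this
  exact this.symm

theorem main (p : ℕ) [hp : Fact p.Prime] : ∀ (N : ℕ) (G : Type u) [Group G] [Finite G]
    (P : Subgroup G), Nat.card G = N → Hyp p G P → P.Normal := by
  intro N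
  induction N using Nat.strong_induction_on with
  | _ N IH =>
  intro G _ _ P hcard hyp
  by_contra hnn
  have IH' : ∀ H : Subgroup G, P ≤ H → H ≠ ⊤ → H ≤ Subgroup.normalizer (P : Set G) := by
    intro H hPH hH
    have hlt : Nat.card H < N := by
      rw [← hcard]
      exact lt_of_le_of_ne (Subgroup.card_le_card_group H)
        (fun h => hH (Subgroup.eq_top_of_card_eq H h))
    have := IH (Nat.card H) hlt ↥H (P.subgroupOf H) rfl (hyp.subgroup H hPH)
    exact (Subgroup.normal_subgroupOf_iff_le_normalizer hPH).mp this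
  obtain ⟨S, hS⟩ := hyp.sylow
  have hPp : IsPGroup p P := hS ▸ S.isPGroup'
  have hti := hyp.ti
  obtain ⟨χ, hχ, hfaith, n, hn, hle⟩ := hyp.char
  -- `O_p(G) = 1`
  have hOp : Cfsg.pCore p G = ⊥ := by
    by_contra hne
    apply hnn
    rw [← Subgroup.normalizer_eq_top_iff, eq_top_iff]
    intro g _
    by_contra hg
    have h1 := hti g hg
    apply hne
    rw [eq_bot_iff, ← h1]
    have hle1 : Cfsg.pCore p G ≤ P := hS ▸ Cfsg.Agent.Lib.H1.pCore_le_sylow S
    refine le_inf hle1 ?_
    intro x hx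
    rw [Cfsg.Agent.Lib.H1.mem_conj_smul_iff]
    apply hle1
    have hN := Cfsg.Agent.Lib.H1.pCore_normal p G
    have := hN.conj_mem x hx g⁻¹
    simpa using this
  set K := Cfsg.pPrimeCore p G with hKdef
  have hKn : K.Normal := Cfsg.Agent.Lib.H22.pPrimeCore_normal p
  have hKcop : (Nat.card K).Coprime p := Cfsg.Agent.Lib.H22.card_pPrimeCore_coprime p
  have hCK : Subgroup.centralizer (K : Set G) ≤ K :=
    Cfsg.Agent.Lib.H1.PSolvDual.centralizer_pPrimeCore_le_of_isPSolvable p hyp.psolv hOp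
  have hcopPK : (Nat.card P).Coprime (Nat.card K) := by
    obtain ⟨e, he⟩ := IsPGroup.iff_card.mp hPp
    rw [he]
    exact (Nat.Coprime.pow_right e hKcop).symm
  have hKP : K ⊓ P = ⊥ := (Subgroup.disjoint_of_coprime_natCard hcopPK.symm).eq_bot
  have hPne : P ≠ ⊥ := by
    rintro rfl
    exact hnn inferInstance
  have hPNK : P ≤ Subgroup.normalizer (K : Set G) := by
    rw [Subgroup.normalizer_eq_top_iff.mpr hKn]; exact le_top
  -- `K P = G`
  have hKPtop : K ⊔ P = ⊤ := by
    by_contra hne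
    have h1 := IH' (K ⊔ P) le_sup_right hne
    have hKNP : K ≤ Subgroup.normalizer (P : Set G) := le_sup_left.trans h1
    have h2 : P ≤ Subgroup.centralizer (K : Set G) :=
      le_centralizer_of_normalize hPNK hKNP (by rwa [inf_comm])
    have h3 : P ≤ K ⊓ P := le_inf (h2.trans hCK) le_rfl
    rw [hKP] at h3
    exact hPne (eq_bot_iff.mpr h3)
  have hmin : ∀ Y : Subgroup G, Y ≤ K → P ≤ Subgroup.normalizer (Y : Set G) → Y ≠ K →
      Y ≤ Subgroup.centralizer (P : Set G) := by
    intro Y hYK hPY hYne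
    have hne : Y ⊔ P ≠ ⊤ := by
      intro htop
      apply hYne
      apply le_antisymm hYK
      intro k hk
      have hk' : k ∈ Y ⊔ P := by rw [htop]; trivial
      obtain ⟨y, hy, x, hx, rfl⟩ := Cfsg.Agent.Lib.H1.mem_sup_of_le_normalizer hPY hk'
      have hxK : x ∈ K := by
        have := K.mul_mem (K.inv_mem (hYK hy)) hk
        simpa using this
      have hx1 : x ∈ K ⊓ P := ⟨hxK, hx⟩
      rw [hKP, Subgroup.mem_bot] at hx1
      rw [hx1, mul_one]; exact hy
    have h1 := IH' (Y ⊔ P) le_sup_right hne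
    have hYNP : Y ≤ Subgroup.normalizer (P : Set G) := le_sup_left.trans h1
    apply le_centralizer_of_normalize hYNP hPY
    rw [eq_bot_iff, ← hKP]
    exact inf_le_inf_right _ hYK
  have hnc : ¬ K ≤ Subgroup.centralizer (P : Set G) := by
    intro h
    have h2 : P ≤ Subgroup.centralizer (K : Set G) := Subgroup.le_centralizer_iff.mp h
    have h3 : P ≤ K ⊓ P := le_inf (h2.trans hCK) le_rfl
    rw [hKP] at h3
    exact hPne (eq_bot_iff.mpr h3)
  have hPsolv : Group.IsSolvable P := by
    have := hPp.isNilpotent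
    infer_instance
  have hcop : Cfsg.Agent.Lib.H1.CoprimeAction P K := ⟨hPNK, hcopPK, Or.inl hPsolv⟩
  obtain ⟨q, hq, hKq⟩ : ∃ q : ℕ, q.Prime ∧ IsPGroup q K := by
    by_contra hno
    push Not at hno
    apply hnc
    have hdvd : Nat.card K ∣ Nat.card ↥(K ⊓ Subgroup.centralizer (P : Set G)) := by
      rw [← Nat.factorization_prime_le_iff_dvd Nat.card_pos.ne' Nat.card_pos.ne']
      intro q hq
      have : Fact q.Prime := ⟨hq⟩
      obtain ⟨Y, ⟨hYK, hYcard⟩, hPY⟩ := Cfsg.Agent.Lib.H1.coprime_exists_invariant_sylow hcop q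
      have hYne : Y ≠ K := by
        rintro rfl
        exact hno q hq (IsPGroup.of_card hYcard)
      have hYC : Y ≤ K ⊓ Subgroup.centralizer (P : Set G) := le_inf hYK (hmin Y hYK hPY hYne)
      have := Subgroup.card_dvd_of_le hYC
      rw [hYcard] at this
      exact (hq.pow_dvd_iff_le_factorization Nat.card_pos.ne').mp this
    have hCK' : K ⊓ Subgroup.centralizer (P : Set G) = K := by
      apply Subgroup.eq_of_le_of_card_ge inf_le_left
      exact Nat.le_of_dvd Nat.card_pos hdvd
    rw [← hCK']; exact inf_le_right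
  have hKne : K ≠ ⊥ := by
    intro hK
    apply hnc; rw [hK]; exact bot_le
  have hpq : p ≠ q := by
    rintro rfl
    obtain ⟨e, he⟩ := IsPGroup.iff_card.mp hKq
    have he0 : e ≠ 0 := by
      rintro rfl
      apply hKne
      rw [pow_zero] at he
      exact Subgroup.card_eq_one.mp he
    rw [he] at hKcop
    have := (Nat.coprime_pow_left_iff (Nat.pos_of_ne_zero he0) p p).mp hKcop
    exact hp.out.one_lt.ne' ((Nat.coprime_self p).mp this)
  have hfix : ∀ x ∈ P, x ≠ 1 →
      K ⊓ Subgroup.centralizer ({x} : Set G) = K ⊓ Subgroup.centralizer (P : Set G) := by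
    intro x hx hx1
    apply le_antisymm
    · intro k (hk : k ∈ K ⊓ Subgroup.centralizer ({x} : Set G))
      obtain ⟨hkK, hkx⟩ := Subgroup.mem_inf.mp hk
      have hkx' : x * k = k * x := (Subgroup.mem_centralizer_singleton_iff.mp hkx).symm
      have hkN : k ∈ Subgroup.normalizer (P : Set G) := by
        by_contra hkn
        have h1 := hti k hkn
        have : x ∈ P ⊓ MulAut.conj k • P := by
          refine Subgroup.mem_inf.mpr ⟨hx, ?_⟩
          rw [Cfsg.Agent.Lib.H1.mem_conj_smul_iff]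
          have : k⁻¹ * x * k = x := by
            rw [mul_assoc, hkx', ← mul_assoc, inv_mul_cancel, one_mul]
          rw [this]; exact hx
        rw [h1, Subgroup.mem_bot] at this
        exact hx1 this
      refine Subgroup.mem_inf.mpr ⟨hkK, ?_⟩
      rw [Subgroup.mem_centralizer_iff]
      intro y hy
      have h1 : k * y * k⁻¹ * y⁻¹ ∈ K := by
        have := K.mul_mem hkK (hKn.conj_mem k⁻¹ (K.inv_mem hkK) y)
        simpa [mul_assoc] using this
      have h2 : k * y * k⁻¹ * y⁻¹ ∈ P :=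
        P.mul_mem ((Subgroup.mem_normalizer_iff.mp hkN y).mp hy) (P.inv_mem hy)
      have h3 : k * y * k⁻¹ * y⁻¹ ∈ K ⊓ P := ⟨h1, h2⟩
      rw [hKP, Subgroup.mem_bot] at h3
      have := congrArg (fun t => t * y * k) h3
      simpa [mul_assoc] using this.symm
    · exact inf_le_inf_left _ (Subgroup.centralizer_le (Set.singleton_subset_iff.mpr hx))
  obtain ⟨k, hkK, hk1⟩ : ∃ k ∈ K, k ≠ 1 := by
    by_contra h
    push Not at h
    exact hKne ((Subgroup.eq_bot_iff_forall K).mpr h)
  have hχk : χ k ≠ χ 1 := fun h => hk1 (hfaith k h)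
  let _ : Fintype G := Fintype.ofFinite G
  let _ : Fintype K := Fintype.ofFinite K
  have : Fact q.Prime := ⟨hq⟩
  have := config_degree p q K P hPp hKq hpq hmin hnc hfix χ hχ k hkK hχk n hn
  omega

end Cfsg.Agent.Lib.H18.Leonard
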