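import Mathlib

/-!
# Derived length of Sylow subgroups of symmetric groups (helper18)

* `derivedSeries_smul_eq_of_isPGroup`: a `p`-group acting on `m` points: its `⌊log_p m⌋`-th derived
  subgroup acts trivially.
* `derivedSeries_wreath_ne_bot`: `dl (D ≀ᵣ Q) ≥ dl D + 1` for `Q` abelian nontrivial.
-/

set_option autoImplicit false

namespace Cfsg.Agent.Lib.H18

open scoped commutatorElement

section DerivedSub

variable {G : Type*} [Group G]

/-- If `G' ≤ H`, then `G^(j+1) ≤ H^(j)`. -/
theorem derivedSeries_succ_le_map_subtype (H : Subgroup G) (hH : commutator G ≤ H) (j : ℕ) :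
    derivedSeries G (j + 1) ≤ (derivedSeries H j).map H.subtype := by
  induction j with
  | zero =>
    rw [derivedSeries_zero, ← MonoidHom.range_eq_map, Subgroup.range_subtype]
    exact hH
  | succ j ih =>
    rw [derivedSeries_succ G (j + 1), derivedSeries_succ H j, Subgroup.map_commutator]
    exact Subgroup.commutator_mono ih ih

end DerivedSub

section PGroupAction

universe u v

/-- A `p`-group acting on a set of size `m`: the `⌊log_p m⌋`-th derived subgroup acts trivially. -/
theorem derivedSeries_smul_eq_of_isPGroup (p : ℕ) [hp : Fact p.Prime] :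
    ∀ (m : ℕ) (P : Type u) [Group P] [Finite P] (_ : IsPGroup p P) (Ω : Type v) [Finite Ω]
      [MulAction P Ω], Nat.card Ω = m →
      ∀ g ∈ derivedSeries P (Nat.log p m), ∀ x : Ω, g • x = x := by
  intro m
  induction m using Nat.strong_induction_on with
  | _ m ih =>
  intro P _ _ hP Ω _ _ hm g hg x
  classical
  by_cases hlt : Nat.card (MulAction.orbit P x) < m
  · -- smaller orbit
    have h1 := ih _ hlt P hP (MulAction.orbit P x) rfl g
      (derivedSeries_antitone P (Nat.log_mono_right hlt.le) hg) ⟨x, MulAction.mem_orbit_self x⟩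
    exact congrArg Subtype.val h1
  · -- the orbit is everything
    have hle : Nat.card (MulAction.orbit P x) ≤ m := by
      rw [← hm]
      exact Nat.card_le_card_of_injective _ Subtype.val_injective
    have horb : Nat.card (MulAction.orbit P x) = m := le_antisymm hle (not_lt.mp hlt)
    set S := MulAction.stabilizer P x with hS
    have hSidx : S.index = m := by
      rw [← horb, MulAction.index_stabilizer, Nat.card_coe_set_eq]
    obtain ⟨a, ha⟩ := hP.index S
    rw [hSidx] at ha
    rcases Nat.eq_zero_or_pos a with ha0 | hapos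
    · -- `m = 1`
      rw [ha0, pow_zero] at ha
      rw [ha] at hSidx
      have : S = ⊤ := Subgroup.index_eq_one.mp hSidx
      have hgS : g ∈ S := by rw [this]; trivial
      exact hgS
    · -- `m = p ^ a`, `a ≥ 1`
      obtain ⟨N, hN⟩ := hP.exists_card_eq
      have hScard : Nat.card S * p ^ a = p ^ N := by
        rw [← hN, ← ha, ← hSidx, mul_comm, Subgroup.index_mul_card]
      have haN : a ≤ N := by
        by_contra hcon
        push Not at hcon
        have h1 : p ^ N < p ^ a := Nat.pow_lt_pow_right hp.out.one_lt hcon
        have h2 : p ^ a ≤ Nat.card S * p ^ a := Nat.le_mul_of_pos_left _ Nat.card_pos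
        omega
      have hScard' : Nat.card S = p ^ (N - a) := by
        have h3 : p ^ N = p ^ (N - a) * p ^ a := by rw [← pow_add]; congr 1; omega
        rw [h3] at hScard
        exact Nat.eq_of_mul_eq_mul_right (pow_pos hp.out.pos a) hScard
      obtain ⟨M, hMcard, hSM⟩ := Sylow.exists_subgroup_card_pow_prime_le p
        (n := N - a) (m := N - 1) (by rw [hN]; exact pow_dvd_pow p (by omega)) S hScard' (by omega)
      have hMidx : M.index = p := by
        have h4 := M.index_mul_card
        rw [hMcard, hN] at h4
        have h5 : p ^ N = p * p ^ (N - 1) := by rw [← pow_succ']; congr 1; omega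
        rw [h5] at h4
        exact Nat.eq_of_mul_eq_mul_right (pow_pos hp.out.pos _) h4
      have hMn : M.Normal := by
        apply Subgroup.normal_of_index_eq_minFac_card
        rw [hMidx, hN, Nat.Prime.pow_minFac hp.out (by omega)]
      have hcomm : commutator P ≤ M := by
        rw [← Subgroup.Normal.quotient_commutative_iff_commutator_le]
        have hc : Nat.card (P ⧸ M) = p := hMidx
        have : IsCyclic (P ⧸ M) := isCyclic_of_prime_card hc
        exact ⟨⟨IsCyclic.commGroup.mul_comm⟩⟩
      -- the `M`-orbit of `x` is smaller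
      have hMorb : Nat.card (MulAction.orbit M x) < m := by
        have h6 : MulAction.stabilizer M x = S.subgroupOf M := by
          ext h
          simp [hS, Subgroup.mem_subgroupOf, MulAction.mem_stabilizer_iff, Subgroup.smul_def]
        have h7 : Nat.card (MulAction.orbit M x) = S.relIndex M := by
          rw [Subgroup.relIndex, ← h6, MulAction.index_stabilizer, Nat.card_coe_set_eq]
        have h8 := Subgroup.relIndex_mul_index hSM
        rw [hSidx, hMidx, ← h7] at h8
        have hppos := hp.out.one_lt
        have hmpos : 0 < m := by rw [ha]; exact pow_pos hp.out.pos a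
        nlinarith
      have hlog : Nat.log p (Nat.card (MulAction.orbit M x)) + 1 ≤ Nat.log p m := by
        have h6 : MulAction.stabilizer M x = S.subgroupOf M := by
          ext h
          simp [hS, Subgroup.mem_subgroupOf, MulAction.mem_stabilizer_iff, Subgroup.smul_def]
        have h7 : Nat.card (MulAction.orbit M x) = S.relIndex M := by
          rw [Subgroup.relIndex, ← h6, MulAction.index_stabilizer, Nat.card_coe_set_eq]
        have h8 := Subgroup.relIndex_mul_index hSM
        rw [hSidx, hMidx, ← h7] at h8
        rw [← h8, Nat.log_mul_base hp.out.one_lt]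
        intro h0
        rw [h0, zero_mul] at h8
        have hmpos : 0 < m := by rw [ha]; exact pow_pos hp.out.pos a
        omega
      have hg' : g ∈ derivedSeries P (Nat.log p (Nat.card (MulAction.orbit M x)) + 1) :=
        derivedSeries_antitone P hlog hg
      obtain ⟨h, hh, rfl⟩ := derivedSeries_succ_le_map_subtype M hcomm _ hg'
      have h9 := ih _ hMorb M (hP.to_subgroup M) (MulAction.orbit M x) rfl h hh
        ⟨x, MulAction.mem_orbit_self x⟩
      exact congrArg Subtype.val h9

end PGroupAction

section DerivedSub2

variable {G : Type*} [Group G]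

/-- If `H ≤ G'`, then `H^(j) ≤ G^(j+1)`. -/
theorem map_subtype_derivedSeries_le (H : Subgroup G) (hH : H ≤ commutator G) (j : ℕ) :
    (derivedSeries H j).map H.subtype ≤ derivedSeries G (j + 1) := by
  induction j with
  | zero =>
    rw [derivedSeries_zero, ← MonoidHom.range_eq_map, Subgroup.range_subtype]
    exact hH
  | succ j ih =>
    rw [derivedSeries_succ G (j + 1), derivedSeries_succ H j, Subgroup.map_commutator]
    exact Subgroup.commutator_mono ih ih

end DerivedSub2

section Wreath

open RegularWreathProduct

variable {D Q : Type*} [Group D] [CommGroup Q]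

/-- Evaluation of the base component at `1`, on the derived subgroup of `D ≀ᵣ Q`, `Q` abelian. -/
noncomputable def wreathEval (D Q : Type*) [Group D] [CommGroup Q] :
    ↥(commutator (D ≀ᵣ Q)) →* D where
  toFun w := w.1.left 1
  map_one' := rfl
  map_mul' := by
    intro a b
    have ha : a.1.right = 1 := by
      have := Abelianization.commutator_subset_ker (rightHom : D ≀ᵣ Q →* Q) a.2
      exact this
    change (a.1 * b.1).left 1 = a.1.left 1 * b.1.left 1
    rw [mul_left, ha]
    simp

theorem wreathEval_surjective [Nontrivial Q] : Function.Surjective (wreathEval D Q) := by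
  classical
  intro d
  obtain ⟨q, hq⟩ := exists_ne (1 : Q)
  let w1 : D ≀ᵣ Q := ⟨Pi.mulSingle 1 d, 1⟩
  let w2 : D ≀ᵣ Q := ⟨1, q⟩
  have hmem : ⁅w1, w2⁆ ∈ commutator (D ≀ᵣ Q) := by
    rw [commutator_eq_closure]
    exact Subgroup.subset_closure (commutator_mem_commutatorSet w1 w2)
  refine ⟨⟨⁅w1, w2⁆, hmem⟩, ?_⟩
  change (⁅w1, w2⁆).left 1 = d
  rw [commutatorElement_def]
  simp only [mul_left, mul_right, inv_left, inv_right, w1, w2, Pi.mul_apply, Pi.inv_apply,
    Pi.one_apply, inv_one, one_mul, mul_one, Pi.mulSingle_eq_same]
  have : (Pi.mulSingle (1 : Q) d : Q → D) q⁻¹ = 1 := by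
    apply Pi.mulSingle_eq_of_ne
    intro h
    exact hq (inv_eq_one.mp h)
  simp [this]

theorem derivedSeries_wreath_ne_bot [Nontrivial Q] (j : ℕ) (h : derivedSeries D j ≠ ⊥) :
    derivedSeries (D ≀ᵣ Q) (j + 1) ≠ ⊥ := by
  set K := commutator (D ≀ᵣ Q) with hK
  have h1 : derivedSeries K j ≠ ⊥ := by
    intro hbot
    apply h
    have := derivedSeries_le_map_derivedSeries (wreathEval_surjective (D := D) (Q := Q)) j
    rw [hbot, Subgroup.map_bot] at this
    exact le_bot_iff.mp this
  intro hbot
  apply h1
  have h2 := map_subtype_derivedSeries_le K le_rfl j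
  rw [hbot, le_bot_iff] at h2
  exact (Subgroup.map_eq_bot_iff_of_injective _ K.subtype_injective).mp h2

end Wreath

section Iterated

universe u

theorem derivedSeries_iteratedWreath_ne_bot (G : Type u) [CommGroup G] [Nontrivial G] (k : ℕ) :
    derivedSeries (IteratedWreathProduct G (k + 1)) k ≠ ⊥ := by
  induction k with
  | zero =>
    rw [derivedSeries_zero]
    intro h
    obtain ⟨g, hg⟩ := exists_ne (1 : G)
    let w : IteratedWreathProduct G (0 + 1) :=
      (RegularWreathProduct.inl g : IteratedWreathProduct G 0 ≀ᵣ G)
    have hw' : w ∈ (⊥ : Subgroup (IteratedWreathProduct G (0 + 1))) := by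
      rw [← h]; exact Subgroup.mem_top _
    have h1 : w = 1 := Subgroup.mem_bot.mp hw'
    have h2 : RegularWreathProduct.right (D := IteratedWreathProduct G 0) (Q := G) w =
        RegularWreathProduct.right (D := IteratedWreathProduct G 0) (Q := G) 1 := congrArg _ h1
    exact hg h2
  | succ k ih =>
    exact derivedSeries_wreath_ne_bot (D := IteratedWreathProduct G (k + 1)) (Q := G) k ih

end Iterated

section Sylow

theorem derivedSeries_sylow_perm (p : ℕ) [hp : Fact p.Prime] (n : ℕ)
    (P : Sylow p (Equiv.Perm (Fin n))) :
    derivedSeries ↥(P : Subgroup (Equiv.Perm (Fin n))) (Nat.log p n) = ⊥ ∧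
    (1 ≤ Nat.log p n →
      derivedSeries ↥(P : Subgroup (Equiv.Perm (Fin n))) (Nat.log p n - 1) ≠ ⊥) := by
  constructor
  · rw [eq_bot_iff]
    intro g hg
    rw [Subgroup.mem_bot]
    have h1 := derivedSeries_smul_eq_of_isPGroup p n ↥(P : Subgroup (Equiv.Perm (Fin n)))
      P.isPGroup' (Fin n) (by simp) g hg
    apply Subtype.ext
    ext x
    have := h1 x
    rw [Subgroup.smul_def, Equiv.Perm.smul_def] at this
    rw [this]
    rfl
  · intro hk
    obtain ⟨j, hj⟩ : ∃ j, Nat.log p n = j + 1 := ⟨Nat.log p n - 1, by omega⟩
    have hpow : p ^ (j + 1) ≤ n := by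
      rw [← hj]
      apply Nat.pow_log_le_self p
      intro h0
      rw [h0] at hj
      simp at hj
    let G := Multiplicative (ZMod p)
    have : Fact (1 < p) := ⟨hp.out.one_lt⟩
    have hnt : Nontrivial G := inferInstance
    let W := IteratedWreathProduct G (j + 1)
    have hGcard : Nat.card G = p := by
      rw [Nat.card_eq_fintype_card, Fintype.card_multiplicative, ZMod.card]
    -- embed `W` in `Perm (Fin n)`
    have hcard : Fintype.card (Fin (j + 1) → G) ≤ Fintype.card (Fin n) := by
      rw [Fintype.card_fun, Fintype.card_fin, Fintype.card_fin, Fintype.card_multiplicative,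
        ZMod.card]
      exact hpow
    obtain ⟨ι⟩ := Function.Embedding.nonempty_of_card_le hcard
    let f : W →* Equiv.Perm (Fin n) :=
      (Equiv.Perm.viaEmbeddingHom ι).comp (iteratedWreathToPermHom G (j + 1))
    have hf : Function.Injective f :=
      (Equiv.Perm.viaEmbeddingHom_injective ι).comp (iteratedWreathToPermHomInj G (j + 1))
    have hWp : IsPGroup p W := by
      apply IsPGroup.of_card (n := ∑ i ∈ Finset.range (j + 1), p ^ i)
      rw [IteratedWreathProduct.card, hGcard]
    have hrange : IsPGroup p ↥f.range :=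
      hWp.of_surjective f.rangeRestrict f.rangeRestrict_surjective
    obtain ⟨Q, hQ⟩ := hrange.exists_le_sylow
    let e : ↥(Q : Subgroup (Equiv.Perm (Fin n))) ≃* ↥(P : Subgroup (Equiv.Perm (Fin n))) :=
      Sylow.equiv Q P
    let φ : W →* ↥(P : Subgroup (Equiv.Perm (Fin n))) :=
      e.toMonoidHom.comp ((Subgroup.inclusion hQ).comp f.rangeRestrict)
    have hφ : Function.Injective φ := by
      refine e.injective.comp ((Subgroup.inclusion_injective hQ).comp ?_)
      exact MonoidHom.rangeRestrict_injective_iff.mpr hf
    have hW := derivedSeries_iteratedWreath_ne_bot G j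
    rw [hj]
    simp only [Nat.add_sub_cancel]
    intro hbot
    apply hW
    rw [eq_bot_iff]
    intro w hw
    rw [Subgroup.mem_bot]
    have h1 : φ w ∈ derivedSeries ↥(P : Subgroup (Equiv.Perm (Fin n))) j :=
      map_derivedSeries_le_derivedSeries φ j ⟨w, hw, rfl⟩
    rw [hbot, Subgroup.mem_bot] at h1
    exact hφ (h1.trans (map_one φ).symm)

end Sylow

end Cfsg.Agent.Lib.H18
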