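import Mathlib
import Cfsg.Agent.Lib.H18.SylowSymDL

set_option autoImplicit false

namespace Cfsg.Agent.Lib.H18

open Module Polynomial

/-- the derived length bound for linear `p`-groups -/
def linDL (n : ℕ) : ℕ := if n = 0 then 0 else Nat.log 2 n + 1

theorem linDL_mono {m n : ℕ} (h : m ≤ n) : linDL m ≤ linDL n := by
  unfold linDL
  split_ifs with h1 h2 h2
  · exact le_rfl
  · exact Nat.zero_le _
  · omega
  · exact Nat.add_le_add_right (Nat.log_mono_right h) 1

theorem linDL_half (n : ℕ) (hn : 1 ≤ n) : 1 + linDL (n / 2) ≤ linDL n := by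
  unfold linDL
  rcases (by omega : n = 1 ∨ 2 ≤ n) with rfl | h2
  · simp
  · have h3 : n / 2 ≠ 0 := by omega
    have h4 : n ≠ 0 := by omega
    simp only [h3, h4, if_false]
    have := Nat.log_div_base 2 n
    have h5 : 1 ≤ Nat.log 2 n := Nat.log_pos (by norm_num) h2
    omega

theorem linDL_pos {n : ℕ} (hn : 1 ≤ n) : 1 ≤ linDL n := by
  unfold linDL
  have : n ≠ 0 := by omega
  simp [this]

section semisimple

variable {K : Type*} [Field K] {V : Type*} [AddCommGroup V] [Module K V]
  {P : Type*} [Group P] [Finite P]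

theorem isSemisimple_of_isPGroup (p : ℕ) [Fact p.Prime] (hpK : (p : K) ≠ 0) (hP : IsPGroup p P)
    (ρ : Representation K P V) (g : P) : Module.End.IsSemisimple (ρ g) := by
  obtain ⟨k, hk⟩ := hP g
  have h1 : (ρ g) ^ (p ^ k) = 1 := by rw [← map_pow, hk, map_one]
  have hsq : Squarefree (X ^ (p ^ k) - C (1 : K)) := by
    apply Separable.squarefree
    apply separable_X_pow_sub_C
    · exact_mod_cast pow_ne_zero k hpK
    · exact one_ne_zero
  apply Module.End.isSemisimple_of_squarefree_aeval_eq_zero hsq
  simp [h1]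

theorem eq_one_of_eigenspaces [IsAlgClosed K] [FiniteDimensional K V] {T : Module.End K V}
    (hT : T.IsSemisimple) (x : Module.End K V)
    (hx : ∀ μ : K, ∀ w ∈ T.eigenspace μ, x w = w) : x = 1 := by
  have h1 : (⨆ μ : K, T.eigenspace μ) ≤ LinearMap.eqLocus x 1 := by
    apply iSup_le
    intro μ w hw
    exact hx μ w hw
  rw [hT.iSup_eigenspace_eq_top] at h1
  ext v
  exact h1 (Submodule.mem_top (x := v))

end semisimple


section charnp

universe u v w

variable {K : Type w} [Field K]

/-- the preimage of the centre of the image of a representation -/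
def repCenter {P : Type u} [Group P] {V : Type v} [AddCommGroup V] [Module K V]
    (ρ : Representation K P V) : Subgroup P where
  carrier := {z | ∀ g, ρ z * ρ g = ρ g * ρ z}
  one_mem' := by intro g; simp
  mul_mem' := by
    intro x y hx hy g
    rw [map_mul, mul_assoc, hy g, ← mul_assoc, hx g, mul_assoc]
  inv_mem' := by
    intro x hx g
    have h1 : ρ x⁻¹ * ρ x = 1 := by rw [← map_mul, inv_mul_cancel, map_one]
    have h2 : ρ x * ρ x⁻¹ = 1 := by rw [← map_mul, mul_inv_cancel, map_one]
    calc ρ x⁻¹ * ρ g = ρ x⁻¹ * ρ g * (ρ x * ρ x⁻¹) := by rw [h2, mul_one]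
      _ = ρ x⁻¹ * (ρ g * ρ x) * ρ x⁻¹ := by simp only [mul_assoc]
      _ = ρ x⁻¹ * (ρ x * ρ g) * ρ x⁻¹ := by rw [hx g]
      _ = (ρ x⁻¹ * ρ x) * ρ g * ρ x⁻¹ := by simp only [mul_assoc]
      _ = ρ g * ρ x⁻¹ := by rw [h1, one_mul]

theorem mem_repCenter {P : Type u} [Group P] {V : Type v} [AddCommGroup V] [Module K V]
    (ρ : Representation K P V) (z : P) : z ∈ repCenter ρ ↔ ∀ g, ρ z * ρ g = ρ g * ρ z := Iff.rfl

instance repCenter_normal {P : Type u} [Group P] {V : Type v} [AddCommGroup V] [Module K V]
    (ρ : Representation K P V) : (repCenter ρ).Normal := by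
  constructor
  intro z hz x g
  have h1 : ρ x⁻¹ * ρ x = 1 := by rw [← map_mul, inv_mul_cancel, map_one]
  have h2 : ρ x * ρ x⁻¹ = 1 := by rw [← map_mul, mul_inv_cancel, map_one]
  have e : ρ (x * z * x⁻¹) = ρ z := by
    rw [map_mul, map_mul, ← hz x, mul_assoc, h2, mul_one]
  rw [e]
  exact hz g


theorem rep_mul_inv {P : Type u} [Group P] {V : Type v} [AddCommGroup V] [Module K V]
    (ρ : Representation K P V) (x : P) : ρ x * ρ x⁻¹ = 1 := by
  rw [← map_mul, mul_inv_cancel, map_one]

theorem rep_inv_mul {P : Type u} [Group P] {V : Type v} [AddCommGroup V] [Module K V]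
    (ρ : Representation K P V) (x : P) : ρ x⁻¹ * ρ x = 1 := by
  rw [← map_mul, inv_mul_cancel, map_one]

/-- twisted commutation relation `A * x = c • (x * A)` -/
def TwComm {V : Type v} [AddCommGroup V] [Module K V] (A x : Module.End K V) (c : K) : Prop :=
  A * x = c • (x * A)

theorem TwComm.mul {V : Type v} [AddCommGroup V] [Module K V] {A x y : Module.End K V} {c d : K}
    (hx : TwComm A x c) (hy : TwComm A y d) : TwComm A (x * y) (c * d) := by
  unfold TwComm at *
  rw [← mul_assoc, hx, smul_mul_assoc, mul_assoc, hy, mul_smul_comm, smul_smul, mul_assoc]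

theorem TwComm.inv {V : Type v} [AddCommGroup V] [Module K V] {A x y : Module.End K V} {c : K}
    (hc : c ≠ 0) (hxy : x * y = 1) (hyx : y * x = 1)
    (hx : TwComm A x c) : TwComm A y c⁻¹ := by
  unfold TwComm at *
  -- A x = c x A  ⇒ y A x y = c y x A y ⇒ y A = c A y
  have h1 : y * A = c • (A * y) := by
    calc y * A = y * A * (x * y) := by rw [hxy, mul_one]
      _ = y * (A * x) * y := by simp only [mul_assoc]
      _ = y * (c • (x * A)) * y := by rw [hx]
      _ = c • ((y * x) * A * y) := by
          simp only [mul_smul_comm, smul_mul_assoc, mul_assoc]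
      _ = c • (A * y) := by rw [hyx, one_mul]
  rw [h1, smul_smul, inv_mul_cancel₀ hc, one_smul]


/-- the elements of `P` whose image commutes with the endomorphism `A` -/
def repCentralizer {P : Type u} [Group P] {V : Type v} [AddCommGroup V] [Module K V]
    (ρ : Representation K P V) (A : Module.End K V) : Subgroup P where
  carrier := {g | A * ρ g = ρ g * A}
  one_mem' := by simp
  mul_mem' := by
    intro x y hx hy
    simp only [Set.mem_ofPred_eq] at *
    rw [map_mul, ← mul_assoc, hx, mul_assoc, hy, mul_assoc]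
  inv_mem' := by
    intro x hx
    simp only [Set.mem_ofPred_eq] at *
    calc A * ρ x⁻¹ = (ρ x⁻¹ * ρ x) * A * ρ x⁻¹ := by rw [rep_inv_mul, one_mul]
      _ = ρ x⁻¹ * (ρ x * A) * ρ x⁻¹ := by simp only [mul_assoc]
      _ = ρ x⁻¹ * (A * ρ x) * ρ x⁻¹ := by rw [hx]
      _ = ρ x⁻¹ * A * (ρ x * ρ x⁻¹) := by simp only [mul_assoc]
      _ = ρ x⁻¹ * A := by rw [rep_mul_inv, mul_one]

theorem mem_repCentralizer {P : Type u} [Group P] {V : Type v} [AddCommGroup V] [Module K V]
    (ρ : Representation K P V) (A : Module.End K V) (g : P) :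
    g ∈ repCentralizer ρ A ↔ A * ρ g = ρ g * A := Iff.rfl

variable [IsAlgClosed K] (p : ℕ) [Fact p.Prime]

theorem derivedSeries_le_ker_of_ne_char (hpK : (p : K) ≠ 0) :
    ∀ (n : ℕ) (P : Type u) [Group P] [Finite P] (_ : IsPGroup p P) (V : Type v) [AddCommGroup V]
      [Module K V] [FiniteDimensional K V] (ρ : Representation K P V), finrank K V ≤ n →
      derivedSeries P (linDL n) ≤ MonoidHom.ker ρ := by
  intro n
  induction n using Nat.strong_induction_on with
  | _ n ih =>
  intro P _ _ hP V _ _ _ ρ hn
  -- zero-dimensional case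
  rcases Nat.eq_zero_or_pos (finrank K V) with h0 | hpos
  · intro g _
    rw [MonoidHom.mem_ker]
    have : Subsingleton V := (Module.finrank_eq_zero_iff_of_free K V).1 h0
    ext v; exact Subsingleton.elim _ _
  have hnt : Nontrivial V := (Module.finrank_pos_iff_of_free K V).1 hpos
  -- if finrank < n, use IH
  rcases lt_or_eq_of_le hn with hlt | heq
  · exact (derivedSeries_antitone P (linDL_mono hlt.le)).trans (ih _ hlt P hP V ρ le_rfl)
  have hn1 : 1 ≤ n := by omega
  have hone_ne : (1 : Module.End K V) ≠ 0 := one_ne_zero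
  -- Case 1: abelian image
  by_cases hab : ∀ g h : P, ρ g * ρ h = ρ h * ρ g
  · have h1 : derivedSeries P 1 ≤ MonoidHom.ker ρ := by
      rw [derivedSeries_one, commutator_def, Subgroup.commutator_le]
      intro g _ h _
      rw [MonoidHom.mem_ker, commutatorElement_def, map_mul, map_mul, map_mul, hab g h,
        mul_assoc (ρ h), rep_mul_inv, mul_one, rep_mul_inv]
    exact (derivedSeries_antitone P (linDL_pos hn1)).trans h1
  -- Case 2: a central element that is not a scalar
  by_cases hsc : ∃ z ∈ repCenter ρ, ∀ c : K, ρ z ≠ c • 1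
  · obtain ⟨z, hz, hzc⟩ := hsc
    have hinv : ∀ μ : K, ∀ g : P, Module.End.eigenspace (ρ z) μ ≤ (Module.End.eigenspace (ρ z) μ).comap (ρ g) := by
      intro μ g w hw
      rw [Submodule.mem_comap, Module.End.mem_eigenspace_iff]
      rw [Module.End.mem_eigenspace_iff] at hw
      have := LinearMap.congr_fun (hz g) w
      simp only [Module.End.mul_apply] at this
      rw [this, hw, map_smul]
    have hlt : ∀ μ : K, finrank K (Module.End.eigenspace (ρ z) μ) < n := by
      intro μ
      rw [← heq]
      apply Submodule.finrank_lt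
      intro htop
      apply hzc μ
      ext v
      have : v ∈ Module.End.eigenspace (ρ z) μ := by rw [htop]; trivial
      rw [Module.End.mem_eigenspace_iff] at this
      simpa using this
    intro g hg
    rw [MonoidHom.mem_ker]
    apply eq_one_of_eigenspaces (isSemisimple_of_isPGroup p hpK hP ρ z)
    intro μ w hw
    have h1 := ih _ (hlt μ) P hP (Module.End.eigenspace (ρ z) μ) (ρ.subrepresentation _ (hinv μ)) le_rfl
    have h2 : g ∈ MonoidHom.ker (ρ.subrepresentation _ (hinv μ)) :=
      h1 (derivedSeries_antitone P (linDL_mono (hlt μ).le) hg)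
    rw [MonoidHom.mem_ker] at h2
    have h3 := LinearMap.congr_fun h2 ⟨w, hw⟩
    simpa using congrArg Subtype.val h3
  -- Case 3
  push Not at hsc hab
  have hZtop : repCenter ρ ≠ ⊤ := by
    intro h
    obtain ⟨g, h', hgh⟩ := hab
    exact hgh ((mem_repCenter ρ g).1 (h ▸ Subgroup.mem_top g) h')
  have hQnt : Nontrivial (P ⧸ repCenter ρ) := by
    by_contra hns
    rw [not_nontrivial_iff_subsingleton] at hns
    apply hZtop
    rw [eq_top_iff]
    intro x _
    rw [← QuotientGroup.eq_one_iff]
    exact Subsingleton.elim _ _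
  have hQ : IsPGroup p (P ⧸ repCenter ρ) := hP.to_quotient _
  have hcnt := hQ.center_nontrivial
  obtain ⟨⟨abar, habar⟩, hne⟩ := exists_ne (1 : Subgroup.center (P ⧸ repCenter ρ))
  obtain ⟨a, rfl⟩ := QuotientGroup.mk_surjective abar
  have ha : a ∉ repCenter ρ := by
    intro h
    apply hne
    ext
    simpa using (QuotientGroup.eq_one_iff a).2 h
  have hcomm : ∀ g : P, a * g * a⁻¹ * g⁻¹ ∈ repCenter ρ := by
    intro g
    rw [← QuotientGroup.eq_one_iff]
    have h1 := Subgroup.mem_center_iff.1 habar (g : P ⧸ repCenter ρ)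
    simp only [QuotientGroup.mk_mul, QuotientGroup.mk_inv]
    rw [← h1]
    group
  -- the twisted commutation
  have htw : ∀ g : P, ∃ c : K, c ≠ 0 ∧ TwComm (ρ a) (ρ g) c := by
    intro g
    obtain ⟨c, hc⟩ := hsc _ (hcomm g)
    have hc0 : c ≠ 0 := by
      rintro rfl
      rw [zero_smul] at hc
      have := rep_mul_inv ρ (a * g * a⁻¹ * g⁻¹)
      rw [hc, zero_mul] at this
      exact hone_ne this.symm
    refine ⟨c, hc0, ?_⟩
    unfold TwComm
    have h1 : ρ a * ρ g * ρ a⁻¹ * ρ g⁻¹ = c • 1 := by
      rw [← hc]; simp only [map_mul]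
    calc ρ a * ρ g = ρ a * ρ g * ρ a⁻¹ * ρ g⁻¹ * (ρ g * ρ a) := by
          have : ρ a * ρ g * ρ a⁻¹ * ρ g⁻¹ * (ρ g * ρ a)
              = ρ a * ρ g * ρ a⁻¹ * (ρ g⁻¹ * ρ g) * ρ a := by simp only [mul_assoc]
          rw [this, rep_inv_mul, mul_one, mul_assoc (ρ a * ρ g), rep_inv_mul, mul_one]
      _ = c • (ρ g * ρ a) := by rw [h1, smul_mul_assoc, one_mul]
  set A : Module.End K V := ρ a with hA
  set N : Subgroup P := repCentralizer ρ A with hN
  -- the commutator subgroup lies in `N`
  have hcN : commutator P ≤ N := by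
    rw [commutator_def, Subgroup.commutator_le]
    intro g _ h _
    obtain ⟨c, hc0, hc⟩ := htw g
    obtain ⟨d, hd0, hd⟩ := htw h
    have hc' := hc.inv hc0 (rep_mul_inv ρ g) (rep_inv_mul ρ g)
    have hd' := hd.inv hd0 (rep_mul_inv ρ h) (rep_inv_mul ρ h)
    have := ((hc.mul hd).mul hc').mul hd'
    rw [mem_repCentralizer, commutatorElement_def]
    unfold TwComm at this
    have e : c * d * c⁻¹ * d⁻¹ = 1 := by field_simp
    rw [e, one_smul] at this
    simpa only [map_mul] using this
  -- an element not commuting with `A`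
  obtain ⟨g₀, hg₀⟩ : ∃ g₀ : P, A * ρ g₀ ≠ ρ g₀ * A := by
    by_contra hcon
    push Not at hcon
    exact ha hcon
  obtain ⟨c₀, hc₀0, hc₀⟩ := htw g₀
  have hc₀1 : c₀ ≠ 1 := by
    rintro rfl
    apply hg₀
    unfold TwComm at hc₀
    rw [hc₀, one_smul]
  -- the eigenspaces of `A` are small
  have hAinj : Function.Injective A := by
    intro x y hxy
    have := congrArg (ρ a⁻¹) hxy
    have e := rep_inv_mul ρ a
    have ex := LinearMap.congr_fun e x
    have ey := LinearMap.congr_fun e y
    simp only [Module.End.mul_apply, Module.End.one_apply] at ex ey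
    rw [← ex, ← ey]
    exact this
  have hg₀inj : Function.Injective (ρ g₀) := by
    intro x y hxy
    have := congrArg (ρ g₀⁻¹) hxy
    have e := rep_inv_mul ρ g₀
    have ex := LinearMap.congr_fun e x
    have ey := LinearMap.congr_fun e y
    simp only [Module.End.mul_apply, Module.End.one_apply] at ex ey
    rw [← ex, ← ey]
    exact this
  have hdim : ∀ μ : K, finrank K (Module.End.eigenspace A μ) ≤ n / 2 := by
    intro μ
    by_cases hμ : μ = 0
    · subst hμ
      have : Module.End.eigenspace A 0 = ⊥ := by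
        rw [Module.End.eigenspace_zero]
        exact LinearMap.ker_eq_bot.2 hAinj
      rw [this]; simp
    · have hne : μ ≠ c₀ * μ := by
        intro h
        apply hc₀1
        have : (1 - c₀) * μ = 0 := by rw [sub_mul, one_mul, ← h, sub_self]
        rcases mul_eq_zero.1 this with h1 | h1
        · exact (sub_eq_zero.1 h1).symm
        · exact absurd h1 hμ
      have hdis : Disjoint (Module.End.eigenspace A μ) (Module.End.eigenspace A (c₀ * μ)) :=
        A.disjoint_genEigenspace hne 1 1
      have hmap : (Module.End.eigenspace A μ).map (ρ g₀) ≤ Module.End.eigenspace A (c₀ * μ) := by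
        rintro _ ⟨w, hw, rfl⟩
        rw [SetLike.mem_coe, Module.End.mem_eigenspace_iff] at hw
        rw [Module.End.mem_eigenspace_iff]
        have := LinearMap.congr_fun hc₀ w
        simp only [Module.End.mul_apply, LinearMap.smul_apply] at this
        rw [this, hw, map_smul, smul_smul]
      have h1 : finrank K (Module.End.eigenspace A μ) ≤
          finrank K (Module.End.eigenspace A (c₀ * μ)) := by
        calc finrank K (Module.End.eigenspace A μ)
            = finrank K ((Module.End.eigenspace A μ).map (ρ g₀)) :=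
              LinearEquiv.finrank_eq (Submodule.equivMapOfInjective (ρ g₀) hg₀inj _)
          _ ≤ _ := Submodule.finrank_mono hmap
      have h2 := Submodule.finrank_sup_add_finrank_inf_eq (Module.End.eigenspace A μ)
        (Module.End.eigenspace A (c₀ * μ))
      rw [hdis.eq_bot, finrank_bot, add_zero] at h2
      have h3 : finrank K ↥(Module.End.eigenspace A μ ⊔ Module.End.eigenspace A (c₀ * μ)) ≤
          finrank K V := Submodule.finrank_le _
      omega
  -- invariance under `N`
  have hinv : ∀ μ : K, ∀ g : N, Module.End.eigenspace A μ ≤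
      (Module.End.eigenspace A μ).comap ((ρ.comp N.subtype) g) := by
    intro μ g w hw
    rw [Submodule.mem_comap, Module.End.mem_eigenspace_iff]
    rw [Module.End.mem_eigenspace_iff] at hw
    have := LinearMap.congr_fun ((mem_repCentralizer ρ A g).1 g.2) w
    simp only [Module.End.mul_apply] at this
    simp only [MonoidHom.coe_comp, Subgroup.coe_subtype, Function.comp_apply]
    rw [this, hw, map_smul]
  have hNker : ∀ x ∈ derivedSeries N (linDL (n / 2)), ρ (x : P) = 1 := by
    intro x hx
    apply eq_one_of_eigenspaces (isSemisimple_of_isPGroup p hpK hP ρ a)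
    intro μ w hw
    have hlt : finrank K (Module.End.eigenspace A μ) < n := by
      have := hdim μ
      omega
    have h1 := ih _ hlt N (hP.to_subgroup N) (Module.End.eigenspace A μ)
      (Representation.subrepresentation (ρ.comp N.subtype : Representation K N V) _ (hinv μ)) le_rfl
    have h2 : x ∈ MonoidHom.ker
        (Representation.subrepresentation (ρ.comp N.subtype : Representation K N V) _ (hinv μ)) :=
      h1 (derivedSeries_antitone N (linDL_mono (hdim μ)) hx)
    rw [MonoidHom.mem_ker] at h2
    have h3 := LinearMap.congr_fun h2 ⟨w, hw⟩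
    simpa using congrArg Subtype.val h3
  intro g hg
  have h1 : g ∈ derivedSeries P (linDL (n / 2) + 1) := by
    apply derivedSeries_antitone P _ hg
    have := linDL_half n hn1
    omega
  obtain ⟨x, hx, rfl⟩ := derivedSeries_succ_le_map_subtype N hcN _ h1
  rw [MonoidHom.mem_ker]
  exact hNker x hx

end charnp

end Cfsg.Agent.Lib.H18
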