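import Mathlib
import Cfsg.Agent.Lib.H18.LinPGroupDL

set_option autoImplicit false

namespace Cfsg.Agent.Lib.H18

open Module

section charp

universe u v w

variable {K : Type w} [Field K] (p : ℕ) [Fact p.Prime]

theorem exists_fixed_vector (hpK : (p : K) = 0) {P : Type u} [Group P] [Finite P]
    (hP : IsPGroup p P) {V : Type v} [AddCommGroup V] [Module K V] [Nontrivial V]
    (ρ : Representation K P V) : ∃ v : V, v ≠ 0 ∧ ∀ g, ρ g v = v := by
  obtain ⟨v₀, hv₀⟩ := exists_ne (0 : V)
  have hpV : ∀ x : V, p • x = 0 := by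
    intro x
    rw [← Nat.cast_smul_eq_nsmul K p x, hpK, zero_smul]
  set S : Set V := Set.range (fun g : P => ρ g v₀) with hS
  have hSfin : S.Finite := Set.finite_range _
  set A : AddSubgroup V := AddSubgroup.closure S with hA
  have hinvA : ∀ g : P, ∀ x ∈ A, ρ g x ∈ A := by
    intro g x hx
    induction hx using AddSubgroup.closure_induction with
    | mem y hy =>
      obtain ⟨h, rfl⟩ := hy
      apply AddSubgroup.subset_closure
      refine ⟨g * h, ?_⟩
      simp [map_mul]
    | zero => simp [A.zero_mem]
    | add y z _ _ hy hz => rw [map_add]; exact A.add_mem hy hz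
    | neg y _ hy => rw [map_neg]; exact A.neg_mem hy
  have hfg : AddGroup.FG A := by
    rw [AddGroup.fg_iff_addSubgroup_fg, AddSubgroup.fg_iff]
    exact ⟨S, rfl, hSfin⟩
  have htors : IsAddTorsion A := by
    intro x
    rw [isOfFinAddOrder_iff_nsmul_eq_zero]
    refine ⟨p, (Fact.out : p.Prime).pos, ?_⟩
    ext
    simpa using hpV x
  have hAfin : Finite A := AddCommGroup.finite_of_fg_isAddTorsion (G := A) htors
  let _ : MulAction P A :=
    { smul := fun g x => ⟨ρ g x, hinvA g x x.2⟩
      one_smul := by intro x; ext; simp [HSMul.hSMul]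
      mul_smul := by intro g h x; ext; simp [HSMul.hSMul, map_mul] }
  have hsmul : ∀ (g : P) (x : A), ((g • x : A) : V) = ρ g x := fun _ _ => rfl
  let a₀ : A := ⟨v₀, AddSubgroup.subset_closure ⟨1, by simp⟩⟩
  have ha₀ : a₀ ≠ 0 := by
    intro h
    exact hv₀ (congrArg Subtype.val h)
  have hord : addOrderOf a₀ = p := by
    apply addOrderOf_eq_prime
    · ext; simpa using hpV v₀
    · exact ha₀
  have hdvd : p ∣ Nat.card A := hord ▸ addOrderOf_dvd_natCard a₀
  have h0 : (0 : A) ∈ MulAction.fixedPoints P A := by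
    intro g
    ext
    rw [hsmul]; simp
  obtain ⟨b, hb, hb0⟩ := hP.exists_fixed_point_of_prime_dvd_card_of_fixed_point A hdvd h0
  refine ⟨b, ?_, ?_⟩
  · intro h
    apply hb0
    ext
    exact h.symm
  · intro g
    have := hb g
    rw [← hsmul, this]


theorem exists_invariant_of_finrank (hpK : (p : K) = 0) {P : Type u} [Group P] [Finite P]
    (hP : IsPGroup p P) {V : Type v} [AddCommGroup V] [Module K V] [FiniteDimensional K V]
    (ρ : Representation K P V) (m : ℕ) (hm : m ≤ finrank K V) :
    ∃ W : Submodule K V, (∀ g, W ≤ W.comap (ρ g)) ∧ finrank K W = m := by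
  induction m with
  | zero => exact ⟨⊥, fun g => bot_le, by simp⟩
  | succ m ih =>
    obtain ⟨W, hinv, hW⟩ := ih (by omega)
    have hq : 0 < finrank K (V ⧸ W) := by
      have := Submodule.finrank_quotient_add_finrank W
      omega
    have hnt : Nontrivial (V ⧸ W) := (Module.finrank_pos_iff_of_free K _).1 hq
    obtain ⟨vbar, hvbar, hfix⟩ := exists_fixed_vector p hpK hP (ρ.quotient W hinv)
    obtain ⟨v, rfl⟩ := Submodule.Quotient.mk_surjective W vbar
    have hvW : v ∉ W := by
      intro h
      exact hvbar ((Submodule.Quotient.mk_eq_zero W).2 h)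
    have hv0 : v ≠ 0 := by
      rintro rfl
      exact hvW W.zero_mem
    have hdiff : ∀ g, ρ g v - v ∈ W := by
      intro g
      have := hfix g
      rw [Representation.quotient_apply, Submodule.mapQ_apply] at this
      exact (Submodule.Quotient.eq W).1 this
    refine ⟨W ⊔ K ∙ v, ?_, ?_⟩
    · intro g x hx
      rw [Submodule.mem_comap]
      obtain ⟨w, hw, y, hy, rfl⟩ := Submodule.mem_sup.1 hx
      obtain ⟨c, rfl⟩ := Submodule.mem_span_singleton.1 hy
      have e : ρ g (w + c • v) = (ρ g w + c • (ρ g v - v)) + c • v := by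
        rw [map_add, map_smul, smul_sub]; abel
      rw [e]
      exact Submodule.add_mem_sup (W.add_mem (hinv g hw) (W.smul_mem c (hdiff g)))
        (Submodule.smul_mem _ c (Submodule.mem_span_singleton_self v))
    · have h1 := Submodule.finrank_sup_add_finrank_inf_eq W (K ∙ v)
      have h2 : W ⊓ K ∙ v = ⊥ := ((Submodule.disjoint_span_singleton' hv0).2 hvW).eq_bot
      rw [h2, finrank_bot, add_zero, finrank_span_singleton hv0, hW] at h1
      exact h1

theorem derivedSeries_le_ker_of_char (hpK : (p : K) = 0) :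
    ∀ (n : ℕ) (P : Type u) [Group P] [Finite P] (_ : IsPGroup p P) (V : Type v) [AddCommGroup V]
      [Module K V] [FiniteDimensional K V] (ρ : Representation K P V), finrank K V ≤ n →
      derivedSeries P (Nat.clog 2 n) ≤ MonoidHom.ker ρ := by
  intro n
  induction n using Nat.strong_induction_on with
  | _ n ih =>
  intro P _ _ hP V _ _ _ ρ hn
  rcases lt_or_eq_of_le hn with hlt | heq
  · exact (derivedSeries_antitone P (Nat.clog_mono_right 2 hlt.le)).trans
      (ih _ hlt P hP V ρ le_rfl)
  rcases (by omega : n = 0 ∨ n = 1 ∨ 2 ≤ n) with rfl | rfl | h2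
  · intro g _
    rw [MonoidHom.mem_ker]
    have : Subsingleton V := (Module.finrank_eq_zero_iff_of_free K V).1 heq
    ext v; exact Subsingleton.elim _ _
  · intro g _
    rw [MonoidHom.mem_ker]
    have hnt : Nontrivial V := (Module.finrank_pos_iff_of_free K V).1 (by omega)
    obtain ⟨v, hv0, hfix⟩ := exists_fixed_vector p hpK hP ρ
    have hspan : K ∙ v = ⊤ := by
      apply Submodule.eq_top_of_finrank_eq
      rw [finrank_span_singleton hv0, heq]
    ext x
    have hx : x ∈ K ∙ v := by rw [hspan]; trivial
    obtain ⟨c, rfl⟩ := Submodule.mem_span_singleton.1 hx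
    simp [hfix g]
  -- n ≥ 2
  obtain ⟨W, hinv, hW⟩ := exists_invariant_of_finrank p hpK hP ρ (n / 2) (by omega)
  have hq : finrank K (V ⧸ W) = (n + 1) / 2 := by
    have := Submodule.finrank_quotient_add_finrank W
    omega
  have hlt1 : n / 2 < n := by omega
  have hlt2 : (n + 1) / 2 < n := by omega
  have hk : Nat.clog 2 n = Nat.clog 2 ((n + 1) / 2) + 1 := by
    rw [Nat.clog_of_two_le (by norm_num) h2]
    congr 2
  have h1 := ih _ hlt1 P hP W (ρ.subrepresentation W hinv) hW.le
  have h2' := ih _ hlt2 P hP (V ⧸ W) (ρ.quotient W hinv) hq.le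
  have hmono : Nat.clog 2 (n / 2) ≤ Nat.clog 2 ((n + 1) / 2) :=
    Nat.clog_mono_right 2 (by omega)
  -- elements of D act trivially on W and V/W
  have hD : ∀ g ∈ derivedSeries P (Nat.clog 2 ((n + 1) / 2)),
      (∀ w ∈ W, ρ g w = w) ∧ ∀ x : V, ρ g x - x ∈ W := by
    intro g hg
    constructor
    · intro w hw
      have := h1 (derivedSeries_antitone P hmono hg)
      rw [MonoidHom.mem_ker] at this
      have h3 := LinearMap.congr_fun this ⟨w, hw⟩
      simpa using congrArg Subtype.val h3
    · intro x
      have := h2' hg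
      rw [MonoidHom.mem_ker] at this
      have h3 := LinearMap.congr_fun this (Submodule.Quotient.mk x)
      rw [Representation.quotient_apply, Submodule.mapQ_apply] at h3
      exact (Submodule.Quotient.eq W).1 h3
  rw [hk, derivedSeries_succ, Subgroup.commutator_le]
  intro g hg h hh
  obtain ⟨hg1, hg2⟩ := hD g hg
  obtain ⟨hh1, hh2⟩ := hD h hh
  have hcomm : ρ g * ρ h = ρ h * ρ g := by
    ext x
    simp only [Module.End.mul_apply]
    have e1 : ρ g (ρ h x) = ρ g x + (ρ h x - x) := by
      have : ρ h x = x + (ρ h x - x) := by abel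
      conv_lhs => rw [this, map_add, hg1 _ (hh2 x)]
    have e2 : ρ h (ρ g x) = ρ h x + (ρ g x - x) := by
      have : ρ g x = x + (ρ g x - x) := by abel
      conv_lhs => rw [this, map_add, hh1 _ (hg2 x)]
    rw [e1, e2]; abel
  rw [MonoidHom.mem_ker, commutatorElement_def, map_mul, map_mul, map_mul, hcomm,
    mul_assoc (ρ h), rep_mul_inv, mul_one, rep_mul_inv]

end charp

section glue

universe u w

/-- the representation on `Fin n → K` attached to a homomorphism into `GL_n(K)` -/
noncomputable def glRep {K : Type w} [Field K] {P : Type u} [Group P] {n : ℕ}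
    (ρ : P →* Matrix.GeneralLinearGroup (Fin n) K) : Representation K P (Fin n → K) :=
  ((Matrix.toLinAlgEquiv' : Matrix (Fin n) (Fin n) K ≃ₐ[K] Module.End K (Fin n → K)) :
      Matrix (Fin n) (Fin n) K →* Module.End K (Fin n → K)).comp
    ((Units.coeHom (Matrix (Fin n) (Fin n) K)).comp ρ)

theorem glRep_ker {K : Type w} [Field K] {P : Type u} [Group P] {n : ℕ}
    (ρ : P →* Matrix.GeneralLinearGroup (Fin n) K) (hρ : Function.Injective ρ) :
    MonoidHom.ker (glRep ρ) = ⊥ := by
  rw [MonoidHom.ker_eq_bot_iff]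
  unfold glRep
  intro x y hxy
  apply hρ
  apply Units.ext
  simpa using hxy

theorem derivedSeries_eq_bot_of_injective_GL {P : Type u} [Group P] [Finite P] (p : ℕ)
    [Fact p.Prime] (hP : IsPGroup p P) (F : Type w) [Field F] (n : ℕ) (hn : 1 ≤ n)
    (ρ : P →* Matrix.GeneralLinearGroup (Fin n) F) (hρ : Function.Injective ρ) :
    derivedSeries P (Nat.log 2 n + 1) = ⊥ := by
  rw [eq_bot_iff]
  by_cases hpF : (p : F) = 0
  · have h1 := derivedSeries_le_ker_of_char p hpF n P hP (Fin n → F) (glRep ρ) (by simp)
    rw [glRep_ker ρ hρ] at h1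
    refine (derivedSeries_antitone P ?_).trans h1
    apply Nat.clog_le_of_le_pow
    exact (Nat.lt_pow_succ_log_self (by norm_num) n).le
  · let K := AlgebraicClosure F
    have hpK : (p : K) ≠ 0 := by
      intro h
      apply hpF
      apply (algebraMap F K).injective
      rw [map_natCast, h, map_zero]
    let ρ' : P →* Matrix.GeneralLinearGroup (Fin n) K :=
      (Matrix.GeneralLinearGroup.map (algebraMap F K)).comp ρ
    have hρ' : Function.Injective ρ' := by
      intro x y hxy
      apply hρ
      apply Units.ext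
      ext i j
      have h2 := congrArg (fun u : Matrix.GeneralLinearGroup (Fin n) K => u i j) hxy
      simp only [ρ', MonoidHom.coe_comp, Function.comp_apply,
        Matrix.GeneralLinearGroup.map_apply] at h2
      exact (algebraMap F K).injective h2
    have h1 := derivedSeries_le_ker_of_ne_char p hpK n P hP (Fin n → K) (glRep ρ') (by simp)
    rw [glRep_ker ρ' hρ'] at h1
    have e : linDL n = Nat.log 2 n + 1 := by
      unfold linDL
      have : n ≠ 0 := by omega
      simp [this]
    rw [e] at h1
    exact h1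

end glue

end Cfsg.Agent.Lib.H18
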