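import Mathlib
import Cfsg.Agent.Lib.H18.LinPGroupDL2

set_option autoImplicit false

namespace Cfsg.Agent.Lib.H18

open Module

section glue2

universe u w

theorem glRep_ker' {K : Type w} [Field K] {P : Type u} [Group P] {n : ℕ}
    (ρ : P →* Matrix.GeneralLinearGroup (Fin n) K) :
    MonoidHom.ker (glRep ρ) = MonoidHom.ker ρ := by
  ext x
  rw [MonoidHom.mem_ker, MonoidHom.mem_ker]
  unfold glRep
  constructor
  · intro h
    apply Units.ext
    simpa using h
  · intro h
    simp [h]

theorem derivedSeries_le_ker_GL {P : Type u} [Group P] [Finite P] (p : ℕ)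
    [Fact p.Prime] (hP : IsPGroup p P) (F : Type w) [Field F] (n : ℕ) (hn : 1 ≤ n)
    (ρ : P →* Matrix.GeneralLinearGroup (Fin n) F) :
    derivedSeries P (Nat.log 2 n + 1) ≤ MonoidHom.ker ρ := by
  by_cases hpF : (p : F) = 0
  · have h1 := derivedSeries_le_ker_of_char p hpF n P hP (Fin n → F) (glRep ρ) (by simp)
    rw [glRep_ker' ρ] at h1
    refine (derivedSeries_antitone P ?_).trans h1
    apply Nat.clog_le_of_le_pow
    exact (Nat.lt_pow_succ_log_self (by norm_num) n).le
  · let K := AlgebraicClosure F
    have hpK : (p : K) ≠ 0 := by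
      intro h
      apply hpF
      apply (algebraMap F K).injective
      rw [map_natCast, h, map_zero]
    let ρ' : P →* Matrix.GeneralLinearGroup (Fin n) K :=
      (Matrix.GeneralLinearGroup.map (algebraMap F K)).comp ρ
    have hker : MonoidHom.ker ρ' = MonoidHom.ker ρ := by
      ext x
      rw [MonoidHom.mem_ker, MonoidHom.mem_ker]
      constructor
      · intro hx
        apply Units.ext
        ext i j
        have h2 := congrArg (fun u : Matrix.GeneralLinearGroup (Fin n) K => u i j) hx
        simp only [ρ', MonoidHom.coe_comp, Function.comp_apply,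
          Matrix.GeneralLinearGroup.map_apply] at h2
        apply (algebraMap F K).injective
        rw [h2]
        by_cases hij : i = j
        · subst hij; simp
        · simp [hij]
      · intro hx
        simp [ρ', hx]
    have h1 := derivedSeries_le_ker_of_ne_char p hpK n P hP (Fin n → K) (glRep ρ') (by simp)
    rw [glRep_ker' ρ', hker] at h1
    have e : linDL n = Nat.log 2 n + 1 := by
      unfold linDL
      have : n ≠ 0 := by omega
      simp [this]
    rw [e] at h1
    exact h1

/-- the derived length bound for an arbitrary finite-dimensional representation of a `p`-group -/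
theorem derivedSeries_le_ker_rep {P : Type u} [Group P] [Finite P] (p : ℕ)
    [Fact p.Prime] (hP : IsPGroup p P) {K : Type w} [Field K] {V : Type*} [AddCommGroup V]
    [Module K V] [FiniteDimensional K V] (ρ : Representation K P V) :
    derivedSeries P (Nat.log 2 (finrank K V) + 1) ≤ MonoidHom.ker ρ := by
  rcases Nat.eq_zero_or_pos (finrank K V) with h0 | hpos
  · intro g _
    rw [MonoidHom.mem_ker]
    have : Subsingleton V := (Module.finrank_eq_zero_iff_of_free K V).1 h0
    ext v; exact Subsingleton.elim _ _
  let b := Module.finBasis K V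
  let M : P →* Matrix (Fin (finrank K V)) (Fin (finrank K V)) K :=
    ((LinearMap.toMatrixAlgEquiv b : Module.End K V ≃ₐ[K] _) : Module.End K V →* _).comp ρ
  have h1 := derivedSeries_le_ker_GL p hP K (finrank K V) hpos M.toHomUnits
  refine h1.trans ?_
  intro x hx
  rw [MonoidHom.mem_ker] at hx ⊢
  have h2 := congrArg Units.val hx
  simp only [MonoidHom.coe_toHomUnits, Units.val_one] at h2
  have h3 : (LinearMap.toMatrixAlgEquiv b) (ρ x) = 1 := h2
  have := (LinearMap.toMatrixAlgEquiv b).injective (h3.trans (map_one _).symm)
  exact this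

end glue2

end Cfsg.Agent.Lib.H18
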