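import Mathlib
import Cfsg.Agent.Lib.H18.LinPGroupDL3

set_option autoImplicit false

namespace Cfsg.Agent.Lib.H18

open Module Polynomial

section unip

universe u v w
variable {K : Type w} [Field K]

/-- unipotent of square zero + `p`-power order + `char ≠ p` ⇒ trivial -/
theorem eq_one_of_sq_zero {V : Type v} [AddCommGroup V] [Module K V] (p : ℕ) (hpK : (p : K) ≠ 0)
    (x : Module.End K V) (k : ℕ) (hx : x ^ (p ^ k) = 1) (hN : (x - 1) * (x - 1) = 0) : x = 1 := by
  set N := x - 1 with hNdef
  have hx' : x = 1 + N := by rw [hNdef]; abel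
  have hpow : ∀ m : ℕ, (1 + N) ^ m = 1 + (m : K) • N := by
    intro m
    induction m with
    | zero => simp
    | succ m ih =>
      rw [pow_succ, ih, mul_add, mul_one, add_mul, one_mul, smul_mul_assoc, hN, smul_zero, add_zero,
        Nat.cast_succ, add_smul, one_smul]
      abel
  rw [hx', hpow] at hx
  have h2 : ((p ^ k : ℕ) : K) • N = 0 := by
    have := congrArg (fun y => y - 1) hx
    simpa using this
  have h3 : ((p ^ k : ℕ) : K) ≠ 0 := by push_cast; exact pow_ne_zero k hpK
  have h4 : N = 0 := (smul_eq_zero.1 h2).resolve_left h3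
  rw [hx', h4, add_zero]

theorem mem_ker_of_sub_quot {P : Type u} [Group P] (p : ℕ) [Fact p.Prime]
    (hpK : (p : K) ≠ 0) (hP : IsPGroup p P)
    {V : Type v} [AddCommGroup V] [Module K V] (ρ : Representation K P V) (W : Submodule K V)
    (hW : ∀ g, W ≤ W.comap (ρ g)) (g : P)
    (h1 : g ∈ MonoidHom.ker (ρ.subrepresentation W hW))
    (h2 : g ∈ MonoidHom.ker (ρ.quotient W hW)) :
    g ∈ MonoidHom.ker ρ := by
  rw [MonoidHom.mem_ker] at h1 h2 ⊢
  have hg1 : ∀ w ∈ W, ρ g w = w := by
    intro w hw
    have h3 := LinearMap.congr_fun h1 ⟨w, hw⟩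
    simpa using congrArg Subtype.val h3
  have hg2 : ∀ x : V, ρ g x - x ∈ W := by
    intro x
    have h3 := LinearMap.congr_fun h2 (Submodule.Quotient.mk x)
    rw [Representation.quotient_apply, Submodule.mapQ_apply] at h3
    exact (Submodule.Quotient.eq W).1 h3
  obtain ⟨k, hk⟩ := hP g
  apply eq_one_of_sq_zero p hpK (ρ g) k
  · rw [← map_pow, hk, map_one]
  · ext x
    simp only [Module.End.mul_apply, LinearMap.sub_apply, Module.End.one_apply,
      LinearMap.zero_apply]
    rw [hg1 _ (hg2 x), sub_self]

end unip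

section irr

universe u v w
variable {K : Type w} [Field K]

/-- the minimal polynomial of a central endomorphism of an irreducible representation is
irreducible -/
theorem minpoly_irreducible_of_irr {P : Type u} [Group P] {V : Type v} [AddCommGroup V]
    [Module K V] [FiniteDimensional K V] [Nontrivial V] (ρ : Representation K P V)
    (hirr : ∀ W : Submodule K V, (∀ g, W ≤ W.comap (ρ g)) → W = ⊥ ∨ W = ⊤)
    (T : Module.End K V) (hT : ∀ g, Commute (ρ g) T) : Irreducible (minpoly K T) := by
  have hint : IsIntegral K T := Algebra.IsIntegral.isIntegral T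
  have hm0 : minpoly K T ≠ 0 := minpoly.ne_zero hint
  rw [irreducible_iff]
  refine ⟨minpoly.not_isUnit K T, ?_⟩
  intro a b hab
  have ha0 : a ≠ 0 := by rintro rfl; rw [zero_mul] at hab; exact hm0 hab
  have hb0 : b ≠ 0 := by rintro rfl; rw [mul_zero] at hab; exact hm0 hab
  have hinv : ∀ g, LinearMap.ker (aeval T a) ≤ (LinearMap.ker (aeval T a)).comap (ρ g) := by
    intro g v hv
    rw [Submodule.mem_comap, LinearMap.mem_ker] at *
    have hc : Commute (ρ g) (aeval T a) :=
      Algebra.commute_of_mem_adjoin_singleton_of_commute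
        (Polynomial.aeval_mem_adjoin_singleton _ _) (hT g)
    have := LinearMap.congr_fun hc.eq v
    simp only [Module.End.mul_apply] at this
    rw [← this, hv, map_zero]
  have hprod : aeval T a * aeval T b = 0 := by
    rw [← map_mul, ← hab, minpoly.aeval]
  rcases hirr _ hinv with hbot | htop
  · left
    have hb : aeval T b = 0 := by
      ext v
      have h1 := LinearMap.congr_fun hprod v
      simp only [Module.End.mul_apply, LinearMap.zero_apply] at h1 ⊢
      have h2 : aeval T b v ∈ LinearMap.ker (aeval T a) := LinearMap.mem_ker.2 h1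
      rw [hbot] at h2
      exact (Submodule.mem_bot K).1 h2
    have h3 : a * b ∣ 1 * b := by
      rw [one_mul, ← hab]; exact minpoly.dvd K T hb
    exact isUnit_of_dvd_one ((mul_dvd_mul_iff_right hb0).1 h3)
  · right
    have ha : aeval T a = 0 := by
      ext v
      have : v ∈ LinearMap.ker (aeval T a) := by rw [htop]; trivial
      simpa using this
    have h3 : a * b ∣ a * 1 := by
      rw [mul_one, ← hab]; exact minpoly.dvd K T ha
    exact isUnit_of_dvd_one ((mul_dvd_mul_iff_left ha0).1 h3)

end irr

section central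

universe u v w
variable {K : Type w} [Field K]

theorem exists_central_order_p {P : Type u} [Group P] [Finite P] (p : ℕ) [Fact p.Prime]
    (hP : IsPGroup p P) {V : Type v} [AddCommGroup V] [Module K V] (ρ : Representation K P V)
    (hne : MonoidHom.ker ρ ≠ ⊤) :
    ∃ z : P, ρ z ≠ 1 ∧ (ρ z) ^ p = 1 ∧ ∀ g, Commute (ρ g) (ρ z) := by
  have hQnt : Nontrivial (P ⧸ MonoidHom.ker ρ) := by
    by_contra hns
    rw [not_nontrivial_iff_subsingleton] at hns
    apply hne
    rw [eq_top_iff]
    intro x _
    rw [← QuotientGroup.eq_one_iff]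
    exact Subsingleton.elim _ _
  have hQ : IsPGroup p (P ⧸ MonoidHom.ker ρ) := hP.to_quotient _
  have hcnt := hQ.center_nontrivial
  have hZ : IsPGroup p (Subgroup.center (P ⧸ MonoidHom.ker ρ)) := hQ.to_subgroup _
  have hdvd : p ∣ Nat.card (Subgroup.center (P ⧸ MonoidHom.ker ρ)) := by
    rcases hZ.card_eq_or_dvd with h1 | h1
    · exfalso
      have := (Nat.card_eq_one_iff_unique.1 h1).1
      exact not_subsingleton _ this
    · exact h1
  obtain ⟨⟨c, hc⟩, hord⟩ := exists_prime_orderOf_dvd_card' p hdvd
  have hord' : orderOf c = p := by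
    rw [← hord]
    exact (Subgroup.orderOf_mk c hc).symm
  obtain ⟨z, rfl⟩ := QuotientGroup.mk_surjective c
  have hk : ∀ g : P, QuotientGroup.lift (MonoidHom.ker ρ) ρ le_rfl (g : P ⧸ MonoidHom.ker ρ) = ρ g :=
    fun g => QuotientGroup.lift_mk _ _ g
  refine ⟨z, ?_, ?_, ?_⟩
  · intro h1
    have h3 : (z : P ⧸ MonoidHom.ker ρ) = 1 := (QuotientGroup.eq_one_iff z).2 h1
    rw [h3, orderOf_one] at hord'
    exact (Fact.out : p.Prime).one_lt.ne hord'
  · rw [← hk, ← map_pow, ← hord', pow_orderOf_eq_one, map_one]
  · intro g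
    have := Subgroup.mem_center_iff.1 hc (g : P ⧸ MonoidHom.ker ρ)
    unfold Commute SemiconjBy
    rw [← hk g, ← hk z, ← map_mul, ← map_mul, this]

end central

section ext

universe u v w
variable {K : Type w} [Field K]

/-- descent to an extension field acting on the module -/
theorem derivedSeries_le_ker_of_ext {P : Type u} [Group P] [Finite P] (p : ℕ) [Fact p.Prime]
    (hP : IsPGroup p P) {V : Type v} [AddCommGroup V] [Module K V] [FiniteDimensional K V]
    (ρ : Representation K P V) (E : Type*) [Field E] [Algebra K E] [Module E V]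
    [IsScalarTower K E V] (hlin : ∀ (g : P) (x : E) (v : V), ρ g (x • v) = x • ρ g v) :
    derivedSeries P (Nat.log 2 (finrank E V) + 1) ≤ MonoidHom.ker ρ := by
  haveI : FiniteDimensional E V := Module.Finite.of_restrictScalars_finite K E V
  let ρE : Representation E P V :=
    { toFun := fun g => { toFun := fun v => ρ g v
                          map_add' := fun a b => map_add _ a b
                          map_smul' := fun x v => hlin g x v }
      map_one' := by ext v; simp
      map_mul' := by intro a b; ext v; simp }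
  have h1 := derivedSeries_le_ker_rep p hP ρE
  refine h1.trans ?_
  intro g hg
  rw [MonoidHom.mem_ker] at hg ⊢
  ext v
  have := LinearMap.congr_fun hg v
  exact this

/-- an element of order `p` in a finite extension forces `orderOf q ∣ degree` -/
theorem orderOf_dvd_finrank_of_pow_eq_one [Finite K] (p : ℕ) [Fact p.Prime]
    (E : Type*) [Field E] [Algebra K E] [FiniteDimensional K E] (t : E) (ht : t ^ p = 1)
    (ht1 : t ≠ 1) : orderOf ((Nat.card K : ℕ) : ZMod p) ∣ finrank K E := by
  haveI : Finite E := Module.finite_of_finite K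
  have hp : p.Prime := Fact.out
  have ht0 : t ≠ 0 := by
    rintro rfl
    rw [zero_pow hp.ne_zero] at ht
    exact zero_ne_one ht
  let u : Eˣ := Units.mk0 t ht0
  have hu : orderOf u = p := by
    apply orderOf_eq_prime
    · apply Units.ext; simpa [u] using ht
    · intro h; apply ht1
      have := congrArg Units.val h
      simpa [u] using this
  have h1 : p ∣ Nat.card Eˣ := hu ▸ orderOf_dvd_natCard u
  rw [Nat.card_units, Module.natCard_eq_pow_finrank (K := K) (V := E)] at h1
  apply orderOf_dvd_of_pow_eq_one
  have hpos : 1 ≤ Nat.card K ^ finrank K E := Nat.one_le_pow _ _ Nat.card_pos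
  have h2 : ((Nat.card K ^ finrank K E - 1 : ℕ) : ZMod p) = 0 :=
    (ZMod.natCast_eq_zero_iff _ _).2 h1
  rw [Nat.cast_sub hpos, Nat.cast_pow, Nat.cast_one, sub_eq_zero] at h2
  exact h2

end ext

section adj

universe v w
variable {K : Type w} [Field K]

/-- the ring hom from `K[X]/(minpoly T)` to the endomorphism ring -/
noncomputable def adjoinRootToEnd {V : Type v} [AddCommGroup V] [Module K V]
    (T : Module.End K V) : AdjoinRoot (minpoly K T) →+* Module.End K V :=
  Ideal.Quotient.lift (Ideal.span {minpoly K T}) (aeval T).toRingHom (by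
    intro a ha
    rw [Ideal.mem_span_singleton] at ha
    obtain ⟨b, rfl⟩ := ha
    simp [minpoly.aeval])

theorem adjoinRootToEnd_mk {V : Type v} [AddCommGroup V] [Module K V]
    (T : Module.End K V) (a : K[X]) :
    adjoinRootToEnd T (AdjoinRoot.mk _ a) = aeval T a := rfl

end adj

section irrcase

universe u v w
variable {K : Type w} [Field K]

theorem irr_case [Finite K] (p : ℕ) [Fact p.Prime] {P : Type u} [Group P] [Finite P]
    (hP : IsPGroup p P) {V : Type v} [AddCommGroup V] [Module K V] [FiniteDimensional K V]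
    [Nontrivial V] (ρ : Representation K P V)
    (hirr : ∀ W : Submodule K V, (∀ g, W ≤ W.comap (ρ g)) → W = ⊥ ∨ W = ⊤)
    (hne : MonoidHom.ker ρ ≠ ⊤) :
    ∃ d r : ℕ, orderOf ((Nat.card K : ℕ) : ZMod p) ∣ d ∧ d * r = finrank K V ∧ 0 < r ∧
      derivedSeries P (Nat.log 2 r + 1) ≤ MonoidHom.ker ρ := by
  obtain ⟨z, hz1, hzp, hzc⟩ := exists_central_order_p p hP ρ hne
  set T := ρ z with hTdef
  have hmirr := minpoly_irreducible_of_irr ρ hirr T hzc
  have hint : IsIntegral K T := Algebra.IsIntegral.isIntegral T
  have hm0 : minpoly K T ≠ 0 := minpoly.ne_zero hint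
  haveI : Fact (Irreducible (minpoly K T)) := ⟨hmirr⟩
  letI : Module (AdjoinRoot (minpoly K T)) V := Module.compHom V (adjoinRootToEnd T)
  have hsmul : ∀ (a : K[X]) (v : V), (AdjoinRoot.mk (minpoly K T) a) • v = aeval T a v :=
    fun a v => rfl
  haveI : IsScalarTower K (AdjoinRoot (minpoly K T)) V := by
    constructor
    intro c x v
    induction x using AdjoinRoot.induction_on with
    | ih a =>
      have h1 : c • AdjoinRoot.mk (minpoly K T) a = AdjoinRoot.mk (minpoly K T) (C c * a) := by
        rw [map_mul, AdjoinRoot.mk_C, ← AdjoinRoot.algebraMap_eq, Algebra.smul_def]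
      rw [h1, hsmul, hsmul, map_mul, aeval_C, Module.End.mul_apply]
      simp
  haveI : FiniteDimensional K (AdjoinRoot (minpoly K T)) := (AdjoinRoot.powerBasis hm0).finite
  have hlin : ∀ (g : P) (x : AdjoinRoot (minpoly K T)) (v : V), ρ g (x • v) = x • ρ g v := by
    intro g x v
    induction x using AdjoinRoot.induction_on with
    | ih a =>
      rw [hsmul, hsmul]
      have hc : Commute (ρ g) (aeval T a) :=
        Algebra.commute_of_mem_adjoin_singleton_of_commute
          (Polynomial.aeval_mem_adjoin_singleton _ _) (hzc g)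
      have := LinearMap.congr_fun hc.eq v
      simpa only [Module.End.mul_apply] using this
  have ht : (AdjoinRoot.root (minpoly K T)) ^ p = 1 := by
    rw [← AdjoinRoot.mk_X, ← map_pow, ← sub_eq_zero, ← map_one (AdjoinRoot.mk (minpoly K T)),
      ← map_sub, AdjoinRoot.mk_eq_zero]
    apply minpoly.dvd
    simp [hzp]
  have ht1 : (AdjoinRoot.root (minpoly K T)) ≠ 1 := by
    intro h
    rw [← AdjoinRoot.mk_X, ← sub_eq_zero, ← map_one (AdjoinRoot.mk (minpoly K T)),
      ← map_sub, AdjoinRoot.mk_eq_zero] at h
    obtain ⟨b, hb⟩ := h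
    have h2 := congrArg (aeval T) hb
    rw [map_mul, minpoly.aeval, zero_mul] at h2
    apply hz1
    have : T - 1 = 0 := by simpa using h2
    exact sub_eq_zero.1 this
  have hd := orderOf_dvd_finrank_of_pow_eq_one (K := K) p (AdjoinRoot (minpoly K T))
    (AdjoinRoot.root _) ht ht1
  have hmul := Module.finrank_mul_finrank K (AdjoinRoot (minpoly K T)) V
  haveI : FiniteDimensional (AdjoinRoot (minpoly K T)) V :=
    Module.Finite.of_restrictScalars_finite K (AdjoinRoot (minpoly K T)) V
  have hpos : 0 < finrank (AdjoinRoot (minpoly K T)) V := Module.finrank_pos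
  exact ⟨_, _, hd, hmul, hpos,
    derivedSeries_le_ker_of_ext p hP ρ (AdjoinRoot (minpoly K T)) hlin⟩

end irrcase

/-- the derived length bound for `p`-subgroups of `GL_n(q)`, `e` the order of `q` mod `p` -/
def finDL (e n : ℕ) : ℕ := if n < e then 0 else Nat.log 2 (n / e) + 1

theorem finDL_mono (e : ℕ) {m n : ℕ} (h : m ≤ n) : finDL e m ≤ finDL e n := by
  unfold finDL
  split_ifs with h1 h2 h2
  · exact le_rfl
  · exact Nat.zero_le _
  · omega
  · exact Nat.add_le_add_right (Nat.log_mono_right (Nat.div_le_div_right h)) 1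

section main

universe u v w
variable {K : Type w} [Field K]

theorem derivedSeries_le_ker_finite [Finite K] (p : ℕ) [Fact p.Prime] (hpK : (p : K) ≠ 0)
    {P : Type u} [Group P] [Finite P] (hP : IsPGroup p P) :
    ∀ (n : ℕ) (V : Type v) [AddCommGroup V] [Module K V] [FiniteDimensional K V]
      (ρ : Representation K P V), finrank K V ≤ n →
      derivedSeries P (finDL (orderOf ((Nat.card K : ℕ) : ZMod p)) n) ≤ MonoidHom.ker ρ := by
  intro n
  induction n with
  | zero =>
    intro V _ _ _ ρ hn g _
    rw [MonoidHom.mem_ker]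
    have : Subsingleton V := (Module.finrank_eq_zero_iff_of_free K V).1 (by omega)
    ext v; exact Subsingleton.elim _ _
  | succ n ih =>
    intro V _ _ _ ρ hn
    set e := orderOf ((Nat.card K : ℕ) : ZMod p) with he
    rcases Nat.lt_or_ge (finrank K V) (n + 1) with hlt | hge
    · exact (derivedSeries_antitone P (finDL_mono e (Nat.le_succ n))).trans
        (ih V ρ (by omega))
    have heq : finrank K V = n + 1 := le_antisymm hn hge
    have hnt : Nontrivial V := (Module.finrank_pos_iff_of_free K V).1 (by omega)
    by_cases hred : ∃ W : Submodule K V, (∀ g, W ≤ W.comap (ρ g)) ∧ W ≠ ⊥ ∧ W ≠ ⊤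
    · obtain ⟨W, hW, hbot, htop⟩ := hred
      have h1 : finrank K W < n + 1 := by
        rw [← heq]; exact Submodule.finrank_lt htop
      have h2 : 0 < finrank K W := by
        rw [Nat.pos_iff_ne_zero]
        intro h
        exact hbot (Submodule.finrank_eq_zero.1 h)
      have h3 : finrank K (V ⧸ W) < n + 1 := by
        have := Submodule.finrank_quotient_add_finrank W
        omega
      have i1 := ih W (ρ.subrepresentation W hW) (by omega)
      have i2 := ih (V ⧸ W) (ρ.quotient W hW) (by omega)
      refine (derivedSeries_antitone P (finDL_mono e (Nat.le_succ n))).trans ?_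
      intro g hg
      exact mem_ker_of_sub_quot p hpK hP ρ W hW g (i1 hg) (i2 hg)
    · push Not at hred
      have hirr : ∀ W : Submodule K V, (∀ g, W ≤ W.comap (ρ g)) → W = ⊥ ∨ W = ⊤ := by
        intro W hW
        by_cases hb : W = ⊥
        · exact Or.inl hb
        · exact Or.inr (hred W hW hb)
      by_cases hker : MonoidHom.ker ρ = ⊤
      · rw [hker]; exact le_top
      obtain ⟨d, r, hed, hdr, hr, hD⟩ := irr_case p hP ρ hirr hker
      rw [heq] at hdr
      have hd : 0 < d := by
        rcases Nat.eq_zero_or_pos d with h | h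
        · rw [h, zero_mul] at hdr; omega
        · exact h
      have hele : e ≤ d := Nat.le_of_dvd hd hed
      have hdle : d ≤ n + 1 := by
        calc d = d * 1 := (mul_one d).symm
          _ ≤ d * r := Nat.mul_le_mul_left d hr
          _ = n + 1 := hdr
      have he0 : 0 < e := Nat.pos_of_dvd_of_pos hed hd
      have hrle : r ≤ (n + 1) / e := by
        rw [Nat.le_div_iff_mul_le he0]
        calc r * e ≤ r * d := Nat.mul_le_mul_left r hele
          _ = d * r := mul_comm r d
          _ = n + 1 := hdr
      refine (derivedSeries_antitone P ?_).trans hD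
      unfold finDL
      rw [if_neg (by omega)]
      exact Nat.add_le_add_right (Nat.log_mono_right hrle) 1

end main


end Cfsg.Agent.Lib.H18
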