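import Mathlib
import Cfsg.Agent.Lib.H18.LinPGroupDL4

set_option autoImplicit false

namespace Cfsg.Agent.Lib.H18

open Module Polynomial

/-- the derived length bound for linear `p`-groups, base `p` -/
def linDLp (p n : ℕ) : ℕ := if n = 0 then 0 else Nat.log p n + 1

theorem linDLp_mono (p : ℕ) {m n : ℕ} (h : m ≤ n) : linDLp p m ≤ linDLp p n := by
  unfold linDLp
  split_ifs with h1 h2 h2
  · exact le_rfl
  · exact Nat.zero_le _
  · omega
  · exact Nat.add_le_add_right (Nat.log_mono_right h) 1

theorem linDLp_div (p : ℕ) (hp : 2 ≤ p) (n : ℕ) (hn : 1 ≤ n) :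
    1 + linDLp p (n / p) ≤ linDLp p n := by
  unfold linDLp
  rcases Nat.lt_or_ge n p with h | h
  · have h3 : n / p = 0 := Nat.div_eq_of_lt h
    have h4 : n ≠ 0 := by omega
    simp only [h3, h4, if_true, if_false]
    omega
  · have h3 : n / p ≠ 0 := by
      have : 1 ≤ n / p := (Nat.one_le_div_iff (by omega)).2 h
      omega
    have h4 : n ≠ 0 := by omega
    simp only [h3, h4, if_false]
    have := Nat.log_div_base p n
    have h5 : 1 ≤ Nat.log p n := Nat.log_pos (by omega) h
    omega

theorem linDLp_pos (p : ℕ) {n : ℕ} (hn : 1 ≤ n) : 1 ≤ linDLp p n := by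
  unfold linDLp
  have : n ≠ 0 := by omega
  simp [this]

theorem sum_finrank_eigenspace_le {K V : Type*} [Field K] [AddCommGroup V] [Module K V]
    [FiniteDimensional K V] (A : Module.End K V) {ι : Type} [Fintype ι] [DecidableEq ι]
    (ν : ι → K) (hν : Function.Injective ν) :
    ∑ i, finrank K (Module.End.eigenspace A (ν i)) ≤ finrank K V := by
  have hind : iSupIndep (fun i => Module.End.eigenspace A (ν i)) :=
    (Module.End.eigenspaces_iSupIndep A).comp hν
  have hinj := hind.dfinsupp_lsum_injective
  rw [← Module.finrank_directSum K (fun i => Module.End.eigenspace A (ν i))]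
  exact LinearMap.finrank_le_finrank_of_injective hinj

section charnp

universe u v w

variable {K : Type w} [Field K]

variable [IsAlgClosed K] (p : ℕ) [Fact p.Prime]

theorem derivedSeries_le_ker_of_ne_char_p (hpK : (p : K) ≠ 0) :
    ∀ (n : ℕ) (P : Type u) [Group P] [Finite P] (_ : IsPGroup p P) (V : Type v) [AddCommGroup V]
      [Module K V] [FiniteDimensional K V] (ρ : Representation K P V), finrank K V ≤ n →
      derivedSeries P (linDLp p n) ≤ MonoidHom.ker ρ := by
  intro n
  induction n using Nat.strong_induction_on with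
  | _ n ih =>
  intro P _ _ hP V _ _ _ ρ hn
  -- zero-dimensional case
  rcases Nat.eq_zero_or_pos (finrank K V) with h0 | hpos
  · intro g _
    rw [MonoidHom.mem_ker]
    have : Subsingleton V := (Module.finrank_eq_zero_iff_of_free K V).1 h0
    ext v; exact Subsingleton.elim _ _
  have hnt : Nontrivial V := (Module.finrank_pos_iff_of_free K V).1 hpos
  -- if finrank < n, use IH
  rcases lt_or_eq_of_le hn with hlt | heq
  · exact (derivedSeries_antitone P (linDLp_mono p hlt.le)).trans (ih _ hlt P hP V ρ le_rfl)
  have hn1 : 1 ≤ n := by omega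
  have hone_ne : (1 : Module.End K V) ≠ 0 := one_ne_zero
  -- Case 1: abelian image
  by_cases hab : ∀ g h : P, ρ g * ρ h = ρ h * ρ g
  · have h1 : derivedSeries P 1 ≤ MonoidHom.ker ρ := by
      rw [derivedSeries_one, commutator_def, Subgroup.commutator_le]
      intro g _ h _
      rw [MonoidHom.mem_ker, commutatorElement_def, map_mul, map_mul, map_mul, hab g h,
        mul_assoc (ρ h), rep_mul_inv, mul_one, rep_mul_inv]
    exact (derivedSeries_antitone P (linDLp_pos p hn1)).trans h1
  -- Case 2: a central element that is not a scalar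
  by_cases hsc : ∃ z ∈ repCenter ρ, ∀ c : K, ρ z ≠ c • 1
  · obtain ⟨z, hz, hzc⟩ := hsc
    have hinv : ∀ μ : K, ∀ g : P, Module.End.eigenspace (ρ z) μ ≤ (Module.End.eigenspace (ρ z) μ).comap (ρ g) := by
      intro μ g w hw
      rw [Submodule.mem_comap, Module.End.mem_eigenspace_iff]
      rw [Module.End.mem_eigenspace_iff] at hw
      have := LinearMap.congr_fun (hz g) w
      simp only [Module.End.mul_apply] at this
      rw [this, hw, map_smul]
    have hlt : ∀ μ : K, finrank K (Module.End.eigenspace (ρ z) μ) < n := by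
      intro μ
      rw [← heq]
      apply Submodule.finrank_lt
      intro htop
      apply hzc μ
      ext v
      have : v ∈ Module.End.eigenspace (ρ z) μ := by rw [htop]; trivial
      rw [Module.End.mem_eigenspace_iff] at this
      simpa using this
    intro g hg
    rw [MonoidHom.mem_ker]
    apply eq_one_of_eigenspaces (isSemisimple_of_isPGroup p hpK hP ρ z)
    intro μ w hw
    have h1 := ih _ (hlt μ) P hP (Module.End.eigenspace (ρ z) μ) (ρ.subrepresentation _ (hinv μ)) le_rfl
    have h2 : g ∈ MonoidHom.ker (ρ.subrepresentation _ (hinv μ)) :=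
      h1 (derivedSeries_antitone P (linDLp_mono p (hlt μ).le) hg)
    rw [MonoidHom.mem_ker] at h2
    have h3 := LinearMap.congr_fun h2 ⟨w, hw⟩
    simpa using congrArg Subtype.val h3
  -- Case 3
  push Not at hsc hab
  have hZtop : repCenter ρ ≠ ⊤ := by
    intro h
    obtain ⟨g, h', hgh⟩ := hab
    exact hgh ((mem_repCenter ρ g).1 (h ▸ Subgroup.mem_top g) h')
  have hQnt : Nontrivial (P ⧸ repCenter ρ) := by
    by_contra hns
    rw [not_nontrivial_iff_subsingleton] at hns
    apply hZtop
    rw [eq_top_iff]
    intro x _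
    rw [← QuotientGroup.eq_one_iff]
    exact Subsingleton.elim _ _
  have hQ : IsPGroup p (P ⧸ repCenter ρ) := hP.to_quotient _
  have hcnt := hQ.center_nontrivial
  obtain ⟨⟨abar, habar⟩, hne⟩ := exists_ne (1 : Subgroup.center (P ⧸ repCenter ρ))
  obtain ⟨a, rfl⟩ := QuotientGroup.mk_surjective abar
  have ha : a ∉ repCenter ρ := by
    intro h
    apply hne
    ext
    simpa using (QuotientGroup.eq_one_iff a).2 h
  have hcomm : ∀ g : P, a * g * a⁻¹ * g⁻¹ ∈ repCenter ρ := by
    intro g
    rw [← QuotientGroup.eq_one_iff]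
    have h1 := Subgroup.mem_center_iff.1 habar (g : P ⧸ repCenter ρ)
    simp only [QuotientGroup.mk_mul, QuotientGroup.mk_inv]
    rw [← h1]
    group
  -- the twisted commutation
  have htw : ∀ g : P, ∃ c : K, c ≠ 0 ∧ TwComm (ρ a) (ρ g) c := by
    intro g
    obtain ⟨c, hc⟩ := hsc _ (hcomm g)
    have hc0 : c ≠ 0 := by
      rintro rfl
      rw [zero_smul] at hc
      have := rep_mul_inv ρ (a * g * a⁻¹ * g⁻¹)
      rw [hc, zero_mul] at this
      exact hone_ne this.symm
    refine ⟨c, hc0, ?_⟩
    unfold TwComm
    have h1 : ρ a * ρ g * ρ a⁻¹ * ρ g⁻¹ = c • 1 := by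
      rw [← hc]; simp only [map_mul]
    calc ρ a * ρ g = ρ a * ρ g * ρ a⁻¹ * ρ g⁻¹ * (ρ g * ρ a) := by
          have : ρ a * ρ g * ρ a⁻¹ * ρ g⁻¹ * (ρ g * ρ a)
              = ρ a * ρ g * ρ a⁻¹ * (ρ g⁻¹ * ρ g) * ρ a := by simp only [mul_assoc]
          rw [this, rep_inv_mul, mul_one, mul_assoc (ρ a * ρ g), rep_inv_mul, mul_one]
      _ = c • (ρ g * ρ a) := by rw [h1, smul_mul_assoc, one_mul]
  set A : Module.End K V := ρ a with hA
  set N : Subgroup P := repCentralizer ρ A with hN
  -- the commutator subgroup lies in `N`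
  have hcN : commutator P ≤ N := by
    rw [commutator_def, Subgroup.commutator_le]
    intro g _ h _
    obtain ⟨c, hc0, hc⟩ := htw g
    obtain ⟨d, hd0, hd⟩ := htw h
    have hc' := hc.inv hc0 (rep_mul_inv ρ g) (rep_inv_mul ρ g)
    have hd' := hd.inv hd0 (rep_mul_inv ρ h) (rep_inv_mul ρ h)
    have := ((hc.mul hd).mul hc').mul hd'
    rw [mem_repCentralizer, commutatorElement_def]
    unfold TwComm at this
    have e : c * d * c⁻¹ * d⁻¹ = 1 := by field_simp
    rw [e, one_smul] at this
    simpa only [map_mul] using this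
  -- an element not commuting with `A`
  obtain ⟨g₀, hg₀⟩ : ∃ g₀ : P, A * ρ g₀ ≠ ρ g₀ * A := by
    by_contra hcon
    push Not at hcon
    exact ha hcon
  obtain ⟨c₀, hc₀0, hc₀⟩ := htw g₀
  have hc₀1 : c₀ ≠ 1 := by
    rintro rfl
    apply hg₀
    unfold TwComm at hc₀
    rw [hc₀, one_smul]
  -- the eigenspaces of `A` are small
  have hAinj : Function.Injective A := by
    intro x y hxy
    have := congrArg (ρ a⁻¹) hxy
    have e := rep_inv_mul ρ a
    have ex := LinearMap.congr_fun e x
    have ey := LinearMap.congr_fun e y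
    simp only [Module.End.mul_apply, Module.End.one_apply] at ex ey
    rw [← ex, ← ey]
    exact this
  have hg₀inj : Function.Injective (ρ g₀) := by
    intro x y hxy
    have := congrArg (ρ g₀⁻¹) hxy
    have e := rep_inv_mul ρ g₀
    have ex := LinearMap.congr_fun e x
    have ey := LinearMap.congr_fun e y
    simp only [Module.End.mul_apply, Module.End.one_apply] at ex ey
    rw [← ex, ← ey]
    exact this
  have hAne : A ≠ 0 := by
    intro h
    obtain ⟨v, hv⟩ := exists_ne (0 : V)
    apply hv
    apply hAinj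
    rw [h]; simp
  -- `c₀` has `p`-power order
  have htwpow : ∀ m : ℕ, TwComm A (ρ g₀ ^ m) (c₀ ^ m) := by
    intro m
    induction m with
    | zero => unfold TwComm; simp
    | succ m ih => rw [pow_succ, pow_succ]; exact ih.mul hc₀
  obtain ⟨j, hj⟩ := hP g₀
  have hc₀pow : c₀ ^ (p ^ j) = 1 := by
    have h1 := htwpow (p ^ j)
    rw [← map_pow, hj, map_one] at h1
    unfold TwComm at h1
    rw [mul_one, one_mul] at h1
    by_contra hne
    apply hAne
    have : (1 - c₀ ^ (p ^ j)) • A = 0 := by rw [sub_smul, one_smul, ← h1, sub_self]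
    rcases smul_eq_zero.1 this with h2 | h2
    · exact absurd (sub_eq_zero.1 h2).symm hne
    · exact h2
  have hple : p ≤ orderOf c₀ := by
    have h1 : orderOf c₀ ∣ p ^ j := orderOf_dvd_of_pow_eq_one hc₀pow
    obtain ⟨i, hi, hi2⟩ := (Nat.dvd_prime_pow (Fact.out : p.Prime)).1 h1
    have hi0 : i ≠ 0 := by
      rintro rfl
      rw [pow_zero, orderOf_eq_one_iff] at hi2
      exact hc₀1 hi2
    rw [hi2]
    calc p = p ^ 1 := (pow_one p).symm
      _ ≤ p ^ i := Nat.pow_le_pow_right (Fact.out : p.Prime).pos (by omega)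
  have hstep : ∀ ν : K, finrank K (Module.End.eigenspace A ν) ≤
      finrank K (Module.End.eigenspace A (c₀ * ν)) := by
    intro ν
    have hmap : (Module.End.eigenspace A ν).map (ρ g₀) ≤ Module.End.eigenspace A (c₀ * ν) := by
      rintro _ ⟨w, hw, rfl⟩
      rw [SetLike.mem_coe, Module.End.mem_eigenspace_iff] at hw
      rw [Module.End.mem_eigenspace_iff]
      have := LinearMap.congr_fun hc₀ w
      simp only [Module.End.mul_apply, LinearMap.smul_apply] at this
      rw [this, hw, map_smul, smul_smul]
    calc finrank K (Module.End.eigenspace A ν)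
        = finrank K ((Module.End.eigenspace A ν).map (ρ g₀)) :=
          LinearEquiv.finrank_eq (Submodule.equivMapOfInjective (ρ g₀) hg₀inj _)
      _ ≤ _ := Submodule.finrank_mono hmap
  have hdim : ∀ μ : K, finrank K (Module.End.eigenspace A μ) ≤ n / p := by
    intro μ
    by_cases hμ : μ = 0
    · subst hμ
      have : Module.End.eigenspace A 0 = ⊥ := by
        rw [Module.End.eigenspace_zero]
        exact LinearMap.ker_eq_bot.2 hAinj
      rw [this]; simp
    · have hle : ∀ i : ℕ, finrank K (Module.End.eigenspace A μ) ≤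
          finrank K (Module.End.eigenspace A (c₀ ^ i * μ)) := by
        intro i
        induction i with
        | zero => rw [pow_zero, one_mul]
        | succ i ih =>
          rw [_root_.pow_succ', mul_assoc]
          exact ih.trans (hstep _)
      have hinj : Function.Injective (fun i : Fin p => c₀ ^ (i : ℕ) * μ) := by
        intro a b hab
        have h1 : c₀ ^ (a : ℕ) = c₀ ^ (b : ℕ) := mul_right_cancel₀ hμ hab
        apply Fin.ext
        exact pow_injOn_Iio_orderOf (lt_of_lt_of_le a.2 hple) (lt_of_lt_of_le b.2 hple) h1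
      have hsum := sum_finrank_eigenspace_le A _ hinj
      have h2 : p * finrank K (Module.End.eigenspace A μ) ≤
          ∑ i : Fin p, finrank K (Module.End.eigenspace A (c₀ ^ (i : ℕ) * μ)) := by
        calc p * finrank K (Module.End.eigenspace A μ)
            = ∑ _i : Fin p, finrank K (Module.End.eigenspace A μ) := by simp
          _ ≤ _ := Finset.sum_le_sum (fun i _ => hle i)
      rw [Nat.le_div_iff_mul_le (Fact.out : p.Prime).pos, mul_comm, ← heq]
      exact h2.trans hsum
  -- invariance under `N`
  have hinv : ∀ μ : K, ∀ g : N, Module.End.eigenspace A μ ≤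
      (Module.End.eigenspace A μ).comap ((ρ.comp N.subtype) g) := by
    intro μ g w hw
    rw [Submodule.mem_comap, Module.End.mem_eigenspace_iff]
    rw [Module.End.mem_eigenspace_iff] at hw
    have := LinearMap.congr_fun ((mem_repCentralizer ρ A g).1 g.2) w
    simp only [Module.End.mul_apply] at this
    simp only [MonoidHom.coe_comp, Subgroup.coe_subtype, Function.comp_apply]
    rw [this, hw, map_smul]
  have hNker : ∀ x ∈ derivedSeries N (linDLp p (n / p)), ρ (x : P) = 1 := by
    intro x hx
    apply eq_one_of_eigenspaces (isSemisimple_of_isPGroup p hpK hP ρ a)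
    intro μ w hw
    have hlt : finrank K (Module.End.eigenspace A μ) < n := by
      have := hdim μ
      have h2 : n / p < n := Nat.div_lt_self (by omega) (Fact.out : p.Prime).one_lt
      omega
    have h1 := ih _ hlt N (hP.to_subgroup N) (Module.End.eigenspace A μ)
      (Representation.subrepresentation (ρ.comp N.subtype : Representation K N V) _ (hinv μ)) le_rfl
    have h2 : x ∈ MonoidHom.ker
        (Representation.subrepresentation (ρ.comp N.subtype : Representation K N V) _ (hinv μ)) :=
      h1 (derivedSeries_antitone N (linDLp_mono p (hdim μ)) hx)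
    rw [MonoidHom.mem_ker] at h2
    have h3 := LinearMap.congr_fun h2 ⟨w, hw⟩
    simpa using congrArg Subtype.val h3
  intro g hg
  have h1 : g ∈ derivedSeries P (linDLp p (n / p) + 1) := by
    apply derivedSeries_antitone P _ hg
    have := linDLp_div p (Fact.out : p.Prime).two_le n hn1
    omega
  obtain ⟨x, hx, rfl⟩ := derivedSeries_succ_le_map_subtype N hcN _ h1
  rw [MonoidHom.mem_ker]
  exact hNker x hx

end charnp

end Cfsg.Agent.Lib.H18
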