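import Mathlib
import Cfsg.Agent.Lib.H18.LinPGroupDLp

set_option autoImplicit false

namespace Cfsg.Agent.Lib.H18

open Module Polynomial

section gluep

universe u v w

theorem derivedSeries_le_ker_GL_p {P : Type u} [Group P] [Finite P] (p : ℕ)
    [Fact p.Prime] (hP : IsPGroup p P) (F : Type w) [Field F] (hpF : (p : F) ≠ 0) (n : ℕ)
    (hn : 1 ≤ n) (ρ : P →* Matrix.GeneralLinearGroup (Fin n) F) :
    derivedSeries P (Nat.log p n + 1) ≤ MonoidHom.ker ρ := by
  let K := AlgebraicClosure F
  have hpK : (p : K) ≠ 0 := by
    intro h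
    apply hpF
    apply (algebraMap F K).injective
    rw [map_natCast, h, map_zero]
  let ρ' : P →* Matrix.GeneralLinearGroup (Fin n) K :=
    (Matrix.GeneralLinearGroup.map (algebraMap F K)).comp ρ
  have hker : MonoidHom.ker ρ' = MonoidHom.ker ρ := by
    ext x
    rw [MonoidHom.mem_ker, MonoidHom.mem_ker]
    constructor
    · intro hx
      apply Units.ext
      ext i j
      have h2 := congrArg (fun u : Matrix.GeneralLinearGroup (Fin n) K => u i j) hx
      simp only [ρ', MonoidHom.coe_comp, Function.comp_apply,
        Matrix.GeneralLinearGroup.map_apply] at h2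
      apply (algebraMap F K).injective
      rw [h2]
      by_cases hij : i = j
      · subst hij; simp
      · simp [hij]
    · intro hx
      simp [ρ', hx]
  have h1 := derivedSeries_le_ker_of_ne_char_p p hpK n P hP (Fin n → K) (glRep ρ') (by simp)
  rw [glRep_ker' ρ', hker] at h1
  have e : linDLp p n = Nat.log p n + 1 := by
    unfold linDLp
    have : n ≠ 0 := by omega
    simp [this]
  rw [e] at h1
  exact h1

/-- the base-`p` derived length bound for a finite-dimensional representation of a `p`-group
in characteristic different from `p` -/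
theorem derivedSeries_le_ker_rep_p {P : Type u} [Group P] [Finite P] (p : ℕ)
    [Fact p.Prime] (hP : IsPGroup p P) {K : Type w} [Field K] (hpK : (p : K) ≠ 0)
    {V : Type*} [AddCommGroup V]
    [Module K V] [FiniteDimensional K V] (ρ : Representation K P V) :
    derivedSeries P (Nat.log p (finrank K V) + 1) ≤ MonoidHom.ker ρ := by
  rcases Nat.eq_zero_or_pos (finrank K V) with h0 | hpos
  · intro g _
    rw [MonoidHom.mem_ker]
    have : Subsingleton V := (Module.finrank_eq_zero_iff_of_free K V).1 h0
    ext v; exact Subsingleton.elim _ _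
  let b := Module.finBasis K V
  let M : P →* Matrix (Fin (finrank K V)) (Fin (finrank K V)) K :=
    ((LinearMap.toMatrixAlgEquiv b : Module.End K V ≃ₐ[K] _) : Module.End K V →* _).comp ρ
  have h1 := derivedSeries_le_ker_GL_p p hP K hpK (finrank K V) hpos M.toHomUnits
  refine h1.trans ?_
  intro x hx
  rw [MonoidHom.mem_ker] at hx ⊢
  have h2 := congrArg Units.val hx
  simp only [MonoidHom.coe_toHomUnits, Units.val_one] at h2
  have h3 : (LinearMap.toMatrixAlgEquiv b) (ρ x) = 1 := h2
  have := (LinearMap.toMatrixAlgEquiv b).injective (h3.trans (map_one _).symm)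
  exact this

/-- descent to an extension field acting on the module, base `p` -/
theorem derivedSeries_le_ker_of_ext_p {K : Type w} [Field K] {P : Type u} [Group P] [Finite P]
    (p : ℕ) [Fact p.Prime] (hpK : (p : K) ≠ 0)
    (hP : IsPGroup p P) {V : Type v} [AddCommGroup V] [Module K V] [FiniteDimensional K V]
    (ρ : Representation K P V) (E : Type*) [Field E] [Algebra K E] [Module E V]
    [IsScalarTower K E V] (hlin : ∀ (g : P) (x : E) (v : V), ρ g (x • v) = x • ρ g v) :
    derivedSeries P (Nat.log p (finrank E V) + 1) ≤ MonoidHom.ker ρ := by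
  haveI : FiniteDimensional E V := Module.Finite.of_restrictScalars_finite K E V
  have hpE : (p : E) ≠ 0 := by
    intro h
    apply hpK
    apply (algebraMap K E).injective
    rw [map_natCast, h, map_zero]
  let ρE : Representation E P V :=
    { toFun := fun g => { toFun := fun v => ρ g v
                          map_add' := fun a b => map_add _ a b
                          map_smul' := fun x v => hlin g x v }
      map_one' := by ext v; simp
      map_mul' := by intro a b; ext v; simp }
  have h1 := derivedSeries_le_ker_rep_p p hP hpE ρE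
  refine h1.trans ?_
  intro g hg
  rw [MonoidHom.mem_ker] at hg ⊢
  ext v
  have := LinearMap.congr_fun hg v
  exact this

end gluep

section irrcasep

universe u v w
variable {K : Type w} [Field K]

theorem irr_case_p [Finite K] (p : ℕ) [Fact p.Prime] (hpK : (p : K) ≠ 0) {P : Type u} [Group P] [Finite P]
    (hP : IsPGroup p P) {V : Type v} [AddCommGroup V] [Module K V] [FiniteDimensional K V]
    [Nontrivial V] (ρ : Representation K P V)
    (hirr : ∀ W : Submodule K V, (∀ g, W ≤ W.comap (ρ g)) → W = ⊥ ∨ W = ⊤)
    (hne : MonoidHom.ker ρ ≠ ⊤) :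
    ∃ d r : ℕ, orderOf ((Nat.card K : ℕ) : ZMod p) ∣ d ∧ d * r = finrank K V ∧ 0 < r ∧
      derivedSeries P (Nat.log p r + 1) ≤ MonoidHom.ker ρ := by
  obtain ⟨z, hz1, hzp, hzc⟩ := exists_central_order_p p hP ρ hne
  set T := ρ z with hTdef
  have hmirr := minpoly_irreducible_of_irr ρ hirr T hzc
  have hint : IsIntegral K T := Algebra.IsIntegral.isIntegral T
  have hm0 : minpoly K T ≠ 0 := minpoly.ne_zero hint
  haveI : Fact (Irreducible (minpoly K T)) := ⟨hmirr⟩
  letI : Module (AdjoinRoot (minpoly K T)) V := Module.compHom V (adjoinRootToEnd T)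
  have hsmul : ∀ (a : K[X]) (v : V), (AdjoinRoot.mk (minpoly K T) a) • v = aeval T a v :=
    fun a v => rfl
  haveI : IsScalarTower K (AdjoinRoot (minpoly K T)) V := by
    constructor
    intro c x v
    induction x using AdjoinRoot.induction_on with
    | ih a =>
      have h1 : c • AdjoinRoot.mk (minpoly K T) a = AdjoinRoot.mk (minpoly K T) (C c * a) := by
        rw [map_mul, AdjoinRoot.mk_C, ← AdjoinRoot.algebraMap_eq, Algebra.smul_def]
      rw [h1, hsmul, hsmul, map_mul, aeval_C, Module.End.mul_apply]
      simp
  haveI : FiniteDimensional K (AdjoinRoot (minpoly K T)) := (AdjoinRoot.powerBasis hm0).finite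
  have hlin : ∀ (g : P) (x : AdjoinRoot (minpoly K T)) (v : V), ρ g (x • v) = x • ρ g v := by
    intro g x v
    induction x using AdjoinRoot.induction_on with
    | ih a =>
      rw [hsmul, hsmul]
      have hc : Commute (ρ g) (aeval T a) :=
        Algebra.commute_of_mem_adjoin_singleton_of_commute
          (Polynomial.aeval_mem_adjoin_singleton _ _) (hzc g)
      have := LinearMap.congr_fun hc.eq v
      simpa only [Module.End.mul_apply] using this
  have ht : (AdjoinRoot.root (minpoly K T)) ^ p = 1 := by
    rw [← AdjoinRoot.mk_X, ← map_pow, ← sub_eq_zero, ← map_one (AdjoinRoot.mk (minpoly K T)),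
      ← map_sub, AdjoinRoot.mk_eq_zero]
    apply minpoly.dvd
    simp [hzp]
  have ht1 : (AdjoinRoot.root (minpoly K T)) ≠ 1 := by
    intro h
    rw [← AdjoinRoot.mk_X, ← sub_eq_zero, ← map_one (AdjoinRoot.mk (minpoly K T)),
      ← map_sub, AdjoinRoot.mk_eq_zero] at h
    obtain ⟨b, hb⟩ := h
    have h2 := congrArg (aeval T) hb
    rw [map_mul, minpoly.aeval, zero_mul] at h2
    apply hz1
    have : T - 1 = 0 := by simpa using h2
    exact sub_eq_zero.1 this
  have hd := orderOf_dvd_finrank_of_pow_eq_one (K := K) p (AdjoinRoot (minpoly K T))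
    (AdjoinRoot.root _) ht ht1
  have hmul := Module.finrank_mul_finrank K (AdjoinRoot (minpoly K T)) V
  haveI : FiniteDimensional (AdjoinRoot (minpoly K T)) V :=
    Module.Finite.of_restrictScalars_finite K (AdjoinRoot (minpoly K T)) V
  have hpos : 0 < finrank (AdjoinRoot (minpoly K T)) V := Module.finrank_pos
  exact ⟨_, _, hd, hmul, hpos,
    derivedSeries_le_ker_of_ext_p p hpK hP ρ (AdjoinRoot (minpoly K T)) hlin⟩

end irrcasep

/-- the derived length bound for `p`-subgroups of `GL_n(q)`, `e` the order of `q` mod `p` -/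
def finDLp (p e n : ℕ) : ℕ := if n < e then 0 else Nat.log p (n / e) + 1

theorem finDLp_mono (p e : ℕ) {m n : ℕ} (h : m ≤ n) : finDLp p e m ≤ finDLp p e n := by
  unfold finDLp
  split_ifs with h1 h2 h2
  · exact le_rfl
  · exact Nat.zero_le _
  · omega
  · exact Nat.add_le_add_right (Nat.log_mono_right (Nat.div_le_div_right h)) 1

section mainp

universe u v w
variable {K : Type w} [Field K]

theorem derivedSeries_le_ker_finite_p [Finite K] (p : ℕ) [Fact p.Prime] (hpK : (p : K) ≠ 0)
    {P : Type u} [Group P] [Finite P] (hP : IsPGroup p P) :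
    ∀ (n : ℕ) (V : Type v) [AddCommGroup V] [Module K V] [FiniteDimensional K V]
      (ρ : Representation K P V), finrank K V ≤ n →
      derivedSeries P (finDLp p (orderOf ((Nat.card K : ℕ) : ZMod p)) n) ≤ MonoidHom.ker ρ := by
  intro n
  induction n with
  | zero =>
    intro V _ _ _ ρ hn g _
    rw [MonoidHom.mem_ker]
    have : Subsingleton V := (Module.finrank_eq_zero_iff_of_free K V).1 (by omega)
    ext v; exact Subsingleton.elim _ _
  | succ n ih =>
    intro V _ _ _ ρ hn
    set e := orderOf ((Nat.card K : ℕ) : ZMod p) with he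
    rcases Nat.lt_or_ge (finrank K V) (n + 1) with hlt | hge
    · exact (derivedSeries_antitone P (finDLp_mono p e (Nat.le_succ n))).trans
        (ih V ρ (by omega))
    have heq : finrank K V = n + 1 := le_antisymm hn hge
    have hnt : Nontrivial V := (Module.finrank_pos_iff_of_free K V).1 (by omega)
    by_cases hred : ∃ W : Submodule K V, (∀ g, W ≤ W.comap (ρ g)) ∧ W ≠ ⊥ ∧ W ≠ ⊤
    · obtain ⟨W, hW, hbot, htop⟩ := hred
      have h1 : finrank K W < n + 1 := by
        rw [← heq]; exact Submodule.finrank_lt htop
      have h2 : 0 < finrank K W := by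
        rw [Nat.pos_iff_ne_zero]
        intro h
        exact hbot (Submodule.finrank_eq_zero.1 h)
      have h3 : finrank K (V ⧸ W) < n + 1 := by
        have := Submodule.finrank_quotient_add_finrank W
        omega
      have i1 := ih W (ρ.subrepresentation W hW) (by omega)
      have i2 := ih (V ⧸ W) (ρ.quotient W hW) (by omega)
      refine (derivedSeries_antitone P (finDLp_mono p e (Nat.le_succ n))).trans ?_
      intro g hg
      exact mem_ker_of_sub_quot p hpK hP ρ W hW g (i1 hg) (i2 hg)
    · push Not at hred
      have hirr : ∀ W : Submodule K V, (∀ g, W ≤ W.comap (ρ g)) → W = ⊥ ∨ W = ⊤ := by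
        intro W hW
        by_cases hb : W = ⊥
        · exact Or.inl hb
        · exact Or.inr (hred W hW hb)
      by_cases hker : MonoidHom.ker ρ = ⊤
      · rw [hker]; exact le_top
      obtain ⟨d, r, hed, hdr, hr, hD⟩ := irr_case_p p hpK hP ρ hirr hker
      rw [heq] at hdr
      have hd : 0 < d := by
        rcases Nat.eq_zero_or_pos d with h | h
        · rw [h, zero_mul] at hdr; omega
        · exact h
      have hele : e ≤ d := Nat.le_of_dvd hd hed
      have hdle : d ≤ n + 1 := by
        calc d = d * 1 := (mul_one d).symm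
          _ ≤ d * r := Nat.mul_le_mul_left d hr
          _ = n + 1 := hdr
      have he0 : 0 < e := Nat.pos_of_dvd_of_pos hed hd
      have hrle : r ≤ (n + 1) / e := by
        rw [Nat.le_div_iff_mul_le he0]
        calc r * e ≤ r * d := Nat.mul_le_mul_left r hele
          _ = d * r := mul_comm r d
          _ = n + 1 := hdr
      refine (derivedSeries_antitone P ?_).trans hD
      unfold finDLp
      rw [if_neg (by omega)]
      exact Nat.add_le_add_right (Nat.log_mono_right hrle) 1

end mainp


end Cfsg.Agent.Lib.H18
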