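import Mathlib
import Cfsg.Agent.Lib.H18.LinPGroupDL4
import Cfsg.Agent.Lib.H18.SylowSymDL

set_option autoImplicit false

namespace Cfsg.Agent.Lib.H18

open Module RegularWreathProduct

section wreathRep

variable {K : Type*} [Field K] {D Q : Type*} [Group D] [Group Q] {V : Type*} [AddCommGroup V]
  [Module K V]

/-- the linear representation of `D ≀ᵣ Q` on `Q → V` induced from a representation of `D` -/
def wreathRep (ρ : Representation K D V) : Representation K (D ≀ᵣ Q) (Q → V) where
  toFun w :=
    { toFun := fun f x => ρ (w.left x) (f (w.right⁻¹ * x))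
      map_add' := by intro f g; ext x; simp
      map_smul' := by intro c f; ext x; simp }
  map_one' := by
    ext f x
    simp
  map_mul' := by
    intro a b
    ext f x
    simp [mul_assoc]

theorem wreathRep_apply (ρ : Representation K D V) (w : D ≀ᵣ Q) (f : Q → V) (x : Q) :
    wreathRep ρ w f x = ρ (w.left x) (f (w.right⁻¹ * x)) := rfl

theorem wreathRep_ker [Nontrivial V] (ρ : Representation K D V) (hρ : MonoidHom.ker ρ = ⊥) :
    MonoidHom.ker (wreathRep (Q := Q) ρ) = ⊥ := by
  classical
  rw [eq_bot_iff]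
  intro w hw
  rw [MonoidHom.mem_ker] at hw
  rw [Subgroup.mem_bot]
  obtain ⟨u, hu⟩ := exists_ne (0 : V)
  have hinj : ∀ d : D, Function.Injective (ρ d) := by
    intro d x y hxy
    have := congrArg (ρ d⁻¹) hxy
    have e : ρ d⁻¹ * ρ d = 1 := by rw [← map_mul, inv_mul_cancel, map_one]
    have ex := LinearMap.congr_fun e x
    have ey := LinearMap.congr_fun e y
    simp only [Module.End.mul_apply, Module.End.one_apply] at ex ey
    rw [← ex, ← ey]
    exact this
  have hr : w.right = 1 := by
    by_contra hne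
    have h1 := congrFun (LinearMap.congr_fun hw (Pi.single 1 u)) w.right
    rw [wreathRep_apply] at h1
    simp only [inv_mul_cancel, Pi.single_eq_same, Module.End.one_apply] at h1
    rw [Pi.single_eq_of_ne hne] at h1
    apply hu
    apply hinj (w.left w.right)
    rw [h1, map_zero]
  have hl : w.left = 1 := by
    ext x
    have : w.left x ∈ MonoidHom.ker ρ := by
      rw [MonoidHom.mem_ker]
      ext v
      have h1 := congrFun (LinearMap.congr_fun hw (Pi.single x v)) x
      rw [wreathRep_apply, hr] at h1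
      simpa using h1
    rw [hρ, Subgroup.mem_bot] at this
    exact this
  ext x
  · rw [hl]; rfl
  · exact hr

end wreathRep

section iter

universe u

theorem exists_faithful_iterated (F : Type u) [Field F] (G : Type u) [Group G] [Finite G]
    (V₀ : Type u) [AddCommGroup V₀] [Module F V₀] [FiniteDimensional F V₀] [Nontrivial V₀]
    (ρ₀ : Representation F G V₀) (hρ₀ : MonoidHom.ker ρ₀ = ⊥) (k : ℕ) :
    ∃ (V : Type u) (_ : AddCommGroup V) (_ : Module F V) (_ : FiniteDimensional F V)
      (_ : Nontrivial V) (ρ : Representation F (IteratedWreathProduct G (k + 1)) V),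
      MonoidHom.ker ρ = ⊥ ∧ finrank F V = finrank F V₀ * (Nat.card G) ^ k := by
  induction k with
  | zero =>
    refine ⟨V₀, inferInstance, inferInstance, inferInstance, inferInstance,
      ρ₀.comp (rightHom : IteratedWreathProduct G 0 ≀ᵣ G →* G), ?_, by simp⟩
    rw [eq_bot_iff]
    intro w hw
    rw [MonoidHom.mem_ker] at hw
    have h1 : (rightHom : IteratedWreathProduct G 0 ≀ᵣ G →* G) w ∈ MonoidHom.ker ρ₀ := hw
    rw [hρ₀, Subgroup.mem_bot] at h1
    rw [Subgroup.mem_bot]
    apply RegularWreathProduct.ext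
    · funext x
      exact Subsingleton.elim (α := PUnit) _ _
    · exact h1
  | succ k ih =>
    obtain ⟨V, i1, i2, i3, i4, ρ, hρ, hdim⟩ := ih
    haveI : Fintype G := Fintype.ofFinite G
    haveI : Nonempty G := ⟨1⟩
    refine ⟨G → V, inferInstance, inferInstance, inferInstance, inferInstance,
      wreathRep (D := IteratedWreathProduct G (k + 1)) (Q := G) ρ, wreathRep_ker ρ hρ, ?_⟩
    rw [Module.finrank_pi_fintype, Finset.sum_const, Finset.card_univ, smul_eq_mul, hdim,
      Nat.card_eq_fintype_card, pow_succ]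
    ring

end iter

section embed

theorem exists_injective_GL_of_faithful {F : Type*} [Field F] {W : Type*} [Group W] {V : Type*}
    [AddCommGroup V] [Module F V] [FiniteDimensional F V] (ρ : Representation F W V)
    (hρ : MonoidHom.ker ρ = ⊥) (n : ℕ) (hn : finrank F V ≤ n) :
    ∃ f : W →* Matrix.GeneralLinearGroup (Fin n) F, Function.Injective f := by
  let U := Fin (n - finrank F V) → F
  let ρ' : W →* Module.End F (V × U) :=
    { toFun := fun w => (ρ w).prodMap LinearMap.id
      map_one' := by
        apply LinearMap.ext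
        rintro ⟨v, u⟩
        simp
      map_mul' := by
        intro a b
        apply LinearMap.ext
        rintro ⟨v, u⟩
        simp }
  have hdim : finrank F (V × U) = n := by
    rw [Module.finrank_prod, Module.finrank_fin_fun]
    omega
  let b := Module.finBasisOfFinrankEq F (V × U) hdim
  let M : W →* Matrix (Fin n) (Fin n) F :=
    ((LinearMap.toMatrixAlgEquiv b : Module.End F (V × U) ≃ₐ[F] _) :
      Module.End F (V × U) →* _).comp ρ'
  refine ⟨M.toHomUnits, ?_⟩
  rw [injective_iff_map_eq_one]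
  intro w hw
  have h2 := congrArg Units.val hw
  simp only [MonoidHom.coe_toHomUnits, Units.val_one] at h2
  have h3 : (LinearMap.toMatrixAlgEquiv b) (ρ' w) = 1 := h2
  have h4 : ρ' w = 1 := (LinearMap.toMatrixAlgEquiv b).injective (h3.trans (map_one _).symm)
  have h5 : w ∈ MonoidHom.ker ρ := by
    rw [MonoidHom.mem_ker]
    ext v
    have := congrArg Prod.fst (LinearMap.congr_fun h4 (v, 0))
    simpa [ρ'] using this
  rw [hρ, Subgroup.mem_bot] at h5
  exact h5

end embed

section sylowTransport

theorem derivedSeries_sylow_ne_bot_of_injective {G W : Type*} [Group G] [Finite G] [Group W]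
    (p : ℕ) [Fact p.Prime] (P : Sylow p G) (hW : IsPGroup p W) (f : W →* G)
    (hf : Function.Injective f) (k : ℕ) (h : derivedSeries W k ≠ ⊥) :
    derivedSeries ↥(P : Subgroup G) k ≠ ⊥ := by
  have hrange : IsPGroup p ↥f.range :=
    hW.of_surjective f.rangeRestrict f.rangeRestrict_surjective
  obtain ⟨Q, hQ⟩ := hrange.exists_le_sylow
  let e : ↥(Q : Subgroup G) ≃* ↥(P : Subgroup G) := Sylow.equiv Q P
  let φ : W →* ↥(P : Subgroup G) :=
    e.toMonoidHom.comp ((Subgroup.inclusion hQ).comp f.rangeRestrict)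
  have hφ : Function.Injective φ := by
    refine e.injective.comp ((Subgroup.inclusion_injective hQ).comp ?_)
    exact MonoidHom.rangeRestrict_injective_iff.mpr hf
  intro hbot
  apply h
  rw [eq_bot_iff]
  intro w hw
  rw [Subgroup.mem_bot]
  have h1 : φ w ∈ derivedSeries ↥(P : Subgroup G) k :=
    map_derivedSeries_le_derivedSeries φ k ⟨w, hw, rfl⟩
  rw [hbot, Subgroup.mem_bot] at h1
  exact hφ (h1.trans (map_one φ).symm)

end sylowTransport

section orderp

theorem exists_orderOf_eq_prime_GL {F : Type*} [Field F] [Fintype F] (p : ℕ) [Fact p.Prime]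
    (hpq : ¬ p ∣ Fintype.card F) :
    0 < orderOf ((Fintype.card F : ℕ) : ZMod p) ∧
    ∃ g : Matrix.GeneralLinearGroup (Fin (orderOf ((Fintype.card F : ℕ) : ZMod p))) F,
      orderOf g = p := by
  set q := Fintype.card F with hq
  set e := orderOf ((q : ℕ) : ZMod p) with he
  have hq0 : ((q : ℕ) : ZMod p) ≠ 0 := by
    intro h
    exact hpq ((ZMod.natCast_eq_zero_iff _ _).1 h)
  have hepos : 0 < e := by
    rw [he, orderOf_pos_iff, isOfFinOrder_iff_pow_eq_one]
    exact ⟨p - 1, Nat.sub_pos_of_lt (Fact.out : p.Prime).one_lt, ZMod.pow_card_sub_one_eq_one hq0⟩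
  refine ⟨hepos, ?_⟩
  apply exists_prime_orderOf_dvd_card' p
  rw [Matrix.card_GL_field]
  have h1 : p ∣ q ^ e - q ^ ((⟨0, hepos⟩ : Fin e) : ℕ) := by
    simp only [pow_zero]
    have h2 : ((q : ℕ) : ZMod p) ^ e = 1 := pow_orderOf_eq_one _
    have hpos : 1 ≤ q ^ e := Nat.one_le_pow _ _ Fintype.card_pos
    rw [← ZMod.natCast_eq_zero_iff, Nat.cast_sub hpos, Nat.cast_pow, h2, Nat.cast_one, sub_self]
  exact h1.trans (Finset.dvd_prod_of_mem _ (Finset.mem_univ _))

end orderp

section lower

universe u

theorem derivedSeries_sylow_GL_ne_bot {F : Type u} [Field F] [Fintype F] (p : ℕ) [Fact p.Prime]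
    (hpq : ¬ p ∣ Fintype.card F) (n k : ℕ)
    (hk : orderOf ((Fintype.card F : ℕ) : ZMod p) * p ^ k ≤ n)
    (P : Sylow p (Matrix.GeneralLinearGroup (Fin n) F)) :
    derivedSeries ↥(P : Subgroup (Matrix.GeneralLinearGroup (Fin n) F)) k ≠ ⊥ := by
  classical
  have key := exists_orderOf_eq_prime_GL (F := F) p hpq
  set e := orderOf ((Fintype.card F : ℕ) : ZMod p) with he
  obtain ⟨hepos, g₀, hg₀⟩ := key
  have hp : p.Prime := Fact.out
  letI : CommGroup ↥(Subgroup.zpowers g₀) := IsCyclic.commGroup
  have hcard : Nat.card ↥(Subgroup.zpowers g₀) = p := by rw [Nat.card_zpowers, hg₀]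
  haveI : Finite ↥(Subgroup.zpowers g₀) := Nat.finite_of_card_ne_zero (by rw [hcard]; exact hp.ne_zero)
  haveI : Nontrivial ↥(Subgroup.zpowers g₀) := by
    rw [← Finite.one_lt_card_iff_nontrivial, hcard]
    exact hp.one_lt
  haveI : Nonempty (Fin e) := ⟨⟨0, hepos⟩⟩
  have hρ₀ : MonoidHom.ker (glRep (Subgroup.zpowers g₀).subtype) = ⊥ := by
    rw [glRep_ker', Subgroup.ker_subtype]
  obtain ⟨V, i1, i2, i3, i4, ρ, hρ, hdim⟩ :=
    exists_faithful_iterated F ↥(Subgroup.zpowers g₀) (Fin e → F)
      (glRep (Subgroup.zpowers g₀).subtype) hρ₀ k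
  have hdim' : finrank F V ≤ n := by
    rw [hdim, Module.finrank_fin_fun, hcard]
    exact hk
  obtain ⟨f, hf⟩ := exists_injective_GL_of_faithful ρ hρ n hdim'
  have hWp : IsPGroup p (IteratedWreathProduct ↥(Subgroup.zpowers g₀) (k + 1)) := by
    apply IsPGroup.of_card (n := ∑ i ∈ Finset.range (k + 1), p ^ i)
    rw [IteratedWreathProduct.card, hcard]
  have hW := derivedSeries_iteratedWreath_ne_bot ↥(Subgroup.zpowers g₀) k
  exact derivedSeries_sylow_ne_bot_of_injective p P hWp f hf k hW

end lower

end Cfsg.Agent.Lib.H18
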