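import Mathlib
import Cfsg.Agent.Lib.H1.M11U.Defs
import Cfsg.Agent.Lib.H18.M11ST

/-!
# S0420 piece P3c (`exists_order3_normalizing`): core (helper18)

The earlier pieces `adj_smul`, `adj_trans`, `adj_irrefl`, `fixed_of_Q` of
`tools/blueprints/S0420_sigs.lean` are taken as explicit hypotheses.
-/

set_option autoImplicit false
open scoped Pointwise

universe u

namespace Cfsg.Agent.Lib.H18.M11U

open Cfsg.Agent.Lib.H1.M11U

variable {G : Type u} [Group G] [Finite G]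

omit [Finite G] in
theorem mem_Q_iff {P P' : Sylow 3 G} (q : G) :
    q ∈ Nrm P ⊓ Nrm P' ↔ q • P = P ∧ q • P' = P' := by
  rw [Subgroup.mem_inf, Sylow.smul_eq_iff_mem_normalizer, Sylow.smul_eq_iff_mem_normalizer]
  exact Iff.rfl

/-- (P3c, core) -/
theorem exists_order3_normalizing_core (h : Hyp G)
    (adj_smul : ∀ (g : G) {P P' : Sylow 3 G}, Adj (g • P) (g • P') ↔ Adj P P')
    (adj_trans : ∀ {P P₁ P₂ : Sylow 3 G}, Adj P P₁ → Adj P P₂ → ∃ n ∈ Nrm P, n • P₁ = P₂)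
    (adj_irrefl : ∀ P : Sylow 3 G, ¬ Adj P P)
    (fixed_of_Q : ∀ {P P' : Sylow 3 G}, Adj P P' → ∀ {S : Subgroup G}, S ≤ Nrm P →
      Nat.card S = 16 → Nrm P ⊓ Nrm P' ≤ S → ∀ {s : G}, s ∈ S → s ∉ Nrm P' →
      ∀ X : Sylow 3 G, (∀ q ∈ Nrm P ⊓ Nrm P', q • X = X) → X = P ∨ X = P' ∨ X = s • P')
    {P P' : Sylow 3 G} (hadj : Adj P P') :
    ∃ d : G, orderOf d = 3 ∧ ∀ q ∈ Nrm P ⊓ Nrm P', d * q * d⁻¹ ∈ Nrm P ⊓ Nrm P' := by
  classical
  have : Fact (Nat.Prime 3) := ⟨Nat.prime_three⟩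
  -- a swapping element
  obtain ⟨g0, hg0⟩ := MulAction.exists_smul_eq G P P'
  have hadj' : Adj P' P := by
    unfold Adj at hadj ⊢
    rw [inf_comm]; exact hadj
  have hg0inv : g0⁻¹ • P' = P := by rw [inv_smul_eq_iff, hg0]
  have hA : Adj P (g0⁻¹ • P) := by
    have := (adj_smul g0⁻¹ (P := P') (P' := P)).mpr hadj'
    rwa [hg0inv] at this
  obtain ⟨n, hnN, hn⟩ := adj_trans hA hadj
  have hnP : n • P = P := Sylow.smul_eq_iff_mem_normalizer.mpr hnN
  set g : G := n * g0⁻¹ with hg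
  have hgP : g • P = P' := by rw [hg, mul_smul, hn]
  have hgP' : g • P' = P := by rw [hg, mul_smul, hg0inv, hnP]
  have hginvP : g⁻¹ • P = P' := by rw [inv_smul_eq_iff, hgP']
  have hginvP' : g⁻¹ • P' = P := by rw [inv_smul_eq_iff, hgP]
  -- `g` normalizes `Q`
  have conjQ_g : ∀ q ∈ Nrm P ⊓ Nrm P', g * q * g⁻¹ ∈ Nrm P ⊓ Nrm P' := by
    intro q hq
    rw [mem_Q_iff] at hq ⊢
    constructor
    · rw [mul_smul, mul_smul, hginvP, hq.2, hgP']
    · rw [mul_smul, mul_smul, hginvP', hq.1, hgP]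
  have conjQ_ginv : ∀ q ∈ Nrm P ⊓ Nrm P', g⁻¹ * q * g ∈ Nrm P ⊓ Nrm P' := by
    intro q hq
    rw [mem_Q_iff] at hq ⊢
    constructor
    · rw [mul_smul, mul_smul, hgP, hq.2, hginvP']
    · rw [mul_smul, mul_smul, hgP', hq.1, hginvP]
  -- the Sylow 2-subgroup `S` and `s ∈ S ∖ Q`
  obtain ⟨S, hSN, hS16, hQS⟩ := exists_sylow2_ge h hadj
  have hQ8 : Nat.card ↥(Nrm P ⊓ Nrm P') = 8 := hadj
  have hQltS : Nrm P ⊓ Nrm P' < S := by
    refine lt_of_le_of_ne hQS ?_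
    intro hh
    rw [hh, hS16] at hQ8
    omega
  obtain ⟨s, hsS, hsQ⟩ := SetLike.exists_of_lt hQltS
  have hsN : s ∈ Nrm P := hSN hsS
  have hsP : s • P = P := Sylow.smul_eq_iff_mem_normalizer.mpr hsN
  have hsN' : s ∉ Nrm P' := fun hh => hsQ (Subgroup.mem_inf.mpr ⟨hsN, hh⟩)
  have hrel : (Nrm P ⊓ Nrm P').relIndex S = 2 := by
    have h1 : Nat.card ↥(Nrm P ⊓ Nrm P') * (Nrm P ⊓ Nrm P').relIndex S = Nat.card S := by
      have := Subgroup.relIndex_mul_relIndex ⊥ (Nrm P ⊓ Nrm P') S bot_le hQS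
      rwa [Subgroup.relIndex_bot_left, Subgroup.relIndex_bot_left] at this
    rw [hQ8, hS16] at h1
    omega
  have hQn : ((Nrm P ⊓ Nrm P').subgroupOf S).Normal := Subgroup.normal_of_index_eq_two hrel
  have conjQ_S : ∀ t ∈ S, ∀ q ∈ Nrm P ⊓ Nrm P', t * q * t⁻¹ ∈ Nrm P ⊓ Nrm P' := by
    intro t ht q hq
    have := hQn.conj_mem ⟨q, hQS hq⟩ (Subgroup.mem_subgroupOf.mpr hq) ⟨t, ht⟩
    rw [Subgroup.mem_subgroupOf] at this
    simpa using this
  have hss : s * s ∈ Nrm P ⊓ Nrm P' := by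
    have := Subgroup.sq_mem_of_index_two (H := (Nrm P ⊓ Nrm P').subgroupOf S) hrel ⟨s, hsS⟩
    rw [Subgroup.mem_subgroupOf] at this
    simpa [pow_two] using this
  -- the third fixed point
  set P3 : Sylow 3 G := s • P' with hP3
  have hP3fix : ∀ q ∈ Nrm P ⊓ Nrm P', q • P3 = P3 := by
    intro q hq
    have h1 : s⁻¹ * q * s ∈ Nrm P ⊓ Nrm P' := by
      have := conjQ_S s⁻¹ (inv_mem hsS) q hq
      simpa using this
    have h2 : (s⁻¹ * q * s) • P' = P' := ((mem_Q_iff _).mp h1).2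
    have h3 : q * s = s * (s⁻¹ * q * s) := by group
    rw [hP3, ← mul_smul, h3, mul_smul, h2]
  have hsP3 : s • P3 = P' := by
    rw [hP3, ← mul_smul]
    exact ((mem_Q_iff _).mp hss).2
  have hPP' : P ≠ P' := fun hh => adj_irrefl P (hh ▸ hadj)
  have hP3P' : P3 ≠ P' := fun hh => hsN' (Sylow.smul_eq_iff_mem_normalizer.mp hh)
  have hP3P : P3 ≠ P := by
    intro hh
    have : s • P' = s • P := by rw [← hP3, hh, hsP]
    exact hPP' (smul_left_cancel s this).symm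
  -- `g` fixes `P3`
  have hgP3 : g • P3 = P3 := by
    have hfix : ∀ q ∈ Nrm P ⊓ Nrm P', q • (g • P3) = g • P3 := by
      intro q hq
      have h1 := hP3fix _ (conjQ_ginv q hq)
      have h3 : q * g = g * (g⁻¹ * q * g) := by group
      rw [← mul_smul, h3, mul_smul, h1]
    rcases fixed_of_Q hadj hSN hS16 hQS hsS hsN' (g • P3) hfix with h1 | h1 | h1
    · exfalso
      rw [← hgP'] at h1
      exact hP3P' (smul_left_cancel g h1)
    · exfalso
      rw [← hgP] at h1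
      exact hP3P (smul_left_cancel g h1)
    · exact h1
  -- the 3-cycle element
  set d0 : G := g * s with hd0
  have hd0P : d0 • P = P' := by rw [hd0, mul_smul, hsP, hgP]
  have hd0P' : d0 • P' = P3 := by rw [hd0, mul_smul, ← hP3, hgP3]
  have hd0P3 : d0 • P3 = P := by rw [hd0, mul_smul, hsP3, hgP']
  have conjQ_d0 : ∀ q ∈ Nrm P ⊓ Nrm P', d0 * q * d0⁻¹ ∈ Nrm P ⊓ Nrm P' := by
    intro q hq
    have h1 : d0 * q * d0⁻¹ = g * (s * q * s⁻¹) * g⁻¹ := by rw [hd0]; group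
    rw [h1]
    exact conjQ_g _ (conjQ_S s hsS q hq)
  have conjQ_pow : ∀ m : ℕ, ∀ q ∈ Nrm P ⊓ Nrm P', d0 ^ m * q * (d0 ^ m)⁻¹ ∈ Nrm P ⊓ Nrm P' := by
    intro m
    induction m with
    | zero => intro q hq; simpa using hq
    | succ k ih =>
      intro q hq
      have h1 : d0 ^ (k + 1) * q * (d0 ^ (k + 1))⁻¹ = d0 * (d0 ^ k * q * (d0 ^ k)⁻¹) * d0⁻¹ := by
        rw [pow_succ']; group
      rw [h1]
      exact conjQ_d0 _ (ih q hq)
  have hd03 : (d0 ^ 3) • P = P := by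
    rw [pow_succ, pow_two, mul_smul, mul_smul, hd0P, hd0P', hd0P3]
  have hd03m : ∀ m : ℕ, ((d0 ^ 3) ^ m) • P = P := by
    intro m
    induction m with
    | zero => simp
    | succ k ih => rw [pow_succ, mul_smul, hd03, ih]
  -- 3 divides the order of d0
  have hopos : 0 < orderOf d0 := orderOf_pos d0
  have h3dvd : 3 ∣ orderOf d0 := by
    set o := orderOf d0 with ho
    have hdecomp : d0 ^ o = d0 ^ (o % 3) * (d0 ^ 3) ^ (o / 3) := by
      rw [← pow_mul, ← pow_add]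
      congr 1
      omega
    have h1 : (d0 ^ (o % 3)) • P = P := by
      have h2 : (d0 ^ o) • P = P := by rw [ho, pow_orderOf_eq_one, one_smul]
      rw [hdecomp, mul_smul, hd03m] at h2
      exact h2
    have hlt : o % 3 < 3 := Nat.mod_lt _ (by norm_num)
    have hr : o % 3 = 0 := by
      interval_cases hrr : o % 3
      · rfl
      · exfalso
        rw [pow_one, hd0P] at h1
        exact hPP' h1.symm
      · exfalso
        rw [pow_two, mul_smul, hd0P, hd0P'] at h1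
        exact hP3P h1
    exact Nat.dvd_of_mod_eq_zero hr
  obtain ⟨m, hm⟩ := h3dvd
  have hmpos : m ≠ 0 := by
    intro h0
    rw [h0, mul_zero] at hm
    omega
  refine ⟨d0 ^ m, ?_, conjQ_pow m⟩
  rw [orderOf_pow_of_dvd hmpos ⟨3, by rw [hm, mul_comm]⟩, hm]
  exact Nat.mul_div_cancel _ (Nat.pos_of_ne_zero hmpos)

end Cfsg.Agent.Lib.H18.M11U
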