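import Mathlib

set_option autoImplicit false
set_option linter.unusedSectionVars false
set_option linter.unusedSimpArgs false
set_option linter.unusedVariables false

/-! McLaughlin's theorem (helper18), part 1: transvection calculus. -/

namespace Cfsg.Agent.Lib.H18.ML

open Module

section Basic
variable {F : Type*} [Field F] {V : Type*} [AddCommGroup V] [Module F V]

/-- the transvection `x ↦ x + φ x • v`; junk value `1` unless `φ v = 0`. -/
noncomputable def tv (φ : Dual F V) (v : V) : V ≃ₗ[F] V :=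
  open Classical in if h : φ v = 0 then LinearEquiv.transvection h else 1

theorem tv_apply {φ : Dual F V} {v : V} (h : φ v = 0) (x : V) : tv φ v x = x + φ x • v := by
  unfold tv
  rw [dif_pos h]
  rfl

theorem mul_apply' (g h : V ≃ₗ[F] V) (x : V) : (g * h) x = g (h x) := rfl

theorem one_apply' (x : V) : (1 : V ≃ₗ[F] V) x = x := rfl

theorem inv_apply_self' (g : V ≃ₗ[F] V) (x : V) : g⁻¹ (g x) = x := by
  rw [← mul_apply', inv_mul_cancel, one_apply']

theorem apply_inv_self' (g : V ≃ₗ[F] V) (x : V) : g (g⁻¹ x) = x := by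
  rw [← mul_apply', mul_inv_cancel, one_apply']

theorem inv_eq_symm' (g : V ≃ₗ[F] V) (x : V) : g⁻¹ x = g.symm x := rfl

theorem tv_zero_left (v : V) : tv (0 : Dual F V) v = 1 := by
  ext x
  rw [tv_apply (by simp), one_apply']
  simp

theorem tv_zero_right (φ : Dual F V) : tv φ (0 : V) = 1 := by
  ext x
  rw [tv_apply (by simp), one_apply']
  simp

theorem tv_mul_left {φ ψ : Dual F V} {v : V} (h1 : φ v = 0) (h2 : ψ v = 0) :
    tv φ v * tv ψ v = tv (φ + ψ) v := by
  have h3 : (φ + ψ) v = 0 := by simp [h1, h2]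
  ext x
  rw [mul_apply', tv_apply h2, tv_apply h1, tv_apply h3]
  simp only [map_add, map_smul, h1, smul_eq_mul, mul_zero, add_zero, LinearMap.add_apply, add_smul]
  abel

theorem tv_mul_right {φ : Dual F V} {v w : V} (h1 : φ v = 0) (h2 : φ w = 0) :
    tv φ v * tv φ w = tv φ (v + w) := by
  have h3 : φ (v + w) = 0 := by simp [h1, h2]
  ext x
  rw [mul_apply', tv_apply h2, tv_apply h1, tv_apply h3]
  simp only [map_add, map_smul, h2, smul_eq_mul, mul_zero, add_zero, smul_add]
  abel

theorem tv_inv_left {φ : Dual F V} {v : V} (h : φ v = 0) : (tv φ v)⁻¹ = tv (-φ) v := by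
  have h' : (-φ) v = 0 := by simp [h]
  rw [inv_eq_iff_mul_eq_one, tv_mul_left h h', add_neg_cancel, tv_zero_left]

theorem tv_inv_right {φ : Dual F V} {v : V} (h : φ v = 0) : (tv φ v)⁻¹ = tv φ (-v) := by
  have h' : φ (-v) = 0 := by simp [h]
  rw [inv_eq_iff_mul_eq_one, tv_mul_right h h', add_neg_cancel, tv_zero_right]

theorem tv_smul (c : F) (φ : Dual F V) (v : V) : tv (c • φ) v = tv φ (c • v) := by
  by_cases h : φ v = 0
  · have h1 : (c • φ) v = 0 := by simp [h]
    have h2 : φ (c • v) = 0 := by simp [h]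
    ext x
    rw [tv_apply h1, tv_apply h2]
    simp [smul_smul, mul_comm]
  · by_cases hc : c = 0
    · subst hc
      rw [zero_smul, zero_smul, tv_zero_left, tv_zero_right]
    · have h1 : ¬ (c • φ) v = 0 := by simp [h, hc]
      have h2 : ¬ φ (c • v) = 0 := by simp [h, hc]
      unfold tv
      rw [dif_neg h1, dif_neg h2]

theorem tv_pow {φ : Dual F V} {v : V} (h : φ v = 0) (n : ℕ) :
    (tv φ v) ^ n = tv ((n : F) • φ) v := by
  induction n with
  | zero => simp [tv_zero_left]
  | succ k ih =>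
    have h1 : ((k : F) • φ) v = 0 := by simp [h]
    rw [pow_succ, ih, tv_mul_left h1 h]
    congr 1
    push_cast
    rw [add_smul, one_smul]

/-- conjugation of a transvection -/
theorem tv_conj {φ : Dual F V} {v : V} (h : φ v = 0) (g : V ≃ₗ[F] V) :
    g * tv φ v * g⁻¹ = tv (φ ∘ₗ (g⁻¹ : V ≃ₗ[F] V).toLinearMap) (g v) := by
  have h1 : (φ ∘ₗ (g⁻¹ : V ≃ₗ[F] V).toLinearMap) (g v) = 0 := by
    simp only [LinearMap.coe_comp, LinearEquiv.coe_coe, Function.comp_apply]
    rw [inv_apply_self', h]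
  ext x
  rw [mul_apply', mul_apply', tv_apply h, tv_apply h1]
  simp only [map_add, map_smul, LinearMap.coe_comp, LinearEquiv.coe_coe, Function.comp_apply]
  rw [apply_inv_self']

theorem tv_eq_one_iff {φ : Dual F V} {v : V} (h : φ v = 0) : tv φ v = 1 ↔ φ = 0 ∨ v = 0 := by
  constructor
  · intro h1
    by_contra hcon
    push_neg at hcon
    obtain ⟨x, hx⟩ : ∃ x, φ x ≠ 0 := by
      by_contra hx
      push_neg at hx
      exact hcon.1 (LinearMap.ext hx)
    have h2 : tv φ v x = (1 : V ≃ₗ[F] V) x := by rw [h1]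
    rw [tv_apply h, one_apply', add_eq_left, smul_eq_zero] at h2
    rcases h2 with h2 | h2
    · exact hx h2
    · exact hcon.2 h2
  · rintro (rfl | rfl)
    · exact tv_zero_left v
    · exact tv_zero_right φ

/-- two transvections with `φ w = 0 = ψ v` commute -/
theorem tv_commute {φ ψ : Dual F V} {v w : V} (h1 : φ v = 0) (h2 : ψ w = 0)
    (h3 : φ w = 0) (h4 : ψ v = 0) : tv φ v * tv ψ w = tv ψ w * tv φ v := by
  ext x
  rw [mul_apply', mul_apply', tv_apply h1, tv_apply h2, tv_apply h1, tv_apply h2]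
  simp only [map_add, map_smul, h3, h4, smul_eq_mul, mul_zero, add_zero]
  abel

/-- conjugating `tv φ v` by `tv ψ w` -/
theorem tv_conj_tv {φ ψ : Dual F V} {v w : V} (h1 : φ v = 0) (h2 : ψ w = 0) :
    tv ψ w * tv φ v * (tv ψ w)⁻¹ = tv (φ - φ w • ψ) (v + ψ v • w) := by
  rw [tv_conj h1]
  congr 1
  · ext x
    simp only [LinearMap.coe_comp, LinearEquiv.coe_coe, Function.comp_apply, LinearMap.sub_apply,
      LinearMap.smul_apply, smul_eq_mul]
    rw [tv_inv_left h2, tv_apply (by simp [h2])]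
    simp only [LinearMap.neg_apply, neg_smul, map_add, map_neg, map_smul, smul_eq_mul]
    ring
  · rw [tv_apply h2]

end Basic

end Cfsg.Agent.Lib.H18.ML
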