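import Mathlib
import Cfsg.Agent.Lib.H18.ML1

set_option autoImplicit false
set_option linter.unusedSectionVars false
set_option linter.unusedSimpArgs false
set_option linter.unusedVariables false

/-! McLaughlin's theorem (helper18), part 2: flags of a subgroup over the prime field. -/

namespace Cfsg.Agent.Lib.H18.ML

open Module

variable {p : ℕ} [Fact p.Prime] {V : Type*} [AddCommGroup V] [Module (ZMod p) V]

theorem tv_smul_mem (H : Subgroup (V ≃ₗ[ZMod p] V)) {φ : Dual (ZMod p) V} {v : V} (h : φ v = 0)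
    (hm : tv φ v ∈ H) (c : ZMod p) : tv (c • φ) v ∈ H := by
  have h1 : tv (c • φ) v = (tv φ v) ^ c.val := by
    rw [tv_pow h, ZMod.natCast_zmod_val]
  rw [h1]
  exact H.pow_mem hm _

/-- `A_v`: the functionals `φ` vanishing at `v` with `tv φ v ∈ H`. -/
def Ax (H : Subgroup (V ≃ₗ[ZMod p] V)) (v : V) : Submodule (ZMod p) (Dual (ZMod p) V) where
  carrier := {φ | φ v = 0 ∧ tv φ v ∈ H}
  add_mem' := by
    rintro φ ψ ⟨h1, h2⟩ ⟨h3, h4⟩
    refine ⟨by simp [h1, h3], ?_⟩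
    rw [← tv_mul_left h1 h3]
    exact H.mul_mem h2 h4
  zero_mem' := ⟨by simp, by rw [tv_zero_left]; exact H.one_mem⟩
  smul_mem' := by
    rintro c φ ⟨h1, h2⟩
    exact ⟨by simp [h1], tv_smul_mem H h1 h2 c⟩

/-- `B_φ`: the vectors `v` in `ker φ` with `tv φ v ∈ H`. -/
def Bx (H : Subgroup (V ≃ₗ[ZMod p] V)) (φ : Dual (ZMod p) V) : Submodule (ZMod p) V where
  carrier := {v | φ v = 0 ∧ tv φ v ∈ H}
  add_mem' := by
    rintro v w ⟨h1, h2⟩ ⟨h3, h4⟩
    refine ⟨by simp [h1, h3], ?_⟩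
    rw [← tv_mul_right h1 h3]
    exact H.mul_mem h2 h4
  zero_mem' := ⟨by simp, by rw [tv_zero_right]; exact H.one_mem⟩
  smul_mem' := by
    rintro c v ⟨h1, h2⟩
    refine ⟨by simp [h1], ?_⟩
    rw [← tv_smul]
    exact tv_smul_mem H h1 h2 c

theorem mem_Ax {H : Subgroup (V ≃ₗ[ZMod p] V)} {v : V} {φ : Dual (ZMod p) V} :
    φ ∈ Ax H v ↔ φ v = 0 ∧ tv φ v ∈ H := Iff.rfl

theorem mem_Bx {H : Subgroup (V ≃ₗ[ZMod p] V)} {v : V} {φ : Dual (ZMod p) V} :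
    v ∈ Bx H φ ↔ φ v = 0 ∧ tv φ v ∈ H := Iff.rfl

/-- `(v, φ)` is a flag of `H`. -/
def IsFlag (H : Subgroup (V ≃ₗ[ZMod p] V)) (v : V) (φ : Dual (ZMod p) V) : Prop :=
  v ≠ 0 ∧ φ ≠ 0 ∧ φ v = 0 ∧ tv φ v ∈ H

variable {H : Subgroup (V ≃ₗ[ZMod p] V)}

theorem IsFlag.mem_Ax {v : V} {φ : Dual (ZMod p) V} (h : IsFlag H v φ) : φ ∈ Ax H v :=
  ⟨h.2.2.1, h.2.2.2⟩

theorem IsFlag.mem_Bx {v : V} {φ : Dual (ZMod p) V} (h : IsFlag H v φ) : v ∈ Bx H φ :=
  ⟨h.2.2.1, h.2.2.2⟩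

theorem isFlag_of_mem_Ax {v : V} {φ : Dual (ZMod p) V} (hv : v ≠ 0) (hφ : φ ≠ 0)
    (h : φ ∈ Ax H v) : IsFlag H v φ := ⟨hv, hφ, h.1, h.2⟩

theorem isFlag_of_mem_Bx {v : V} {φ : Dual (ZMod p) V} (hv : v ≠ 0) (hφ : φ ≠ 0)
    (h : v ∈ Bx H φ) : IsFlag H v φ := ⟨hv, hφ, h.1, h.2⟩

theorem IsFlag.smul_left {v : V} {φ : Dual (ZMod p) V} (h : IsFlag H v φ) {c : ZMod p}
    (hc : c ≠ 0) : IsFlag H v (c • φ) :=
  isFlag_of_mem_Ax h.1 (smul_ne_zero hc h.2.1) ((Ax H v).smul_mem c h.mem_Ax)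

theorem IsFlag.smul_right {v : V} {φ : Dual (ZMod p) V} (h : IsFlag H v φ) {c : ZMod p}
    (hc : c ≠ 0) : IsFlag H (c • v) φ :=
  isFlag_of_mem_Bx (smul_ne_zero hc h.1) h.2.1 ((Bx H φ).smul_mem c h.mem_Bx)

theorem IsFlag.tv_mem {v : V} {φ : Dual (ZMod p) V} (h : IsFlag H v φ) : tv φ v ∈ H := h.2.2.2

/-- conjugate flag -/
theorem IsFlag.conj {v : V} {φ : Dual (ZMod p) V} (h : IsFlag H v φ) {g : V ≃ₗ[ZMod p] V}
    (hg : g ∈ H) : IsFlag H (g v) (φ ∘ₗ (g⁻¹ : V ≃ₗ[ZMod p] V).toLinearMap) := by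
  refine ⟨?_, ?_, ?_, ?_⟩
  · intro h0
    apply h.1
    have := congrArg (fun x => g⁻¹ x) h0
    simpa [inv_apply_self'] using this
  · intro h0
    apply h.2.1
    ext x
    have := congrArg (fun ψ : Dual (ZMod p) V => ψ (g x)) h0
    simpa [inv_apply_self'] using this
  · simp only [LinearMap.coe_comp, LinearEquiv.coe_coe, Function.comp_apply]
    rw [inv_apply_self', h.2.2.1]
  · rw [← tv_conj h.2.2.1]
    exact H.mul_mem (H.mul_mem hg h.2.2.2) (H.inv_mem hg)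

/-- conjugating the flag `(v, φ)` by the transvection of the flag `(w, ψ)` -/
theorem IsFlag.conj_tv {v w : V} {φ ψ : Dual (ZMod p) V} (h : IsFlag H v φ) (h' : IsFlag H w ψ) :
    IsFlag H (v + ψ v • w) (φ - φ w • ψ) := by
  have h1 := h.conj h'.tv_mem
  have e1 : tv ψ w v = v + ψ v • w := tv_apply h'.2.2.1 v
  have e2 : φ ∘ₗ ((tv ψ w)⁻¹ : V ≃ₗ[ZMod p] V).toLinearMap = φ - φ w • ψ := by
    ext x
    simp only [LinearMap.coe_comp, LinearEquiv.coe_coe, Function.comp_apply, LinearMap.sub_apply,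
      LinearMap.smul_apply, smul_eq_mul]
    rw [tv_inv_left h'.2.2.1, tv_apply (by simp [h'.2.2.1])]
    simp only [LinearMap.neg_apply, neg_smul, map_add, map_neg, map_smul, smul_eq_mul]
    ring
  rw [e1, e2] at h1
  exact h1

/-- conjugating by a scalar multiple -/
theorem IsFlag.conj_tv_smul {v w : V} {φ ψ : Dual (ZMod p) V} (h : IsFlag H v φ)
    (h' : IsFlag H w ψ) (c : ZMod p) :
    IsFlag H (v + (c * ψ v) • w) (φ - (c * φ w) • ψ) := by
  by_cases hc : c = 0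
  · subst hc
    simpa using h
  · have h1 := h.conj_tv (h'.smul_left hc)
    simp only [LinearMap.smul_apply, smul_eq_mul] at h1
    have e : φ - φ w • c • ψ = φ - (c * φ w) • ψ := by
      rw [smul_smul, mul_comm]
    rw [e] at h1
    exact h1

/-- the half-opposite rule -/
theorem IsFlag.ho {v w : V} {φ ψ : Dual (ZMod p) V} (h : IsFlag H v φ) (h' : IsFlag H w ψ)
    (h1 : ψ v = 0) (h2 : φ w ≠ 0) : IsFlag H v ψ := by
  -- conjugate (w, ψ) by tv φ v : centre w + φ w • v, functional ψ - ψ v • φ = ψ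
  have h3 := h'.conj_tv h
  rw [h1, zero_smul, sub_zero] at h3
  have h4 : w + φ w • v ∈ Bx H ψ := h3.mem_Bx
  have h5 : φ w • v ∈ Bx H ψ := by
    have := (Bx H ψ).sub_mem h4 h'.mem_Bx
    simpa using this
  have h6 : v ∈ Bx H ψ := by
    have := (Bx H ψ).smul_mem (φ w)⁻¹ h5
    rwa [smul_smul, inv_mul_cancel₀ h2, one_smul] at this
  exact isFlag_of_mem_Bx h.1 h'.2.1 h6

theorem IsFlag.neg_left {v : V} {φ : Dual (ZMod p) V} (h : IsFlag H v φ) : IsFlag H v (-φ) := by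
  exact isFlag_of_mem_Ax h.1 (neg_ne_zero.mpr h.2.1) ((Ax H v).neg_mem h.mem_Ax)

theorem IsFlag.inv_mem_eq {v : V} {φ : Dual (ZMod p) V} (h : IsFlag H v φ) :
    (tv φ v)⁻¹ = tv (-φ) v := tv_inv_left h.2.2.1

/-- opposite flags -/
def Opp (v : V) (φ : Dual (ZMod p) V) (w : V) (ψ : Dual (ZMod p) V) : Prop := φ w ≠ 0 ∧ ψ v ≠ 0

/-- Lemma M': the flags of the `SL₂` generated by an opposite pair. -/
theorem IsFlag.pair {v w : V} {φ ψ : Dual (ZMod p) V} (h : IsFlag H v φ) (h' : IsFlag H w ψ)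
    (h1 : φ w ≠ 0) (h2 : ψ v ≠ 0) (a b : ZMod p) (hab : a ≠ 0 ∨ b ≠ 0) :
    IsFlag H (a • v + b • w) ((b * φ w) • ψ - (a * ψ v) • φ) := by
  by_cases ha : a = 0
  · subst ha
    have hb : b ≠ 0 := by tauto
    have := (h'.smul_right hb).smul_left (mul_ne_zero hb h1)
    simpa using this
  · -- conjugate (v, φ) by tv (c ψ) w with c ψ v = b / a
    have h3 := h.conj_tv_smul h' (b / a / ψ v)
    have e1 : b / a / ψ v * ψ v = b / a := by field_simp
    rw [e1] at h3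
    have h4 := (h3.smul_right ha).smul_left (c := -(a * ψ v)) (by
      simp [ha, h2])
    have e2 : a • (v + (b / a) • w) = a • v + b • w := by
      rw [smul_add, smul_smul]
      congr 2
      field_simp
    have e3 : (-(a * ψ v)) • (φ - (b / a / ψ v * φ w) • ψ) = (b * φ w) • ψ - (a * ψ v) • φ := by
      rw [smul_sub, smul_smul]
      have : -(a * ψ v) * (b / a / ψ v * φ w) = -(b * φ w) := by field_simp
      rw [this]
      simp only [neg_smul]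
      abel
    rw [e2, e3] at h4
    exact h4

end Cfsg.Agent.Lib.H18.ML
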