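import Mathlib
import Cfsg.Agent.Lib.H18.ML2

set_option autoImplicit false
set_option linter.unusedSectionVars false
set_option linter.unusedSimpArgs false
set_option linter.unusedVariables false

/-! McLaughlin's theorem (helper18), part 3: generation, the no-normal-`p`-subgroup property,
and: every flag has an opposite. -/

namespace Cfsg.Agent.Lib.H18.ML

open Module

variable {p : ℕ} [Fact p.Prime] {V : Type*} [AddCommGroup V] [Module (ZMod p) V]

/-- the transvections of `H` coming from flags -/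
def flagSet (H : Subgroup (V ≃ₗ[ZMod p] V)) : Set (V ≃ₗ[ZMod p] V) :=
  {g | ∃ v φ, IsFlag H v φ ∧ g = tv φ v}

/-- `H` is generated by its transvections. -/
def Gen (H : Subgroup (V ≃ₗ[ZMod p] V)) : Prop := H ≤ Subgroup.closure (flagSet H)

/-- the consequence of `O_p(H) = 1` that we use. -/
def NP (H : Subgroup (V ≃ₗ[ZMod p] V)) : Prop :=
  ∀ Z : Submodule (ZMod p) V, (∀ h ∈ H, ∀ z ∈ Z, h z ∈ Z) → ∀ h ∈ H, (∀ x, h x - x ∈ Z) →
    (∀ z ∈ Z, h z = z) → h = 1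

variable {H : Subgroup (V ≃ₗ[ZMod p] V)}

theorem flagSet_le : Subgroup.closure (flagSet H) ≤ H := by
  rw [Subgroup.closure_le]
  rintro _ ⟨v, φ, h, rfl⟩
  exact h.tv_mem

theorem Gen.induction (hG : Gen H) {P : (V ≃ₗ[ZMod p] V) → Prop} (h1 : P 1)
    (hmul : ∀ a b, P a → P b → P (a * b)) (hflag : ∀ v φ, IsFlag H v φ → P (tv φ v)) :
    ∀ g ∈ H, P g := by
  intro g hg
  have key : P g ∧ P g⁻¹ := by
    refine Subgroup.closure_induction (p := fun g _ => P g ∧ P g⁻¹) ?_ ?_ ?_ ?_ (hG hg)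
    · rintro _ ⟨v, φ, h, rfl⟩
      refine ⟨hflag v φ h, ?_⟩
      rw [h.inv_mem_eq]
      exact hflag v _ h.neg_left
    · exact ⟨h1, by rwa [inv_one]⟩
    · rintro a b _ _ ⟨ha, ha'⟩ ⟨hb, hb'⟩
      refine ⟨hmul a b ha hb, ?_⟩
      rw [mul_inv_rev]
      exact hmul _ _ hb' ha'
    · rintro a _ ⟨ha, ha'⟩
      exact ⟨ha', by rwa [inv_inv]⟩
  exact key.1

/-- invariance of a subspace can be checked on flag transvections -/
theorem Gen.invariant (hG : Gen H) (Z : Submodule (ZMod p) V)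
    (h : ∀ v φ, IsFlag H v φ → ∀ z ∈ Z, tv φ v z ∈ Z) : ∀ g ∈ H, ∀ z ∈ Z, g z ∈ Z := by
  apply hG.induction (P := fun g => ∀ z ∈ Z, g z ∈ Z)
  · intro z hz; exact hz
  · intro a b ha hb z hz
    rw [mul_apply']
    exact ha _ (hb z hz)
  · exact h

section Opp
variable [Finite V]

instance finiteDual : Finite (Dual (ZMod p) V) :=
  Finite.of_injective (fun f : Dual (ZMod p) V => (f : V → ZMod p)) DFunLike.coe_injective

/-- the orbit of a flag -/
def orbitD (H : Subgroup (V ≃ₗ[ZMod p] V)) (v : V) (φ : Dual (ZMod p) V) :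
    Set (V × Dual (ZMod p) V) :=
  {d | ∃ g ∈ H, d = (g v, φ ∘ₗ (g⁻¹ : V ≃ₗ[ZMod p] V).toLinearMap)}

theorem comp_inv_mul (φ : Dual (ZMod p) V) (g h : V ≃ₗ[ZMod p] V) :
    (φ ∘ₗ (g⁻¹ : V ≃ₗ[ZMod p] V).toLinearMap) ∘ₗ (h⁻¹ : V ≃ₗ[ZMod p] V).toLinearMap =
      φ ∘ₗ ((h * g)⁻¹ : V ≃ₗ[ZMod p] V).toLinearMap := by
  ext x
  simp only [LinearMap.coe_comp, LinearEquiv.coe_coe, Function.comp_apply]
  rw [mul_inv_rev, mul_apply']

theorem orbitD_conj {v : V} {φ : Dual (ZMod p) V} {d : V × Dual (ZMod p) V}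
    (hd : d ∈ orbitD H v φ) {h : V ≃ₗ[ZMod p] V} (hh : h ∈ H) :
    (h d.1, d.2 ∘ₗ (h⁻¹ : V ≃ₗ[ZMod p] V).toLinearMap) ∈ orbitD H v φ := by
  obtain ⟨g, hg, rfl⟩ := hd
  refine ⟨h * g, H.mul_mem hh hg, ?_⟩
  simp only
  rw [comp_inv_mul, mul_apply']

theorem orbitD_flag {v : V} {φ : Dual (ZMod p) V} (hf : IsFlag H v φ) {d : V × Dual (ZMod p) V}
    (hd : d ∈ orbitD H v φ) : IsFlag H d.1 d.2 := by
  obtain ⟨g, hg, rfl⟩ := hd
  exact hf.conj hg

/-- if `(v, φ)` has no opposite then no member of its orbit has one -/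
theorem orbitD_noopp {v : V} {φ : Dual (ZMod p) V} (hf : IsFlag H v φ)
    (hno : ∀ w ψ, IsFlag H w ψ → φ w = 0 ∨ ψ v = 0) {d : V × Dual (ZMod p) V}
    (hd : d ∈ orbitD H v φ) : ∀ w ψ, IsFlag H w ψ → d.2 w = 0 ∨ ψ d.1 = 0 := by
  obtain ⟨g, hg, rfl⟩ := hd
  intro w ψ hw
  have h1 := hw.conj (H.inv_mem hg)
  rcases hno _ _ h1 with h2 | h2
  · left
    simpa using h2
  · right
    simpa using h2

/-- paths `x → ⋯ → y` with `n + 1` edges in the orbit, where `d' → d` means `d'.2 d.1 ≠ 0`. -/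
def Reach (D : Set (V × Dual (ZMod p) V)) : ℕ → V × Dual (ZMod p) V → V × Dual (ZMod p) V → Prop
  | 0, x, y => x.2 y.1 ≠ 0
  | n + 1, x, y => ∃ z ∈ D, x.2 z.1 ≠ 0 ∧ Reach D n z y

theorem Reach.congr {D : Set (V × Dual (ZMod p) V)} : ∀ (n : ℕ) {x y y' : V × Dual (ZMod p) V},
    Reach D n x y → y'.1 = y.1 → Reach D n x y'
  | 0, x, y, y', h, e => by
    simp only [Reach] at h ⊢
    rwa [e]
  | n + 1, x, y, y', h, e => by
    obtain ⟨z, hz, h1, h2⟩ := h
    exact ⟨z, hz, h1, Reach.congr n h2 e⟩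

theorem no_cycle {v : V} {φ : Dual (ZMod p) V} (hf : IsFlag H v φ)
    (hno : ∀ w ψ, IsFlag H w ψ → φ w = 0 ∨ ψ v = 0) :
    ∀ (n : ℕ) (a : V × Dual (ZMod p) V), a ∈ orbitD H v φ → ¬ Reach (orbitD H v φ) n a a := by
  have anti : ∀ a ∈ orbitD H v φ, ∀ b ∈ orbitD H v φ, a.2 b.1 ≠ 0 → b.2 a.1 = 0 := by
    intro a ha b hb hab
    rcases orbitD_noopp hf hno ha b.1 b.2 (orbitD_flag hf hb) with h | h
    · exact absurd h hab
    · exact h
  have base0 : ∀ a ∈ orbitD H v φ, ¬ Reach (orbitD H v φ) 0 a a := by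
    intro a ha h
    simp only [Reach] at h
    exact h (orbitD_flag hf ha).2.2.1
  have base1 : ∀ a ∈ orbitD H v φ, ¬ Reach (orbitD H v φ) 1 a a := by
    rintro a ha ⟨z, hz, h1, h2⟩
    simp only [Reach] at h2
    exact h2 (anti a ha z hz h1)
  have step : ∀ n, (∀ a ∈ orbitD H v φ, ¬ Reach (orbitD H v φ) (n + 1) a a) →
      ∀ a ∈ orbitD H v φ, ¬ Reach (orbitD H v φ) (n + 2) a a := by
    rintro n ih a ha ⟨b, hb, hab, c, hc, hbc, hca⟩
    have hba : b.2 a.1 = 0 := anti a ha b hb hab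
    have fa := orbitD_flag hf ha
    have fb := orbitD_flag hf hb
    set κ : ZMod p := (a.2 c.1 - 1) / (a.2 b.1 * b.2 c.1) with hκ
    -- conjugate a by tv (κ b.2) b.1
    have fb' : tv (κ • b.2) b.1 ∈ H := tv_smul_mem H fb.2.2.1 fb.2.2.2 κ
    have ha' := orbitD_conj ha fb'
    have hz : (κ • b.2) b.1 = 0 := by simp [fb.2.2.1]
    have e1 : tv (κ • b.2) b.1 a.1 = a.1 := by
      rw [tv_apply hz]
      simp [hba]
    have e2 : (a.2 ∘ₗ ((tv (κ • b.2) b.1)⁻¹ : V ≃ₗ[ZMod p] V).toLinearMap) c.1 = 1 := by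
      simp only [LinearMap.coe_comp, LinearEquiv.coe_coe, Function.comp_apply]
      rw [tv_inv_left hz, tv_apply (by simp [fb.2.2.1])]
      simp only [LinearMap.neg_apply, LinearMap.smul_apply, smul_eq_mul, neg_smul, map_add,
        map_neg, map_smul]
      rw [hκ]
      field_simp
      ring
    set a' : V × Dual (ZMod p) V :=
      (tv (κ • b.2) b.1 a.1, a.2 ∘ₗ ((tv (κ • b.2) b.1)⁻¹ : V ≃ₗ[ZMod p] V).toLinearMap) with ha'def
    apply ih a' ha'
    refine ⟨c, hc, ?_, ?_⟩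
    · show a'.2 c.1 ≠ 0
      rw [ha'def]
      simp only
      rw [e2]
      exact one_ne_zero
    · exact Reach.congr n hca e1
  intro n
  induction n using Nat.twoStepInduction with
  | zero => exact base0
  | one => exact base1
  | more n _ ih => exact step n ih

theorem exists_source {v : V} {φ : Dual (ZMod p) V} (hf : IsFlag H v φ)
    (hno : ∀ w ψ, IsFlag H w ψ → φ w = 0 ∨ ψ v = 0) :
    ∃ d ∈ orbitD H v φ, ∀ d' ∈ orbitD H v φ, d'.2 d.1 = 0 := by
  classical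
  let D := orbitD H v φ
  let r : D → D → Prop := fun x y => x.1.2 y.1.1 ≠ 0
  have hreach : ∀ x y : D, Relation.TransGen r x y → ∃ n, Reach D n x.1 y.1 := by
    intro x y h
    induction h using Relation.TransGen.head_induction_on with
    | single h => exact ⟨0, h⟩
    | @head a c h' _ ih =>
      obtain ⟨n, hn⟩ := ih
      exact ⟨n + 1, c.1, c.2, h', hn⟩
  haveI : IsTrans D (Relation.TransGen r) := ⟨fun _ _ _ => Relation.TransGen.trans⟩
  haveI : Std.Irrefl (Relation.TransGen r) := ⟨fun x h => by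
    obtain ⟨n, hn⟩ := hreach x x h
    exact no_cycle hf hno n x.1 x.2 hn⟩
  haveI : Finite D := Finite.of_injective (fun x : D => x.1) Subtype.val_injective
  have wf := Finite.wellFounded_of_trans_of_irrefl (Relation.TransGen r)
  have hne : (Set.univ : Set D).Nonempty :=
    ⟨⟨(v, φ), ⟨1, H.one_mem, by simp [one_apply']⟩⟩, trivial⟩
  obtain ⟨m, -, hm⟩ := wf.has_min Set.univ hne
  refine ⟨m.1, m.2, ?_⟩
  intro d' hd'
  by_contra hcon
  exact hm ⟨d', hd'⟩ trivial (Relation.TransGen.single hcon)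

/-- every flag has an opposite -/
theorem exists_opp (hNP : NP H) {v : V} {φ : Dual (ZMod p) V} (hf : IsFlag H v φ) :
    ∃ w ψ, IsFlag H w ψ ∧ φ w ≠ 0 ∧ ψ v ≠ 0 := by
  by_contra hcon
  have hno : ∀ w ψ, IsFlag H w ψ → φ w = 0 ∨ ψ v = 0 := by
    intro w ψ hw
    by_contra h
    push_neg at h
    exact hcon ⟨w, ψ, hw, h.1, h.2⟩
  obtain ⟨d, hd, hsrc⟩ := exists_source hf hno
  let Z : Submodule (ZMod p) V := ⨅ d' ∈ orbitD H v φ, LinearMap.ker d'.2
  have hZ : ∀ z, z ∈ Z ↔ ∀ d' ∈ orbitD H v φ, d'.2 z = 0 := by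
    intro z
    simp only [Z, Submodule.mem_iInf, LinearMap.mem_ker]
  have hinv : ∀ h ∈ H, ∀ z ∈ Z, h z ∈ Z := by
    intro h hh z hz
    rw [hZ] at hz ⊢
    intro d' hd'
    have := hz _ (orbitD_conj hd' (H.inv_mem hh))
    simpa using this
  have fd := orbitD_flag hf hd
  have hdZ : d.1 ∈ Z := by
    rw [hZ]
    exact hsrc
  have h1 := hNP Z hinv (tv d.2 d.1) fd.tv_mem (by
    intro x
    rw [tv_apply fd.2.2.1]
    simp only [add_sub_cancel_left]
    exact Z.smul_mem _ hdZ) (by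
    intro z hz
    rw [tv_apply fd.2.2.1, (hZ z).mp hz d hd, zero_smul, add_zero])
  rw [tv_eq_one_iff fd.2.2.1] at h1
  rcases h1 with h1 | h1
  · exact fd.2.1 h1
  · exact fd.1 h1

end Opp

end Cfsg.Agent.Lib.H18.ML
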