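import Mathlib
import Cfsg.Agent.Lib.H18.ML3

set_option autoImplicit false
set_option linter.unusedSectionVars false
set_option linter.unusedSimpArgs false
set_option linter.unusedVariables false

/-! McLaughlin's theorem (helper18), part 4: linear algebra existence lemmas. -/

namespace Cfsg.Agent.Lib.H18.ML

open Module

section LA
variable {F : Type*} [Field F] {V : Type*} [AddCommGroup V] [Module F V]

/-- separate `x` from the line through `y` -/
theorem exists_dual_sep {x y : V} (h : x ∉ Submodule.span F {y}) :
    ∃ f : Dual F V, f y = 0 ∧ f x = 1 := by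
  obtain ⟨f, hf, hf'⟩ := Submodule.exists_dual_map_eq_bot_of_notMem h inferInstance
  refine ⟨(f x)⁻¹ • f, ?_, ?_⟩
  · have : f y ∈ (Submodule.span F {y}).map f := ⟨y, Submodule.mem_span_singleton_self y, rfl⟩
    rw [hf'] at this
    simp [(Submodule.mem_bot F).mp this]
  · simp [hf]

theorem exists_dual_ne_zero' {x : V} (h : x ≠ 0) : ∃ f : Dual F V, f x = 1 := by
  have : x ∉ Submodule.span F {(0 : V)} := by
    simpa using h
  obtain ⟨f, -, hf⟩ := exists_dual_sep this
  exact ⟨f, hf⟩

/-- separate functionals -/
theorem exists_ker_sep {α β : Dual F V} (h : β ∉ Submodule.span F {α}) :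
    ∃ y, α y = 0 ∧ β y = 1 := by
  by_contra hcon
  have hcon' : ∀ y, α y = 0 → β y = 0 := by
    intro y hy
    by_contra hb
    apply hcon
    refine ⟨(β y)⁻¹ • y, by simp [hy], by simp [hb]⟩
  apply h
  by_cases hα : α = 0
  · subst hα
    have : β = 0 := by
      ext y
      exact hcon' y (by simp)
    rw [this]
    exact Submodule.zero_mem _
  · obtain ⟨y₀, hy₀⟩ : ∃ y, α y ≠ 0 := by
      by_contra h0
      push_neg at h0
      exact hα (LinearMap.ext h0)
    rw [Submodule.mem_span_singleton]
    refine ⟨β y₀ / α y₀, ?_⟩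
    ext x
    have h1 : α (x - (α x / α y₀) • y₀) = 0 := by
      simp only [map_sub, map_smul, smul_eq_mul]
      field_simp
      ring
    have h2 := hcon' _ h1
    simp only [map_sub, map_smul, smul_eq_mul, sub_eq_zero] at h2
    simp only [LinearMap.smul_apply, smul_eq_mul]
    rw [h2]
    field_simp

/-- two nonzero functionals are simultaneously nonzero somewhere -/
theorem exists_both_ne {f g : Dual F V} (hf : f ≠ 0) (hg : g ≠ 0) : ∃ z, f z ≠ 0 ∧ g z ≠ 0 := by
  obtain ⟨a, ha⟩ : ∃ y, f y ≠ 0 := by
    by_contra h0
    push_neg at h0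
    exact hf (LinearMap.ext h0)
  obtain ⟨b, hb⟩ : ∃ y, g y ≠ 0 := by
    by_contra h0
    push_neg at h0
    exact hg (LinearMap.ext h0)
  by_cases h1 : g a = 0
  · by_cases h2 : f b = 0
    · refine ⟨a + b, ?_, ?_⟩
      · simp [h2, ha]
      · simp [h1, hb]
    · exact ⟨b, h2, hb⟩
  · exact ⟨a, ha, h1⟩

variable [FiniteDimensional F V]

/-- a subspace of dimension at least two meets every hyperplane -/
theorem exists_mem_ker_of_two_le {U : Submodule F V} (hU : 2 ≤ finrank F U) (χ : Dual F V) :
    ∃ x ∈ U, x ≠ 0 ∧ χ x = 0 := by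
  by_contra hcon
  push_neg at hcon
  -- χ restricted to U is injective
  let f : U →ₗ[F] F := χ.domRestrict U
  have hinj : Function.Injective f := by
    rw [← LinearMap.ker_eq_bot, LinearMap.ker_eq_bot']
    intro x hx
    by_contra hx0
    exact hcon x.1 x.2 (by simpa using hx0) hx
  have := LinearMap.finrank_le_finrank_of_injective hinj
  rw [finrank_self] at this
  omega

/-- a subspace of dimension at least three meets every hyperplane outside a given line -/
theorem exists_mem_ker_of_three_le {U : Submodule F V} (hU : 3 ≤ finrank F U) (χ : Dual F V)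
    (e : V) : ∃ x ∈ U, χ x = 0 ∧ x ∉ Submodule.span F {e} := by
  by_contra hcon
  push_neg at hcon
  let W : Submodule F V := U ⊓ LinearMap.ker χ
  have hW : W ≤ Submodule.span F {e} := by
    intro x hx
    exact hcon x hx.1 hx.2
  have h1 : finrank F W ≤ 1 := by
    refine (Submodule.finrank_mono hW).trans ?_
    have := finrank_span_le_card (R := F) ({e} : Set V)
    simpa using this
  -- dim U ≤ dim W + 1
  let f : U →ₗ[F] F := χ.domRestrict U
  have h2 : finrank F (LinearMap.range f) + finrank F (LinearMap.ker f) = finrank F U :=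
    LinearMap.finrank_range_add_finrank_ker f
  have h3 : finrank F (LinearMap.range f) ≤ 1 := by
    have := Submodule.finrank_le (LinearMap.range f)
    rwa [finrank_self] at this
  have h4 : finrank F (LinearMap.ker f) ≤ finrank F W := by
    let g : LinearMap.ker f →ₗ[F] W :=
      { toFun := fun x => ⟨x.1.1, ⟨x.1.2, x.2⟩⟩
        map_add' := fun _ _ => rfl
        map_smul' := fun _ _ => rfl }
    have hg : Function.Injective g := by
      intro x y hxy
      have : x.1.1 = y.1.1 := congrArg (fun z : W => z.1) hxy
      exact Subtype.ext (Subtype.ext this)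
    exact LinearMap.finrank_le_finrank_of_injective hg
  omega

end LA

end Cfsg.Agent.Lib.H18.ML
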