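import Mathlib
import Cfsg.Agent.Lib.H18.ML4

set_option autoImplicit false
set_option linter.unusedSectionVars false
set_option linter.unusedSimpArgs false
set_option linter.unusedVariables false

/-! McLaughlin's theorem (helper18), part 5: `SL`-blocks and the extension lemma. -/

namespace Cfsg.Agent.Lib.H18.ML

open Module

variable {p : ℕ} [Fact p.Prime] {V : Type*} [AddCommGroup V] [Module (ZMod p) V]

/-- `H` contains `SL(U) × 1` where `U = range π`, `π` a projection. -/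
def SLBlock (H : Subgroup (V ≃ₗ[ZMod p] V)) (π : V →ₗ[ZMod p] V) : Prop :=
  π ∘ₗ π = π ∧ ∀ u χ, u ≠ 0 → χ ≠ 0 → π u = u → χ ∘ₗ π = χ → χ u = 0 → tv χ u ∈ H

theorem idem_apply {π : V →ₗ[ZMod p] V} (h : π ∘ₗ π = π) (x : V) : π (π x) = π x := by
  have := congrArg (fun f : V →ₗ[ZMod p] V => f x) h
  simpa using this

theorem comp_idem {π : V →ₗ[ZMod p] V} (h : π ∘ₗ π = π) (f : Dual (ZMod p) V) :
    (f ∘ₗ π) ∘ₗ π = f ∘ₗ π := by
  rw [LinearMap.comp_assoc, h]

theorem sub_comp_idem {π : V →ₗ[ZMod p] V} (h : π ∘ₗ π = π) (f : Dual (ZMod p) V) :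
    (f - f ∘ₗ π) ∘ₗ π = 0 := by
  rw [LinearMap.sub_comp, comp_idem h, sub_self]

theorem apply_of_comp_eq {π : V →ₗ[ZMod p] V} {f : Dual (ZMod p) V} (h : f ∘ₗ π = f) (x : V) :
    f (π x) = f x := by
  have := congrArg (fun g : Dual (ZMod p) V => g x) h
  simpa using this

theorem apply_of_comp_zero {π : V →ₗ[ZMod p] V} {f : Dual (ZMod p) V} (h : f ∘ₗ π = 0) (x : V) :
    f (π x) = 0 := by
  have := congrArg (fun g : Dual (ZMod p) V => g x) h
  simpa using this

variable {H : Subgroup (V ≃ₗ[ZMod p] V)} {π : V →ₗ[ZMod p] V}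

theorem SLBlock.flag (hb : SLBlock H π) {u : V} {χ : Dual (ZMod p) V} (hu : u ≠ 0) (hχ : χ ≠ 0)
    (h1 : π u = u) (h2 : χ ∘ₗ π = χ) (h3 : χ u = 0) : IsFlag H u χ :=
  ⟨hu, hχ, h3, hb.2 u χ hu hχ h1 h2 h3⟩

theorem SLBlock.mem_Ax (hb : SLBlock H π) {u : V} {χ : Dual (ZMod p) V} (hu : u ≠ 0)
    (h1 : π u = u) (h2 : χ ∘ₗ π = χ) (h3 : χ u = 0) : χ ∈ Ax H u := by
  by_cases hχ : χ = 0
  · rw [hχ]; exact (Ax H u).zero_mem
  · exact (hb.flag hu hχ h1 h2 h3).mem_Ax

/-- spreading a flag `(x, σ)` with `σ` vanishing on `U` over all of `U` -/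
theorem SLBlock.spread1 (hb : SLBlock H π) {σ : Dual (ZMod p) V} (hσ : σ ∘ₗ π = 0) {x : V}
    (hx : π x = x) (hf : IsFlag H x σ) : ∀ y, π y = y → y ≠ 0 → IsFlag H y σ := by
  intro y hy hy0
  by_cases hyx : y ∈ Submodule.span (ZMod p) {x}
  · obtain ⟨c, rfl⟩ := Submodule.mem_span_singleton.mp hyx
    have hc : c ≠ 0 := by
      rintro rfl
      simp at hy0
    exact hf.smul_right hc
  · have hz : x ∉ Submodule.span (ZMod p) {y - x} := by
      intro hmem
      obtain ⟨c, hc⟩ := Submodule.mem_span_singleton.mp hmem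
      by_cases hc0 : c = 0
      · subst hc0
        rw [zero_smul] at hc
        exact hf.1 hc.symm
      · apply hyx
        rw [Submodule.mem_span_singleton]
        refine ⟨(1 + c) / c, ?_⟩
        have : c • y = (1 + c) • x := by
          calc c • y = c • (y - x) + c • x := by rw [smul_sub]; abel
            _ = x + c • x := by rw [hc]
            _ = (1 + c) • x := by rw [add_smul, one_smul]
        rw [div_eq_inv_mul, mul_smul, ← this, smul_smul, inv_mul_cancel₀ hc0, one_smul]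
    obtain ⟨f, hf1, hf2⟩ := exists_dual_sep hz
    set α : Dual (ZMod p) V := f ∘ₗ π with hα
    have hαπ : α ∘ₗ π = α := comp_idem hb.1 f
    have hαx : α x = 1 := by
      rw [hα, LinearMap.comp_apply, hx, hf2]
    have hz0 : y - x ≠ 0 := by
      intro h0
      apply hyx
      rw [sub_eq_zero] at h0
      rw [h0]
      exact Submodule.mem_span_singleton_self x
    have hπz : π (y - x) = y - x := by rw [map_sub, hx, hy]
    have hαz : α (y - x) = 0 := by
      rw [hα, LinearMap.comp_apply, hπz, hf1]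
    have hα0 : α ≠ 0 := by
      intro h0
      rw [h0] at hαx
      simp at hαx
    have fz := hb.flag hz0 hα0 hπz hαπ hαz
    have h1 := hf.conj_tv fz
    have hσz : σ (y - x) = 0 := by
      rw [← hπz]
      exact apply_of_comp_zero hσ _
    rw [hαx, one_smul, hσz, zero_smul, sub_zero] at h1
    have : x + (y - x) = y := by abel
    rwa [this] at h1

/-- spreading a flag `(s, α)` with `s` in the complement over all functionals of the block -/
theorem SLBlock.spread2 (hb : SLBlock H π) {s : V} (hs : π s = 0) {α : Dual (ZMod p) V}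
    (hα : α ∘ₗ π = α) (hf : IsFlag H s α) :
    ∀ α' : Dual (ZMod p) V, α' ∘ₗ π = α' → α' ≠ 0 → IsFlag H s α' := by
  intro α' hα' hα'0
  by_cases hmem : α' ∈ Submodule.span (ZMod p) {α}
  · obtain ⟨c, rfl⟩ := Submodule.mem_span_singleton.mp hmem
    have hc : c ≠ 0 := by
      rintro rfl
      simp at hα'0
    exact hf.smul_left hc
  · have hβ : α ∉ Submodule.span (ZMod p) {α - α'} := by
      intro hm
      obtain ⟨c, hc⟩ := Submodule.mem_span_singleton.mp hm
      by_cases hc0 : c = 0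
      · subst hc0
        rw [zero_smul] at hc
        exact hf.2.1 hc.symm
      · apply hmem
        rw [Submodule.mem_span_singleton]
        refine ⟨(c - 1) / c, ?_⟩
        have : c • α' = (c - 1) • α := by
          calc c • α' = c • α - c • (α - α') := by rw [smul_sub]; abel
            _ = c • α - α := by rw [hc]
            _ = (c - 1) • α := by
              ext z
              simp only [LinearMap.sub_apply, LinearMap.smul_apply, smul_eq_mul]
              ring
        rw [div_eq_inv_mul, mul_smul, ← this, smul_smul, inv_mul_cancel₀ hc0, one_smul]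
    obtain ⟨y₀, hy1, hy2⟩ := exists_ker_sep hβ
    have hβπ : (α - α') ∘ₗ π = α - α' := by
      rw [LinearMap.sub_comp, hα, hα']
    set y := π y₀ with hy
    have hπy : π y = y := idem_apply hb.1 y₀
    have hβy : (α - α') y = 0 := by
      rw [hy, apply_of_comp_eq hβπ, hy1]
    have hαy : α y = 1 := by
      rw [hy, apply_of_comp_eq hα, hy2]
    have hy0 : y ≠ 0 := by
      intro h0
      rw [h0] at hαy
      simp at hαy
    have hβ0 : α - α' ≠ 0 := by
      intro h0
      apply hmem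
      rw [sub_eq_zero] at h0
      rw [← h0]
      exact Submodule.mem_span_singleton_self α
    have fy := hb.flag hy0 hβ0 hπy hβπ hβy
    have h1 := hf.conj_tv fy
    have hβs : (α - α') s = 0 := by
      have := apply_of_comp_eq hβπ s
      rw [hs, map_zero] at this
      exact this.symm
    rw [hβs, zero_smul, add_zero, hαy, one_smul] at h1
    have : α - (α - α') = α' := by abel
    rwa [this] at h1

variable [Finite V]

/-- Lemma A: a flag with `χ (π u) ≠ 0` enlarges an `SL`-block of dimension at least two. -/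
theorem SLBlock.extend (hb : SLBlock H π) (h2 : 2 ≤ finrank (ZMod p) (LinearMap.range π))
    {u : V} {χ : Dual (ZMod p) V} (hf : IsFlag H u χ) (hne : χ (π u) ≠ 0) :
    ∃ π₁ : V →ₗ[ZMod p] V, SLBlock H π₁ ∧ LinearMap.range π < LinearMap.range π₁ := by
  have hidem := hb.1
  obtain ⟨e, he⟩ : ∃ e, e = π u := ⟨_, rfl⟩
  obtain ⟨e', he'⟩ : ∃ e', e' = u - π u := ⟨_, rfl⟩
  obtain ⟨χU, hχU⟩ : ∃ χU : Dual (ZMod p) V, χU = χ ∘ₗ π := ⟨_, rfl⟩
  obtain ⟨χ', hχ'⟩ : ∃ χ' : Dual (ZMod p) V, χ' = χ - χ ∘ₗ π := ⟨_, rfl⟩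
  have hπe : π e = e := by rw [he]; exact idem_apply hidem u
  have hπe' : π e' = 0 := by rw [he', map_sub, idem_apply hidem, sub_self]
  have hχUπ : χU ∘ₗ π = χU := by rw [hχU]; exact comp_idem hidem χ
  have hχ'π : χ' ∘ₗ π = 0 := by rw [hχ']; exact sub_comp_idem hidem χ
  have hχUe : χU e = χ (π u) := by
    rw [hχU, LinearMap.comp_apply, hπe, he]
  have hχe : χ e = χ (π u) := by rw [he]
  have hχu : χ u = 0 := hf.2.2.1
  obtain ⟨κ, hκ⟩ : ∃ κ, κ = χ' e' := ⟨_, rfl⟩
  have hκv : κ = - χ (π u) := by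
    rw [hκ, hχ', he']
    simp only [LinearMap.sub_apply, LinearMap.comp_apply, map_sub, idem_apply hidem, hχu]
    ring
  have hκ0 : κ ≠ 0 := by rw [hκv]; exact neg_ne_zero.mpr hne
  have he0 : e ≠ 0 := by
    intro h0
    apply hne
    rw [← he, h0, map_zero]
  have he'0 : e' ≠ 0 := by
    intro h0
    apply hκ0
    rw [hκ, h0, map_zero]
  have hχ'0 : χ' ≠ 0 := by
    intro h0
    apply hκ0
    rw [hκ, h0, LinearMap.zero_apply]
  have hχU0 : χU ≠ 0 := by
    intro h0
    apply hne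
    rw [← hχUe, h0, LinearMap.zero_apply]
  have hu_eq : u = e + e' := by rw [he, he']; abel
  -- Step 1
  obtain ⟨x, hxU, hx0, hxχ⟩ := exists_mem_ker_of_two_le h2 χU
  have hπx : π x = x := by
    obtain ⟨x₀, rfl⟩ := hxU
    exact idem_apply hidem x₀
  have fx := hb.flag hx0 hχU0 hπx hχUπ hxχ
  have hχx : χ x = 0 := by
    rw [← hπx]
    rw [hχU] at hxχ
    exact hxχ
  have hχUu : χU u ≠ 0 := by rw [hχU]; exact hne
  have fxχ : IsFlag H x χ := fx.ho hf hχx hχUu
  have hsub : χ' = χ - χU := by rw [hχ', hχU]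
  have fxχ' : IsFlag H x χ' := by
    refine isFlag_of_mem_Ax hx0 hχ'0 ?_
    rw [hsub]
    exact (Ax H x).sub_mem fxχ.mem_Ax fx.mem_Ax
  have S1 : ∀ y, π y = y → y ≠ 0 → IsFlag H y χ' := hb.spread1 hχ'π hπx fxχ'
  -- Step 2
  have hxe : x ∉ Submodule.span (ZMod p) {e} := by
    intro hm
    obtain ⟨c, rfl⟩ := Submodule.mem_span_singleton.mp hm
    rw [map_smul, hχUe, smul_eq_mul] at hxχ
    rcases mul_eq_zero.mp hxχ with h | h
    · apply hx0; rw [h, zero_smul]
    · exact hne h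
  obtain ⟨f, hfe, hfx⟩ := exists_dual_sep hxe
  obtain ⟨α, hα⟩ : ∃ α : Dual (ZMod p) V, α = f ∘ₗ π := ⟨_, rfl⟩
  have hαπ : α ∘ₗ π = α := by rw [hα]; exact comp_idem hidem f
  have hαe : α e = 0 := by rw [hα, LinearMap.comp_apply, hπe, hfe]
  have hαx : α x = 1 := by rw [hα, LinearMap.comp_apply, hπx, hfx]
  have hα0 : α ≠ 0 := by
    intro h0
    rw [h0] at hαx
    simp at hαx
  have fe := hb.flag he0 hα0 hπe hαπ hαe
  have hαu : α u = 0 := by
    rw [hα, LinearMap.comp_apply, ← he, hfe]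
  have fuα : IsFlag H u α := hf.ho fe hαu (by rw [hχe]; exact hne)
  have he'sub : e' = u - e := by rw [he', he]
  have fe'α : IsFlag H e' α := by
    refine isFlag_of_mem_Bx he'0 hα0 ?_
    rw [he'sub]
    exact (Bx H α).sub_mem fuα.mem_Bx fe.mem_Bx
  have S2 : ∀ α' : Dual (ZMod p) V, α' ∘ₗ π = α' → α' ≠ 0 → IsFlag H e' α' :=
    hb.spread2 hπe' hαπ fe'α
  -- Step 3
  obtain ⟨π₁, hπ₁⟩ : ∃ π₁ : V →ₗ[ZMod p] V, π₁ = π + (κ⁻¹ • χ').smulRight e' := ⟨_, rfl⟩
  have hπ₁a : ∀ x, π₁ x = π x + (κ⁻¹ * χ' x) • e' := by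
    intro x
    rw [hπ₁]
    simp [LinearMap.smulRight_apply]
  have hχ'π' : ∀ x, χ' (π x) = 0 := apply_of_comp_zero hχ'π
  have hidem₁ : π₁ ∘ₗ π₁ = π₁ := by
    ext x
    rw [LinearMap.comp_apply, hπ₁a (π₁ x), hπ₁a x]
    simp only [map_add, map_smul, idem_apply hidem, hπe', smul_zero, add_zero, hχ'π', zero_add,
      smul_eq_mul]
    rw [← hκ]
    congr 2
    field_simp
  refine ⟨π₁, ⟨hidem₁, ?_⟩, ?_⟩
  · intro u₁ χ₁ hu₁ hχ₁ hπu₁ hχ₁π hχ₁u₁
    obtain ⟨y, hy⟩ : ∃ y, y = π u₁ := ⟨_, rfl⟩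
    obtain ⟨γ, hγ⟩ : ∃ γ, γ = κ⁻¹ * χ' u₁ := ⟨_, rfl⟩
    obtain ⟨αa, hαa⟩ : ∃ αa : Dual (ZMod p) V, αa = χ₁ ∘ₗ π := ⟨_, rfl⟩
    obtain ⟨δ, hδ⟩ : ∃ δ, δ = κ⁻¹ * χ₁ e' := ⟨_, rfl⟩
    have hu₁' : u₁ = y + γ • e' := by
      rw [hy, hγ, ← hπ₁a, hπu₁]
    have hχ₁' : χ₁ = αa + δ • χ' := by
      ext z
      have h1 := apply_of_comp_eq hχ₁π z
      rw [hπ₁a] at h1
      rw [← h1, hαa, hδ]
      simp only [map_add, map_smul, smul_eq_mul, LinearMap.add_apply, LinearMap.smul_apply,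
        LinearMap.comp_apply]
      ring
    have hπy : π y = y := by rw [hy]; exact idem_apply hidem u₁
    have hαaπ : αa ∘ₗ π = αa := by rw [hαa]; exact comp_idem hidem χ₁
    have hαae' : αa e' = 0 := by rw [hαa, LinearMap.comp_apply, hπe', map_zero]
    have hχ'y : χ' y = 0 := by rw [hy]; exact hχ'π' u₁
    have hχ₁e' : χ₁ e' = δ * κ := by rw [hδ]; field_simp
    have key : αa y + γ * δ * κ = 0 := by
      have h1 : (αa + δ • χ') (y + γ • e') = 0 := by
        rw [← hχ₁', ← hu₁']; exact hχ₁u₁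
      simp only [LinearMap.add_apply, LinearMap.smul_apply, map_add, map_smul, smul_eq_mul,
        hαae', hχ'y, mul_zero, add_zero, zero_add] at h1
      rw [← hκ] at h1
      rw [← h1]
      ring
    by_cases hγ0 : γ = 0
    · -- centre in U
      rw [hγ0, zero_smul, add_zero] at hu₁'
      rw [hγ0, zero_mul, zero_mul, add_zero] at key
      have hy0 : y ≠ 0 := by rw [← hu₁']; exact hu₁
      have h1 : αa ∈ Ax H y := hb.mem_Ax hy0 hπy hαaπ key
      have h2 : χ' ∈ Ax H y := (S1 y hπy hy0).mem_Ax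
      have h3 : χ₁ ∈ Ax H y := by
        rw [hχ₁']
        exact (Ax H y).add_mem h1 ((Ax H y).smul_mem δ h2)
      rw [hu₁']
      exact h3.2
    · by_cases hy0 : y = 0
      · rw [hy0, zero_add] at hu₁'
        rw [hy0, map_zero, zero_add] at key
        have hδ0 : δ = 0 := by
          rcases mul_eq_zero.mp key with h | h
          · rcases mul_eq_zero.mp h with h | h
            · exact absurd h hγ0
            · exact h
          · exact absurd h hκ0
        rw [hδ0, zero_smul, add_zero] at hχ₁'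
        have hαa0 : αa ≠ 0 := by rw [← hχ₁']; exact hχ₁
        have h1 := (S2 αa hαaπ hαa0).smul_right hγ0
        rw [hu₁', hχ₁']
        exact h1.tv_mem
      · obtain ⟨β₀, hβ₀⟩ := exists_dual_ne_zero' (F := ZMod p) hy0
        obtain ⟨β, hβ⟩ : ∃ β : Dual (ZMod p) V, β = β₀ ∘ₗ π := ⟨_, rfl⟩
        have hβπ : β ∘ₗ π = β := by rw [hβ]; exact comp_idem hidem β₀
        have hβy : β y = 1 := by rw [hβ, LinearMap.comp_apply, hπy, hβ₀]
        have hβ0 : β ≠ 0 := by
          intro h0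
          rw [h0] at hβy
          simp at hβy
        have hβe' : β e' = 0 := by rw [hβ, LinearMap.comp_apply, hπe', map_zero]
        have fe'β := S2 β hβπ hβ0
        obtain ⟨χ₀, hχ₀⟩ : ∃ χ₀ : Dual (ZMod p) V, χ₀ = χ₁ + (γ * χ₁ e') • β := ⟨_, rfl⟩
        have hχ₀e' : χ₀ e' = χ₁ e' := by
          rw [hχ₀]
          simp [hβe']
        have hχ₀0 : χ₀ ≠ 0 := by
          intro h0
          have h1 : χ₁ e' = 0 := by rw [← hχ₀e', h0, LinearMap.zero_apply]
          rw [hχ₀, h1, mul_zero, zero_smul, add_zero] at h0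
          exact hχ₁ h0
        have hχ₀Ax : χ₀ ∈ Ax H y := by
          have e1 : χ₀ = (αa + (γ * χ₁ e') • β) + δ • χ' := by
            rw [hχ₀]
            generalize γ * χ₁ e' = c
            rw [hχ₁']
            abel
          rw [e1]
          apply (Ax H y).add_mem
          · apply hb.mem_Ax hy0 hπy
            · rw [LinearMap.add_comp, LinearMap.smul_comp, hαaπ, hβπ]
            · simp only [LinearMap.add_apply, LinearMap.smul_apply, smul_eq_mul, hβy, mul_one]
              rw [hχ₁e', ← key]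
              ring
          · exact (Ax H y).smul_mem δ (S1 y hπy hy0).mem_Ax
        have fy : IsFlag H y χ₀ := isFlag_of_mem_Ax hy0 hχ₀0 hχ₀Ax
        have h1 := fy.conj_tv_smul fe'β γ
        rw [hβy, mul_one, hχ₀e'] at h1
        have e2 : χ₀ - (γ * χ₁ e') • β = χ₁ := by
          rw [hχ₀]; abel
        rw [e2, ← hu₁'] at h1
        exact h1.tv_mem
  · refine lt_of_le_of_ne ?_ ?_
    · rintro _ ⟨x₀, rfl⟩
      refine ⟨π x₀, ?_⟩
      rw [hπ₁a, idem_apply hidem, hχ'π', mul_zero, zero_smul, add_zero]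
    · intro heq
      have h1 : e' ∈ LinearMap.range π₁ := by
        refine ⟨e', ?_⟩
        rw [hπ₁a, hπe', zero_add, ← hκ, inv_mul_cancel₀ hκ0, one_smul]
      rw [← heq] at h1
      obtain ⟨z, hz⟩ := h1
      apply he'0
      rw [← hz, ← idem_apply hidem z, hz, hπe']

end Cfsg.Agent.Lib.H18.ML
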