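import Mathlib
import Cfsg.Agent.Lib.H18.ML5

set_option autoImplicit false
set_option linter.unusedSectionVars false
set_option linter.unusedSimpArgs false
set_option linter.unusedVariables false

/-! McLaughlin's theorem (helper18), part 6: the plane block of an opposite pair and the
existence of a three-dimensional `SL`-block. -/

namespace Cfsg.Agent.Lib.H18.ML

open Module

variable {p : ℕ} [Fact p.Prime] {V : Type*} [AddCommGroup V] [Module (ZMod p) V]

/-- the projection onto `⟨v, w⟩` along `ker φ ∩ ker ψ` -/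
noncomputable def piE (v : V) (φ : Dual (ZMod p) V) (w : V) (ψ : Dual (ZMod p) V) :
    V →ₗ[ZMod p] V :=
  ((ψ v)⁻¹ • ψ).smulRight v + ((φ w)⁻¹ • φ).smulRight w

theorem piE_apply (v : V) (φ : Dual (ZMod p) V) (w : V) (ψ : Dual (ZMod p) V) (x : V) :
    piE v φ w ψ x = ((ψ v)⁻¹ * ψ x) • v + ((φ w)⁻¹ * φ x) • w := by
  simp [piE, LinearMap.smulRight_apply]

section
variable {v w : V} {φ ψ : Dual (ZMod p) V}

theorem piE_left (h1 : φ v = 0) (h2 : ψ w = 0) (h3 : φ w ≠ 0) (h4 : ψ v ≠ 0) :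
    piE v φ w ψ v = v := by
  rw [piE_apply, h1, mul_zero, zero_smul, add_zero, inv_mul_cancel₀ h4, one_smul]

theorem piE_right (h1 : φ v = 0) (h2 : ψ w = 0) (h3 : φ w ≠ 0) (h4 : ψ v ≠ 0) :
    piE v φ w ψ w = w := by
  rw [piE_apply, h2, mul_zero, zero_smul, zero_add, inv_mul_cancel₀ h3, one_smul]

theorem phi_piE (h1 : φ v = 0) (h2 : ψ w = 0) (h3 : φ w ≠ 0) (h4 : ψ v ≠ 0) (x : V) :
    φ (piE v φ w ψ x) = φ x := by
  rw [piE_apply]
  simp only [map_add, map_smul, smul_eq_mul, h1, mul_zero, zero_add]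
  field_simp

theorem psi_piE (h1 : φ v = 0) (h2 : ψ w = 0) (h3 : φ w ≠ 0) (h4 : ψ v ≠ 0) (x : V) :
    ψ (piE v φ w ψ x) = ψ x := by
  rw [piE_apply]
  simp only [map_add, map_smul, smul_eq_mul, h2, mul_zero, add_zero]
  field_simp

theorem piE_idem (h1 : φ v = 0) (h2 : ψ w = 0) (h3 : φ w ≠ 0) (h4 : ψ v ≠ 0) :
    piE v φ w ψ ∘ₗ piE v φ w ψ = piE v φ w ψ := by
  ext x
  rw [LinearMap.comp_apply, piE_apply v φ w ψ (piE v φ w ψ x), phi_piE h1 h2 h3 h4,
    psi_piE h1 h2 h3 h4, ← piE_apply]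

theorem comp_piE (h1 : φ v = 0) (h2 : ψ w = 0) (h3 : φ w ≠ 0) (h4 : ψ v ≠ 0)
    (χ : Dual (ZMod p) V) :
    χ ∘ₗ piE v φ w ψ = ((ψ v)⁻¹ * χ v) • ψ + ((φ w)⁻¹ * χ w) • φ := by
  ext x
  rw [LinearMap.comp_apply, piE_apply]
  simp only [map_add, map_smul, smul_eq_mul, LinearMap.add_apply, LinearMap.smul_apply]
  ring

variable {H : Subgroup (V ≃ₗ[ZMod p] V)}

/-- the plane of an opposite pair is an `SL`-block -/
theorem slBlock_piE (hf : IsFlag H v φ) (hf' : IsFlag H w ψ) (h3 : φ w ≠ 0) (h4 : ψ v ≠ 0) :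
    SLBlock H (piE v φ w ψ) := by
  have h1 := hf.2.2.1
  have h2 := hf'.2.2.1
  refine ⟨piE_idem h1 h2 h3 h4, ?_⟩
  intro u χ hu hχ hπu hχπ hχu
  -- u = a v + b w
  have hu' : u = ((ψ v)⁻¹ * ψ u) • v + ((φ w)⁻¹ * φ u) • w := by
    rw [← piE_apply, hπu]
  have hχ' : χ = ((ψ v)⁻¹ * χ v) • ψ + ((φ w)⁻¹ * χ w) • φ := by
    rw [← comp_piE h1 h2 h3 h4, hχπ]
  have hab : (ψ v)⁻¹ * ψ u ≠ 0 ∨ (φ w)⁻¹ * φ u ≠ 0 := by
    by_contra hcon
    push_neg at hcon
    apply hu
    rw [hu', hcon.1, hcon.2, zero_smul, zero_smul, add_zero]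
  have fl := hf.pair hf' h3 h4 _ _ hab
  rw [← hu'] at fl
  have e1 : (φ w)⁻¹ * φ u * φ w = φ u := by field_simp
  have e2 : (ψ v)⁻¹ * ψ u * ψ v = ψ u := by field_simp
  rw [e1, e2] at fl
  -- χ is proportional to φ u • ψ - ψ u • φ
  have hrel : (ψ v)⁻¹ * χ v * ψ u + (φ w)⁻¹ * χ w * φ u = 0 := by
    have := hχu
    rw [hχ'] at this
    simpa using this
  obtain ⟨A, hA⟩ : ∃ A, A = (ψ v)⁻¹ * χ v := ⟨_, rfl⟩
  obtain ⟨B, hB⟩ : ∃ B, B = (φ w)⁻¹ * χ w := ⟨_, rfl⟩
  rw [← hA, ← hB] at hrel hχ'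
  by_cases hφu : φ u = 0
  · have hψu : ψ u ≠ 0 := by
      intro h0
      rcases hab with h | h
      · apply h; rw [h0, mul_zero]
      · apply h; rw [hφu, mul_zero]
    rw [hφu, mul_zero, add_zero] at hrel
    have hA0 : A = 0 := by
      rcases mul_eq_zero.mp hrel with h | h
      · exact h
      · exact absurd h hψu
    rw [hφu, zero_smul, zero_sub] at fl
    have hB0 : B ≠ 0 := by
      intro h0
      apply hχ
      rw [hχ', hA0, h0, zero_smul, zero_smul, add_zero]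
    have fl2 := fl.smul_left (c := -(B / ψ u)) (by
      simp [hB0, hψu])
    have : -(B / ψ u) • -(ψ u • φ) = χ := by
      rw [hχ', hA0, zero_smul, zero_add]
      ext z
      simp only [LinearMap.smul_apply, LinearMap.neg_apply, smul_eq_mul]
      field_simp
    rw [this] at fl2
    exact fl2.tv_mem
  · have hA0 : A ≠ 0 := by
      intro h0
      rw [h0, zero_mul, zero_add] at hrel
      have hB0 : B = 0 := by
        rcases mul_eq_zero.mp hrel with h | h
        · exact h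
        · exact absurd h hφu
      apply hχ
      rw [hχ', h0, hB0, zero_smul, zero_smul, add_zero]
    have fl2 := fl.smul_left (c := A / φ u) (by simp [hA0, hφu])
    have : (A / φ u) • (φ u • ψ - ψ u • φ) = χ := by
      rw [hχ']
      have hB' : B = -(A * ψ u) / φ u := by
        field_simp
        linear_combination hrel
      rw [hB']
      ext z
      simp only [LinearMap.smul_apply, LinearMap.sub_apply, LinearMap.add_apply, smul_eq_mul]
      field_simp
      ring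
    rw [this] at fl2
    exact fl2.tv_mem

variable [Finite V]

theorem two_le_finrank_piE (hv : v ≠ 0) (h1 : φ v = 0) (h2 : ψ w = 0) (h3 : φ w ≠ 0)
    (h4 : ψ v ≠ 0) : 2 ≤ finrank (ZMod p) (LinearMap.range (piE v φ w ψ)) := by
  have hlt : Submodule.span (ZMod p) {v} < LinearMap.range (piE v φ w ψ) := by
    refine lt_of_le_of_ne ?_ ?_
    · rw [Submodule.span_singleton_le_iff_mem]
      exact ⟨v, piE_left h1 h2 h3 h4⟩
    · intro heq
      have hw : w ∈ LinearMap.range (piE v φ w ψ) := ⟨w, piE_right h1 h2 h3 h4⟩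
      rw [← heq] at hw
      obtain ⟨c, rfl⟩ := Submodule.mem_span_singleton.mp hw
      apply h3
      rw [map_smul, h1, smul_zero]
  have := Submodule.finrank_lt_finrank_of_lt hlt
  rw [finrank_span_singleton hv] at this
  omega

end

end Cfsg.Agent.Lib.H18.ML
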