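import Mathlib
import Cfsg.Agent.Lib.H18.ML6

set_option autoImplicit false
set_option linter.unusedSectionVars false
set_option linter.unusedSimpArgs false
set_option linter.unusedVariables false

/-! McLaughlin's theorem (helper18), part 7: a centre with two independent axes gives a
three-dimensional `SL`-block. -/

namespace Cfsg.Agent.Lib.H18.ML

open Module

variable {p : ℕ} [Fact p.Prime] {V : Type*} [AddCommGroup V] [Module (ZMod p) V] [Finite V]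
variable {H : Subgroup (V ≃ₗ[ZMod p] V)}

theorem two_le_finrank_Ax {v : V} {φ₁ φ₂ : Dual (ZMod p) V} (h1 : IsFlag H v φ₁)
    (h2 : IsFlag H v φ₂) (h3 : φ₂ ∉ Submodule.span (ZMod p) {φ₁}) :
    2 ≤ finrank (ZMod p) (Ax H v) := by
  by_contra hcon
  have hle : finrank (ZMod p) (Ax H v) ≤ 1 := by omega
  rw [finrank_le_one_iff] at hle
  obtain ⟨g, hg⟩ := hle
  obtain ⟨c₁, hc₁⟩ := hg ⟨φ₁, h1.mem_Ax⟩
  obtain ⟨c₂, hc₂⟩ := hg ⟨φ₂, h2.mem_Ax⟩
  have hc₁' : c₁ • g.1 = φ₁ := congrArg Subtype.val hc₁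
  have hc₂' : c₂ • g.1 = φ₂ := congrArg Subtype.val hc₂
  have hc₁0 : c₁ ≠ 0 := by
    rintro rfl
    rw [zero_smul] at hc₁'
    exact h1.2.1 hc₁'.symm
  apply h3
  rw [Submodule.mem_span_singleton]
  refine ⟨c₂ / c₁, ?_⟩
  rw [← hc₁', ← hc₂', smul_smul]
  congr 1
  field_simp

/-- a centre with two independent axes forces a three-dimensional `SL`-block -/
theorem exists_slBlock_three (hNP : NP H)
    (hex : ∃ (v : V) (φ₁ φ₂ : Dual (ZMod p) V), IsFlag H v φ₁ ∧ IsFlag H v φ₂ ∧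
      φ₂ ∉ Submodule.span (ZMod p) {φ₁}) :
    ∃ π : V →ₗ[ZMod p] V, SLBlock H π ∧ 3 ≤ finrank (ZMod p) (LinearMap.range π) := by
  classical
  obtain ⟨v₁, φ₁, φ₂, hf₁, hf₂, hind⟩ := hex
  -- a centre with maximal `a`
  let C : Set V := {v | ∃ φ, IsFlag H v φ}
  have hCne : C.Nonempty := ⟨v₁, φ₁, hf₁⟩
  obtain ⟨v, hvC, hmax⟩ := Set.exists_max_image C (fun v => finrank (ZMod p) (Ax H v))
    (Set.toFinite C) hCne
  have hav : 2 ≤ finrank (ZMod p) (Ax H v) :=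
    (two_le_finrank_Ax hf₁ hf₂ hind).trans (hmax v₁ ⟨φ₁, hf₁⟩)
  obtain ⟨φ₀, hφ₀⟩ := hvC
  obtain ⟨w₀, ψ₀, hw₀, hφ₀w₀, hψ₀v⟩ := exists_opp hNP hφ₀
  -- χ' ∈ A_v vanishing at w₀
  obtain ⟨χ', hχ'A, hχ'0, hχ'w₀⟩ := exists_mem_ker_of_two_le hav (Dual.eval (ZMod p) V w₀)
  rw [Dual.eval_apply] at hχ'w₀
  have fχ' : IsFlag H v χ' := isFlag_of_mem_Ax hφ₀.1 hχ'0 hχ'A
  -- w₀ ∈ B_χ'
  have fw₀χ' : IsFlag H w₀ χ' := by
    have h1 := fχ'.conj_tv hw₀
    rw [hχ'w₀, zero_smul, sub_zero] at h1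
    have h2 : ψ₀ v • w₀ ∈ Bx H χ' := by
      have := (Bx H χ').sub_mem h1.mem_Bx fχ'.mem_Bx
      simpa using this
    have h3 : w₀ ∈ Bx H χ' := by
      have := (Bx H χ').smul_mem (ψ₀ v)⁻¹ h2
      rwa [smul_smul, inv_mul_cancel₀ hψ₀v, one_smul] at this
    exact isFlag_of_mem_Bx hw₀.1 hχ'0 h3
  -- opposite of (v, χ')
  obtain ⟨w, ψ, hw, hχ'w, hψv⟩ := exists_opp hNP fχ'
  -- e'
  obtain ⟨e', he'⟩ : ∃ e', e' = ψ w₀ • v - ψ v • w₀ := ⟨_, rfl⟩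
  have he'B : e' ∈ Bx H χ' := by
    rw [he']
    exact (Bx H χ').sub_mem ((Bx H χ').smul_mem _ fχ'.mem_Bx) ((Bx H χ').smul_mem _ fw₀χ'.mem_Bx)
  have hψe' : ψ e' = 0 := by
    rw [he']
    simp only [map_sub, map_smul, smul_eq_mul]
    ring
  have he'0 : e' ≠ 0 := by
    intro h0
    have : φ₀ e' = - (ψ v * φ₀ w₀) := by
      rw [he']
      simp only [map_sub, map_smul, smul_eq_mul, hφ₀.2.2.1, mul_zero, zero_sub]
    rw [h0, map_zero] at this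
    have h1 : ψ v * φ₀ w₀ = 0 := by
      rw [eq_comm, neg_eq_zero] at this
      exact this
    rcases mul_eq_zero.mp h1 with h | h
    · exact hψv h
    · exact hφ₀w₀ h
  have fe'χ' : IsFlag H e' χ' := isFlag_of_mem_Bx he'0 hχ'0 he'B
  have hχ'e' : χ' e' = 0 := fe'χ'.2.2.1
  -- (e', ψ) is a flag
  have fe'ψ : IsFlag H e' ψ := by
    have h1 := fe'χ'.conj_tv hw
    rw [hψe', zero_smul, add_zero] at h1
    have h2 : χ' w • ψ ∈ Ax H e' := by
      have := (Ax H e').sub_mem fe'χ'.mem_Ax h1.mem_Ax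
      simpa using this
    have h3 : ψ ∈ Ax H e' := by
      have := (Ax H e').smul_mem (χ' w)⁻¹ h2
      rwa [smul_smul, inv_mul_cancel₀ hχ'w, one_smul] at this
    exact isFlag_of_mem_Ax he'0 hw.2.1 h3
  -- some φ₁ ∈ A_v with φ₁ e' ≠ 0
  obtain ⟨φa, hφaA, hφae'⟩ : ∃ φa ∈ Ax H v, φa e' ≠ 0 := by
    by_contra hcon
    push_neg at hcon
    have hle : Ax H v ≤ Ax H e' := by
      intro β hβ
      by_cases hβ0 : β = 0
      · rw [hβ0]; exact (Ax H e').zero_mem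
      · have fβ : IsFlag H v β := isFlag_of_mem_Ax hφ₀.1 hβ0 hβ
        exact (fe'ψ.ho fβ (hcon β hβ) hψv).mem_Ax
    have hlt : Ax H v < Ax H e' := by
      refine lt_of_le_of_ne hle ?_
      intro heq
      have : ψ ∈ Ax H v := by rw [heq]; exact fe'ψ.mem_Ax
      exact hψv this.1
    have h1 := Submodule.finrank_lt_finrank_of_lt hlt
    have h2 := hmax e' ⟨χ', fe'χ'⟩
    omega
  -- adjust to vanish at w
  obtain ⟨σ, hσ⟩ : ∃ σ : Dual (ZMod p) V, σ = φa - (φa w / χ' w) • χ' := ⟨_, rfl⟩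
  have hσA : σ ∈ Ax H v := by
    rw [hσ]
    exact (Ax H v).sub_mem hφaA ((Ax H v).smul_mem _ hχ'A)
  have hσw : σ w = 0 := by
    rw [hσ]
    simp only [LinearMap.sub_apply, LinearMap.smul_apply, smul_eq_mul]
    field_simp
    ring
  have hσe' : σ e' = φa e' := by
    rw [hσ]
    simp only [LinearMap.sub_apply, LinearMap.smul_apply, smul_eq_mul, hχ'e', mul_zero, sub_zero]
  have hσ0 : σ ≠ 0 := by
    intro h0
    apply hφae'
    rw [← hσe', h0, LinearMap.zero_apply]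
  have fσ : IsFlag H v σ := isFlag_of_mem_Ax hφ₀.1 hσ0 hσA
  have hσv : σ v = 0 := fσ.2.2.1
  -- the plane block
  have hb := slBlock_piE fχ' hw hχ'w hψv
  have h2 := two_le_finrank_piE (φ := χ') (ψ := ψ) hφ₀.1 fχ'.2.2.1 hw.2.2.1 hχ'w hψv
  -- the flag for the extension lemma
  have fl := fσ.conj_tv fe'ψ
  have hπu : piE v χ' w ψ (v + ψ v • e') = v := by
    rw [map_add, map_smul, piE_left fχ'.2.2.1 hw.2.2.1 hχ'w hψv, piE_apply, hψe', hχ'e']
    simp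
  have hne : (σ - σ e' • ψ) (piE v χ' w ψ (v + ψ v • e')) ≠ 0 := by
    rw [hπu]
    simp only [LinearMap.sub_apply, LinearMap.smul_apply, smul_eq_mul, hσv, zero_sub]
    rw [hσe']
    exact neg_ne_zero.mpr (mul_ne_zero hφae' hψv)
  obtain ⟨π₁, hb₁, hlt⟩ := hb.extend h2 fl hne
  refine ⟨π₁, hb₁, ?_⟩
  have := Submodule.finrank_lt_finrank_of_lt hlt
  omega

end Cfsg.Agent.Lib.H18.ML
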