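import Mathlib
import Cfsg.Agent.Lib.H18.ML7

set_option autoImplicit false
set_option linter.unusedSectionVars false
set_option linter.unusedSimpArgs false
set_option linter.unusedVariables false

/-! McLaughlin's theorem (helper18), part 8: a maximal `SL`-block of dimension at least three
is closed. -/

namespace Cfsg.Agent.Lib.H18.ML

open Module

variable {p : ℕ} [Fact p.Prime] {V : Type*} [AddCommGroup V] [Module (ZMod p) V]

/-- every flag of `H` is either inside the block or commutes with it -/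
def Closed (H : Subgroup (V ≃ₗ[ZMod p] V)) (π : V →ₗ[ZMod p] V) : Prop :=
  ∀ u χ, IsFlag H u χ → (π u = u ∧ χ ∘ₗ π = χ) ∨ (π u = 0 ∧ χ ∘ₗ π = 0)

/-- the vectors of the complement that are centres for all functionals of the block -/
def Sv (H : Subgroup (V ≃ₗ[ZMod p] V)) (π : V →ₗ[ZMod p] V) : Submodule (ZMod p) V :=
  LinearMap.ker π ⊓ ⨅ α ∈ {α : Dual (ZMod p) V | α ∘ₗ π = α}, Bx H α

/-- the functionals killing the block that are axes for all vectors of the block -/
def Sf (H : Subgroup (V ≃ₗ[ZMod p] V)) (π : V →ₗ[ZMod p] V) :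
    Submodule (ZMod p) (Dual (ZMod p) V) :=
  LinearMap.ker (Module.Dual.transpose (R := ZMod p) π) ⊓ ⨅ y ∈ {y : V | π y = y}, Ax H y

variable {H : Subgroup (V ≃ₗ[ZMod p] V)} {π : V →ₗ[ZMod p] V}

theorem mem_Sv {s : V} : s ∈ Sv H π ↔ π s = 0 ∧ ∀ α : Dual (ZMod p) V, α ∘ₗ π = α → s ∈ Bx H α := by
  simp only [Sv, Submodule.mem_inf, LinearMap.mem_ker, Submodule.mem_iInf, Set.mem_setOf_eq]

theorem mem_Sf {σ : Dual (ZMod p) V} :
    σ ∈ Sf H π ↔ σ ∘ₗ π = 0 ∧ ∀ y : V, π y = y → σ ∈ Ax H y := by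
  simp only [Sf, Submodule.mem_inf, LinearMap.mem_ker, Submodule.mem_iInf, Set.mem_setOf_eq,
    Module.Dual.transpose_apply]

theorem mem_Ax_zero (φ : Dual (ZMod p) V) : φ ∈ Ax H (0 : V) :=
  ⟨by simp, by rw [tv_zero_right]; exact H.one_mem⟩

theorem mem_Bx_zero (v : V) : v ∈ Bx H (0 : Dual (ZMod p) V) :=
  ⟨by simp, by rw [tv_zero_left]; exact H.one_mem⟩

variable [Finite V]

theorem exists_block_vec (h1 : 1 ≤ finrank (ZMod p) (LinearMap.range π)) (hidem : π ∘ₗ π = π) :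
    ∃ x, π x = x ∧ x ≠ 0 := by
  have : 0 < finrank (ZMod p) (LinearMap.range π) := by omega
  rw [finrank_pos_iff_exists_ne_zero] at this
  obtain ⟨⟨x, hx⟩, hx0⟩ := this
  obtain ⟨x₀, rfl⟩ := hx
  refine ⟨π x₀, idem_apply hidem x₀, ?_⟩
  intro h0
  apply hx0
  exact Subtype.ext h0

section Max
variable (hb : SLBlock H π) (h3 : 3 ≤ finrank (ZMod p) (LinearMap.range π))
  (hmax : ∀ π' : V →ₗ[ZMod p] V, SLBlock H π' →
    finrank (ZMod p) (LinearMap.range π') ≤ finrank (ZMod p) (LinearMap.range π))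
include hb h3 hmax

theorem SLBlock.max_step1 {u : V} {χ : Dual (ZMod p) V} (hf : IsFlag H u χ) : χ (π u) = 0 := by
  by_contra hne
  obtain ⟨π₁, hb₁, hlt⟩ := hb.extend (by omega) hf hne
  have h1 := Submodule.finrank_lt_finrank_of_lt hlt
  have h2 := hmax π₁ hb₁
  omega

theorem SLBlock.max_step2 {u : V} {χ : Dual (ZMod p) V} (hf : IsFlag H u χ) (hu : π u ≠ 0)
    (hχ : χ - χ ∘ₗ π ≠ 0) : ∀ y, π y = y → y ≠ 0 → IsFlag H y (χ - χ ∘ₗ π) := by
  have hidem := hb.1
  have h1 := hb.max_step1 h3 hmax hf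
  obtain ⟨e, he⟩ : ∃ e, e = π u := ⟨_, rfl⟩
  have hπe : π e = e := by rw [he]; exact idem_apply hidem u
  obtain ⟨x, hxU, hxχ, hxe⟩ := exists_mem_ker_of_three_le h3 (χ ∘ₗ π) e
  have hπx : π x = x := by
    obtain ⟨x₀, rfl⟩ := hxU
    exact idem_apply hidem x₀
  have hx0 : x ≠ 0 := by
    rintro rfl
    exact hxe (Submodule.zero_mem _)
  have he0 : e ≠ 0 := by rw [he]; exact hu
  have hex : e ∉ Submodule.span (ZMod p) {x} := by
    intro hm
    obtain ⟨c, hc⟩ := Submodule.mem_span_singleton.mp hm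
    have hc0 : c ≠ 0 := by
      rintro rfl
      rw [zero_smul] at hc
      exact he0 hc.symm
    apply hxe
    rw [Submodule.mem_span_singleton]
    refine ⟨c⁻¹, ?_⟩
    rw [← hc, smul_smul, inv_mul_cancel₀ hc0, one_smul]
  obtain ⟨f, hfx, hfe⟩ := exists_dual_sep hex
  obtain ⟨α, hα⟩ : ∃ α : Dual (ZMod p) V, α = f ∘ₗ π := ⟨_, rfl⟩
  have hαπ : α ∘ₗ π = α := by rw [hα]; exact comp_idem hidem f
  have hαx : α x = 0 := by rw [hα, LinearMap.comp_apply, hπx, hfx]
  have hαu : α u = 1 := by rw [hα, LinearMap.comp_apply, ← he, hfe]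
  have hα0 : α ≠ 0 := by
    intro h0
    rw [h0] at hαu
    simp at hαu
  have fx := hb.flag hx0 hα0 hπx hαπ hαx
  have hχx : χ x = 0 := by
    rw [← hπx]
    exact hxχ
  have fxχ : IsFlag H x χ := fx.ho hf hχx (by rw [hαu]; exact one_ne_zero)
  have hUx : (χ ∘ₗ π) ∈ Ax H x := hb.mem_Ax hx0 hπx (comp_idem hidem χ) hxχ
  have fxχ' : IsFlag H x (χ - χ ∘ₗ π) :=
    isFlag_of_mem_Ax hx0 hχ ((Ax H x).sub_mem fxχ.mem_Ax hUx)
  exact hb.spread1 (sub_comp_idem hidem χ) hπx fxχ'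

theorem SLBlock.max_step3 {u : V} {χ : Dual (ZMod p) V} (hf : IsFlag H u χ) (hχ : χ ∘ₗ π ≠ 0)
    (hu : u - π u ≠ 0) :
    ∀ α : Dual (ZMod p) V, α ∘ₗ π = α → α ≠ 0 → IsFlag H (u - π u) α := by
  have hidem := hb.1
  have h1 := hb.max_step1 h3 hmax hf
  obtain ⟨e, he⟩ : ∃ e, e = π u := ⟨_, rfl⟩
  have hπe : π e = e := by rw [he]; exact idem_apply hidem u
  obtain ⟨x₀, hx₀⟩ : ∃ x₀, (χ ∘ₗ π) x₀ ≠ 0 := by
    by_contra h0
    push_neg at h0
    exact hχ (LinearMap.ext h0)
  obtain ⟨x, hx⟩ : ∃ x, x = π x₀ := ⟨_, rfl⟩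
  have hπx : π x = x := by rw [hx]; exact idem_apply hidem x₀
  have hχx : χ x ≠ 0 := by rw [hx]; exact hx₀
  have hx0 : x ≠ 0 := by
    rintro h0
    rw [h0, map_zero] at hχx
    exact hχx rfl
  -- a vector of the block outside span {e, x}
  obtain ⟨y, hyU, hy⟩ : ∃ y ∈ LinearMap.range π, y ∉ Submodule.span (ZMod p) {e, x} := by
    by_contra hcon
    push_neg at hcon
    have hle : LinearMap.range π ≤ Submodule.span (ZMod p) {e, x} := fun y hy => hcon y hy
    have h4 := Submodule.finrank_mono hle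
    have h5 : finrank (ZMod p) (Submodule.span (ZMod p) ({e, x} : Set V)) ≤ 2 := by
      classical
      have := finrank_span_le_card (R := ZMod p) ({e, x} : Set V)
      refine this.trans ?_
      rw [Set.toFinset_card]
      have : Fintype.card ({e, x} : Set V) ≤ 2 := by
        rw [← Set.toFinset_card]
        simp only [Set.toFinset_insert, Set.toFinset_singleton]
        exact Finset.card_le_two
      exact this
    omega
  obtain ⟨f, hfy, hf0⟩ := Submodule.exists_dual_map_eq_bot_of_notMem hy inferInstance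
  have hfe : f e = 0 := by
    have : f e ∈ (Submodule.span (ZMod p) ({e, x} : Set V)).map f :=
      ⟨e, Submodule.subset_span (by simp), rfl⟩
    rw [hf0] at this
    exact (Submodule.mem_bot _).mp this
  have hfx : f x = 0 := by
    have : f x ∈ (Submodule.span (ZMod p) ({e, x} : Set V)).map f :=
      ⟨x, Submodule.subset_span (by simp), rfl⟩
    rw [hf0] at this
    exact (Submodule.mem_bot _).mp this
  have hπy : π y = y := by
    obtain ⟨y₀, rfl⟩ := hyU
    exact idem_apply hidem y₀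
  obtain ⟨α, hα⟩ : ∃ α : Dual (ZMod p) V, α = f ∘ₗ π := ⟨_, rfl⟩
  have hαπ : α ∘ₗ π = α := by rw [hα]; exact comp_idem hidem f
  have hαx : α x = 0 := by rw [hα, LinearMap.comp_apply, hπx, hfx]
  have hαe : α e = 0 := by rw [hα, LinearMap.comp_apply, hπe, hfe]
  have hαu : α u = 0 := by rw [hα, LinearMap.comp_apply, ← he, hfe]
  have hαy : α y ≠ 0 := by rw [hα, LinearMap.comp_apply, hπy]; exact hfy
  have hα0 : α ≠ 0 := by
    intro h0
    rw [h0] at hαy
    exact hαy rfl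
  have fx := hb.flag hx0 hα0 hπx hαπ hαx
  have fuα : IsFlag H u α := hf.ho fx hαu hχx
  have he'B : u - π u ∈ Bx H α := by
    rw [← he]
    apply (Bx H α).sub_mem fuα.mem_Bx
    by_cases he0 : e = 0
    · rw [he0]; exact (Bx H α).zero_mem
    · exact (hb.flag he0 hα0 hπe hαπ hαe).mem_Bx
  have fe' : IsFlag H (u - π u) α := isFlag_of_mem_Bx hu hα0 he'B
  have hπe' : π (u - π u) = 0 := by rw [map_sub, idem_apply hidem, sub_self]
  exact hb.spread2 hπe' hαπ fe'

theorem SLBlock.max_perp {s : V} {σ : Dual (ZMod p) V} (hs : s ∈ Sv H π) (hσ : σ ∈ Sf H π) :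
    σ s = 0 := by
  by_contra hne
  have hidem := hb.1
  rw [mem_Sv] at hs
  rw [mem_Sf] at hσ
  have hs0 : s ≠ 0 := by
    rintro rfl
    exact hne (map_zero σ)
  have hσ0 : σ ≠ 0 := by
    rintro rfl
    exact hne rfl
  obtain ⟨x, hπx, hx0⟩ := exists_block_vec (by omega) hidem
  obtain ⟨α₀, hα₀⟩ := exists_dual_ne_zero' (F := ZMod p) hx0
  obtain ⟨α, hα⟩ : ∃ α : Dual (ZMod p) V, α = α₀ ∘ₗ π := ⟨_, rfl⟩
  have hαπ : α ∘ₗ π = α := by rw [hα]; exact comp_idem hidem α₀
  have hαx : α x = 1 := by rw [hα, LinearMap.comp_apply, hπx, hα₀]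
  have hα0 : α ≠ 0 := by
    intro h0
    rw [h0] at hαx
    simp at hαx
  have fxσ : IsFlag H x σ := isFlag_of_mem_Ax hx0 hσ0 (hσ.2 x hπx)
  have fsα : IsFlag H s α := isFlag_of_mem_Bx hs0 hα0 (hs.2 α hαπ)
  have fl := fxσ.conj_tv fsα
  have h1 := hb.max_step1 h3 hmax fl
  rw [hαx, one_smul, map_add, hπx, hs.1, add_zero] at h1
  simp only [LinearMap.sub_apply, LinearMap.smul_apply, smul_eq_mul, hαx, mul_one] at h1
  have hσx : σ x = 0 := by
    rw [← hπx]
    exact apply_of_comp_zero hσ.1 x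
  rw [hσx, zero_sub, neg_eq_zero] at h1
  exact hne h1

theorem SLBlock.max_Sv_invariant (hG : Gen H) : ∀ g ∈ H, ∀ s ∈ Sv H π, g s ∈ Sv H π := by
  have hidem := hb.1
  apply hG.invariant
  intro u χ hf s hs
  rw [tv_apply hf.2.2.1]
  by_cases hχs : χ s = 0
  · rw [hχs, zero_smul, add_zero]; exact hs
  · have hs' := mem_Sv.mp hs
    have hs0 : s ≠ 0 := by
      rintro rfl
      exact hχs (map_zero χ)
    have hχ's : (χ - χ ∘ₗ π) s = χ s := by
      simp [hs'.1]
    have hχ'0 : χ - χ ∘ₗ π ≠ 0 := by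
      intro h0
      rw [h0] at hχ's
      exact hχs hχ's.symm
    have hπu : π u = 0 := by
      by_contra hπu
      have h2 := hb.max_step2 h3 hmax hf hπu hχ'0
      have hSf : (χ - χ ∘ₗ π) ∈ Sf H π := by
        rw [mem_Sf]
        refine ⟨sub_comp_idem hidem χ, ?_⟩
        intro y hy
        by_cases hy0 : y = 0
        · rw [hy0]; exact mem_Ax_zero _
        · exact (h2 y hy hy0).mem_Ax
      have := hb.max_perp h3 hmax hs hSf
      rw [hχ's] at this
      exact hχs this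
    rw [mem_Sv]
    refine ⟨by rw [map_add, map_smul, hs'.1, hπu, smul_zero, add_zero], ?_⟩
    intro α hα
    by_cases hα0 : α = 0
    · rw [hα0]; exact mem_Bx_zero _
    · have fsα : IsFlag H s α := isFlag_of_mem_Bx hs0 hα0 (hs'.2 α hα)
      have fl := fsα.conj_tv hf
      have hαu : α u = 0 := by
        rw [← apply_of_comp_eq hα, hπu, map_zero]
      rw [hαu, zero_smul, sub_zero] at fl
      exact fl.mem_Bx

theorem SLBlock.max_Sv_eq_bot (hG : Gen H) (hNP : NP H) : Sv H π = ⊥ := by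
  have hidem := hb.1
  rw [eq_bot_iff]
  intro s₀ hs₀
  rw [Submodule.mem_bot]
  by_contra hs₀0
  have hs' := mem_Sv.mp hs₀
  obtain ⟨x, hπx, hx0⟩ := exists_block_vec (by omega) hidem
  obtain ⟨α₀, hα₀⟩ := exists_dual_ne_zero' (F := ZMod p) hx0
  obtain ⟨α, hα⟩ : ∃ α : Dual (ZMod p) V, α = α₀ ∘ₗ π := ⟨_, rfl⟩
  have hαπ : α ∘ₗ π = α := by rw [hα]; exact comp_idem hidem α₀
  have hαx : α x = 1 := by rw [hα, LinearMap.comp_apply, hπx, hα₀]
  have hα0 : α ≠ 0 := by
    intro h0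
    rw [h0] at hαx
    simp at hαx
  have hB := hs'.2 α hαπ
  have h1 := hNP (Sv H π) (hb.max_Sv_invariant h3 hmax hG) (tv α s₀) hB.2 (by
    intro y
    rw [tv_apply hB.1]
    simp only [add_sub_cancel_left]
    exact (Sv H π).smul_mem _ hs₀) (by
    intro z hz
    have hz' := mem_Sv.mp hz
    have : α z = 0 := by rw [← apply_of_comp_eq hαπ, hz'.1, map_zero]
    rw [tv_apply hB.1, this, zero_smul, add_zero])
  rw [tv_eq_one_iff hB.1] at h1
  rcases h1 with h1 | h1
  · exact hα0 h1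
  · exact hs₀0 h1

theorem SLBlock.max_Sf_invariant (hG : Gen H) :
    ∀ g ∈ H, ∀ σ ∈ Sf H π, σ ∘ₗ (g : V ≃ₗ[ZMod p] V).toLinearMap ∈ Sf H π := by
  have hidem := hb.1
  apply hG.induction (P := fun g => ∀ σ ∈ Sf H π, σ ∘ₗ (g : V ≃ₗ[ZMod p] V).toLinearMap ∈ Sf H π)
  · intro σ hσ
    exact hσ
  · intro a b ha hb' σ hσ
    have := hb' _ (ha σ hσ)
    exact this
  · intro u χ hf σ hσ
    have hσ' := mem_Sf.mp hσ
    have e1 : σ ∘ₗ (tv χ u : V ≃ₗ[ZMod p] V).toLinearMap = σ + σ u • χ := by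
      ext y
      simp only [LinearMap.comp_apply, LinearEquiv.coe_coe, LinearMap.add_apply,
        LinearMap.smul_apply, smul_eq_mul]
      rw [tv_apply hf.2.2.1, map_add, map_smul, smul_eq_mul, mul_comm]
    rw [e1]
    by_cases hσu : σ u = 0
    · rw [hσu, zero_smul, add_zero]; exact hσ
    · have hσπ : ∀ y, σ (π y) = 0 := apply_of_comp_zero hσ'.1
      have hσe' : σ (u - π u) = σ u := by rw [map_sub, hσπ, sub_zero]
      have he'0 : u - π u ≠ 0 := by
        intro h0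
        rw [h0, map_zero] at hσe'
        exact hσu hσe'.symm
      have hχπ : χ ∘ₗ π = 0 := by
        by_contra hχπ
        have h3' := hb.max_step3 h3 hmax hf hχπ he'0
        have hSv : u - π u ∈ Sv H π := by
          rw [mem_Sv]
          refine ⟨by rw [map_sub, idem_apply hidem, sub_self], ?_⟩
          intro α hα
          by_cases hα0 : α = 0
          · rw [hα0]; exact mem_Bx_zero _
          · exact (h3' α hα hα0).mem_Bx
        have := hb.max_perp h3 hmax hSv hσ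
        rw [hσe'] at this
        exact hσu this
      rw [mem_Sf]
      refine ⟨by rw [LinearMap.add_comp, LinearMap.smul_comp, hσ'.1, hχπ, smul_zero, add_zero], ?_⟩
      intro y hy
      by_cases hy0 : y = 0
      · rw [hy0]; exact mem_Ax_zero _
      · have σ0 : σ ≠ 0 := by
          rintro rfl
          exact hσu rfl
        have fyσ : IsFlag H y σ := isFlag_of_mem_Ax hy0 σ0 (hσ'.2 y hy)
        have fl := fyσ.conj_tv hf.neg_left
        have hχy : χ y = 0 := by
          rw [← hy]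
          exact apply_of_comp_zero hχπ y
        simp only [LinearMap.neg_apply, hχy, neg_zero, zero_smul, add_zero, smul_neg,
          sub_neg_eq_add] at fl
        exact fl.mem_Ax

theorem SLBlock.max_Sf_eq_bot (hG : Gen H) (hNP : NP H) : Sf H π = ⊥ := by
  have hidem := hb.1
  rw [eq_bot_iff]
  intro σ₀ hσ₀
  rw [Submodule.mem_bot]
  by_contra hσ₀0
  have hσ' := mem_Sf.mp hσ₀
  obtain ⟨x, hπx, hx0⟩ := exists_block_vec (by omega) hidem
  let Z : Submodule (ZMod p) V := ⨅ σ ∈ Sf H π, LinearMap.ker σ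
  have hZ : ∀ z, z ∈ Z ↔ ∀ σ ∈ Sf H π, σ z = 0 := by
    intro z
    simp only [Z, Submodule.mem_iInf, LinearMap.mem_ker]
  have hinv : ∀ g ∈ H, ∀ z ∈ Z, g z ∈ Z := by
    intro g hg z hz
    rw [hZ] at hz ⊢
    intro σ hσ
    have := hz _ (hb.max_Sf_invariant h3 hmax hG g hg σ hσ)
    simpa using this
  have hxZ : x ∈ Z := by
    rw [hZ]
    intro σ hσ
    rw [← hπx]
    exact apply_of_comp_zero (mem_Sf.mp hσ).1 x
  have hA := hσ'.2 x hπx
  have h1 := hNP Z hinv (tv σ₀ x) hA.2 (by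
    intro y
    rw [tv_apply hA.1]
    simp only [add_sub_cancel_left]
    exact Z.smul_mem _ hxZ) (by
    intro z hz
    rw [tv_apply hA.1, (hZ z).mp hz σ₀ hσ₀, zero_smul, add_zero])
  rw [tv_eq_one_iff hA.1] at h1
  rcases h1 with h1 | h1
  · exact hσ₀0 h1
  · exact hx0 h1

/-- a maximal `SL`-block of dimension at least three is closed -/
theorem SLBlock.closed_of_max (hG : Gen H) (hNP : NP H) : Closed H π := by
  have hidem := hb.1
  have hSv := hb.max_Sv_eq_bot h3 hmax hG hNP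
  have hSf := hb.max_Sf_eq_bot h3 hmax hG hNP
  intro u χ hf
  -- π u ≠ 0 → χ ∘ π = χ
  have hA : π u ≠ 0 → χ ∘ₗ π = χ := by
    intro hπu
    by_contra hne
    have hχ' : χ - χ ∘ₗ π ≠ 0 := by
      intro h0
      apply hne
      rw [sub_eq_zero] at h0
      exact h0.symm
    have h2 := hb.max_step2 h3 hmax hf hπu hχ'
    have hmem : (χ - χ ∘ₗ π) ∈ Sf H π := by
      rw [mem_Sf]
      refine ⟨sub_comp_idem hidem χ, ?_⟩
      intro y hy
      by_cases hy0 : y = 0
      · rw [hy0]; exact mem_Ax_zero _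
      · exact (h2 y hy hy0).mem_Ax
    rw [hSf, Submodule.mem_bot] at hmem
    exact hχ' hmem
  -- χ ∘ π ≠ 0 → π u = u
  have hB : χ ∘ₗ π ≠ 0 → π u = u := by
    intro hχπ
    by_contra hne
    have he' : u - π u ≠ 0 := by
      intro h0
      apply hne
      rw [sub_eq_zero] at h0
      exact h0.symm
    have h3' := hb.max_step3 h3 hmax hf hχπ he'
    have hmem : u - π u ∈ Sv H π := by
      rw [mem_Sv]
      refine ⟨by rw [map_sub, idem_apply hidem, sub_self], ?_⟩
      intro α hα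
      by_cases hα0 : α = 0
      · rw [hα0]; exact mem_Bx_zero _
      · exact (h3' α hα hα0).mem_Bx
    rw [hSv, Submodule.mem_bot] at hmem
    exact he' hmem
  by_cases hπu : π u = 0
  · right
    refine ⟨hπu, ?_⟩
    by_contra hχπ
    have := hB hχπ
    rw [hπu] at this
    exact hf.1 this.symm
  · left
    have h1 := hA hπu
    have h2 : χ ∘ₗ π ≠ 0 := by rw [h1]; exact hf.2.1
    exact ⟨hB h2, h1⟩

end Max

end Cfsg.Agent.Lib.H18.ML
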