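import Mathlib
import Cfsg.Agent.Lib.H18.ML8

set_option autoImplicit false
set_option linter.unusedSectionVars false
set_option linter.unusedSimpArgs false
set_option linter.unusedVariables false

/-! McLaughlin's theorem (helper18), part 9: symplectic data, `Sp`-blocks, transitivity. -/

namespace Cfsg.Agent.Lib.H18.ML

open Module

variable {p : ℕ} [Fact p.Prime] {V : Type*} [AddCommGroup V] [Module (ZMod p) V]

/-- an alternating form `Ω` on `V` with radical `ker π`, non-degenerate on `range π`. -/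
structure SpData (π : V →ₗ[ZMod p] V) (Ω : V →ₗ[ZMod p] V →ₗ[ZMod p] ZMod p) : Prop where
  idem : π ∘ₗ π = π
  alt : ∀ x, Ω x x = 0
  rad : ∀ x y, Ω x (π y) = Ω x y
  nondeg : ∀ x, π x = x → (∀ y, Ω x y = 0) → x = 0

namespace SpData
variable {π : V →ₗ[ZMod p] V} {Ω : V →ₗ[ZMod p] V →ₗ[ZMod p] ZMod p}

theorem skew (hd : SpData π Ω) (x y : V) : Ω x y = - Ω y x := by
  have h := hd.alt (x + y)
  simp only [map_add, LinearMap.add_apply, hd.alt, zero_add, add_zero] at h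
  linear_combination h

theorem rad_left (hd : SpData π Ω) (x y : V) : Ω (π x) y = Ω x y := by
  rw [hd.skew, hd.rad, ← hd.skew]

theorem comp_eq (hd : SpData π Ω) (x : V) : (Ω x) ∘ₗ π = Ω x := by
  ext y
  exact hd.rad x y

theorem apply_ker (hd : SpData π Ω) {z : V} (hz : π z = 0) (x : V) : Ω x z = 0 := by
  rw [← hd.rad, hz, map_zero]

theorem apply_ker_left (hd : SpData π Ω) {z : V} (hz : π z = 0) (x : V) : Ω z x = 0 := by
  rw [hd.skew, hd.apply_ker hz, neg_zero]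

theorem ne_zero (hd : SpData π Ω) {x : V} (hx : π x = x) (hx0 : x ≠ 0) : Ω x ≠ 0 := by
  intro h0
  apply hx0
  apply hd.nondeg x hx
  intro y
  rw [h0, LinearMap.zero_apply]

/-- one step of transitivity -/
theorem trans_step (hd : SpData π Ω) (P : V → Prop)
    (hP : ∀ y, P y → ∀ z, π z = z → ∀ κ : ZMod p, P (y + (κ * Ω z y) • z))
    {a y : V} (ha : π a = a) (hy : π y = y) (hPa : P a) (hay : Ω a y ≠ 0) : P y := by
  have hz : π (y - a) = y - a := by rw [map_sub, ha, hy]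
  have h1 : Ω (y - a) a = - Ω a y := by
    rw [map_sub, LinearMap.sub_apply, hd.alt, sub_zero, hd.skew]
  have h2 := hP a hPa (y - a) hz (Ω (y - a) a)⁻¹
  have h3 : Ω (y - a) a ≠ 0 := by rw [h1]; exact neg_ne_zero.mpr hay
  rw [inv_mul_cancel₀ h3, one_smul] at h2
  have : a + (y - a) = y := by abel
  rwa [this] at h2

/-- transitivity on the nonzero vectors of `range π` -/
theorem trans (hd : SpData π Ω) (P : V → Prop)
    (hP : ∀ y, P y → ∀ z, π z = z → ∀ κ : ZMod p, P (y + (κ * Ω z y) • z))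
    {e : V} (he : π e = e) (he0 : e ≠ 0) (hPe : P e) : ∀ y, π y = y → y ≠ 0 → P y := by
  intro y hy hy0
  by_cases h : Ω e y = 0
  · obtain ⟨z₀, h1, h2⟩ := exists_both_ne (hd.ne_zero he he0) (hd.ne_zero hy hy0)
    have hz : π (π z₀) = π z₀ := idem_apply hd.idem z₀
    have h1' : Ω e (π z₀) ≠ 0 := by rw [hd.rad]; exact h1
    have h2' : Ω (π z₀) y ≠ 0 := by
      rw [hd.skew, hd.rad]
      exact neg_ne_zero.mpr h2
    have hPz := hd.trans_step P hP he hz hPe h1'
    exact hd.trans_step P hP hz hy hPz h2'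
  · exact hd.trans_step P hP he hy hPe h

end SpData

/-- `H` contains `Sp(U, Ω) × 1`, `U = range π`. -/
structure SpBlock (H : Subgroup (V ≃ₗ[ZMod p] V)) (π : V →ₗ[ZMod p] V)
    (Ω : V →ₗ[ZMod p] V →ₗ[ZMod p] ZMod p) : Prop where
  data : SpData π Ω
  mem : ∀ x, π x = x → x ≠ 0 → tv (Ω x) x ∈ H

theorem SpBlock.flag {H : Subgroup (V ≃ₗ[ZMod p] V)} {π : V →ₗ[ZMod p] V}
    {Ω : V →ₗ[ZMod p] V →ₗ[ZMod p] ZMod p} (hs : SpBlock H π Ω) {x : V} (hx : π x = x)
    (hx0 : x ≠ 0) : IsFlag H x (Ω x) :=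
  ⟨hx0, hs.data.ne_zero hx hx0, hs.data.alt x, hs.mem x hx hx0⟩

/-- every centre has a unique axis -/
def AOne (H : Subgroup (V ≃ₗ[ZMod p] V)) : Prop :=
  ∀ (v : V) (φ ψ : Dual (ZMod p) V), IsFlag H v φ → IsFlag H v ψ →
    ψ ∈ Submodule.span (ZMod p) {φ}

/-- every axis has a unique centre -/
def BOne (H : Subgroup (V ≃ₗ[ZMod p] V)) : Prop :=
  ∀ (v w : V) (φ : Dual (ZMod p) V), IsFlag H v φ → IsFlag H w φ →
    w ∈ Submodule.span (ZMod p) {v}

/-- the wedge of two functionals -/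
def wedge (φ ψ : Dual (ZMod p) V) : V →ₗ[ZMod p] V →ₗ[ZMod p] ZMod p :=
  φ.smulRight ψ - ψ.smulRight φ

theorem wedge_apply (φ ψ : Dual (ZMod p) V) (x y : V) :
    wedge φ ψ x y = φ x * ψ y - ψ x * φ y := by
  simp [wedge, LinearMap.smulRight_apply]

theorem wedge_apply' (φ ψ : Dual (ZMod p) V) (x : V) :
    wedge φ ψ x = φ x • ψ - ψ x • φ := by
  ext y
  rw [wedge_apply]
  simp

variable {H : Subgroup (V ≃ₗ[ZMod p] V)}

/-- the plane of an opposite pair carries symplectic data -/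
theorem spData_piE {v w : V} {φ ψ : Dual (ZMod p) V} (h1 : φ v = 0) (h2 : ψ w = 0)
    (h3 : φ w ≠ 0) (h4 : ψ v ≠ 0) (μ : ZMod p) (hμ : μ ≠ 0) :
    SpData (piE v φ w ψ) (μ • wedge φ ψ) := by
  refine ⟨piE_idem h1 h2 h3 h4, ?_, ?_, ?_⟩
  · intro x
    simp only [LinearMap.smul_apply, wedge_apply, smul_eq_mul]
    ring
  · intro x y
    simp only [LinearMap.smul_apply, wedge_apply, smul_eq_mul, phi_piE h1 h2 h3 h4,
      psi_piE h1 h2 h3 h4]
  · intro x hx hx0
    have hv := hx0 v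
    have hw := hx0 w
    simp only [LinearMap.smul_apply, wedge_apply, smul_eq_mul, h1, h2, mul_zero, sub_zero,
      zero_sub] at hv hw
    have hψx : ψ x = 0 := by
      have : μ * (ψ x * φ w) = 0 := by
        linear_combination (-1 : ZMod p) * hw
      rcases mul_eq_zero.mp this with h | h
      · exact absurd h hμ
      · rcases mul_eq_zero.mp h with h | h
        · exact h
        · exact absurd h h3
    have hφx : φ x = 0 := by
      rcases mul_eq_zero.mp hv with h | h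
      · exact absurd h hμ
      · rcases mul_eq_zero.mp h with h | h
        · exact h
        · exact absurd h h4
    rw [← hx, piE_apply, hψx, hφx]
    simp

/-- the plane of an opposite pair is an `Sp`-block -/
theorem spBlock_piE {v w : V} {φ ψ : Dual (ZMod p) V} (hf : IsFlag H v φ) (hf' : IsFlag H w ψ)
    (h3 : φ w ≠ 0) (h4 : ψ v ≠ 0) (μ : ZMod p) (hμ : μ ≠ 0) :
    SpBlock H (piE v φ w ψ) (μ • wedge φ ψ) := by
  have h1 := hf.2.2.1
  have h2 := hf'.2.2.1
  refine ⟨spData_piE h1 h2 h3 h4 μ hμ, ?_⟩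
  intro x hx hx0
  have hx' : x = ((ψ v)⁻¹ * ψ x) • v + ((φ w)⁻¹ * φ x) • w := by
    rw [← piE_apply, hx]
  have hab : (ψ v)⁻¹ * ψ x ≠ 0 ∨ (φ w)⁻¹ * φ x ≠ 0 := by
    by_contra hcon
    push_neg at hcon
    apply hx0
    rw [hx', hcon.1, hcon.2, zero_smul, zero_smul, add_zero]
  have fl := hf.pair hf' h3 h4 _ _ hab
  rw [← hx'] at fl
  have e1 : (φ w)⁻¹ * φ x * φ w = φ x := by field_simp
  have e2 : (ψ v)⁻¹ * ψ x * ψ v = ψ x := by field_simp
  rw [e1, e2] at fl
  have fl2 := fl.smul_left hμ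
  have : (μ • wedge φ ψ) x = μ • (φ x • ψ - ψ x • φ) := by
    rw [LinearMap.smul_apply, wedge_apply']
  rw [this]
  exact fl2.tv_mem

section
variable [Finite V]

/-- if every centre has a unique axis then every axis has a unique centre -/
theorem bOne_of_aOne (hNP : NP H) (ha : AOne H) : BOne H := by
  intro v w φ hv hw
  by_contra hcon
  obtain ⟨w₀, ψ₀, hw₀, hφw₀, hψ₀v⟩ := exists_opp hNP hv
  obtain ⟨e', he'⟩ : ∃ e', e' = ψ₀ w • v - ψ₀ v • w := ⟨_, rfl⟩
  have he'B : e' ∈ Bx H φ := by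
    rw [he']
    exact (Bx H φ).sub_mem ((Bx H φ).smul_mem _ hv.mem_Bx) ((Bx H φ).smul_mem _ hw.mem_Bx)
  have hψe' : ψ₀ e' = 0 := by
    rw [he']
    simp only [map_sub, map_smul, smul_eq_mul]
    ring
  have he'0 : e' ≠ 0 := by
    intro h0
    apply hcon
    rw [he', sub_eq_zero] at h0
    rw [Submodule.mem_span_singleton]
    refine ⟨(ψ₀ v)⁻¹ * ψ₀ w, ?_⟩
    rw [mul_smul, h0, smul_smul, inv_mul_cancel₀ hψ₀v, one_smul]
  have fe' : IsFlag H e' φ := isFlag_of_mem_Bx he'0 hv.2.1 he'B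
  have fl := fe'.conj_tv hw₀
  rw [hψe', zero_smul, add_zero] at fl
  obtain ⟨c, hc⟩ := Submodule.mem_span_singleton.mp (ha e' φ _ fe' fl)
  have h1 := congrArg (fun f : Dual (ZMod p) V => f v) hc
  simp only [LinearMap.smul_apply, LinearMap.sub_apply, smul_eq_mul, hv.2.2.1, mul_zero,
    zero_sub] at h1
  have h2 : φ w₀ * ψ₀ v = 0 := by
    rw [eq_comm, neg_eq_zero] at h1
    exact h1
  rcases mul_eq_zero.mp h2 with h | h
  · exact hφw₀ h
  · exact hψ₀v h

end

end Cfsg.Agent.Lib.H18.ML
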