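import Mathlib
import Cfsg.Agent.Lib.H18.ML9

set_option autoImplicit false
set_option linter.unusedSectionVars false
set_option linter.unusedSimpArgs false
set_option linter.unusedVariables false

/-! McLaughlin's theorem (helper18), part 10: flags against an `Sp`-block when centres and axes
are unique. -/

namespace Cfsg.Agent.Lib.H18.ML

open Module

variable {p : ℕ} [Fact p.Prime] {V : Type*} [AddCommGroup V] [Module (ZMod p) V]
variable {H : Subgroup (V ≃ₗ[ZMod p] V)} {π : V →ₗ[ZMod p] V}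
  {Ω : V →ₗ[ZMod p] V →ₗ[ZMod p] ZMod p}

theorem SpBlock.claim1 (hs : SpBlock H π Ω) (ha : AOne H) (hb1 : BOne H) {u : V}
    {χ : Dual (ZMod p) V} (hf : IsFlag H u χ) :
    ∃ c : ZMod p, χ ∘ₗ π = c • Ω (π u) ∧ (π u ≠ 0 → c ≠ 0) := by
  have hd := hs.data
  have hmem : χ ∘ₗ π ∈ Submodule.span (ZMod p) {Ω (π u)} := by
    by_contra h
    obtain ⟨y₀, hy1, hy2⟩ := exists_ker_sep h
    obtain ⟨x, hx⟩ : ∃ x, x = π y₀ := ⟨_, rfl⟩
    have hπx : π x = x := by rw [hx]; exact idem_apply hd.idem y₀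
    have hχx : χ x = 1 := by rw [hx]; exact hy2
    have hx0 : x ≠ 0 := by
      rintro h0
      rw [h0, map_zero] at hχx
      exact zero_ne_one hχx
    have hΩ : Ω (π u) x = 0 := by rw [hx, hd.rad]; exact hy1
    have fx := hs.flag hπx hx0
    have hΩxu : Ω x u = 0 := by
      rw [← hd.rad, hd.skew, hΩ, neg_zero]
    have fu : IsFlag H u (Ω x) := hf.ho fx hΩxu (by rw [hχx]; exact one_ne_zero)
    obtain ⟨c, hc⟩ := Submodule.mem_span_singleton.mp (hb1 x u (Ω x) fx fu)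
    have hπu : π u = u := by rw [← hc, map_smul, hπx]
    have fuu := hs.flag hπu hf.1
    obtain ⟨d, hd'⟩ := Submodule.mem_span_singleton.mp (ha u (Ω u) χ fuu hf)
    apply h
    rw [Submodule.mem_span_singleton]
    refine ⟨d, ?_⟩
    rw [← hd', LinearMap.smul_comp, hd.comp_eq, hπu]
  obtain ⟨c, hc⟩ := Submodule.mem_span_singleton.mp hmem
  refine ⟨c, hc.symm, ?_⟩
  intro hπu hc0
  rw [hc0, zero_smul] at hc
  obtain ⟨e, he⟩ : ∃ e, e = π u := ⟨_, rfl⟩
  have hπe : π e = e := by rw [he]; exact idem_apply hd.idem u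
  have he0 : e ≠ 0 := by rw [he]; exact hπu
  obtain ⟨y₀, hy₀⟩ : ∃ y₀, Ω e y₀ ≠ 0 := by
    by_contra h0
    push_neg at h0
    exact hd.ne_zero hπe he0 (LinearMap.ext h0)
  obtain ⟨x, hx⟩ : ∃ x, x = π y₀ := ⟨_, rfl⟩
  have hπx : π x = x := by rw [hx]; exact idem_apply hd.idem y₀
  have hΩex : Ω e x ≠ 0 := by rw [hx, hd.rad]; exact hy₀
  have hx0 : x ≠ 0 := by
    rintro h0
    rw [h0, map_zero] at hΩex
    exact hΩex rfl
  have hχx : χ x = 0 := by
    rw [hx]
    have := congrArg (fun f : Dual (ZMod p) V => f y₀) hc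
    simpa using this.symm
  have fx := hs.flag hπx hx0
  have hΩxu : Ω x u ≠ 0 := by
    rw [← hd.rad, ← he, hd.skew]
    exact neg_ne_zero.mpr hΩex
  have fxχ : IsFlag H x χ := fx.ho hf hχx hΩxu
  obtain ⟨d, hd'⟩ := Submodule.mem_span_singleton.mp (ha x (Ω x) χ fx fxχ)
  have hd0 : d ≠ 0 := by
    rintro rfl
    rw [zero_smul] at hd'
    exact hf.2.1 hd'.symm
  have h1 : χ ∘ₗ π = d • Ω x := by
    rw [← hd', LinearMap.smul_comp, hd.comp_eq]
  rw [h1] at hc
  have h2 : Ω x = 0 := by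
    have := congrArg (fun f : Dual (ZMod p) V => d⁻¹ • f) hc
    simpa [smul_smul, inv_mul_cancel₀ hd0] using this.symm
  exact hd.ne_zero hπx hx0 h2

theorem SpBlock.claim2 (hs : SpBlock H π Ω) (ha : AOne H) (hb1 : BOne H) {u : V}
    {χ : Dual (ZMod p) V} (hf : IsFlag H u χ) (hπu : π u ≠ 0) (hχ : χ ∘ₗ π = χ) : π u = u := by
  have hd := hs.data
  obtain ⟨c, hc, hc0⟩ := hs.claim1 ha hb1 hf
  have hc0' := hc0 hπu
  have hπe : π (π u) = π u := idem_apply hd.idem u
  have fe := hs.flag hπe hπu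
  rw [hχ] at hc
  have fu : IsFlag H u (Ω (π u)) := by
    have := hf.smul_left (inv_ne_zero hc0')
    rw [hc, smul_smul, inv_mul_cancel₀ hc0', one_smul] at this
    exact this
  obtain ⟨d, hd'⟩ := Submodule.mem_span_singleton.mp (hb1 _ _ _ fe fu)
  rw [← hd', map_smul, hπe]

theorem SpBlock.claim2' (hs : SpBlock H π Ω) (ha : AOne H) {u : V}
    {χ : Dual (ZMod p) V} (hf : IsFlag H u χ) (hπu : π u = u) : ∃ c : ZMod p, χ = c • Ω u := by
  obtain ⟨c, hc⟩ := Submodule.mem_span_singleton.mp (ha u (Ω u) χ (hs.flag hπu hf.1) hf)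
  exact ⟨c, hc.symm⟩

/-- the diagonal lemma: a flag with both components nonzero yields a flag commuting with the
block -/
theorem SpBlock.diag (hs : SpBlock H π Ω) (ha : AOne H) (hb1 : BOne H) (hp : (2 : ZMod p) ≠ 0)
    {u : V} {χ : Dual (ZMod p) V} (hf : IsFlag H u χ) (hπu : π u ≠ 0) (hu' : u - π u ≠ 0) :
    IsFlag H (u - π u) (χ - χ ∘ₗ π) := by
  have hd := hs.data
  obtain ⟨c, hc, hc0⟩ := hs.claim1 ha hb1 hf
  have hc0' := hc0 hπu
  obtain ⟨e, he⟩ : ∃ e, e = π u := ⟨_, rfl⟩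
  obtain ⟨e', he'⟩ : ∃ e', e' = u - π u := ⟨_, rfl⟩
  obtain ⟨χ', hχ'⟩ : ∃ χ' : Dual (ZMod p) V, χ' = χ - χ ∘ₗ π := ⟨_, rfl⟩
  rw [← he] at hc hπu
  rw [← he', ← hχ']
  rw [← he'] at hu'
  have hπe : π e = e := by rw [he]; exact idem_apply hd.idem u
  have hπe' : π e' = 0 := by rw [he', map_sub, idem_apply hd.idem, sub_self]
  have hχ'π : χ' ∘ₗ π = 0 := by rw [hχ']; exact sub_comp_idem hd.idem χ
  have hχ'π' : ∀ y, χ' (π y) = 0 := apply_of_comp_zero hχ'π
  have hχeq : χ = c • Ω e + χ' := by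
    rw [hχ', ← hc]; abel
  have hueq : u = e + e' := by rw [he, he']; abel
  have hχ'0 : χ' ≠ 0 := by
    intro h0
    have h1 : χ ∘ₗ π = χ := by
      rw [hχ', sub_eq_zero] at h0
      exact h0.symm
    have h2 := hs.claim2 ha hb1 hf (by rw [← he]; exact hπu) h1
    apply hu'
    rw [he', h2, sub_self]
  have hχ'e : χ' e = 0 := by rw [← hπe]; exact hχ'π' e
  have hΩee' : Ω e e' = 0 := hd.apply_ker hπe' e
  have hχ'e' : χ' e' = 0 := by
    have h1 := hf.2.2.1
    rw [hχeq, hueq] at h1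
    simp only [LinearMap.add_apply, LinearMap.smul_apply, map_add, smul_eq_mul, hd.alt, hΩee',
      hχ'e, mul_zero, add_zero, zero_add] at h1
    exact h1
  -- transitivity
  have hP : ∀ y, IsFlag H (y + e') (c • Ω y + χ') → ∀ z, π z = z → ∀ κ : ZMod p,
      IsFlag H ((y + (κ * Ω z y) • z) + e') (c • Ω (y + (κ * Ω z y) • z) + χ') := by
    intro y hy z hz κ
    by_cases hz0 : z = 0
    · rw [hz0, smul_zero, add_zero]; exact hy
    · have fz := hs.flag hz hz0
      have fl := hy.conj_tv_smul fz κ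
      have e1 : Ω z (y + e') = Ω z y := by
        rw [map_add, hd.apply_ker hπe', add_zero]
      have e2 : (c • Ω y + χ') z = c * Ω y z := by
        rw [LinearMap.add_apply, LinearMap.smul_apply, smul_eq_mul, ← hz, hχ'π', add_zero, hz]
      rw [e1, e2] at fl
      have e3 : y + e' + (κ * Ω z y) • z = y + (κ * Ω z y) • z + e' := by abel
      have e4 : c • Ω y + χ' - (κ * (c * Ω y z)) • Ω z = c • Ω (y + (κ * Ω z y) • z) + χ' := by
        rw [map_add, map_smul, smul_add, smul_smul]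
        rw [hd.skew y z]
        ext t
        simp only [LinearMap.add_apply, LinearMap.sub_apply, LinearMap.smul_apply, smul_eq_mul]
        ring
      rw [e3, e4] at fl
      exact fl
  have hPe : IsFlag H (e + e') (c • Ω e + χ') := by
    rw [← hueq, ← hχeq]; exact hf
  have hneg : π (-e) = -e := by rw [map_neg, hπe]
  have hneg0 : -e ≠ 0 := neg_ne_zero.mpr hπu
  have hPne := hd.trans (fun y => IsFlag H (y + e') (c • Ω y + χ')) hP hπe hπu hPe (-e) hneg hneg0
  -- the product of three transvections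
  have fe := hs.flag hπe hπu
  have t0 : tv ((-(2 * c)) • Ω e) e ∈ H := tv_smul_mem H fe.2.2.1 fe.2.2.2 _
  have z0 : ((-(2 * c)) • Ω e) e = 0 := by simp [hd.alt]
  have z1 : (c • Ω e + χ') (e + e') = 0 := hPe.2.2.1
  have z2 : (c • Ω (-e) + χ') (-e + e') = 0 := hPne.2.2.1
  have z3 : ((2 : ZMod p) • χ') e' = 0 := by simp [hχ'e']
  have hprod : tv (c • Ω e + χ') (e + e') * tv (c • Ω (-e) + χ') (-e + e') *
      tv ((-(2 * c)) • Ω e) e = tv ((2 : ZMod p) • χ') e' := by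
    ext x
    rw [mul_apply', mul_apply', tv_apply z0, tv_apply z2, tv_apply z1, tv_apply z3]
    simp only [map_add, map_neg, map_smul, LinearMap.add_apply, LinearMap.smul_apply,
      LinearMap.neg_apply, smul_eq_mul, hd.alt, hΩee', hχ'e, hχ'e', mul_zero, add_zero, neg_zero,
      zero_add, mul_neg]
    module
  have hmem : tv ((2 : ZMod p) • χ') e' ∈ H := by
    rw [← hprod]
    exact H.mul_mem (H.mul_mem hPe.tv_mem hPne.tv_mem) t0
  have hA : (2 : ZMod p) • χ' ∈ Ax H e' := ⟨z3, hmem⟩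
  have hA' : χ' ∈ Ax H e' := by
    have := (Ax H e').smul_mem (2 : ZMod p)⁻¹ hA
    rwa [smul_smul, inv_mul_cancel₀ hp, one_smul] at this
  exact isFlag_of_mem_Ax hu' hχ'0 hA'

end Cfsg.Agent.Lib.H18.ML
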