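import Mathlib
import Cfsg.Agent.Lib.H18.ML10

set_option autoImplicit false
set_option linter.unusedSectionVars false
set_option linter.unusedSimpArgs false
set_option linter.unusedVariables false

/-! McLaughlin's theorem (helper18), part 11: enlarging an `Sp`-block by a hyperbolic plane. -/

namespace Cfsg.Agent.Lib.H18.ML

open Module

variable {p : ℕ} [Fact p.Prime] {V : Type*} [AddCommGroup V] [Module (ZMod p) V]
variable {H : Subgroup (V ≃ₗ[ZMod p] V)} {π : V →ₗ[ZMod p] V}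
  {Ω : V →ₗ[ZMod p] V →ₗ[ZMod p] ZMod p}

theorem SpBlock.extend (hs : SpBlock H π Ω) {e' w : V} {χ' ψ : Dual (ZMod p) V}
    (f1 : IsFlag H e' χ') (f2 : IsFlag H w ψ) (h3 : χ' w ≠ 0) (h4 : ψ e' ≠ 0)
    (hπe' : π e' = 0) (hπw : π w = 0) (hχ'π : χ' ∘ₗ π = 0) (hψπ : ψ ∘ₗ π = 0)
    {e : V} {c : ZMod p} (hπe : π e = e) (he0 : e ≠ 0) (hc : c ≠ 0)
    (fd : IsFlag H (e + e') (c • Ω e + χ')) :
    ∃ (π₁ : V →ₗ[ZMod p] V) (Ω₁ : V →ₗ[ZMod p] V →ₗ[ZMod p] ZMod p),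
      SpBlock H π₁ Ω₁ ∧ LinearMap.range π < LinearMap.range π₁ := by
  have hd := hs.data
  have g1 := f1.2.2.1
  have g2 := f2.2.2.1
  obtain ⟨μ, hμ⟩ : ∃ μ : ZMod p, μ = -(c * ψ e')⁻¹ := ⟨_, rfl⟩
  have hμ0 : μ ≠ 0 := by
    rw [hμ]
    exact neg_ne_zero.mpr (inv_ne_zero (mul_ne_zero hc h4))
  obtain ⟨π₂, hπ₂⟩ : ∃ π₂ : V →ₗ[ZMod p] V, π₂ = piE e' χ' w ψ := ⟨_, rfl⟩
  obtain ⟨Ω₂, hΩ₂⟩ : ∃ Ω₂ : V →ₗ[ZMod p] V →ₗ[ZMod p] ZMod p, Ω₂ = μ • wedge χ' ψ := ⟨_, rfl⟩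
  have hd2 : SpData π₂ Ω₂ := by rw [hπ₂, hΩ₂]; exact spData_piE g1 g2 h3 h4 μ hμ0
  have hs2 : SpBlock H π₂ Ω₂ := by rw [hπ₂, hΩ₂]; exact spBlock_piE f1 f2 h3 h4 μ hμ0
  have hχ'π' : ∀ y, χ' (π y) = 0 := apply_of_comp_zero hχ'π
  have hψπ' : ∀ y, ψ (π y) = 0 := apply_of_comp_zero hψπ
  have c12 : ∀ x, π (π₂ x) = 0 := by
    intro x
    rw [hπ₂, piE_apply, map_add, map_smul, map_smul, hπe', hπw, smul_zero, smul_zero, add_zero]
  have c21 : ∀ x, π₂ (π x) = 0 := by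
    intro x
    rw [hπ₂, piE_apply, hχ'π', hψπ', mul_zero, mul_zero, zero_smul, zero_smul, add_zero]
  have hπ₂e' : π₂ e' = e' := by rw [hπ₂]; exact piE_left g1 g2 h3 h4
  -- Ω kills E₂, Ω₂ kills U
  have k1 : ∀ x y, Ω x (π₂ y) = 0 := fun x y => hd.apply_ker (c12 y) x
  have k2 : ∀ x y, Ω₂ x (π y) = 0 := fun x y => hd2.apply_ker (c21 y) x
  have k1' : ∀ x y, Ω (π₂ x) y = 0 := fun x y => hd.apply_ker_left (c12 x) y
  have k2' : ∀ x y, Ω₂ (π x) y = 0 := fun x y => hd2.apply_ker_left (c21 x) y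
  obtain ⟨π₁, hπ₁⟩ : ∃ π₁ : V →ₗ[ZMod p] V, π₁ = π + π₂ := ⟨_, rfl⟩
  obtain ⟨Ω₁, hΩ₁⟩ : ∃ Ω₁ : V →ₗ[ZMod p] V →ₗ[ZMod p] ZMod p, Ω₁ = Ω + Ω₂ := ⟨_, rfl⟩
  have hπ₁a : ∀ x, π₁ x = π x + π₂ x := by intro x; rw [hπ₁]; rfl
  have hΩ₁a : ∀ x y, Ω₁ x y = Ω x y + Ω₂ x y := by intro x y; rw [hΩ₁]; rfl
  have hΩ₁f : ∀ x, Ω₁ x = Ω x + Ω₂ x := by intro x; rw [hΩ₁]; rfl
  have hd1 : SpData π₁ Ω₁ := by
    refine ⟨?_, ?_, ?_, ?_⟩
    · ext x
      rw [LinearMap.comp_apply, hπ₁a (π₁ x), hπ₁a x]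
      simp only [map_add, idem_apply hd.idem, idem_apply hd2.idem, c12, c21, add_zero, zero_add]
    · intro x
      rw [hΩ₁a, hd.alt, hd2.alt, add_zero]
    · intro x y
      rw [hΩ₁a, hΩ₁a, hπ₁a, map_add, map_add, hd.rad, hd2.rad, k1, k2, add_zero, zero_add]
    · intro x hx hx0
      have ha : π x = 0 := by
        apply hd.nondeg (π x) (idem_apply hd.idem x)
        intro y
        have := hx0 (π y)
        rw [hΩ₁a, k2, add_zero, hd.rad] at this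
        rw [hd.rad_left]
        exact this
      have hb : π₂ x = 0 := by
        apply hd2.nondeg (π₂ x) (idem_apply hd2.idem x)
        intro y
        have := hx0 (π₂ y)
        rw [hΩ₁a, k1, zero_add, hd2.rad] at this
        rw [hd2.rad_left]
        exact this
      rw [← hx, hπ₁a, ha, hb, add_zero]
  -- flags
  have P_U : ∀ a, π a = a → a ≠ 0 → IsFlag H a (Ω₁ a) := by
    intro a ha ha0
    have : Ω₁ a = Ω a := by
      rw [hΩ₁f]
      have : Ω₂ a = 0 := by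
        ext y
        rw [← ha, k2', LinearMap.zero_apply]
      rw [this, add_zero]
    rw [this]
    exact hs.flag ha ha0
  have P_E : ∀ b, π₂ b = b → b ≠ 0 → IsFlag H b (Ω₁ b) := by
    intro b hb hb0
    have : Ω₁ b = Ω₂ b := by
      rw [hΩ₁f]
      have : Ω b = 0 := by
        ext y
        rw [← hb, k1', LinearMap.zero_apply]
      rw [this, zero_add]
    rw [this]
    exact hs2.flag hb hb0
  have hclos : ∀ d z : V, IsFlag H d (Ω₁ d) → IsFlag H z (Ω₁ z) → ∀ κ : ZMod p,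
      IsFlag H (d + (κ * Ω₁ z d) • z) (Ω₁ (d + (κ * Ω₁ z d) • z)) := by
    intro d z hd' hz κ
    have fl := hd'.conj_tv_smul hz κ
    have : Ω₁ d - (κ * Ω₁ d z) • Ω₁ z = Ω₁ (d + (κ * Ω₁ z d) • z) := by
      rw [map_add, map_smul, hd1.skew d z]
      ext t
      simp only [LinearMap.add_apply, LinearMap.sub_apply, LinearMap.smul_apply, smul_eq_mul]
      ring
    rw [this] at fl
    exact fl
  have hstart : IsFlag H (e + e') (Ω₁ (e + e')) := by
    have h1 : Ω₁ (e + e') = c⁻¹ • (c • Ω e + χ') := by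
      ext y
      rw [hΩ₁a]
      have e1 : Ω (e + e') y = Ω e y := by
        rw [map_add, LinearMap.add_apply, hd.apply_ker_left hπe', add_zero]
      have e2 : Ω₂ (e + e') y = c⁻¹ * χ' y := by
        rw [map_add, LinearMap.add_apply, ← hπe, k2', zero_add, hΩ₂, LinearMap.smul_apply,
          LinearMap.smul_apply, wedge_apply, g1, hμ, smul_eq_mul]
        field_simp
        ring
      rw [e1, e2]
      simp only [LinearMap.smul_apply, LinearMap.add_apply, smul_eq_mul]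
      field_simp
    rw [h1]
    exact fd.smul_left (inv_ne_zero hc)
  have hA : ∀ a, π a = a → a ≠ 0 → IsFlag H (a + e') (Ω₁ (a + e')) := by
    apply hd.trans (fun y => IsFlag H (y + e') (Ω₁ (y + e'))) ?_ hπe he0 hstart
    intro y hy z hz κ
    by_cases hz0 : z = 0
    · rw [hz0, smul_zero, add_zero]; exact hy
    · have fl := hclos (y + e') z hy (P_U z hz hz0) κ
      have e1 : Ω₁ z (y + e') = Ω z y := by
        rw [hΩ₁a, map_add, hd.apply_ker hπe', add_zero, ← hz, k2', add_zero]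
      rw [e1] at fl
      have e2 : y + e' + (κ * Ω z y) • z = y + (κ * Ω z y) • z + e' := by abel
      rw [e2] at fl
      exact fl
  have hB : ∀ a, π a = a → a ≠ 0 → ∀ b, π₂ b = b → b ≠ 0 → IsFlag H (a + b) (Ω₁ (a + b)) := by
    intro a ha ha0
    apply hd2.trans (fun y => IsFlag H (a + y) (Ω₁ (a + y))) ?_ hπ₂e' f1.1 (hA a ha ha0)
    intro y hy z hz κ
    by_cases hz0 : z = 0
    · rw [hz0, smul_zero, add_zero]; exact hy
    · have fl := hclos (a + y) z hy (P_E z hz hz0) κ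
      have e1 : Ω₁ z (a + y) = Ω₂ z y := by
        rw [hΩ₁a, ← hz, k1', zero_add, map_add, ← ha, k2, zero_add]
      rw [e1] at fl
      have e2 : a + y + (κ * Ω₂ z y) • z = a + (y + (κ * Ω₂ z y) • z) := by abel
      rw [e2] at fl
      exact fl
  refine ⟨π₁, Ω₁, ⟨hd1, ?_⟩, ?_⟩
  · intro x hx hx0
    have hx' : x = π x + π₂ x := by rw [← hπ₁a, hx]
    by_cases ha0 : π x = 0
    · have hb : π₂ x = x := by rw [ha0, zero_add] at hx'; exact hx'.symm
      exact (P_E x hb hx0).tv_mem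
    · by_cases hb0 : π₂ x = 0
      · have ha : π x = x := by rw [hb0, add_zero] at hx'; exact hx'.symm
        exact (P_U x ha hx0).tv_mem
      · have := hB (π x) (idem_apply hd.idem x) ha0 (π₂ x) (idem_apply hd2.idem x) hb0
        rw [← hx'] at this
        exact this.tv_mem
  · refine lt_of_le_of_ne ?_ ?_
    · rintro _ ⟨x₀, rfl⟩
      refine ⟨π x₀, ?_⟩
      rw [hπ₁a, idem_apply hd.idem, c21, add_zero]
    · intro heq
      have h1 : e' ∈ LinearMap.range π₁ := ⟨e', by rw [hπ₁a, hπe', zero_add, hπ₂e']⟩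
      rw [← heq] at h1
      obtain ⟨z, hz⟩ := h1
      apply f1.1
      rw [← hz, ← idem_apply hd.idem z, hz, hπe']

end Cfsg.Agent.Lib.H18.ML
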