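import Mathlib
import Cfsg.Agent.Lib.H18.ML11

set_option autoImplicit false
set_option linter.unusedSectionVars false
set_option linter.unusedSimpArgs false
set_option linter.unusedVariables false

/-! McLaughlin's theorem (helper18), part 12: a maximal `Sp`-block is closed (unique centres and
axes). -/

namespace Cfsg.Agent.Lib.H18.ML

open Module

variable {p : ℕ} [Fact p.Prime] {V : Type*} [AddCommGroup V] [Module (ZMod p) V] [Finite V]
variable {H : Subgroup (V ≃ₗ[ZMod p] V)} {π : V →ₗ[ZMod p] V}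
  {Ω : V →ₗ[ZMod p] V →ₗ[ZMod p] ZMod p}

theorem SpBlock.no_diag (hs : SpBlock H π Ω) (hNP : NP H) (ha : AOne H) (hb1 : BOne H)
    (hp : (2 : ZMod p) ≠ 0)
    (hmax : ∀ (π' : V →ₗ[ZMod p] V) (Ω' : V →ₗ[ZMod p] V →ₗ[ZMod p] ZMod p), SpBlock H π' Ω' →
      finrank (ZMod p) (LinearMap.range π') ≤ finrank (ZMod p) (LinearMap.range π))
    {u : V} {χ : Dual (ZMod p) V} (hf : IsFlag H u χ) (hπu : π u ≠ 0) : u - π u = 0 := by
  by_contra hu'
  have hd := hs.data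
  obtain ⟨c, hc, hc0⟩ := hs.claim1 ha hb1 hf
  have hc0' := hc0 hπu
  have f1 := hs.diag ha hb1 hp hf hπu hu'
  have hπe' : π (u - π u) = 0 := by rw [map_sub, idem_apply hd.idem, sub_self]
  have hχ'π : (χ - χ ∘ₗ π) ∘ₗ π = 0 := sub_comp_idem hd.idem χ
  obtain ⟨u₂, χ₂, hf₂, hχ'u₂, hχ₂e'⟩ := exists_opp hNP f1
  have hπe₂' : π (u₂ - π u₂) = 0 := by rw [map_sub, idem_apply hd.idem, sub_self]
  have hχ₂'π : (χ₂ - χ₂ ∘ₗ π) ∘ₗ π = 0 := sub_comp_idem hd.idem χ₂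
  have h3 : (χ - χ ∘ₗ π) (u₂ - π u₂) ≠ 0 := by
    rw [map_sub, apply_of_comp_zero hχ'π, sub_zero]
    exact hχ'u₂
  have h4 : (χ₂ - χ₂ ∘ₗ π) (u - π u) ≠ 0 := by
    rw [LinearMap.sub_apply, LinearMap.comp_apply, hπe', map_zero, sub_zero]
    exact hχ₂e'
  have he₂'0 : u₂ - π u₂ ≠ 0 := by
    intro h0
    rw [h0, map_zero] at h3
    exact h3 rfl
  have f2 : IsFlag H (u₂ - π u₂) (χ₂ - χ₂ ∘ₗ π) := by
    by_cases hπu₂ : π u₂ = 0
    · obtain ⟨c₂, hc₂, -⟩ := hs.claim1 ha hb1 hf₂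
      rw [hπu₂, map_zero, smul_zero] at hc₂
      rw [hπu₂, sub_zero, hc₂, sub_zero]
      exact hf₂
    · exact hs.diag ha hb1 hp hf₂ hπu₂ he₂'0
  have fd : IsFlag H (π u + (u - π u)) (c • Ω (π u) + (χ - χ ∘ₗ π)) := by
    rw [← hc]
    have e1 : π u + (u - π u) = u := by abel
    have e2 : χ ∘ₗ π + (χ - χ ∘ₗ π) = χ := by abel
    rw [e1, e2]
    exact hf
  obtain ⟨π₁, Ω₁, hs₁, hlt⟩ := hs.extend f1 f2 h3 h4 hπe' hπe₂' hχ'π hχ₂'π
    (idem_apply hd.idem u) hπu hc0' fd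
  have h5 := Submodule.finrank_lt_finrank_of_lt hlt
  have h6 := hmax π₁ Ω₁ hs₁
  omega

/-- a maximal `Sp`-block is closed -/
theorem SpBlock.closed_of_max (hs : SpBlock H π Ω) (hNP : NP H) (ha : AOne H) (hb1 : BOne H)
    (hp : (2 : ZMod p) ≠ 0)
    (hmax : ∀ (π' : V →ₗ[ZMod p] V) (Ω' : V →ₗ[ZMod p] V →ₗ[ZMod p] ZMod p), SpBlock H π' Ω' →
      finrank (ZMod p) (LinearMap.range π') ≤ finrank (ZMod p) (LinearMap.range π)) :
    Closed H π := by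
  have hd := hs.data
  intro u χ hf
  by_cases hπu : π u = 0
  · right
    refine ⟨hπu, ?_⟩
    obtain ⟨c, hc, -⟩ := hs.claim1 ha hb1 hf
    rw [hπu, map_zero, smul_zero] at hc
    exact hc
  · left
    have h1 := hs.no_diag hNP ha hb1 hp hmax hf hπu
    have hπu' : π u = u := by
      rw [sub_eq_zero] at h1
      exact h1.symm
    refine ⟨hπu', ?_⟩
    obtain ⟨c, hc⟩ := hs.claim2' ha hf hπu'
    rw [hc, LinearMap.smul_comp, hd.comp_eq]

end Cfsg.Agent.Lib.H18.ML
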