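import Mathlib
import Cfsg.Agent.Lib.H18.ML12

set_option autoImplicit false
set_option linter.unusedSectionVars false
set_option linter.unusedSimpArgs false
set_option linter.unusedVariables false

/-! McLaughlin's theorem (helper18), part 13: existence of a good (closed) block. -/

namespace Cfsg.Agent.Lib.H18.ML

open Module

variable {p : ℕ} [Fact p.Prime] {V : Type*} [AddCommGroup V] [Module (ZMod p) V]

/-- a closed block of `H`, of `SL` type (dimension at least three) or of `Sp` type -/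
structure Good (H : Subgroup (V ≃ₗ[ZMod p] V)) (π : V →ₗ[ZMod p] V) : Prop where
  idem : π ∘ₗ π = π
  closed : Closed H π
  ne : ∃ x, π x = x ∧ x ≠ 0
  centre : ∀ x, π x = x → x ≠ 0 → ∃ χ : Dual (ZMod p) V, IsFlag H x χ ∧ χ ∘ₗ π = χ
  sep : ∀ y, π y = y → y ≠ 0 → ∃ (u : V) (χ : Dual (ZMod p) V),
    IsFlag H u χ ∧ π u = u ∧ χ ∘ₗ π = χ ∧ χ y ≠ 0
  type : (SLBlock H π ∧ 3 ≤ finrank (ZMod p) (LinearMap.range π)) ∨
    (∃ Ω : V →ₗ[ZMod p] V →ₗ[ZMod p] ZMod p, SpBlock H π Ω ∧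
      ∀ u χ, IsFlag H u χ → π u = u → ∃ c : ZMod p, χ = c • Ω u)

variable [Finite V]

instance finiteEnd : Finite (V →ₗ[ZMod p] V) :=
  Finite.of_injective (fun f : V →ₗ[ZMod p] V => (f : V → V)) DFunLike.coe_injective

instance finiteAut : Finite (V ≃ₗ[ZMod p] V) :=
  Finite.of_injective (fun f : V ≃ₗ[ZMod p] V => (f : V → V)) DFunLike.coe_injective

variable {H : Subgroup (V ≃ₗ[ZMod p] V)}

theorem good_of_sl {π : V →ₗ[ZMod p] V} (hb : SLBlock H π)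
    (h3 : 3 ≤ finrank (ZMod p) (LinearMap.range π)) (hc : Closed H π) : Good H π := by
  have hidem := hb.1
  refine ⟨hidem, hc, exists_block_vec (by omega) hidem, ?_, ?_, Or.inl ⟨hb, h3⟩⟩
  · intro x hx hx0
    obtain ⟨y, hyU, -, hy⟩ := exists_mem_ker_of_three_le h3 (0 : Dual (ZMod p) V) x
    have hπy : π y = y := by
      obtain ⟨y₀, rfl⟩ := hyU
      exact idem_apply hidem y₀
    obtain ⟨f, hfx, hfy⟩ := exists_dual_sep hy
    refine ⟨f ∘ₗ π, ?_, comp_idem hidem f⟩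
    apply hb.flag hx0 ?_ hx (comp_idem hidem f)
    · rw [LinearMap.comp_apply, hx, hfx]
    · intro h0
      have := congrArg (fun g : Dual (ZMod p) V => g y) h0
      simp only [LinearMap.comp_apply, hπy, hfy, LinearMap.zero_apply] at this
      exact one_ne_zero this
  · intro y hy hy0
    obtain ⟨f₀, hf₀⟩ := exists_dual_ne_zero' (F := ZMod p) hy0
    have hχy : (f₀ ∘ₗ π) y = 1 := by rw [LinearMap.comp_apply, hy, hf₀]
    have h2 : 2 ≤ finrank (ZMod p) (LinearMap.range π) := by omega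
    obtain ⟨u, huU, hu0, huχ⟩ := exists_mem_ker_of_two_le h2 (f₀ ∘ₗ π)
    have hπu : π u = u := by
      obtain ⟨u₀, rfl⟩ := huU
      exact idem_apply hidem u₀
    have hχ0 : f₀ ∘ₗ π ≠ 0 := by
      intro h0
      rw [h0] at hχy
      simp at hχy
    refine ⟨u, f₀ ∘ₗ π, hb.flag hu0 hχ0 hπu (comp_idem hidem f₀) huχ, hπu, comp_idem hidem f₀, ?_⟩
    rw [hχy]
    exact one_ne_zero

theorem good_of_sp {π : V →ₗ[ZMod p] V} {Ω : V →ₗ[ZMod p] V →ₗ[ZMod p] ZMod p}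
    (hs : SpBlock H π Ω) (ha : AOne H) (h1 : 1 ≤ finrank (ZMod p) (LinearMap.range π))
    (hc : Closed H π) : Good H π := by
  have hd := hs.data
  refine ⟨hd.idem, hc, exists_block_vec h1 hd.idem, ?_, ?_, Or.inr ⟨Ω, hs, ?_⟩⟩
  · intro x hx hx0
    exact ⟨Ω x, hs.flag hx hx0, hd.comp_eq x⟩
  · intro y hy hy0
    obtain ⟨z₀, hz₀⟩ : ∃ z₀, Ω y z₀ ≠ 0 := by
      by_contra h0
      push_neg at h0
      exact hd.ne_zero hy hy0 (LinearMap.ext h0)
    have hπz : π (π z₀) = π z₀ := idem_apply hd.idem z₀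
    have hyz : Ω y (π z₀) ≠ 0 := by rw [hd.rad]; exact hz₀
    have hz0 : π z₀ ≠ 0 := by
      intro h0
      rw [h0, map_zero] at hyz
      exact hyz rfl
    refine ⟨π z₀, Ω (π z₀), hs.flag hπz hz0, hπz, hd.comp_eq _, ?_⟩
    rw [hd.skew]
    exact neg_ne_zero.mpr hyz
  · intro u χ hf hπu
    exact hs.claim2' ha hf hπu

/-- if `H` has a flag then it has a good block -/
theorem exists_good (hG : Gen H) (hNP : NP H) (hp : (2 : ZMod p) ≠ 0)
    (hne : ∃ (v : V) (φ : Dual (ZMod p) V), IsFlag H v φ) : ∃ π, Good H π := by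
  classical
  by_cases hex : ∃ (v : V) (φ₁ φ₂ : Dual (ZMod p) V), IsFlag H v φ₁ ∧ IsFlag H v φ₂ ∧
      φ₂ ∉ Submodule.span (ZMod p) {φ₁}
  · obtain ⟨π₀, hb₀, h3₀⟩ := exists_slBlock_three hNP hex
    let S : Set (V →ₗ[ZMod p] V) := {π | SLBlock H π}
    obtain ⟨π, hπS, hmax⟩ := Set.exists_max_image S
      (fun π => finrank (ZMod p) (LinearMap.range π)) (Set.toFinite S) ⟨π₀, hb₀⟩
    have h3 : 3 ≤ finrank (ZMod p) (LinearMap.range π) := h3₀.trans (hmax π₀ hb₀)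
    exact ⟨π, good_of_sl hπS h3 (SLBlock.closed_of_max hπS h3 (fun π' h' => hmax π' h') hG hNP)⟩
  · have ha : AOne H := by
      intro v φ ψ h1 h2
      by_contra h3
      exact hex ⟨v, φ, ψ, h1, h2, h3⟩
    have hb1 := bOne_of_aOne hNP ha
    obtain ⟨v, φ, hf⟩ := hne
    obtain ⟨w, ψ, hf', h3, h4⟩ := exists_opp hNP hf
    have hs₀ := spBlock_piE hf hf' h3 h4 1 one_ne_zero
    have h2₀ := two_le_finrank_piE (φ := φ) (ψ := ψ) hf.1 hf.2.2.1 hf'.2.2.1 h3 h4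
    let S : Set (V →ₗ[ZMod p] V) := {π | ∃ Ω, SpBlock H π Ω}
    obtain ⟨π, ⟨Ω, hs⟩, hmax⟩ := Set.exists_max_image S
      (fun π => finrank (ZMod p) (LinearMap.range π)) (Set.toFinite S) ⟨_, _, hs₀⟩
    have h2 : 2 ≤ finrank (ZMod p) (LinearMap.range π) := h2₀.trans (hmax _ ⟨_, hs₀⟩)
    refine ⟨π, good_of_sp hs ha (by omega) ?_⟩
    exact hs.closed_of_max hNP ha hb1 hp (fun π' Ω' h' => hmax π' ⟨Ω', h'⟩)

end Cfsg.Agent.Lib.H18.ML
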