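import Mathlib
import Cfsg.Agent.Lib.H18.ML13

set_option autoImplicit false
set_option linter.unusedSectionVars false
set_option linter.unusedSimpArgs false
set_option linter.unusedVariables false

/-! McLaughlin's theorem (helper18), part 14: peeling off blocks. -/

namespace Cfsg.Agent.Lib.H18.ML

open Module

variable {p : ℕ} [Fact p.Prime] {V : Type*} [AddCommGroup V] [Module (ZMod p) V]

/-- the subgroup generated by the flags commuting with the block `π` -/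
def Hcomm (H : Subgroup (V ≃ₗ[ZMod p] V)) (π : V →ₗ[ZMod p] V) : Subgroup (V ≃ₗ[ZMod p] V) :=
  Subgroup.closure {g | ∃ (u : V) (χ : Dual (ZMod p) V),
    IsFlag H u χ ∧ π u = 0 ∧ χ ∘ₗ π = 0 ∧ g = tv χ u}

variable {H : Subgroup (V ≃ₗ[ZMod p] V)} {π : V →ₗ[ZMod p] V}

theorem Hcomm_le : Hcomm H π ≤ H := by
  rw [Hcomm, Subgroup.closure_le]
  rintro _ ⟨u, χ, hf, -, -, rfl⟩
  exact hf.tv_mem

theorem Hcomm_fix : ∀ h ∈ Hcomm H π, (∀ x, h (π x) = π x) ∧ (∀ x, π (h x) = π x) := by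
  intro h hh
  refine Subgroup.closure_induction (p := fun h _ => (∀ x, h (π x) = π x) ∧ (∀ x, π (h x) = π x))
    ?_ ?_ ?_ ?_ hh
  · rintro _ ⟨u, χ, hf, hu, hχ, rfl⟩
    refine ⟨fun x => ?_, fun x => ?_⟩
    · rw [tv_apply hf.2.2.1, apply_of_comp_zero hχ, zero_smul, add_zero]
    · rw [tv_apply hf.2.2.1, map_add, map_smul, hu, smul_zero, add_zero]
  · exact ⟨fun x => rfl, fun x => rfl⟩
  · rintro a b _ _ ⟨ha1, ha2⟩ ⟨hb1, hb2⟩
    refine ⟨fun x => ?_, fun x => ?_⟩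
    · rw [mul_apply', hb1, ha1]
    · rw [mul_apply', ha2, hb2]
  · rintro a _ ⟨ha1, ha2⟩
    refine ⟨fun x => ?_, fun x => ?_⟩
    · have := ha1 x
      conv_lhs => rw [← this]
      exact inv_apply_self' a _
    · have := ha2 (a⁻¹ x)
      rw [apply_inv_self'] at this
      exact this.symm

theorem flag_Hcomm_iff {u : V} {χ : Dual (ZMod p) V} :
    IsFlag (Hcomm H π) u χ ↔ IsFlag H u χ ∧ π u = 0 ∧ χ ∘ₗ π = 0 := by
  constructor
  · intro hf
    have hfH : IsFlag H u χ := ⟨hf.1, hf.2.1, hf.2.2.1, Hcomm_le hf.2.2.2⟩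
    obtain ⟨h1, h2⟩ := Hcomm_fix _ hf.2.2.2
    obtain ⟨x₀, hx₀⟩ : ∃ x₀, χ x₀ ≠ 0 := by
      by_contra h0
      push_neg at h0
      exact hf.2.1 (LinearMap.ext h0)
    refine ⟨hfH, ?_, ?_⟩
    · have := h2 x₀
      rw [tv_apply hf.2.2.1, map_add, map_smul, add_eq_left, smul_eq_zero] at this
      rcases this with h | h
      · exact absurd h hx₀
      · exact h
    · ext x
      have := h1 x
      rw [tv_apply hf.2.2.1, add_eq_left, smul_eq_zero] at this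
      rcases this with h | h
      · simpa using h
      · exact absurd h hf.1
  · rintro ⟨hf, hu, hχ⟩
    exact ⟨hf.1, hf.2.1, hf.2.2.1, Subgroup.subset_closure ⟨u, χ, hf, hu, hχ, rfl⟩⟩

theorem gen_Hcomm : Gen (Hcomm H π) := by
  intro g hg
  have : Hcomm H π ≤ Subgroup.closure (flagSet (Hcomm H π)) := by
    conv_lhs => rw [Hcomm]
    rw [Subgroup.closure_le]
    rintro _ ⟨u, χ, hf, hu, hχ, rfl⟩
    apply Subgroup.subset_closure
    exact ⟨u, χ, flag_Hcomm_iff.mpr ⟨hf, hu, hχ⟩, rfl⟩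
  exact this hg

theorem np_Hcomm (hG : Gen H) (hNP : NP H) (hc : Closed H π) : NP (Hcomm H π) := by
  intro Z hZ h hh hx hz
  let Z₁ : Submodule (ZMod p) V := Z ⊓ LinearMap.ker π
  have hinv : ∀ g ∈ H, ∀ z ∈ Z₁, g z ∈ Z₁ := by
    apply hG.invariant
    intro u χ hf z hz₁
    rcases hc u χ hf with ⟨h1, h2⟩ | ⟨h1, h2⟩
    · have : χ z = 0 := by
        rw [← apply_of_comp_eq h2, (LinearMap.mem_ker.mp hz₁.2), map_zero]
      rw [tv_apply hf.2.2.1, this, zero_smul, add_zero]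
      exact hz₁
    · have hm : tv χ u ∈ Hcomm H π := Subgroup.subset_closure ⟨u, χ, hf, h1, h2, rfl⟩
      refine ⟨hZ _ hm z hz₁.1, ?_⟩
      show π (tv χ u z) = 0
      rw [(Hcomm_fix _ hm).2, LinearMap.mem_ker.mp hz₁.2]
  apply hNP Z₁ hinv h (Hcomm_le hh)
  · intro x
    refine ⟨hx x, ?_⟩
    show π (h x - x) = 0
    rw [map_sub, (Hcomm_fix _ hh).2, sub_self]
  · intro z hz₁
    exact hz z hz₁.1

variable [Finite V]

theorem card_Hcomm_lt (hgood : Good H π) : Nat.card (Hcomm H π) < Nat.card H := by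
  obtain ⟨x, hx, hx0⟩ := hgood.ne
  obtain ⟨χ, hf, hχ⟩ := hgood.centre x hx hx0
  have hnot : tv χ x ∉ Hcomm H π := by
    intro hm
    have hf' : IsFlag (Hcomm H π) x χ := ⟨hf.1, hf.2.1, hf.2.2.1, hm⟩
    have := (flag_Hcomm_iff.mp hf').2.1
    rw [hx] at this
    exact hx0 this
  have hlt : Hcomm H π < H := by
    refine lt_of_le_of_ne Hcomm_le ?_
    intro heq
    apply hnot
    rw [heq]
    exact hf.tv_mem
  have hlt' : ((Hcomm H π : Subgroup (V ≃ₗ[ZMod p] V)) : Set (V ≃ₗ[ZMod p] V)) ⊂ (H : Set _) := by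
    exact_mod_cast hlt
  have := Set.ncard_lt_ncard hlt' (Set.toFinite _)
  rw [← Nat.card_coe_set_eq, ← Nat.card_coe_set_eq] at this
  exact this

/-- the list of blocks -/
def Blocks (H : Subgroup (V ≃ₗ[ZMod p] V)) (L : List (V →ₗ[ZMod p] V)) : Prop :=
  (∀ π ∈ L, Good H π) ∧ L.Pairwise (fun π π' => π ∘ₗ π' = 0 ∧ π' ∘ₗ π = 0) ∧
    ∀ u χ, IsFlag H u χ → ∃ π ∈ L, π u = u ∧ χ ∘ₗ π = χ

theorem good_lift {π₁ π : V →ₗ[ZMod p] V} (hg₁ : Good H π₁) (hg : Good (Hcomm H π₁) π) :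
    Good H π ∧ π₁ ∘ₗ π = 0 ∧ π ∘ₗ π₁ = 0 := by
  have hfl : ∀ u χ, IsFlag (Hcomm H π₁) u χ → IsFlag H u χ ∧ π₁ u = 0 ∧ χ ∘ₗ π₁ = 0 :=
    fun u χ h => flag_Hcomm_iff.mp h
  have X1 : π₁ ∘ₗ π = 0 := by
    ext x
    rw [LinearMap.comp_apply, LinearMap.zero_apply]
    by_cases hy0 : π x = 0
    · rw [hy0, map_zero]
    · obtain ⟨χ, hf, -⟩ := hg.centre (π x) (idem_apply hg.idem x) hy0
      exact (hfl _ _ hf).2.1
  have X2 : π ∘ₗ π₁ = 0 := by
    ext x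
    rw [LinearMap.comp_apply, LinearMap.zero_apply]
    by_contra hy0
    obtain ⟨u, χ, hf, hu, hχ, hne⟩ := hg.sep (π (π₁ x)) (idem_apply hg.idem _) hy0
    apply hne
    rw [apply_of_comp_eq hχ]
    exact apply_of_comp_zero (hfl _ _ hf).2.2 x
  have X1' : ∀ x, π₁ (π x) = 0 := fun x => by
    have := congrArg (fun f : V →ₗ[ZMod p] V => f x) X1
    simpa using this
  have X2' : ∀ x, π (π₁ x) = 0 := fun x => by
    have := congrArg (fun f : V →ₗ[ZMod p] V => f x) X2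
    simpa using this
  refine ⟨⟨hg.idem, ?_, hg.ne, ?_, ?_, ?_⟩, X1, X2⟩
  · intro u χ hf
    rcases hg₁.closed u χ hf with ⟨h1, h2⟩ | ⟨h1, h2⟩
    · right
      refine ⟨by rw [← h1, X2'], ?_⟩
      rw [← h2, LinearMap.comp_assoc, X1, LinearMap.comp_zero]
    · exact hg.closed u χ (flag_Hcomm_iff.mpr ⟨hf, h1, h2⟩)
  · intro x hx hx0
    obtain ⟨χ, hf, hχ⟩ := hg.centre x hx hx0
    exact ⟨χ, (hfl _ _ hf).1, hχ⟩
  · intro y hy hy0
    obtain ⟨u, χ, hf, hu, hχ, hne⟩ := hg.sep y hy hy0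
    exact ⟨u, χ, (hfl _ _ hf).1, hu, hχ, hne⟩
  · rcases hg.type with ⟨hb, h3⟩ | ⟨Ω, hs, hall⟩
    · left
      exact ⟨⟨hb.1, fun u χ a b c d e => Hcomm_le (hb.2 u χ a b c d e)⟩, h3⟩
    · right
      refine ⟨Ω, ⟨hs.data, fun x a b => Hcomm_le (hs.mem x a b)⟩, ?_⟩
      intro u χ hf hu
      rcases hg₁.closed u χ hf with ⟨h1, h2⟩ | ⟨h1, h2⟩
      · exfalso
        apply hf.1
        rw [← hu, ← h1, X2']
      · exact hall u χ (flag_Hcomm_iff.mpr ⟨hf, h1, h2⟩) hu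

theorem exists_blocks_aux (hp : (2 : ZMod p) ≠ 0) : ∀ (n : ℕ) (H : Subgroup (V ≃ₗ[ZMod p] V)),
    Nat.card H = n → Gen H → NP H → ∃ L, Blocks H L := by
  intro n
  induction n using Nat.strong_induction_on with
  | _ n ih =>
    intro H hn hG hNP
    by_cases hne : ∃ (v : V) (φ : Dual (ZMod p) V), IsFlag H v φ
    · obtain ⟨π₁, hg₁⟩ := exists_good hG hNP hp hne
      have hlt := card_Hcomm_lt hg₁
      obtain ⟨L', hL1, hL2, hL3⟩ := ih (Nat.card (Hcomm H π₁)) (by rw [← hn]; exact hlt)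
        (Hcomm H π₁) rfl gen_Hcomm (np_Hcomm hG hNP hg₁.closed)
      refine ⟨π₁ :: L', ?_, ?_, ?_⟩
      · intro π hπ
        rcases List.mem_cons.mp hπ with rfl | hπ
        · exact hg₁
        · exact (good_lift hg₁ (hL1 π hπ)).1
      · rw [List.pairwise_cons]
        refine ⟨?_, hL2⟩
        intro π hπ
        exact (good_lift hg₁ (hL1 π hπ)).2
      · intro u χ hf
        rcases hg₁.closed u χ hf with ⟨h1, h2⟩ | ⟨h1, h2⟩
        · exact ⟨π₁, List.mem_cons_self, h1, h2⟩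
        · obtain ⟨π, hπ, h3⟩ := hL3 u χ (flag_Hcomm_iff.mpr ⟨hf, h1, h2⟩)
          exact ⟨π, List.mem_cons_of_mem _ hπ, h3⟩
    · refine ⟨[], ?_, List.Pairwise.nil, ?_⟩
      · intro π hπ
        simp at hπ
      · intro u χ hf
        exact absurd ⟨u, χ, hf⟩ hne

theorem exists_blocks (hp : (2 : ZMod p) ≠ 0) (hG : Gen H) (hNP : NP H) : ∃ L, Blocks H L :=
  exists_blocks_aux hp _ H rfl hG hNP

end Cfsg.Agent.Lib.H18.ML
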