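import Mathlib
import Cfsg.Prelude.Def_Solvable
import Cfsg.Agent.Lib.H18.ML14

set_option autoImplicit false
set_option linter.unusedSectionVars false
set_option linter.unusedSimpArgs false
set_option linter.unusedVariables false

/-! McLaughlin's theorem (helper18), part 15: translating the hypotheses. -/

namespace Cfsg.Agent.Lib.H18.ML

open Module

variable {p : ℕ} [Fact p.Prime] {V : Type*} [AddCommGroup V] [Module (ZMod p) V]

theorem two_ne_zero_of_odd (hp : Odd p) : (2 : ZMod p) ≠ 0 := by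
  intro h
  have h1 : ((2 : ℕ) : ZMod p) = 0 := by exact_mod_cast h
  rw [ZMod.natCast_eq_zero_iff] at h1
  have hp' := (Fact.out : p.Prime)
  have : p = 2 := (Nat.prime_dvd_prime_iff_eq hp' Nat.prime_two).mp h1
  subst this
  exact absurd hp (by decide)

theorem p_smul_eq_zero (v : V) : (p : ℕ) • v = 0 := by
  have : ((p : ℕ) : ZMod p) • v = 0 := by rw [ZMod.natCast_self, zero_smul]
  rwa [Nat.cast_smul_eq_nsmul] at this

/-- the normal `p`-subgroup attached to an invariant subspace -/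
def NZ (H : Subgroup (V ≃ₗ[ZMod p] V)) (Z : Submodule (ZMod p) V) : Subgroup H where
  carrier := {h | (∀ x, h.1 x - x ∈ Z) ∧ (∀ z ∈ Z, h.1 z = z)}
  one_mem' := ⟨fun x => by simp [one_apply'], fun z _ => rfl⟩
  mul_mem' := by
    rintro a b ⟨ha1, ha2⟩ ⟨hb1, hb2⟩
    refine ⟨fun x => ?_, fun z hz => ?_⟩
    · have : (a * b).1 x - x = (a.1 (b.1 x) - b.1 x) + (b.1 x - x) := by
        show a.1 (b.1 x) - x = _
        abel
      rw [this]
      exact Z.add_mem (ha1 _) (hb1 _)
    · show a.1 (b.1 z) = z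
      rw [hb2 z hz, ha2 z hz]
  inv_mem' := by
    rintro a ⟨ha1, ha2⟩
    refine ⟨fun x => ?_, fun z hz => ?_⟩
    · have h1 := ha1 (a.1⁻¹ x)
      rw [apply_inv_self'] at h1
      have : (a⁻¹).1 x - x = -(x - a.1⁻¹ x) := by
        show a.1⁻¹ x - x = _
        abel
      rw [this]
      exact Z.neg_mem h1
    · show a.1⁻¹ z = z
      have := ha2 z hz
      conv_lhs => rw [← this]
      exact inv_apply_self' _ _

theorem np_of_pCore {H : Subgroup (V ≃ₗ[ZMod p] V)} (hOp : Cfsg.pCore p ↥H = ⊥) : NP H := by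
  intro Z hZ h hh hx hz
  have hnormal : (NZ H Z).Normal := by
    constructor
    rintro n ⟨hn1, hn2⟩ g
    refine ⟨fun x => ?_, fun z hz' => ?_⟩
    · have e : (g * n * g⁻¹).1 x - x = g.1 (n.1 (g.1⁻¹ x) - g.1⁻¹ x) := by
        show g.1 (n.1 (g.1⁻¹ x)) - x = _
        rw [map_sub, apply_inv_self']
      rw [e]
      exact hZ g.1 g.2 _ (hn1 _)
    · show g.1 (n.1 (g.1⁻¹ z)) = z
      have h1 : g.1⁻¹ z ∈ Z := hZ _ (H.inv_mem g.2) z hz'
      rw [hn2 _ h1, apply_inv_self']
  have hpg : IsPGroup p (NZ H Z) := by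
    rintro ⟨n, hn1, hn2⟩
    refine ⟨1, ?_⟩
    rw [pow_one]
    apply Subtype.ext
    apply Subtype.ext
    show (n ^ p).1 = 1
    have hpow : ∀ k : ℕ, ∀ x, (n.1 ^ k) x = x + k • (n.1 x - x) := by
      intro k
      induction k with
      | zero => intro x; simp [one_apply']
      | succ k ih =>
        intro x
        rw [pow_succ', mul_apply', ih, map_add, map_nsmul, hn2 _ (hn1 x), add_smul, one_smul]
        abel
    ext x
    show (n.1 ^ p) x = x
    rw [hpow, p_smul_eq_zero, add_zero]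
  have hle : NZ H Z ≤ Cfsg.pCore p ↥H := le_sSup ⟨hnormal, hpg⟩
  rw [hOp] at hle
  have hmem : (⟨h, hh⟩ : H) ∈ NZ H Z := ⟨hx, hz⟩
  have := (Subgroup.mem_bot).mp (hle hmem)
  exact congrArg Subtype.val this

variable [Finite V]

/-- an element of order `p` fixing a hyperplane pointwise is a transvection -/
theorem exists_tv_of_hyp (t : V ≃ₗ[ZMod p] V) (ho : orderOf t = p)
    (hk : finrank (ZMod p) (LinearMap.ker ((t : V →ₗ[ZMod p] V) - LinearMap.id)) + 1 =
      finrank (ZMod p) V) :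
    ∃ (v : V) (φ : Dual (ZMod p) V), v ≠ 0 ∧ φ ≠ 0 ∧ φ v = 0 ∧ t = tv φ v := by
  set N : V →ₗ[ZMod p] V := (t : V →ₗ[ZMod p] V) - LinearMap.id with hN
  have hNx : ∀ x, t x = x + N x := by
    intro x
    rw [hN]
    simp
  have hrk := LinearMap.finrank_range_add_finrank_ker N
  have h1 : finrank (ZMod p) (LinearMap.range N) = 1 := by omega
  obtain ⟨⟨v, hvR⟩, hv0, hv⟩ := finrank_eq_one_iff'.mp h1
  have hv0' : v ≠ 0 := by
    intro h0
    apply hv0
    exact Subtype.ext h0
  obtain ⟨ψ, hψ⟩ := exists_dual_ne_zero' (F := ZMod p) hv0'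
  obtain ⟨φ, hφ⟩ : ∃ φ : Dual (ZMod p) V, φ = ψ ∘ₗ N := ⟨_, rfl⟩
  have hNφ : ∀ x, N x = φ x • v := by
    intro x
    obtain ⟨c, hc⟩ := hv ⟨N x, ⟨x, rfl⟩⟩
    have hc' : c • v = N x := congrArg Subtype.val hc
    rw [hφ, LinearMap.comp_apply, ← hc', map_smul, hψ, smul_eq_mul, mul_one]
  have htx : ∀ x, t x = x + φ x • v := by
    intro x
    rw [hNx, hNφ]
  have hφ0 : φ ≠ 0 := by
    intro h0
    obtain ⟨x, hx⟩ := hvR
    have := hNφ x
    rw [h0, LinearMap.zero_apply, zero_smul, hx] at this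
    exact hv0' this
  have hφv : φ v = 0 := by
    have hpow : ∀ k : ℕ, (t ^ k) v = (1 + φ v) ^ k • v := by
      intro k
      induction k with
      | zero => simp [one_apply']
      | succ k ih =>
        rw [pow_succ', mul_apply', ih, map_smul, htx v, pow_succ, mul_smul]
        congr 1
        rw [add_smul, one_smul]
    have h2 : (t ^ p) v = v := by
      have : t ^ p = 1 := by
        have := pow_orderOf_eq_one t
        rwa [ho] at this
      rw [this, one_apply']
    rw [hpow, ZMod.pow_card] at h2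
    have h3 : (φ v) • v = 0 := by
      rw [add_smul, one_smul, add_eq_left] at h2
      exact h2
    rcases smul_eq_zero.mp h3 with h | h
    · exact h
    · exact absurd h hv0'
  refine ⟨v, φ, hv0', hφ0, hφv, ?_⟩
  ext x
  rw [htx, tv_apply hφv]

theorem gen_of_closure {H : Subgroup (V ≃ₗ[ZMod p] V)} {T : Set (V ≃ₗ[ZMod p] V)}
    (hHT : H = Subgroup.closure T)
    (hT : ∀ t ∈ T, orderOf t = p ∧
      finrank (ZMod p) ↥(LinearMap.ker ((t : V →ₗ[ZMod p] V) - LinearMap.id)) + 1 =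
        finrank (ZMod p) V) : Gen H := by
  intro g hg
  have hTH : T ⊆ H := by
    rw [hHT]
    exact Subgroup.subset_closure
  have : Subgroup.closure T ≤ Subgroup.closure (flagSet H) := by
    rw [Subgroup.closure_le]
    intro t ht
    obtain ⟨v, φ, hv, hφ, hφv, rfl⟩ := exists_tv_of_hyp t (hT t ht).1 (hT t ht).2
    exact Subgroup.subset_closure ⟨v, φ, ⟨hv, hφ, hφv, hTH ht⟩, rfl⟩
  apply this
  rw [← hHT]
  exact hg

end Cfsg.Agent.Lib.H18.ML
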