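import Mathlib
import Cfsg.Agent.Lib.H2.SLGen
import Cfsg.Agent.Lib.H18.ML1

set_option autoImplicit false
set_option linter.unusedSectionVars false
set_option linter.unusedSimpArgs false
set_option linter.unusedVariables false

/-! McLaughlin's theorem (helper18), part 16: `SL(W)` is generated by transvections. -/

namespace Cfsg.Agent.Lib.H18.ML

open Module

theorem sl_mem_closure {F : Type*} [Field F] {W : Type*} [AddCommGroup W] [Module F W]
    [FiniteDimensional F W] (h2 : 2 ≤ finrank F W) (f : W ≃ₗ[F] W)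
    (hf : LinearMap.det (f : W →ₗ[F] W) = 1) :
    f ∈ Subgroup.closure {g : W ≃ₗ[F] W | ∃ (u : W) (χ : Dual F W), χ u = 0 ∧ g = tv χ u} := by
  classical
  set C := Subgroup.closure {g : W ≃ₗ[F] W | ∃ (u : W) (χ : Dual F W), χ u = 0 ∧ g = tv χ u}
    with hC
  let b : Basis (Fin (finrank F W)) F W := Module.finBasis F W
  haveI : Nontrivial (Fin (finrank F W)) := Fin.nontrivial_iff_two_le.mpr h2
  have key : ∀ A : Matrix.SpecialLinearGroup (Fin (finrank F W)) F,
      ∃ g ∈ C, LinearMap.toMatrix b b (g : W →ₗ[F] W) = A.1 := by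
    intro A
    refine Cfsg.Agent.Lib.H2.SL_transvection_induction
      (P := fun A => ∃ g ∈ C, LinearMap.toMatrix b b (g : W →ₗ[F] W) = A.1) ?_ ?_ A
    · intro i j hij c
      have hz : (c • b.coord j) (b i) = 0 := by
        simp [Basis.coord_apply, Finsupp.single_apply, hij]
      refine ⟨tv (c • b.coord j) (b i), Subgroup.subset_closure ⟨_, _, hz, rfl⟩, ?_⟩
      ext k l
      rw [LinearMap.toMatrix_apply]
      show b.repr ((tv (c • b.coord j) (b i)) (b l)) k = _
      rw [tv_apply hz, Matrix.SpecialLinearGroup.transvection_coe]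
      simp only [LinearMap.smul_apply, Basis.coord_apply, Basis.repr_self, smul_eq_mul, map_add,
        map_smul, Finsupp.coe_add, Finsupp.coe_smul, Pi.add_apply, Pi.smul_apply,
        Matrix.add_apply, Matrix.one_apply, Matrix.single_apply, Finsupp.single_apply]
      by_cases h1 : l = k <;> by_cases h2 : j = l <;> by_cases h3 : i = k <;>
        simp [h1, h2, h3, eq_comm] <;> (try exact fun h => h1 h.symm)
    · rintro A B ⟨g, hg, hgA⟩ ⟨g', hg', hg'B⟩
      refine ⟨g * g', C.mul_mem hg hg', ?_⟩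
      have : ((g * g' : W ≃ₗ[F] W) : W →ₗ[F] W) = (g : W →ₗ[F] W) ∘ₗ (g' : W →ₗ[F] W) := rfl
      rw [this, LinearMap.toMatrix_comp b b b, hgA, hg'B]
      rfl
  have hdet : (LinearMap.toMatrix b b (f : W →ₗ[F] W)).det = 1 := by
    rw [LinearMap.det_toMatrix]; exact hf
  obtain ⟨g, hg, hgA⟩ := key ⟨_, hdet⟩
  have h1 : (g : W →ₗ[F] W) = (f : W →ₗ[F] W) := (LinearMap.toMatrix b b).injective hgA
  have h2 : g = f := LinearEquiv.toLinearMap_injective h1
  rw [← h2]
  exact hg

end Cfsg.Agent.Lib.H18.ML
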