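import Mathlib
import Cfsg.Agent.Lib.H18.ML9

set_option autoImplicit false
set_option linter.unusedSectionVars false
set_option linter.unusedSimpArgs false
set_option linter.unusedVariables false

/-! McLaughlin's theorem (helper18), part 17: the symplectic group is generated by its
transvections. -/

namespace Cfsg.Agent.Lib.H18.ML

open Module

variable {p : ℕ} [Fact p.Prime] {V : Type*} [AddCommGroup V] [Module (ZMod p) V]

/-- linear automorphisms fixing `ker π` pointwise and commuting with `π` -/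
def BlkGrp (π : V →ₗ[ZMod p] V) : Subgroup (V ≃ₗ[ZMod p] V) where
  carrier := {g | (∀ x, π x = 0 → g x = x) ∧ (∀ x, π (g x) = g (π x))}
  mul_mem' := by
    rintro a b ⟨ha1, ha2⟩ ⟨hb1, hb2⟩
    refine ⟨fun x hx => ?_, fun x => ?_⟩
    · rw [mul_apply', hb1 x hx, ha1 x hx]
    · rw [mul_apply', mul_apply', ha2, hb2]
  one_mem' := ⟨fun x _ => rfl, fun x => rfl⟩
  inv_mem' := by
    rintro a ⟨ha1, ha2⟩
    refine ⟨fun x hx => ?_, fun x => ?_⟩
    · have := ha1 x hx
      conv_lhs => rw [← this]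
      exact inv_apply_self' a x
    · apply a.injective
      rw [← ha2, apply_inv_self', apply_inv_self']

theorem mem_BlkGrp {π : V →ₗ[ZMod p] V} {g : V ≃ₗ[ZMod p] V} :
    g ∈ BlkGrp π ↔ (∀ x, π x = 0 → g x = x) ∧ (∀ x, π (g x) = g (π x)) := Iff.rfl

/-- the isometries of `Ω` in `BlkGrp π` -/
def SpGrp (π : V →ₗ[ZMod p] V) (Ω : V →ₗ[ZMod p] V →ₗ[ZMod p] ZMod p) :
    Subgroup (V ≃ₗ[ZMod p] V) where
  carrier := {g | g ∈ BlkGrp π ∧ ∀ x y, Ω (g x) (g y) = Ω x y}
  mul_mem' := by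
    rintro a b ⟨ha1, ha2⟩ ⟨hb1, hb2⟩
    refine ⟨(BlkGrp π).mul_mem ha1 hb1, fun x y => ?_⟩
    rw [mul_apply', mul_apply', ha2, hb2]
  one_mem' := ⟨(BlkGrp π).one_mem, fun x y => rfl⟩
  inv_mem' := by
    rintro a ⟨ha1, ha2⟩
    refine ⟨(BlkGrp π).inv_mem ha1, fun x y => ?_⟩
    rw [← ha2, apply_inv_self', apply_inv_self']

theorem mem_SpGrp {π : V →ₗ[ZMod p] V} {Ω : V →ₗ[ZMod p] V →ₗ[ZMod p] ZMod p}
    {g : V ≃ₗ[ZMod p] V} :
    g ∈ SpGrp π Ω ↔ g ∈ BlkGrp π ∧ ∀ x y, Ω (g x) (g y) = Ω x y := Iff.rfl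

/-- the subgroup generated by the symplectic transvections -/
def SpGen (π : V →ₗ[ZMod p] V) (Ω : V →ₗ[ZMod p] V →ₗ[ZMod p] ZMod p) :
    Subgroup (V ≃ₗ[ZMod p] V) :=
  Subgroup.closure {t | ∃ (x : V) (c : ZMod p), π x = x ∧ t = tv (c • Ω x) x}

variable {π : V →ₗ[ZMod p] V} {Ω : V →ₗ[ZMod p] V →ₗ[ZMod p] ZMod p}

theorem sp_tv_apply (hd : SpData π Ω) (x : V) (c : ZMod p) (y : V) :
    tv (c • Ω x) x y = y + (c * Ω x y) • x := by
  have hz : (c • Ω x) x = 0 := by
    rw [LinearMap.smul_apply, hd.alt, smul_zero]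
  rw [tv_apply hz, LinearMap.smul_apply, smul_eq_mul]

theorem tv_mem_SpGrp (hd : SpData π Ω) {x : V} (hx : π x = x) (c : ZMod p) :
    tv (c • Ω x) x ∈ SpGrp π Ω := by
  refine ⟨⟨fun y hy => ?_, fun y => ?_⟩, fun y z => ?_⟩
  · rw [sp_tv_apply hd, hd.apply_ker hy, mul_zero, zero_smul, add_zero]
  · rw [sp_tv_apply hd, sp_tv_apply hd, map_add, map_smul, hx, hd.rad]
  · rw [sp_tv_apply hd, sp_tv_apply hd]
    simp only [map_add, map_smul, LinearMap.add_apply, LinearMap.smul_apply, smul_eq_mul, hd.alt]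
    rw [hd.skew y x]
    ring

theorem SpGen_le_SpGrp (hd : SpData π Ω) : SpGen π Ω ≤ SpGrp π Ω := by
  rw [SpGen, Subgroup.closure_le]
  rintro _ ⟨x, c, hx, rfl⟩
  exact tv_mem_SpGrp hd hx c

theorem tv_mem_SpGen {x : V} (hx : π x = x) (c : ZMod p) : tv (c • Ω x) x ∈ SpGen π Ω :=
  Subgroup.subset_closure ⟨x, c, hx, rfl⟩

/-- moving `b` to `b'` while fixing `a`, one step -/
theorem SpData.move_step (hd : SpData π Ω) {a b b' : V} (hb : π b = b) (hb' : π b' = b')
    (h1 : Ω a b = 1) (h2 : Ω a b' = 1) (h3 : Ω b' b ≠ 0) :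
    ∃ t ∈ SpGen π Ω, t a = a ∧ t b = b' := by
  have hz : π (b' - b) = b' - b := by rw [map_sub, hb, hb']
  refine ⟨tv ((Ω b' b)⁻¹ • Ω (b' - b)) (b' - b), tv_mem_SpGen hz _, ?_, ?_⟩
  · rw [sp_tv_apply hd]
    have : Ω (b' - b) a = 0 := by
      rw [map_sub, LinearMap.sub_apply, hd.skew b' a, hd.skew b a, h1, h2, sub_self]
    rw [this, mul_zero, zero_smul, add_zero]
  · rw [sp_tv_apply hd]
    have : Ω (b' - b) b = Ω b' b := by
      rw [map_sub, LinearMap.sub_apply, hd.alt, sub_zero]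
    rw [this, inv_mul_cancel₀ h3, one_smul]
    abel

/-- moving `b` to `b'` while fixing `a` -/
theorem SpData.move (hd : SpData π Ω) {a b b' : V} (ha : π a = a) (hb : π b = b)
    (hb' : π b' = b') (h1 : Ω a b = 1) (h2 : Ω a b' = 1) :
    ∃ t ∈ SpGen π Ω, t a = a ∧ t b = b' := by
  by_cases h3 : Ω b' b = 0
  · have hb₂ : π (a + b) = a + b := by rw [map_add, ha, hb]
    have e1 : Ω a (a + b) = 1 := by rw [map_add, hd.alt, zero_add, h1]
    have e2 : Ω (a + b) b ≠ 0 := by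
      rw [map_add, LinearMap.add_apply, hd.alt, add_zero, h1]
      exact one_ne_zero
    have e3 : Ω b' (a + b) ≠ 0 := by
      rw [map_add, h3, add_zero, hd.skew, h2]
      exact neg_ne_zero.mpr one_ne_zero
    obtain ⟨t, ht, hta, htb⟩ := hd.move_step hb hb₂ h1 e1 e2
    obtain ⟨t', ht', hta', htb'⟩ := hd.move_step hb₂ hb' e1 h2 e3
    refine ⟨t' * t, (SpGen π Ω).mul_mem ht' ht, ?_, ?_⟩
    · rw [mul_apply', hta, hta']
    · rw [mul_apply', htb, htb']
  · exact hd.move_step hb hb' h1 h2 h3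

/-- the projection onto the orthogonal complement of the hyperbolic pair `a, b` in `range π` -/
def piPerp (π : V →ₗ[ZMod p] V) (Ω : V →ₗ[ZMod p] V →ₗ[ZMod p] ZMod p) (a b : V) :
    V →ₗ[ZMod p] V :=
  π - (Ω.flip b).smulRight a + (Ω.flip a).smulRight b

theorem piPerp_apply (a b z : V) : piPerp π Ω a b z = π z - Ω z b • a + Ω z a • b := by
  simp [piPerp, LinearMap.smulRight_apply, LinearMap.flip_apply]

/-- the form on the orthogonal complement of the hyperbolic pair -/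
def omPerp (π : V →ₗ[ZMod p] V) (Ω : V →ₗ[ZMod p] V →ₗ[ZMod p] ZMod p) (a b : V) :
    V →ₗ[ZMod p] V →ₗ[ZMod p] ZMod p :=
  Ω.compl₁₂ (piPerp π Ω a b) (piPerp π Ω a b)

theorem omPerp_apply (a b x y : V) :
    omPerp π Ω a b x y = Ω (piPerp π Ω a b x) (piPerp π Ω a b y) := by
  simp [omPerp, LinearMap.compl₁₂_apply]

section Perp
variable {a b : V}

theorem piPerp_left (hd : SpData π Ω) (ha : π a = a) (hab : Ω a b = 1) :
    piPerp π Ω a b a = 0 := by
  rw [piPerp_apply, ha, hab, hd.alt, one_smul, zero_smul, sub_self, add_zero]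

theorem piPerp_right (hd : SpData π Ω) (hb : π b = b) (hab : Ω a b = 1) :
    piPerp π Ω a b b = 0 := by
  rw [piPerp_apply, hb, hd.alt, hd.skew b a, hab, zero_smul, sub_zero, neg_one_smul,
    add_neg_cancel]

theorem pi_piPerp (hd : SpData π Ω) (ha : π a = a) (hb : π b = b) (z : V) :
    π (piPerp π Ω a b z) = piPerp π Ω a b z := by
  rw [piPerp_apply, map_add, map_sub, map_smul, map_smul, ha, hb, idem_apply hd.idem]

theorem om_piPerp_left (hd : SpData π Ω) (hab : Ω a b = 1) (z : V) :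
    Ω (piPerp π Ω a b z) a = 0 := by
  rw [piPerp_apply]
  simp only [map_add, map_sub, map_smul, LinearMap.add_apply, LinearMap.sub_apply,
    LinearMap.smul_apply, smul_eq_mul, hd.alt, hd.rad_left]
  rw [hd.skew b a, hab]
  ring

theorem om_piPerp_right (hd : SpData π Ω) (hab : Ω a b = 1) (z : V) :
    Ω (piPerp π Ω a b z) b = 0 := by
  rw [piPerp_apply]
  simp only [map_add, map_sub, map_smul, LinearMap.add_apply, LinearMap.sub_apply,
    LinearMap.smul_apply, smul_eq_mul, hd.alt, hd.rad_left, hab]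
  ring

theorem piPerp_idem (hd : SpData π Ω) (ha : π a = a) (hb : π b = b) (hab : Ω a b = 1) (z : V) :
    piPerp π Ω a b (piPerp π Ω a b z) = piPerp π Ω a b z := by
  conv_lhs => rw [piPerp_apply]
  rw [pi_piPerp hd ha hb, om_piPerp_left hd hab, om_piPerp_right hd hab, zero_smul, zero_smul,
    sub_zero, add_zero]

/-- for `x` in the complement, `Ω x` does not see the hyperbolic plane -/
theorem om_piPerp_apply (hd : SpData π Ω) (hab : Ω a b = 1) {x : V}
    (hx : piPerp π Ω a b x = x) (y : V) : Ω x (piPerp π Ω a b y) = Ω x y := by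
  have h1 : Ω x a = 0 := by rw [← hx]; exact om_piPerp_left hd hab x
  have h2 : Ω x b = 0 := by rw [← hx]; exact om_piPerp_right hd hab x
  rw [piPerp_apply]
  simp only [map_add, map_sub, map_smul, smul_eq_mul, h1, h2, hd.rad, mul_zero, sub_zero,
    add_zero]

theorem spData_perp (hd : SpData π Ω) (ha : π a = a) (hb : π b = b) (hab : Ω a b = 1) :
    SpData (piPerp π Ω a b) (omPerp π Ω a b) := by
  refine ⟨?_, ?_, ?_, ?_⟩
  · ext z
    exact piPerp_idem hd ha hb hab z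
  · intro x
    rw [omPerp_apply, hd.alt]
  · intro x y
    rw [omPerp_apply, omPerp_apply, piPerp_idem hd ha hb hab]
  · intro x hx h0
    have hπx : π x = x := by rw [← hx]; exact pi_piPerp hd ha hb x
    apply hd.nondeg x hπx
    intro y
    have := h0 y
    rw [omPerp_apply, hx, om_piPerp_apply hd hab hx] at this
    exact this

theorem omPerp_eq (hd : SpData π Ω) (hab : Ω a b = 1) {x : V}
    (hx : piPerp π Ω a b x = x) : omPerp π Ω a b x = Ω x := by
  ext y
  rw [omPerp_apply, hx, om_piPerp_apply hd hab hx]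

theorem SpGen_perp_le (hd : SpData π Ω) (ha : π a = a) (hb : π b = b) (hab : Ω a b = 1) :
    SpGen (piPerp π Ω a b) (omPerp π Ω a b) ≤ SpGen π Ω := by
  rw [SpGen, Subgroup.closure_le]
  rintro _ ⟨x, c, hx, rfl⟩
  rw [omPerp_eq hd hab hx]
  have hπx : π x = x := by rw [← hx]; exact pi_piPerp hd ha hb x
  exact tv_mem_SpGen hπx c

theorem mem_SpGrp_perp (hd : SpData π Ω) (ha : π a = a) (hb : π b = b) (hab : Ω a b = 1)
    {g : V ≃ₗ[ZMod p] V} (hg : g ∈ SpGrp π Ω) (hga : g a = a) (hgb : g b = b) :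
    g ∈ SpGrp (piPerp π Ω a b) (omPerp π Ω a b) := by
  obtain ⟨⟨hg1, hg2⟩, hg3⟩ := hg
  have hcomm : ∀ x, piPerp π Ω a b (g x) = g (piPerp π Ω a b x) := by
    intro x
    rw [piPerp_apply, piPerp_apply, hg2, map_add, map_sub, map_smul, map_smul, hga, hgb]
    have e1 : Ω (g x) b = Ω x b := by
      conv_lhs => rw [← hgb]
      exact hg3 x b
    have e2 : Ω (g x) a = Ω x a := by
      conv_lhs => rw [← hga]
      exact hg3 x a
    rw [e1, e2]
  refine ⟨⟨fun x hx => ?_, hcomm⟩, fun x y => ?_⟩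
  · rw [piPerp_apply] at hx
    have hπ : π x = Ω x b • a - Ω x a • b := by
      have e : π x = (π x - Ω x b • a + Ω x a • b) + (Ω x b • a - Ω x a • b) := by abel
      rw [e, hx, zero_add]
    have h1 : g (x - π x) = x - π x := by
      apply hg1
      rw [map_sub, idem_apply hd.idem, sub_self]
    have h2 : g (π x) = π x := by
      rw [hπ, map_sub, map_smul, map_smul, hga, hgb]
    have : x = (x - π x) + π x := by abel
    rw [this, map_add, h1, h2]
  · rw [omPerp_apply, omPerp_apply, hcomm, hcomm, hg3]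

end Perp

section Fin
variable [Finite V]

theorem range_piPerp_lt (hd : SpData π Ω) {a b : V} (ha : π a = a) (hb : π b = b)
    (hab : Ω a b = 1) (ha0 : a ≠ 0) :
    finrank (ZMod p) (LinearMap.range (piPerp π Ω a b)) < finrank (ZMod p) (LinearMap.range π) := by
  apply Submodule.finrank_lt_finrank_of_lt
  rw [lt_iff_le_and_ne]
  constructor
  · rintro _ ⟨z, rfl⟩
    exact ⟨piPerp π Ω a b z, pi_piPerp hd ha hb z⟩
  · intro heq
    have : a ∈ LinearMap.range (piPerp π Ω a b) := by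
      rw [heq]
      exact ⟨a, ha⟩
    obtain ⟨z, hz⟩ := this
    have h1 := piPerp_idem hd ha hb hab z
    rw [hz, piPerp_left hd ha hab] at h1
    exact ha0 h1.symm

theorem SpGrp_le_SpGen_aux : ∀ (n : ℕ) (π : V →ₗ[ZMod p] V)
    (Ω : V →ₗ[ZMod p] V →ₗ[ZMod p] ZMod p), SpData π Ω →
    finrank (ZMod p) (LinearMap.range π) ≤ n → SpGrp π Ω ≤ SpGen π Ω := by
  intro n
  induction n with
  | zero =>
    intro π Ω hd hn g hg
    have hπ : ∀ x, π x = 0 := by
      intro x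
      have h0 : finrank (ZMod p) (LinearMap.range π) = 0 := by omega
      have hbot : LinearMap.range π = ⊥ := Submodule.finrank_eq_zero.mp h0
      have : π x ∈ LinearMap.range π := LinearMap.mem_range_self π x
      rw [hbot] at this
      exact (Submodule.mem_bot _).mp this
    have : g = 1 := by
      ext x
      exact hg.1.1 x (hπ x)
    rw [this]
    exact Subgroup.one_mem _
  | succ n ih =>
    intro π Ω hd hn g hg
    by_cases hπ : ∀ x, π x = 0
    · have : g = 1 := by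
        ext x
        exact hg.1.1 x (hπ x)
      rw [this]
      exact Subgroup.one_mem _
    · push_neg at hπ
      obtain ⟨x₀, hx₀⟩ := hπ
      obtain ⟨a, ha⟩ : ∃ a, a = π x₀ := ⟨_, rfl⟩
      have haπ : π a = a := by rw [ha]; exact idem_apply hd.idem x₀
      have ha0 : a ≠ 0 := by rw [ha]; exact hx₀
      -- step 1
      have hgaπ : π (g a) = g a := by rw [hg.1.2, haπ]
      have hga0 : g a ≠ 0 := (LinearEquiv.map_ne_zero_iff g).mpr ha0
      obtain ⟨t₁, ht₁, ht₁a⟩ : ∃ t ∈ SpGen π Ω, t a = g a := by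
        refine hd.trans (fun z => ∃ t ∈ SpGen π Ω, t a = z) ?_ haπ ha0
          ⟨1, Subgroup.one_mem _, rfl⟩ (g a) hgaπ hga0
        rintro y ⟨t, ht, hty⟩ z hz κ
        refine ⟨tv (κ • Ω z) z * t, (SpGen π Ω).mul_mem (tv_mem_SpGen hz κ) ht, ?_⟩
        rw [mul_apply', hty, sp_tv_apply hd]
      obtain ⟨g₁, hg₁⟩ : ∃ g₁, g₁ = t₁⁻¹ * g := ⟨_, rfl⟩
      have hg₁S : g₁ ∈ SpGrp π Ω := by
        rw [hg₁]
        exact (SpGrp π Ω).mul_mem ((SpGrp π Ω).inv_mem (SpGen_le_SpGrp hd ht₁)) hg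
      have hg₁a : g₁ a = a := by
        rw [hg₁, mul_apply', ← ht₁a, inv_apply_self']
      -- step 2
      obtain ⟨b₀, hb₀⟩ : ∃ b₀, Ω a b₀ ≠ 0 := by
        by_contra hcon
        push_neg at hcon
        exact hd.ne_zero haπ ha0 (LinearMap.ext hcon)
      obtain ⟨b, hb⟩ : ∃ b, b = (Ω a b₀)⁻¹ • π b₀ := ⟨_, rfl⟩
      have hbπ : π b = b := by rw [hb, map_smul, idem_apply hd.idem]
      have hab : Ω a b = 1 := by
        rw [hb, map_smul, hd.rad, smul_eq_mul, inv_mul_cancel₀ hb₀]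
      have hb₁π : π (g₁ b) = g₁ b := by rw [hg₁S.1.2, hbπ]
      have hab₁ : Ω a (g₁ b) = 1 := by
        conv_lhs => rw [← hg₁a]
        rw [hg₁S.2, hab]
      obtain ⟨t₂, ht₂, ht₂a, ht₂b⟩ := hd.move haπ hbπ hb₁π hab hab₁
      obtain ⟨g₂, hg₂⟩ : ∃ g₂, g₂ = t₂⁻¹ * g₁ := ⟨_, rfl⟩
      have hg₂S : g₂ ∈ SpGrp π Ω := by
        rw [hg₂]
        exact (SpGrp π Ω).mul_mem ((SpGrp π Ω).inv_mem (SpGen_le_SpGrp hd ht₂)) hg₁S
      have hg₂a : g₂ a = a := by
        rw [hg₂, mul_apply', hg₁a]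
        conv_lhs => rw [← ht₂a]
        exact inv_apply_self' t₂ a
      have hg₂b : g₂ b = b := by
        rw [hg₂, mul_apply', ← ht₂b, inv_apply_self']
      -- step 3
      have hlt := range_piPerp_lt hd haπ hbπ hab ha0
      have hmem := ih (piPerp π Ω a b) (omPerp π Ω a b) (spData_perp hd haπ hbπ hab) (by omega)
        (mem_SpGrp_perp hd haπ hbπ hab hg₂S hg₂a hg₂b)
      have hg₂G : g₂ ∈ SpGen π Ω := SpGen_perp_le hd haπ hbπ hab hmem
      have : g = t₁ * (t₂ * g₂) := by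
        rw [hg₂, hg₁]
        group
      rw [this]
      exact (SpGen π Ω).mul_mem ht₁ ((SpGen π Ω).mul_mem ht₂ hg₂G)

/-- the symplectic group of a block is generated by its transvections -/
theorem SpGrp_le_SpGen (hd : SpData π Ω) : SpGrp π Ω ≤ SpGen π Ω :=
  SpGrp_le_SpGen_aux _ π Ω hd le_rfl

end Fin

end Cfsg.Agent.Lib.H18.ML
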