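import Mathlib
import Cfsg.Agent.Lib.H18.ML14
import Cfsg.Agent.Lib.H18.ML17

set_option autoImplicit false
set_option linter.unusedSectionVars false
set_option linter.unusedSimpArgs false
set_option linter.unusedVariables false

/-! McLaughlin's theorem (helper18), part 18: from a family of orthogonal blocks to the
decomposition of `V` and of `H`. -/

namespace Cfsg.Agent.Lib.H18.ML

open Module

variable {p : ℕ} [Fact p.Prime] {V : Type*} [AddCommGroup V] [Module (ZMod p) V]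

/-- internal direct sum from a family of projections -/
theorem isInternal_of_proj {ι : Type*} [DecidableEq ι] (W : ι → Submodule (ZMod p) V)
    (Q : ι → V →ₗ[ZMod p] V) (h1 : ∀ i, ∀ x ∈ W i, Q i x = x)
    (h2 : ∀ i i', i' ≠ i → ∀ x ∈ W i', Q i x = 0) (h3 : ∀ v, v ∈ ⨆ i, W i) :
    DirectSum.IsInternal W := by
  apply DirectSum.isInternal_submodule_of_iSupIndep_of_iSup_eq_top
  · rw [iSupIndep_def]
    intro i
    rw [Submodule.disjoint_def]
    intro x hx hx'
    have hle : (⨆ j, ⨆ (_ : j ≠ i), W j) ≤ LinearMap.ker (Q i) := by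
      refine iSup_le fun j => iSup_le fun hj => ?_
      intro y hy
      exact h2 i j hj y hy
    have := hle hx'
    rw [LinearMap.mem_ker, h1 i x hx] at this
    exact this
  · rw [eq_top_iff]
    intro v _
    exact h3 v

/-- the subgroup generated by the flags inside the block `π` -/
def Kblk (H : Subgroup (V ≃ₗ[ZMod p] V)) (π : V →ₗ[ZMod p] V) : Subgroup (V ≃ₗ[ZMod p] V) :=
  Subgroup.closure {g | ∃ (u : V) (χ : Dual (ZMod p) V),
    IsFlag H u χ ∧ π u = u ∧ χ ∘ₗ π = χ ∧ g = tv χ u}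

variable {H : Subgroup (V ≃ₗ[ZMod p] V)} {π : V →ₗ[ZMod p] V}

theorem Kblk_le : Kblk H π ≤ H := by
  rw [Kblk, Subgroup.closure_le]
  rintro _ ⟨u, χ, hf, -, -, rfl⟩
  exact hf.tv_mem

theorem Kblk_le_BlkGrp : Kblk H π ≤ BlkGrp π := by
  rw [Kblk, Subgroup.closure_le]
  rintro _ ⟨u, χ, hf, hu, hχ, rfl⟩
  refine ⟨fun x hx => ?_, fun x => ?_⟩
  · rw [tv_apply hf.2.2.1, ← apply_of_comp_eq hχ, hx, map_zero, zero_smul, add_zero]
  · rw [tv_apply hf.2.2.1, tv_apply hf.2.2.1, map_add, map_smul, hu, apply_of_comp_eq hχ]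

theorem Kblk_zero : Kblk H (0 : V →ₗ[ZMod p] V) = ⊥ := by
  rw [Kblk, Subgroup.closure_eq_bot_iff]
  rintro _ ⟨u, χ, hf, hu, -, rfl⟩
  exfalso
  apply hf.1
  rw [← hu, LinearMap.zero_apply]

theorem mem_Kblk_of_flag {u : V} {χ : Dual (ZMod p) V} (hf : IsFlag H u χ) (hu : π u = u)
    (hχ : χ ∘ₗ π = χ) : tv χ u ∈ Kblk H π :=
  Subgroup.subset_closure ⟨u, χ, hf, hu, hχ, rfl⟩

theorem BlkGrp_apply {g : V ≃ₗ[ZMod p] V} (hg : g ∈ BlkGrp π) (hidem : π ∘ₗ π = π) (x : V) :
    g x = x + (g (π x) - π x) := by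
  have h1 : g (x - π x) = x - π x :=
    hg.1 _ (by rw [map_sub, idem_apply hidem, sub_self])
  rw [map_sub] at h1
  have : g x = (g x - g (π x)) + g (π x) := by abel
  rw [this, h1]
  abel

theorem BlkGrp_pi_other {π' : V →ₗ[ZMod p] V} {b : V ≃ₗ[ZMod p] V} (hb : b ∈ BlkGrp π')
    (hidem' : π' ∘ₗ π' = π') (h0 : ∀ x, π (π' x) = 0) (x : V) : π (b x) = π x := by
  rw [BlkGrp_apply hb hidem' x, map_add, map_sub, ← hb.2, h0, h0, sub_zero, add_zero]

theorem BlkGrp_commute {π' : V →ₗ[ZMod p] V} {a b : V ≃ₗ[ZMod p] V} (ha : a ∈ BlkGrp π)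
    (hb : b ∈ BlkGrp π') (hidem : π ∘ₗ π = π) (hidem' : π' ∘ₗ π' = π')
    (h0 : ∀ x, π (π' x) = 0) (h0' : ∀ x, π' (π x) = 0) : a * b = b * a := by
  ext x
  rw [mul_apply', mul_apply', BlkGrp_apply ha hidem (b x), BlkGrp_pi_other hb hidem' h0,
    BlkGrp_apply hb hidem' (a x), BlkGrp_pi_other ha hidem h0', BlkGrp_apply hb hidem' x,
    BlkGrp_apply ha hidem x]
  abel

/-- elements fixing a subspace pointwise -/
def FixGrp (S : Submodule (ZMod p) V) : Subgroup (V ≃ₗ[ZMod p] V) where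
  carrier := {g | ∀ x ∈ S, g x = x}
  mul_mem' := by
    intro a b ha hb x hx
    rw [mul_apply', hb x hx, ha x hx]
  one_mem' := fun x _ => rfl
  inv_mem' := by
    intro a ha x hx
    have := ha x hx
    conv_lhs => rw [← this]
    exact inv_apply_self' a x

/-- a family of pairwise orthogonal blocks covering all flags -/
structure Fam (H : Subgroup (V ≃ₗ[ZMod p] V)) {n : ℕ} (P : Fin n → V →ₗ[ZMod p] V) : Prop where
  idem : ∀ j, P j ∘ₗ P j = P j
  orth : ∀ j j', j ≠ j' → P j ∘ₗ P j' = 0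
  cover : ∀ u χ, IsFlag H u χ → ∃ j, P j u = u ∧ χ ∘ₗ P j = χ

/-- the subspaces of the decomposition -/
def famW {n : ℕ} (P : Fin n → V →ₗ[ZMod p] V) : Fin (n + 1) → Submodule (ZMod p) V :=
  Fin.cons (⨅ j, LinearMap.ker (P j)) (fun j => LinearMap.range (P j))

section Family
variable {n : ℕ} {P : Fin n → V →ₗ[ZMod p] V}

theorem famW_succ (j : Fin n) : famW P j.succ = LinearMap.range (P j) := rfl

theorem mem_famW_zero {x : V} : x ∈ famW P 0 ↔ ∀ j, P j x = 0 := by
  show x ∈ (⨅ j, LinearMap.ker (P j)) ↔ _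
  simp only [Submodule.mem_iInf, LinearMap.mem_ker]

theorem Fam.orth_apply (hF : Fam H P) {j j' : Fin n} (h : j ≠ j') (x : V) :
    P j (P j' x) = 0 := by
  have := congrArg (fun f : V →ₗ[ZMod p] V => f x) (hF.orth j j' h)
  simpa using this

theorem Fam.mem_famW_succ (hF : Fam H P) {j : Fin n} {x : V} :
    x ∈ famW P j.succ ↔ P j x = x := by
  rw [famW_succ]
  constructor
  · rintro ⟨y, rfl⟩
    exact idem_apply (hF.idem j) y
  · intro h
    exact ⟨x, h⟩

theorem Fam.sum_apply (hF : Fam H P) (j : Fin n) (x : V) :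
    ∑ k, P k (P j x) = P j x := by
  rw [Finset.sum_eq_single j]
  · exact idem_apply (hF.idem j) x
  · intro k _ hk
    exact hF.orth_apply hk x
  · intro h
    exact absurd (Finset.mem_univ j) h

theorem Fam.isInternal (hF : Fam H P) : DirectSum.IsInternal (famW P) := by
  classical
  refine isInternal_of_proj (famW P)
    (Fin.cons (LinearMap.id - ∑ j, P j) P : Fin (n + 1) → V →ₗ[ZMod p] V) ?_ ?_ ?_
  · intro i
    refine Fin.cases ?_ (fun j => ?_) i
    · intro x hx
      rw [mem_famW_zero] at hx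
      simp only [Fin.cons_zero, LinearMap.sub_apply, LinearMap.id_apply, LinearMap.sum_apply, hx,
        Finset.sum_const_zero, sub_zero]
    · intro x hx
      rw [hF.mem_famW_succ] at hx
      simp only [Fin.cons_succ, hx]
  · intro i i'
    refine Fin.cases ?_ (fun j => ?_) i <;> refine Fin.cases ?_ (fun j' => ?_) i'
    · intro h
      exact absurd rfl h
    · intro _ x hx
      rw [hF.mem_famW_succ] at hx
      simp only [Fin.cons_zero, LinearMap.sub_apply, LinearMap.id_apply, LinearMap.sum_apply]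
      rw [← hx, hF.sum_apply, sub_self]
    · intro _ x hx
      rw [mem_famW_zero] at hx
      simp only [Fin.cons_succ, hx]
    · intro hne x hx
      rw [hF.mem_famW_succ] at hx
      have hjj : j ≠ j' := by
        intro h
        apply hne
        rw [h]
      simp only [Fin.cons_succ]
      rw [← hx, hF.orth_apply hjj]
  · intro v
    have hv : v = (v - ∑ j, P j v) + ∑ j, P j v := by abel
    rw [hv]
    apply Submodule.add_mem
    · apply Submodule.mem_iSup_of_mem (0 : Fin (n + 1))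
      rw [mem_famW_zero]
      intro k
      rw [map_sub, map_sum, Finset.sum_eq_single k, idem_apply (hF.idem k), sub_self]
      · intro j _ hj
        exact hF.orth_apply hj.symm v
      · intro h
        exact absurd (Finset.mem_univ k) h
    · apply Submodule.sum_mem
      intro j _
      apply Submodule.mem_iSup_of_mem j.succ
      exact ⟨v, rfl⟩

/-- the flag transvections preserve every summand -/
theorem Fam.flag_invariant (hF : Fam H P) {v : V} {φ : Dual (ZMod p) V} (hf : IsFlag H v φ)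
    (i : Fin (n + 1)) : ∀ x ∈ famW P i, tv φ v x ∈ famW P i := by
  obtain ⟨j₀, hj₀v, hj₀φ⟩ := hF.cover v φ hf
  refine Fin.cases ?_ (fun j => ?_) i
  · intro x hx
    have hx' := mem_famW_zero.mp hx
    rw [tv_apply hf.2.2.1, ← apply_of_comp_eq hj₀φ, hx' j₀, map_zero, zero_smul, add_zero]
    exact hx
  · intro x hx
    have hx' := hF.mem_famW_succ.mp hx
    by_cases hj : j = j₀
    · subst hj
      rw [hF.mem_famW_succ, tv_apply hf.2.2.1, map_add, map_smul, hx', hj₀v]
    · have : φ x = 0 := by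
        rw [← apply_of_comp_eq hj₀φ, ← hx', hF.orth_apply (Ne.symm hj), map_zero]
      rw [tv_apply hf.2.2.1, this, zero_smul, add_zero]
      exact hx

theorem Fam.invariant (hF : Fam H P) (hG : Gen H) (i : Fin (n + 1)) :
    ∀ h ∈ H, ∀ x ∈ famW P i, h x ∈ famW P i :=
  hG.invariant (famW P i) (fun v φ hf => hF.flag_invariant hf i)

theorem Fam.map_eq (hF : Fam H P) (hG : Gen H) {h : V ≃ₗ[ZMod p] V} (hh : h ∈ H)
    (i : Fin (n + 1)) : (famW P i).map (h : V →ₗ[ZMod p] V) = famW P i := by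
  apply le_antisymm
  · rintro _ ⟨x, hx, rfl⟩
    exact hF.invariant hG i h hh x hx
  · intro x hx
    refine ⟨h⁻¹ x, hF.invariant hG i h⁻¹ (H.inv_mem hh) x hx, ?_⟩
    exact apply_inv_self' h x

theorem Fam.conj_mem (hF : Fam H P) (hG : Gen H) (j : Fin n) {h : V ≃ₗ[ZMod p] V} (hh : h ∈ H) :
    ∀ g ∈ Kblk H (P j), h * g * h⁻¹ ∈ Kblk H (P j) := by
  intro g hg
  refine Subgroup.closure_induction (p := fun g _ => h * g * h⁻¹ ∈ Kblk H (P j)) ?_ ?_ ?_ ?_ hg
  · rintro _ ⟨u, χ, hf, hu, hχ, rfl⟩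
    rw [tv_conj hf.2.2.1]
    have hf' := hf.conj hh
    obtain ⟨j₀, hj₀u, hj₀χ⟩ := hF.cover _ _ hf'
    have hmem : h u ∈ famW P j.succ :=
      hF.invariant hG j.succ h hh u (hF.mem_famW_succ.mpr hu)
    have hPu : P j (h u) = h u := hF.mem_famW_succ.mp hmem
    have hjj : j₀ = j := by
      by_contra hne
      apply hf'.1
      rw [← hj₀u, ← hPu, hF.orth_apply hne]
    subst hjj
    exact mem_Kblk_of_flag hf' hj₀u hj₀χ
  · rw [mul_one, mul_inv_cancel]
    exact Subgroup.one_mem _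
  · intro a b _ _ ha hb
    have : h * (a * b) * h⁻¹ = (h * a * h⁻¹) * (h * b * h⁻¹) := by group
    rw [this]
    exact Subgroup.mul_mem _ ha hb
  · intro a _ ha
    have : h * a⁻¹ * h⁻¹ = (h * a * h⁻¹)⁻¹ := by group
    rw [this]
    exact Subgroup.inv_mem _ ha

theorem Fam.normal (hF : Fam H P) (hG : Gen H) (j : Fin n) :
    ((Kblk H (P j)).subgroupOf H).Normal := by
  constructor
  intro k hk g
  rw [Subgroup.mem_subgroupOf] at hk ⊢
  exact hF.conj_mem hG j g.2 _ hk

theorem Fam.iSup_eq (hF : Fam H P) (hG : Gen H) : ⨆ j, Kblk H (P j) = H := by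
  apply le_antisymm
  · exact iSup_le fun j => Kblk_le
  · refine le_trans hG ?_
    rw [Subgroup.closure_le]
    rintro _ ⟨v, φ, hf, rfl⟩
    obtain ⟨j, hjv, hjφ⟩ := hF.cover v φ hf
    exact (le_iSup (fun j => Kblk H (P j)) j) (mem_Kblk_of_flag hf hjv hjφ)

theorem Fam.commute (hF : Fam H P) {j j' : Fin n} (h : j ≠ j') {a b : V ≃ₗ[ZMod p] V}
    (ha : a ∈ Kblk H (P j)) (hb : b ∈ Kblk H (P j')) : a * b = b * a :=
  BlkGrp_commute (Kblk_le_BlkGrp ha) (Kblk_le_BlkGrp hb) (hF.idem j) (hF.idem j')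
    (fun x => hF.orth_apply h x) (fun x => hF.orth_apply h.symm x)

theorem Fam.trivial_action (hF : Fam H P) (j : Fin n) {h : V ≃ₗ[ZMod p] V}
    (hh : h ∈ Kblk H (P j)) (i : Fin (n + 1)) (hi : i ≠ j.succ) :
    ∀ v ∈ famW P i, h v = v := by
  have hB := Kblk_le_BlkGrp hh
  revert hi
  refine Fin.cases ?_ (fun j' => ?_) i
  · intro _ v hv
    exact hB.1 v (mem_famW_zero.mp hv j)
  · intro hne v hv
    have hjj : j ≠ j' := by
      intro h
      apply hne
      rw [h]
    apply hB.1 v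
    rw [← hF.mem_famW_succ.mp hv, hF.orth_apply hjj]

theorem Fam.inf_eq_bot (hF : Fam H P) (j : Fin n) :
    Kblk H (P j) ⊓ (⨆ j' ∈ {j' : Fin n | j' ≠ j}, Kblk H (P j')) = ⊥ := by
  rw [eq_bot_iff]
  rintro g ⟨hg1, hg2⟩
  have hle : (⨆ j' ∈ {j' : Fin n | j' ≠ j}, Kblk H (P j')) ≤ FixGrp (famW P j.succ) := by
    refine iSup_le fun j' => iSup_le fun hj' => ?_
    intro k hk v hv
    have hne : j.succ ≠ j'.succ := by
      intro h
      exact hj' (Fin.succ_injective _ h).symm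
    exact hF.trivial_action j' hk j.succ hne v hv
  have hfix := hle hg2
  have hB := Kblk_le_BlkGrp (SetLike.mem_coe.mp hg1)
  rw [Subgroup.mem_bot]
  ext x
  rw [BlkGrp_apply hB (hF.idem j) x, one_apply']
  have : g (P j x) = P j x := hfix (P j x) ⟨x, rfl⟩
  rw [this, sub_self, add_zero]

end Family

end Cfsg.Agent.Lib.H18.ML
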