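import Mathlib
import Cfsg.Agent.Lib.H18.ML16
import Cfsg.Agent.Lib.H18.ML18

set_option autoImplicit false
set_option linter.unusedSectionVars false
set_option linter.unusedSimpArgs false
set_option linter.unusedVariables false

/-! McLaughlin's theorem (helper18), part 19: the action of a block subgroup on its block. -/

namespace Cfsg.Agent.Lib.H18.ML

open Module

variable {p : ℕ} [Fact p.Prime] {V : Type*} [AddCommGroup V] [Module (ZMod p) V]

/-- restriction of a subgroup to an invariant subspace -/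
def resHom (K : Subgroup (V ≃ₗ[ZMod p] V)) (W : Submodule (ZMod p) V)
    (hinv : ∀ h ∈ K, ∀ w ∈ W, h w ∈ W) : ↥K →* (↥W ≃ₗ[ZMod p] ↥W) where
  toFun h :=
    { toFun := fun w => ⟨h.1 w, hinv h.1 h.2 w w.2⟩
      map_add' := fun x y => Subtype.ext (by simp)
      map_smul' := fun c x => Subtype.ext (by simp)
      invFun := fun w => ⟨(h.1)⁻¹ w, hinv _ (K.inv_mem h.2) w w.2⟩
      left_inv := fun w => Subtype.ext (inv_apply_self' h.1 w)
      right_inv := fun w => Subtype.ext (apply_inv_self' h.1 w) }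
  map_one' := by ext w; rfl
  map_mul' a b := by ext w; rfl

theorem resHom_apply (K : Subgroup (V ≃ₗ[ZMod p] V)) (W : Submodule (ZMod p) V)
    (hinv : ∀ h ∈ K, ∀ w ∈ W, h w ∈ W) (h : ↥K) (w : ↥W) :
    ((resHom K W hinv h w : ↥W) : V) = h.1 (w : V) := rfl

variable {H : Subgroup (V ≃ₗ[ZMod p] V)} {π : V →ₗ[ZMod p] V}

theorem Kblk_invariant : ∀ h ∈ Kblk H π, ∀ w ∈ LinearMap.range π, h w ∈ LinearMap.range π := by
  rintro h hh _ ⟨x, rfl⟩
  exact ⟨h x, (Kblk_le_BlkGrp hh).2 x⟩

/-- extend an endomorphism of `range π` by the identity on `ker π` -/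
def extEnd (π : V →ₗ[ZMod p] V) (f : ↥(LinearMap.range π) →ₗ[ZMod p] ↥(LinearMap.range π)) :
    V →ₗ[ZMod p] V :=
  (LinearMap.range π).subtype ∘ₗ f ∘ₗ π.rangeRestrict + (LinearMap.id - π)

theorem extEnd_apply (f : ↥(LinearMap.range π) →ₗ[ZMod p] ↥(LinearMap.range π)) (x : V) :
    extEnd π f x = (f ⟨π x, LinearMap.mem_range_self π x⟩ : V) + (x - π x) := rfl

theorem pi_range (hidem : π ∘ₗ π = π) (w : ↥(LinearMap.range π)) : π (w : V) = w := by
  obtain ⟨y, hy⟩ := w.2
  rw [← hy, idem_apply hidem]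

theorem pi_extEnd (hidem : π ∘ₗ π = π)
    (f : ↥(LinearMap.range π) →ₗ[ZMod p] ↥(LinearMap.range π)) (x : V) :
    π (extEnd π f x) = (f ⟨π x, LinearMap.mem_range_self π x⟩ : V) := by
  rw [extEnd_apply, map_add, map_sub, idem_apply hidem, sub_self, add_zero, pi_range hidem]

theorem extEnd_comp (hidem : π ∘ₗ π = π)
    (f f' : ↥(LinearMap.range π) →ₗ[ZMod p] ↥(LinearMap.range π)) :
    extEnd π f ∘ₗ extEnd π f' = extEnd π (f ∘ₗ f') := by
  ext x
  rw [LinearMap.comp_apply, extEnd_apply f, extEnd_apply (f ∘ₗ f')]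
  have e1 : (⟨π (extEnd π f' x), LinearMap.mem_range_self π _⟩ : ↥(LinearMap.range π)) =
      f' ⟨π x, LinearMap.mem_range_self π x⟩ := Subtype.ext (pi_extEnd hidem f' x)
  rw [e1, pi_extEnd hidem, extEnd_apply f', LinearMap.comp_apply]
  abel

theorem extEnd_id (hidem : π ∘ₗ π = π) : extEnd π LinearMap.id = LinearMap.id := by
  ext x
  rw [extEnd_apply, LinearMap.id_apply, LinearMap.id_apply]
  abel

/-- extend an automorphism of `range π` by the identity on `ker π` -/
def extEquiv (hidem : π ∘ₗ π = π) (f : ↥(LinearMap.range π) ≃ₗ[ZMod p] ↥(LinearMap.range π)) :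
    V ≃ₗ[ZMod p] V :=
  LinearEquiv.ofLinearMap (extEnd π f.toLinearMap) (extEnd π f.symm.toLinearMap)
    (by
      rw [extEnd_comp hidem]
      have : f.toLinearMap ∘ₗ f.symm.toLinearMap = LinearMap.id := by
        ext w; simp
      rw [this, extEnd_id hidem])
    (by
      rw [extEnd_comp hidem]
      have : f.symm.toLinearMap ∘ₗ f.toLinearMap = LinearMap.id := by
        ext w; simp
      rw [this, extEnd_id hidem])

theorem extEquiv_apply (hidem : π ∘ₗ π = π)
    (f : ↥(LinearMap.range π) ≃ₗ[ZMod p] ↥(LinearMap.range π)) (x : V) :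
    extEquiv hidem f x = (f ⟨π x, LinearMap.mem_range_self π x⟩ : V) + (x - π x) := rfl

theorem extEquiv_range (hidem : π ∘ₗ π = π)
    (f : ↥(LinearMap.range π) ≃ₗ[ZMod p] ↥(LinearMap.range π)) (w : ↥(LinearMap.range π)) :
    extEquiv hidem f (w : V) = (f w : V) := by
  rw [extEquiv_apply]
  have : (⟨π (w : V), LinearMap.mem_range_self π _⟩ : ↥(LinearMap.range π)) = w :=
    Subtype.ext (pi_range hidem w)
  rw [this, pi_range hidem, sub_self, add_zero]

theorem extEquiv_mem (hidem : π ∘ₗ π = π)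
    (f : ↥(LinearMap.range π) ≃ₗ[ZMod p] ↥(LinearMap.range π)) :
    extEquiv hidem f ∈ BlkGrp π := by
  refine ⟨fun x hx => ?_, fun x => ?_⟩
  · rw [extEquiv_apply]
    have : (⟨π x, LinearMap.mem_range_self π x⟩ : ↥(LinearMap.range π)) = 0 := Subtype.ext hx
    rw [this, map_zero, hx, sub_zero, Submodule.coe_zero, zero_add]
  · have h1 : π (extEquiv hidem f x) = (f ⟨π x, LinearMap.mem_range_self π x⟩ : V) :=
      pi_extEnd hidem f.toLinearMap x
    have h2 := extEquiv_range hidem f ⟨π x, LinearMap.mem_range_self π x⟩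
    rw [h1]
    exact h2.symm

end Cfsg.Agent.Lib.H18.ML
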