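import Mathlib
import Cfsg.Agent.Lib.H18.ML19

set_option autoImplicit false
set_option linter.unusedSectionVars false
set_option linter.unusedSimpArgs false
set_option linter.unusedVariables false

/-! McLaughlin's theorem (helper18), part 20: a block subgroup induces `SL` or `Sp` on its
block. -/

namespace Cfsg.Agent.Lib.H18.ML

open Module

variable {p : ℕ} [Fact p.Prime] {V : Type*} [AddCommGroup V] [Module (ZMod p) V]
variable {H : Subgroup (V ≃ₗ[ZMod p] V)} {π : V →ₗ[ZMod p] V}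

/-- the determinant as a monoid homomorphism on the automorphism group -/
noncomputable def detHom (W : Type*) [AddCommGroup W] [Module (ZMod p) W] :
    (W ≃ₗ[ZMod p] W) →* ZMod p :=
  LinearMap.det.comp LinearEquiv.automorphismGroup.toLinearMapMonoidHom

theorem detHom_apply {W : Type*} [AddCommGroup W] [Module (ZMod p) W] (f : W ≃ₗ[ZMod p] W) :
    detHom W f = LinearMap.det (f : W →ₗ[ZMod p] W) := rfl

theorem SLBlock.tv_mem_Kblk (hb : SLBlock H π) {u : V} {χ : Dual (ZMod p) V} (hu : π u = u)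
    (hχ : χ ∘ₗ π = χ) (h0 : χ u = 0) : tv χ u ∈ Kblk H π := by
  by_cases hu0 : u = 0
  · rw [hu0, tv_zero_right]
    exact Subgroup.one_mem _
  by_cases hχ0 : χ = 0
  · rw [hχ0, tv_zero_left]
    exact Subgroup.one_mem _
  exact mem_Kblk_of_flag (hb.flag hu0 hχ0 hu hχ h0) hu hχ

section Fin
variable [Finite V]

theorem exists_rho_sl (hb : SLBlock H π) (h3 : 3 ≤ finrank (ZMod p) (LinearMap.range π)) :
    ∃ ρ : ↥(Kblk H π) →* (↥(LinearMap.range π) ≃ₗ[ZMod p] ↥(LinearMap.range π)),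
      (∀ (h : ↥(Kblk H π)) (v : ↥(LinearMap.range π)),
        ((ρ h v : ↥(LinearMap.range π)) : V) = (h : V ≃ₗ[ZMod p] V) (v : V)) ∧
      (ρ.range : Set (↥(LinearMap.range π) ≃ₗ[ZMod p] ↥(LinearMap.range π))) =
        {f : ↥(LinearMap.range π) ≃ₗ[ZMod p] ↥(LinearMap.range π) |
          LinearMap.det (f : ↥(LinearMap.range π) →ₗ[ZMod p] ↥(LinearMap.range π)) = 1} := by
  have hidem := hb.1
  refine ⟨resHom (Kblk H π) (LinearMap.range π) Kblk_invariant, fun h v => rfl, ?_⟩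
  obtain ⟨ρ, hρ⟩ : ∃ ρ, ρ = resHom (Kblk H π) (LinearMap.range π) Kblk_invariant := ⟨_, rfl⟩
  rw [← hρ]
  have hdet : ∀ g (hg : g ∈ Kblk H π), detHom _ (ρ ⟨g, hg⟩) = 1 := by
    intro g hg
    refine Subgroup.closure_induction
      (p := fun g hg => detHom _ (ρ ⟨g, hg⟩) = 1) ?_ ?_ ?_ ?_ hg
    · rintro _ ⟨u, χ, hf, hu, hχ, rfl⟩
      have hu' : u ∈ LinearMap.range π := ⟨u, hu⟩
      have e : ((ρ ⟨tv χ u, Subgroup.subset_closure ⟨u, χ, hf, hu, hχ, rfl⟩⟩ :
          ↥(LinearMap.range π) ≃ₗ[ZMod p] ↥(LinearMap.range π)) :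
          ↥(LinearMap.range π) →ₗ[ZMod p] ↥(LinearMap.range π)) =
          LinearMap.transvection (χ ∘ₗ (LinearMap.range π).subtype) ⟨u, hu'⟩ := by
        ext w
        rw [hρ]
        show tv χ u (w : V) = _
        rw [tv_apply hf.2.2.1, LinearMap.transvection.apply]
        simp
      rw [detHom_apply, e, LinearMap.transvection.det]
      simp [hf.2.2.1]
    · exact map_one ((detHom _).comp ρ)
    · intro a b ha hb h1 h2
      have : (⟨a * b, Subgroup.mul_mem _ ha hb⟩ : ↥(Kblk H π)) = ⟨a, ha⟩ * ⟨b, hb⟩ := rfl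
      rw [this, map_mul, map_mul, h1, h2, mul_one]
    · intro a ha h1
      have h2 : detHom _ (ρ ⟨a⁻¹, Subgroup.inv_mem _ ha⟩) * detHom _ (ρ ⟨a, ha⟩) = 1 := by
        rw [← map_mul, ← map_mul]
        have : (⟨a⁻¹, Subgroup.inv_mem _ ha⟩ : ↥(Kblk H π)) * ⟨a, ha⟩ = 1 :=
          Subtype.ext (inv_mul_cancel a)
        rw [this, map_one, map_one]
      rw [h1, mul_one] at h2
      exact h2
  ext f
  simp only [SetLike.mem_coe, MonoidHom.mem_range, Set.mem_setOf_eq]
  constructor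
  · rintro ⟨⟨g, hg⟩, rfl⟩
    exact hdet g hg
  · intro hf
    have h2 : 2 ≤ finrank (ZMod p) ↥(LinearMap.range π) := by omega
    have hmem := sl_mem_closure h2 f hf
    have hle : Subgroup.closure {g : ↥(LinearMap.range π) ≃ₗ[ZMod p] ↥(LinearMap.range π) |
        ∃ (u : ↥(LinearMap.range π)) (χ : Dual (ZMod p) ↥(LinearMap.range π)),
          χ u = 0 ∧ g = tv χ u} ≤ ρ.range := by
      rw [Subgroup.closure_le]
      rintro _ ⟨u', χ', h0, rfl⟩
      obtain ⟨χ, hχdef⟩ : ∃ χ : Dual (ZMod p) V, χ = χ' ∘ₗ π.rangeRestrict := ⟨_, rfl⟩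
      have hχx : ∀ x, χ x = χ' ⟨π x, LinearMap.mem_range_self π x⟩ := by
        intro x
        rw [hχdef]
        rfl
      have hu : π (u' : V) = u' := pi_range hidem u'
      have hχπ : χ ∘ₗ π = χ := by
        ext x
        rw [LinearMap.comp_apply, hχx, hχx]
        congr 1
        exact Subtype.ext (idem_apply hidem x)
      have hχw : ∀ w : ↥(LinearMap.range π), χ (w : V) = χ' w := by
        intro w
        rw [hχx]
        congr 1
        exact Subtype.ext (pi_range hidem w)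
      have hχu : χ (u' : V) = 0 := by rw [hχw, h0]
      have hmemK : tv χ (u' : V) ∈ Kblk H π := hb.tv_mem_Kblk hu hχπ hχu
      refine ⟨⟨tv χ (u' : V), hmemK⟩, ?_⟩
      ext w
      rw [hρ]
      show tv χ (u' : V) (w : V) = _
      rw [tv_apply hχu, tv_apply h0, hχw]
      simp
    exact MonoidHom.mem_range.mp (hle hmem)

end Fin

end Cfsg.Agent.Lib.H18.ML
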