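import Mathlib
import Cfsg.Agent.Lib.H18.ML20

set_option autoImplicit false
set_option linter.unusedSectionVars false
set_option linter.unusedSimpArgs false
set_option linter.unusedVariables false

/-! McLaughlin's theorem (helper18), part 21: the symplectic case and the final assembly. -/

namespace Cfsg.Agent.Lib.H18.ML

open Module

variable {p : ℕ} [Fact p.Prime] {V : Type*} [AddCommGroup V] [Module (ZMod p) V]
variable {H : Subgroup (V ≃ₗ[ZMod p] V)} {π : V →ₗ[ZMod p] V}
  {Ω : V →ₗ[ZMod p] V →ₗ[ZMod p] ZMod p}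

theorem Kblk_eq_SpGen (hs : SpBlock H π Ω)
    (hall : ∀ u χ, IsFlag H u χ → π u = u → ∃ c : ZMod p, χ = c • Ω u) :
    Kblk H π = SpGen π Ω := by
  apply le_antisymm
  · rw [Kblk, Subgroup.closure_le]
    rintro _ ⟨u, χ, hf, hu, hχ, rfl⟩
    obtain ⟨c, rfl⟩ := hall u χ hf hu
    exact tv_mem_SpGen hu c
  · rw [SpGen, Subgroup.closure_le]
    rintro _ ⟨x, c, hx, rfl⟩
    by_cases hx0 : x = 0
    · rw [hx0, tv_zero_right]
      exact Subgroup.one_mem _
    by_cases hc : c = 0
    · rw [hc, zero_smul, tv_zero_left]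
      exact Subgroup.one_mem _
    have hf := (hs.flag hx hx0).smul_left hc
    refine mem_Kblk_of_flag hf hx ?_
    rw [LinearMap.smul_comp, hs.data.comp_eq]

section Fin
variable [Finite V]

theorem exists_rho_sp (hs : SpBlock H π Ω)
    (hall : ∀ u χ, IsFlag H u χ → π u = u → ∃ c : ZMod p, χ = c • Ω u) :
    ∃ ρ : ↥(Kblk H π) →* (↥(LinearMap.range π) ≃ₗ[ZMod p] ↥(LinearMap.range π)),
      (∀ (h : ↥(Kblk H π)) (v : ↥(LinearMap.range π)),
        ((ρ h v : ↥(LinearMap.range π)) : V) = (h : V ≃ₗ[ZMod p] V) (v : V)) ∧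
      ∃ B : LinearMap.BilinForm (ZMod p) ↥(LinearMap.range π), B.IsAlt ∧ B.Nondegenerate ∧
        (ρ.range : Set (↥(LinearMap.range π) ≃ₗ[ZMod p] ↥(LinearMap.range π))) =
          {f : ↥(LinearMap.range π) ≃ₗ[ZMod p] ↥(LinearMap.range π) |
            ∀ x y, B (f x) (f y) = B x y} := by
  have hd := hs.data
  have hidem := hd.idem
  have hK := Kblk_eq_SpGen hs hall
  refine ⟨resHom (Kblk H π) (LinearMap.range π) Kblk_invariant, fun h v => rfl,
    Ω.domRestrict₁₂ (LinearMap.range π) (LinearMap.range π), ?_, ?_, ?_⟩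
  · intro x
    rw [LinearMap.domRestrict₁₂_apply, hd.alt]
  · have hleft : ∀ x : ↥(LinearMap.range π),
        (∀ y : ↥(LinearMap.range π),
          Ω.domRestrict₁₂ (LinearMap.range π) (LinearMap.range π) x y = 0) → x = 0 := by
      intro x hx
      apply Subtype.ext
      rw [Submodule.coe_zero]
      apply hd.nondeg (x : V) (pi_range hidem x)
      intro y
      have := hx ⟨π y, LinearMap.mem_range_self π y⟩
      rw [LinearMap.domRestrict₁₂_apply] at this
      rw [← hd.rad]
      exact this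
    refine ⟨hleft, ?_⟩
    intro y hy
    apply hleft y
    intro x
    have := hy x
    rw [LinearMap.domRestrict₁₂_apply] at this ⊢
    rw [hd.skew, this, neg_zero]
  · ext f
    simp only [SetLike.mem_coe, MonoidHom.mem_range, Set.mem_setOf_eq]
    constructor
    · rintro ⟨⟨g, hg⟩, rfl⟩ x y
      have hg' : g ∈ SpGrp π Ω := SpGen_le_SpGrp hd (hK ▸ hg)
      rw [LinearMap.domRestrict₁₂_apply, LinearMap.domRestrict₁₂_apply]
      exact hg'.2 x y
    · intro hf
      have hgB := extEquiv_mem hidem f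
      have hgS : extEquiv hidem f ∈ SpGrp π Ω := by
        refine ⟨hgB, fun x y => ?_⟩
        rw [← hd.rad_left (extEquiv hidem f x), ← hd.rad _ (extEquiv hidem f y), hgB.2, hgB.2]
        have e1 := extEquiv_range hidem f ⟨π x, LinearMap.mem_range_self π x⟩
        have e2 := extEquiv_range hidem f ⟨π y, LinearMap.mem_range_self π y⟩
        simp only at e1 e2
        rw [e1, e2]
        have := hf ⟨π x, LinearMap.mem_range_self π x⟩ ⟨π y, LinearMap.mem_range_self π y⟩
        rw [LinearMap.domRestrict₁₂_apply, LinearMap.domRestrict₁₂_apply] at this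
        rw [this, hd.rad_left, hd.rad]
      have hgK : extEquiv hidem f ∈ Kblk H π := by
        rw [hK]
        exact SpGrp_le_SpGen hd hgS
      refine ⟨⟨extEquiv hidem f, hgK⟩, ?_⟩
      ext w
      exact extEquiv_range hidem f w

/-- the action of a block subgroup on its block -/
theorem exists_rho (hgood : Good H π ∨ π = 0) (W' : Submodule (ZMod p) V)
    (hW' : W' = LinearMap.range π) :
    ∃ ρ : ↥(Kblk H π) →* (↥W' ≃ₗ[ZMod p] ↥W'),
      (∀ (h : ↥(Kblk H π)) (v : ↥W'), ((ρ h v : ↥W') : V) = (h : V ≃ₗ[ZMod p] V) (v : V)) ∧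
      ((ρ.range : Set (↥W' ≃ₗ[ZMod p] ↥W')) =
          {f : ↥W' ≃ₗ[ZMod p] ↥W' | LinearMap.det (f : ↥W' →ₗ[ZMod p] ↥W') = 1} ∨
        ∃ B : LinearMap.BilinForm (ZMod p) ↥W', B.IsAlt ∧ B.Nondegenerate ∧
          (ρ.range : Set (↥W' ≃ₗ[ZMod p] ↥W')) =
            {f : ↥W' ≃ₗ[ZMod p] ↥W' | ∀ x y, B (f x) (f y) = B x y}) := by
  subst hW'
  rcases hgood with hgood | h0
  · rcases hgood.type with ⟨hb, h3⟩ | ⟨Ω, hs, hall⟩
    · obtain ⟨ρ, h1, h2⟩ := exists_rho_sl hb h3
      exact ⟨ρ, h1, Or.inl h2⟩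
    · obtain ⟨ρ, h1, h2⟩ := exists_rho_sp hs hall
      exact ⟨ρ, h1, Or.inr h2⟩
  · subst h0
    refine ⟨resHom (Kblk H 0) (LinearMap.range (0 : V →ₗ[ZMod p] V)) Kblk_invariant,
      fun h v => rfl, Or.inl ?_⟩
    haveI : Subsingleton ↥(LinearMap.range (0 : V →ₗ[ZMod p] V)) := by
      rw [LinearMap.range_zero]
      infer_instance
    ext f
    have hf1 : f = 1 := by
      ext w
      exact congrArg Subtype.val (Subsingleton.elim _ _)
    simp only [SetLike.mem_coe, MonoidHom.mem_range, Set.mem_setOf_eq]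
    constructor
    · intro _
      rw [hf1]
      exact map_one (detHom _)
    · intro _
      exact ⟨1, by rw [map_one, hf1]⟩

end Fin

end Cfsg.Agent.Lib.H18.ML
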