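import Mathlib
import Cfsg.Agent.Lib.H18.ML15
import Cfsg.Agent.Lib.H18.ML21

set_option autoImplicit false
set_option linter.unusedSectionVars false
set_option linter.unusedSimpArgs false
set_option linter.unusedVariables false

/-! McLaughlin's theorem (helper18), part 22: the final assembly. -/

namespace Cfsg.Agent.Lib.H18.ML

open Module

variable {p : ℕ} [Fact p.Prime] {V : Type*} [AddCommGroup V] [Module (ZMod p) V] [Finite V]
variable {H : Subgroup (V ≃ₗ[ZMod p] V)}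

theorem exists_fam (hp2 : (2 : ZMod p) ≠ 0) (hG : Gen H) (hNP : NP H) :
    ∃ (n : ℕ) (P : Fin n → V →ₗ[ZMod p] V), 1 ≤ n ∧ Fam H P ∧ ∀ j, Good H (P j) ∨ P j = 0 := by
  obtain ⟨L, hL1, hL2, hL3⟩ := exists_blocks hp2 hG hNP
  obtain ⟨P, hP⟩ : ∃ P : Fin (L.length + 1) → V →ₗ[ZMod p] V,
      P = fun (j : Fin (L.length + 1)) =>
        if h : j.val < L.length then L.get ⟨j.val, h⟩ else (0 : V →ₗ[ZMod p] V) := ⟨_, rfl⟩
  have hP1 : ∀ (j : Fin (L.length + 1)) (h : j.val < L.length), P j = L.get ⟨j.val, h⟩ := by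
    intro j h
    rw [hP]
    simp only [dif_pos h]
  have hP2 : ∀ (j : Fin (L.length + 1)), ¬ j.val < L.length → P j = 0 := by
    intro j h
    rw [hP]
    simp only [dif_neg h]
  have hgood : ∀ j, Good H (P j) ∨ P j = 0 := by
    intro j
    by_cases h : j.val < L.length
    · left
      rw [hP1 j h]
      exact hL1 _ (List.get_mem L _)
    · right
      exact hP2 j h
  refine ⟨L.length + 1, P, by omega, ⟨?_, ?_, ?_⟩, hgood⟩
  · intro j
    rcases hgood j with h | h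
    · exact h.idem
    · rw [h, LinearMap.zero_comp]
  · intro j j' hjj
    by_cases h : j.val < L.length
    · by_cases h' : j'.val < L.length
      · rw [hP1 j h, hP1 j' h']
        have hne : j.val ≠ j'.val := fun e => hjj (Fin.ext e)
        rcases Nat.lt_or_gt_of_ne hne with hlt | hlt
        · exact (List.pairwise_iff_get.mp hL2 ⟨j.val, h⟩ ⟨j'.val, h'⟩ hlt).1
        · exact (List.pairwise_iff_get.mp hL2 ⟨j'.val, h'⟩ ⟨j.val, h⟩ hlt).2
      · rw [hP2 j' h', LinearMap.comp_zero]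
    · rw [hP2 j h, LinearMap.zero_comp]
  · intro u χ hf
    obtain ⟨π, hπ, h1, h2⟩ := hL3 u χ hf
    obtain ⟨i, hi⟩ := List.mem_iff_get.mp hπ
    refine ⟨⟨i.val, by omega⟩, ?_⟩
    have : P ⟨i.val, by omega⟩ = π := by
      rw [hP1 ⟨i.val, by omega⟩ i.2]
      exact hi
    rw [this]
    exact ⟨h1, h2⟩

/-- McLaughlin's theorem for odd `p`, in terms of `Gen` and `NP`. -/
theorem mclaughlin (hp2 : (2 : ZMod p) ≠ 0) (hG : Gen H) (hNP : NP H) :
    ∃ (n : ℕ) (W : Fin (n + 1) → Submodule (ZMod p) V) (K : Fin n → Subgroup (V ≃ₗ[ZMod p] V)),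
      1 ≤ n ∧ DirectSum.IsInternal W ∧
      (∀ h ∈ H, ∀ i, (W i).map (h : V →ₗ[ZMod p] V) = W i) ∧
      (∀ j, K j ≤ H ∧ ((K j).subgroupOf H).Normal) ∧ ⨆ j, K j = H ∧
      (∀ j, K j ⊓ (⨆ j' ∈ {j' : Fin n | j' ≠ j}, K j') = ⊥) ∧
      (∀ j j', j ≠ j' → ∀ a ∈ K j, ∀ b ∈ K j', a * b = b * a) ∧
      (∀ j, ∀ h ∈ K j, ∀ i : Fin (n + 1), i ≠ j.succ → ∀ v ∈ W i, h v = v) ∧
      (∀ j, ∃ ρ : ↥(K j) →* (↥(W j.succ) ≃ₗ[ZMod p] ↥(W j.succ)),
        (∀ (h : ↥(K j)) (v : ↥(W j.succ)), ((ρ h v : ↥(W j.succ)) : V) = (h : V ≃ₗ[ZMod p] V) (v : V)) ∧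
        ((ρ.range : Set (↥(W j.succ) ≃ₗ[ZMod p] ↥(W j.succ))) =
            {f : ↥(W j.succ) ≃ₗ[ZMod p] ↥(W j.succ) | LinearMap.det (f : ↥(W j.succ) →ₗ[ZMod p] ↥(W j.succ)) = 1} ∨
          ∃ B : LinearMap.BilinForm (ZMod p) ↥(W j.succ), B.IsAlt ∧ B.Nondegenerate ∧
            (ρ.range : Set (↥(W j.succ) ≃ₗ[ZMod p] ↥(W j.succ))) = {f : ↥(W j.succ) ≃ₗ[ZMod p] ↥(W j.succ) | ∀ x y, B (f x) (f y) = B x y})) := by
  obtain ⟨n, P, hn, hF, hgood⟩ := exists_fam hp2 hG hNP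
  refine ⟨n, famW P, fun j => Kblk H (P j), hn, hF.isInternal, ?_, ?_, ?_, ?_, ?_, ?_, ?_⟩
  · intro h hh i
    exact hF.map_eq hG hh i
  · intro j
    exact ⟨Kblk_le, hF.normal hG j⟩
  · exact hF.iSup_eq hG
  · intro j
    exact hF.inf_eq_bot j
  · intro j j' hjj a ha b hb
    exact hF.commute hjj ha hb
  · intro j h hh i hi v hv
    exact hF.trivial_action j hh i hi v hv
  · intro j
    exact exists_rho (hgood j) (famW P j.succ) rfl

end Cfsg.Agent.Lib.H18.ML
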