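import Mathlib
import Cfsg.Agent.Lib.H18.JordanSets

set_option autoImplicit false

/-!
Helper library (helper18): Marggraf's theorem, part 1.

Flats: Jordan complements of bounded size, assumed closed under intersection.
Any two flats of the same size over a common subflat are conjugate under the pointwise
stabilizer of the subflat; the "pencil" of hyperplanes through a maximal proper subflat.
-/

namespace Cfsg.Agent.Lib.H18.Marggraf

open MulAction
open scoped Pointwise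
open Cfsg.Agent.Lib.H18

section Basic
variable {G Ω : Type*} [Group G] [MulAction G Ω]

theorem JC_empty [IsPretransitive G Ω] : JC G (∅ : Set Ω) := by
  intro x _ y _
  obtain ⟨g, hg⟩ := exists_smul_eq G x y
  exact ⟨g, fun z hz => absurd hz (Set.notMem_empty z), hg⟩

theorem JC_singleton (h2 : IsMultiplyPretransitive G Ω 2) (a : Ω) : JC G ({a} : Set Ω) := by
  rw [is_two_pretransitive_iff] at h2
  intro x hx y hy
  have hxa : a ≠ x := fun h => hx (by rw [← h]; rfl)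
  have hya : a ≠ y := fun h => hy (by rw [← h]; rfl)
  obtain ⟨g, hg1, hg2⟩ := h2 hxa hya
  refine ⟨g, ?_, hg2⟩
  intro z hz
  rw [Set.mem_singleton_iff] at hz
  rw [hz, hg1]

theorem JC_pair (h3 : IsMultiplyPretransitive G Ω 3) {a b : Ω} (hab : a ≠ b) :
    JC G ({a, b} : Set Ω) := by
  intro x hx y hy
  have hxa : a ≠ x := fun h => hx (by rw [← h]; exact Set.mem_insert _ _)
  have hxb : b ≠ x := fun h => hx (by rw [← h]; exact Set.mem_insert_of_mem _ rfl)
  have hya : a ≠ y := fun h => hy (by rw [← h]; exact Set.mem_insert _ _)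
  have hyb : b ≠ y := fun h => hy (by rw [← h]; exact Set.mem_insert_of_mem _ rfl)
  let u : Fin 3 ↪ Ω := ⟨![a, b, x], by
    intro i j hij
    fin_cases i <;> fin_cases j <;>
      first
        | rfl
        | (exfalso; simp at hij
           first
             | exact hab hij | exact hab hij.symm | exact hxa hij | exact hxa hij.symm
             | exact hxb hij | exact hxb hij.symm)⟩
  let v : Fin 3 ↪ Ω := ⟨![a, b, y], by
    intro i j hij
    fin_cases i <;> fin_cases j <;>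
      first
        | rfl
        | (exfalso; simp at hij
           first
             | exact hab hij | exact hab hij.symm | exact hya hij | exact hya hij.symm
             | exact hyb hij | exact hyb hij.symm)⟩
  obtain ⟨g, hg⟩ := h3.exists_smul_eq u v
  have h0 : g • a = a := by
    have : g • u 0 = v 0 := by rw [← Function.Embedding.smul_apply, hg]
    exact this
  have h1 : g • b = b := by
    have : g • u 1 = v 1 := by rw [← Function.Embedding.smul_apply, hg]
    exact this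
  have h2 : g • x = y := by
    have : g • u 2 = v 2 := by rw [← Function.Embedding.smul_apply, hg]
    exact this
  refine ⟨g, ?_, h2⟩
  intro z hz
  rcases hz with rfl | hz
  · exact h0
  · rw [Set.mem_singleton_iff] at hz
    rw [hz, h1]

/-- A Jordan complement with at most one element, in a 2-transitive group. -/
theorem JC_of_ncard_le_one [Finite Ω] (h2 : IsMultiplyPretransitive G Ω 2) [IsPretransitive G Ω]
    (s : Set Ω) (hs : s.ncard ≤ 1) : JC G s := by
  rcases Nat.lt_or_ge s.ncard 1 with h | h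
  · have : s = ∅ := by
      have h0 : s.ncard = 0 := by omega
      exact (Set.ncard_eq_zero (Set.toFinite s)).mp h0
    rw [this]
    exact JC_empty
  · have h1 : s.ncard = 1 := le_antisymm hs h
    obtain ⟨a, rfl⟩ := Set.ncard_eq_one.mp h1
    exact JC_singleton h2 a

end Basic

section Flats
variable {G Ω : Type*} [Group G] [MulAction G Ω] [Finite Ω]

/-- A flat: a Jordan complement with at most `c` points. -/
def Flat (G : Type*) {Ω : Type*} [Group G] [MulAction G Ω] (c : ℕ) (s : Set Ω) : Prop :=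
  JC G s ∧ s.ncard ≤ c

/-- The flats are closed under intersection. -/
def FlatSys (G : Type*) (Ω : Type*) [Group G] [MulAction G Ω] (c : ℕ) : Prop :=
  ∀ s t : Set Ω, Flat G c s → Flat G c t → Flat G c (s ∩ t)

variable {c : ℕ}

omit [Finite Ω] in
theorem Flat.smul {s : Set Ω} (h : Flat G c s) (g : G) : Flat G c (g • s) :=
  ⟨h.1.smul g, by rw [Set.ncard_smul_set]; exact h.2⟩

omit [Finite Ω] in
theorem smul_set_eq_of_fix {s : Set Ω} {k : G} (hk : ∀ z ∈ s, k • z = z) : k • s = s := by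
  ext z
  constructor
  · rintro ⟨w, hw, rfl⟩
    show k • w ∈ s
    rw [hk w hw]
    exact hw
  · intro hz
    exact ⟨z, hz, hk z hz⟩

/-- The smallest flat containing a set contained in some flat. -/
theorem exists_minFlat (hsys : FlatSys G Ω c) (S E₀ : Set Ω) (hE₀ : Flat G c E₀) (hS : S ⊆ E₀) :
    ∃ E : Set Ω, Flat G c E ∧ S ⊆ E ∧ ∀ E' : Set Ω, Flat G c E' → S ⊆ E' → E ⊆ E' := by
  classical
  have hex : ∃ k : ℕ, ∃ t : Set Ω, Flat G c t ∧ S ⊆ t ∧ t.ncard = k := ⟨_, E₀, hE₀, hS, rfl⟩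
  obtain ⟨E, hE1, hE2, hE3⟩ := Nat.find_spec hex
  refine ⟨E, hE1, hE2, ?_⟩
  intro E' hE' hSE'
  have hflat : Flat G c (E ∩ E') := hsys E E' hE1 hE'
  have hsub : S ⊆ E ∩ E' := Set.subset_inter hE2 hSE'
  have hmin : E.ncard ≤ (E ∩ E').ncard := by
    rw [hE3]
    exact Nat.find_min' hex ⟨E ∩ E', hflat, hsub, rfl⟩
  have heq : E ∩ E' = E := Set.eq_of_subset_of_ncard_le Set.inter_subset_left hmin
  rw [← heq]
  exact Set.inter_subset_right

/-- Two flats of the same size containing a common flat `E₀` are conjugate under the pointwise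
stabilizer of `E₀`. -/
theorem conj_of_flats (hsys : FlatSys G Ω c) :
    ∀ (d : ℕ) (E₀ D D' : Set Ω), Flat G c E₀ → Flat G c D → Flat G c D' → E₀ ⊆ D → E₀ ⊆ D' →
      D.ncard = D'.ncard → D.ncard - E₀.ncard = d →
      ∃ k : G, (∀ z ∈ E₀, k • z = z) ∧ k • D = D' := by
  intro d
  induction d using Nat.strong_induction_on with
  | _ d ih =>
    intro E₀ D D' hE₀ hD hD' hsub hsub' hcard hd
    have hle : E₀.ncard ≤ D.ncard := Set.ncard_le_ncard hsub
    rcases Nat.eq_or_lt_of_le hle with heq | hlt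
    · have h1 : E₀ = D := Set.eq_of_subset_of_ncard_le hsub (by omega)
      have h2 : E₀ = D' := Set.eq_of_subset_of_ncard_le hsub' (by omega)
      refine ⟨1, fun z _ => one_smul _ _, ?_⟩
      rw [one_smul, ← h1, h2]
    · obtain ⟨x, hxD, hxE⟩ := Set.exists_mem_notMem_of_ncard_lt_ncard hlt
      have hlt' : E₀.ncard < D'.ncard := by omega
      obtain ⟨x', hxD', hxE'⟩ := Set.exists_mem_notMem_of_ncard_lt_ncard hlt'
      obtain ⟨k₀, hk₀, hk₀x⟩ := hE₀.1 x hxE x' hxE'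
      have hD₁ : Flat G c (k₀ • D) := hD.smul k₀
      have hE₀D₁ : E₀ ⊆ k₀ • D := by
        intro z hz
        exact ⟨z, hsub hz, hk₀ z hz⟩
      have hx'D₁ : x' ∈ k₀ • D := ⟨x, hxD, hk₀x⟩
      have hS' : E₀ ∪ {x'} ⊆ D' := by
        intro z hz
        rcases hz with hz | hz
        · exact hsub' hz
        · rw [Set.mem_singleton_iff] at hz
          rw [hz]
          exact hxD'
      obtain ⟨E₁, hE₁, hSE₁, hE₁min⟩ := exists_minFlat hsys (E₀ ∪ {x'}) D' hD' hS'
      have hE₁D' : E₁ ⊆ D' := hE₁min D' hD' hS'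
      have hE₁D₁ : E₁ ⊆ k₀ • D := by
        apply hE₁min _ hD₁
        intro z hz
        rcases hz with hz | hz
        · exact hE₀D₁ hz
        · rw [Set.mem_singleton_iff] at hz
          rw [hz]
          exact hx'D₁
      have hE₀E₁ : E₀ ⊆ E₁ := fun z hz => hSE₁ (Or.inl hz)
      have hx'E₁ : x' ∈ E₁ := hSE₁ (Or.inr rfl)
      have hlt₁ : E₀.ncard < E₁.ncard := by
        apply Set.ncard_lt_ncard _ (Set.toFinite _)
        refine ⟨hE₀E₁, fun h => hxE' (h hx'E₁)⟩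
      have hE₁le : E₁.ncard ≤ D'.ncard := Set.ncard_le_ncard hE₁D'
      have hcard₁ : (k₀ • D).ncard = D'.ncard := by rw [Set.ncard_smul_set]; exact hcard
      obtain ⟨k₁, hk₁, hk₁D⟩ := ih ((k₀ • D).ncard - E₁.ncard) (by rw [hcard₁]; omega)
        E₁ (k₀ • D) D' hE₁ hD₁ hD' hE₁D₁ hE₁D' hcard₁ rfl
      refine ⟨k₁ * k₀, ?_, ?_⟩
      · intro z hz
        rw [mul_smul, hk₀ z hz, hk₁ z (hE₀E₁ hz)]
      · rw [mul_smul, hk₁D]

theorem conj_of_flats' (hsys : FlatSys G Ω c) {E₀ D D' : Set Ω} (hE₀ : Flat G c E₀)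
    (hD : Flat G c D) (hD' : Flat G c D') (hsub : E₀ ⊆ D) (hsub' : E₀ ⊆ D')
    (hcard : D.ncard = D'.ncard) : ∃ k : G, (∀ z ∈ E₀, k • z = z) ∧ k • D = D' :=
  conj_of_flats hsys _ E₀ D D' hE₀ hD hD' hsub hsub' hcard rfl

end Flats

section Pencil
variable {G Ω : Type*} [Group G] [MulAction G Ω] [Finite Ω] {c : ℕ}

/-- `F` is a proper subflat of `Δ` of maximal size. -/
structure MaxSub (G : Type*) {Ω : Type*} [Group G] [MulAction G Ω] (c : ℕ) (Δ F : Set Ω) :
    Prop where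
  flat : Flat G c F
  sub : F ⊆ Δ
  ne : F ≠ Δ
  max : ∀ E : Set Ω, Flat G c E → E ⊆ Δ → E ≠ Δ → E.ncard ≤ F.ncard

theorem exists_maxSub [IsPretransitive G Ω] (Δ : Set Ω) (hne : Δ.Nonempty) :
    ∃ F : Set Ω, MaxSub G c Δ F := by
  classical
  have hex : ∃ k : ℕ, ∃ E : Set Ω, Flat G c E ∧ E ⊆ Δ ∧ E ≠ Δ ∧ E.ncard = k := by
    refine ⟨0, ∅, ⟨JC_empty, by simp⟩, Set.empty_subset _, ?_, by simp⟩
    intro h
    rw [← h] at hne
    exact Set.not_nonempty_empty hne
  have hbdd : ∀ k : ℕ, (∃ E : Set Ω, Flat G c E ∧ E ⊆ Δ ∧ E ≠ Δ ∧ E.ncard = k) → k ≤ Δ.ncard := by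
    rintro k ⟨E, -, hE, -, rfl⟩
    exact Set.ncard_le_ncard hE
  obtain ⟨F, hF1, hF2, hF3, hF4⟩ := Nat.findGreatest_spec (P := fun k =>
    ∃ E : Set Ω, Flat G c E ∧ E ⊆ Δ ∧ E ≠ Δ ∧ E.ncard = k) (n := Δ.ncard)
    (hbdd _ (Nat.find_spec hex)) (Nat.find_spec hex)
  refine ⟨F, hF1, hF2, hF3, ?_⟩
  intro E hE1 hE2 hE3
  rw [hF4]
  exact Nat.le_findGreatest (hbdd _ ⟨E, hE1, hE2, hE3, rfl⟩) ⟨E, hE1, hE2, hE3, rfl⟩

variable {Δ F : Set Ω}

/-- In a hyperplane `D` (a flat of the size of `Δ`) through `F`, there is no flat strictly between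
`F` and `D`. -/
theorem MaxSub.eq_of_between (hsys : FlatSys G Ω c) (hΔ : Flat G c Δ) (hF : MaxSub G c Δ F)
    {D E : Set Ω} (hD : Flat G c D) (hFD : F ⊆ D) (hcard : D.ncard = Δ.ncard)
    (hE : Flat G c E) (hFE : F ⊆ E) (hED : E ⊆ D) (hne : E ≠ F) : E = D := by
  obtain ⟨k, hk, hkD⟩ := conj_of_flats' hsys hF.flat hD hΔ hFD hF.sub hcard
  have hkF : k • F = F := smul_set_eq_of_fix hk
  have hkE : Flat G c (k • E) := hE.smul k
  have hsubΔ : k • E ⊆ Δ := by
    rw [← hkD]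
    exact Set.smul_set_mono hED
  have hFkE : F ⊆ k • E := by
    rw [← hkF]
    exact Set.smul_set_mono hFE
  have hlt : F.ncard < E.ncard := by
    apply Set.ncard_lt_ncard _ (Set.toFinite _)
    refine ⟨hFE, fun h => hne (Set.Subset.antisymm h hFE)⟩
  have hkEΔ : k • E = Δ := by
    by_contra hcon
    have := hF.max (k • E) hkE hsubΔ hcon
    rw [Set.ncard_smul_set] at this
    omega
  have : k • E = k • D := by rw [hkEΔ, hkD]
  exact (smul_left_cancel k this)

/-- Two hyperplanes through `F` are equal or meet exactly in `F`. -/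
theorem MaxSub.inter_eq (hsys : FlatSys G Ω c) (hΔ : Flat G c Δ) (hF : MaxSub G c Δ F)
    {D D' : Set Ω} (hD : Flat G c D) (hFD : F ⊆ D) (hcard : D.ncard = Δ.ncard)
    (hD' : Flat G c D') (hFD' : F ⊆ D') (hcard' : D'.ncard = Δ.ncard) :
    D = D' ∨ D ∩ D' = F := by
  by_cases h : D ∩ D' = F
  · exact Or.inr h
  · left
    have hE : Flat G c (D ∩ D') := hsys D D' hD hD'
    have hFE : F ⊆ D ∩ D' := Set.subset_inter hFD hFD'
    have h1 := hF.eq_of_between hsys hΔ hD hFD hcard hE hFE Set.inter_subset_left h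
    have h2 := hF.eq_of_between hsys hΔ hD' hFD' hcard' hE hFE Set.inter_subset_right h
    rw [← h1, h2]

/-- Through every point outside `F` there is a hyperplane containing `F`. -/
theorem MaxSub.exists_hyperplane (hΔ : Flat G c Δ) (hF : MaxSub G c Δ F) (x : Ω) (hx : x ∉ F) :
    ∃ D : Set Ω, Flat G c D ∧ F ⊆ D ∧ x ∈ D ∧ D.ncard = Δ.ncard := by
  have hlt : F.ncard < Δ.ncard := by
    apply Set.ncard_lt_ncard _ (Set.toFinite _)
    exact ⟨hF.sub, fun h => hF.ne (Set.Subset.antisymm hF.sub h)⟩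
  obtain ⟨δ, hδΔ, hδF⟩ := Set.exists_mem_notMem_of_ncard_lt_ncard hlt
  obtain ⟨k, hk, hkx⟩ := hF.flat.1 δ hδF x hx
  refine ⟨k • Δ, hΔ.smul k, ?_, ⟨δ, hδΔ, hkx⟩, Set.ncard_smul_set _ _⟩
  intro z hz
  exact ⟨z, hF.sub hz, hk z hz⟩

/-- The stabilizer of `Δ` in the pointwise stabilizer of `F` is transitive on `Δ \ F`. -/
theorem MaxSub.exists_fix (hsys : FlatSys G Ω c) (hΔ : Flat G c Δ) (hF : MaxSub G c Δ F)
    {y y' : Ω} (hy : y ∈ Δ) (hyF : y ∉ F) (hy' : y' ∈ Δ) (hy'F : y' ∉ F) :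
    ∃ k : G, (∀ z ∈ F, k • z = z) ∧ k • y = y' ∧ k • Δ = Δ := by
  obtain ⟨k, hk, hky⟩ := hF.flat.1 y hyF y' hy'F
  refine ⟨k, hk, hky, ?_⟩
  have hFk : F ⊆ k • Δ := by
    intro z hz
    exact ⟨z, hF.sub hz, hk z hz⟩
  rcases hF.inter_eq hsys hΔ (hΔ.smul k) hFk (Set.ncard_smul_set _ _) hΔ hF.sub rfl with h | h
  · exact h
  · exfalso
    apply hy'F
    rw [← h]
    exact ⟨⟨y, hy, hky⟩, hy'⟩

/-- If `F` has at least two points fewer than... : the complement of `Δ` contains two disjoint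
translates of `Δ \ F`; hence `2 (|Δ| - |F|) ≤ |Δᶜ|` as soon as `|Δᶜ| ≠ |Δ| - |F|`. -/
theorem MaxSub.two_mul_le (hsys : FlatSys G Ω c) (hΔ : Flat G c Δ) (hF : MaxSub G c Δ F)
    (hne : Δᶜ.ncard ≠ Δ.ncard - F.ncard) (hΓ : Δᶜ.Nonempty) :
    2 * (Δ.ncard - F.ncard) ≤ Δᶜ.ncard := by
  obtain ⟨x, hx⟩ := hΓ
  have hxF : x ∉ F := fun h => hx (hF.sub h)
  obtain ⟨D, hD, hFD, hxD, hDc⟩ := hF.exists_hyperplane hΔ x hxF
  have hDΔ : D ∩ Δ = F := by
    rcases hF.inter_eq hsys hΔ hD hFD hDc hΔ hF.sub rfl with h | h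
    · exact absurd (h ▸ hxD) hx
    · exact h
  have hDF : (D \ F).ncard = Δ.ncard - F.ncard := by
    rw [Set.ncard_sdiff hFD (Set.toFinite _), hDc]
  have hDFsub : D \ F ⊆ Δᶜ := by
    intro z hz hzΔ
    apply hz.2
    rw [← hDΔ]
    exact ⟨hz.1, hzΔ⟩
  have hlt : (D \ F).ncard < Δᶜ.ncard := by
    have h1 := Set.ncard_le_ncard hDFsub (Set.toFinite _)
    omega
  obtain ⟨x', hx', hx'D⟩ := Set.exists_mem_notMem_of_ncard_lt_ncard hlt
  have hx'F : x' ∉ F := fun h => hx' (hF.sub h)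
  obtain ⟨D', hD', hFD', hxD', hDc'⟩ := hF.exists_hyperplane hΔ x' hx'F
  have hD'Δ : D' ∩ Δ = F := by
    rcases hF.inter_eq hsys hΔ hD' hFD' hDc' hΔ hF.sub rfl with h | h
    · exact absurd (h ▸ hxD') hx'
    · exact h
  have hDD' : D ∩ D' = F := by
    rcases hF.inter_eq hsys hΔ hD hFD hDc hD' hFD' hDc' with h | h
    · exfalso
      apply hx'D
      refine ⟨h ▸ hxD', hx'F⟩
    · exact h
  have hD'F : (D' \ F).ncard = Δ.ncard - F.ncard := by
    rw [Set.ncard_sdiff hFD' (Set.toFinite _), hDc']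
  have hD'Fsub : D' \ F ⊆ Δᶜ := by
    intro z hz hzΔ
    apply hz.2
    rw [← hD'Δ]
    exact ⟨hz.1, hzΔ⟩
  have hdisj : Disjoint (D \ F) (D' \ F) := by
    rw [Set.disjoint_left]
    intro z hz hz'
    apply hz.2
    rw [← hDD']
    exact ⟨hz.1, hz'.1⟩
  have hunion : ((D \ F) ∪ (D' \ F)).ncard = (D \ F).ncard + (D' \ F).ncard :=
    Set.ncard_union_eq hdisj (Set.toFinite _) (Set.toFinite _)
  have hle : ((D \ F) ∪ (D' \ F)).ncard ≤ Δᶜ.ncard :=
    Set.ncard_le_ncard (Set.union_subset hDFsub hD'Fsub) (Set.toFinite _)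
  omega

end Pencil

end Cfsg.Agent.Lib.H18.Marggraf
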