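import Mathlib
import Cfsg.Agent.Lib.H18.JordanSets

set_option autoImplicit false

/-!
Helper library (helper18): Marggraf's theorem, part 2.

Instance-free notions `ActsAsThreeCycle`, `AltInduced`, and the counting lemma: if the setwise
stabilizer of the (large) complement `Δ` of a Jordan set `Γ` induces all even permutations of `Δ`,
then the group contains a 3-cycle.
-/

namespace Cfsg.Agent.Lib.H18.Marggraf

open MulAction Equiv
open scoped Pointwise
open Cfsg.Agent.Lib.H18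

section Defs
variable {G Ω : Type*} [Group G] [MulAction G Ω]

/-- `g` acts on `Ω` as a 3-cycle. -/
def ActsAsThreeCycle (Ω : Type*) {G : Type*} [Group G] [MulAction G Ω] (g : G) : Prop :=
  ∃ a b c : Ω, a ≠ b ∧ b ≠ c ∧ a ≠ c ∧ g • a = b ∧ g • b = c ∧ g • c = a ∧
    ∀ x, x ≠ a → x ≠ b → x ≠ c → g • x = x

/-- Every even permutation of `Ω` is induced by an element of `G`. -/
def AltInduced (G Ω : Type*) [Group G] [MulAction G Ω] : Prop :=
  ∀ (_ : Fintype Ω) (_ : DecidableEq Ω) (σ : Perm Ω), Equiv.Perm.sign σ = 1 →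
    ∃ g : G, ∀ x, g • x = σ x

theorem ActsAsThreeCycle.toPerm_eq [DecidableEq Ω] {g : G} {a b c : Ω}
    (hab : a ≠ b) (hbc : b ≠ c) (hac : a ≠ c) (h1 : g • a = b) (h2 : g • b = c) (h3 : g • c = a)
    (h4 : ∀ x, x ≠ a → x ≠ b → x ≠ c → g • x = x) :
    (MulAction.toPerm g : Perm Ω) = swap a b * swap b c := by
  ext x
  simp only [MulAction.toPerm_apply, Perm.mul_apply]
  by_cases hxa : x = a
  · subst hxa
    rw [swap_apply_of_ne_of_ne hab hac, swap_apply_left, h1]
  by_cases hxb : x = b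
  · subst hxb
    rw [swap_apply_left, swap_apply_of_ne_of_ne hac.symm hbc.symm, h2]
  by_cases hxc : x = c
  · subst hxc
    rw [swap_apply_right, swap_apply_right, h3]
  rw [swap_apply_of_ne_of_ne hxb hxc, swap_apply_of_ne_of_ne hxa hxb, h4 x hxa hxb hxc]

theorem ActsAsThreeCycle.isThreeCycle [Fintype Ω] [DecidableEq Ω] {g : G}
    (h : ActsAsThreeCycle Ω g) : (MulAction.toPerm g : Perm Ω).IsThreeCycle := by
  obtain ⟨a, b, c, hab, hbc, hac, h1, h2, h3, h4⟩ := h
  rw [ActsAsThreeCycle.toPerm_eq hab hbc hac h1 h2 h3 h4]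
  have := Equiv.Perm.isThreeCycle_swap_mul_swap_same hab.symm hbc (hac)
  -- `swap b a * swap b c`
  rwa [swap_comm b a] at this

/-- A primitive group containing an element acting as a 3-cycle induces all even permutations. -/
theorem altInduced_of_threeCycle (hprim : IsPreprimitive G Ω) {g : G}
    (h : ActsAsThreeCycle Ω g) : AltInduced G Ω := by
  intro _ _ σ hσ
  let φ : G →* Perm Ω := MulAction.toPermHom G Ω
  let H : Subgroup (Perm Ω) := φ.range
  let f : Ω →ₑ[φ.rangeRestrict] Ω :=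
    { toFun := id
      map_smul' := fun m x => rfl }
  have hprimH : IsPreprimitive H Ω :=
    IsPreprimitive.of_surjective (f := f) Function.surjective_id
  have hmem : (MulAction.toPerm g : Perm Ω) ∈ H := ⟨g, rfl⟩
  have hle := Equiv.Perm.alternatingGroup_le_of_isPreprimitive_of_isThreeCycle_mem
    hprimH h.isThreeCycle hmem
  have hσmem : σ ∈ alternatingGroup Ω := Equiv.Perm.mem_alternatingGroup.mpr hσ
  obtain ⟨g', hg'⟩ := hle hσmem
  refine ⟨g', fun x => ?_⟩
  rw [← hg']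
  rfl

end Defs

section Count
variable {G Ω : Type*} [Group G] [MulAction G Ω]

attribute [local instance] Classical.propDecidable

/-- Local `Fintype` instance on subsets of a finite type. -/
noncomputable local instance fintypeSubset [Finite Ω] (s : Set Ω) : Fintype ↥s :=
  Fintype.ofFinite _

theorem smul_notMem_of_stab {Δ : Set Ω} {g : G} (hg : g • Δ = Δ) {x : Ω} (hx : x ∉ Δ) :
    g • x ∉ Δ := by
  intro h
  apply hx
  have : g • x ∈ g • Δ := by rw [hg]; exact h
  exact Set.smul_mem_smul_set_iff.mp this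

theorem smul_set_eq_of_fix' {s : Set Ω} {k : G} (hk : ∀ z ∈ s, k • z = z) : k • s = s := by
  ext z
  constructor
  · rintro ⟨w, hw, rfl⟩
    show k • w ∈ s
    rw [hk w hw]
    exact hw
  · intro hz
    exact ⟨z, hz, hk z hz⟩

theorem inv_smul_set_of_stab {Δ : Set Ω} {g : G} (hg : g • Δ = Δ) : g⁻¹ • Δ = Δ := by
  rw [inv_smul_eq_iff, hg]

/-- Even permutations of `Δ` induced by elements of `G` fixing the complement of `Δ` pointwise. -/
noncomputable def inducedFix (G : Type*) {Ω : Type*} [Group G] [MulAction G Ω] [Finite Ω]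
    (Δ : Set Ω) : Subgroup (alternatingGroup ↥Δ) :=
  { carrier := {σ | ∃ g : G, (∀ x, x ∉ Δ → g • x = x) ∧
      ∀ y : ↥Δ, g • (y : Ω) = (((σ : Perm ↥Δ) y : ↥Δ) : Ω)}
    one_mem' := ⟨1, fun x _ => one_smul _ _, fun y => by simp⟩
    mul_mem' := by
      rintro σ τ ⟨g, hg1, hg2⟩ ⟨k, hk1, hk2⟩
      refine ⟨g * k, ?_, ?_⟩
      · intro x hx
        rw [mul_smul, hk1 x hx, hg1 x hx]
      · intro y
        rw [mul_smul, hk2 y, hg2]
        rfl
    inv_mem' := by
      rintro σ ⟨g, hg1, hg2⟩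
      refine ⟨g⁻¹, ?_, ?_⟩
      · intro x hx
        rw [inv_smul_eq_iff, hg1 x hx]
      · intro y
        rw [inv_smul_eq_iff, hg2]
        simp }

theorem mem_inducedFix [Finite Ω] {Δ : Set Ω} (σ : alternatingGroup ↥Δ) :
    σ ∈ inducedFix G Δ ↔ ∃ g : G, (∀ x, x ∉ Δ → g • x = x) ∧
      ∀ y : ↥Δ, g • (y : Ω) = (((σ : Perm ↥Δ) y : ↥Δ) : Ω) := Iff.rfl

theorem inducedFix_normal [Finite Ω] {Δ : Set Ω} (hAlt : AltInduced (stabilizer G Δ) ↥Δ) :
    (inducedFix G Δ).Normal := by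
  constructor
  rintro n ⟨g, hg1, hg2⟩ τ
  obtain ⟨s, hs⟩ := hAlt inferInstance inferInstance (τ : Perm ↥Δ)
    (Equiv.Perm.mem_alternatingGroup.mp τ.2)
  have hs' : ∀ y : ↥Δ, (s : G) • (y : Ω) = (((τ : Perm ↥Δ) y : ↥Δ) : Ω) := by
    intro y
    have := congrArg (fun z : ↥Δ => (z : Ω)) (hs y)
    exact this
  have hsΔ : (s : G) • Δ = Δ := mem_stabilizer_iff.mp s.2
  have hsinv : ∀ y : ↥Δ, (s : G)⁻¹ • (y : Ω) = ((((τ : Perm ↥Δ)⁻¹) y : ↥Δ) : Ω) := by
    intro y
    rw [inv_smul_eq_iff, hs']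
    simp
  refine ⟨(s : G) * g * (s : G)⁻¹, ?_, ?_⟩
  · intro x hx
    have hx' : (s : G)⁻¹ • x ∉ Δ := smul_notMem_of_stab (inv_smul_set_of_stab hsΔ) hx
    rw [mul_smul, mul_smul, hg1 _ hx', smul_inv_smul]
  · intro y
    rw [mul_smul, mul_smul, hsinv y, hg2, hs']
    rfl

/-- The counting lemma. -/
theorem exists_threeCycle_of_altInduced_compl [Finite Ω] (Γ : Set Ω) (hΓ2 : 2 ≤ Γ.ncard)
    (hlt : Γ.ncard < Γᶜ.ncard) (h5 : 5 ≤ Γᶜ.ncard) (hJ : JC G Γᶜ)
    (hAlt : AltInduced (stabilizer G Γᶜ) ↥(Γᶜ)) : ∃ g : G, ActsAsThreeCycle Ω g := by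
  set Δ : Set Ω := Γᶜ with hΔdef
  have hcardΔ : Nat.card ↥Δ = Δ.ncard := Nat.card_coe_set_eq Δ
  have hsimple : IsSimpleGroup (alternatingGroup ↥Δ) :=
    alternatingGroup.isSimpleGroup (by rw [hcardΔ]; exact h5)
  have hnormal : (inducedFix G Δ).Normal := inducedFix_normal hAlt
  haveI := hsimple
  rcases hnormal.eq_bot_or_eq_top with hbot | htop
  · -- counting
    exfalso
    obtain ⟨x₀, hx₀⟩ : Γ.Nonempty := by
      rw [← Set.ncard_pos (Set.toFinite _)]
      omega
    have hx₀Δ : x₀ ∉ Δ := fun h => h hx₀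
    have hex1 : ∀ x : ↥Γ, ∃ h : G, (∀ z ∈ Δ, h • z = z) ∧ h • x₀ = (x : Ω) := by
      intro x
      exact hJ x₀ hx₀Δ x (fun h => h x.2)
    choose hf hf1 hf2 using hex1
    have hex2 : ∀ σ : alternatingGroup ↥Δ, ∃ s : stabilizer G Δ,
        ∀ y : ↥Δ, (s : G) • (y : Ω) = (((σ : Perm ↥Δ) y : ↥Δ) : Ω) := by
      intro σ
      obtain ⟨s, hs⟩ := hAlt inferInstance inferInstance (σ : Perm ↥Δ)
        (Equiv.Perm.mem_alternatingGroup.mp σ.2)
      refine ⟨s, fun y => ?_⟩
      have := congrArg (fun z : ↥Δ => (z : Ω)) (hs y)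
      exact this
    choose sf hsf using hex2
    have hstabΓ : ∀ g : G, g • Δ = Δ → g ∈ stabilizer G Γ := by
      intro g hg
      have : g ∈ stabilizer G Δ := mem_stabilizer_iff.mpr hg
      rwa [hΔdef, stabilizer_compl] at this
    have hfΔ : ∀ x : ↥Γ, hf x • Δ = Δ := fun x => smul_set_eq_of_fix' (hf1 x)
    have hsΔ : ∀ σ : alternatingGroup ↥Δ, (sf σ : G) • Δ = Δ :=
      fun σ => mem_stabilizer_iff.mp (sf σ).2
    have hprodΔ : ∀ (x : ↥Γ) (σ : alternatingGroup ↥Δ), (hf x * (sf σ : G)) • Δ = Δ := by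
      intro x σ
      rw [mul_smul, hsΔ, hfΔ]
    let F : ↥Γ × alternatingGroup ↥Δ → Perm ↥Γ := fun p =>
      MulAction.toPerm (⟨hf p.1 * (sf p.2 : G), hstabΓ _ (hprodΔ p.1 p.2)⟩ : stabilizer G Γ)
    have hFapp : ∀ (p : ↥Γ × alternatingGroup ↥Δ) (z : ↥Γ),
        ((F p z : ↥Γ) : Ω) = (hf p.1 * (sf p.2 : G)) • (z : Ω) := fun p z => rfl
    have hFinj : Function.Injective F := by
      rintro ⟨x, σ⟩ ⟨x', σ'⟩ hEq
      have hagree : ∀ z : Ω, z ∉ Δ → (hf x * (sf σ : G)) • z = (hf x' * (sf σ' : G)) • z := by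
        intro z hz
        have hzΓ : z ∈ Γ := by
          by_contra h
          exact hz h
        have := congrArg (fun π : Perm ↥Γ => ((π ⟨z, hzΓ⟩ : ↥Γ) : Ω)) hEq
        simpa only [hFapp] using this
      -- the element w
      have hσ : σ = σ' := by
        have hmem : σ⁻¹ * σ' ∈ inducedFix G Δ := by
          refine ⟨(hf x * (sf σ : G))⁻¹ * (hf x' * (sf σ' : G)), ?_, ?_⟩
          · intro z hz
            rw [mul_smul, inv_smul_eq_iff, hagree z hz]
          · intro y
            have h1 : (hf x' * (sf σ' : G)) • (y : Ω) = (((σ' : Perm ↥Δ) y : ↥Δ) : Ω) := by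
              rw [mul_smul, hsf, hf1 x' _ (Subtype.prop _)]
            have h2 : (hf x * (sf σ : G)) • ((((σ⁻¹ * σ' : alternatingGroup ↥Δ) : Perm ↥Δ) y : ↥Δ) : Ω)
                = (((σ' : Perm ↥Δ) y : ↥Δ) : Ω) := by
              rw [mul_smul, hsf, hf1 x _ (Subtype.prop _)]
              simp
            rw [mul_smul, inv_smul_eq_iff, h1, h2]
        rw [hbot, Subgroup.mem_bot] at hmem
        exact inv_mul_eq_one.mp hmem
      subst hσ
      have hxx : (x : Ω) = (x' : Ω) := by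
        have hz : (sf σ : G)⁻¹ • x₀ ∉ Δ :=
          smul_notMem_of_stab (inv_smul_set_of_stab (hsΔ σ)) hx₀Δ
        have := hagree _ hz
        rw [mul_smul, mul_smul, smul_inv_smul, hf2, hf2] at this
        exact this
      have : x = x' := Subtype.ext hxx
      rw [this]
    have hcard := Fintype.card_le_of_injective F hFinj
    rw [Fintype.card_prod, Fintype.card_perm] at hcard
    have hcΓ : Fintype.card ↥Γ = Γ.ncard := by
      rw [Fintype.card_eq_nat_card, Nat.card_coe_set_eq]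
    have hcΔ : Fintype.card ↥Δ = Δ.ncard := by
      rw [Fintype.card_eq_nat_card, Nat.card_coe_set_eq]
    haveI : Nontrivial ↥Δ := by
      rw [← Fintype.one_lt_card_iff_nontrivial, hcΔ]
      omega
    have hA : 2 * Fintype.card (alternatingGroup ↥Δ) = (Δ.ncard).factorial := by
      rw [two_mul_card_alternatingGroup, Fintype.card_perm, hcΔ]
    rw [hcΓ] at hcard
    set m := Γ.ncard with hm
    set d := Δ.ncard with hd
    have h1 : (m + 1).factorial ≤ d.factorial := Nat.factorial_le (by omega)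
    have h2 : (m + 1).factorial = (m + 1) * m.factorial := Nat.factorial_succ m
    have hpos : 0 < m.factorial := Nat.factorial_pos m
    have h3 : m * d.factorial ≤ 2 * m.factorial := by
      calc m * d.factorial = m * (2 * Fintype.card (alternatingGroup ↥Δ)) := by rw [hA]
        _ = 2 * (m * Fintype.card (alternatingGroup ↥Δ)) := by ring
        _ ≤ 2 * m.factorial := Nat.mul_le_mul_left 2 hcard
    have h4 : m * ((m + 1) * m.factorial) ≤ m * d.factorial := by
      apply Nat.mul_le_mul_left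
      rw [← h2]
      exact h1
    have h5' : 6 * m.factorial ≤ m * ((m + 1) * m.factorial) := by
      have : 6 ≤ m * (m + 1) := by nlinarith
      calc 6 * m.factorial ≤ (m * (m + 1)) * m.factorial := Nat.mul_le_mul_right _ this
        _ = m * ((m + 1) * m.factorial) := by ring
    omega
  · -- a 3-cycle
    obtain ⟨a, ha, b, hb, c, hc, hab, hac, hbc⟩ :=
      (Set.two_lt_ncard (Set.toFinite Δ)).mp (by omega : 2 < Δ.ncard)
    let a' : ↥Δ := ⟨a, ha⟩
    let b' : ↥Δ := ⟨b, hb⟩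
    let c' : ↥Δ := ⟨c, hc⟩
    have hab' : a' ≠ b' := fun h => hab (congrArg Subtype.val h)
    have hac' : a' ≠ c' := fun h => hac (congrArg Subtype.val h)
    have hbc' : b' ≠ c' := fun h => hbc (congrArg Subtype.val h)
    let τ : Perm ↥Δ := swap a' b' * swap b' c'
    have hτ : τ ∈ alternatingGroup ↥Δ := by
      rw [Equiv.Perm.mem_alternatingGroup]
      simp only [τ, map_mul, Equiv.Perm.sign_swap hab', Equiv.Perm.sign_swap hbc']
      rfl
    have hmem : (⟨τ, hτ⟩ : alternatingGroup ↥Δ) ∈ inducedFix G Δ := by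
      rw [htop]
      exact Subgroup.mem_top _
    obtain ⟨g, hg1, hg2⟩ := hmem
    refine ⟨g, a, b, c, hab, hbc, hac, ?_, ?_, ?_, ?_⟩
    · have := hg2 a'
      rw [this]
      show ((τ a' : ↥Δ) : Ω) = b
      simp only [τ, Perm.mul_apply]
      rw [swap_apply_of_ne_of_ne hab' hac', swap_apply_left]
    · have := hg2 b'
      rw [this]
      show ((τ b' : ↥Δ) : Ω) = c
      simp only [τ, Perm.mul_apply]
      rw [swap_apply_left, swap_apply_of_ne_of_ne hac'.symm hbc'.symm]
    · have := hg2 c'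
      rw [this]
      show ((τ c' : ↥Δ) : Ω) = a
      simp only [τ, Perm.mul_apply]
      rw [swap_apply_right, swap_apply_right]
    · intro x hxa hxb hxc
      by_cases hx : x ∈ Δ
      · have := hg2 ⟨x, hx⟩
        rw [this]
        show ((τ ⟨x, hx⟩ : ↥Δ) : Ω) = x
        have hxa' : (⟨x, hx⟩ : ↥Δ) ≠ a' := fun h => hxa (congrArg Subtype.val h)
        have hxb' : (⟨x, hx⟩ : ↥Δ) ≠ b' := fun h => hxb (congrArg Subtype.val h)
        have hxc' : (⟨x, hx⟩ : ↥Δ) ≠ c' := fun h => hxc (congrArg Subtype.val h)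
        simp only [τ, Perm.mul_apply]
        rw [swap_apply_of_ne_of_ne hxb' hxc', swap_apply_of_ne_of_ne hxa' hxb']
      · exact hg1 x hx

end Count

end Cfsg.Agent.Lib.H18.Marggraf
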