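import Mathlib
import Cfsg.Agent.Lib.H18.PermLift

/-!
# Miller's theorem on the degree of transitivity, part 1 (helper18)

Generic lemmas on permutation groups: a nontrivial element of small support in a
multiply transitive group yields a 3-cycle.
-/

set_option autoImplicit false

namespace Cfsg.Agent.Lib.H18.Miller

open MulAction Equiv

variable {α : Type*} [Fintype α] [DecidableEq α]

/-- If `G` is `t`-transitive and contains a nontrivial element `w` whose support lies in a
`t`-set `s`, and there is a point outside `s`, then `G` contains a 3-cycle. -/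
theorem exists_threeCycle_of_support_subset (G : Subgroup (Perm α)) (s : Finset α) (t : ℕ)
    (hs : s.card = t) (hG : IsMultiplyPretransitive G α t) {w : Perm α} (hw : w ∈ G)
    (hw1 : w ≠ 1) (hws : w.support ⊆ s) {c : α} (hc : c ∉ s) :
    ∃ τ ∈ G, τ.IsThreeCycle := by
  obtain ⟨b, hb⟩ : ∃ b, b ∈ w.support := by
    have : w.support.Nonempty := by
      rw [Finset.nonempty_iff_ne_empty, Ne, Perm.support_eq_empty_iff]; exact hw1
    exact this
  have hwb : w b ≠ b := Perm.mem_support.mp hb
  set a := w⁻¹ b with ha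
  have hwa : w a = b := by simp [ha]
  have hab : a ≠ b := by
    intro h
    rw [h] at hwa
    exact hwb hwa
  have hasupp : a ∈ w.support := by
    rw [Perm.mem_support, hwa]; exact hab.symm
  have has : a ∈ s := hws hasupp
  have hbs : b ∈ s := hws hb
  have hca : c ≠ a := fun h => hc (h ▸ has)
  have hcb : c ≠ b := fun h => hc (h ▸ hbs)
  have hwfix : ∀ z, z ∉ s → w z = z := fun z hz =>
    Perm.notMem_support.mp (fun h => hz (hws h))
  have hwinvfix : ∀ z, z ∉ s → w⁻¹ z = z := fun z hz => by
    rw [Perm.inv_eq_iff_eq, hwfix z hz]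
  have hws' : ∀ z, z ∈ s → w z ∈ s := by
    intro z hz
    by_cases h : z ∈ w.support
    · exact hws (Perm.apply_mem_support.mpr h)
    · rw [Perm.notMem_support.mp h]; exact hz
  obtain ⟨g, hgG, hg⟩ := exists_mem_agree_on G s t hs hG (swap b c)
  have hgb : g b = c := by rw [hg b hbs, swap_apply_left]
  have hgfix : ∀ x ∈ s, x ≠ b → g x = x := by
    intro x hx hxb
    rw [hg x hx, swap_apply_of_ne_of_ne hxb (fun h => hc (by rw [← h]; exact hx))]
  -- preimages under `g` of points outside `s ∪ {c}` (and of `b`) lie outside `s`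
  have hginv : ∀ z, z ≠ c → (z ∉ s ∨ z = b) → g⁻¹ z ∉ s := by
    intro z hzc hz hv
    by_cases hvb : g⁻¹ z = b
    · have : z = g b := by rw [← hvb]; simp
      rw [hgb] at this
      exact hzc this
    · have h1 := hgfix _ hv hvb
      have h2 : g (g⁻¹ z) = z := by simp
      rw [h2] at h1
      rcases hz with hz | hz
      · exact hz (h1 ▸ hv)
      · exact hvb (h1 ▸ hz)
  refine ⟨w⁻¹ * (g * w * g⁻¹), G.mul_mem (G.inv_mem hw)
    (G.mul_mem (G.mul_mem hgG hw) (G.inv_mem hgG)), ?_⟩
  have key : w⁻¹ * (g * w * g⁻¹) = swap a b * swap a c := by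
    ext z
    simp only [Perm.mul_apply]
    by_cases hza : z = a
    · subst hza
      have h1 : g⁻¹ a = a := by rw [Perm.inv_eq_iff_eq, hgfix a has hab]
      rw [h1, hwa, hgb, hwinvfix c hc, swap_apply_left, swap_apply_of_ne_of_ne hca hcb]
    by_cases hzb : z = b
    · subst hzb
      have h1 := hginv z hcb.symm (Or.inr rfl)
      rw [hwfix _ h1]
      have h2 : g (g⁻¹ z) = z := by simp
      rw [h2, swap_apply_of_ne_of_ne hab.symm hcb.symm, swap_apply_right]
    by_cases hzc : z = c
    · subst hzc
      have h1 : g⁻¹ z = b := by rw [Perm.inv_eq_iff_eq, hgb]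
      rw [h1]
      have h2 : w b ∈ s := hws' b hbs
      rw [hgfix _ h2 hwb]
      have h3 : w⁻¹ (w b) = b := by simp
      rw [h3, swap_apply_right, swap_apply_left]
    · rw [swap_apply_of_ne_of_ne hza hzc, swap_apply_of_ne_of_ne hza hzb]
      by_cases hzs : z ∈ s
      · have h1 : g⁻¹ z = z := by rw [Perm.inv_eq_iff_eq, hgfix z hzs hzb]
        rw [h1]
        have h2 : w z ∈ s := hws' z hzs
        have h3 : w z ≠ b := by
          intro h
          apply hza
          rw [ha, ← h]; simp
        rw [hgfix _ h2 h3]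
        simp
      · have h1 := hginv z hzc (Or.inl hzs)
        rw [hwfix _ h1]
        have h2 : g (g⁻¹ z) = z := by simp
        rw [h2, hwinvfix z hzs]
  rw [key]
  exact Perm.isThreeCycle_swap_mul_swap_same hab hca.symm hcb.symm

end Cfsg.Agent.Lib.H18.Miller
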