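import Mathlib
import Cfsg.Agent.Lib.H18.Miller1
import Cfsg.Agent.S0415
import Cfsg.Agent.S0713

/-!
# Miller's theorem, part 2: 4-transitive groups of degree 9 (helper18)
-/

set_option autoImplicit false

namespace Cfsg.Agent.Lib.H18.Miller

open MulAction Equiv

variable {α : Type*} [Fintype α] [DecidableEq α]

/-- A multiply transitive group (at least 2-transitive) containing a 3-cycle contains the
alternating group. -/
theorem alt_le_of_threeCycle (G : Subgroup (Perm α)) {m : ℕ} (hm : 2 ≤ m)
    (hmn : m ≤ Fintype.card α)
    (hG : IsMultiplyPretransitive G α m) {τ : Perm α} (hτ : τ ∈ G) (h3 : τ.IsThreeCycle) :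
    alternatingGroup α ≤ G := by
  have h2 : IsMultiplyPretransitive G α 2 :=
    isMultiplyPretransitive_of_le (n := m) hm (by rw [Nat.card_eq_fintype_card]; exact_mod_cast hmn)
  exact Equiv.Perm.alternatingGroup_le_of_isPreprimitive_of_isThreeCycle_mem
    (isPreprimitive_of_is_two_pretransitive h2) h3 hτ

/-- In a `t`-transitive group of degree `> t ≥ 2`, a nontrivial element moving at most `t` points
forces the alternating group. -/
theorem alt_le_of_small_support (G : Subgroup (Perm α)) {t : ℕ} (ht : 2 ≤ t)
    (htn : t < Fintype.card α) (hG : IsMultiplyPretransitive G α t) {w : Perm α} (hw : w ∈ G)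
    (hw1 : w ≠ 1) (hws : w.support.card ≤ t) : alternatingGroup α ≤ G := by
  obtain ⟨s, hss, hsc⟩ := Finset.exists_superset_card_eq hws htn.le
  obtain ⟨c, hc⟩ : ∃ c, c ∉ s := by
    by_contra h
    push_neg at h
    have : s = Finset.univ := Finset.eq_univ_iff_forall.mpr h
    rw [this, Finset.card_univ] at hsc
    omega
  obtain ⟨τ, hτ, h3⟩ := exists_threeCycle_of_support_subset G s t hsc hG hw hw1 hss hc
  exact alt_le_of_threeCycle G ht htn.le hG hτ h3

/-- A 4-transitive permutation group of degree 9 contains the alternating group. -/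
theorem alt_le_of_card_nine (G : Subgroup (Perm α)) (h9 : Fintype.card α = 9)
    (hG : IsMultiplyPretransitive G α 4) : alternatingGroup α ≤ G := by
  have h2 : IsMultiplyPretransitive G α 2 :=
    isMultiplyPretransitive_of_le (n := 4) (by norm_num) (by rw [Nat.card_eq_fintype_card, h9]; norm_num)
  have hprim : IsPreprimitive G α := isPreprimitive_of_is_two_pretransitive h2
  by_contra hnot
  have hsharp : ∀ x : Fin 4 ↪ α, stabilizer G x = ⊥ := by
    intro x
    by_contra hne
    obtain ⟨⟨s, hs⟩, hs1⟩ := (Subgroup.ne_bot_iff_exists_ne_one).mp hne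
    have hs1' : (s : Perm α) ≠ 1 := by
      intro h
      apply hs1
      ext1
      ext1
      exact h
    have hfix : ∀ i, (s : Perm α) (x i) = x i := by
      intro i
      have := DFunLike.congr_fun (mem_stabilizer_iff.mp hs) i
      exact this
    -- the support of `s` has at most 5 elements
    have hsupp : (s : Perm α).support ⊆ (Finset.univ.map x)ᶜ := by
      intro z hz
      rw [Finset.mem_compl, Finset.mem_map]
      rintro ⟨i, -, rfl⟩
      exact (Perm.mem_support.mp hz) (hfix i)
    have hcard5 : (s : Perm α).support.card ≤ 5 := by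
      have := Finset.card_le_card hsupp
      rw [Finset.card_compl, Finset.card_map, Finset.card_univ, Fintype.card_fin, h9] at this
      exact this
    set σ : Perm α := (s : Perm α) with hσ
    have hσG : σ ∈ G := s.2
    rcases Nat.lt_or_ge σ.support.card 5 with h4 | h5
    · exact hnot (alt_le_of_small_support G (by norm_num) (by rw [h9]; norm_num) hG hσG hs1'
        (by omega))
    -- prime order power
    have hord : orderOf σ ≠ 1 := by rwa [Ne, orderOf_eq_one_iff]
    set q := (orderOf σ).minFac with hq
    have hqp : q.Prime := Nat.minFac_prime hord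
    set t := σ ^ (orderOf σ / q) with ht
    have htord : orderOf t = q :=
      orderOf_pow_orderOf_div (orderOf_pos σ).ne' (Nat.minFac_dvd _)
    have htG : t ∈ G := G.pow_mem hσG _
    have ht1 : t ≠ 1 := by
      intro h
      rw [← orderOf_eq_one_iff, htord] at h
      exact hqp.one_lt.ne' h
    have htsupp : t.support ⊆ σ.support := Perm.support_pow_le σ _
    have htc : t.support.card ≤ 5 := (Finset.card_le_card htsupp).trans hcard5
    rcases Nat.lt_or_ge t.support.card 5 with h4 | h5'
    · exact hnot (alt_le_of_small_support G (by norm_num) (by rw [h9]; norm_num) hG htG ht1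
        (by omega))
    have htc5 : t.support.card = 5 := le_antisymm htc h5'
    obtain ⟨m, hm⟩ := Perm.cycleType_prime_order (σ := t) (by rw [htord]; exact hqp)
    rw [htord] at hm
    have hsum : (m + 1) * q = 5 := by
      have := Perm.sum_cycleType t
      rw [hm, Multiset.sum_replicate, smul_eq_mul, htc5] at this
      exact this
    have hq5 : q = 5 := by
      have : q ∣ 5 := Dvd.intro_left _ hsum
      exact (Nat.prime_dvd_prime_iff_eq hqp (by norm_num)).mp this
    have hm0 : m = 0 := by
      rw [hq5] at hsum; omega
    have hcyc : t.IsCycle := by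
      rw [← Perm.card_cycleType_eq_one, hm, hm0]; simp
    exact hnot (Cfsg.Agent.S0713.result G hprim (p := 5) (by norm_num) (by rw [h9]; norm_num)
      (by omega) hcyc htc5 htG)

  have := Cfsg.Agent.S0415.result G (by omega) hsharp
  omega

end Cfsg.Agent.Lib.H18.Miller
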