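import Mathlib
import Cfsg.Agent.Lib.H18.JordanSets
import Cfsg.Agent.Lib.H18.Marggraf1
import Cfsg.Agent.Lib.H18.Marggraf2
import Cfsg.Agent.Lib.H18.Miller9

set_option autoImplicit false

/-!
Helper library (helper18): Marggraf's theorem, part 3: the main induction.

A primitive group with a Jordan set `Γ`, `1 < |Γ| < n/2`, induces all even permutations.
-/

namespace Cfsg.Agent.Lib.H18.Marggraf

open MulAction Equiv
open scoped Pointwise
open Cfsg.Agent.Lib.H18

universe u v

section Aux
variable {G : Type*} {Ω : Type*} [Group G] [MulAction G Ω]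

/-- Membership in the range of `toPermHom` gives an inducing element. -/
theorem exists_of_mem_range {σ : Perm Ω} (h : σ ∈ (MulAction.toPermHom G Ω).range) :
    ∃ g : G, ∀ x, g • x = σ x := by
  obtain ⟨g, hg⟩ := h
  refine ⟨g, fun x => ?_⟩
  rw [← hg]
  rfl

/-- The image of a primitive group in the symmetric group is primitive. -/
theorem isPreprimitive_range (hprim : IsPreprimitive G Ω) :
    IsPreprimitive (MulAction.toPermHom G Ω).range Ω := by
  let φ : G →* Perm Ω := MulAction.toPermHom G Ω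
  let f : Ω →ₑ[φ.rangeRestrict] Ω :=
    { toFun := id
      map_smul' := fun m x => rfl }
  exact IsPreprimitive.of_surjective (f := f) Function.surjective_id

/-- The image of a `t`-transitive group in the symmetric group is `t`-transitive. -/
theorem isMultiplyPretransitive_range {t : ℕ} (h : IsMultiplyPretransitive G Ω t) :
    IsMultiplyPretransitive (MulAction.toPermHom G Ω).range Ω t := by
  let φ : G →* Perm Ω := MulAction.toPermHom G Ω
  let f : Ω →ₑ[φ.rangeRestrict] Ω :=
    { toFun := id
      map_smul' := fun m x => rfl }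
  exact IsPretransitive.of_embedding (f := f) Function.surjective_id

/-- Jordan sets with two or three points. -/
theorem altInduced_of_small [Finite Ω] (hprim : IsPreprimitive G Ω) (Γ : Set Ω)
    (h1 : 1 < Γ.ncard) (h3 : Γ.ncard ≤ 3) (hJ : JC G Γᶜ) : AltInduced G Ω := by
  intro _ _ σ hσ
  obtain ⟨x, hx, y, hy, hxy⟩ := (Set.one_lt_ncard (Set.toFinite Γ)).mp h1
  obtain ⟨h, hfix, hhx⟩ := hJ x (fun hh => hh hx) y (fun hh => hh hy)
  set π : Perm Ω := MulAction.toPerm h with hπ
  have hπmem : π ∈ (MulAction.toPermHom G Ω).range := ⟨h, rfl⟩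
  have hπ1 : π ≠ 1 := by
    intro hh
    have : π x = x := by rw [hh]; rfl
    have h2 : π x = y := hhx
    exact hxy (this.symm.trans h2)
  have hsupp : π.support ⊆ (Set.toFinite Γ).toFinset := by
    intro z hz
    rw [Set.Finite.mem_toFinset]
    by_contra hzΓ
    rw [Equiv.Perm.mem_support] at hz
    exact hz (hfix z hzΓ)
  have hcard : π.support.card ≤ 3 := by
    calc π.support.card ≤ (Set.toFinite Γ).toFinset.card := Finset.card_le_card hsupp
      _ = Γ.ncard := (Set.ncard_eq_toFinset_card Γ (Set.toFinite Γ)).symm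
      _ ≤ 3 := h3
  have h2le : 2 ≤ π.support.card := Equiv.Perm.two_le_card_support_of_ne_one hπ1
  have hprimR := isPreprimitive_range hprim
  apply exists_of_mem_range
  rcases Nat.lt_or_ge π.support.card 3 with hlt | hge
  · have h2 : π.support.card = 2 := by omega
    have hswap : π.IsSwap := Equiv.Perm.card_support_eq_two.mp h2
    have htop := Equiv.Perm.subgroup_eq_top_of_isPreprimitive_of_isSwap_mem hprimR π hswap hπmem
    rw [htop]
    exact Subgroup.mem_top _
  · have h3' : π.support.card = 3 := le_antisymm hcard hge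
    have h3c : π.IsThreeCycle := card_support_eq_three_iff.mp h3'
    have hle := Equiv.Perm.alternatingGroup_le_of_isPreprimitive_of_isThreeCycle_mem
      hprimR h3c hπmem
    exact hle (Equiv.Perm.mem_alternatingGroup.mpr hσ)

/-- A highly transitive group with a nontrivial element of small support. -/
theorem altInduced_of_small_support [Finite Ω] {t : ℕ} (ht : 2 ≤ t) (htn : t < Nat.card Ω)
    (hG : IsMultiplyPretransitive G Ω t) (Γ : Set Ω) (hΓ : Γ.ncard ≤ t) {h : G}
    (hfix : ∀ x, x ∉ Γ → h • x = x) {x₀ : Ω} (hx₀ : h • x₀ ≠ x₀) : AltInduced G Ω := by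
  intro _ _ σ hσ
  set π : Perm Ω := MulAction.toPerm h with hπ
  have hπmem : π ∈ (MulAction.toPermHom G Ω).range := ⟨h, rfl⟩
  have hπ1 : π ≠ 1 := by
    intro hh
    have : π x₀ = x₀ := by rw [hh]; rfl
    exact hx₀ this
  have hsupp : π.support ⊆ (Set.toFinite Γ).toFinset := by
    intro z hz
    rw [Set.Finite.mem_toFinset]
    by_contra hzΓ
    rw [Equiv.Perm.mem_support] at hz
    exact hz (hfix z hzΓ)
  have hcard : π.support.card ≤ t := by
    calc π.support.card ≤ (Set.toFinite Γ).toFinset.card := Finset.card_le_card hsupp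
      _ = Γ.ncard := (Set.ncard_eq_toFinset_card Γ (Set.toFinite Γ)).symm
      _ ≤ t := hΓ
  have hGR := isMultiplyPretransitive_range hG
  have htn' : t < Fintype.card Ω := by rwa [← Nat.card_eq_fintype_card]
  have hle := Miller.alt_le_of_small_support (MulAction.toPermHom G Ω).range ht htn' hGR hπmem
    hπ1 hcard
  apply exists_of_mem_range
  exact hle (Equiv.Perm.mem_alternatingGroup.mpr hσ)

/-- Lifting a 3-cycle from the point stabilizer. -/
theorem actsAsThreeCycle_of_ofStabilizer {α : Ω} {g : stabilizer G α}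
    (h : ActsAsThreeCycle (SubMulAction.ofStabilizer G α) g) : ActsAsThreeCycle Ω (g : G) := by
  obtain ⟨a, b, c, hab, hbc, hac, h1, h2, h3, h4⟩ := h
  refine ⟨(a : Ω), (b : Ω), (c : Ω), fun hh => hab (Subtype.ext hh), fun hh => hbc (Subtype.ext hh),
    fun hh => hac (Subtype.ext hh), ?_, ?_, ?_, ?_⟩
  · exact congrArg Subtype.val h1
  · exact congrArg Subtype.val h2
  · exact congrArg Subtype.val h3
  · intro x hxa hxb hxc
    by_cases hx : x = α
    · rw [hx]
      exact g.2
    · have := h4 ⟨x, hx⟩ (fun hh => hxa (congrArg Subtype.val hh))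
        (fun hh => hxb (congrArg Subtype.val hh)) (fun hh => hxc (congrArg Subtype.val hh))
      exact congrArg Subtype.val this

/-- If all even permutations are induced and there are at least three points, some element acts
as a 3-cycle. -/
theorem exists_actsAsThreeCycle_of_altInduced [Finite Ω] (h : AltInduced G Ω)
    (h3 : 3 ≤ Nat.card Ω) : ∃ g : G, ActsAsThreeCycle Ω g := by
  classical
  haveI : Fintype Ω := Fintype.ofFinite Ω
  have h3' : 2 < Fintype.card Ω := by
    rw [← Nat.card_eq_fintype_card]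
    omega
  obtain ⟨a, b, c, hab, hac, hbc⟩ := Fintype.two_lt_card_iff.mp h3'
  let τ : Perm Ω := swap a b * swap b c
  have hτ : Equiv.Perm.sign τ = 1 := by
    simp only [τ, map_mul, Equiv.Perm.sign_swap hab, Equiv.Perm.sign_swap hbc]
    rfl
  obtain ⟨g, hg⟩ := h inferInstance inferInstance τ hτ
  refine ⟨g, a, b, c, hab, hbc, hac, ?_, ?_, ?_, ?_⟩
  · rw [hg]
    simp only [τ, Perm.mul_apply]
    rw [swap_apply_of_ne_of_ne hab hac, swap_apply_left]
  · rw [hg]
    simp only [τ, Perm.mul_apply]
    rw [swap_apply_left, swap_apply_of_ne_of_ne hac.symm hbc.symm]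
  · rw [hg]
    simp only [τ, Perm.mul_apply]
    rw [swap_apply_right, swap_apply_right]
  · intro x hxa hxb hxc
    rw [hg]
    simp only [τ, Perm.mul_apply]
    rw [swap_apply_of_ne_of_ne hxb hxc, swap_apply_of_ne_of_ne hxa hxb]

end Aux

section Main

/-- At the boundary `n = 2m+1`, the Jordan complements of size at most `m+1` are closed under
intersection. -/
theorem flatSys_boundary {G : Type*} {Ω : Type*} [Group G] [MulAction G Ω] [Finite Ω]
    (h2t : IsMultiplyPretransitive G Ω 2) {m : ℕ} (hn : Nat.card Ω = 2 * m + 1) :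
    FlatSys G Ω (m + 1) := by
  haveI := h2t
  haveI : IsPretransitive G Ω := isPretransitive_of_is_two_pretransitive
  intro s t hs ht
  refine ⟨?_, le_trans (Set.ncard_le_ncard Set.inter_subset_left (Set.toFinite s)) hs.2⟩
  by_cases hu : s ∪ t = Set.univ
  · apply JC_of_ncard_le_one h2t
    have h1 := Set.ncard_union_add_ncard_inter s t
    rw [hu, Set.ncard_univ, hn] at h1
    have := hs.2
    have := ht.2
    omega
  · exact hs.1.inter ht.1 hu

/-- Passing a Jordan set to a point stabilizer. -/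
theorem jordan_ofStabilizer {G : Type*} {Ω : Type*} [Group G] [MulAction G Ω] [Finite Ω]
    (Γ : Set Ω) (hJ : JC G Γᶜ) (α : Ω) (hα : α ∉ Γ) :
    ∃ Γ' : Set (SubMulAction.ofStabilizer G α), Γ'.ncard = Γ.ncard ∧
      JC (stabilizer G α) Γ'ᶜ := by
  refine ⟨{y | (y : Ω) ∈ Γ}, ?_, ?_⟩
  · have himg : Subtype.val '' ({y | (y : Ω) ∈ Γ} : Set (SubMulAction.ofStabilizer G α)) = Γ := by
      ext x
      constructor
      · rintro ⟨y, hy, rfl⟩
        exact hy
      · intro hx
        have hxα : x ≠ α := fun h => hα (h ▸ hx)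
        exact ⟨⟨x, hxα⟩, hx, rfl⟩
    rw [← Set.ncard_image_of_injective _ Subtype.val_injective, himg]
  · intro x hx y hy
    have hx' : (x : Ω) ∈ Γ := by
      by_contra hh
      exact hx hh
    have hy' : (y : Ω) ∈ Γ := by
      by_contra hh
      exact hy hh
    obtain ⟨g, hg1, hg2⟩ := hJ x.1 (fun hh => hh hx') y.1 (fun hh => hh hy')
    have hgα : g ∈ stabilizer G α := hg1 α hα
    refine ⟨⟨g, hgα⟩, ?_, ?_⟩
    · intro z hz
      apply Subtype.ext
      exact hg1 z.1 hz
    · apply Subtype.ext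
      exact hg2

/-- If `F` and all `insert x F` are Jordan complements then the fixing subgroup of `F` is
2-transitive off `F`. -/
theorem fixing_two_pretransitive {G : Type*} {Ω : Type*} [Group G] [MulAction G Ω]
    (F : Set Ω) (hF : JC G F) (hF' : ∀ x, x ∉ F → JC G (insert x F)) :
    IsMultiplyPretransitive (fixingSubgroup G F) (SubMulAction.ofFixingSubgroup G F) 2 := by
  rw [is_two_pretransitive_iff]
  intro a b c d hab hcd
  obtain ⟨k₁, hk₁, hk₁a⟩ := hF a.1 a.2 c.1 c.2
  have hb'F : k₁ • b.1 ∉ F := by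
    intro hh
    have h1 : k₁ • (k₁ • b.1) = k₁ • b.1 := hk₁ _ hh
    have h2 : k₁ • b.1 = b.1 := smul_left_cancel k₁ h1
    exact b.2 (h2 ▸ hh)
  have hb'c : k₁ • b.1 ≠ c.1 := by
    intro hh
    rw [← hk₁a] at hh
    exact hab (Subtype.ext (smul_left_cancel k₁ hh)).symm
  have hb' : k₁ • b.1 ∉ insert c.1 F := by
    intro hh
    rcases hh with hh | hh
    · exact hb'c hh
    · exact hb'F hh
  have hd' : d.1 ∉ insert c.1 F := by
    intro hh
    rcases hh with hh | hh
    · exact hcd (Subtype.ext hh).symm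
    · exact d.2 hh
  obtain ⟨k₂, hk₂, hk₂b⟩ := hF' c.1 c.2 _ hb' _ hd'
  have hmem : k₂ * k₁ ∈ fixingSubgroup G F := by
    rw [mem_fixingSubgroup_iff]
    intro z hz
    rw [mul_smul, hk₁ z hz, hk₂ z (Set.mem_insert_of_mem _ hz)]
  refine ⟨⟨k₂ * k₁, hmem⟩, ?_, ?_⟩
  · apply Subtype.ext
    show (k₂ * k₁) • a.1 = c.1
    rw [mul_smul, hk₁a, hk₂ c.1 (Set.mem_insert _ _)]
  · apply Subtype.ext
    show (k₂ * k₁) • b.1 = d.1
    rw [mul_smul, hk₂b]

/-- The setwise stabilizer of a flat is 2-transitive on it. -/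
theorem stabilizer_two_pretransitive {G : Type*} {Ω : Type*} [Group G] [MulAction G Ω] [Finite Ω]
    {c : ℕ} (hc : 2 ≤ c) (hsys : FlatSys G Ω c) (h3t : IsMultiplyPretransitive G Ω 3)
    (h2t : IsMultiplyPretransitive G Ω 2) {Δ : Set Ω} (hΔ : Flat G c Δ) :
    IsMultiplyPretransitive (stabilizer G Δ) ↥Δ 2 := by
  rw [is_two_pretransitive_iff]
  intro a b x y hab hxy
  have hab' : a.1 ≠ b.1 := fun h => hab (Subtype.ext h)
  have hxy' : x.1 ≠ y.1 := fun h => hxy (Subtype.ext h)
  obtain ⟨g₀, hg₀a, hg₀b⟩ := (is_two_pretransitive_iff.mp h2t) hab' hxy'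
  have hE₀ : Flat G c ({x.1, y.1} : Set Ω) :=
    ⟨JC_pair h3t hxy', by rw [Set.ncard_pair hxy']; exact hc⟩
  have hsub1 : ({x.1, y.1} : Set Ω) ⊆ g₀ • Δ := by
    intro z hz
    rcases hz with hz | hz
    · rw [hz, ← hg₀a]
      exact Set.smul_mem_smul_set a.2
    · rw [Set.mem_singleton_iff] at hz
      rw [hz, ← hg₀b]
      exact Set.smul_mem_smul_set b.2
  have hsub2 : ({x.1, y.1} : Set Ω) ⊆ Δ := by
    intro z hz
    rcases hz with hz | hz
    · rw [hz]
      exact x.2
    · rw [Set.mem_singleton_iff] at hz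
      rw [hz]
      exact y.2
  obtain ⟨k, hk, hkΔ⟩ := conj_of_flats' hsys hE₀ (hΔ.smul g₀) hΔ hsub1 hsub2
    (Set.ncard_smul_set _ _)
  have hmem : k * g₀ ∈ stabilizer G Δ := by
    rw [mem_stabilizer_iff, mul_smul, hkΔ]
  refine ⟨⟨k * g₀, hmem⟩, ?_, ?_⟩
  · apply Subtype.ext
    show (k * g₀) • a.1 = x.1
    rw [mul_smul, hg₀a]
    exact hk _ (Set.mem_insert _ _)
  · apply Subtype.ext
    show (k * g₀) • b.1 = y.1
    rw [mul_smul, hg₀b]
    exact hk _ (Set.mem_insert_of_mem _ rfl)

/-- The complement of a maximal subflat is a Jordan set for the setwise stabilizer. -/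
theorem jordan_stabilizer_set {G : Type*} {Ω : Type*} [Group G] [MulAction G Ω] [Finite Ω]
    {c : ℕ} (hsys : FlatSys G Ω c) {Δ F : Set Ω} (hΔ : Flat G c Δ) (hF : MaxSub G c Δ F) :
    ∃ Φ : Set ↥Δ, Φ.ncard = Δ.ncard - F.ncard ∧ JC (stabilizer G Δ) Φᶜ := by
  refine ⟨{y | (y : Ω) ∉ F}, ?_, ?_⟩
  · have himg : Subtype.val '' ({y | (y : Ω) ∉ F} : Set ↥Δ) = Δ \ F := by
      ext x
      constructor
      · rintro ⟨y, hy, rfl⟩
        exact ⟨y.2, hy⟩
      · intro hx
        exact ⟨⟨x, hx.1⟩, hx.2, rfl⟩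
    rw [← Set.ncard_image_of_injective _ Subtype.val_injective, himg,
      Set.ncard_sdiff hF.sub (Set.toFinite F)]
  · intro y hy y' hy'
    have hyF : (y : Ω) ∉ F := by
      by_contra hh
      exact hy (fun h => h hh)
    have hy'F : (y' : Ω) ∉ F := by
      by_contra hh
      exact hy' (fun h => h hh)
    obtain ⟨k, hk, hky, hkΔ⟩ := hF.exists_fix hsys hΔ y.2 hyF y'.2 hy'F
    refine ⟨⟨k, mem_stabilizer_iff.mpr hkΔ⟩, ?_, ?_⟩
    · intro z hz
      have hzF : (z : Ω) ∈ F := by
        by_contra hh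
        exact hz hh
      apply Subtype.ext
      exact hk z.1 hzF
    · apply Subtype.ext
      exact hky

end Main

section Induction

/-- Marggraf's theorem for primitive groups, by induction on the degree. -/
theorem marggraf_aux (n : ℕ) : ∀ (G : Type u) (Ω : Type v) [Group G] [MulAction G Ω] [Finite Ω],
    Nat.card Ω = n → IsPreprimitive G Ω → ∀ Γ : Set Ω, 1 < Γ.ncard → 2 * Γ.ncard < n →
    JC G Γᶜ → AltInduced G Ω := by
  induction n using Nat.strong_induction_on with
  | _ n ih =>
    intro G Ω _ _ _ hn hprim Γ h1 h2 hJ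
    haveI : IsPretransitive G Ω := hprim.toIsPretransitive
    by_cases hm3 : Γ.ncard ≤ 3
    · exact altInduced_of_small hprim Γ h1 hm3 hJ
    push_neg at hm3
    have htr : ∀ x ∈ Γ, ∀ y ∈ Γ, ∃ g : G, (∀ z, z ∉ Γ → g • z = z) ∧ g • x = y := by
      intro x hx y hy
      obtain ⟨g, hg1, hg2⟩ := hJ x (fun hh => hh hx) y (fun hh => hh hy)
      exact ⟨g, fun z hz => hg1 z hz, hg2⟩
    have h3t : IsMultiplyPretransitive G Ω 3 :=
      isMultiplyPretransitive_three_of_jordan hprim Γ h1 (by omega) htr
    have h2t : IsMultiplyPretransitive G Ω 2 := by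
      haveI := h3t
      exact isMultiplyPretransitive_of_le (n := 3) (by norm_num) (by omega)
    have hcompl : Γ.ncard + Γᶜ.ncard = Nat.card Ω := Set.ncard_add_ncard_compl Γ
    rcases Nat.lt_or_ge (2 * Γ.ncard + 1) n with hnb | hb
    · -- non-boundary
      have hne : Γᶜ.Nonempty := by
        rw [← Set.ncard_pos]
        omega
      obtain ⟨α, hα⟩ := hne
      have hα' : α ∉ Γ := hα
      obtain ⟨Γ', hΓ'c, hJ'⟩ := jordan_ofStabilizer Γ hJ α hα'
      have hcard' : Nat.card (SubMulAction.ofStabilizer G α) = n - 1 := by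
        rw [SubMulAction.nat_card_ofStabilizer_eq, hn]
      have h2t' : IsMultiplyPretransitive (stabilizer G α) (SubMulAction.ofStabilizer G α) 2 :=
        SubMulAction.ofStabilizer.isMultiplyPretransitive.mp h3t
      have hprim' := isPreprimitive_of_is_two_pretransitive h2t'
      have hAlt' := ih (n - 1) (by omega) (stabilizer G α) (SubMulAction.ofStabilizer G α)
        hcard' hprim' Γ' (by omega) (by omega) hJ'
      obtain ⟨g', hg'⟩ := exists_actsAsThreeCycle_of_altInduced hAlt' (by omega)
      exact altInduced_of_threeCycle hprim (actsAsThreeCycle_of_ofStabilizer hg')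
    · -- boundary
      have hn' : Nat.card Ω = 2 * Γ.ncard + 1 := by omega
      have hΔc : Γᶜ.ncard = Γ.ncard + 1 := by omega
      have hsys : FlatSys G Ω (Γ.ncard + 1) := flatSys_boundary h2t hn'
      have hΔ : Flat G (Γ.ncard + 1) Γᶜ := ⟨hJ, le_of_eq hΔc⟩
      have hΔne : Γᶜ.Nonempty := by
        rw [← Set.ncard_pos]
        omega
      obtain ⟨F, hF⟩ := exists_maxSub (G := G) (c := Γ.ncard + 1) Γᶜ hΔne
      have hF2 : 2 ≤ F.ncard := by
        obtain ⟨a, ha, b, hb, hab⟩ :=
          (Set.one_lt_ncard (Set.toFinite Γᶜ)).mp (by omega : 1 < Γᶜ.ncard)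
        have hpair : Flat G (Γ.ncard + 1) ({a, b} : Set Ω) :=
          ⟨JC_pair h3t hab, by rw [Set.ncard_pair hab]; omega⟩
        have hsub : ({a, b} : Set Ω) ⊆ Γᶜ := by
          intro z hz
          rcases hz with hz | hz
          · rw [hz]
            exact ha
          · rw [Set.mem_singleton_iff] at hz
            rw [hz]
            exact hb
        have hne : ({a, b} : Set Ω) ≠ Γᶜ := by
          intro h
          have := congrArg Set.ncard h
          rw [Set.ncard_pair hab] at this
          omega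
        have := hF.max _ hpair hsub hne
        rw [Set.ncard_pair hab] at this
        exact this
      have hFlt : F.ncard < Γᶜ.ncard := by
        apply Set.ncard_lt_ncard _ (Set.toFinite _)
        exact ⟨hF.sub, fun h => hF.ne (Set.Subset.antisymm hF.sub h)⟩
      have hΓne : Γᶜᶜ.Nonempty := by
        rw [compl_compl, ← Set.ncard_pos]
        omega
      have h2φ : 2 * (Γᶜ.ncard - F.ncard) ≤ Γᶜᶜ.ncard := by
        apply hF.two_mul_le hsys hΔ _ hΓne
        rw [compl_compl]
        omega
      rw [compl_compl] at h2φ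
      rcases Nat.lt_or_ge (Γᶜ.ncard - F.ncard) 2 with hφ1 | hφ2
      · -- φ = 1
        have hFm : F.ncard = Γ.ncard := by omega
        have hins : ∀ x, x ∉ F → JC G (insert x F) := by
          intro x hx
          obtain ⟨D, hD, hFD, hxD, hDc⟩ := hF.exists_hyperplane hΔ x hx
          have hsub : insert x F ⊆ D := Set.insert_subset hxD hFD
          have hcard : D.ncard ≤ (insert x F).ncard := by
            rw [Set.ncard_insert_of_notMem hx (Set.toFinite F)]
            omega
          have heq : insert x F = D := Set.eq_of_subset_of_ncard_le hsub hcard (Set.toFinite D)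
          rw [heq]
          exact hD.1
        have h2fix := fixing_two_pretransitive F hF.flat.1 hins
        have hprimFix := isPreprimitive_of_is_two_pretransitive h2fix
        have hmp : IsMultiplyPreprimitive G Ω ((Γ.ncard - 1) + 2) :=
          MulAction.IsPreprimitive.isMultiplyPreprimitive hprim (s := F) (n := Γ.ncard - 1)
            (by omega) (by omega) hprimFix
        have hmt : IsMultiplyPretransitive G Ω (Γ.ncard + 1) := by
          have := hmp.1
          have he : Γ.ncard - 1 + 2 = Γ.ncard + 1 := by omega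
          rwa [he] at this
        obtain ⟨x, hx, y, hy, hxy⟩ := (Set.one_lt_ncard (Set.toFinite Γ)).mp h1
        obtain ⟨h, hfix, hhx⟩ := hJ x (fun hh => hh hx) y (fun hh => hh hy)
        exact altInduced_of_small_support (t := Γ.ncard + 1) (by omega) (by omega) hmt Γ
          (by omega) (fun z hz => hfix z hz) (x₀ := x) (by rw [hhx]; exact hxy.symm)
      · -- φ ≥ 2
        obtain ⟨Φ, hΦc, hJΦ⟩ := jordan_stabilizer_set hsys hΔ hF
        have h2X := stabilizer_two_pretransitive (by omega) hsys h3t h2t hΔ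
        have hprimX := isPreprimitive_of_is_two_pretransitive h2X
        have hcardX : Nat.card ↥(Γᶜ) = Γ.ncard + 1 := by rw [Nat.card_coe_set_eq, hΔc]
        have hAltX := ih (Γ.ncard + 1) (by omega) (stabilizer G Γᶜ) ↥(Γᶜ) hcardX hprimX Φ
          (by omega) (by omega) hJΦ
        obtain ⟨g, hg⟩ := exists_threeCycle_of_altInduced_compl Γ (by omega) (by omega)
          (by omega) hJ hAltX
        exact altInduced_of_threeCycle hprim hg

/-- Marggraf's theorem for primitive groups. -/
theorem marggraf_primitive {G : Type u} {Ω : Type v} [Group G] [MulAction G Ω] [Finite Ω]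
    (hprim : IsPreprimitive G Ω) (Γ : Set Ω) (h1 : 1 < Γ.ncard)
    (h2 : 2 * Γ.ncard < Nat.card Ω) (hJ : JC G Γᶜ) : AltInduced G Ω :=
  marggraf_aux (Nat.card Ω) G Ω rfl hprim Γ h1 h2 hJ

end Induction

end Cfsg.Agent.Lib.H18.Marggraf
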