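import Mathlib
import Cfsg.Agent.Lib.H18.JordanSets
import Cfsg.Agent.Lib.H18.Marggraf2
import Cfsg.Agent.Lib.H18.Marggraf3

set_option autoImplicit false

/-!
Helper library (helper18): Marggraf's theorem, part 4: reduction from quasiprimitive groups to
primitive groups.
-/

namespace Cfsg.Agent.Lib.H18.Marggraf

open MulAction Equiv
open scoped Pointwise
open Cfsg.Agent.Lib.H18

universe u v w

section Count

/-- If all fibres of `π` have `b` points then the preimage of `S` has `b * |S|` points. -/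
theorem ncard_preimage_of_fibers {Ω X : Type*} [Finite Ω] [Finite X] (π : Ω → X) (b : ℕ)
    (hb : ∀ x, (π ⁻¹' {x}).ncard = b) (S : Set X) : (π ⁻¹' S).ncard = b * S.ncard := by
  refine Set.Finite.induction_on (motive := fun S _ => (π ⁻¹' S).ncard = b * S.ncard) S
    (Set.toFinite S) ?_ ?_
  · simp
  · intro a s ha hs ih
    have hd : Disjoint (π ⁻¹' {a}) (π ⁻¹' s) := by
      rw [Set.disjoint_left]
      intro ω h1 h2
      have h3 : π ω = a := h1
      exact ha (h3 ▸ h2)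
    have hun : π ⁻¹' (insert a s) = π ⁻¹' {a} ∪ π ⁻¹' s := by
      rw [← Set.preimage_union]
      rfl
    rw [hun, Set.ncard_union_eq hd, hb, ih, Set.ncard_insert_of_notMem ha hs]
    ring

end Count

section Reduction
variable {G : Type u} {Ω : Type v} {X : Type w} [Group G] [MulAction G Ω] [MulAction G X]

omit [MulAction G X] in
/-- Elements fixing `Γᶜ` pointwise preserve `Γ`. -/
theorem smul_mem_of_fix {Γ : Set Ω} {h : G} (hfix : ∀ z ∈ Γᶜ, h • z = z) {ω : Ω} (hω : ω ∈ Γ) :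
    h • ω ∈ Γ := by
  by_contra hh
  have h1 : h • (h • ω) = h • ω := hfix _ hh
  have h2 : h • ω = ω := smul_left_cancel h h1
  rw [h2] at hh
  exact hh hω

/-- If the quotient map is constant on the Jordan set, the fixing subgroup acts trivially on the
quotient. -/
theorem false_of_const [Finite Ω] (π : Ω → X) (hπ : ∀ (g : G) ω, π (g • ω) = g • π ω)
    (hsurj : Function.Surjective π) (hfaith : ∀ g : G, (∀ x : X, g • x = x) → g = 1)
    (Γ : Set Ω) (h1 : 1 < Γ.ncard) (hJ : JC G Γᶜ)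
    (hconst : ∀ γ ∈ Γ, ∀ γ' ∈ Γ, π γ = π γ') : False := by
  obtain ⟨x, hx, y, hy, hxy⟩ := (Set.one_lt_ncard (Set.toFinite Γ)).mp h1
  obtain ⟨h, hfix, hhx⟩ := hJ x (fun hh => hh hx) y (fun hh => hh hy)
  have h1' : h = 1 := by
    apply hfaith
    intro z
    obtain ⟨ω, rfl⟩ := hsurj z
    rw [← hπ]
    by_cases hω : ω ∈ Γ
    · exact hconst _ (smul_mem_of_fix hfix hω) _ hω
    · rw [hfix ω hω]
  rw [h1', one_smul] at hhx
  exact hxy hhx

/-- The reduction lemma: an equivariant surjection onto a faithful primitive `G`-set, from a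
transitive `G`-set with a small Jordan set, is injective. -/
theorem injective_of_jordan [Finite Ω] [Finite X] [IsPretransitive G Ω] (π : Ω → X)
    (hπ : ∀ (g : G) ω, π (g • ω) = g • π ω) (hsurj : Function.Surjective π)
    (hprimX : IsPreprimitive G X) (hfaith : ∀ g : G, (∀ x : X, g • x = x) → g = 1)
    (Γ : Set Ω) (h1 : 1 < Γ.ncard) (h2 : 2 * Γ.ncard < Nat.card Ω) (hJ : JC G Γᶜ) :
    Function.Injective π := by
  classical
  haveI : Fintype X := Fintype.ofFinite X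
  -- saturation
  have hsat : ∀ γ ∈ Γ, ∀ δ, δ ∉ Γ → π γ ≠ π δ := by
    intro γ hγ δ hδ heq
    apply false_of_const π hπ hsurj hfaith Γ h1 hJ
    have key : ∀ γ' ∈ Γ, π γ' = π γ := by
      intro γ' hγ'
      obtain ⟨h, hfix, hh⟩ := hJ γ (fun hh => hh hγ) γ' (fun hh => hh hγ')
      rw [← hh, hπ, heq, ← hπ, hfix δ hδ]
    intro a ha b hb
    rw [key a ha, key b hb]
  have hmemΓ' : ∀ ω, π ω ∈ π '' Γ ↔ ω ∈ Γ := by
    intro ω
    constructor
    · rintro ⟨γ, hγ, heq⟩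
      by_contra hω
      exact hsat γ hγ ω hω heq
    · intro hω
      exact ⟨ω, hω, rfl⟩
  have hpre : π ⁻¹' (π '' Γ) = Γ := by
    ext ω
    exact hmemΓ' ω
  have hfixX : ∀ h : G, (∀ z ∈ Γᶜ, h • z = z) → ∀ x, x ∉ π '' Γ → h • x = x := by
    intro h hfix x hx
    obtain ⟨ω, rfl⟩ := hsurj x
    have hω : ω ∉ Γ := fun hh => hx ((hmemΓ' ω).mpr hh)
    rw [← hπ, hfix ω hω]
  have hpresX : ∀ h : G, (∀ z ∈ Γᶜ, h • z = z) → ∀ x ∈ π '' Γ, h • x ∈ π '' Γ := by
    rintro h hfix x ⟨γ, hγ, rfl⟩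
    rw [← hπ]
    exact (hmemΓ' _).mpr (smul_mem_of_fix hfix hγ)
  -- the image is a Jordan set
  have hJX : JC G (π '' Γ)ᶜ := by
    intro x hx y hy
    have hx' : x ∈ π '' Γ := by
      by_contra hh
      exact hx hh
    have hy' : y ∈ π '' Γ := by
      by_contra hh
      exact hy hh
    obtain ⟨γ₁, hγ₁, rfl⟩ := hx'
    obtain ⟨γ₂, hγ₂, rfl⟩ := hy'
    obtain ⟨h, hfix, hh⟩ := hJ γ₁ (fun hh => hh hγ₁) γ₂ (fun hh => hh hγ₂)
    refine ⟨h, fun z hz => hfixX h hfix z hz, ?_⟩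
    rw [← hπ, hh]
  have h1X : 1 < (π '' Γ).ncard := by
    by_contra hle
    push_neg at hle
    apply false_of_const π hπ hsurj hfaith Γ h1 hJ
    intro a ha b hb
    have ha' : π a ∈ π '' Γ := ⟨a, ha, rfl⟩
    have hb' : π b ∈ π '' Γ := ⟨b, hb, rfl⟩
    exact (Set.ncard_le_one_iff (Set.toFinite (π '' Γ))).mp hle ha' hb'
  -- counting
  haveI : IsPretransitive G X := hprimX.toIsPretransitive
  have hΓne : Γ.Nonempty := by
    rw [← Set.ncard_pos]
    omega
  obtain ⟨γ₀, hγ₀⟩ := hΓne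
  have hfib : ∀ x, (π ⁻¹' {x}).ncard = (π ⁻¹' {π γ₀}).ncard := by
    intro x
    obtain ⟨g, hg⟩ := exists_smul_eq G (π γ₀) x
    have : π ⁻¹' {x} = g • (π ⁻¹' {π γ₀}) := by
      ext ω
      rw [Set.mem_smul_set_iff_inv_smul_mem]
      simp only [Set.mem_preimage, Set.mem_singleton_iff]
      rw [hπ, inv_smul_eq_iff, hg]
    rw [this, Set.ncard_smul_set]
  have hcΓ : Γ.ncard = (π ⁻¹' {π γ₀}).ncard * (π '' Γ).ncard := by
    have := ncard_preimage_of_fibers π _ hfib (π '' Γ)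
    rwa [hpre] at this
  have hcΩ : Nat.card Ω = (π ⁻¹' {π γ₀}).ncard * Nat.card X := by
    have := ncard_preimage_of_fibers π _ hfib Set.univ
    rwa [Set.preimage_univ, Set.ncard_univ, Set.ncard_univ] at this
  have h2X : 2 * (π '' Γ).ncard < Nat.card X := by
    rw [hcΓ, hcΩ] at h2
    have h3 : (π ⁻¹' {π γ₀}).ncard * (2 * (π '' Γ).ncard) <
        (π ⁻¹' {π γ₀}).ncard * Nat.card X := by
      calc (π ⁻¹' {π γ₀}).ncard * (2 * (π '' Γ).ncard)
          = 2 * ((π ⁻¹' {π γ₀}).ncard * (π '' Γ).ncard) := by ring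
        _ < _ := h2
    exact Nat.lt_of_mul_lt_mul_left h3
  have hAlt : AltInduced G X := marggraf_primitive hprimX (π '' Γ) h1X h2X hJX
  -- the key contradiction
  have hkey : ∀ a ∈ Γ, ∀ b ∈ Γ, π a = π b → a = b := by
    intro a ha b hb hab
    by_contra hne
    obtain ⟨h, hfix, hh⟩ := hJ a (fun hh => hh ha) b (fun hh => hh hb)
    have hx₁ : h • π a = π a := by rw [← hπ, hh, hab]
    have hx₁mem : π a ∈ π '' Γ := ⟨a, ha, rfl⟩
    have hcomplX : (π '' Γ).ncard + (π '' Γ)ᶜ.ncard = Nat.card X :=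
      Set.ncard_add_ncard_compl (π '' Γ)
    obtain ⟨x₃, hx₃, x₄, hx₄, h34⟩ :=
      (Set.one_lt_ncard (Set.toFinite (π '' Γ)ᶜ)).mp (by omega : 1 < (π '' Γ)ᶜ.ncard)
    have h13 : π a ≠ x₃ := fun hh => hx₃ (hh ▸ hx₁mem)
    have h14 : π a ≠ x₄ := fun hh => hx₄ (hh ▸ hx₁mem)
    let σ : Perm X := swap (π a) x₃ * swap x₃ x₄
    have hσ : Equiv.Perm.sign σ = 1 := by
      simp only [σ, map_mul, Equiv.Perm.sign_swap h13, Equiv.Perm.sign_swap h34]
      rfl
    obtain ⟨g, hg⟩ := hAlt inferInstance inferInstance σ hσ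
    have hσ1 : σ (π a) = x₃ := by
      simp only [σ, Perm.mul_apply]
      rw [swap_apply_of_ne_of_ne h13 h14, swap_apply_left]
    have hσ3 : σ x₃ = x₄ := by
      simp only [σ, Perm.mul_apply]
      rw [swap_apply_left, swap_apply_of_ne_of_ne h14.symm h34.symm]
    have hσ4 : σ x₄ = π a := by
      simp only [σ, Perm.mul_apply]
      rw [swap_apply_right, swap_apply_right]
    have hσo : ∀ x, x ≠ π a → x ≠ x₃ → x ≠ x₄ → σ x = x := by
      intro x hx1 hx3 hx4
      simp only [σ, Perm.mul_apply]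
      rw [swap_apply_of_ne_of_ne hx3 hx4, swap_apply_of_ne_of_ne hx1 hx3]
    have hhx₃ : h • x₃ = x₃ := hfixX h hfix x₃ hx₃
    have hhx₄ : h • x₄ = x₄ := hfixX h hfix x₄ hx₄
    have hcomm : ∀ x : X, g • h • x = h • g • x := by
      intro x
      by_cases hxΓ : x ∈ π '' Γ
      · by_cases hx1 : x = π a
        · rw [hx1, hx₁, hg, hσ1, hhx₃]
        · have hx3 : x ≠ x₃ := fun hh => hx₃ (hh ▸ hxΓ)
          have hx4 : x ≠ x₄ := fun hh => hx₄ (hh ▸ hxΓ)
          have hhxΓ : h • x ∈ π '' Γ := hpresX h hfix x hxΓ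
          have hhx1 : h • x ≠ π a := by
            intro hh
            rw [← hx₁] at hh
            exact hx1 (smul_left_cancel h hh)
          have hhx3 : h • x ≠ x₃ := fun hh => hx₃ (hh ▸ hhxΓ)
          have hhx4 : h • x ≠ x₄ := fun hh => hx₄ (hh ▸ hhxΓ)
          rw [hg (h • x), hσo _ hhx1 hhx3 hhx4, hg x, hσo _ hx1 hx3 hx4]
      · rw [hfixX h hfix x hxΓ, hg]
        by_cases hx3 : x = x₃
        · rw [hx3, hσ3, hhx₄]
        · by_cases hx4 : x = x₄
          · rw [hx4, hσ4, hx₁]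
          · have hx1 : x ≠ π a := fun hh => hxΓ (hh ▸ hx₁mem)
            rw [hσo _ hx1 hx3 hx4, hfixX h hfix x hxΓ]
    have hk : (h * g)⁻¹ * (g * h) = 1 := by
      apply hfaith
      intro x
      rw [mul_smul, mul_smul, hcomm x, ← mul_smul h g, inv_smul_smul]
    have hgh : h * g = g * h := inv_mul_eq_one.mp hk
    have hga : g • a ∉ Γ := by
      intro hh
      have : π (g • a) ∈ π '' Γ := (hmemΓ' _).mpr hh
      rw [hπ, hg, hσ1] at this
      exact hx₃ this
    have h5 : h • (g • a) = g • a := hfix _ hga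
    have h6 : h • (g • a) = g • b := by
      rw [← mul_smul, hgh, mul_smul, hh]
    exact hne (smul_left_cancel g (h5.symm.trans h6))
  -- conclusion
  intro ω₁ ω₂ heq
  obtain ⟨g₀, hg₀⟩ := exists_smul_eq G ω₁ γ₀
  have hω₁ : g₀ • ω₁ ∈ Γ := by
    rw [hg₀]
    exact hγ₀
  have heq' : π (g₀ • ω₁) = π (g₀ • ω₂) := by rw [hπ, hπ, heq]
  have hω₂ : g₀ • ω₂ ∈ Γ := by
    rw [← hmemΓ', ← heq']
    exact (hmemΓ' _).mpr hω₁
  exact smul_left_cancel g₀ (hkey _ hω₁ _ hω₂ heq')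

end Reduction

section Quasi
variable {G : Type u} {Ω : Type v} [Group G] [MulAction G Ω]

/-- A quasiprimitive group with a small Jordan set is primitive. -/
theorem isPreprimitive_of_quasiprimitive_jordan [Finite G] [Finite Ω]
    (hqp : ∀ N : Subgroup G, N.Normal → N ≠ ⊥ → IsPretransitive ↥N Ω)
    (Γ : Set Ω) (h1 : 1 < Γ.ncard) (h2 : 2 * Γ.ncard < Nat.card Ω) (hJ : JC G Γᶜ) :
    IsPreprimitive G Ω := by
  classical
  obtain ⟨x, hx, y, hy, hxy⟩ := (Set.one_lt_ncard (Set.toFinite Γ)).mp h1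
  obtain ⟨h, hfix, hhx⟩ := hJ x (fun hh => hh hx) y (fun hh => hh hy)
  have hne1 : h ≠ 1 := by
    rintro rfl
    rw [one_smul] at hhx
    exact hxy hhx
  have htop : (⊤ : Subgroup G) ≠ ⊥ := by
    intro hh
    have : h ∈ (⊥ : Subgroup G) := hh ▸ Subgroup.mem_top h
    exact hne1 (Subgroup.mem_bot.mp this)
  haveI htrans : IsPretransitive G Ω := by
    have := hqp ⊤ inferInstance htop
    constructor
    intro a b
    obtain ⟨g, hg⟩ := this.exists_smul_eq a b
    exact ⟨g.1, hg⟩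
  haveI : Nontrivial Ω := ⟨⟨x, y, hxy⟩⟩
  by_contra hnp
  have hnc : ¬ IsCoatom (stabilizer G x) :=
    fun hc => hnp ((isCoatom_stabilizer_iff_preprimitive G x).mp hc)
  have hstab_ne_top : stabilizer G x ≠ ⊤ := by
    intro hh
    obtain ⟨g, hg⟩ := exists_smul_eq G x y
    have hgs : g ∈ stabilizer G x := hh ▸ Subgroup.mem_top g
    have hgx : g • x = x := hgs
    exact hxy (hgx.symm.trans hg)
  have hex : ∃ L : Subgroup G, stabilizer G x < L ∧ L ≠ ⊤ := by
    by_contra hno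
    push_neg at hno
    exact hnc ⟨hstab_ne_top, fun b hb => hno b hb⟩
  obtain ⟨L, hL1, hL2⟩ := hex
  obtain ⟨M, hM, hLM⟩ := (IsCoatomic.eq_top_or_exists_le_coatom L).resolve_left hL2
  have hsM : stabilizer G x < M := lt_of_lt_of_le hL1 hLM
  haveI : Nontrivial (G ⧸ M) := QuotientGroup.nontrivial_iff.mpr hM.1
  have hprimX : IsPreprimitive G (G ⧸ M) := by
    rw [← isCoatom_stabilizer_iff_preprimitive G ((1 : G) : G ⧸ M), MulAction.stabilizer_quotient]
    exact hM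
  let π : Ω → G ⧸ M := fun ω => ((Classical.choose (exists_smul_eq G x ω) : G) : G ⧸ M)
  have hπ0 : ∀ g : G, π (g • x) = (g : G ⧸ M) := by
    intro g
    show ((Classical.choose (exists_smul_eq G x (g • x)) : G) : G ⧸ M) = (g : G ⧸ M)
    have hc := Classical.choose_spec (exists_smul_eq G x (g • x))
    generalize Classical.choose (exists_smul_eq G x (g • x)) = c at hc ⊢
    rw [QuotientGroup.eq]
    apply hsM.le
    rw [mem_stabilizer_iff, mul_smul, ← hc, inv_smul_smul]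
  have hπ : ∀ (g : G) ω, π (g • ω) = g • π ω := by
    intro g ω
    obtain ⟨a, rfl⟩ := exists_smul_eq G x ω
    rw [← mul_smul, hπ0, hπ0]
    rfl
  have hsurj : Function.Surjective π := by
    intro q
    obtain ⟨g, rfl⟩ := QuotientGroup.mk_surjective q
    exact ⟨g • x, hπ0 g⟩
  have hK : (MulAction.toPermHom G (G ⧸ M)).ker = ⊥ := by
    by_contra hKne
    have htr := hqp _ (MonoidHom.normal_ker _) hKne
    obtain ⟨q₁, q₂, hq⟩ := exists_pair_ne (G ⧸ M)
    obtain ⟨ω₁, rfl⟩ := hsurj q₁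
    obtain ⟨ω₂, rfl⟩ := hsurj q₂
    obtain ⟨k, hk⟩ := htr.exists_smul_eq ω₁ ω₂
    apply hq
    have hk' : (k : G) • ω₁ = ω₂ := hk
    rw [← hk', hπ]
    have hk1 : MulAction.toPermHom G (G ⧸ M) k = 1 := k.2
    have hk2 := congrArg (fun f => f (π ω₁)) hk1
    exact hk2.symm
  have hfaith : ∀ g : G, (∀ q : G ⧸ M, g • q = q) → g = 1 := by
    intro g hg
    have hmem : g ∈ (MulAction.toPermHom G (G ⧸ M)).ker := by
      rw [MonoidHom.mem_ker]
      ext q
      exact hg q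
    rw [hK] at hmem
    exact Subgroup.mem_bot.mp hmem
  have hinj := injective_of_jordan π hπ hsurj hprimX hfaith Γ h1 h2 hJ
  obtain ⟨m, hmM, hmS⟩ := SetLike.exists_of_lt hsM
  have hπm : π (m • x) = π x := by
    have h1' := hπ0 m
    have h2' := hπ0 1
    rw [one_smul] at h2'
    rw [h1', h2', QuotientGroup.eq]
    simpa using hmM
  exact hmS (hinj hπm)

/-- Marggraf's theorem for quasiprimitive groups. -/
theorem marggraf_quasiprimitive [Finite G] [Fintype Ω] [DecidableEq Ω]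
    (hqp : ∀ N : Subgroup G, N.Normal → N ≠ ⊥ → IsPretransitive ↥N Ω)
    (Γ : Set Ω) (h1 : 1 < Γ.ncard) (h2 : 2 * Γ.ncard < Fintype.card Ω)
    (hJ : IsPretransitive ↥(fixingSubgroup G Γᶜ) ↥(SubMulAction.ofFixingSubgroup G Γᶜ)) :
    ∀ σ : Perm Ω, Equiv.Perm.sign σ = 1 → ∃ x : G, (MulAction.toPerm x : Perm Ω) = σ := by
  have hJC : JC G Γᶜ := by
    intro x hx y hy
    obtain ⟨g, hg⟩ := hJ.exists_smul_eq ⟨x, hx⟩ ⟨y, hy⟩
    exact ⟨g.1, (mem_fixingSubgroup_iff G).mp g.2, congrArg Subtype.val hg⟩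
  have h2' : 2 * Γ.ncard < Nat.card Ω := by rwa [Nat.card_eq_fintype_card]
  have hprim := isPreprimitive_of_quasiprimitive_jordan hqp Γ h1 h2' hJC
  have hAlt := marggraf_primitive hprim Γ h1 h2' hJC
  intro σ hσ
  obtain ⟨g, hg⟩ := hAlt inferInstance inferInstance σ hσ
  refine ⟨g, ?_⟩
  ext x
  exact hg x

end Quasi

end Cfsg.Agent.Lib.H18.Marggraf
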