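import Mathlib
import Cfsg.Agent.Lib.H18.PermLift

/-!
# Miller's theorem, part 3: the Sylow `p`-subgroup of an `r`-point stabilizer (helper18)
-/

set_option autoImplicit false

namespace Cfsg.Agent.Lib.H18.Miller

open MulAction Equiv
open scoped Pointwise

variable {α : Type*} [Fintype α] [DecidableEq α]

theorem not_sq_dvd_factorial' {p : ℕ} (hp : p.Prime) : ¬ p ^ 2 ∣ p.factorial := by
  intro h
  obtain ⟨k, hk⟩ : ∃ k, p = k + 1 := ⟨p - 1, by have := hp.pos; omega⟩
  rw [hk, Nat.factorial_succ, pow_two] at h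
  have h2 : (k + 1) ∣ k.factorial := Nat.dvd_of_mul_dvd_mul_left (by omega) h
  rw [← hk] at h2
  have := (hp.dvd_factorial).mp h2
  omega

/-- The orbit of `x` under a subgroup `P` of `Perm α`. -/
def orb (P : Subgroup (Perm α)) (x : α) : Set α := MulAction.orbit P x

omit [Fintype α] [DecidableEq α] in
theorem mem_orb {P : Subgroup (Perm α)} {x z : α} : z ∈ orb P x ↔ ∃ y ∈ P, y x = z := by
  unfold orb
  rw [MulAction.mem_orbit_iff]
  constructor
  · rintro ⟨⟨y, hy⟩, rfl⟩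
    exact ⟨y, hy, rfl⟩
  · rintro ⟨y, hy, rfl⟩
    exact ⟨⟨y, hy⟩, rfl⟩

omit [Fintype α] [DecidableEq α] in
theorem self_mem_orb (P : Subgroup (Perm α)) (x : α) : x ∈ orb P x :=
  mem_orb.mpr ⟨1, P.one_mem, rfl⟩

omit [Fintype α] [DecidableEq α] in
theorem apply_mem_orb {P : Subgroup (Perm α)} {x z : α} {y : Perm α} (hy : y ∈ P)
    (hz : z ∈ orb P x) : y z ∈ orb P x := by
  obtain ⟨y', hy', rfl⟩ := mem_orb.mp hz
  exact mem_orb.mpr ⟨y * y', P.mul_mem hy hy', rfl⟩

/-- A `p`-group acting with an orbit of size `p`: it acts on that orbit as an abelian group of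
exponent `p`. -/
theorem comm_exp_on_orbit {p : ℕ} (hp : p.Prime) (P : Subgroup (Perm α)) (hP : IsPGroup p P)
    (x : α) (hx : Set.ncard (orb P x) = p) :
    (∀ y ∈ P, ∀ z ∈ P, ∀ w ∈ orb P x, y (z w) = z (y w)) ∧
    (∀ y ∈ P, ∀ w ∈ orb P x, (y ^ p) w = w) := by
  haveI : Fact p.Prime := ⟨hp⟩
  let ψ : P →* Perm (MulAction.orbit P x) := MulAction.toPermHom P (MulAction.orbit P x)
  have hR : IsPGroup p ψ.range := by
    rw [MonoidHom.range_eq_map]
    exact (IsPGroup.of_equiv hP Subgroup.topEquiv.symm).map ψ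
  have hcardO : Nat.card (MulAction.orbit P x) = p := by
    rw [Nat.card_coe_set_eq]; exact hx
  have hdvd : Nat.card ψ.range ∣ p.factorial := by
    have := Subgroup.card_subgroup_dvd_card ψ.range
    rwa [Nat.card_perm, hcardO] at this
  obtain ⟨m, hm⟩ := IsPGroup.iff_card.mp hR
  have hm1 : m ≤ 1 := by
    by_contra h
    push_neg at h
    apply not_sq_dvd_factorial' hp
    calc p ^ 2 ∣ p ^ m := pow_dvd_pow p h
      _ = Nat.card ψ.range := hm.symm
      _ ∣ p.factorial := hdvd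
  have hdvdp : Nat.card ψ.range ∣ p := by
    rw [hm]
    calc p ^ m ∣ p ^ 1 := pow_dvd_pow p hm1
      _ = p := pow_one p
  haveI : IsCyclic ψ.range := isCyclic_of_card_dvd_prime hdvdp
  constructor
  · intro y hy z hz w hw
    have h1 : (⟨ψ ⟨y, hy⟩, ⟨_, rfl⟩⟩ : ψ.range) * ⟨ψ ⟨z, hz⟩, ⟨_, rfl⟩⟩ =
        ⟨ψ ⟨z, hz⟩, ⟨_, rfl⟩⟩ * ⟨ψ ⟨y, hy⟩, ⟨_, rfl⟩⟩ :=
      (IsMulCommutative.is_comm (M := ψ.range)).comm _ _
    have h2 : ψ ⟨y, hy⟩ * ψ ⟨z, hz⟩ = ψ ⟨z, hz⟩ * ψ ⟨y, hy⟩ := by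
      have := congrArg Subtype.val h1
      simpa using this
    have h3 := congrArg (fun f : Perm (MulAction.orbit P x) => ((f ⟨w, hw⟩ : MulAction.orbit P x) : α)) h2
    simpa [ψ] using h3
  · intro y hy w hw
    have h1 : (⟨ψ ⟨y, hy⟩, ⟨_, rfl⟩⟩ : ψ.range) ^ p = 1 := by
      rw [← orderOf_dvd_iff_pow_eq_one]
      exact (orderOf_dvd_natCard _).trans hdvdp
    have h2 : ψ ⟨y, hy⟩ ^ p = 1 := by
      have := congrArg Subtype.val h1
      simpa using this
    have h3 := congrArg (fun f : Perm (MulAction.orbit P x) => ((f ⟨w, hw⟩ : MulAction.orbit P x) : α)) h2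
    rw [← map_pow] at h3
    simpa [ψ] using h3


/-- The data of a Sylow `p`-subgroup of the pointwise stabilizer of `Δ`, with the properties
needed for Miller's theorem. -/
structure SylData (G : Subgroup (Perm α)) (Δ : Finset α) (p : ℕ) where
  P : Subgroup (Perm α)
  le : P ≤ G
  fixΔ : ∀ y ∈ P, ∀ x ∈ Δ, y x = x
  comm : ∀ y ∈ P, ∀ z ∈ P, y * z = z * y
  exp : ∀ y ∈ P, y ^ p = 1
  orbCard : ∀ x ∉ Δ, Set.ncard (orb P x) = p
  witt : ∀ σ : Perm α, (∀ x, σ x ∈ Δ ↔ x ∈ Δ) →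
    ∃ n ∈ G, (∀ x ∈ Δ, n x = σ x) ∧ ∀ y, n * y * n⁻¹ ∈ P ↔ y ∈ P

omit [Fintype α] in
theorem mem_suppSubgroup_compl [Fintype α] {G : Subgroup (Perm α)} {Δ : Finset α} {g : Perm α} :
    g ∈ suppSubgroup G Δᶜ ↔ g ∈ G ∧ ∀ x ∈ Δ, g x = x := by
  rw [mem_suppSubgroup]
  constructor
  · rintro ⟨hg, hs⟩
    refine ⟨hg, fun x hx => ?_⟩
    by_contra h
    exact (Finset.mem_compl.mp (hs (Perm.mem_support.mpr h))) hx
  · rintro ⟨hg, hs⟩
    refine ⟨hg, fun x hx => ?_⟩
    rw [Finset.mem_compl]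
    intro hxΔ
    exact (Perm.mem_support.mp hx) (hs x hxΔ)

/-- A permutation mapping a finite set into itself preserves it. -/
theorem mem_iff_of_maps_to {Δ : Finset α} {g : Perm α} (h : ∀ x ∈ Δ, g x ∈ Δ) (x : α) :
    g x ∈ Δ ↔ x ∈ Δ := by
  refine ⟨fun hx => ?_, h x⟩
  have himg : Δ.image g = Δ := by
    apply Finset.eq_of_subset_of_card_le
    · intro z hz
      obtain ⟨w, hw, rfl⟩ := Finset.mem_image.mp hz
      exact h w hw
    · rw [Finset.card_image_of_injective _ g.injective]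
  rw [← himg] at hx
  obtain ⟨w, hw, hwx⟩ := Finset.mem_image.mp hx
  rw [← g.injective hwx]
  exact hw

theorem exists_sylData (G : Subgroup (Perm α)) (Δ : Finset α) {k p r : ℕ} (hp : p.Prime)
    (hΔ : Δ.card = r) (hn : Fintype.card α = k * p + r) (hk : 1 ≤ k) (hkp : k < p)
    (hG : IsMultiplyPretransitive G α (r + 1)) : Nonempty (SylData G Δ p) := by
  haveI : Fact p.Prime := ⟨hp⟩
  set H := suppSubgroup G Δᶜ with hH
  have hHmem : ∀ g, g ∈ H ↔ g ∈ G ∧ ∀ x ∈ Δ, g x = x := fun g => mem_suppSubgroup_compl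
  have hGr : IsMultiplyPretransitive G α r :=
    isMultiplyPretransitive_of_le (n := r + 1) (by omega)
      (by rw [Nat.card_eq_fintype_card, hn]; exact_mod_cast (by nlinarith : r + 1 ≤ k * p + r))
  -- transitivity of `H` on the complement of `Δ`
  have htrans : ∀ γ ∉ Δ, ∀ γ' ∉ Δ, ∃ h ∈ H, h γ = γ' := by
    intro γ hγ γ' hγ'
    obtain ⟨g, hgG, hg⟩ := exists_mem_agree_on G (insert γ Δ) (r + 1)
      (by rw [Finset.card_insert_of_notMem hγ, hΔ]) hG (swap γ γ')
    refine ⟨g, (hHmem g).mpr ⟨hgG, fun x hx => ?_⟩, ?_⟩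
    · rw [hg x (Finset.mem_insert_of_mem hx)]
      exact swap_apply_of_ne_of_ne (fun h => hγ (h ▸ hx)) (fun h => hγ' (h ▸ hx))
    · rw [hg γ (Finset.mem_insert_self _ _), swap_apply_left]
  let P' : Sylow p H := default
  set P : Subgroup (Perm α) := (P' : Subgroup H).map H.subtype with hP
  have hPmem : ∀ y, y ∈ P ↔ ∃ h : y ∈ H, (⟨y, h⟩ : H) ∈ (P' : Subgroup H) := by
    intro y
    rw [hP, Subgroup.mem_map]
    constructor
    · rintro ⟨⟨z, hz⟩, hzP, rfl⟩
      exact ⟨hz, hzP⟩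
    · rintro ⟨h, hy⟩
      exact ⟨⟨y, h⟩, hy, rfl⟩
  have hPH : P ≤ H := fun y hy => ((hPmem y).mp hy).1
  have hPpg : IsPGroup p P := P'.isPGroup'.map H.subtype
  have hPfix : ∀ y ∈ P, ∀ x ∈ Δ, y x = x := fun y hy => ((hHmem y).mp (hPH hy)).2
  have hcompl : (Δᶜ).card = k * p := by
    rw [Finset.card_compl, hΔ, hn]; omega
  -- elements of `H` preserve the complement of `Δ`
  have hHcompl : ∀ h ∈ H, ∀ x ∉ Δ, h x ∉ Δ := by
    intro h hh x hx hhx
    have h1 : h (h x) = h x := ((hHmem h).mp hh).2 _ hhx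
    exact hx (h.injective h1 ▸ hhx)
  -- no fixed points outside `Δ`
  have hnofix : ∀ γ ∉ Δ, ∃ y ∈ P, y γ ≠ γ := by
    intro γ hγ
    by_contra hcon
    push_neg at hcon
    have hle : (P' : Subgroup H) ≤ MulAction.stabilizer H γ := by
      intro y hy
      rw [MulAction.mem_stabilizer_iff]
      exact hcon y.1 ((hPmem y.1).mpr ⟨y.2, hy⟩)
    have hidx := Subgroup.index_dvd_of_le hle
    rw [MulAction.index_stabilizer] at hidx
    have horb : MulAction.orbit H γ = ((Δᶜ : Finset α) : Set α) := by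
      ext z
      rw [MulAction.mem_orbit_iff, Finset.mem_coe, Finset.mem_compl]
      constructor
      · rintro ⟨h, rfl⟩
        exact hHcompl h.1 h.2 γ hγ
      · intro hz
        obtain ⟨h, hh, hhγ⟩ := htrans γ hγ z hz
        exact ⟨⟨h, hh⟩, hhγ⟩
    rw [horb, Set.ncard_coe_finset, hcompl] at hidx
    exact P'.not_dvd_index ((Dvd.intro_left k rfl).trans hidx)
  -- orbits outside `Δ` have exactly `p` elements
  have horbcard : ∀ x ∉ Δ, Set.ncard (orb P x) = p := by
    intro x hx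
    obtain ⟨m, hm⟩ := hPpg.card_orbit x
    rw [Nat.card_coe_set_eq] at hm
    have hsub : orb P x ⊆ ((Δᶜ : Finset α) : Set α) := by
      intro z hz
      obtain ⟨y, hy, rfl⟩ := mem_orb.mp hz
      rw [Finset.mem_coe, Finset.mem_compl]
      exact hHcompl y (hPH hy) x hx
    have hle : Set.ncard (orb P x) ≤ k * p := by
      have := Set.ncard_le_ncard hsub (Finset.finite_toSet _)
      rwa [Set.ncard_coe_finset, hcompl] at this
    unfold orb at hle ⊢
    rw [hm] at hle ⊢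
    have hm0 : m ≠ 0 := by
      rintro rfl
      obtain ⟨y, hy, hyx⟩ := hnofix x hx
      have h1 : Set.ncard (MulAction.orbit P x) = 1 := by rw [hm, pow_zero]
      rw [Set.ncard_eq_one] at h1
      obtain ⟨a, ha⟩ := h1
      have hxa : x ∈ MulAction.orbit P x := MulAction.mem_orbit_self x
      have hya : y x ∈ MulAction.orbit P x := ⟨⟨y, hy⟩, rfl⟩
      rw [ha, Set.mem_singleton_iff] at hxa hya
      exact hyx (hya.trans hxa.symm)
    have hm2 : m < 2 := by
      by_contra h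
      push_neg at h
      have h1 : p ^ 2 ≤ p ^ m := Nat.pow_le_pow_right hp.pos h
      have h2 : k * p < p * p := Nat.mul_lt_mul_of_pos_right hkp hp.pos
      nlinarith
    have : m = 1 := by omega
    rw [this, pow_one]
  have hce := fun x hx => comm_exp_on_orbit hp P hPpg x (horbcard x hx)
  have hcomm : ∀ y ∈ P, ∀ z ∈ P, y * z = z * y := by
    intro y hy z hz
    ext x
    simp only [Perm.mul_apply]
    by_cases hx : x ∈ Δ
    · rw [hPfix z hz x hx, hPfix y hy x hx, hPfix z hz x hx]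
    · exact (hce x hx).1 y hy z hz x (self_mem_orb P x)
  have hexp : ∀ y ∈ P, y ^ p = 1 := by
    intro y hy
    ext x
    by_cases hx : x ∈ Δ
    · rw [Perm.one_apply]
      exact Perm.pow_apply_eq_self_of_apply_eq_self (hPfix y hy x hx) p
    · rw [Perm.one_apply]
      exact (hce x hx).2 y hy x (self_mem_orb P x)
  -- Witt's lemma
  have hwitt : ∀ σ : Perm α, (∀ x, σ x ∈ Δ ↔ x ∈ Δ) →
      ∃ n ∈ G, (∀ x ∈ Δ, n x = σ x) ∧ ∀ y, n * y * n⁻¹ ∈ P ↔ y ∈ P := by
    intro σ hσ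
    obtain ⟨g0, hg0G, hg0⟩ := exists_mem_agree_on G Δ r hΔ hGr σ
    have hg0Δ : ∀ x, g0 x ∈ Δ ↔ x ∈ Δ :=
      mem_iff_of_maps_to (fun x hx => by rw [hg0 x hx]; exact (hσ x).mpr hx)
    have hg0inv : ∀ x ∈ Δ, g0⁻¹ x ∈ Δ := by
      intro x hx
      rw [← hg0Δ]; simpa using hx
    -- conjugation by `g0` preserves `H`
    have hconjH : ∀ h ∈ H, g0 * h * g0⁻¹ ∈ H := by
      intro h hh
      rw [hHmem] at hh ⊢
      refine ⟨G.mul_mem (G.mul_mem hg0G hh.1) (G.inv_mem hg0G), fun x hx => ?_⟩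
      simp only [Perm.mul_apply]
      rw [hh.2 _ (hg0inv x hx)]
      simp
    -- the conjugate of `P'` as a subgroup of `H`
    let cj : H →* H :=
      { toFun := fun h => ⟨g0 * h.1 * g0⁻¹, hconjH h.1 h.2⟩
        map_one' := by ext1; simp
        map_mul' := fun a b => by ext1; simp [mul_assoc] }
    have hcjinj : Function.Injective cj := by
      intro a b hab
      have := congrArg Subtype.val hab
      simp only [cj, MonoidHom.coe_mk, OneHom.coe_mk] at this
      ext1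
      exact mul_right_cancel (mul_left_cancel this)
    let Q' : Subgroup H := (P' : Subgroup H).map cj
    have hQ'pg : IsPGroup p Q' := P'.isPGroup'.map cj
    obtain ⟨Q'', hQ''⟩ := hQ'pg.exists_le_sylow
    have hcardQ' : Nat.card Q' = Nat.card (P' : Subgroup H) :=
      Subgroup.card_map_of_injective hcjinj
    have hQeq : Q' = (Q'' : Subgroup H) := by
      apply Subgroup.eq_of_le_of_card_ge hQ''
      rw [hcardQ', Sylow.card_eq_multiplicity, Sylow.card_eq_multiplicity]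
    obtain ⟨h, hh⟩ := MulAction.exists_smul_eq H Q'' P'
    have hmaps : ∀ y ∈ P, (h.1 * g0) * y * (h.1 * g0)⁻¹ ∈ P := by
      intro y hy
      obtain ⟨hyH, hyP'⟩ := (hPmem y).mp hy
      have h1 : cj ⟨y, hyH⟩ ∈ (Q'' : Subgroup H) := by
        rw [← hQeq]
        exact Subgroup.mem_map_of_mem cj hyP'
      have h2 : MulAut.conj h • cj ⟨y, hyH⟩ ∈ MulAut.conj h • (Q'' : Subgroup H) :=
        Subgroup.smul_mem_pointwise_smul _ _ _ h1
      rw [← Sylow.coe_subgroup_smul, hh] at h2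
      rw [hPmem]
      have h3 : ((MulAut.conj h • cj ⟨y, hyH⟩ : H) : Perm α) =
          (h.1 * g0) * y * (h.1 * g0)⁻¹ := by
        simp only [MulAut.smul_def, MulAut.conj_apply, cj, MonoidHom.coe_mk, OneHom.coe_mk,
          Subgroup.coe_mul, Subgroup.coe_inv]
        group
      rw [← h3]
      exact ⟨Subtype.coe_prop _, h2⟩
    refine ⟨h.1 * g0, G.mul_mem ((hHmem h.1).mp h.2).1 hg0G, ?_, ?_⟩
    · intro x hx
      rw [Perm.mul_apply, hg0 x hx]
      exact ((hHmem h.1).mp h.2).2 _ ((hσ x).mpr hx)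
    · intro y
      refine ⟨fun hy => ?_, hmaps y⟩
      -- conjugation is an injective map `P → P`, hence surjective
      let c : P → P := fun y => ⟨(h.1 * g0) * y.1 * (h.1 * g0)⁻¹, hmaps y.1 y.2⟩
      have hcinj : Function.Injective c := by
        intro a b hab
        have := congrArg Subtype.val hab
        simp only [c] at this
        ext1
        exact mul_left_cancel (mul_right_cancel this)
      obtain ⟨y', hy'⟩ := (Finite.injective_iff_surjective.mp hcinj) ⟨_, hy⟩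
      have := congrArg Subtype.val hy'
      simp only [c] at this
      have h4 : y'.1 = y := mul_left_cancel (mul_right_cancel this)
      rw [← h4]
      exact y'.2
  exact ⟨⟨P, hPH.trans (fun g hg => ((hHmem g).mp hg).1), hPfix, hcomm, hexp, horbcard, hwitt⟩⟩

end Cfsg.Agent.Lib.H18.Miller
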