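import Mathlib
import Cfsg.Agent.Lib.H18.Miller2

/-!
# Miller's theorem, part 4: orbit structure of the Sylow subgroup (helper18)
-/

set_option autoImplicit false

namespace Cfsg.Agent.Lib.H18.Miller

open MulAction Equiv

variable {α : Type*} [Fintype α] [DecidableEq α]
variable {G : Subgroup (Perm α)} {Δ : Finset α} {p : ℕ}

namespace SylData

variable (D : SylData G Δ p)

/-- Elements of `P` preserve the complement of `Δ`. -/
theorem apply_notMem {y : Perm α} (hy : y ∈ D.P) {x : α} (hx : x ∉ Δ) : y x ∉ Δ := by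
  intro h
  have h1 : y (y x) = y x := D.fixΔ y hy _ h
  exact hx (y.injective h1 ▸ h)

theorem notMem_of_mem_orb {x z : α} (hx : x ∉ Δ) (hz : z ∈ orb D.P x) : z ∉ Δ := by
  obtain ⟨y, hy, rfl⟩ := mem_orb.mp hz
  exact D.apply_notMem hy hx

omit [Fintype α] [DecidableEq α] in
theorem orb_eq_of_mem {x z : α} (hz : z ∈ orb D.P x) : orb D.P z = orb D.P x := by
  unfold orb at hz ⊢
  exact MulAction.orbit_eq_iff.mpr hz

/-- Rigidity: two elements of the abelian group `P` agreeing at `ω` agree on its orbit. -/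
theorem eqOn_orb {a b : Perm α} (ha : a ∈ D.P) (hb : b ∈ D.P) {ω : α} (h : a ω = b ω) :
    ∀ z ∈ orb D.P ω, a z = b z := by
  intro z hz
  obtain ⟨y, hy, rfl⟩ := mem_orb.mp hz
  have h1 : a (y ω) = y (a ω) := by
    rw [← Perm.mul_apply, D.comm a ha y hy, Perm.mul_apply]
  have h2 : b (y ω) = y (b ω) := by
    rw [← Perm.mul_apply, D.comm b hb y hy, Perm.mul_apply]
  rw [h1, h2, h]

include D in
/-- The minimal period of a point moved by `y0 ∈ P` is `p`. -/
theorem minimalPeriod_eq (hp : p.Prime) {y0 : Perm α} (hy0 : y0 ∈ D.P) {ω : α}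
    (hne : y0 ω ≠ ω) : Function.minimalPeriod (⇑y0) ω = p := by
  have hper : Function.IsPeriodicPt (⇑y0) p ω := by
    unfold Function.IsPeriodicPt Function.IsFixedPt
    rw [Perm.iterate_eq_pow, D.exp y0 hy0, Perm.one_apply]
  rcases (Nat.dvd_prime hp).mp hper.minimalPeriod_dvd with h | h
  · exact absurd (Function.minimalPeriod_eq_one_iff_isFixedPt.mp h) hne
  · exact h

/-- A point moved by `y0 ∈ P`: its orbit under `P` consists of the `y0^i ω`. -/
theorem exists_pow_eq (hp : p.Prime) {y0 : Perm α} (hy0 : y0 ∈ D.P) {ω : α} (hω : ω ∉ Δ)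
    (hne : y0 ω ≠ ω) : ∀ z ∈ orb D.P ω, ∃ i : ℕ, z = (y0 ^ i) ω := by
  have hmp := D.minimalPeriod_eq hp hy0 hne
  let S : Finset α := (Finset.range p).image (fun i => (y0 ^ i) ω)
  have hScard : S.card = p := by
    rw [Finset.card_image_of_injOn, Finset.card_range]
    intro i hi j hj hij
    have := Function.iterate_injOn_Iio_minimalPeriod (f := ⇑y0) (x := ω)
      (by rw [hmp]; exact Finset.mem_range.mp hi) (by rw [hmp]; exact Finset.mem_range.mp hj)
    exact this hij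
  have hSsub : (S : Set α) ⊆ orb D.P ω := by
    intro z hz
    obtain ⟨i, -, rfl⟩ := Finset.mem_image.mp (Finset.mem_coe.mp hz)
    exact mem_orb.mpr ⟨y0 ^ i, D.P.pow_mem hy0 i, rfl⟩
  have hfin : (orb D.P ω).Finite := Set.toFinite _
  have heq : (S : Set α) = orb D.P ω :=
    Set.eq_of_subset_of_ncard_le hSsub (by rw [D.orbCard ω hω, Set.ncard_coe_finset, hScard]) hfin
  intro z hz
  rw [← heq] at hz
  obtain ⟨i, -, hi⟩ := Finset.mem_image.mp (Finset.mem_coe.mp hz)
  exact ⟨i, hi.symm⟩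

/-- Every element of `P` acts on the orbit of `ω` as a power of `y0`. -/
theorem exists_pow_eqOn (hp : p.Prime) {y0 : Perm α} (hy0 : y0 ∈ D.P) {ω : α} (hω : ω ∉ Δ)
    (hne : y0 ω ≠ ω) {y : Perm α} (hy : y ∈ D.P) :
    ∃ j : ℕ, ∀ z ∈ orb D.P ω, y z = (y0 ^ j) z := by
  obtain ⟨j, hj⟩ := D.exists_pow_eq hp hy0 hω hne (y ω)
    (mem_orb.mpr ⟨y, hy, rfl⟩)
  exact ⟨j, D.eqOn_orb hy (D.P.pow_mem hy0 j) hj⟩

/-- If a power of `y0` fixes `ω` then the exponent is divisible by `p`. -/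
theorem dvd_of_pow_apply_eq (hp : p.Prime) {y0 : Perm α} (hy0 : y0 ∈ D.P) {ω : α}
    (hne : y0 ω ≠ ω) {m : ℕ} (hm : (y0 ^ m) ω = ω) : p ∣ m := by
  rw [← D.minimalPeriod_eq hp hy0 hne]
  apply Function.IsPeriodicPt.minimalPeriod_dvd
  unfold Function.IsPeriodicPt Function.IsFixedPt
  rw [Perm.iterate_eq_pow, hm]

/-- Some element of `P` moves a given point outside `Δ`. -/
theorem exists_moves (hp : p.Prime) {ω : α} (hω : ω ∉ Δ) : ∃ y0 ∈ D.P, y0 ω ≠ ω := by
  by_contra hcon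
  push_neg at hcon
  have : orb D.P ω = {ω} := by
    ext z
    rw [mem_orb, Set.mem_singleton_iff]
    constructor
    · rintro ⟨y, hy, rfl⟩
      exact hcon y hy
    · rintro rfl
      exact ⟨1, D.P.one_mem, rfl⟩
  have h1 := D.orbCard ω hω
  rw [this, Set.ncard_singleton] at h1
  exact hp.one_lt.ne h1

end SylData

end Cfsg.Agent.Lib.H18.Miller
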