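import Mathlib
import Cfsg.Agent.Lib.H18.Miller3

/-!
# Miller's theorem, part 5: the normalizer `N`, its action on `Δ` and on the orbits (helper18)
-/

set_option autoImplicit false

namespace Cfsg.Agent.Lib.H18.Miller

open MulAction Equiv
open scoped Pointwise

variable {α : Type*} [Fintype α] [DecidableEq α]
variable {G : Subgroup (Perm α)} {Δ : Finset α} {p : ℕ}

namespace SylData

variable (D : SylData G Δ p)

/-- The elements of `G` preserving `Δ` and normalizing `P`. -/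
def NGrp : Subgroup (Perm α) where
  carrier := {g | g ∈ G ∧ (∀ x, g x ∈ Δ ↔ x ∈ Δ) ∧ ∀ y, g * y * g⁻¹ ∈ D.P ↔ y ∈ D.P}
  one_mem' := ⟨G.one_mem, by simp, by simp⟩
  mul_mem' := by
    rintro a b ⟨haG, haΔ, haP⟩ ⟨hbG, hbΔ, hbP⟩
    refine ⟨G.mul_mem haG hbG, fun x => ?_, fun y => ?_⟩
    · rw [Perm.mul_apply, haΔ, hbΔ]
    · have : a * b * y * (a * b)⁻¹ = a * (b * y * b⁻¹) * a⁻¹ := by group
      rw [this, haP, hbP]
  inv_mem' := by
    rintro a ⟨haG, haΔ, haP⟩
    refine ⟨G.inv_mem haG, fun x => ?_, fun y => ?_⟩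
    · rw [← haΔ]; simp
    · rw [← haP]
      have : a * (a⁻¹ * y * a⁻¹⁻¹) * a⁻¹ = y := by group
      rw [this]

theorem mem_NGrp {g : Perm α} : g ∈ D.NGrp ↔
    g ∈ G ∧ (∀ x, g x ∈ Δ ↔ x ∈ Δ) ∧ ∀ y, g * y * g⁻¹ ∈ D.P ↔ y ∈ D.P := Iff.rfl

/-- An element of `N` maps the `P`-orbit of `x` onto the `P`-orbit of its image. -/
theorem smul_orb {n : Perm α} (hn : n ∈ D.NGrp) (x : α) :
    n • orb D.P x = orb D.P (n x) := by
  ext z
  rw [Set.mem_smul_set, mem_orb]
  constructor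
  · rintro ⟨w, hw, rfl⟩
    obtain ⟨y, hy, rfl⟩ := mem_orb.mp hw
    refine ⟨n * y * n⁻¹, (hn.2.2 y).mpr hy, ?_⟩
    simp [Perm.smul_def]
  · rintro ⟨y, hy, rfl⟩
    have hn' := D.NGrp.inv_mem hn
    refine ⟨(n⁻¹ * y * n) x, mem_orb.mpr ⟨n⁻¹ * y * n, ?_, rfl⟩, ?_⟩
    · have := (hn'.2.2 y).mpr hy
      simpa using this
    · simp [Perm.smul_def]

/-- The set of `P`-orbits outside `Δ`, with the action of `N`. -/
def orbSub : SubMulAction D.NGrp (Set α) where
  carrier := {O | ∃ x ∉ Δ, O = orb D.P x}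
  smul_mem' := by
    rintro n O ⟨x, hx, rfl⟩
    refine ⟨n.1 x, fun h => hx ((n.2.2.1 x).mp h), ?_⟩
    exact D.smul_orb n.2 x

/-- The action of `N` on the `P`-orbits. -/
noncomputable def phi : D.NGrp →* Perm D.orbSub := MulAction.toPermHom D.NGrp D.orbSub

/-- The action of `N` on `Δ`. -/
def rho : D.NGrp →* Perm {x // x ∈ Δ} where
  toFun n := n.1.subtypePerm (fun x => n.2.2.1 x)
  map_one' := by ext x; simp
  map_mul' a b := by ext x; rfl

omit [Fintype α] [DecidableEq α] in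
@[simp] theorem rho_apply (n : D.NGrp) (x : {x // x ∈ Δ}) : ((D.rho n x : {x // x ∈ Δ}) : α) = n.1 x.1 :=
  rfl

theorem rho_surjective : Function.Surjective D.rho := by
  intro τ
  have hσ : ∀ x, (Perm.ofSubtype τ) x ∈ Δ ↔ x ∈ Δ := by
    intro x
    by_cases hx : x ∈ Δ
    · rw [Perm.ofSubtype_apply_of_mem τ hx]
      simp [hx]
    · rw [Perm.ofSubtype_apply_of_not_mem τ hx]
  obtain ⟨n, hnG, hn, hnP⟩ := D.witt (Perm.ofSubtype τ) hσ
  have hnΔ : ∀ x, n x ∈ Δ ↔ x ∈ Δ :=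
    mem_iff_of_maps_to (fun x hx => by rw [hn x hx]; exact (hσ x).mpr hx)
  refine ⟨⟨n, hnG, hnΔ, hnP⟩, ?_⟩
  ext x
  rw [rho_apply]
  simp only
  rw [hn x.1 x.2, Perm.ofSubtype_apply_of_mem τ x.2]

/-- Membership in the kernel of the action on orbits. -/
theorem mem_ker_phi {n : D.NGrp} : n ∈ D.phi.ker ↔ ∀ x ∉ Δ, n.1 x ∈ orb D.P x := by
  rw [MonoidHom.mem_ker]
  constructor
  · intro h x hx
    have h1 := DFunLike.congr_fun h ⟨orb D.P x, x, hx, rfl⟩
    have h2 := congrArg Subtype.val h1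
    simp only [phi, MulAction.toPermHom_apply, MulAction.toPerm_apply, SubMulAction.val_smul,
      Perm.one_apply] at h2
    have h3 : n • orb D.P x = orb D.P (n.1 x) := D.smul_orb n.2 x
    rw [h3] at h2
    rw [← h2]
    exact self_mem_orb _ _
  · intro h
    ext ⟨O, x, hx, rfl⟩
    simp only [phi, MulAction.toPermHom_apply, MulAction.toPerm_apply, SubMulAction.val_smul,
      Perm.one_apply]
    have h3 : n • orb D.P x = orb D.P (n.1 x) := D.smul_orb n.2 x
    rw [h3, D.orb_eq_of_mem (h x hx)]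

/-- There are exactly `k` orbits of `P` outside `Δ`. -/
theorem card_orbSub {k r : ℕ} (hΔ : Δ.card = r)
    (hn : Fintype.card α = k * p + r) (hp : p.Prime) : Nat.card D.orbSub = k := by
  classical
  haveI : Fintype D.orbSub := Fintype.ofFinite _
  let f : {x : α // x ∉ Δ} → D.orbSub := fun x => ⟨orb D.P x.1, x.1, x.2, rfl⟩
  have hfib : ∀ O : D.orbSub, Nat.card {x : {x : α // x ∉ Δ} // f x = O} = p := by
    rintro ⟨O, x0, hx0, rfl⟩
    refine Eq.trans ?_ ((Nat.card_coe_set_eq _).trans (D.orbCard x0 hx0))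
    refine Nat.card_congr ⟨fun x => ⟨x.1.1, ?_⟩, fun z => ⟨⟨z.1, D.notMem_of_mem_orb hx0 z.2⟩, ?_⟩,
      fun x => rfl, fun z => rfl⟩
    · have := congrArg Subtype.val x.2
      simp only [f] at this
      have h := self_mem_orb D.P x.1.1
      rw [this] at h
      exact h
    · apply Subtype.ext
      simp only [f]
      exact D.orb_eq_of_mem z.2
  have h1 : Nat.card {x : α // x ∉ Δ} = k * p := by
    rw [Nat.card_eq_fintype_card, Fintype.card_subtype_compl, Fintype.card_coe, hΔ, hn]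
    omega
  have h2 : Nat.card {x : α // x ∉ Δ} = ∑ O : D.orbSub, Nat.card {x : {x : α // x ∉ Δ} // f x = O} := by
    rw [← Nat.card_sigma]
    exact Nat.card_congr (Equiv.sigmaFiberEquiv f).symm
  rw [h1] at h2
  simp only [hfib, Finset.sum_const, Finset.card_univ, smul_eq_mul] at h2
  rw [Nat.card_eq_fintype_card]
  exact (Nat.eq_of_mul_eq_mul_right hp.pos h2).symm

end SylData

end Cfsg.Agent.Lib.H18.Miller
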