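import Mathlib
import Cfsg.Agent.Lib.H18.Miller4

/-!
# Miller's theorem, part 6: the kernel `K` of the action on orbits acts diagonally (helper18)
-/

set_option autoImplicit false

namespace Cfsg.Agent.Lib.H18.Miller

open MulAction Equiv
open scoped Pointwise

variable {α : Type*} [Fintype α] [DecidableEq α]
variable {G : Subgroup (Perm α)} {Δ : Finset α} {p : ℕ}

omit [Fintype α] [DecidableEq α] in
theorem pow_eqOn {a b : Perm α} {S : Set α} (hb : ∀ z ∈ S, b z ∈ S)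
    (h : ∀ z ∈ S, a z = b z) (m : ℕ) : ∀ z ∈ S, (a ^ m) z = (b ^ m) z := by
  induction m with
  | zero => intro z _; simp
  | succ m ih =>
    intro z hz
    rw [pow_succ, pow_succ, Perm.mul_apply, Perm.mul_apply, h z hz, ih _ (hb z hz)]

namespace SylData

variable (D : SylData G Δ p)

/-- The kernel of the action of `N` on the orbits, as a subgroup of `Perm α`. -/
noncomputable def KGrp : Subgroup (Perm α) := (D.phi.ker).map D.NGrp.subtype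

theorem mem_KGrp {g : Perm α} :
    g ∈ D.KGrp ↔ g ∈ D.NGrp ∧ ∀ x ∉ Δ, g x ∈ orb D.P x := by
  unfold KGrp
  rw [Subgroup.mem_map]
  constructor
  · rintro ⟨n, hn, rfl⟩
    exact ⟨n.2, D.mem_ker_phi.mp hn⟩
  · rintro ⟨hN, h⟩
    exact ⟨⟨g, hN⟩, D.mem_ker_phi.mpr h, rfl⟩

theorem KGrp_le : D.KGrp ≤ D.NGrp := fun _ hg => (D.mem_KGrp.mp hg).1

/-- Elements of `K` preserve each orbit. -/
theorem apply_mem_orb_of_mem_KGrp {g : Perm α} (hg : g ∈ D.KGrp) {ω z : α} (hω : ω ∉ Δ)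
    (hz : z ∈ orb D.P ω) : g z ∈ orb D.P ω := by
  have h1 := (D.mem_KGrp.mp hg).2 z (D.notMem_of_mem_orb hω hz)
  rwa [D.orb_eq_of_mem hz] at h1

/-- Conjugation by an element of `K` acts on each orbit as a power map. -/
theorem exists_pow_conj (hp : p.Prime) {g : Perm α} (hg : g ∈ D.KGrp) {ω : α} (hω : ω ∉ Δ) :
    ∃ l : ℕ, ∀ y ∈ D.P, ∀ z ∈ orb D.P ω, (g * y * g⁻¹) z = (y ^ l) z := by
  obtain ⟨y0, hy0, hne⟩ := D.exists_moves hp hω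
  have hgN := D.KGrp_le hg
  have hz0 : g * y0 * g⁻¹ ∈ D.P := (hgN.2.2 y0).mpr hy0
  obtain ⟨l, hl⟩ := D.exists_pow_eqOn hp hy0 hω hne hz0
  refine ⟨l, fun y hy z hz => ?_⟩
  obtain ⟨j, hj⟩ := D.exists_pow_eqOn hp hy0 hω hne hy
  have hginv : g⁻¹ z ∈ orb D.P ω := D.apply_mem_orb_of_mem_KGrp (D.KGrp.inv_mem hg) hω hz
  have hpres : ∀ (b : Perm α), b ∈ D.P → ∀ z ∈ orb D.P ω, b z ∈ orb D.P ω :=
    fun b hb z hz => apply_mem_orb hb hz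
  have h1 : (g * y * g⁻¹) z = ((g * y0 * g⁻¹) ^ j) z := by
    rw [conj_pow]
    simp only [Perm.mul_apply]
    rw [hj _ hginv]
  rw [h1, pow_eqOn (hpres _ (D.P.pow_mem hy0 l)) hl j z hz,
    pow_eqOn (hpres _ (D.P.pow_mem hy0 j)) hj l z hz, ← pow_mul, ← pow_mul, mul_comm]

/-- Commutators of elements of `K` centralize `P`. -/
theorem commutator_centralizes (hp : p.Prime) {g₁ g₂ : Perm α} (hg₁ : g₁ ∈ D.KGrp)
    (hg₂ : g₂ ∈ D.KGrp) {y : Perm α} (hy : y ∈ D.P) :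
    (g₁⁻¹ * g₂⁻¹ * g₁ * g₂) * y * (g₁⁻¹ * g₂⁻¹ * g₁ * g₂)⁻¹ = y := by
  set c := g₁⁻¹ * g₂⁻¹ * g₁ * g₂ with hc
  have hcK : c ∈ D.KGrp :=
    D.KGrp.mul_mem (D.KGrp.mul_mem (D.KGrp.mul_mem (D.KGrp.inv_mem hg₁) (D.KGrp.inv_mem hg₂)) hg₁) hg₂
  have hcN := D.KGrp_le hcK
  ext x
  by_cases hx : x ∈ Δ
  · have h1 : c⁻¹ x ∈ Δ := by
      rw [← hcN.2.1]; simpa using hx
    simp only [Perm.mul_apply]
    rw [D.fixΔ y hy _ h1, D.fixΔ y hy x hx]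
    simp
  · obtain ⟨l₁, hl₁⟩ := D.exists_pow_conj hp hg₁ hx
    obtain ⟨l₂, hl₂⟩ := D.exists_pow_conj hp hg₂ hx
    have hpres : ∀ (b : Perm α), b ∈ D.P → ∀ z ∈ orb D.P x, b z ∈ orb D.P x :=
      fun b hb z hz => apply_mem_orb hb hz
    have hy₁ : g₁ * y * g₁⁻¹ ∈ D.P := ((D.KGrp_le hg₁).2.2 y).mpr hy
    have hy₂ : g₂ * y * g₂⁻¹ ∈ D.P := ((D.KGrp_le hg₂).2.2 y).mpr hy
    have ha : ∀ z ∈ orb D.P x, ((g₁ * g₂) * y * (g₁ * g₂)⁻¹) z = (y ^ (l₂ * l₁)) z := by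
      intro z hz
      have e : (g₁ * g₂) * y * (g₁ * g₂)⁻¹ = g₁ * (g₂ * y * g₂⁻¹) * g₁⁻¹ := by group
      rw [e, hl₁ _ hy₂ z hz, pow_eqOn (hpres _ (D.P.pow_mem hy l₂)) (hl₂ y hy) l₁ z hz, ← pow_mul]
    have hb : ∀ z ∈ orb D.P x, ((g₂ * g₁) * y * (g₂ * g₁)⁻¹) z = (y ^ (l₂ * l₁)) z := by
      intro z hz
      have e : (g₂ * g₁) * y * (g₂ * g₁)⁻¹ = g₂ * (g₁ * y * g₁⁻¹) * g₂⁻¹ := by group
      rw [e, hl₂ _ hy₁ z hz, pow_eqOn (hpres _ (D.P.pow_mem hy l₁)) (hl₁ y hy) l₂ z hz, ← pow_mul,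
        mul_comm]
    have hh : (g₂ * g₁) x ∈ orb D.P x :=
      D.apply_mem_orb_of_mem_KGrp (D.KGrp.mul_mem hg₂ hg₁) hx (self_mem_orb _ _)
    have e1 : c * y * c⁻¹ = (g₂ * g₁)⁻¹ * ((g₁ * g₂) * y * (g₁ * g₂)⁻¹) * (g₂ * g₁) := by
      rw [hc]; group
    have e2 : y = (g₂ * g₁)⁻¹ * ((g₂ * g₁) * y * (g₂ * g₁)⁻¹) * (g₂ * g₁) := by group
    have e1' : (c * y * c⁻¹) x =
        (g₂ * g₁)⁻¹ (((g₁ * g₂) * y * (g₁ * g₂)⁻¹) ((g₂ * g₁) x)) := by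
      rw [e1]; rfl
    have e2' : y x = (g₂ * g₁)⁻¹ (((g₂ * g₁) * y * (g₂ * g₁)⁻¹) ((g₂ * g₁) x)) := by
      conv_lhs => rw [e2]
      rfl
    rw [e1', e2', ha _ hh, hb _ hh]

/-- An element of `K` centralizing `P` has `p`-th power fixing every point outside `Δ`. -/
theorem pow_apply_eq_of_centralizes {u : Perm α} (hu : u ∈ D.KGrp)
    (hcent : ∀ y ∈ D.P, u * y = y * u) {x : α} (hx : x ∉ Δ) : (u ^ p) x = x := by
  obtain ⟨y, hy, hyx⟩ := mem_orb.mp ((D.mem_KGrp.mp hu).2 x hx)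
  have key : ∀ i : ℕ, (u ^ i) x = (y ^ i) x := by
    intro i
    induction i with
    | zero => simp
    | succ i ih =>
      have hcomm : u ^ i * y = y * u ^ i := by
        have : Commute u y := hcent y hy
        exact (this.pow_left i).eq
      rw [pow_succ, Perm.mul_apply, ← hyx, ← Perm.mul_apply, hcomm, Perm.mul_apply, ih,
        ← Perm.mul_apply, ← pow_succ']
  rw [key p, D.exp y hy, Perm.one_apply]

end SylData

end Cfsg.Agent.Lib.H18.Miller
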