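import Mathlib
import Cfsg.Agent.Lib.H18.Miller5

/-!
# Miller's theorem, part 7: with at most three orbits and no `p`-cycle in `P`,
the kernel `K` acts on `P` by power maps (helper18)
-/

set_option autoImplicit false

namespace Cfsg.Agent.Lib.H18.Miller

open MulAction Equiv
open scoped Pointwise

variable {α : Type*} [Fintype α] [DecidableEq α]
variable {G : Subgroup (Perm α)} {Δ : Finset α} {p : ℕ}

namespace SylData

variable (D : SylData G Δ p)

/-- An element of `P` fixing `ω` fixes the whole orbit of `ω`. -/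
theorem fix_orb_of_fix {t : Perm α} (ht : t ∈ D.P) {ω : α} (h : t ω = ω) :
    ∀ z ∈ orb D.P ω, t z = z := by
  intro z hz
  have := D.eqOn_orb ht D.P.one_mem (ω := ω) (by simpa using h) z hz
  simpa using this

/-- An element of `P` that is nontrivial on at most one orbit is trivial, if `P` has no cycle. -/
theorem eq_one_of_single_orbit (hp : p.Prime) (hnpc : ∀ t ∈ D.P, ¬ t.IsCycle) {t : Perm α}
    (ht : t ∈ D.P) {ω : α} (hω : ω ∉ Δ) (h : ∀ x ∉ Δ, x ∉ orb D.P ω → t x = x) : t = 1 := by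
  by_contra hne
  obtain ⟨x0, hx0⟩ : ∃ x0, t x0 ≠ x0 := by
    by_contra hcon
    push_neg at hcon
    exact hne (Perm.ext hcon)
  have hx0Δ : x0 ∉ Δ := fun hmem => hx0 (D.fixΔ t ht x0 hmem)
  have hx0orb : x0 ∈ orb D.P ω := by
    by_contra hcon
    exact hx0 (h x0 hx0Δ hcon)
  apply hnpc t ht
  refine ⟨x0, hx0, fun y hy => ?_⟩
  have hyΔ : y ∉ Δ := fun hmem => hy (D.fixΔ t ht y hmem)
  have hyorb : y ∈ orb D.P ω := by
    by_contra hcon
    exact hy (h y hyΔ hcon)
  rw [← D.orb_eq_of_mem hx0orb] at hyorb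
  obtain ⟨i, hi⟩ := D.exists_pow_eq hp ht hx0Δ hx0 y hyorb
  exact ⟨(i : ℤ), by rw [zpow_natCast]; exact hi.symm⟩

/-- Exponents giving the same image of a moved point are congruent mod `p`. -/
theorem modEq_of_pow_apply_eq (hp : p.Prime) {t : Perm α} (ht : t ∈ D.P) {ω : α}
    (hne : t ω ≠ ω) {a b : ℕ} (h : (t ^ a) ω = (t ^ b) ω) : a ≡ b [MOD p] := by
  wlog hab : a ≤ b generalizing a b
  · exact (this h.symm (le_of_not_ge hab)).symm
  obtain ⟨d, rfl⟩ := Nat.exists_eq_add_of_le hab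
  have h1 : (t ^ d) ω = ω := by
    rw [pow_add, Perm.mul_apply] at h
    exact ((t ^ a).injective h).symm
  have := D.dvd_of_pow_apply_eq hp ht hne h1
  rw [Nat.modEq_iff_dvd' (Nat.le_add_right a d)]
  simpa using this

/-- Powers of elements of `P` only depend on the exponent mod `p`. -/
theorem pow_eq_pow_of_modEq {y : Perm α} (hy : y ∈ D.P) {a b : ℕ} (h : a ≡ b [MOD p]) :
    y ^ a = y ^ b := by
  rw [pow_eq_pow_iff_modEq]
  exact h.of_dvd (orderOf_dvd_of_pow_eq_one (D.exp y hy))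

/-- Linking two orbits through an element of `P` supported on them: the power-map exponents
of `g ∈ K` on the two orbits agree mod `p`. -/
theorem modEq_of_link (hp : p.Prime) (hnpc : ∀ t ∈ D.P, ¬ t.IsCycle) {g : Perm α}
    (hg : g ∈ D.KGrp) {ω₁ ω₂ : α} (h₂ : ω₂ ∉ Δ) {t : Perm α} (ht : t ∈ D.P)
    (ht₂ : t ω₂ ≠ ω₂)
    (hother : ∀ x ∉ Δ, x ∉ orb D.P ω₁ → x ∉ orb D.P ω₂ → t x = x) {l₁ l₂ : ℕ}
    (hl₁ : ∀ y ∈ D.P, ∀ z ∈ orb D.P ω₁, (g * y * g⁻¹) z = (y ^ l₁) z)
    (hl₂ : ∀ y ∈ D.P, ∀ z ∈ orb D.P ω₂, (g * y * g⁻¹) z = (y ^ l₂) z) :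
    l₁ ≡ l₂ [MOD p] := by
  have hgN := D.KGrp_le hg
  have hgt : g * t * g⁻¹ ∈ D.P := (hgN.2.2 t).mpr ht
  have htl : t ^ l₁ ∈ D.P := D.P.pow_mem ht l₁
  set s := (g * t * g⁻¹) * (t ^ l₁)⁻¹ with hs
  have hsP : s ∈ D.P := D.P.mul_mem hgt (D.P.inv_mem htl)
  have hs1 : s = 1 := by
    apply D.eq_one_of_single_orbit hp hnpc hsP h₂
    intro x hxΔ hx₂
    by_cases hx₁ : x ∈ orb D.P ω₁
    · have hz' : (t ^ l₁)⁻¹ x ∈ orb D.P ω₁ := apply_mem_orb (D.P.inv_mem htl) hx₁
      rw [hs, Perm.mul_apply, hl₁ t ht _ hz']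
      simp
    · have htx : t x = x := hother x hxΔ hx₁ hx₂
      have h1 : (t ^ l₁)⁻¹ x = x := by
        rw [Perm.inv_eq_iff_eq]
        exact (Perm.pow_apply_eq_self_of_apply_eq_self htx l₁).symm
      rw [hs, Perm.mul_apply, h1]
      have hx' : g⁻¹ x ∈ orb D.P x :=
        D.apply_mem_orb_of_mem_KGrp (D.KGrp.inv_mem hg) hxΔ (self_mem_orb _ _)
      have hx'Δ : g⁻¹ x ∉ Δ := D.notMem_of_mem_orb hxΔ hx'
      have hx'1 : g⁻¹ x ∉ orb D.P ω₁ := by
        intro hmem
        apply hx₁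
        rw [← D.orb_eq_of_mem hmem, D.orb_eq_of_mem hx']
        exact self_mem_orb _ _
      have hx'2 : g⁻¹ x ∉ orb D.P ω₂ := by
        intro hmem
        apply hx₂
        rw [← D.orb_eq_of_mem hmem, D.orb_eq_of_mem hx']
        exact self_mem_orb _ _
      simp only [Perm.mul_apply]
      rw [hother _ hx'Δ hx'1 hx'2]
      simp
  have heq : g * t * g⁻¹ = t ^ l₁ := by
    rw [hs, mul_inv_eq_one] at hs1
    exact hs1
  have := hl₂ t ht ω₂ (self_mem_orb _ _)
  rw [heq] at this
  exact D.modEq_of_pow_apply_eq hp ht ht₂ this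

theorem orb_ne_of_notMem {ω ω' : α} (h : ω ∉ orb D.P ω') : orb D.P ω ≠ orb D.P ω' := by
  intro heq
  apply h
  rw [← heq]
  exact self_mem_orb _ _

/-- With at most three orbits and no cycle in `P`, conjugation by an element of `K`
is a power map on `P`. -/
theorem exists_pow_conj_global (hp : p.Prime) (hnpc : ∀ t ∈ D.P, ¬ t.IsCycle)
    (h3 : Nat.card D.orbSub ≤ 3) {g : Perm α} (hg : g ∈ D.KGrp) :
    ∃ l : ℕ, ∀ y ∈ D.P, g * y * g⁻¹ = y ^ l := by
  have hgN := D.KGrp_le hg
  by_cases hA : ∃ ω ∉ Δ, ∀ t ∈ D.P, t ω = ω → t = 1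
  · -- the cyclic case
    obtain ⟨ω, hω, hinj⟩ := hA
    obtain ⟨y0, hy0, hne⟩ := D.exists_moves hp hω
    have hcyc : ∀ y ∈ D.P, ∃ j : ℕ, y = y0 ^ j := by
      intro y hy
      obtain ⟨j, hj⟩ := D.exists_pow_eqOn hp hy0 hω hne hy
      refine ⟨j, ?_⟩
      have h1 : y * (y0 ^ j)⁻¹ = 1 := by
        apply hinj _ (D.P.mul_mem hy (D.P.inv_mem (D.P.pow_mem hy0 j)))
        have h2 : (y0 ^ j)⁻¹ ω ∈ orb D.P ω :=
          apply_mem_orb (D.P.inv_mem (D.P.pow_mem hy0 j)) (self_mem_orb _ _)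
        rw [Perm.mul_apply, hj _ h2]
        simp
      exact mul_inv_eq_one.mp h1
    obtain ⟨l, hl⟩ := hcyc _ ((hgN.2.2 y0).mpr hy0)
    refine ⟨l, fun y hy => ?_⟩
    obtain ⟨j, rfl⟩ := hcyc y hy
    rw [← conj_pow, hl, ← pow_mul, ← pow_mul, mul_comm]
  · push_neg at hA
    by_cases hΓ : ∃ ω, ω ∉ Δ
    swap
    · push_neg at hΓ
      refine ⟨1, fun y hy => ?_⟩
      have hy1 : y = 1 := Perm.ext (fun x => D.fixΔ y hy x (hΓ x))
      rw [hy1]; simp
    obtain ⟨ω₀, hω₀⟩ := hΓ
    obtain ⟨l₀, hl₀⟩ := D.exists_pow_conj hp hg hω₀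
    have hgood : ∀ ω ∉ Δ, ∀ y ∈ D.P, ∀ z ∈ orb D.P ω, (g * y * g⁻¹) z = (y ^ l₀) z := by
      intro ω hω
      by_cases hsame : ω ∈ orb D.P ω₀
      · rw [D.orb_eq_of_mem hsame]; exact hl₀
      obtain ⟨l, hl⟩ := D.exists_pow_conj hp hg hω
      suffices hmod : l₀ ≡ l [MOD p] by
        intro y hy z hz
        rw [hl y hy z hz, D.pow_eq_pow_of_modEq hy hmod]
      by_cases h2 : ∀ x ∉ Δ, x ∈ orb D.P ω₀ ∨ x ∈ orb D.P ω
      · -- only two orbits: impossible
        exfalso
        obtain ⟨t, ht, htω, htne⟩ := hA ω₀ hω₀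
        apply htne
        apply D.eq_one_of_single_orbit hp hnpc ht hω
        intro x hxΔ hx
        rcases h2 x hxΔ with h | h
        · exact D.fix_orb_of_fix ht htω x h
        · exact absurd h hx
      · push_neg at h2
        obtain ⟨ω₃, hω₃, h30, h3ω⟩ := h2
        -- every point outside `Δ` lies in one of the three orbits
        have hcover : ∀ x ∉ Δ, x ∈ orb D.P ω₀ ∨ x ∈ orb D.P ω ∨ x ∈ orb D.P ω₃ := by
          intro x hxΔ
          by_contra hcon
          push_neg at hcon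
          obtain ⟨hx0, hx1, hx3⟩ := hcon
          classical
          haveI : Fintype D.orbSub := Fintype.ofFinite _
          let f : Fin 4 → D.orbSub :=
            ![⟨orb D.P ω₀, ω₀, hω₀, rfl⟩, ⟨orb D.P ω, ω, hω, rfl⟩, ⟨orb D.P ω₃, ω₃, hω₃, rfl⟩,
              ⟨orb D.P x, x, hxΔ, rfl⟩]
          have hf : Function.Injective f := by
            have n1 := D.orb_ne_of_notMem hsame
            have n2 := D.orb_ne_of_notMem h30
            have n3 := D.orb_ne_of_notMem h3ω
            have n4 := D.orb_ne_of_notMem hx0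
            have n5 := D.orb_ne_of_notMem hx1
            have n6 := D.orb_ne_of_notMem hx3
            intro i j hij
            fin_cases i <;> fin_cases j <;>
              simp [f, Subtype.ext_iff] at hij ⊢ <;>
              first
                | exact absurd hij n1 | exact absurd hij.symm n1
                | exact absurd hij n2 | exact absurd hij.symm n2
                | exact absurd hij n3 | exact absurd hij.symm n3
                | exact absurd hij n4 | exact absurd hij.symm n4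
                | exact absurd hij n5 | exact absurd hij.symm n5
                | exact absurd hij n6 | exact absurd hij.symm n6
          have := Fintype.card_le_of_injective f hf
          rw [Fintype.card_fin, ← Nat.card_eq_fintype_card] at this
          omega
        obtain ⟨t, ht, htω₃, htne⟩ := hA ω₃ hω₃
        have ht3 := D.fix_orb_of_fix ht htω₃
        have htω : t ω ≠ ω := by
          intro hfix
          apply htne
          apply D.eq_one_of_single_orbit hp hnpc ht hω₀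
          intro x hxΔ hx
          rcases hcover x hxΔ with h | h | h
          · exact absurd h hx
          · exact D.fix_orb_of_fix ht hfix x h
          · exact ht3 x h
        apply D.modEq_of_link hp hnpc hg hω ht htω ?_ hl₀ hl
        intro x hxΔ hx0 hx1
        rcases hcover x hxΔ with h | h | h
        · exact absurd h hx0
        · exact absurd h hx1
        · exact ht3 x h
    refine ⟨l₀, fun y hy => ?_⟩
    ext x
    by_cases hx : x ∈ Δ
    · have h1 : g⁻¹ x ∈ Δ := by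
        rw [← hgN.2.1]; simpa using hx
      simp only [Perm.mul_apply]
      rw [D.fixΔ y hy _ h1, D.fixΔ _ (D.P.pow_mem hy l₀) x hx]
      simp
    · exact hgood x hx y hy x (self_mem_orb _ _)

end SylData

end Cfsg.Agent.Lib.H18.Miller
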