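import Mathlib
import Cfsg.Agent.Lib.H18.Miller6
import Cfsg.Agent.Lib.H18.Miller9

/-!
# Miller's theorem, part 8: assembling the proof (helper18)
-/

set_option autoImplicit false

namespace Cfsg.Agent.Lib.H18.Miller

open MulAction Equiv
open scoped Pointwise

set_option maxRecDepth 100000 in
theorem fact3 : ∀ m : Perm (Fin 3), m ≠ 1 → ∃ σ : Perm (Fin 3),
    σ⁻¹ * m⁻¹ * σ * m ≠ 1 ∧ (σ⁻¹ * m⁻¹ * σ * m) ^ 3 = 1 := by decide

set_option maxRecDepth 100000 in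
theorem fact4 : ∀ m : Perm (Fin 4), m ≠ 1 → ∃ σ : Perm (Fin 4),
    σ⁻¹ * m⁻¹ * σ * m ≠ 1 ∧ (σ⁻¹ * m⁻¹ * σ * m) ^ 2 = 1 := by decide

theorem fact5 : ∃ σ₁ σ₂ : Perm (Fin 4), Perm.sign σ₁ = 1 ∧ Perm.sign σ₂ = 1 ∧
    σ₁⁻¹ * σ₂⁻¹ * σ₁ * σ₂ ≠ 1 ∧ (σ₁⁻¹ * σ₂⁻¹ * σ₁ * σ₂) ^ 2 = 1 :=
  ⟨c[0, 1, 2], c[0, 1, 3], by decide, by decide, by decide, by decide⟩

theorem transport_fact {A B : Type*} [Group A] [Group B] (Φ : A ≃* B) (q : ℕ)
    (h : ∀ m : B, m ≠ 1 → ∃ σ : B, σ⁻¹ * m⁻¹ * σ * m ≠ 1 ∧ (σ⁻¹ * m⁻¹ * σ * m) ^ q = 1) :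
    ∀ m : A, m ≠ 1 → ∃ σ : A, σ⁻¹ * m⁻¹ * σ * m ≠ 1 ∧ (σ⁻¹ * m⁻¹ * σ * m) ^ q = 1 := by
  intro m hm
  obtain ⟨σ', h1, h2⟩ := h (Φ m) (by simpa using hm)
  refine ⟨Φ.symm σ', ?_, ?_⟩
  · intro hcon
    apply h1
    have := congrArg Φ hcon
    simpa using this
  · apply Φ.injective
    simpa using h2

/-- an element of order dividing 2 raised to an odd power -/
theorem pow_ne_one_of_sq {A : Type*} [Group A] {c : A} (hc : c ≠ 1) (h2 : c ^ 2 = 1) {p : ℕ}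
    (hp : p.Prime) (hp2 : p ≠ 2) : c ^ p ≠ 1 := by
  intro h
  apply hc
  have h1 : orderOf c ∣ 2 := orderOf_dvd_of_pow_eq_one h2
  have h3 : orderOf c ∣ p := orderOf_dvd_of_pow_eq_one h
  have h4 : orderOf c ∣ Nat.gcd 2 p := Nat.dvd_gcd h1 h3
  have h5 : Nat.gcd 2 p = 1 := by
    rw [Nat.coprime_primes Nat.prime_two hp |>.mpr (Ne.symm hp2)]
  rw [h5, Nat.dvd_one] at h4
  exact orderOf_eq_one_iff.mp h4

theorem pow_ne_one_of_cube {A : Type*} [Group A] {c : A} (hc : c ≠ 1) (h3 : c ^ 3 = 1) {p : ℕ}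
    (hp : p.Prime) (hp3 : p ≠ 3) : c ^ p ≠ 1 := by
  intro h
  apply hc
  have h1 : orderOf c ∣ 3 := orderOf_dvd_of_pow_eq_one h3
  have h3' : orderOf c ∣ p := orderOf_dvd_of_pow_eq_one h
  have h4 : orderOf c ∣ Nat.gcd 3 p := Nat.dvd_gcd h1 h3'
  have h5 : Nat.gcd 3 p = 1 := by
    rw [Nat.coprime_primes Nat.prime_three hp |>.mpr (Ne.symm hp3)]
  rw [h5, Nat.dvd_one] at h4
  exact orderOf_eq_one_iff.mp h4

variable {α : Type*} [Fintype α] [DecidableEq α]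
variable {G : Subgroup (Perm α)} {Δ : Finset α} {p : ℕ}

namespace SylData

variable (D : SylData G Δ p)

/-- If `K` acts by a power map via `g`, commutators with `g` centralize `P`. -/
theorem commutator_centralizes_of_pow {g n : Perm α} (hn : n ∈ D.NGrp) {l : ℕ}
    (hl : ∀ y ∈ D.P, g * y * g⁻¹ = y ^ l) {y : Perm α} (hy : y ∈ D.P) :
    (n⁻¹ * g⁻¹ * n * g) * y * (n⁻¹ * g⁻¹ * n * g)⁻¹ = y := by
  have hy' : n * y * n⁻¹ ∈ D.P := (hn.2.2 y).mpr hy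
  have h1 : g * (n * y * n⁻¹) * g⁻¹ = (n * y * n⁻¹) ^ l := hl _ hy'
  have h2 : g * y * g⁻¹ = y ^ l := hl y hy
  calc (n⁻¹ * g⁻¹ * n * g) * y * (n⁻¹ * g⁻¹ * n * g)⁻¹
      = n⁻¹ * (g⁻¹ * (n * (g * y * g⁻¹) * n⁻¹) * g) * n := by group
    _ = n⁻¹ * (g⁻¹ * (n * y * n⁻¹) ^ l * g) * n := by rw [h2, conj_pow]
    _ = n⁻¹ * (g⁻¹ * (g * (n * y * n⁻¹) * g⁻¹) * g) * n := by rw [h1]
    _ = y := by group

/-- The image `M` of `K` in `Sym(Δ)` is nontrivial when there are fewer orbits than `#Δ`. -/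
theorem exists_mem_ker_rho_ne_one {k r : ℕ} (hΔ : Δ.card = r) (hn : Fintype.card α = k * p + r)
    (hp : p.Prime) (hk : 1 ≤ k) (hkr : k < r) : ∃ g ∈ D.phi.ker, D.rho g ≠ 1 := by
  by_contra hcon
  push_neg at hcon
  have hle : D.phi.ker ≤ D.rho.ker := fun g hg => MonoidHom.mem_ker.mpr (hcon g hg)
  have h1 := Subgroup.index_dvd_of_le hle
  rw [Subgroup.index_ker, Subgroup.index_ker] at h1
  have h2 : Nat.card D.rho.range = r.factorial := by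
    rw [MonoidHom.range_eq_top.mpr D.rho_surjective, Subgroup.card_top, Nat.card_perm,
      Nat.card_eq_fintype_card, Fintype.card_coe, hΔ]
  have h3 : Nat.card D.phi.range ∣ k.factorial := by
    have := Subgroup.card_subgroup_dvd_card D.phi.range
    rwa [Nat.card_perm, D.card_orbSub hΔ hn hp] at this
  rw [h2] at h1
  have h4 : r.factorial ≤ k.factorial := Nat.le_of_dvd (Nat.factorial_pos k) (h1.trans h3)
  have h5 : k.factorial < r.factorial := (Nat.factorial_lt hk).mpr hkr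
  omega

/-- The key element: in the kernel of the action on the orbits, centralizing `P`, and with
`p`-th power acting nontrivially on `Δ`. -/
theorem exists_central_elt {k r : ℕ} (hΔ : Δ.card = r) (hn : Fintype.card α = k * p + r)
    (hp : p.Prime) (hk : 2 ≤ k) (hkp : k < p) (hkr : k < r)
    (hnpc : ∀ t ∈ D.P, ¬ t.IsCycle) (h93 : ¬ (p = 3 ∧ r = 3)) :
    ∃ u : D.NGrp, u ∈ D.phi.ker ∧ (∀ y ∈ D.P, u.1 * y = y * u.1) ∧ (D.rho u) ^ p ≠ 1 := by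
  have hp2 : p ≠ 2 := by omega
  obtain ⟨g, hgker, hgne⟩ := D.exists_mem_ker_rho_ne_one hΔ hn hp (by omega) hkr
  have hcardΔ : Nat.card {x // x ∈ Δ} = r := by
    rw [Nat.card_eq_fintype_card, Fintype.card_coe, hΔ]
  rcases Nat.lt_or_ge r 5 with hr | hr
  · -- `r ∈ {3, 4}`: power maps
    have hk3 : Nat.card D.orbSub ≤ 3 := by rw [D.card_orbSub hΔ hn hp]; omega
    have hgK : g.1 ∈ D.KGrp := D.mem_KGrp.mpr ⟨g.2, D.mem_ker_phi.mp hgker⟩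
    obtain ⟨l, hl⟩ := D.exists_pow_conj_global hp hnpc hk3 hgK
    have hexσ : ∃ σ : Perm {x // x ∈ Δ},
        (σ⁻¹ * (D.rho g)⁻¹ * σ * D.rho g) ^ p ≠ 1 := by
      have hr34 : r = 3 ∨ r = 4 := by omega
      rcases hr34 with rfl | rfl
      · have e : {x // x ∈ Δ} ≃ Fin 3 := Fintype.equivFinOfCardEq (by rw [Fintype.card_coe, hΔ])
        obtain ⟨σ, h1, h2⟩ := transport_fact e.permCongrHom 3 fact3 _ hgne
        exact ⟨σ, pow_ne_one_of_cube h1 h2 hp (fun h => h93 ⟨h, rfl⟩)⟩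
      · have e : {x // x ∈ Δ} ≃ Fin 4 := Fintype.equivFinOfCardEq (by rw [Fintype.card_coe, hΔ])
        obtain ⟨σ, h1, h2⟩ := transport_fact e.permCongrHom 2 fact4 _ hgne
        exact ⟨σ, pow_ne_one_of_sq h1 h2 hp hp2⟩
    obtain ⟨σ, hσ⟩ := hexσ
    obtain ⟨n, rfl⟩ := D.rho_surjective σ
    refine ⟨n⁻¹ * g⁻¹ * n * g, ?_, ?_, ?_⟩
    · have h1 : n⁻¹ * g⁻¹ * n ∈ D.phi.ker := by
        have := (inferInstance : D.phi.ker.Normal).conj_mem g⁻¹ (D.phi.ker.inv_mem hgker) n⁻¹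
        simpa using this
      exact D.phi.ker.mul_mem h1 hgker
    · intro y hy
      have := D.commutator_centralizes_of_pow n.2 hl hy
      rw [mul_inv_eq_iff_eq_mul] at this
      exact this
    · simpa using hσ
  · -- `r ≥ 5`: commutators in the kernel
    haveI hMn : ((D.phi.ker).map D.rho).Normal :=
      Subgroup.Normal.map inferInstance D.rho D.rho_surjective
    have hMnt : Nontrivial ((D.phi.ker).map D.rho) := by
      refine ⟨⟨⟨D.rho g, Subgroup.mem_map_of_mem _ hgker⟩, 1, ?_⟩⟩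
      intro h
      exact hgne (congrArg Subtype.val h)
    have hA : alternatingGroup {x // x ∈ Δ} ≤ (D.phi.ker).map D.rho :=
      Equiv.Perm.alternatingGroup_le_of_normal (by rw [hcardΔ]; exact hr) hMnt
    obtain ⟨ι⟩ : Nonempty (Fin 4 ↪ {x // x ∈ Δ}) :=
      Function.Embedding.nonempty_of_card_le (by rw [Fintype.card_fin, Fintype.card_coe, hΔ]; omega)
    obtain ⟨σ₁, σ₂, hs₁, hs₂, hc1, hc2⟩ := fact5
    have hsign : ∀ σ : Perm (Fin 4), Perm.sign σ = 1 →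
        Perm.viaEmbeddingHom ι σ ∈ alternatingGroup {x // x ∈ Δ} := by
      intro σ hσ
      classical
      rw [Perm.mem_alternatingGroup, Perm.viaEmbeddingHom_apply, Perm.viaEmbedding,
        Perm.sign_extendDomain, hσ]
    obtain ⟨g₁, hg₁, hg₁ρ⟩ := Subgroup.mem_map.mp (hA (hsign σ₁ hs₁))
    obtain ⟨g₂, hg₂, hg₂ρ⟩ := Subgroup.mem_map.mp (hA (hsign σ₂ hs₂))
    refine ⟨g₁⁻¹ * g₂⁻¹ * g₁ * g₂, ?_, ?_, ?_⟩
    · exact D.phi.ker.mul_mem (D.phi.ker.mul_mem (D.phi.ker.mul_mem (D.phi.ker.inv_mem hg₁)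
        (D.phi.ker.inv_mem hg₂)) hg₁) hg₂
    · intro y hy
      have hK₁ : g₁.1 ∈ D.KGrp := D.mem_KGrp.mpr ⟨g₁.2, D.mem_ker_phi.mp hg₁⟩
      have hK₂ : g₂.1 ∈ D.KGrp := D.mem_KGrp.mpr ⟨g₂.2, D.mem_ker_phi.mp hg₂⟩
      have := D.commutator_centralizes hp hK₁ hK₂ hy
      rw [mul_inv_eq_iff_eq_mul] at this
      exact this
    · have h1 : D.rho (g₁⁻¹ * g₂⁻¹ * g₁ * g₂) =
          Perm.viaEmbeddingHom ι (σ₁⁻¹ * σ₂⁻¹ * σ₁ * σ₂) := by
        simp only [map_mul, map_inv, hg₁ρ, hg₂ρ]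
      rw [h1, ← map_pow]
      intro h
      have h2 := Perm.viaEmbeddingHom_injective ι (h.trans (map_one _).symm)
      exact pow_ne_one_of_sq hc1 hc2 hp hp2 h2

end SylData

end Cfsg.Agent.Lib.H18.Miller
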