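import Mathlib
import Cfsg.Prelude.Def_Sporadic_a
import Cfsg.Prelude.Def_SporadicCombinatorics
import Cfsg.Agent.Lib.H27.Co0Mod2
import Cfsg.Agent.Lib.H27.Leech32Shapes

/-!
helper18 library (for S1572): the "Gram lemmas".  An element of `Co0` which maps enough vectors of
shape `(±4, ±4, 0^22)` to vectors of that shape stabilises the standard cross.
-/

set_option autoImplicit false

namespace Cfsg.Agent.Lib.H18.NX

open Cfsg Finset Cfsg.Agent.Lib.H27 Cfsg.Agent.Lib.H28

/-- An automorphism mapping one vector of the standard cross into the standard cross stabilises the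
standard cross. -/
theorem stabCross_of_mem {g : Co0} {i0 : GolayPt}
    (h : ((g • u8 i0 : leechLattice) : GolayPt → ℤ) ∈ stdCross) : StabCross g := by
  intro v hv
  obtain ⟨z, hz, e⟩ := stdCross_congr (u8_mem_stdCross i0) hv
  apply mem_stdCross_of_congr (g • v).2 _ h
  · refine ⟨((g • (⟨z, hz⟩ : leechLattice) : leechLattice) : GolayPt → ℤ),
      (g • (⟨z, hz⟩ : leechLattice) : leechLattice).2, ?_⟩
    have e' : u8 i0 - v = (⟨z, hz⟩ : leechLattice) + ⟨z, hz⟩ := by
      apply Subtype.ext
      rw [AddSubgroup.coe_sub, AddSubgroup.coe_add, e, two_nsmul]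
    have := congrArg (fun u : leechLattice => (g • u : leechLattice)) e'
    simp only [Co0_smul_sub, Co0_smul_add] at this
    have := congrArg (fun u : leechLattice => (u : GolayPt → ℤ)) this
    simp only [AddSubgroup.coe_sub, AddSubgroup.coe_add] at this
    rw [this, two_nsmul]
  · rw [Co0_sqNorm]
    exact sqNorm_stdCross hv

/-- The support of a vector of shape `(±4, ±4, 0^22)`. -/
theorem isA_support {a : GolayPt → ℤ} (ha : IsA a) :
    ∃ s t, s ≠ t ∧ (a s = 4 ∨ a s = -4) ∧ (a t = 4 ∨ a t = -4) ∧ ∀ k, k ≠ s → k ≠ t → a k = 0 := by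
  obtain ⟨s, t, hst, h⟩ := ha
  refine ⟨s, t, hst, ?_, ?_, ?_⟩
  · have := h s
    rw [if_pos (Or.inl rfl)] at this
    rcases abs_eq (by norm_num : (0 : ℤ) ≤ 4) |>.1 this with e | e
    · exact Or.inl e
    · exact Or.inr e
  · have := h t
    rw [if_pos (Or.inr rfl)] at this
    rcases abs_eq (by norm_num : (0 : ℤ) ≤ 4) |>.1 this with e | e
    · exact Or.inl e
    · exact Or.inr e
  · intro k hks hkt
    have := h k
    rw [if_neg (by rintro (e | e) <;> [exact hks e; exact hkt e])] at this
    exact abs_eq_zero.1 this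

theorem dotInt_two_support {a b : GolayPt → ℤ} {s t : GolayPt} (hst : s ≠ t)
    (h0 : ∀ k, k ≠ s → k ≠ t → a k = 0) : dotInt a b = a s * b s + a t * b t := by
  unfold dotInt
  apply Fintype.sum_eq_add s t hst
  intro k hk
  rw [h0 k hk.1 hk.2, zero_mul]

/-- Two orthogonal vectors of shape `(±4, ±4, 0^22)`: either their sum lies in the standard cross
or their supports are disjoint. -/
theorem isA_add_cases {a b : GolayPt → ℤ} (ha : IsA a) (hb : IsA b) (hab : dotInt a b = 0) :
    a + b ∈ stdCross ∨ ∀ k, a k = 0 ∨ b k = 0 := by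
  obtain ⟨s, t, hst, hs, ht, h0⟩ := isA_support ha
  obtain ⟨s', t', hst', hs', ht', h0'⟩ := isA_support hb
  rw [dotInt_two_support hst h0] at hab
  -- values of `b` at `s` and `t`
  have hbv : ∀ k, b k = 0 ∨ b k = 4 ∨ b k = -4 := by
    intro k
    by_cases h1 : k = s'
    · subst h1; rcases hs' with e | e <;> simp [e]
    · by_cases h2 : k = t'
      · subst h2; rcases ht' with e | e <;> simp [e]
      · exact Or.inl (h0' k h1 h2)
  by_cases hbs : b s = 0
  · by_cases hbt : b t = 0
    · right
      intro k
      by_cases h1 : k = s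
      · subst h1; exact Or.inr hbs
      · by_cases h2 : k = t
        · subst h2; exact Or.inr hbt
        · exact Or.inl (h0 k h1 h2)
    · exfalso
      rw [hbs] at hab
      rcases ht with e | e <;> rcases hbv t with e' | e' | e' <;> rw [e, e'] at hab <;> omega
  · by_cases hbt : b t = 0
    · exfalso
      rw [hbt] at hab
      rcases hs with e | e <;> rcases hbv s with e' | e' | e' <;> rw [e, e'] at hab <;> omega
    · left
      -- the supports coincide
      have hb0 : ∀ k, k ≠ s → k ≠ t → b k = 0 := by
        intro k hks hkt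
        by_contra hne
        -- `b` has three nonzero coordinates `s, t, k`, impossible
        have m1 : ∀ x, b x ≠ 0 → x = s' ∨ x = t' := by
          intro x hx
          by_contra hcon
          push Not at hcon
          exact hx (h0' x hcon.1 hcon.2)
        rcases m1 s hbs with e1 | e1 <;> rcases m1 t hbt with e2 | e2 <;>
          rcases m1 k hne with e3 | e3
        all_goals first
          | exact hst (e1.trans e2.symm)
          | exact hks (e3.trans e1.symm)
          | exact hkt (e3.trans e2.symm)
      have hbs' : b s = 4 ∨ b s = -4 := by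
        rcases hbv s with e | e | e
        · exact absurd e hbs
        · exact Or.inl e
        · exact Or.inr e
      have hbt' : b t = 4 ∨ b t = -4 := by
        rcases hbv t with e | e | e
        · exact absurd e hbt
        · exact Or.inl e
        · exact Or.inr e
      -- now the four sign cases
      have key : (a s + b s = 0 ∧ (a t + b t = 8 ∨ a t + b t = -8)) ∨
          (a t + b t = 0 ∧ (a s + b s = 8 ∨ a s + b s = -8)) := by
        rcases hs with e1 | e1 <;> rcases ht with e2 | e2 <;> rcases hbs' with e3 | e3 <;>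
          rcases hbt' with e4 | e4 <;> rw [e1, e2, e3, e4] at hab ⊢ <;> omega
      rcases key with ⟨k0, k8⟩ | ⟨k0, k8⟩
      · refine ⟨t, a t + b t, k8, ?_⟩
        funext k
        rw [Pi.add_apply, Pi.single_apply]
        by_cases h2 : k = t
        · subst h2; rw [if_pos rfl]
        · rw [if_neg h2]
          by_cases h1 : k = s
          · subst h1; exact k0
          · rw [h0 k h1 h2, hb0 k h1 h2, add_zero]
      · refine ⟨s, a s + b s, k8, ?_⟩
        funext k
        rw [Pi.add_apply, Pi.single_apply]
        by_cases h1 : k = s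
        · subst h1; rw [if_pos rfl]
        · rw [if_neg h1]
          by_cases h2 : k = t
          · subst h2; exact k0
          · rw [h0 k h1 h2, hb0 k h1 h2, add_zero]

theorem isA_card_support {a : GolayPt → ℤ} (ha : IsA a) :
    (Finset.univ.filter fun k => a k ≠ 0).card ≤ 2 := by
  classical
  obtain ⟨s, t, hst, _, _, h0⟩ := isA_support ha
  have : (Finset.univ.filter fun k => a k ≠ 0) ⊆ {s, t} := by
    intro k hk
    rw [Finset.mem_filter] at hk
    rw [Finset.mem_insert, Finset.mem_singleton]
    by_contra hcon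
    push Not at hcon
    exact hk.2 (h0 k hcon.1 hcon.2)
  exact (Finset.card_le_card this).trans Finset.card_le_two

theorem vecA_add_vecA (i j : GolayPt) :
    vecA i j 4 4 + vecA i j 4 (-4) = Pi.single i 8 := by
  funext k
  simp only [vecA, Pi.add_apply, Pi.single_apply]
  split_ifs <;> norm_num

/-- The general Gram lemma: if `g` maps the vectors `4 e_i ± 4 e_j` for more than 16 indices `j`
to vectors of shape `(±4, ±4, 0^22)` then `g` stabilises the standard cross. -/
theorem stabCross_of_family {g : Co0} (i : GolayPt) (J : Finset GolayPt) (hiJ : i ∉ J)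
    (hJ : 16 < J.card)
    (hA : ∀ j ∈ J, ∀ t : ℤ, (t = 4 ∨ t = -4) → ∀ v : leechLattice,
      (v : GolayPt → ℤ) = vecA i j 4 t → IsA ((g • v : leechLattice) : GolayPt → ℤ)) :
    StabCross g := by
  classical
  by_contra hns
  have hy : ((g • u8 i : leechLattice) : GolayPt → ℤ) ∉ stdCross := fun h => hns (stabCross_of_mem h)
  set y : GolayPt → ℤ := ((g • u8 i : leechLattice) : GolayPt → ℤ) with hydef
  have hne : ∀ j ∈ J, i ≠ j := fun j hj e => hiJ (e ▸ hj)
  -- the images of `4 e_i + 4 e_j`
  let P : {j // j ∈ J} → leechLattice := fun j =>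
    ⟨vecA i j.1 4 4, vecA_mem (hne j.1 j.2) (Or.inl rfl) (Or.inl rfl)⟩
  let M : {j // j ∈ J} → leechLattice := fun j =>
    ⟨vecA i j.1 4 (-4), vecA_mem (hne j.1 j.2) (Or.inl rfl) (Or.inr rfl)⟩
  have hPM : ∀ j, u8 i = P j + M j := by
    intro j
    apply Subtype.ext
    show (Pi.single i 8 : GolayPt → ℤ) = vecA i j.1 4 4 + vecA i j.1 4 (-4)
    rw [vecA_add_vecA]
  have hsum : ∀ j, y = ((g • P j : leechLattice) : GolayPt → ℤ)
      + ((g • M j : leechLattice) : GolayPt → ℤ) := by
    intro j
    rw [hydef, hPM j, Co0_smul_add]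
    rfl
  have hdot : ∀ j, dotInt ((g • P j : leechLattice) : GolayPt → ℤ)
      ((g • M j : leechLattice) : GolayPt → ℤ) = 0 := by
    intro j
    rw [Co0_dot]
    show dotInt (vecA i j.1 4 4) (vecA i j.1 4 (-4)) = 0
    rw [dotInt_vecA]
    have hij := hne j.1 j.2
    simp [vecA, hij, hij.symm]
  have hPA : ∀ j, IsA ((g • P j : leechLattice) : GolayPt → ℤ) :=
    fun j => hA j.1 j.2 4 (Or.inl rfl) (P j) rfl
  have hMA : ∀ j, IsA ((g • M j : leechLattice) : GolayPt → ℤ) :=
    fun j => hA j.1 j.2 (-4) (Or.inr rfl) (M j) rfl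
  have hdisj : ∀ j k, ((g • P j : leechLattice) : GolayPt → ℤ) k = 0
      ∨ ((g • M j : leechLattice) : GolayPt → ℤ) k = 0 := by
    intro j
    rcases isA_add_cases (hPA j) (hMA j) (hdot j) with h | h
    · exfalso
      rw [← hsum j] at h
      exact hy h
    · exact h
  -- supports
  let S : {j // j ∈ J} → Finset GolayPt := fun j =>
    Finset.univ.filter fun k => ((g • P j : leechLattice) : GolayPt → ℤ) k ≠ 0
  let Y : Finset GolayPt := Finset.univ.filter fun k => y k ≠ 0
  have hval : ∀ j k, ((g • P j : leechLattice) : GolayPt → ℤ) k = if k ∈ S j then y k else 0 := by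
    intro j k
    by_cases hk : ((g • P j : leechLattice) : GolayPt → ℤ) k = 0
    · rw [if_neg (by simp [S, hk]), hk]
    · rw [if_pos (by simp [S, hk])]
      have h1 := congrFun (hsum j) k
      rw [Pi.add_apply] at h1
      rcases hdisj j k with h | h
      · exact absurd h hk
      · rw [h1, h, add_zero]
  have hSY : ∀ j, S j ∈ Y.powerset := by
    intro j
    rw [Finset.mem_powerset]
    intro k hk
    have h1 := hval j k
    rw [if_pos hk] at h1
    have h2 : ((g • P j : leechLattice) : GolayPt → ℤ) k ≠ 0 := by
      simpa [S] using hk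
    simp only [Y, Finset.mem_filter, Finset.mem_univ, true_and]
    rw [← h1]; exact h2
  have hinj : Function.Injective (fun j : {j // j ∈ J} => (⟨S j, hSY j⟩ : {T // T ∈ Y.powerset})) := by
    intro j j' hjj
    have hS : S j = S j' := congrArg Subtype.val hjj
    have h1 : g • P j = g • P j' := by
      apply Subtype.ext
      funext k
      rw [hval j k, hval j' k, hS]
    have h2 : P j = P j' := by
      have := congrArg (fun u : leechLattice => (g⁻¹ • u : leechLattice)) h1
      simpa [inv_smul_smul] using this
    have h3 : vecA i j.1 4 4 = vecA i j'.1 4 4 := congrArg Subtype.val h2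
    have h4 := congrFun h3 j.1
    have hij := hne j.1 j.2
    by_cases hcon : j.1 = j'.1
    · exact Subtype.ext hcon
    · exfalso
      simp [vecA, hij.symm, hcon] at h4
  have hcard := Fintype.card_le_of_injective _ hinj
  rw [Fintype.card_coe, Fintype.card_coe, Finset.card_powerset] at hcard
  -- the support of `y` has at most four elements
  obtain ⟨j0, hj0⟩ : ∃ j0, j0 ∈ J := by
    apply Finset.card_pos.1
    omega
  have hY : Y.card ≤ 4 := by
    have hsub : Y ⊆ (Finset.univ.filter fun k => ((g • P ⟨j0, hj0⟩ : leechLattice) : GolayPt → ℤ) k ≠ 0)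
        ∪ (Finset.univ.filter fun k => ((g • M ⟨j0, hj0⟩ : leechLattice) : GolayPt → ℤ) k ≠ 0) := by
      intro k hk
      simp only [Y, Finset.mem_filter, Finset.mem_univ, true_and] at hk
      rw [Finset.mem_union, Finset.mem_filter, Finset.mem_filter]
      by_contra hcon
      apply hk
      have h1 := congrFun (hsum ⟨j0, hj0⟩) k
      rw [Pi.add_apply] at h1
      have ha : ((g • P ⟨j0, hj0⟩ : leechLattice) : GolayPt → ℤ) k = 0 := by
        by_contra h; exact hcon (Or.inl ⟨Finset.mem_univ _, h⟩)
      have hb : ((g • M ⟨j0, hj0⟩ : leechLattice) : GolayPt → ℤ) k = 0 := by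
        by_contra h; exact hcon (Or.inr ⟨Finset.mem_univ _, h⟩)
      rw [h1, ha, hb, add_zero]
    have := (Finset.card_le_card hsub).trans (Finset.card_union_le _ _)
    have h1 := isA_card_support (hPA ⟨j0, hj0⟩)
    have h2 := isA_card_support (hMA ⟨j0, hj0⟩)
    omega
  have : 2 ^ Y.card ≤ 2 ^ 4 := Nat.pow_le_pow_right (by norm_num) hY
  omega

/-- Gram lemma for class `A`: an automorphism preserving the set of vectors of shape
`(±4, ±4, 0^22)` stabilises the standard cross. -/
theorem stabCross_of_isA {g : Co0}
    (hA : ∀ v : leechLattice, IsA (v : GolayPt → ℤ) → IsA ((g • v : leechLattice) : GolayPt → ℤ)) :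
    StabCross g := by
  classical
  apply stabCross_of_family (g := g) (gPt 0) (Finset.univ.erase (gPt 0)) (by simp)
  · rw [Finset.card_erase_of_mem (Finset.mem_univ _)]
    decide
  · intro j hj t ht v hv
    apply hA
    rw [hv]
    have hj' : j ≠ gPt 0 := Finset.ne_of_mem_erase hj
    refine ⟨gPt 0, j, hj'.symm, fun k => ?_⟩
    simp only [vecA, Pi.add_apply, Pi.single_apply]
    by_cases h1 : k = gPt 0
    · have h2 : k ≠ j := fun h => hj' (h.symm.trans h1)
      rw [if_pos h1, if_neg h2, if_pos (Or.inl h1)]; norm_num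
    · by_cases h2 : k = j
      · rw [if_neg h1, if_pos h2, if_pos (Or.inr h2)]
        rcases ht with rfl | rfl <;> norm_num
      · rw [if_neg h1, if_neg h2, if_neg (by rintro (e | e) <;> [exact h1 e; exact h2 e])]
        norm_num

/-- Gram lemma for the 88-set: an automorphism mapping the vectors `(4, 0, ±4_k)` (with `4` at
`p`, `0` at `q`) to vectors of shape `(±4, ±4, 0^22)` stabilises the standard cross. -/
theorem stabCross_of_88 {g : Co0} (p q : GolayPt)
    (hA : ∀ j : GolayPt, j ≠ p → j ≠ q → ∀ t : ℤ, (t = 4 ∨ t = -4) → ∀ v : leechLattice,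
      (v : GolayPt → ℤ) = vecA p j 4 t → IsA ((g • v : leechLattice) : GolayPt → ℤ)) :
    StabCross g := by
  classical
  apply stabCross_of_family (g := g) p ((Finset.univ.erase p).erase q) (by simp)
  · have h1 : ((Finset.univ.erase p).erase q).card ≥ (Finset.univ.erase p : Finset GolayPt).card - 1 :=
      Finset.pred_card_le_card_erase
    rw [Finset.card_erase_of_mem (Finset.mem_univ _)] at h1
    have : (Finset.univ : Finset GolayPt).card = 24 := by decide
    omega
  · intro j hj t ht v hv
    have hjq : j ≠ q := Finset.ne_of_mem_erase hj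
    have hjp : j ≠ p := Finset.ne_of_mem_erase (Finset.mem_of_mem_erase hj)
    exact hA j hjp hjq t ht v hv

end Cfsg.Agent.Lib.H18.NX
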