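import Mathlib
import Cfsg.Prelude.Def_Sporadic_a
import Cfsg.Prelude.Def_SporadicCombinatorics
import Cfsg.Agent.Lib.H27.Co0Mod2
import Cfsg.Agent.Lib.H27.Leech32Shapes
import Cfsg.Agent.Lib.H27.Co0Trans32
import Cfsg.Agent.Lib.H18.NXDefs
import Cfsg.Agent.Lib.H18.NXGram

/-!
helper18 library (for S1572, step 3): the stabiliser of `v = 4 e_p + 4 e_q` in the monomial group
is transitive on each of the three classes `TA`, `TB`, `TC`.
-/

set_option autoImplicit false

namespace Cfsg.Agent.Lib.H18.NX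

open Cfsg Finset Cfsg.Agent.Lib.H27 Cfsg.Agent.Lib.H28
open scoped Pointwise

theorem dotInt_vecA_right (y : GolayPt → ℤ) (i j : GolayPt) (s t : ℤ) :
    dotInt y (vecA i j s t) = s * y i + t * y j := by
  rw [← dotInt_vecA]
  unfold dotInt
  apply Finset.sum_congr rfl
  intro k _
  rw [mul_comm]

/-! ### Structure of the three classes -/

theorem TA_structure {p q : GolayPt} (hpq : p ≠ q) {w : leechLattice} (hw : w ∈ TA p q) :
    ∃ (r r' j : GolayPt) (t : ℤ), ((r = p ∧ r' = q) ∨ (r = q ∧ r' = p)) ∧ j ≠ p ∧ j ≠ q ∧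
      (t = 4 ∨ t = -4) ∧ (w : GolayPt → ℤ) = vecA r j 4 t := by
  obtain ⟨hA, hd⟩ := hw
  rw [dotInt_vecA_right] at hd
  obtain ⟨s, t', hst, hs, ht, h0⟩ := isA_support hA
  have hval : ∀ k, (w : GolayPt → ℤ) k = 0 ∨ (w : GolayPt → ℤ) k = 4 ∨ (w : GolayPt → ℤ) k = -4 := by
    intro k
    by_cases h1 : k = s
    · subst h1; rcases hs with e | e <;> simp [e]
    · by_cases h2 : k = t'
      · subst h2; rcases ht with e | e <;> simp [e]
      · exact Or.inl (h0 k h1 h2)
  -- generic construction once the position of the 4 is known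
  have main : ∀ r r' : GolayPt, r ≠ r' → (w : GolayPt → ℤ) r = 4 → (w : GolayPt → ℤ) r' = 0 →
      ∃ j, j ≠ r ∧ j ≠ r' ∧ ((w : GolayPt → ℤ) j = 4 ∨ (w : GolayPt → ℤ) j = -4) ∧
        (w : GolayPt → ℤ) = vecA r j 4 ((w : GolayPt → ℤ) j) := by
    intro r r' hrr hr4 hr0
    have hrs : r = s ∨ r = t' := by
      by_contra hcon
      push Not at hcon
      have := h0 r hcon.1 hcon.2
      omega
    have build : ∀ j, j ≠ r → ((w : GolayPt → ℤ) j = 4 ∨ (w : GolayPt → ℤ) j = -4) →
        (∀ k, k ≠ r → k ≠ j → (w : GolayPt → ℤ) k = 0) →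
        ∃ j, j ≠ r ∧ j ≠ r' ∧ ((w : GolayPt → ℤ) j = 4 ∨ (w : GolayPt → ℤ) j = -4) ∧
          (w : GolayPt → ℤ) = vecA r j 4 ((w : GolayPt → ℤ) j) := by
      intro j hjr hj hz
      refine ⟨j, hjr, ?_, hj, ?_⟩
      · rintro rfl
        rcases hj with e | e <;> omega
      · funext k
        simp only [vecA, Pi.add_apply, Pi.single_apply]
        by_cases h1 : k = r
        · subst h1
          rw [if_pos rfl, if_neg hjr.symm, hr4, add_zero]
        · by_cases h2 : k = j
          · subst h2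
            rw [if_neg h1, if_pos rfl, zero_add]
          · rw [if_neg h1, if_neg h2, hz k h1 h2, add_zero]
    rcases hrs with rfl | rfl
    · exact build t' hst.symm ht (fun k h1 h2 => h0 k h1 h2)
    · exact build s hst hs (fun k h1 h2 => h0 k h2 h1)
  rcases hval p with e1 | e1 | e1 <;> rcases hval q with e2 | e2 | e2 <;>
    rw [e1, e2] at hd <;> try omega
  · -- `(0, 4)`
    obtain ⟨j, hj1, hj2, hj3, hj4⟩ := main q p hpq.symm e2 e1
    exact ⟨q, p, j, _, Or.inr ⟨rfl, rfl⟩, hj2, hj1, hj3, hj4⟩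
  · -- `(4, 0)`
    obtain ⟨j, hj1, hj2, hj3, hj4⟩ := main p q hpq e1 e2
    exact ⟨p, q, j, _, Or.inl ⟨rfl, rfl⟩, hj1, hj2, hj3, hj4⟩

theorem TB_structure {p q : GolayPt} {w : leechLattice} (hw : w ∈ TB p q) :
    ∃ c ∈ golayCode, (support₂ c).card = 8 ∧
      (∀ k, |(w : GolayPt → ℤ) k| = if c k ≠ 0 then 2 else 0) ∧
      (w : GolayPt → ℤ) p = 2 ∧ (w : GolayPt → ℤ) q = 2 ∧ c p ≠ 0 ∧ c q ≠ 0 := by
  obtain ⟨⟨c, hc, h8, habs⟩, hd⟩ := hw
  rw [dotInt_vecA_right] at hd
  have hle : ∀ k, (w : GolayPt → ℤ) k ≤ 2 ∧ -2 ≤ (w : GolayPt → ℤ) k := by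
    intro k
    have := habs k
    split_ifs at this
    · have := abs_le.1 (le_of_eq this); omega
    · rw [abs_eq_zero] at this; omega
  have hp2 : (w : GolayPt → ℤ) p = 2 := by have := hle p; have := hle q; omega
  have hq2 : (w : GolayPt → ℤ) q = 2 := by have := hle p; have := hle q; omega
  refine ⟨c, hc, h8, habs, hp2, hq2, ?_, ?_⟩
  · intro h0
    have := habs p
    rw [if_neg (by simpa using h0), hp2] at this
    norm_num at this
  · intro h0
    have := habs q
    rw [if_neg (by simpa using h0), hq2] at this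
    norm_num at this

theorem TC_structure {p q : GolayPt} (hpq : p ≠ q) {w : leechLattice} (hw : w ∈ TC p q) :
    ∃ (r r' : GolayPt), ((r = p ∧ r' = q) ∨ (r = q ∧ r' = p)) ∧
      (∀ k, |(w : GolayPt → ℤ) k| = if k = r then 3 else 1) ∧
      (w : GolayPt → ℤ) r = 3 ∧ (w : GolayPt → ℤ) r' = 1 := by
  obtain ⟨⟨i, habs⟩, hd⟩ := hw
  rw [dotInt_vecA_right] at hd
  have hp := habs p
  have hq := habs q
  by_cases hip : p = i
  · have hiq : q ≠ i := fun h => hpq (hip.trans h.symm)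
    rw [if_pos hip] at hp
    rw [if_neg hiq] at hq
    refine ⟨p, q, Or.inl ⟨rfl, rfl⟩, ?_, ?_, ?_⟩
    · rw [hip]; exact habs
    · rcases abs_eq (by norm_num : (0 : ℤ) ≤ 3) |>.1 hp with e | e <;>
        rcases abs_eq (by norm_num : (0 : ℤ) ≤ 1) |>.1 hq with e' | e' <;> omega
    · rcases abs_eq (by norm_num : (0 : ℤ) ≤ 3) |>.1 hp with e | e <;>
        rcases abs_eq (by norm_num : (0 : ℤ) ≤ 1) |>.1 hq with e' | e' <;> omega
  · rw [if_neg hip] at hp
    by_cases hiq : q = i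
    · rw [if_pos hiq] at hq
      refine ⟨q, p, Or.inr ⟨rfl, rfl⟩, ?_, ?_, ?_⟩
      · rw [hiq]; exact habs
      · rcases abs_eq (by norm_num : (0 : ℤ) ≤ 1) |>.1 hp with e | e <;>
          rcases abs_eq (by norm_num : (0 : ℤ) ≤ 3) |>.1 hq with e' | e' <;> omega
      · rcases abs_eq (by norm_num : (0 : ℤ) ≤ 1) |>.1 hp with e | e <;>
          rcases abs_eq (by norm_num : (0 : ℤ) ≤ 3) |>.1 hq with e' | e' <;> omega
    · exfalso
      rw [if_neg hiq] at hq
      rcases abs_eq (by norm_num : (0 : ℤ) ≤ 1) |>.1 hp with e | e <;>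
        rcases abs_eq (by norm_num : (0 : ℤ) ≤ 1) |>.1 hq with e' | e' <;> omega

/-! ### Monomial elements fixing `v` -/

theorem nvRel_of_mono (p q : GolayPt) (hpq : p ≠ q) (σ : Equiv.Perm GolayPt) (hσ : σ ∈ M24)
    (c : GolayPt → ZMod 2) (hc : c ∈ golayCode)
    (hσpq : (σ p = p ∧ σ q = q) ∨ (σ p = q ∧ σ q = p))
    (hcp : p ∉ support₂ c) (hcq : q ∉ support₂ c) {w w' : leechLattice}
    (hww : (w' : GolayPt → ℤ) = signedPerm σ (support₂ c) (w : GolayPt → ℤ)) :
    NvRel p q hpq w w' := by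
  refine ⟨monoCo0 σ hσ c hc, monoCo0_stab σ hσ c hc, ?_, ?_⟩
  · apply Subtype.ext
    rw [monoCo0_smul]
    show signedPerm σ (support₂ c) (vecA p q 4 4) = vecA p q 4 4
    unfold vecA
    rw [signedPerm_add, signedPerm_single, signedPerm_single]
    rcases hσpq with ⟨h1, h2⟩ | ⟨h1, h2⟩
    · rw [h1, h2, if_neg hcp, if_neg hcq]
    · rw [h1, h2, if_neg hcp, if_neg hcq, add_comm]
  · apply Subtype.ext
    rw [monoCo0_smul, hww]

/-- Sign fixing with control of the code word on a set `T` containing the support. -/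
theorem sign_fix_on (T : Finset GolayPt) {x y : GolayPt → ℤ}
    (habs : ∀ k, |y k| = |x k|) (hT : ∀ k, x k ≠ 0 → k ∈ T)
    (hev : ∀ c ∈ golayCode, support₂ c ⊆ T →
      Even (Finset.univ.filter fun k => c k ≠ 0 ∧ y k ≠ x k).card) :
    ∃ c ∈ golayCode, (∀ k, y k = if k ∈ support₂ c then -x k else x k) ∧
      ∀ k ∈ T, y k = x k → k ∉ support₂ c := by
  classical
  set S : Finset GolayPt := Finset.univ.filter fun k => y k ≠ x k with hSdef
  have hST : S ⊆ T := by
    intro k hk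
    rw [hSdef, Finset.mem_filter] at hk
    apply hT
    intro h0
    apply hk.2
    have := habs k
    rw [h0, abs_zero, abs_eq_zero] at this
    rw [this, h0]
  obtain ⟨c, hc, hcT⟩ := golay_restrict_surj T S hST (by
    intro c hc hsub
    have := hev c hc hsub
    convert this using 2
    ext k
    rw [Finset.mem_inter, Cfsg.Agent.Lib.H27.mem_support₂_iff, hSdef, Finset.mem_filter,
      Finset.mem_filter]
    simp)
  refine ⟨c, hc, fun k => ?_, fun k hkT hk hkc => ?_⟩
  · by_cases hk : x k = 0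
    · have := habs k
      rw [hk, abs_zero, abs_eq_zero] at this
      rw [this, hk]
      simp
    · have hkT : k ∈ T := hT k hk
      have hiff : k ∈ support₂ c ↔ k ∈ S := by
        rw [← hcT, Finset.mem_inter]
        exact ⟨fun h => ⟨h, hkT⟩, fun h => h.1⟩
      by_cases hkS : k ∈ S
      · rw [if_pos (hiff.2 hkS)]
        rw [hSdef, Finset.mem_filter] at hkS
        rcases eq_or_eq_neg_of_abs (habs k) with e | e
        · exact absurd e hkS.2
        · exact e
      · rw [if_neg (fun h => hkS (hiff.1 h))]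
        rw [hSdef, Finset.mem_filter] at hkS
        by_contra hne
        exact hkS ⟨Finset.mem_univ _, hne⟩
  · have : k ∈ S := by
      rw [← hcT, Finset.mem_inter]
      exact ⟨hkc, hkT⟩
    rw [hSdef, Finset.mem_filter] at this
    exact this.2 hk

/-- Sign fixing for odd vectors. -/
theorem sign_fix_odd' {v w : leechLattice}
    (habs : ∀ k, |(w : GolayPt → ℤ) k| = |(v : GolayPt → ℤ) k|)
    (hodd : (v : GolayPt → ℤ) none % 2 = 1) :
    ∃ c ∈ golayCode, ∀ k, (w : GolayPt → ℤ) k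
      = if k ∈ support₂ c then -(v : GolayPt → ℤ) k else (v : GolayPt → ℤ) k := by
  have hd : ((v - w : leechLattice) : GolayPt → ℤ) ∈ leechLattice := (v - w).2
  obtain ⟨m, c, hm, hc, h1, _⟩ := exists_leechDesc_normal hd
  have hvodd : ∀ k, (v : GolayPt → ℤ) k % 2 = 1 := fun k => by
    rw [leech_parity v.2 k none]; exact hodd
  have hm0 : m = 0 := by
    rcases hm with rfl | rfl
    · rfl
    · exfalso
      have h := h1 none
      rw [AddSubgroup.coe_sub, Pi.sub_apply] at h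
      have hv := hvodd none
      rcases eq_or_eq_neg_of_abs (habs none) with e | e <;> rw [e] at h <;>
        unfold Int.ModEq at h <;> omega
  subst hm0
  refine ⟨c, hc, fun k => ?_⟩
  have h := h1 k
  rw [AddSubgroup.coe_sub, Pi.sub_apply] at h
  have hv := hvodd k
  have hck : c k = 0 ∨ c k = 1 := by
    have : ∀ b : ZMod 2, b = 0 ∨ b = 1 := by decide
    exact this _
  rcases hck with e0 | e1
  · rw [e0] at h
    rw [if_neg (fun hmem => (Cfsg.Agent.Lib.H27.mem_support₂_iff c k).1 hmem e0)]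
    simp only [ZMod.val_zero, Nat.cast_zero, mul_zero, add_zero] at h
    rcases eq_or_eq_neg_of_abs (habs k) with e | e
    · exact e
    · exfalso
      rw [e] at h
      unfold Int.ModEq at h
      omega
  · rw [e1] at h
    rw [if_pos ((Cfsg.Agent.Lib.H27.mem_support₂_iff c k).2 (by rw [e1]; decide))]
    have h1' : ((1 : ZMod 2).val : ℤ) = 1 := by decide
    rw [h1'] at h
    rcases eq_or_eq_neg_of_abs (habs k) with e | e
    · exfalso
      rw [e] at h
      unfold Int.ModEq at h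
      omega
    · exact e

/-- General transitivity tool (even vectors). -/
theorem nvRel_of_perm (p q : GolayPt) (hpq : p ≠ q) {w w' : leechLattice}
    (σ : Equiv.Perm GolayPt) (hσ : σ ∈ M24)
    (hσpq : (σ p = p ∧ σ q = q) ∨ (σ p = q ∧ σ q = p))
    (habs : ∀ k, |(w' : GolayPt → ℤ) k| = |(w : GolayPt → ℤ) (σ.symm k)|)
    (hp : (w' : GolayPt → ℤ) p = (w : GolayPt → ℤ) (σ.symm p))
    (hq : (w' : GolayPt → ℤ) q = (w : GolayPt → ℤ) (σ.symm q))
    (T : Finset GolayPt) (hpT : p ∈ T) (hqT : q ∈ T)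
    (hT : ∀ k, (w : GolayPt → ℤ) (σ.symm k) ≠ 0 → k ∈ T)
    (hev : ∀ c ∈ golayCode, support₂ c ⊆ T → Even (Finset.univ.filter fun k =>
      c k ≠ 0 ∧ (w' : GolayPt → ℤ) k ≠ (w : GolayPt → ℤ) (σ.symm k)).card) :
    NvRel p q hpq w w' := by
  obtain ⟨c, hc, hval, hcT⟩ := sign_fix_on T (x := fun k => (w : GolayPt → ℤ) (σ.symm k))
    (y := (w' : GolayPt → ℤ)) habs hT hev
  apply nvRel_of_mono p q hpq σ hσ c hc hσpq (hcT p hpT hp) (hcT q hqT hq)
  funext k
  rw [hval k]
  rfl

/-- General transitivity tool (odd vectors). -/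
theorem nvRel_of_perm_odd (p q : GolayPt) (hpq : p ≠ q) {w w' : leechLattice}
    (σ : Equiv.Perm GolayPt) (hσ : σ ∈ M24)
    (hσpq : (σ p = p ∧ σ q = q) ∨ (σ p = q ∧ σ q = p))
    (habs : ∀ k, |(w' : GolayPt → ℤ) k| = |(w : GolayPt → ℤ) (σ.symm k)|)
    (hp : (w' : GolayPt → ℤ) p = (w : GolayPt → ℤ) (σ.symm p))
    (hq : (w' : GolayPt → ℤ) q = (w : GolayPt → ℤ) (σ.symm q))
    (hodd : ∀ k, (w : GolayPt → ℤ) k % 2 = 1) :
    NvRel p q hpq w w' := by
  have hx : ∀ k, ((permCo0 σ hσ • w : leechLattice) : GolayPt → ℤ) k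
      = (w : GolayPt → ℤ) (σ.symm k) := fun k => permCo0_smul σ hσ w k
  obtain ⟨c, hc, hval⟩ := sign_fix_odd' (v := permCo0 σ hσ • w) (w := w')
    (fun k => by rw [hx]; exact habs k) (by rw [hx]; exact hodd _)
  have hne : ∀ k, (w : GolayPt → ℤ) k ≠ 0 := fun k h0 => by
    have := hodd k; rw [h0] at this; norm_num at this
  have hnot : ∀ k, (w' : GolayPt → ℤ) k = (w : GolayPt → ℤ) (σ.symm k) → k ∉ support₂ c := by
    intro k hk hkc
    have := hval k
    rw [if_pos hkc, hx, hk] at this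
    have := hne (σ.symm k)
    omega
  apply nvRel_of_mono p q hpq σ hσ c hc hσpq (hnot p hp) (hnot q hq)
  funext k
  rw [hval k, hx]
  rfl

/-! ### Transitivity on the three classes -/

theorem vecA_symm_apply (σ : Equiv.Perm GolayPt) (r j : GolayPt) (s t : ℤ) (k : GolayPt) :
    vecA r j s t (σ.symm k) = vecA (σ r) (σ j) s t k := by
  simp only [vecA, Pi.add_apply, Pi.single_apply, Equiv.symm_apply_eq]

theorem vecA_apply_of_ne {r j k : GolayPt} (s t t' : ℤ) (hk : k ≠ j) :
    vecA r j s t k = vecA r j s t' k := by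
  simp only [vecA, Pi.add_apply, Pi.single_apply, if_neg hk]

theorem injective_triple {α : Type*} {a b c : α} (hab : a ≠ b) (hac : a ≠ c) (hbc : b ≠ c) :
    Function.Injective ![a, b, c] := by
  intro i j hij
  fin_cases i <;> fin_cases j <;> simp_all

theorem injective_five {α : Type*} {a b c d e : α} (hab : a ≠ b) (hac : a ≠ c) (had : a ≠ d)
    (hae : a ≠ e) (hbc : b ≠ c) (hbd : b ≠ d) (hbe : b ≠ e) (hcd : c ≠ d) (hce : c ≠ e)
    (hde : d ≠ e) : Function.Injective ![a, b, c, d, e] := by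
  intro i j hij
  fin_cases i <;> fin_cases j <;> simp_all

/-- (TRA) -/
theorem nvRel_TA (p q : GolayPt) (hpq : p ≠ q) {w w' : leechLattice} (hw : w ∈ TA p q)
    (hw' : w' ∈ TA p q) : NvRel p q hpq w w' := by
  classical
  obtain ⟨r, rb, j, t, hr, hjp, hjq, ht, hwv⟩ := TA_structure hpq hw
  obtain ⟨r', rb', j', t', hr', hj'p, hj'q, ht', hw'v⟩ := TA_structure hpq hw'
  have hrr : r ≠ rb := by
    rcases hr with ⟨rfl, rfl⟩ | ⟨rfl, rfl⟩
    · exact hpq
    · exact hpq.symm
  have hrj : r ≠ j := by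
    rcases hr with ⟨rfl, rfl⟩ | ⟨rfl, rfl⟩
    · exact hjp.symm
    · exact hjq.symm
  have hrbj : rb ≠ j := by
    rcases hr with ⟨rfl, rfl⟩ | ⟨rfl, rfl⟩
    · exact hjq.symm
    · exact hjp.symm
  have hrr' : r' ≠ rb' := by
    rcases hr' with ⟨rfl, rfl⟩ | ⟨rfl, rfl⟩
    · exact hpq
    · exact hpq.symm
  have hrj' : r' ≠ j' := by
    rcases hr' with ⟨rfl, rfl⟩ | ⟨rfl, rfl⟩
    · exact hj'p.symm
    · exact hj'q.symm
  have hrbj' : rb' ≠ j' := by
    rcases hr' with ⟨rfl, rfl⟩ | ⟨rfl, rfl⟩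
    · exact hj'q.symm
    · exact hj'p.symm
  obtain ⟨σ, hσ, hmap⟩ := exists_M24_map (n := 3) (by norm_num) ![r, rb, j] ![r', rb', j']
    (injective_triple hrr hrj hrbj) (injective_triple hrr' hrj' hrbj')
  have h0 : σ r = r' := hmap 0
  have h1 : σ rb = rb' := hmap 1
  have h2 : σ j = j' := hmap 2
  have hσpq : (σ p = p ∧ σ q = q) ∨ (σ p = q ∧ σ q = p) := by
    rcases hr with ⟨rfl, rfl⟩ | ⟨rfl, rfl⟩ <;> rcases hr' with ⟨rfl, rfl⟩ | ⟨rfl, rfl⟩
    · exact Or.inl ⟨h0, h1⟩
    · exact Or.inr ⟨h0, h1⟩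
    · exact Or.inr ⟨h1, h0⟩
    · exact Or.inl ⟨h1, h0⟩
  have hx : ∀ k, (w : GolayPt → ℤ) (σ.symm k) = vecA r' j' 4 t k := by
    intro k
    rw [hwv, vecA_symm_apply, h0, h2]
  have hpj' : p ≠ j' := hj'p.symm
  have hqj' : q ≠ j' := hj'q.symm
  apply nvRel_of_perm p q hpq σ hσ hσpq _ _ _ ({p, q, j'} : Finset GolayPt) (by simp) (by simp)
  · -- support
    intro k hk
    rw [hx] at hk
    simp only [Finset.mem_insert, Finset.mem_singleton]
    by_contra hcon
    push Not at hcon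
    apply hk
    have hkr' : k ≠ r' := by
      rcases hr' with ⟨rfl, rfl⟩ | ⟨rfl, rfl⟩
      · exact hcon.1
      · exact hcon.2.1
    simp only [vecA, Pi.add_apply, Pi.single_apply, if_neg hkr', if_neg hcon.2.2, add_zero]
  · -- evenness: no nonzero code word inside a 3-set
    intro c hc hsub
    have hc0 : c = 0 := by
      apply eq_zero_of_card_lt hc
      have h3 : ({p, q, j'} : Finset GolayPt).card ≤ 3 := Finset.card_le_three
      have := Finset.card_le_card hsub
      omega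
    rw [hc0, filter_eq_empty_of_zero]
    exact ⟨0, rfl⟩
  · -- absolute values
    intro k
    rw [hx, hw'v]
    simp only [vecA, Pi.add_apply, Pi.single_apply]
    by_cases e1 : k = r'
    · have e2 : k ≠ j' := fun h => hrj' (e1.symm.trans h)
      simp only [if_pos e1, if_neg e2]
    · by_cases e2 : k = j'
      · simp only [if_neg e1, if_pos e2]
        rcases ht with rfl | rfl <;> rcases ht' with rfl | rfl <;> norm_num
      · simp only [if_neg e1, if_neg e2]
  · rw [hx, hw'v]; exact vecA_apply_of_ne 4 t' t hpj'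
  · rw [hx, hw'v]; exact vecA_apply_of_ne 4 t' t hqj'

/-- (TRC) -/
theorem nvRel_TC (p q : GolayPt) (hpq : p ≠ q) {w w' : leechLattice} (hw : w ∈ TC p q)
    (hw' : w' ∈ TC p q) : NvRel p q hpq w w' := by
  obtain ⟨r, rb, hr, habs, hw3, hw1⟩ := TC_structure hpq hw
  obtain ⟨r', rb', hr', habs', hw3', hw1'⟩ := TC_structure hpq hw'
  have hrr : r ≠ rb := by
    rcases hr with ⟨rfl, rfl⟩ | ⟨rfl, rfl⟩
    · exact hpq
    · exact hpq.symm
  have hrr' : r' ≠ rb' := by
    rcases hr' with ⟨rfl, rfl⟩ | ⟨rfl, rfl⟩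
    · exact hpq
    · exact hpq.symm
  obtain ⟨σ, hσ, hmap⟩ := exists_M24_map (n := 2) (by norm_num) ![r, rb] ![r', rb']
    (injective_pair hrr) (injective_pair hrr')
  have h0 : σ r = r' := hmap 0
  have h1 : σ rb = rb' := hmap 1
  have hσpq : (σ p = p ∧ σ q = q) ∨ (σ p = q ∧ σ q = p) := by
    rcases hr with ⟨rfl, rfl⟩ | ⟨rfl, rfl⟩ <;> rcases hr' with ⟨rfl, rfl⟩ | ⟨rfl, rfl⟩
    · exact Or.inl ⟨h0, h1⟩
    · exact Or.inr ⟨h0, h1⟩
    · exact Or.inr ⟨h1, h0⟩
    · exact Or.inl ⟨h1, h0⟩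
  have s0 : σ.symm r' = r := by rw [← h0, Equiv.symm_apply_apply]
  have s1 : σ.symm rb' = rb := by rw [← h1, Equiv.symm_apply_apply]
  have hr'v : (w' : GolayPt → ℤ) r' = (w : GolayPt → ℤ) (σ.symm r') := by rw [s0, hw3, hw3']
  have hrb'v : (w' : GolayPt → ℤ) rb' = (w : GolayPt → ℤ) (σ.symm rb') := by rw [s1, hw1, hw1']
  apply nvRel_of_perm_odd p q hpq σ hσ hσpq
  · intro k
    rw [habs', habs]
    have : σ.symm k = r ↔ k = r' := by
      rw [← h0, Equiv.symm_apply_eq]
    simp only [this]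
  · rcases hr' with ⟨rfl, rfl⟩ | ⟨rfl, rfl⟩
    · exact hr'v
    · exact hrb'v
  · rcases hr' with ⟨rfl, rfl⟩ | ⟨rfl, rfl⟩
    · exact hrb'v
    · exact hr'v
  · intro k
    have := habs k
    split_ifs at this
    · rcases abs_eq (by norm_num : (0 : ℤ) ≤ 3) |>.1 this with e | e <;> rw [e] <;> norm_num
    · rcases abs_eq (by norm_num : (0 : ℤ) ≤ 1) |>.1 this with e | e <;> rw [e] <;> norm_num

theorem exists_three {S : Finset GolayPt} (h : 3 ≤ S.card) :
    ∃ a b c, a ∈ S ∧ b ∈ S ∧ c ∈ S ∧ a ≠ b ∧ a ≠ c ∧ b ≠ c := by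
  classical
  obtain ⟨X, hXS, hX⟩ := Finset.exists_subset_card_eq h
  obtain ⟨a, b, c, hab, hac, hbc, rfl⟩ := Finset.card_eq_three.1 hX
  exact ⟨a, b, c, hXS (by simp), hXS (by simp), hXS (by simp), hab, hac, hbc⟩

/-- (TRB) -/
theorem nvRel_TB (p q : GolayPt) (hpq : p ≠ q) {w w' : leechLattice} (hw : w ∈ TB p q)
    (hw' : w' ∈ TB p q) : NvRel p q hpq w w' := by
  classical
  obtain ⟨cv, hcv, hcv8, hvk, hwp, hwq, hcvp, hcvq⟩ := TB_structure hw
  obtain ⟨cw, hcw, hcw8, hwk, hwp', hwq', hcwp, hcwq⟩ := TB_structure hw'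
  have hov : support₂ cv ∈ octads := ⟨⟨cv, hcv, rfl⟩, hcv8⟩
  have how : support₂ cw ∈ octads := ⟨⟨cw, hcw, rfl⟩, hcw8⟩
  have hpv : p ∈ support₂ cv := (Cfsg.Agent.Lib.H27.mem_support₂_iff cv p).2 hcvp
  have hqv : q ∈ support₂ cv := (Cfsg.Agent.Lib.H27.mem_support₂_iff cv q).2 hcvq
  have hpw : p ∈ support₂ cw := (Cfsg.Agent.Lib.H27.mem_support₂_iff cw p).2 hcwp
  have hqw : q ∈ support₂ cw := (Cfsg.Agent.Lib.H27.mem_support₂_iff cw q).2 hcwq
  -- three more points in each octad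
  have hcard : ∀ O : Finset GolayPt, O.card = 8 → 3 ≤ ((O.erase p).erase q).card := by
    intro O hO
    have h1 : (O.erase p).card ≥ O.card - 1 := Finset.pred_card_le_card_erase
    have h2 : ((O.erase p).erase q).card ≥ (O.erase p).card - 1 := Finset.pred_card_le_card_erase
    omega
  obtain ⟨a, b, d, ha, hb, hd, hab, had, hbd⟩ := exists_three (hcard _ hcv8)
  obtain ⟨a', b', d', ha', hb', hd', hab', had', hbd'⟩ := exists_three (hcard _ hcw8)
  have mem3 : ∀ {O : Finset GolayPt} {x : GolayPt}, x ∈ (O.erase p).erase q →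
      x ≠ q ∧ x ≠ p ∧ x ∈ O := by
    intro O x hx
    have h1 := Finset.mem_erase.1 hx
    have h2 := Finset.mem_erase.1 h1.2
    exact ⟨h1.1, h2.1, h2.2⟩
  obtain ⟨haq, hap, haO⟩ := mem3 ha
  obtain ⟨hbq, hbp, hbO⟩ := mem3 hb
  obtain ⟨hdq, hdp, hdO⟩ := mem3 hd
  obtain ⟨haq', hap', haO'⟩ := mem3 ha'
  obtain ⟨hbq', hbp', hbO'⟩ := mem3 hb'
  obtain ⟨hdq', hdp', hdO'⟩ := mem3 hd'
  obtain ⟨σ, hσ, hmap⟩ := exists_M24_map (n := 5) (le_refl 5) ![p, q, a, b, d] ![p, q, a', b', d']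
    (injective_five hpq hap.symm hbp.symm hdp.symm haq.symm hbq.symm hdq.symm hab had hbd)
    (injective_five hpq hap'.symm hbp'.symm hdp'.symm haq'.symm hbq'.symm hdq'.symm hab' had' hbd')
  have h0 : σ p = p := hmap 0
  have h1 : σ q = q := hmap 1
  have h2 : σ a = a' := hmap 2
  have h3 : σ b = b' := hmap 3
  have h4 : σ d = d' := hmap 4
  -- the image octad
  have hgo : σ • support₂ cv ∈ octads := smul_mem_octads hσ hov
  have hmapO : σ • support₂ cv = support₂ cw := by
    set Y : Finset GolayPt := {p, q, a', b', d'} with hY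
    have hYcard : Y.card = 5 := by
      rw [hY]
      rw [Finset.card_insert_of_notMem, Finset.card_insert_of_notMem, Finset.card_insert_of_notMem,
        Finset.card_insert_of_notMem, Finset.card_singleton]
      · simp only [Finset.mem_singleton]; exact hbd'
      · simp only [Finset.mem_insert, Finset.mem_singleton]; push Not; exact ⟨hab', had'⟩
      · simp only [Finset.mem_insert, Finset.mem_singleton]; push Not
        exact ⟨haq'.symm, hbq'.symm, hdq'.symm⟩
      · simp only [Finset.mem_insert, Finset.mem_singleton]; push Not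
        exact ⟨hpq, hap'.symm, hbp'.symm, hdp'.symm⟩
    have hY1 : Y ⊆ σ • support₂ cv := by
      intro x hx
      rw [hY] at hx
      simp only [Finset.mem_insert, Finset.mem_singleton] at hx
      rcases hx with rfl | rfl | rfl | rfl | rfl
      · rw [← h0]; exact Finset.smul_mem_smul_finset hpv
      · rw [← h1]; exact Finset.smul_mem_smul_finset hqv
      · rw [← h2]; exact Finset.smul_mem_smul_finset haO
      · rw [← h3]; exact Finset.smul_mem_smul_finset hbO
      · rw [← h4]; exact Finset.smul_mem_smul_finset hdO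
    have hY2 : Y ⊆ support₂ cw := by
      intro x hx
      rw [hY] at hx
      simp only [Finset.mem_insert, Finset.mem_singleton] at hx
      rcases hx with rfl | rfl | rfl | rfl | rfl
      · exact hpw
      · exact hqw
      · exact haO'
      · exact hbO'
      · exact hdO'
    obtain ⟨B, _, hB⟩ := octads_isSteinerSystem.2 Y hYcard
    rw [hB (σ • support₂ cv) ⟨hgo, hY1⟩, hB (support₂ cw) ⟨how, hY2⟩]
  have hiff : ∀ k, cv (σ.symm k) ≠ 0 ↔ cw k ≠ 0 := by
    intro k
    rw [← Cfsg.Agent.Lib.H27.mem_support₂_iff, ← Cfsg.Agent.Lib.H27.mem_support₂_iff, ← hmapO]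
    constructor
    · intro h
      have : k = σ • σ.symm k := by rw [Equiv.Perm.smul_def, Equiv.apply_symm_apply]
      rw [this]
      exact Finset.smul_mem_smul_finset h
    · intro h
      obtain ⟨x, hx, rfl⟩ := Finset.mem_smul_finset.1 h
      rw [Equiv.Perm.smul_def, Equiv.symm_apply_apply]
      exact hx
  have hxk : ∀ k, |(w : GolayPt → ℤ) (σ.symm k)| = if cw k ≠ 0 then 2 else 0 := by
    intro k
    rw [hvk]
    simp only [hiff k]
  have sp : σ.symm p = p := by rw [Equiv.symm_apply_eq, h0]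
  have sq : σ.symm q = q := by rw [Equiv.symm_apply_eq, h1]
  set v' : leechLattice := permCo0 σ hσ • w with hv'
  have hv'k : ∀ k, (v' : GolayPt → ℤ) k = (w : GolayPt → ℤ) (σ.symm k) :=
    fun k => permCo0_smul σ hσ w k
  apply nvRel_of_perm p q hpq σ hσ (Or.inl ⟨h0, h1⟩) _ _ _ (support₂ cw) hpw hqw
  · intro k hk
    rw [Cfsg.Agent.Lib.H27.mem_support₂_iff]
    intro h0'
    apply hk
    have := hxk k
    rw [if_neg (by simpa using h0'), abs_eq_zero] at this
    exact this
  · intro c hc hsub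
    by_cases hc0 : c = 0
    · rw [hc0, filter_eq_empty_of_zero]
      exact ⟨0, rfl⟩
    · have h8 := golay_min_weight c hc hc0
      have heq : support₂ c = support₂ cw :=
        Finset.eq_of_subset_of_card_le hsub (by omega)
      have hceq : ∀ k, c k ≠ 0 ↔ cw k ≠ 0 := by
        intro k
        rw [← Cfsg.Agent.Lib.H27.mem_support₂_iff, ← Cfsg.Agent.Lib.H27.mem_support₂_iff, heq]
      have hv'abs : ∀ k, |(v' : GolayPt → ℤ) k| = if cw k ≠ 0 then 2 else 0 := by
        intro k; rw [hv'k]; exact hxk k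
      apply even_card_of_sum_mod _ (fun k => (v' : GolayPt → ℤ) k - (w' : GolayPt → ℤ) k)
      · intro k hk
        rw [Finset.mem_filter] at hk
        obtain ⟨_, hck, hne⟩ := hk
        have e1 := hv'abs k
        have e2 := hwk k
        rw [if_pos ((hceq k).1 hck)] at e1 e2
        rw [← hv'k] at hne
        rcases abs_eq (by norm_num : (0 : ℤ) ≤ 2) |>.1 e1 with e1 | e1 <;>
          rcases abs_eq (by norm_num : (0 : ℤ) ≤ 2) |>.1 e2 with e2 | e2
        · exact absurd (e2.trans e1.symm) hne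
        · show ((v' : GolayPt → ℤ) k - (w' : GolayPt → ℤ) k) % 8 = 4
          rw [e1, e2]; norm_num
        · show ((v' : GolayPt → ℤ) k - (w' : GolayPt → ℤ) k) % 8 = 4
          rw [e1, e2]; norm_num
        · exact absurd (e2.trans e1.symm) hne
      · intro k hk
        rw [Finset.mem_filter] at hk
        push Not at hk
        have hk' := hk (Finset.mem_univ _)
        by_cases hck : c k ≠ 0
        · show (v' : GolayPt → ℤ) k - (w' : GolayPt → ℤ) k = 0
          rw [hv'k, hk' hck, sub_self]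
        · have e1 := hv'abs k
          have e2 := hwk k
          rw [if_neg (fun h => hck ((hceq k).2 h))] at e1 e2
          rw [abs_eq_zero] at e1 e2
          show (v' : GolayPt → ℤ) k - (w' : GolayPt → ℤ) k = 0
          rw [e1, e2, sub_self]
      · rw [Finset.sum_sub_distrib]
        have e1 := even_of_abs_two v'.2 hv'abs
        have e2 := even_of_abs_two w'.2 hwk
        omega
  · intro k
    rw [hxk, hwk]
  · rw [sp, hwp, hwp']
  · rw [sq, hwq, hwq']

end Cfsg.Agent.Lib.H18.NX
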