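import Mathlib
import Cfsg.Prelude.Def_Sporadic_a
import Cfsg.Prelude.Def_SporadicCombinatorics
import Cfsg.Agent.Lib.H27.Co0Mod2
import Cfsg.Agent.Lib.H27.Leech32Shapes
import Cfsg.Agent.Lib.H18.NXDefs
import Cfsg.Agent.Lib.H18.NXGram
import Cfsg.Agent.Lib.H18.NXTR
import Cfsg.Agent.Lib.H9.NXCNTA
import Cfsg.Agent.Lib.H11.NXCNTB
import Cfsg.Agent.Lib.H19.NXCNTC

/-!
helper18 library (for S1572): main lemma of step (3).
-/

set_option autoImplicit false

namespace Cfsg.Agent.Lib.H18.NX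

open Cfsg Finset Cfsg.Agent.Lib.H27 Cfsg.Agent.Lib.H28

theorem not_isA_isB {x : GolayPt → ℤ} (ha : IsA x) (hb : IsB x) : False := by
  obtain ⟨i, j, _, h⟩ := ha
  obtain ⟨c, _, _, h'⟩ := hb
  have h1 := h i
  have h2 := h' i
  rw [if_pos (Or.inl rfl)] at h1
  rw [h1] at h2
  split_ifs at h2 <;> omega

theorem not_isA_isC {x : GolayPt → ℤ} (ha : IsA x) (hc : IsC x) : False := by
  obtain ⟨i, j, _, h⟩ := ha
  obtain ⟨r, h'⟩ := hc
  have h1 := h i
  have h2 := h' i
  rw [if_pos (Or.inl rfl)] at h1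
  rw [h1] at h2
  split_ifs at h2 <;> omega

theorem not_isB_isC {x : GolayPt → ℤ} (hb : IsB x) (hc : IsC x) : False := by
  obtain ⟨c, _, _, h⟩ := hb
  obtain ⟨r, h'⟩ := hc
  have h1 := h r
  have h2 := h' r
  rw [if_pos rfl] at h2
  rw [h2] at h1
  split_ifs at h1 <;> omega

theorem vecA_isA {i j : GolayPt} (hij : i ≠ j) {s t : ℤ} (hs : s = 4 ∨ s = -4)
    (ht : t = 4 ∨ t = -4) : IsA (vecA i j s t) := by
  refine ⟨i, j, hij, fun k => ?_⟩
  simp only [vecA, Pi.add_apply, Pi.single_apply]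
  by_cases h1 : k = i
  · have h2 : k ≠ j := fun h => hij (h1.symm.trans h)
    rw [if_pos h1, if_neg h2, if_pos (Or.inl h1)]
    rcases hs with rfl | rfl <;> norm_num
  · by_cases h2 : k = j
    · rw [if_neg h1, if_pos h2, if_pos (Or.inr h2)]
      rcases ht with rfl | rfl <;> norm_num
    · rw [if_neg h1, if_neg h2, if_neg (by rintro (e | e) <;> [exact h1 e; exact h2 e])]
      norm_num

theorem vecA_mem_TA {p q j : GolayPt} (hpq : p ≠ q) (hjp : j ≠ p) (hjq : j ≠ q) {t : ℤ}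
    (ht : t = 4 ∨ t = -4) (w : leechLattice) (hw : (w : GolayPt → ℤ) = vecA p j 4 t) :
    w ∈ TA p q := by
  refine ⟨?_, ?_⟩
  · rw [hw]; exact vecA_isA hjp.symm (Or.inl rfl) ht
  · rw [hw, dotInt_vecA]
    simp [vecA, hpq, hjp, hjq]

/-- (STEP3) main lemma of step (3): if `N ≤ K` and the order of `K_v` is not divisible by
29, 89, 25 then `K_v ≤ N`. -/
theorem stab_le_of_card (p q : GolayPt) (hpq : p ≠ q) (K : Subgroup Co0)
    (hNK : ∀ g : Co0, StabCross g → g ∈ K)
    (h29 : ¬ 29 ∣ Nat.card ↥(K ⊓ MulAction.stabilizer Co0 (vPQ p q hpq)))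
    (h89 : ¬ 89 ∣ Nat.card ↥(K ⊓ MulAction.stabilizer Co0 (vPQ p q hpq)))
    (h25 : ¬ 25 ∣ Nat.card ↥(K ⊓ MulAction.stabilizer Co0 (vPQ p q hpq))) :
    ∀ k ∈ K ⊓ MulAction.stabilizer Co0 (vPQ p q hpq), StabCross k := by
  classical
  set v := vPQ p q hpq with hv
  set G : Subgroup Co0 := K ⊓ MulAction.stabilizer Co0 v with hG
  obtain ⟨j0, hj0p, hj0q, -⟩ := exists_ne p q p
  let w0 : leechLattice := ⟨vecA p j0 4 4, vecA_mem hj0p.symm (Or.inl rfl) (Or.inl rfl)⟩
  have hw0 : w0 ∈ TA p q := vecA_mem_TA hpq hj0p hj0q (Or.inl rfl) w0 rfl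
  set O : Set leechLattice := MulAction.orbit ↥G w0 with hO
  have hGv : ∀ g : ↥G, (g : Co0) • v = v := by
    intro g
    exact MulAction.mem_stabilizer_iff.1 (Subgroup.mem_inf.1 g.2).2
  -- (i) the orbit lies in the union
  have hsub : O ⊆ TA p q ∪ TB p q ∪ TC p q := by
    rintro x ⟨g, rfl⟩
    have hn : sqNorm (((g : Co0) • w0 : leechLattice) : GolayPt → ℤ) = 32 := by
      rw [Co0_sqNorm]
      exact sqNorm_vecA hj0p.symm (Or.inl rfl) (Or.inl rfl)
    have hd : dotInt (((g : Co0) • w0 : leechLattice) : GolayPt → ℤ) (vecA p q 4 4) = 16 := by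
      have h1 := Co0_dot (g : Co0) w0 v
      rw [hGv g] at h1
      rw [show ((v : leechLattice) : GolayPt → ℤ) = vecA p q 4 4 from rfl] at h1
      rw [h1]
      exact hw0.2
    show ((g : Co0) • w0 : leechLattice) ∈ _
    rcases shape32 ((g : Co0) • w0 : leechLattice).2 hn with h | h | h
    · exact Or.inl (Or.inl ⟨h, hd⟩)
    · exact Or.inl (Or.inr ⟨h, hd⟩)
    · exact Or.inr ⟨h, hd⟩
  -- (ii) classes meeting the orbit are contained in it
  have hcl : ∀ (X : Set leechLattice), (∀ x ∈ X, ∀ x' ∈ X, NvRel p q hpq x x') →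
      ∀ x ∈ X, x ∈ O → X ⊆ O := by
    intro X hX x hxX hxO x' hx'
    obtain ⟨n, hn, hnv, hnx⟩ := hX x hxX x' hx'
    have hnG : n ∈ G := by
      rw [hG, Subgroup.mem_inf, MulAction.mem_stabilizer_iff]
      exact ⟨hNK n hn, hnv⟩
    have : x' = (⟨n, hnG⟩ : ↥G) • x := by
      rw [← hnx]; rfl
    rw [this]
    exact MulAction.mem_orbit_of_mem_orbit _ hxO
  have hA : TA p q ⊆ O :=
    hcl _ (fun x hx x' hx' => nvRel_TA p q hpq hx hx') w0 hw0 (MulAction.mem_orbit_self _)
  have hB : (∃ x ∈ TB p q, x ∈ O) → TB p q ⊆ O := fun ⟨x, hx, hxO⟩ =>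
    hcl _ (fun x hx x' hx' => nvRel_TB p q hpq hx hx') x hx hxO
  have hC : (∃ x ∈ TC p q, x ∈ O) → TC p q ⊆ O := fun ⟨x, hx, hxO⟩ =>
    hcl _ (fun x hx x' hx' => nvRel_TC p q hpq hx hx') x hx hxO
  -- finiteness and disjointness
  have fA : (TA p q).Finite := Set.finite_of_ncard_ne_zero (by rw [Cfsg.Agent.Lib.H9.NX.ncard_TA p q hpq]; norm_num)
  have fB : (TB p q).Finite := Set.finite_of_ncard_ne_zero (by rw [Cfsg.Agent.Lib.H11.NX.ncard_TB p q hpq]; norm_num)
  have fC : (TC p q).Finite := Set.finite_of_ncard_ne_zero (by rw [Cfsg.Agent.Lib.H19.NX.ncard_TC p q hpq]; norm_num)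
  have dAB : Disjoint (TA p q) (TB p q) := by
    rw [Set.disjoint_left]; intro x h1 h2; exact not_isA_isB h1.1 h2.1
  have dAC : Disjoint (TA p q) (TC p q) := by
    rw [Set.disjoint_left]; intro x h1 h2; exact not_isA_isC h1.1 h2.1
  have dBC : Disjoint (TB p q) (TC p q) := by
    rw [Set.disjoint_left]; intro x h1 h2; exact not_isB_isC h1.1 h2.1
  -- divisibility
  have hdvd : O.ncard ∣ Nat.card ↥G := by
    rw [hO, ← MulAction.index_stabilizer]
    exact Subgroup.index_dvd_card _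
  -- the orbit is `TA`
  have hOA : O ⊆ TA p q := by
    by_cases hb : ∃ x ∈ TB p q, x ∈ O
    · exfalso
      by_cases hc : ∃ x ∈ TC p q, x ∈ O
      · have hOeq : O = TA p q ∪ TB p q ∪ TC p q :=
          Set.Subset.antisymm hsub (Set.union_subset (Set.union_subset hA (hB hb)) (hC hc))
        have hcard : O.ncard = 4600 := by
          rw [hOeq, Set.ncard_union_eq _ (fA.union fB) fC, Set.ncard_union_eq dAB fA fB,
            Cfsg.Agent.Lib.H9.NX.ncard_TA p q hpq, Cfsg.Agent.Lib.H11.NX.ncard_TB p q hpq, Cfsg.Agent.Lib.H19.NX.ncard_TC p q hpq]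
          rw [Set.disjoint_union_left]; exact ⟨dAC, dBC⟩
        rw [hcard] at hdvd
        exact h25 (Dvd.dvd.trans (by norm_num) hdvd)
      · have hOeq : O = TA p q ∪ TB p q := by
          apply Set.Subset.antisymm
          · intro x hx
            rcases hsub hx with h | h
            · exact h
            · exact absurd ⟨x, h, hx⟩ hc
          · exact Set.union_subset hA (hB hb)
        have hcard : O.ncard = 2552 := by
          rw [hOeq, Set.ncard_union_eq dAB fA fB, Cfsg.Agent.Lib.H9.NX.ncard_TA p q hpq, Cfsg.Agent.Lib.H11.NX.ncard_TB p q hpq]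
        rw [hcard] at hdvd
        exact h29 (Dvd.dvd.trans (by norm_num) hdvd)
    · by_cases hc : ∃ x ∈ TC p q, x ∈ O
      · exfalso
        have hOeq : O = TA p q ∪ TC p q := by
          apply Set.Subset.antisymm
          · intro x hx
            rcases hsub hx with (h | h) | h
            · exact Or.inl h
            · exact absurd ⟨x, h, hx⟩ hb
            · exact Or.inr h
          · exact Set.union_subset hA (hC hc)
        have hcard : O.ncard = 2136 := by
          rw [hOeq, Set.ncard_union_eq dAC fA fC, Cfsg.Agent.Lib.H9.NX.ncard_TA p q hpq, Cfsg.Agent.Lib.H19.NX.ncard_TC p q hpq]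
        rw [hcard] at hdvd
        exact h89 (Dvd.dvd.trans (by norm_num) hdvd)
      · intro x hx
        rcases hsub hx with (h | h) | h
        · exact h
        · exact absurd ⟨x, h, hx⟩ hb
        · exact absurd ⟨x, h, hx⟩ hc
  -- conclusion
  intro k hk
  apply stabCross_of_88 p q
  intro j hjp hjq t ht w hw
  have hwA : w ∈ TA p q := vecA_mem_TA hpq hjp hjq ht w hw
  have hwO : w ∈ O := hA hwA
  have : ((⟨k, hk⟩ : ↥G) • w) ∈ O := MulAction.mem_orbit_of_mem_orbit _ hwO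
  exact (hOA this).1

end Cfsg.Agent.Lib.H18.NX
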