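import Mathlib

set_option autoImplicit false

namespace Cfsg.Agent.Lib.H18

open Nat

/-- order of a Sylow 2-subgroup of `S_n` -/
def sylTwo (n : ℕ) : ℕ := 2 ^ (n !).factorization 2

theorem sylTwo_pos (n : ℕ) : 0 < sylTwo n := by unfold sylTwo; positivity

theorem pow_mul_sylTwo_le {k n m : ℕ} (h : 2 ^ k * n ! ∣ m !) : 2 ^ k * sylTwo n ≤ sylTwo m := by
  unfold sylTwo
  rw [← pow_add]
  apply Nat.pow_le_pow_right (by norm_num)
  have h1 := (Nat.factorization_le_iff_dvd (by positivity) (Nat.factorial_ne_zero m)).2 h 2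
  rw [Nat.factorization_mul (by positivity) (Nat.factorial_ne_zero n)] at h1
  simpa [Nat.prime_two.factorization_pow] using h1

theorem sylTwo_le_of_dvd {n m : ℕ} (h : n ! ∣ m !) : sylTwo n ≤ sylTwo m := by
  have := pow_mul_sylTwo_le (k := 0) (n := n) (m := m) (by simpa using h)
  simpa using this

theorem sylTwo_mono {n m : ℕ} (h : n ≤ m) : sylTwo n ≤ sylTwo m :=
  sylTwo_le_of_dvd (Nat.factorial_dvd_factorial h)

theorem sylTwo_mul_le (a b : ℕ) : sylTwo a * sylTwo b ≤ sylTwo (a + b) := by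
  unfold sylTwo
  rw [← pow_add]
  apply Nat.pow_le_pow_right (by norm_num)
  have h1 := (Nat.factorization_le_iff_dvd (by positivity) (Nat.factorial_ne_zero (a + b))).2
    (Nat.factorial_mul_factorial_dvd_factorial_add a b) 2
  rw [Nat.factorization_mul (Nat.factorial_ne_zero a) (Nat.factorial_ne_zero b)] at h1
  simpa using h1

theorem sylTwo_zero : sylTwo 0 = 1 := by simp [sylTwo]
theorem sylTwo_one : sylTwo 1 = 1 := by simp [sylTwo]

theorem sylTwo_two_mul (y : ℕ) : sylTwo (2 * y) = 2 ^ y * sylTwo y := by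
  unfold sylTwo
  rw [← pow_add]
  congr 1
  have : Fact (Nat.Prime 2) := ⟨Nat.prime_two⟩
  rw [Nat.factorization_def _ Nat.prime_two, Nat.factorization_def _ Nat.prime_two,
    padicValNat_factorial_mul, add_comm]

/-- `(y!)^j * j! ∣ (j*y)!` -/
theorem factorial_pow_mul_factorial_dvd (y j : ℕ) (hy : 0 < y) : (y !) ^ j * j ! ∣ (j * y)! := by
  induction j with
  | zero => simp
  | succ j ih =>
    have h1 : (j + 1) * y = j * y + y := by ring
    have h2 : ((j + 1) * y)! = ((j + 1) * y).choose y * (y ! * (j * y)!) := by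
      have := Nat.choose_mul_factorial_mul_factorial (n := (j + 1) * y) (k := y)
        (by nlinarith)
      rw [show (j + 1) * y - y = j * y by rw [h1]; simp] at this
      rw [← this]; ring
    have h3 : ((j + 1) * y).choose y = (j + 1) * ((j + 1) * y - 1).choose (y - 1) := by
      have hpos : 0 < (j + 1) * y := by positivity
      have := Nat.add_one_mul_choose_eq ((j + 1) * y - 1) (y - 1)
      rw [Nat.sub_add_cancel hpos, Nat.sub_add_cancel hy] at this
      -- this : (j+1)*y * choose ((j+1)*y-1) (y-1) = choose ((j+1)*y) y * y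
      have h4 : ((j + 1) * y).choose y * y = ((j + 1) * ((j + 1) * y - 1).choose (y - 1)) * y := by
        rw [← this]; ring
      exact Nat.eq_of_mul_eq_mul_right hy h4
    rw [h2, h3]
    have : y ! ^ (j + 1) * (j + 1)! =
        (j + 1) * (y ! * (y ! ^ j * j !)) := by
      rw [Nat.factorial_succ, pow_succ]; ring
    rw [this, mul_assoc]
    apply Nat.mul_dvd_mul_left
    apply Dvd.dvd.mul_left
    exact Nat.mul_dvd_mul_left _ ih

theorem sylTwo_pow_mul_le (y j : ℕ) (hy : 0 < y) : sylTwo y ^ j * sylTwo j ≤ sylTwo (j * y) := by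
  unfold sylTwo
  rw [← pow_mul, ← pow_add]
  apply Nat.pow_le_pow_right (by norm_num)
  have h1 := (Nat.factorization_le_iff_dvd (by positivity) (Nat.factorial_ne_zero (j * y))).2
    (factorial_pow_mul_factorial_dvd y j hy) 2
  rw [Nat.factorization_mul (by positivity) (Nat.factorial_ne_zero j),
    Nat.factorization_pow] at h1
  simpa [mul_comm] using h1

theorem four_sylTwo_le {n : ℕ} (h : n % 4 ≠ 0) : 4 * sylTwo n ≤ sylTwo (n + 3) := by
  apply pow_mul_sylTwo_le (k := 2)
  have h1 : (n + 3)! = (n + 3) * (n + 2) * (n + 1) * n ! := by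
    simp [Nat.factorial_succ]; ring
  rw [h1]
  apply Nat.mul_dvd_mul_right
  have : n % 4 = 1 ∨ n % 4 = 2 ∨ n % 4 = 3 := by omega
  rcases this with h | h | h
  · have : 4 ∣ n + 3 := by omega
    exact Dvd.dvd.mul_right (Dvd.dvd.mul_right this _) _
  · have : 4 ∣ n + 2 := by omega
    exact Dvd.dvd.mul_right (Dvd.dvd.mul_left this _) _
  · have : 4 ∣ n + 1 := by omega
    exact Dvd.dvd.mul_left this _

theorem sixteen_sylTwo_le {n : ℕ} (h : n % 4 = 0) : 16 * sylTwo n ≤ sylTwo (n + 6) := by
  apply pow_mul_sylTwo_le (k := 4)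
  have h1 : (n + 6)! = (n + 6) * (n + 5) * (n + 4) * (n + 3) * (n + 2) * (n + 1) * n ! := by
    simp [Nat.factorial_succ]; ring
  rw [h1]
  apply Nat.mul_dvd_mul_right
  obtain ⟨a, ha⟩ : 2 ∣ n + 6 := by omega
  obtain ⟨b, hb⟩ : 4 ∣ n + 4 := by omega
  obtain ⟨c, hc⟩ : 2 ∣ n + 2 := by omega
  rw [ha, hb, hc]
  exact ⟨a * (n + 5) * b * (n + 3) * c * (n + 1), by ring⟩

theorem sylTwo_eq_of_mod {n : ℕ} (h : n % 4 = 0) : sylTwo (n + 3) = 2 * sylTwo n := by
  unfold sylTwo
  rw [← pow_succ']
  congr 1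
  have h1 : (n + 3)! = (n + 3) * ((n + 2) * ((n + 1) * n !)) := by
    simp [Nat.factorial_succ]
  rw [h1, Nat.factorization_mul (by positivity) (by positivity),
    Nat.factorization_mul (by positivity) (by positivity),
    Nat.factorization_mul (by positivity) (by positivity)]
  have e1 : (n + 3).factorization 2 = 0 := by
    apply Nat.factorization_eq_zero_of_not_dvd; omega
  have e2 : (n + 1).factorization 2 = 0 := by
    apply Nat.factorization_eq_zero_of_not_dvd; omega
  have e3 : (n + 2).factorization 2 = 1 := by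
    obtain ⟨k, hk⟩ : 2 ∣ n + 2 := by omega
    have hk2 : ¬ 2 ∣ k := by omega
    rw [hk, Nat.factorization_mul (by norm_num) (by omega)]
    simp [Nat.prime_two.factorization_self, Nat.factorization_eq_zero_of_not_dvd hk2]
  simp only [Finsupp.coe_add, Pi.add_apply, e1, e2, e3]
  omega


/-- the bound for nilpotent subgroups of `S_n` -/
def nilTgt (n : ℕ) : ℕ := if n % 4 = 3 then 3 * sylTwo (n - 3) else sylTwo n

/-- the bound for transitive nilpotent subgroups of `S_m` -/
def nilB (m : ℕ) : ℕ := if m = 3 then 3 else sylTwo m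

theorem nilTgt_pos (n : ℕ) : 0 < nilTgt n := by
  unfold nilTgt; split_ifs <;> have := sylTwo_pos n <;> have := sylTwo_pos (n - 3) <;> omega

theorem sylTwo_le_nilTgt (n : ℕ) : sylTwo n ≤ nilTgt n := by
  unfold nilTgt
  split_ifs with h
  · have h1 : n = (n - 3) + 3 := by omega
    have h2 : (n - 3) % 4 = 0 := by omega
    conv_lhs => rw [h1, sylTwo_eq_of_mod h2]
    have := sylTwo_pos (n - 3)
    omega
  · exact le_rfl

theorem nilB_le_nilTgt (m : ℕ) : nilB m ≤ nilTgt m := by
  unfold nilB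
  split_ifs with h
  · subst h; simp [nilTgt, sylTwo_zero]
  · exact sylTwo_le_nilTgt m

theorem nilTgt_zero : nilTgt 0 = 1 := by simp [nilTgt, sylTwo_zero]

theorem three_sylTwo_le_nilTgt (m : ℕ) : 3 * sylTwo m ≤ nilTgt (m + 3) := by
  unfold nilTgt
  split_ifs with h
  · simp
  · have h2 : m % 4 ≠ 0 := by omega
    have := four_sylTwo_le h2
    have := sylTwo_pos m
    omega

theorem nilTgt_mul_le (a b : ℕ) : nilTgt a * nilTgt b ≤ nilTgt (a + b) := by
  by_cases ha : a % 4 = 3 <;> by_cases hb : b % 4 = 3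
  · -- both 3 mod 4
    have e : nilTgt a * nilTgt b = 9 * (sylTwo (a - 3) * sylTwo (b - 3)) := by
      simp [nilTgt, ha, hb]; ring
    rw [e]
    have h1 := sylTwo_mul_le (a - 3) (b - 3)
    have h2 : (a - 3 + (b - 3)) % 4 = 0 := by omega
    have h3 := sixteen_sylTwo_le h2
    have h4 : a - 3 + (b - 3) + 6 = a + b := by omega
    rw [h4] at h3
    have h5 := sylTwo_le_nilTgt (a + b)
    have := sylTwo_pos (a - 3 + (b - 3))
    nlinarith
  · have e : nilTgt a * nilTgt b = 3 * (sylTwo (a - 3) * sylTwo b) := by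
      simp [nilTgt, ha, hb]; ring
    rw [e]
    have h1 := sylTwo_mul_le (a - 3) b
    have h2 := three_sylTwo_le_nilTgt (a - 3 + b)
    have h4 : a - 3 + b + 3 = a + b := by omega
    rw [h4] at h2
    omega
  · have e : nilTgt a * nilTgt b = 3 * (sylTwo a * sylTwo (b - 3)) := by
      simp [nilTgt, ha, hb]; ring
    rw [e]
    have h1 := sylTwo_mul_le a (b - 3)
    have h2 := three_sylTwo_le_nilTgt (a + (b - 3))
    have h4 : a + (b - 3) + 3 = a + b := by omega
    rw [h4] at h2
    omega
  · have e : nilTgt a * nilTgt b = sylTwo a * sylTwo b := by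
      simp [nilTgt, ha, hb]
    rw [e]
    exact (sylTwo_mul_le a b).trans (sylTwo_le_nilTgt _)

theorem prod_nilB_le_nilTgt {ι : Type*} (s : Finset ι) (f : ι → ℕ) :
    ∏ i ∈ s, nilB (f i) ≤ nilTgt (∑ i ∈ s, f i) := by
  classical
  induction s using Finset.induction_on with
  | empty => simp [nilTgt_zero]
  | insert a s ha ih =>
    rw [Finset.prod_insert ha, Finset.sum_insert ha]
    calc nilB (f a) * ∏ i ∈ s, nilB (f i) ≤ nilTgt (f a) * nilTgt (∑ i ∈ s, f i) :=
          Nat.mul_le_mul (nilB_le_nilTgt _) ih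
      _ ≤ _ := nilTgt_mul_le _ _


/-- order of a Sylow `q`-subgroup of the symmetric group of degree `q^k` -/
def sylPP (q k : ℕ) : ℕ := q ^ ((q ^ k)!).factorization q

theorem factorization_factorial_pow_succ {q : ℕ} (hq : q.Prime) (k : ℕ) :
    ((q ^ (k + 1))!).factorization q = ((q ^ k)!).factorization q + q ^ k := by
  have : Fact q.Prime := ⟨hq⟩
  rw [Nat.factorization_def _ hq, Nat.factorization_def _ hq, pow_succ', padicValNat_factorial_mul]

theorem sub_one_mul_factorization_factorial_pow {q : ℕ} (hq : q.Prime) (k : ℕ) :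
    (q - 1) * ((q ^ k)!).factorization q + 1 = q ^ k := by
  induction k with
  | zero => simp
  | succ k ih =>
    rw [factorization_factorial_pow_succ hq, mul_add, pow_succ']
    have h1 : 1 ≤ q := hq.one_lt.le
    have h2 : (q - 1) * q ^ k + q ^ k = q * q ^ k := by
      conv_lhs => rw [← Nat.succ_mul, Nat.succ_eq_add_one, Nat.sub_add_cancel h1]
    omega

theorem factorization_factorial_pow_succ' {q : ℕ} (hq : q.Prime) (k : ℕ) :
    ((q ^ (k + 1))!).factorization q = q * ((q ^ k)!).factorization q + 1 := by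
  rw [factorization_factorial_pow_succ hq]
  have h := sub_one_mul_factorization_factorial_pow hq k
  have h1 : 1 ≤ q := hq.one_lt.le
  generalize ((q ^ k)!).factorization q = e at *
  have h3 : q * e = (q - 1) * e + e := by
    have h4 : q = (q - 1) + 1 := by omega
    calc q * e = ((q - 1) + 1) * e := by rw [← h4]
      _ = _ := by ring
  omega

theorem sylPP_succ {q : ℕ} (hq : q.Prime) (k : ℕ) : sylPP q (k + 1) = sylPP q k ^ q * q := by
  unfold sylPP
  rw [factorization_factorial_pow_succ' hq]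
  ring

theorem sylPP_one {q : ℕ} (hq : q.Prime) : sylPP q 1 = q := by
  have := sylPP_succ hq 0
  simpa [sylPP] using this

theorem le_sylTwo_self {q : ℕ} (hq : 5 ≤ q) : q ≤ sylTwo q := by
  have h1 : sylTwo (2 * (q / 2)) ≤ sylTwo q := sylTwo_mono (by omega)
  rw [sylTwo_two_mul] at h1
  have h2 : sylTwo 2 ≤ sylTwo (q / 2) := sylTwo_mono (by omega)
  have h3 : sylTwo 2 = 2 := by
    have := sylTwo_two_mul 1
    simpa [sylTwo_one] using this
  have h4 : q / 2 + 1 ≤ 2 ^ (q / 2) := Nat.lt_two_pow_self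
  have h5 : 2 ^ (q / 2) * 2 ≤ 2 ^ (q / 2) * sylTwo (q / 2) := Nat.mul_le_mul_left _ (h3.symm.le.trans h2)
  omega

theorem sylPP_le_sylTwo {q : ℕ} (hq : q.Prime) (h5 : 5 ≤ q) (k : ℕ) (hk : 1 ≤ k) :
    sylPP q k ≤ sylTwo (q ^ k) := by
  induction k, hk using Nat.le_induction with
  | base => rw [sylPP_one hq, pow_one]; exact le_sylTwo_self h5
  | succ k hk ih =>
    rw [sylPP_succ hq, show q ^ (k + 1) = q * q ^ k from _root_.pow_succ' q k]
    calc sylPP q k ^ q * q ≤ sylTwo (q ^ k) ^ q * sylTwo q :=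
          Nat.mul_le_mul (Nat.pow_le_pow_left ih q) (le_sylTwo_self h5)
      _ ≤ sylTwo (q * q ^ k) := sylTwo_pow_mul_le _ _ (by positivity)

theorem sylTwo_three : sylTwo 3 = 2 := by
  have := sylTwo_eq_of_mod (n := 0) (by norm_num)
  simpa [sylTwo_zero] using this

theorem three_sylPP_le (k : ℕ) (hk : 2 ≤ k) : 3 * sylPP 3 k ≤ 2 * sylTwo (3 ^ k) := by
  induction k, hk using Nat.le_induction with
  | base =>
    have e : sylPP 3 2 = 81 := by
      rw [sylPP_succ Nat.prime_three, sylPP_one Nat.prime_three]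
      norm_num
    have h8 : sylTwo 8 = 128 := by
      have a := sylTwo_two_mul 4
      have b := sylTwo_two_mul 2
      have c := sylTwo_two_mul 1
      simp only [sylTwo_one] at c
      norm_num at a b c
      omega
    have h9 : sylTwo 8 ≤ sylTwo (3 ^ 2) := sylTwo_mono (by norm_num)
    omega
  | succ k hk ih =>
    rw [sylPP_succ Nat.prime_three, show (3 : ℕ) ^ (k + 1) = 3 * 3 ^ k from _root_.pow_succ' 3 k]
    have h1 := sylTwo_pow_mul_le (3 ^ k) 3 (by positivity)
    rw [sylTwo_three] at h1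
    set u := sylPP 3 k
    set t := sylTwo (3 ^ k)
    have h2 : 27 * u ^ 3 ≤ 8 * t ^ 3 := by
      have := Nat.pow_le_pow_left ih 3
      calc 27 * u ^ 3 = (3 * u) ^ 3 := by ring
        _ ≤ (2 * t) ^ 3 := this
        _ = 8 * t ^ 3 := by ring
    nlinarith

theorem sylPP_le_nilB {q : ℕ} (hq : q.Prime) (k : ℕ) (hk : 1 ≤ k) :
    sylPP q k ≤ nilB (q ^ k) := by
  have h2 : 2 ≤ q := hq.two_le
  rcases (by omega : q = 2 ∨ q = 3 ∨ q = 4 ∨ 5 ≤ q) with rfl | rfl | rfl | h5
  · have : (2 : ℕ) ^ k ≠ 3 := by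
      intro h
      have : 2 ∣ 3 := by rw [← h]; exact dvd_pow_self 2 (by omega)
      omega
    simp [nilB, this, sylPP, sylTwo]
  · rcases (by omega : k = 1 ∨ 2 ≤ k) with rfl | hk2
    · simp [nilB, sylPP_one Nat.prime_three]
    · have : (3 : ℕ) ^ k ≠ 3 := by
        intro h
        have : 3 ^ 2 ≤ 3 ^ k := Nat.pow_le_pow_right (by norm_num) hk2
        omega
      simp only [nilB, this, if_false]
      have := three_sylPP_le k hk2
      omega
  · exact absurd hq (by decide)
  · have : q ^ k ≠ 3 := by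
      intro h
      have : q ^ 1 ≤ q ^ k := Nat.pow_le_pow_right (by omega) hk
      rw [pow_one] at this
      omega
    simp only [nilB, this, if_false]
    exact sylPP_le_sylTwo hq h5 k hk


/-- the product of the orders of Sylow `q`-subgroups of `S_{q^a}`, `q^a` the prime-power parts
of `m` -/
def nilBd (m : ℕ) : ℕ := ∏ q ∈ m.primeFactors, sylPP q (m.factorization q)

theorem nilBd_one : nilBd 1 = 1 := by simp [nilBd]

theorem nilBd_prime_pow {q k : ℕ} (hq : q.Prime) (hk : 0 < k) : nilBd (q ^ k) = sylPP q k := by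
  unfold nilBd
  rw [Nat.primeFactors_prime_pow hk.ne' hq, Finset.prod_singleton, hq.factorization_pow]
  simp

theorem nilBd_mul {a b : ℕ} (hab : a.Coprime b) (ha : a ≠ 0) (hb : b ≠ 0) :
    nilBd (a * b) = nilBd a * nilBd b := by
  unfold nilBd
  rw [hab.primeFactors_mul, Finset.prod_union hab.disjoint_primeFactors]
  congr 1
  · apply Finset.prod_congr rfl
    intro q hq
    have hq' := Nat.prime_of_mem_primeFactors hq
    have hqa := Nat.dvd_of_mem_primeFactors hq
    have : ¬ q ∣ b := fun h => hq'.one_lt.ne' (Nat.eq_one_of_dvd_coprimes hab hqa h)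
    rw [Nat.factorization_mul ha hb]
    simp [Nat.factorization_eq_zero_of_not_dvd this]
  · apply Finset.prod_congr rfl
    intro q hq
    have hq' := Nat.prime_of_mem_primeFactors hq
    have hqb := Nat.dvd_of_mem_primeFactors hq
    have : ¬ q ∣ a := fun h => hq'.one_lt.ne' (Nat.eq_one_of_dvd_coprimes hab h hqb)
    rw [Nat.factorization_mul ha hb]
    simp [Nat.factorization_eq_zero_of_not_dvd this]

theorem three_sylTwo_le_mul {b : ℕ} (hb : 2 ≤ b) : 3 * sylTwo b ≤ sylTwo (3 * b) := by
  have h1 := sylTwo_mul_le (2 * b) b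
  rw [sylTwo_two_mul, show 2 * b + b = 3 * b by ring] at h1
  have h2 : 2 ^ 2 ≤ 2 ^ b := Nat.pow_le_pow_right (by norm_num) hb
  have h3 := sylTwo_pos b
  have h4 : 4 * sylTwo b ≤ 2 ^ b * sylTwo b * sylTwo b := by
    calc 4 * sylTwo b = 4 * sylTwo b * 1 := by ring
      _ ≤ 2 ^ b * sylTwo b * sylTwo b := Nat.mul_le_mul (Nat.mul_le_mul_right _ h2) h3
  omega

theorem nilBd_le_nilB (m : ℕ) (hm : 0 < m) : nilBd m ≤ nilB m := by
  induction m using Nat.recOnPosPrimePosCoprime with
  | zero => exact absurd hm (by norm_num)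
  | one => simp [nilBd_one, nilB, sylTwo_one]
  | prime_pow q k hq hk =>
    rw [nilBd_prime_pow hq hk]
    exact sylPP_le_nilB hq k hk
  | coprime a b ha hb hab iha ihb =>
    rw [nilBd_mul hab (by omega) (by omega)]
    have iha := iha (by omega)
    have ihb := ihb (by omega)
    have hab3 : a * b ≠ 3 := by
      intro h
      have : 2 * 2 ≤ a * b := Nat.mul_le_mul ha hb
      omega
    have e : nilB (a * b) = sylTwo (a * b) := by simp [nilB, hab3]
    rw [e]
    by_cases ha3 : a = 3
    · subst ha3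
      have hb3 : b ≠ 3 := by rintro rfl; simp at hab
      have e1 : nilB 3 = 3 := by simp [nilB]
      have e2 : nilB b = sylTwo b := by simp [nilB, hb3]
      rw [e1] at iha; rw [e2] at ihb
      calc nilBd 3 * nilBd b ≤ 3 * sylTwo b := Nat.mul_le_mul iha ihb
        _ ≤ sylTwo (3 * b) := three_sylTwo_le_mul hb
    · by_cases hb3 : b = 3
      · subst hb3
        have e1 : nilB 3 = 3 := by simp [nilB]
        have e2 : nilB a = sylTwo a := by simp [nilB, ha3]
        rw [e1] at ihb; rw [e2] at iha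
        calc nilBd a * nilBd 3 ≤ sylTwo a * 3 := Nat.mul_le_mul iha ihb
          _ = 3 * sylTwo a := by ring
          _ ≤ sylTwo (3 * a) := three_sylTwo_le_mul ha
          _ = sylTwo (a * 3) := by rw [mul_comm]
      · have e1 : nilB a = sylTwo a := by simp [nilB, ha3]
        have e2 : nilB b = sylTwo b := by simp [nilB, hb3]
        rw [e1] at iha; rw [e2] at ihb
        calc nilBd a * nilBd b ≤ sylTwo a * sylTwo b := Nat.mul_le_mul iha ihb
          _ ≤ sylTwo (a + b) := sylTwo_mul_le a b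
          _ ≤ sylTwo (a * b) := sylTwo_mono (by nlinarith)


theorem dvd_nilBd {N m : ℕ} (hN : N ≠ 0)
    (h : ∀ q, q.Prime → N.factorization q ≤ ((q ^ m.factorization q)!).factorization q) :
    N ∣ nilBd m := by
  have hsub : N.primeFactors ⊆ m.primeFactors := by
    intro q hq
    have hq' := Nat.prime_of_mem_primeFactors hq
    have h1 : 1 ≤ N.factorization q :=
      (hq'.dvd_iff_one_le_factorization hN).1 (Nat.dvd_of_mem_primeFactors hq)
    have h2 := h q hq'
    by_contra hqm
    have : m.factorization q = 0 := by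
      rw [← Nat.support_factorization, Finsupp.mem_support_iff, not_not] at hqm
      exact hqm
    rw [this] at h2
    simp at h2
    omega
  conv_lhs => rw [← Nat.prod_factorization_pow_eq_self hN]
  unfold nilBd
  rw [Finsupp.prod, Nat.support_factorization]
  refine (Finset.prod_dvd_prod_of_dvd _ _ ?_).trans (Finset.prod_dvd_prod_of_subset _ _ _ hsub)
  intro q hq
  exact pow_dvd_pow _ (h q (Nat.prime_of_mem_primeFactors hq))

end Cfsg.Agent.Lib.H18
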