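import Mathlib
import Cfsg.Agent.Lib.H18.NilSymNum

set_option autoImplicit false

namespace Cfsg.Agent.Lib.H18

open Nat MulAction

section transitive

variable {N α : Type*} [Group N] [Finite N] [MulAction N α]

/-- in a finite nilpotent group, a Sylow subgroup together with its centralizer generates -/
theorem sylow_sup_centralizer_eq_top [Group.IsNilpotent N] (q : ℕ) [Fact q.Prime] (P : Sylow q N) :
    (P : Subgroup N) ⊔ Subgroup.centralizer ((P : Subgroup N) : Set N) = ⊤ := by
  rw [← Subgroup.index_eq_one]
  rw [Nat.eq_one_iff_not_exists_prime_dvd]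
  intro r hr hdvd
  have : Fact r.Prime := ⟨hr⟩
  by_cases hrq : r = q
  · subst hrq
    exact P.not_dvd_index (hdvd.trans (Subgroup.index_dvd_of_le le_sup_left))
  · obtain ⟨R⟩ : Nonempty (Sylow r N) := inferInstance
    have hdis : Disjoint (R : Subgroup N) (P : Subgroup N) :=
      IsPGroup.disjoint_of_ne r q hrq _ _ R.isPGroup' P.isPGroup'
    have hle : (R : Subgroup N) ≤ Subgroup.centralizer ((P : Subgroup N) : Set N) := by
      intro x hx
      rw [Subgroup.mem_centralizer_iff]
      intro y hy
      exact (Subgroup.commute_of_normal_of_disjoint _ _ inferInstance inferInstance hdis x y hx hy).symm.eq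
    exact R.not_dvd_index (hdvd.trans (Subgroup.index_dvd_of_le (hle.trans le_sup_right)))


/-- a Sylow subgroup of a nilpotent transitive faithful group acts faithfully on each of
its orbits -/
theorem sylow_faithful_on_orbit [Group.IsNilpotent N] [FaithfulSMul N α] [IsPretransitive N α]
    (q : ℕ) [Fact q.Prime] (P : Sylow q N) (a : α) (g : N) (hg : g ∈ (P : Subgroup N))
    (hfix : ∀ u ∈ (P : Subgroup N), g • (u • a) = u • a) : g = 1 := by
  apply FaithfulSMul.eq_of_smul_eq_smul (α := α)
  intro b
  rw [one_smul]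
  obtain ⟨x, rfl⟩ := MulAction.exists_smul_eq N a b
  have hx : x ∈ ((P : Subgroup N) ⊔ Subgroup.centralizer ((P : Subgroup N) : Set N)) := by
    rw [sylow_sup_centralizer_eq_top]; trivial
  rw [← SetLike.mem_coe, Subgroup.normal_mul] at hx
  obtain ⟨u, hu, c, hc, rfl⟩ := hx
  rw [SetLike.mem_coe] at hu
  rw [SetLike.mem_coe, Subgroup.mem_centralizer_iff] at hc
  show g • ((u * c) • a) = (u * c) • a
  have h1 : g * (u * c) = c * (g * u) := by
    rw [← mul_assoc]
    exact hc (g * u) (mul_mem hg hu)
  have h2 : u * c = c * u := hc u hu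
  rw [← mul_smul, h1, mul_smul, mul_smul, hfix u hu, ← mul_smul, ← h2]

theorem factorization_card_le_of_transitive [Group.IsNilpotent N] [FaithfulSMul N α]
    [IsPretransitive N α] [Finite α] [Nonempty α] (q : ℕ) (hq : q.Prime) :
    (Nat.card N).factorization q ≤
      ((q ^ (Nat.card α).factorization q)!).factorization q := by
  have : Fact q.Prime := ⟨hq⟩
  obtain ⟨P⟩ : Nonempty (Sylow q N) := inferInstance
  obtain ⟨a⟩ : Nonempty α := inferInstance
  -- the orbit of `a` under `P`
  set O : Set α := orbit (P : Subgroup N) a with hO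
  have hblock : IsBlock N O := IsBlock.orbit_of_normal a
  have hOne : O.Nonempty := ⟨a, mem_orbit_self a⟩
  have hdvd : Set.ncard O ∣ Nat.card α := hblock.ncard_dvd_card hOne
  obtain ⟨j, hj⟩ := IsPGroup.card_orbit P.isPGroup' a
  have hj' : Set.ncard O = q ^ j := by
    rw [← hj, hO]; exact (Nat.card_coe_set_eq _).symm
  have hjle : j ≤ (Nat.card α).factorization q := by
    rw [hj'] at hdvd
    exact (hq.pow_dvd_iff_le_factorization Nat.card_pos.ne').1 hdvd
  -- `P` embeds into `Perm O`
  have hinj : Function.Injective (MulAction.toPermHom (P : Subgroup N) (orbit (P : Subgroup N) a)) := by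
    rw [injective_iff_map_eq_one]
    intro g hg1
    have : (g : N) = 1 := by
      apply sylow_faithful_on_orbit q P a g g.2
      intro u hu
      have := congrArg (fun σ => ((σ ⟨(⟨u, hu⟩ : (P : Subgroup N)) • a, mem_orbit _ _⟩ :
        orbit (P : Subgroup N) a) : α)) hg1
      simpa [Subgroup.smul_def] using this
    exact Subtype.ext this
  have hcard : Nat.card (P : Subgroup N) ∣ (q ^ j)! := by
    have := Subgroup.card_dvd_of_injective _ hinj
    rwa [Nat.card_perm, hj] at this
  rw [P.card_eq_multiplicity] at hcard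
  have h1 := (hq.pow_dvd_iff_le_factorization (Nat.factorial_ne_zero _)).1 hcard
  refine h1.trans ?_
  have h2 : (q ^ j)! ∣ (q ^ (Nat.card α).factorization q)! :=
    Nat.factorial_dvd_factorial (Nat.pow_le_pow_right hq.pos hjle)
  exact (Nat.factorization_le_iff_dvd (Nat.factorial_ne_zero _) (Nat.factorial_ne_zero _)).2 h2 q

theorem card_le_nilB_of_transitive [Group.IsNilpotent N] [FaithfulSMul N α]
    [IsPretransitive N α] [Finite α] [Nonempty α] : Nat.card N ≤ nilB (Nat.card α) := by
  have h1 : Nat.card N ∣ nilBd (Nat.card α) :=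
    dvd_nilBd Nat.card_pos.ne' (fun q hq => factorization_card_le_of_transitive q hq)
  have h2 := nilBd_le_nilB (Nat.card α) Nat.card_pos
  have h3 : 0 < nilBd (Nat.card α) := by
    apply Nat.pos_of_ne_zero
    intro h0
    rw [h0] at h2
    unfold nilBd at h0
    rw [Finset.prod_eq_zero_iff] at h0
    obtain ⟨q, hq, h0⟩ := h0
    unfold sylPP at h0
    exact (pow_ne_zero _ (Nat.prime_of_mem_primeFactors hq).ne_zero) h0
  exact (Nat.le_of_dvd h3 h1).trans h2

end transitive

section general

variable {N α : Type*} [Group N] [MulAction N α]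

theorem card_le_nilTgt [Group.IsNilpotent N] [FaithfulSMul N α] [Finite α] :
    Nat.card N ≤ nilTgt (Nat.card α) := by
  classical
  have : Fintype (orbitRel.Quotient N α) := Fintype.ofFinite _
  let r : ∀ ω : orbitRel.Quotient N α, N →* Equiv.Perm ω.orbit :=
    fun ω => MulAction.toPermHom N ω.orbit
  have hR : ∀ ω : orbitRel.Quotient N α,
      Nat.card (r ω).range ≤ nilB (Nat.card ω.orbit) := by
    intro ω
    have : Group.IsNilpotent (r ω).range :=
      Group.nilpotent_of_surjective (r ω).rangeRestrict (MonoidHom.rangeRestrict_surjective _)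
    have : Nonempty ω.orbit := (orbitRel.Quotient.nonempty_orbit ω).to_subtype
    have : IsPretransitive (r ω).range ω.orbit := by
      constructor
      intro a b
      obtain ⟨g, hg⟩ := MulAction.exists_smul_eq N a b
      exact ⟨⟨r ω g, ⟨g, rfl⟩⟩, hg⟩
    exact card_le_nilB_of_transitive
  let f : N →* ∀ ω : orbitRel.Quotient N α, (r ω).range :=
    MonoidHom.pi (fun ω => (r ω).rangeRestrict)
  have hf : Function.Injective f := by
    rw [injective_iff_map_eq_one]
    intro g hg
    apply FaithfulSMul.eq_of_smul_eq_smul (α := α)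
    intro a
    rw [one_smul]
    set ω : orbitRel.Quotient N α := Quotient.mk'' a with hω
    have h1 := congrFun hg ω
    have ha : a ∈ ω.orbit := by
      rw [hω, orbitRel.Quotient.orbit_mk]; exact mem_orbit_self a
    have h2 := congrArg (fun σ : (r ω).range =>
      (((σ : Equiv.Perm ↥ω.orbit) (⟨a, ha⟩ : ↥ω.orbit) : ↥ω.orbit) : α)) h1
    simpa [f, r] using h2
  calc Nat.card N ≤ Nat.card (∀ ω : orbitRel.Quotient N α, (r ω).range) :=
        Nat.card_le_card_of_injective f hf
    _ = ∏ ω, Nat.card (r ω).range := Nat.card_pi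
    _ ≤ ∏ ω : orbitRel.Quotient N α, nilB (Nat.card ω.orbit) :=
        Finset.prod_le_prod' (fun ω _ => hR ω)
    _ ≤ nilTgt (∑ ω : orbitRel.Quotient N α, Nat.card ω.orbit) := prod_nilB_le_nilTgt _ _
    _ = nilTgt (Nat.card α) := by
        rw [← Nat.card_sigma, Nat.card_congr (selfEquivSigmaOrbits' N α)]


theorem card_nilpotent_perm_le (n : ℕ) (N : Subgroup (Equiv.Perm (Fin n)))
    (hN : Group.IsNilpotent N) : Nat.card N ≤ nilTgt n := by
  have := card_le_nilTgt (N := N) (α := Fin n)
  simpa using this

theorem card_sylow_two_perm (n : ℕ) (P : Sylow 2 (Equiv.Perm (Fin n))) :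
    Nat.card P = sylTwo n := by
  rw [P.card_eq_multiplicity, Nat.card_perm, Nat.card_fin]
  rfl

end general

end Cfsg.Agent.Lib.H18
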