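import Cfsg.Agent.Lib.H5.Ord.BrVal1
import Cfsg.Agent.Lib.H5.Ord.BrVal2
import Cfsg.Agent.Lib.H5.Ord.BrGen
import Cfsg.Agent.Lib.H4.O4032_T9
import Cfsg.Agent.Lib.H3.O4032_T10
import Cfsg.Agent.Lib.H23.AbSylO

/-!
# S0976, task T11: Brauer's exceptional characters for a self-centralizing subgroup of prime order
with dihedral normalizer, evaluated at an involution (helper18)
-/

set_option autoImplicit false
set_option linter.unusedSectionVars false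

namespace Cfsg.Agent.Lib.H18.O4032T11

/-- a sum of integer squares equal to `1` -/
theorem sq_sum_eq_one {ι : Type*} (R : Finset ι) (b : ι → ℤ) (h : ∑ i ∈ R, b i ^ 2 = 1) :
    ∃ i₀ ∈ R, (b i₀ = 1 ∨ b i₀ = -1) ∧ ∀ i ∈ R, i ≠ i₀ → b i = 0 := by
  classical
  have hex : ∃ i₀ ∈ R, b i₀ ≠ 0 := by
    by_contra hcon
    push Not at hcon
    rw [Finset.sum_eq_zero (fun i hi => by rw [hcon i hi]; ring)] at h
    omega
  obtain ⟨i₀, hi₀, hb0⟩ := hex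
  have hsplit := Finset.add_sum_erase R (fun i => b i ^ 2) hi₀
  rw [h] at hsplit
  have hnn : 0 ≤ ∑ i ∈ R.erase i₀, b i ^ 2 := Finset.sum_nonneg (fun i _ => sq_nonneg _)
  have hsq1 : 1 ≤ b i₀ ^ 2 := by
    have : 0 < b i₀ ^ 2 := by positivity
    omega
  have hsq : b i₀ ^ 2 = 1 := by
    linarith
  have hrest : ∑ i ∈ R.erase i₀, b i ^ 2 = 0 := by
    linarith
  refine ⟨i₀, hi₀, ?_, ?_⟩
  · have : (b i₀ - 1) * (b i₀ + 1) = 0 := by
      ring_nf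
      linarith
    rcases mul_eq_zero.1 this with h1 | h1
    · left
      linarith
    · right
      linarith
  · intro i hi hne
    have := (Finset.sum_eq_zero_iff_of_nonneg (fun i _ => sq_nonneg (b i))).1 hrest i
      (Finset.mem_erase.2 ⟨hne, hi⟩)
    exact (pow_eq_zero_iff two_ne_zero).1 this

/-- the value of `c`: with `t ≥ 3` exceptional characters, `t c² ≤ 1 + 2 ε c` forces `c = 0` or
`c = ε, t = 3` -/
theorem c_cases (εz c t : ℤ) (hε : εz = 1 ∨ εz = -1) (ht : 3 ≤ t)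
    (h : 0 ≤ 1 + 2 * εz * c - t * c ^ 2) : c = 0 ∨ (c = εz ∧ t = 3) := by
  have hc2 : 3 * c ^ 2 ≤ t * c ^ 2 := by nlinarith [sq_nonneg c]
  have hub : c ≤ 1 := by
    by_contra hcon
    push Not at hcon
    rcases hε with rfl | rfl <;> nlinarith
  have hlb : -1 ≤ c := by
    by_contra hcon
    push Not at hcon
    rcases hε with rfl | rfl <;> nlinarith
  interval_cases c
  · rcases hε with rfl | rfl
    · exfalso
      nlinarith
    · right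
      refine ⟨rfl, ?_⟩
      nlinarith
  · left
    rfl
  · rcases hε with rfl | rfl
    · right
      refine ⟨rfl, ?_⟩
      nlinarith
    · exfalso
      nlinarith

end Cfsg.Agent.Lib.H18.O4032T11

namespace Cfsg.Agent.Lib.H5.BrVal

open Cfsg Cfsg.Agent.Lib.L0 Cfsg.Agent.Lib.L0.FrobTI Cfsg.Agent.Lib.H8 Cfsg.Agent.Lib.H4.Feit
  Cfsg.Agent.Lib.H24.BrP Cfsg.Agent.Lib.H18.O4032T11
open scoped ComplexConjugate Classical

universe u

theorem dihedral_brauer {G : Type u} [Group G] [Finite G] {p t : ℕ} [Fact p.Prime] (K : Subgroup G)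
    (hK : Nat.card K = p) (hC : Subgroup.centralizer (K : Set G) = K)
    (hN : Nat.card (Subgroup.normalizer (K : Set G)) = p * 2) (ht : t * 2 + 1 = p) (ht3 : 3 ≤ t)
    (hperf : commutator G = ⊤) {s : G} (hsN : s ∈ Subgroup.normalizer (K : Set G))
    (hs : orderOf s = 2) :
    ∃ (δ ε : ℤ) (d₀ x : ℕ) (a : ℚ), (δ = 1 ∨ δ = -1) ∧ (ε = 1 ∨ ε = -1) ∧
      1 + δ * (d₀ : ℤ) = ε * (x : ℤ) ∧ d₀ ∣ Nat.card G ∧ x ∣ Nat.card G ∧ d₀ ≠ 1 ∧
      (∃ m : ℤ, (d₀ : ℤ) = δ + m * (p : ℤ)) ∧ (∃ m : ℤ, (x : ℤ) = 2 * ε + m * (p : ℤ)) ∧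
      1 + d₀ ^ 2 + t * x ^ 2 ≤ Nat.card G ∧
      ((Nat.card (Subgroup.centralizer ({s} : Set G)) : ℚ)) ^ 2 * (p : ℚ) =
        (Nat.card G : ℚ) * (1 + (δ : ℚ) * a ^ 2 / (d₀ : ℚ) - (ε : ℚ) * (1 + (δ : ℚ) * a) ^ 2 / (x : ℚ)) := by
  have hp : p.Prime := Fact.out
  haveI : Fintype G := Fintype.ofFinite G
  haveI : Fintype (nz K) := Fintype.ofFinite _
  haveI : Fintype (IrrCharacter G) := Fintype.ofFinite _
  have hF := frobTI_of_prime_card hK hC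
  have hab := comm_of_prime_card hK
  have he : (K.subgroupOf (nz K)).index = 2 := by
    have h1 := card_nz_eq K
    rw [hK] at h1
    have h2 : Nat.card (nz K) = p * 2 := hN
    rw [h2, mul_comm] at h1
    exact (Nat.eq_of_mul_eq_mul_right hp.pos h1).symm
  have htc : Nat.card (RelT K) = t := by
    have h1 := card_K_eq hF hab
    rw [he, hK, ← ht] at h1
    omega
  obtain ⟨D⟩ := exc_nonempty hF hab
  have hne : Nonempty (RelT K) := by
    by_contra hcon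
    rw [not_nonempty_iff] at hcon
    rw [Nat.card_of_isEmpty] at htc
    omega
  obtain ⟨ζ₀⟩ := hne
  obtain ⟨εz, c, x, b, d, E, hεz, hEcard, hd, hE, h1, hsq, hdeg, hcong, hx, hεzc, hbΨ, hmemE⟩ :=
    exists_data_val hF hab D ζ₀ (by rw [htc]; omega)
  rw [he] at hsq hx
  rw [hK] at hcong hx
  rw [htc] at hEcard
  obtain ⟨ψ₁, hψ₁⟩ : ∃ ψ₁ : IrrCharacter G, ψ₁ = ⟨1, Cfsg.Agent.Lib.L0.isIrrCharacter_one⟩ :=
    ⟨_, rfl⟩
  have hψ₁f : (ψ₁ : G → ℂ) = 1 := by rw [hψ₁]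
  obtain ⟨h1E, hb1⟩ := h1 ψ₁ hψ₁f
  have hd1 : d ψ₁ = 1 := by
    have := hd ψ₁
    rw [hψ₁f] at this
    simp only [Pi.one_apply] at this
    exact_mod_cast this.symm
  have h1c : ψ₁ ∈ Eᶜ := Finset.mem_compl.2 h1E
  obtain ⟨R, hR⟩ : ∃ R : Finset (IrrCharacter G), R = Eᶜ.erase ψ₁ := ⟨_, rfl⟩
  have hmemR : ∀ ψ, ψ ∈ R ↔ ψ ≠ ψ₁ ∧ ψ ∉ E := by
    intro ψ
    rw [hR, Finset.mem_erase, Finset.mem_compl]
  -- splitting of sums over all irreducible characters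
  have hsplitZ : ∀ g : IrrCharacter G → ℤ,
      ∑ ψ, g ψ = ∑ ψ ∈ E, g ψ + (g ψ₁ + ∑ ψ ∈ R, g ψ) := by
    intro g
    rw [← Finset.sum_add_sum_compl E g, hR, Finset.add_sum_erase Eᶜ g h1c]
  have hsplitC : ∀ g : IrrCharacter G → ℂ,
      ∑ ψ, g ψ = ∑ ψ ∈ E, g ψ + (g ψ₁ + ∑ ψ ∈ R, g ψ) := by
    intro g
    rw [← Finset.sum_add_sum_compl E g, hR, Finset.add_sum_erase Eᶜ g h1c]
  have hsplitN : ∀ g : IrrCharacter G → ℕ,
      ∑ ψ, g ψ = ∑ ψ ∈ E, g ψ + (g ψ₁ + ∑ ψ ∈ R, g ψ) := by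
    intro g
    rw [← Finset.sum_add_sum_compl E g, hR, Finset.add_sum_erase Eᶜ g h1c]
  have hsqR : ∑ i ∈ R, b i ^ 2 = 1 + 2 * εz * c - (t : ℤ) * c ^ 2 := by
    have hsqE : ∑ i ∈ E, b i ^ 2 = (t : ℤ) * c ^ 2 := by
      rw [Finset.sum_congr rfl fun i hi => by rw [(hE i hi).1], Finset.sum_const, hEcard]
      simp
    rw [hsplitZ, hsqE, hb1] at hsq
    push_cast at hsq
    linarith
  have hdegR : 1 + ∑ i ∈ R, b i * (d i : ℤ) + (t : ℤ) * c * (x : ℤ) = εz * x := by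
    have hdE : ∑ i ∈ E, b i * (d i : ℤ) = (t : ℤ) * c * x := by
      rw [Finset.sum_congr rfl fun i hi => by rw [(hE i hi).1, (hE i hi).2], Finset.sum_const,
        hEcard]
      simp
      ring
    rw [hsplitZ, hdE, hb1, hd1] at hdeg
    push_cast at hdeg
    linarith
  have hc0 : c = 0 := by
    have hnn : 0 ≤ ∑ i ∈ R, b i ^ 2 := Finset.sum_nonneg (fun i _ => sq_nonneg _)
    rw [hsqR] at hnn
    rcases c_cases εz c t hεz (by exact_mod_cast ht3) hnn with h0 | ⟨hcε, ht3'⟩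
    · exact h0
    · exfalso
      have hz : ∑ i ∈ R, b i ^ 2 = 0 := by
        rw [hsqR, hcε, ht3']
        rcases hεz with rfl | rfl <;> norm_num
      have hbz : ∀ i ∈ R, b i = 0 := by
        intro i hi
        have := (Finset.sum_eq_zero_iff_of_nonneg (fun i _ => sq_nonneg (b i))).1 hz i hi
        exact (pow_eq_zero_iff two_ne_zero).1 this
      rw [Finset.sum_eq_zero (fun i hi => by rw [hbz i hi, zero_mul]), hcε, ht3'] at hdegR
      rcases hεz with rfl | rfl <;> omega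
  subst hc0
  have hsqR1 : ∑ i ∈ R, b i ^ 2 = 1 := by
    rw [hsqR]
    ring
  obtain ⟨ψ₀, hψ₀R, hδ, hrest⟩ := sq_sum_eq_one R b hsqR1
  obtain ⟨hψ₀ne, hψ₀E⟩ := (hmemR ψ₀).1 hψ₀R
  have hbE : ∀ ψ ∈ E, b ψ = 0 := fun ψ hψ => (hE ψ hψ).1
  have hsumb : ∀ g : IrrCharacter G → ℂ,
      ∑ ψ, (b ψ : ℂ) * g ψ = g ψ₁ + (b ψ₀ : ℂ) * g ψ₀ := by
    intro g
    rw [hsplitC, Finset.sum_eq_zero (fun ψ hψ => by rw [hbE ψ hψ]; simp), hb1,
      Finset.sum_eq_single ψ₀ (fun ψ hψ hne => by rw [hrest ψ hψ hne]; simp)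
        (fun h => absurd hψ₀R h)]
    simp
  have hdeg1 : 1 + b ψ₀ * (d ψ₀ : ℤ) = εz * x := by
    rw [Finset.sum_eq_single ψ₀ (fun ψ hψ hne => by rw [hrest ψ hψ hne]; simp)
        (fun h => absurd hψ₀R h)] at hdegR
    linarith
  have hdvd : ∀ ψ : IrrCharacter G, d ψ ∣ Nat.card G := by
    intro ψ
    obtain ⟨n, -, hn1, hn2⟩ := Cfsg.Agent.Lib.H23.irr_apply_one_dvd_card (ψ : G → ℂ) ψ.2
    rw [hd] at hn1
    have : d ψ = n := by exact_mod_cast hn1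
    rw [this]
    exact hn2
  have hxd : d (D.f ζ₀) = x := (hE _ ((hmemE _).2 ⟨ζ₀, rfl⟩)).2
  have hxdvd : x ∣ Nat.card G := hxd ▸ hdvd _
  have hd0ne : d ψ₀ ≠ 1 := by
    intro hd1'
    apply hψ₀ne
    rw [hψ₁]
    apply Subtype.ext
    apply linear_eq_one_of_perfect hperf _ ψ₀.2
    rw [hd, hd1']
    simp
  have hsumN : ∑ ψ : IrrCharacter G, d ψ ^ 2 = Nat.card G := by
    have hsum := Cfsg.Agent.Lib.H24.sum_irr_one_sq (G := G)
    have : ((∑ ψ : IrrCharacter G, d ψ ^ 2 : ℕ) : ℂ) = (Nat.card G : ℂ) := by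
      rw [← hsum]
      push_cast
      refine Finset.sum_congr rfl fun ψ _ => ?_
      rw [hd]
    exact_mod_cast this
  have hineq : 1 + d ψ₀ ^ 2 + t * x ^ 2 ≤ Nat.card G := by
    rw [← hsumN, hsplitN]
    have hs3 : ∑ i ∈ E, d i ^ 2 = t * x ^ 2 := by
      rw [Finset.sum_congr rfl fun i hi => by rw [(hE i hi).2], Finset.sum_const, hEcard]
      simp
    have hs4 : d ψ₀ ^ 2 ≤ ∑ i ∈ R, d i ^ 2 :=
      Finset.single_le_sum (f := fun i => d i ^ 2) (fun i _ => Nat.zero_le _) hψ₀R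
    rw [hs3, hd1]
    omega
  -- the value `a = ψ₀(s)` is rational
  obtain ⟨n, ρ, hirr, hρ⟩ := Cfsg.Agent.Lib.H24.irr_exists_rep ψ₀
  have hss : s * s = 1 := by
    rw [← pow_two, ← hs]
    exact pow_orderOf_eq_one s
  have hpow : ∀ m : ℕ, m.Coprime (Nat.card G) → s ^ m = s := by
    intro m hm
    have h2 : 2 ∣ Nat.card G := hs ▸ orderOf_dvd_natCard s
    have hodd : m % 2 = 1 := by
      rcases Nat.mod_two_eq_zero_or_one m with h | h
      · exfalso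
        have h3 : 2 ∣ m := Nat.dvd_of_mod_eq_zero h
        have h4 : 2 ∣ Nat.gcd m (Nat.card G) := Nat.dvd_gcd h3 h2
        rw [hm] at h4
        omega
      · exact h
    rw [← Nat.div_add_mod m 2, hodd, pow_add, pow_mul, pow_two, hss, one_pow, one_mul, pow_one]
  obtain ⟨a, ha⟩ := Cfsg.Agent.Lib.H23.char_rational_of_forall_char_pow_eq ρ s
    (fun m hm => by rw [hpow m hm])
  rw [hρ] at ha
  -- the value of `Ψ` at `s`
  have hgen := D.Psi_genChar ζ₀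
  have hexp := Cfsg.Agent.Lib.H24.classFunction_expansion (D.Psi ζ₀)
    (isClassFunction_of_isGeneralizedCharacter hgen)
  have hPsis : D.Psi ζ₀ s = 1 + (b ψ₀ : ℂ) * (a : ℂ) := by
    have h1 := congrFun hexp s
    rw [Finset.sum_apply] at h1
    rw [h1, Finset.sum_congr rfl (fun ψ _ => by rw [Pi.smul_apply, smul_eq_mul, hbΨ]),
      hsumb (fun ψ => (ψ : G → ℂ) s), hψ₁f, ha]
    simp
  have hsK : ∀ g : G, g⁻¹ * s * g ∉ K := by
    intro g hg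
    have h1 : (⟨g⁻¹ * s * g, hg⟩ : K) ^ p = 1 := by
      rw [← hK]
      exact pow_card_eq_one'
    have h2 : (g⁻¹ * s * g) ^ p = 1 := by simpa using congrArg Subtype.val h1
    have h2' : g⁻¹ * s * g = g⁻¹ * s * g⁻¹⁻¹ := by rw [inv_inv]
    rw [h2', conj_pow] at h2
    have h3 : s ^ p = 1 := by
      have := congrArg (fun y => g * y * g⁻¹) h2
      simpa [mul_assoc] using this
    have h4 : 2 ∣ p := hs ▸ orderOf_dvd_of_pow_eq_one h3
    omega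
  have hfs : ∀ ζ : RelT K, (D.f ζ : G → ℂ) s = D.ε * (1 + (b ψ₀ : ℂ) * (a : ℂ)) := by
    intro ζ
    have h1 : D.Psi ζ s = D.Psi ζ₀ s := by rw [D.Psi_eq ζ ζ₀]
    have h2 : D.Psi ζ s = D.Phi ζ s + D.ε * (D.f ζ : G → ℂ) s := rfl
    rw [h2, Phi_apply_eq_zero hF D ζ s hsK, zero_add, hPsis] at h1
    linear_combination D.ε * h1 - (D.f ζ : G → ℂ) s * D.eps_sq
  -- the class equation
  have hp2 : p ≠ 2 := by omega
  have hN' : Nat.card (Subgroup.normalizer (K : Set G)) = 2 * p := by rw [hN, mul_comm]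
  have hM := class_eq hF hab D ζ₀ s
    (((Nat.card (Subgroup.centralizer ({s} : Set G)) : ℂ)) ^ 2 * p)
    (fun k hk hk1 => card_pairs_dihedral hp2 K hK hC hN' hsN hs hk hk1)
  have hterm : ∀ χ : IrrCharacter G,
      classInner (D.Phi ζ₀) (χ : G → ℂ) * ((χ : G → ℂ) s) ^ 2 / (χ : G → ℂ) 1
        = (b χ : ℂ) * (((χ : G → ℂ) s) ^ 2 / (d χ : ℂ))
          - D.ε * (if D.f ζ₀ = χ then ((χ : G → ℂ) s) ^ 2 / (d χ : ℂ) else 0) := by
    intro χ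
    rw [Phi_inner_irr D ζ₀ ζ₀ χ, hbΨ, hd]
    split_ifs <;> ring
  rw [Finset.sum_congr rfl (fun χ _ => hterm χ), Finset.sum_sub_distrib,
    hsumb (fun χ => ((χ : G → ℂ) s) ^ 2 / (d χ : ℂ)), ← Finset.mul_sum,
    Finset.sum_ite_eq Finset.univ (D.f ζ₀), if_pos (Finset.mem_univ _), hfs ζ₀, hxd, hψ₁f, hd1,
    ha] at hM
  have hε3 : D.ε * (D.ε * (1 + (b ψ₀ : ℂ) * (a : ℂ))) ^ 2
      = (εz : ℂ) * (1 + (b ψ₀ : ℂ) * (a : ℂ)) ^ 2 := by
    rw [hεzc]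
    linear_combination (D.ε * (1 + (b ψ₀ : ℂ) * (a : ℂ)) ^ 2) * D.eps_sq
  refine ⟨b ψ₀, εz, d ψ₀, x, a, hδ, hεz, hdeg1, hdvd ψ₀, hxdvd, hd0ne, hcong ψ₀ hψ₀E, ?_, hineq, ?_⟩
  · obtain ⟨m, hm⟩ := hx
    refine ⟨m, ?_⟩
    rw [hm]
    push_cast
    ring
  · have hfin : (((Nat.card (Subgroup.centralizer ({s} : Set G)) : ℚ) ^ 2 * (p : ℚ) : ℚ) : ℂ)
        = (((Nat.card G : ℚ) * (1 + (b ψ₀ : ℚ) * a ^ 2 / (d ψ₀ : ℚ)
          - (εz : ℚ) * (1 + (b ψ₀ : ℚ) * a) ^ 2 / (x : ℚ)) : ℚ) : ℂ) := by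
      push_cast
      rw [hM]
      simp only [Pi.one_apply, Nat.cast_one]
      rw [← mul_div_assoc D.ε, hε3]
      ring
    exact_mod_cast hfin

end Cfsg.Agent.Lib.H5.BrVal
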