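import Mathlib

/-!
helper18 library (for S0977): (ARITH) `arith_false`, exact signature of `tools/blueprints/S0977_sigs.lean`.
PURE arithmetic: a finite search, run by kernel evaluation (`decide +kernel`) of a pruned nested bounded quantifier
(2401 degree patterns, 60 survive the degree equation; 5496 sign/value patterns, 768 survive the linear relation;
48 divisors of 4320 for each).
-/

set_option autoImplicit false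

namespace Cfsg.Agent.Lib.H18.O4320

/-- the possible `(degree, sign, (degree + 4 sign)/5)`. -/
def opts : List (ℕ × ℤ × ℕ) :=
  [(4, -1, 0), (6, 1, 2), (9, -1, 1), (16, 1, 4), (24, -1, 4), (36, 1, 8), (54, -1, 10)]

/-- the divisors of 4320. -/
def divs : List ℕ :=
  [1, 2, 3, 4, 5, 6, 8, 9, 10, 12, 15, 16, 18, 20, 24, 27, 30, 32, 36, 40, 45, 48, 54, 60, 72, 80, 90, 96,
    108, 120, 135, 144, 160, 180, 216, 240, 270, 288, 360, 432, 480, 540, 720, 864, 1080, 1440, 2160, 4320]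

/-- the value `n₊ - n₋` when `n₊ = n` and `n₊ + n₋ = c`. -/
def vv (o : ℕ × ℤ × ℕ) (n : ℕ) : ℤ := 2 * (n : ℤ) - (o.2.2 : ℤ)

set_option maxRecDepth 100000 in
theorem no_bad : ∀ o0 ∈ opts, ∀ o1 ∈ opts, ∀ o2 ∈ opts, ∀ o3 ∈ opts,
    1 + (o0.2.1 * (o0.1 : ℤ) + o1.2.1 * (o1.1 : ℤ) + o2.2.1 * (o2.1 : ℤ) + o3.2.1 * (o3.1 : ℤ)) = 0 →
    ∀ n0 ∈ List.range (o0.2.2 + 1), ∀ n1 ∈ List.range (o1.2.2 + 1),
    ∀ n2 ∈ List.range (o2.2.2 + 1), ∀ n3 ∈ List.range (o3.2.2 + 1),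
    1 + (o0.2.1 * vv o0 n0 + o1.2.1 * vv o1 n1 + o2.2.1 * vv o2 n2 + o3.2.1 * vv o3 n3) = 0 →
    ∀ ct ∈ divs,
      5 * ((ct : ℤ) * ct) * ((o0.1 : ℤ) * o1.1 * o2.1 * o3.1) =
        4320 * ((o0.1 : ℤ) * o1.1 * o2.1 * o3.1
          + o0.2.1 * (vv o0 n0 * vv o0 n0) * ((o1.1 : ℤ) * o2.1 * o3.1)
          + o1.2.1 * (vv o1 n1 * vv o1 n1) * ((o0.1 : ℤ) * o2.1 * o3.1)
          + o2.2.1 * (vv o2 n2 * vv o2 n2) * ((o0.1 : ℤ) * o1.1 * o3.1)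
          + o3.2.1 * (vv o3 n3 * vv o3 n3) * ((o0.1 : ℤ) * o1.1 * o2.1)) →
      ¬ (1 + (vv o0 n0 * vv o0 n0 + vv o1 n1 * vv o1 n1 + vv o2 n2 * vv o2 n2 + vv o3 n3 * vv o3 n3)
          ≤ (ct : ℤ)) := by
  decide +kernel


theorem mem_divs {ct : ℕ} (h : ct ∣ 4320) : ct ∈ divs := by
  have h1 : ct ∈ Nat.divisors 4320 := Nat.mem_divisors.2 ⟨h, by norm_num⟩
  simp only [Nat.divisors_ofNat, Finset.mem_insert, Finset.mem_singleton] at h1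
  simp only [divs, List.mem_cons, List.mem_nil_iff, or_false]
  exact h1

theorem step1 (d : ℕ) (ε : ℤ) (np nm : ℕ) (hε : ε = 1 ∨ ε = -1) (hd : d ∣ 4320) (hd1 : d ≠ 1)
    (hle : d ≤ 65) (hnp : (5 : ℤ) * ((np : ℤ) + nm) = d + 4 * ε) :
    ∃ o ∈ opts, d = o.1 ∧ ε = o.2.1 ∧ np + nm = o.2.2 := by
  have hpos : 0 < d := Nat.pos_of_dvd_of_pos hd (by norm_num)
  interval_cases d <;> rcases hε with rfl | rfl <;>
  first
  | omega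
  | exact ⟨(4, -1, 0), by decide, rfl, rfl, (by omega : np + nm = 0)⟩
  | exact ⟨(6, 1, 2), by decide, rfl, rfl, (by omega : np + nm = 2)⟩
  | exact ⟨(9, -1, 1), by decide, rfl, rfl, (by omega : np + nm = 1)⟩
  | exact ⟨(16, 1, 4), by decide, rfl, rfl, (by omega : np + nm = 4)⟩
  | exact ⟨(24, -1, 4), by decide, rfl, rfl, (by omega : np + nm = 4)⟩
  | exact ⟨(36, 1, 8), by decide, rfl, rfl, (by omega : np + nm = 8)⟩
  | exact ⟨(54, -1, 10), by decide, rfl, rfl, (by omega : np + nm = 10)⟩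

theorem opts_ne_zero : ∀ o ∈ opts, (o.1 : ℚ) ≠ 0 := by
  intro o ho
  simp only [opts, List.mem_cons, List.mem_nil_iff, or_false] at ho
  rcases ho with rfl | rfl | rfl | rfl | rfl | rfl | rfl <;> norm_num

/-- **(ARITH)**, exact signature. -/
theorem arith_false (d : Fin 4 → ℕ) (ε v : Fin 4 → ℤ) (np nm : Fin 4 → ℕ) (ct : ℕ)
    (hε : ∀ i, ε i = 1 ∨ ε i = -1) (hd : ∀ i, d i ∣ 4320) (hd1 : ∀ i, d i ≠ 1)
    (hnp : ∀ i, (5 : ℤ) * ((np i : ℤ) + nm i) = d i + 4 * ε i)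
    (hv : ∀ i, v i = (np i : ℤ) - nm i)
    (hdeg : 1 + ∑ i, ε i * (d i : ℤ) = 0) (hsq : 1 + ∑ i, (d i) ^ 2 ≤ 4320)
    (hlin : 1 + ∑ i, ε i * v i = 0) (hct : ct ∣ 4320) (hbound : 1 + ∑ i, (v i) ^ 2 ≤ (ct : ℤ))
    (hclass : (5 : ℚ) * (ct : ℚ) ^ 2 = 4320 * (1 + ∑ i, (ε i : ℚ) * (v i : ℚ) ^ 2 / (d i : ℚ))) :
    False := by
  have hle : ∀ i, d i ≤ 65 := by
    intro i
    have h1 : (d i) ^ 2 ≤ ∑ j, (d j) ^ 2 :=
      Finset.single_le_sum (f := fun j => (d j) ^ 2) (fun j _ => Nat.zero_le _) (Finset.mem_univ i)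
    by_contra hc
    push Not at hc
    have h2 : 66 * 66 ≤ d i * d i := Nat.mul_le_mul hc hc
    rw [sq] at h1
    omega
  have key : ∀ i, ∃ o ∈ opts, d i = o.1 ∧ ε i = o.2.1 ∧ np i + nm i = o.2.2 :=
    fun i => step1 (d i) (ε i) (np i) (nm i) (hε i) (hd i) (hd1 i) (hle i) (hnp i)
  obtain ⟨o0, ho0, hd0, he0, hc0⟩ := key 0
  obtain ⟨o1, ho1, hd1', he1, hc1⟩ := key 1
  obtain ⟨o2, ho2, hd2, he2, hc2⟩ := key 2
  obtain ⟨o3, ho3, hd3, he3, hc3⟩ := key 3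
  have hvv : ∀ (i : Fin 4) (o : ℕ × ℤ × ℕ), np i + nm i = o.2.2 → v i = vv o (np i) := by
    intro i o h
    rw [hv i, vv, ← h]
    push_cast
    ring
  have hv0 := hvv 0 o0 hc0
  have hv1 := hvv 1 o1 hc1
  have hv2 := hvv 2 o2 hc2
  have hv3 := hvv 3 o3 hc3
  have hr : ∀ (i : Fin 4) (o : ℕ × ℤ × ℕ), np i + nm i = o.2.2 → np i ∈ List.range (o.2.2 + 1) := by
    intro i o h
    rw [List.mem_range]
    omega
  rw [Fin.sum_univ_four] at hdeg hlin hbound hclass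
  rw [hd0, hd1', hd2, hd3, he0, he1, he2, he3] at hdeg
  rw [hv0, hv1, hv2, hv3, he0, he1, he2, he3] at hlin
  rw [hv0, hv1, hv2, hv3] at hbound
  rw [hv0, hv1, hv2, hv3, hd0, hd1', hd2, hd3, he0, he1, he2, he3] at hclass
  refine no_bad o0 ho0 o1 ho1 o2 ho2 o3 ho3 hdeg (np 0) (hr 0 o0 hc0) (np 1) (hr 1 o1 hc1)
    (np 2) (hr 2 o2 hc2) (np 3) (hr 3 o3 hc3) hlin ct (mem_divs hct) ?_ ?_
  · -- the class equation over `ℤ`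
    have h0 := opts_ne_zero o0 ho0
    have h1 := opts_ne_zero o1 ho1
    have h2 := opts_ne_zero o2 ho2
    have h3 := opts_ne_zero o3 ho3
    have e0 : (o0.1 : ℚ) * ((o0.2.1 : ℚ) * (vv o0 (np 0) : ℚ) ^ 2 / (o0.1 : ℚ)) =
        (o0.2.1 : ℚ) * (vv o0 (np 0) : ℚ) ^ 2 := mul_div_cancel₀ _ h0
    have e1 : (o1.1 : ℚ) * ((o1.2.1 : ℚ) * (vv o1 (np 1) : ℚ) ^ 2 / (o1.1 : ℚ)) =
        (o1.2.1 : ℚ) * (vv o1 (np 1) : ℚ) ^ 2 := mul_div_cancel₀ _ h1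
    have e2 : (o2.1 : ℚ) * ((o2.2.1 : ℚ) * (vv o2 (np 2) : ℚ) ^ 2 / (o2.1 : ℚ)) =
        (o2.2.1 : ℚ) * (vv o2 (np 2) : ℚ) ^ 2 := mul_div_cancel₀ _ h2
    have e3 : (o3.1 : ℚ) * ((o3.2.1 : ℚ) * (vv o3 (np 3) : ℚ) ^ 2 / (o3.1 : ℚ)) =
        (o3.2.1 : ℚ) * (vv o3 (np 3) : ℚ) ^ 2 := mul_div_cancel₀ _ h3
    have hq : ((5 * ((ct : ℤ) * ct) * ((o0.1 : ℤ) * o1.1 * o2.1 * o3.1) : ℤ) : ℚ) =
        ((4320 * ((o0.1 : ℤ) * o1.1 * o2.1 * o3.1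
          + o0.2.1 * (vv o0 (np 0) * vv o0 (np 0)) * ((o1.1 : ℤ) * o2.1 * o3.1)
          + o1.2.1 * (vv o1 (np 1) * vv o1 (np 1)) * ((o0.1 : ℤ) * o2.1 * o3.1)
          + o2.2.1 * (vv o2 (np 2) * vv o2 (np 2)) * ((o0.1 : ℤ) * o1.1 * o3.1)
          + o3.2.1 * (vv o3 (np 3) * vv o3 (np 3)) * ((o0.1 : ℤ) * o1.1 * o2.1)) : ℤ) : ℚ) := by
      push_cast
      linear_combination ((o0.1 : ℚ) * o1.1 * o2.1 * o3.1) * hclass
        + 4320 * ((o1.1 : ℚ) * o2.1 * o3.1) * e0 + 4320 * ((o0.1 : ℚ) * o2.1 * o3.1) * e1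
        + 4320 * ((o0.1 : ℚ) * o1.1 * o3.1) * e2 + 4320 * ((o0.1 : ℚ) * o1.1 * o2.1) * e3
    exact_mod_cast hq
  · rw [sq, sq, sq, sq] at hbound
    exact hbound

end Cfsg.Agent.Lib.H18.O4320
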