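import Cfsg.Agent.Lib.H18.O73GSGens

set_option autoImplicit false
set_option maxRecDepth 100000

/-! # S2095 piece GS18: the central words -/

namespace Cfsg.Agent.Lib.H18.O73M

open Matrix Cfsg.Agent.Lib.H17.CosetCert Cfsg.Agent.Lib.H17.O7Vec Cfsg.Agent.Lib.H28.O73M

theorem lt_cen : ∀ c ∈ cenL, ∀ l ∈ c, l < 36 := by decide

theorem chk_cen : ∀ c ∈ cenL, chk c = true := by decide +kernel

end Cfsg.Agent.Lib.H18.O73M
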