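import Cfsg.Agent.Lib.H18.O73GSGens
import Cfsg.Agent.Lib.H17.O7Lines

set_option autoImplicit false
set_option maxRecDepth 100000

/-! # S2095 piece GS18: the words for the eight generators of helper17 -/

namespace Cfsg.Agent.Lib.H18.O73M

open Matrix Cfsg.Agent.Lib.H17.CosetCert Cfsg.Agent.Lib.H17.O7Vec Cfsg.Agent.Lib.H28.O73M

open Cfsg.Agent.Lib.H17.O7Refl Cfsg.Agent.Lib.H17.O7Lines

/-- the words for the eight negatives of reflections -/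
def tgW : List (List ℕ) := [
  [26, 9, 30, 26, 30, 34, 31, 21, 27, 8],
  [1, 20, 33, 30, 27, 19],
  [30, 26, 30, 34, 31, 21],
  [2, 32, 35, 31, 25, 31, 22, 20],
  [4, 21, 31, 34, 26, 22],
  [1, 31, 34, 32, 26, 32, 21, 19],
  [32, 35, 30, 25, 30, 22],
  [2, 35, 32, 33, 22, 33, 25, 20]]

theorem lt_tg : ∀ w ∈ tgW, ∀ l ∈ w, l < 36 := by decide

/-- the check of a word against the table of an involution -/
noncomputable def chkT (w : List ℕ) (VT : ℕ) : Bool :=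
  checkWord 12 4096 ((w.map tabL).reverse ++ [VT]) 2187

theorem tab_of_σ (t : O7) (VT : ℕ) (hg : Good 12 4096 2187 VT) (h : ρ t = σ 12 4096 2187 VT) :
    Tab t VT := by
  intro x
  rw [h, σ_apply 12 4096 2187 VT hg]

theorem ev_eq_nr (v : V7) (hv : Q v = 2) (VT : ℕ) (hg : Good 12 4096 2187 VT)
    (h : ρ (nr v hv) = σ 12 4096 2187 VT) (w : List ℕ) (hw : ∀ l ∈ w, l < 36)
    (hc : chkT w VT = true) : ev gO w = nr v hv :=
  ev_eq_of_check_invol gO tabL lv_tab (nr v hv) (nr_mul_self v hv) VT (tab_of_σ _ VT hg h) w hw hc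

theorem ev_tg0 : ev gO [26, 9, 30, 26, 30, 34, 31, 21, 27, 8] = nr v0 nrm0 :=
  ev_eq_nr v0 nrm0 VT0 good_VT0 ρ_nr0 _ (by decide) (by decide +kernel)


theorem ev_tg1 : ev gO [1, 20, 33, 30, 27, 19] = nr v1 nrm1 :=
  ev_eq_nr v1 nrm1 VT1 good_VT1 ρ_nr1 _ (by decide) (by decide +kernel)


theorem ev_tg2 : ev gO [30, 26, 30, 34, 31, 21] = nr v2 nrm2 :=
  ev_eq_nr v2 nrm2 VT2 good_VT2 ρ_nr2 _ (by decide) (by decide +kernel)


theorem ev_tg3 : ev gO [2, 32, 35, 31, 25, 31, 22, 20] = nr v3 nrm3 :=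
  ev_eq_nr v3 nrm3 VT3 good_VT3 ρ_nr3 _ (by decide) (by decide +kernel)


theorem ev_tg4 : ev gO [4, 21, 31, 34, 26, 22] = nr v4 nrm4 :=
  ev_eq_nr v4 nrm4 VT4 good_VT4 ρ_nr4 _ (by decide) (by decide +kernel)


theorem ev_tg5 : ev gO [1, 31, 34, 32, 26, 32, 21, 19] = nr v5 nrm5 :=
  ev_eq_nr v5 nrm5 VT5 good_VT5 ρ_nr5 _ (by decide) (by decide +kernel)


theorem ev_tg6 : ev gO [32, 35, 30, 25, 30, 22] = nr v6 nrm6 :=
  ev_eq_nr v6 nrm6 VT6 good_VT6 ρ_nr6 _ (by decide) (by decide +kernel)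


theorem ev_tg7 : ev gO [2, 35, 32, 33, 22, 33, 25, 20] = nr v7 nrm7 :=
  ev_eq_nr v7 nrm7 VT7 good_VT7 ρ_nr7 _ (by decide) (by decide +kernel)

end Cfsg.Agent.Lib.H18.O73M
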