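import Cfsg.Agent.Lib.H18.O73GSRelA
import Cfsg.Agent.Lib.H18.O73GSRelB
import Cfsg.Agent.Lib.H18.O73GSRelC
import Cfsg.Agent.Lib.H18.O73GSRelT
import Cfsg.Agent.Lib.H17.O7Main

set_option autoImplicit false
set_option maxRecDepth 100000

/-!
# S2095 piece GS18 (helper28 architect): eighteen generators of `Ω₇(3) = commutator O7`

The eighteen matrices of `tools/o73m_h28/S2095_data.txt` are isometries, lie in the commutator subgroup `Om` of
helper17's `O7`, satisfy `Rels`, the 68 words of `cenL` are trivial on them, and they generate `Om`.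
-/

namespace Cfsg.Agent.Lib.H18.O73M

open Matrix Cfsg.Agent.Lib.H17.CosetCert Cfsg.Agent.Lib.H17.O7Vec Cfsg.Agent.Lib.H28.O73M
  Cfsg.Agent.Lib.H17.O7Refl Cfsg.Agent.Lib.H17.O7Lines Cfsg.Agent.Lib.H17.O7T Cfsg.Agent.Lib.H17.O7Main

open scoped commutatorElement

/-- the Steinberg relations hold in `O7` -/
theorem gO_st : ∀ s ∈ stL, gO s.1 * gO s.2.1 * (gO s.1)⁻¹ * (gO s.2.1)⁻¹ = gO s.2.2 := by
  intro s hs
  obtain ⟨h1, h2, h3⟩ := stL_lt s hs
  have := ev_eq_one_of_chk _ (lt_st s hs) (chk_st s hs)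
  rw [ev_stWord, lv_of_lt gO h1, lv_of_lt gO h2, lv_of_lt gO h3, mul_inv_eq_one] at this
  exact this

theorem stL_surj : ∀ i < 18, ∃ s ∈ stL, s.2.2 = i := by decide

theorem gO_of_ge (j : ℕ) : gO (j + 18) = 1 := rfl

/-- the generators lie in the commutator subgroup -/
theorem gO_mem (i : ℕ) : gO i ∈ Om := by
  by_cases hi : i < 18
  · obtain ⟨s, hs, rfl⟩ := stL_surj i hi
    rw [← gO_st s hs]
    have e : gO s.1 * gO s.2.1 * (gO s.1)⁻¹ * (gO s.2.1)⁻¹ = ⁅gO s.1, gO s.2.1⁆ :=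
      (commutatorElement_def _ _).symm
    rw [e]
    change _ ∈ commutator O7
    rw [commutator_def]
    exact Subgroup.commutator_mem_commutator (Subgroup.mem_top _) (Subgroup.mem_top _)
  · obtain ⟨j, rfl⟩ : ∃ j, i = j + 18 := ⟨i - 18, by omega⟩
    rw [gO_of_ge]
    exact Subgroup.one_mem _

/-- the generators, as elements of the commutator subgroup -/
def gX (i : ℕ) : ↥Om := ⟨gO i, gO_mem i⟩

theorem coe_ev_gX (w : List ℕ) : ((ev gX w : ↥Om) : O7) = ev gO w :=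
  map_ev Om.subtype gX w

theorem ev_gX_eq_one (w : List ℕ) (h : ev gO w = 1) : ev gX w = 1 := by
  apply Subtype.ext
  rw [coe_ev_gX, h]
  rfl

theorem ev_gX_relL : ∀ w ∈ relL, ev gX w = 1 := by
  intro w hw
  unfold relL at hw
  simp only [List.mem_append, List.mem_map, List.mem_flatMap, List.mem_range] at hw
  rcases hw with (((hw | hw) | ⟨s, hs, rfl⟩) | ⟨p, hp, rfl⟩) | ⟨c, hc, q, hq, rfl⟩
  · exact ev_gX_eq_one w (ev_eq_one_of_chk w (lt_cube w hw) (chk_cube w hw))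
  · unfold invL at hw
    rcases List.mem_cons.mp hw with rfl | hw
    · rfl
    · obtain ⟨l, -, rfl⟩ := List.mem_map.mp hw
      rw [ev_cons, ev_single, lv_linv, mul_inv_cancel]
  · exact ev_gX_eq_one _ (ev_eq_one_of_chk _ (lt_st s hs) (chk_st s hs))
  · exact ev_gX_eq_one _ (ev_eq_one_of_chk _ (lt_comm p hp) (chk_comm p hp))
  · rw [ev_cenWord, ev_gX_eq_one c (ev_eq_one_of_chk c (lt_cen c hc) (chk_cen c hc))]
    group

theorem rels_gX : Rels gX := rels_of_ev_eq_one ev_gX_relL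

theorem cen_gX : ∀ c ∈ cenL, ev gX c = 1 := fun c hc =>
  ev_gX_eq_one c (ev_eq_one_of_chk c (lt_cen c hc) (chk_cen c hc))

theorem tg_mem (k : Fin 8) : tg k ∈ Subgroup.closure {g : O7 | ∃ i < 18, g = gO i} := by
  fin_cases k
  · change nr v0 nrm0 ∈ _
    rw [← ev_tg0]
    exact ev_mem_closure gO _
  · change nr v1 nrm1 ∈ _
    rw [← ev_tg1]
    exact ev_mem_closure gO _
  · change nr v2 nrm2 ∈ _
    rw [← ev_tg2]
    exact ev_mem_closure gO _
  · change nr v3 nrm3 ∈ _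
    rw [← ev_tg3]
    exact ev_mem_closure gO _
  · change nr v4 nrm4 ∈ _
    rw [← ev_tg4]
    exact ev_mem_closure gO _
  · change nr v5 nrm5 ∈ _
    rw [← ev_tg5]
    exact ev_mem_closure gO _
  · change nr v6 nrm6 ∈ _
    rw [← ev_tg6]
    exact ev_mem_closure gO _
  · change nr v7 nrm7 ∈ _
    rw [← ev_tg7]
    exact ev_mem_closure gO _

theorem T_le_closure : T ≤ Subgroup.closure {g : O7 | ∃ i < 18, g = gO i} := by
  unfold T
  rw [Subgroup.closure_le]
  rintro _ ⟨k, rfl⟩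
  exact tg_mem k

theorem map_closure_gX :
    (Subgroup.closure {g : ↥Om | ∃ i < 18, g = gX i}).map Om.subtype =
      Subgroup.closure {g : O7 | ∃ i < 18, g = gO i} := by
  rw [MonoidHom.map_closure]
  congr 1
  ext g
  constructor
  · rintro ⟨g', ⟨i, hi, rfl⟩, rfl⟩
    exact ⟨i, hi, rfl⟩
  · rintro ⟨i, hi, rfl⟩
    exact ⟨gX i, ⟨i, hi, rfl⟩, rfl⟩

theorem closure_gX : Subgroup.closure {g : ↥Om | ∃ i < 18, g = gX i} = ⊤ := by
  rw [eq_top_iff]
  intro y _
  have hy : (y : O7) ∈ T := by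
    rw [← commutator_eq_T]
    exact y.2
  have hK := T_le_closure hy
  rw [← map_closure_gX] at hK
  obtain ⟨c, hc, hcy⟩ := hK
  have e : c = y := Subtype.ext hcy
  rw [← e]
  exact hc

/-- **GS18**. -/
theorem exists_gens18 : ∃ X : ℕ → ↥Cfsg.Agent.Lib.H17.O7Main.Om,
    Subgroup.closure {g : ↥Cfsg.Agent.Lib.H17.O7Main.Om | ∃ i < 18, g = X i} = ⊤ ∧ Rels X ∧
      ∀ c ∈ cenL, ev X c = 1 :=
  ⟨gX, closure_gX, rels_gX, cen_gX⟩

end Cfsg.Agent.Lib.H18.O73M
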