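import Cfsg.Agent.Lib.H28.O73M.Words
import Cfsg.Agent.Lib.H17.O7Vec

set_option autoImplicit false
set_option maxRecDepth 100000

/-!
# S2095 piece GS18 (helper28 architect): base layer

Explicit matrices of `O(7, 3)` given by their rows, their action on the 2187 numbered vectors as packed
tables, and the evaluation of words through the tables.
-/

namespace Cfsg.Agent.Lib.H18.O73M

open Matrix Cfsg.Agent.Lib.H17.CosetCert Cfsg.Agent.Lib.H17.O7Vec Cfsg.Agent.Lib.H28.O73M

/-- the explicit dot product of two vectors -/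
def d7 (r v : V7) : ZMod 3 :=
  r (.inl ()) * v (.inl ()) + r (.inr (.inl 0)) * v (.inr (.inl 0)) +
    r (.inr (.inl 1)) * v (.inr (.inl 1)) + r (.inr (.inl 2)) * v (.inr (.inl 2)) +
    r (.inr (.inr 0)) * v (.inr (.inr 0)) + r (.inr (.inr 1)) * v (.inr (.inr 1)) +
    r (.inr (.inr 2)) * v (.inr (.inr 2))

theorem dot_eq_d7 (r v : V7) : r ⬝ᵥ v = d7 r v := by
  simp only [dotProduct, Fintype.sum_sum_type, Fin.sum_univ_three, Finset.univ_unique,
    Finset.sum_singleton, d7]
  ring

/-- the matrix with given rows -/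
def mkM (r0 r1 r2 r3 r4 r5 r6 : V7) : Matrix I7 I7 (ZMod 3) :=
  Matrix.of (Sum.elim (fun _ => r0) (Sum.elim ![r1, r2, r3] ![r4, r5, r6]))

/-- the explicit product of a matrix and a vector -/
def mv (M : Matrix I7 I7 (ZMod 3)) (v : V7) : V7 :=
  mkV (d7 (M (.inl ())) v) (d7 (M (.inr (.inl 0))) v) (d7 (M (.inr (.inl 1))) v)
    (d7 (M (.inr (.inl 2))) v) (d7 (M (.inr (.inr 0))) v) (d7 (M (.inr (.inr 1))) v)
    (d7 (M (.inr (.inr 2))) v)

theorem mulVec_eq_mv (M : Matrix I7 I7 (ZMod 3)) (v : V7) : M *ᵥ v = mv M v := by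
  ext i
  rcases i with ⟨⟩ | i | i
  · simp only [mulVec, dot_eq_d7, mv, mkV, Sum.elim_inl]
  · fin_cases i <;> simp [mulVec, dot_eq_d7, mv, mkV]
  · fin_cases i <;> simp [mulVec, dot_eq_d7, mv, mkV]

/-- the element of `O(7, 3)` with a given matrix, given inverse matrix, and checked isometry property -/
def mkO (M M' : Matrix I7 I7 (ZMod 3)) (h1 : M * M' = 1) (h2 : M' * M = 1)
    (hiso : ∀ x : Fin 2187, Q (mv M (dec x)) = Q (dec x)) : O7 :=
  ⟨⟨M, M', h1, h2⟩, (mem_O7 _).mpr (fun u => by
    rw [mulVec_eq_mv]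
    have := hiso (enc u)
    rwa [dec_enc] at this)⟩

theorem mat_mkO (M M' : Matrix I7 I7 (ZMod 3)) (h1 : M * M' = 1) (h2 : M' * M = 1)
    (hiso : ∀ x : Fin 2187, Q (mv M (dec x)) = Q (dec x)) : mat (mkO M M' h1 h2 hiso) = M := rfl

theorem mat_mkO_inv (M M' : Matrix I7 I7 (ZMod 3)) (h1 : M * M' = 1) (h2 : M' * M = 1)
    (hiso : ∀ x : Fin 2187, Q (mv M (dec x)) = Q (dec x)) : mat (mkO M M' h1 h2 hiso)⁻¹ = M' := rfl

/-- the packed table `T` describes the action of the matrix `M` on the numbered vectors -/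
def TabM (M : Matrix I7 I7 (ZMod 3)) (T : ℕ) : Prop :=
  ∀ x : Fin 2187, ((enc (mv M (dec x)) : Fin 2187) : ℕ) = lk 12 4096 T x

/-- the packed table `T` describes the action of the element `g` on the numbered vectors -/
def Tab (g : O7) (T : ℕ) : Prop := ∀ x : Fin 2187, ((ρ g x : Fin 2187) : ℕ) = lk 12 4096 T x

theorem tab_of_tabM (g : O7) (T : ℕ) (h : TabM (mat g) T) : Tab g T := by
  intro x
  rw [ρ_apply, mulVec_eq_mv]
  exact h x

theorem tab_one_apply (x : Fin 2187) : ((ρ (1 : O7) x : Fin 2187) : ℕ) = x := by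
  rw [map_one, Equiv.Perm.one_apply]

section words

variable (Xo : ℕ → O7) (tabL : ℕ → ℕ) (hT : ∀ l < 36, Tab (lv Xo l) (tabL l))

include hT in
/-- the action of the value of a word is computed by the tables -/
theorem ρ_ev (w : List ℕ) (hw : ∀ l ∈ w, l < 36) (x : Fin 2187) :
    ((ρ (ev Xo w) x : Fin 2187) : ℕ) = applyT 12 4096 ((w.map tabL).reverse) x := by
  induction w generalizing x with
  | nil => rw [ev_nil, tab_one_apply, List.map_nil, List.reverse_nil, applyT_nil]
  | cons l w ih =>
    rw [ev_cons, map_mul, Equiv.Perm.mul_apply, List.map_cons, List.reverse_cons, applyT_append,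
      applyT_cons, applyT_nil, ← ih (fun l' hl' => hw l' (List.mem_cons_of_mem _ hl')) x]
    exact hT l (hw l List.mem_cons_self) (ρ (ev Xo w) x)

include hT in
/-- a word whose tables compose to the identity has value `1` -/
theorem ev_eq_one_of_check (w : List ℕ) (hw : ∀ l ∈ w, l < 36)
    (h : checkWord 12 4096 ((w.map tabL).reverse) 2187 = true) : ev Xo w = 1 := by
  apply ρ_injective
  ext x
  rw [ρ_ev Xo tabL hT w hw x, checkWord_sound 12 4096 _ 2187 h x x.2, map_one, Equiv.Perm.one_apply]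

include hT in
/-- a word whose tables compose to the table of an involution has that involution as its value -/
theorem ev_eq_of_check_invol (t : O7) (ht : t * t = 1) (VT : ℕ) (hV : Tab t VT) (w : List ℕ)
    (hw : ∀ l ∈ w, l < 36)
    (h : checkWord 12 4096 ((w.map tabL).reverse ++ [VT]) 2187 = true) : ev Xo w = t := by
  have h1 : t * ev Xo w = 1 := by
    apply ρ_injective
    ext x
    rw [map_mul, Equiv.Perm.mul_apply, hV, ρ_ev Xo tabL hT w hw x, map_one, Equiv.Perm.one_apply]
    have := checkWord_sound 12 4096 _ 2187 h x x.2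
    rw [applyT_append, applyT_cons, applyT_nil] at this
    exact this
  calc ev Xo w = t * (t * ev Xo w) := by rw [← mul_assoc, ht, one_mul]
    _ = t := by rw [h1, mul_one]

/-- the value of a word lies in the subgroup generated by the letters -/
theorem ev_mem_closure {G : Type*} [Group G] (x : ℕ → G) (w : List ℕ) :
    ev x w ∈ Subgroup.closure {g : G | ∃ i < 18, g = x i} := by
  induction w with
  | nil => rw [ev_nil]; exact Subgroup.one_mem _
  | cons l w ih =>
    rw [ev_cons]
    refine Subgroup.mul_mem _ ?_ ih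
    have hl : l % 18 < 18 := Nat.mod_lt _ (by norm_num)
    have hm : x (l % 18) ∈ Subgroup.closure {g : G | ∃ i < 18, g = x i} :=
      Subgroup.subset_closure ⟨l % 18, hl, rfl⟩
    unfold lv
    split_ifs
    · exact hm
    · exact Subgroup.inv_mem _ hm

end words

end Cfsg.Agent.Lib.H18.O73M
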