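import Cfsg.Agent.Lib.H18.O73GSG0
import Cfsg.Agent.Lib.H18.O73GSG1
import Cfsg.Agent.Lib.H18.O73GSG2
import Cfsg.Agent.Lib.H18.O73GSG3
import Cfsg.Agent.Lib.H18.O73GSG4
import Cfsg.Agent.Lib.H18.O73GSG5
import Cfsg.Agent.Lib.H18.O73GSG6
import Cfsg.Agent.Lib.H18.O73GSG7
import Cfsg.Agent.Lib.H18.O73GSG8

set_option autoImplicit false
set_option maxRecDepth 100000

/-! # S2095 piece GS18: the eighteen generators of `Ω₇(3)` and the tables of the 36 letters -/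

namespace Cfsg.Agent.Lib.H18.O73M

open Matrix Cfsg.Agent.Lib.H17.CosetCert Cfsg.Agent.Lib.H17.O7Vec Cfsg.Agent.Lib.H28.O73M

/-- the eighteen generators (and `1` for the other indices) -/
def gO : ℕ → O7
  | 0 => g0
  | 1 => g1
  | 2 => g2
  | 3 => g3
  | 4 => g4
  | 5 => g5
  | 6 => g6
  | 7 => g7
  | 8 => g8
  | 9 => g9
  | 10 => g10
  | 11 => g11
  | 12 => g12
  | 13 => g13
  | 14 => g14
  | 15 => g15
  | 16 => g16
  | 17 => g17
  | _ => 1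

/-- the tables of the 36 letters -/
def tabs : List ℕ := [gT0, gT1, gT2, gT3, gT4, gT5, gT6, gT7, gT8, gT9, gT10, gT11, gT12, gT13, gT14, gT15, gT16, gT17, gT0', gT1', gT2', gT3', gT4', gT5', gT6', gT7', gT8', gT9', gT10', gT11', gT12', gT13', gT14', gT15', gT16', gT17']

/-- the table of a letter -/
def tabL (l : ℕ) : ℕ := tabs.getD l 0

theorem gO_tab : ∀ i < 18, Tab (gO i) (tabL i) ∧ Tab (gO i)⁻¹ (tabL (i + 18)) := by
  intro i hi
  interval_cases i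
  · exact ⟨g0_tab, g0_tab'⟩
  · exact ⟨g1_tab, g1_tab'⟩
  · exact ⟨g2_tab, g2_tab'⟩
  · exact ⟨g3_tab, g3_tab'⟩
  · exact ⟨g4_tab, g4_tab'⟩
  · exact ⟨g5_tab, g5_tab'⟩
  · exact ⟨g6_tab, g6_tab'⟩
  · exact ⟨g7_tab, g7_tab'⟩
  · exact ⟨g8_tab, g8_tab'⟩
  · exact ⟨g9_tab, g9_tab'⟩
  · exact ⟨g10_tab, g10_tab'⟩
  · exact ⟨g11_tab, g11_tab'⟩
  · exact ⟨g12_tab, g12_tab'⟩
  · exact ⟨g13_tab, g13_tab'⟩
  · exact ⟨g14_tab, g14_tab'⟩
  · exact ⟨g15_tab, g15_tab'⟩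
  · exact ⟨g16_tab, g16_tab'⟩
  · exact ⟨g17_tab, g17_tab'⟩

theorem lv_tab : ∀ l < 36, Tab (lv gO l) (tabL l) := by
  intro l hl
  by_cases h : l < 18
  · rw [lv_of_lt gO h]
    exact (gO_tab l h).1
  · obtain ⟨i, rfl⟩ : ∃ i, l = i + 18 := ⟨l - 18, by omega⟩
    have hi : i < 18 := by omega
    have e : lv gO (i + 18) = (gO i)⁻¹ := by
      unfold lv
      rw [if_neg (by omega), (by omega : (i + 18) % 18 = i)]
    rw [e]
    exact (gO_tab i hi).2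

/-- the check of a word: its tables compose to the identity -/
noncomputable def chk (w : List ℕ) : Bool := checkWord 12 4096 ((w.map tabL).reverse) 2187

theorem ev_eq_one_of_chk (w : List ℕ) (hw : ∀ l ∈ w, l < 36) (h : chk w = true) : ev gO w = 1 :=
  ev_eq_one_of_check gO tabL lv_tab w hw h

end Cfsg.Agent.Lib.H18.O73M
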