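import Cfsg.Agent.Lib.H18.O73GSGens

set_option autoImplicit false
set_option maxRecDepth 100000

/-! # S2095 piece GS18: the cubes and the Steinberg relations -/

namespace Cfsg.Agent.Lib.H18.O73M

open Matrix Cfsg.Agent.Lib.H17.CosetCert Cfsg.Agent.Lib.H17.O7Vec Cfsg.Agent.Lib.H28.O73M

theorem lt_cube : ∀ w ∈ cubeL, ∀ l ∈ w, l < 36 := by decide

theorem chk_cube : ∀ w ∈ cubeL, chk w = true := by decide +kernel

theorem lt_st : ∀ s ∈ stL, ∀ l ∈ stWord s.1 s.2.1 s.2.2, l < 36 := by decide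

theorem chk_st : ∀ s ∈ stL, chk (stWord s.1 s.2.1 s.2.2) = true := by decide +kernel

end Cfsg.Agent.Lib.H18.O73M
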