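import Mathlib

/-!
helper18 library (for S0435): the pure arithmetic of the involution column of a simple group of order 7920.
`a1 a2 a3` = values of the three characters of degree 10, `b` = degree 11, `g` = the two of degree 16 (equal),
`d` = degree 44, `e` = degree 45, `f` = degree 55, `c` = the order of the centralizer.
A finite search, run by kernel evaluation (`decide +kernel`) of a pruned nested bounded quantifier.
-/

set_option autoImplicit false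

namespace Cfsg.Agent.Lib.H18.O7920

/-- the integers `-11, …, 11`. -/
def rng : List ℤ := (List.range 23).map fun i : ℕ => (i : ℤ) - 11

/-- the multiples of 4 in `[-8, 8]`. -/
def rng4 : List ℤ := [-8, -4, 0, 4, 8]

/-- the divisors of 144. -/
def divs144 : List ℕ := [1, 2, 3, 4, 6, 8, 9, 12, 16, 18, 24, 36, 48, 72, 144]

set_option maxRecDepth 100000 in
set_option synthInstance.maxHeartbeats 400000 in
set_option synthInstance.maxSize 2048 in
theorem no_bad48 : ∀ a1 ∈ rng, ∀ a2 ∈ rng, a1 * a1 + a2 * a2 ≤ 143 → ∀ a3 ∈ rng,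
    a1 * a1 + a2 * a2 + a3 * a3 ≤ 143 → ∀ g ∈ rng4,
    720 - 72 * (a1 * a1 + a2 * a2 + a3 * a3) +
      16 * ((a1 + a2 + a3 + g - 1) * (a1 + a2 + a3 + g - 1)) - 45 * (g * g) = 0 →
    ∀ b ∈ rng, ∀ f ∈ rng,
    1 + 10 * (a1 + a2 + a3) + 11 * b + 32 * g + 44 * (1 + 2 * g + b) +
      45 * (a1 + a2 + a3 + g - 1) + 55 * f = 0 →
    ∀ c ∈ divs144,
      (c : ℤ) = 1 + a1 * a1 + a2 * a2 + a3 * a3 + b * b + 2 * (g * g) +
        (1 + 2 * g + b) * (1 + 2 * g + b) +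
        (a1 + a2 + a3 + g - 1) * (a1 + a2 + a3 + g - 1) + f * f →
      (c = 48 ∧ g = 0 ∧ b = 3 ∧ f = -1 ∧ a1 * a1 = 4 ∧ a2 * a2 = 4 ∧ a3 * a3 = 4 ∧
        a1 + a2 + a3 = -2) := by
  decide +kernel

theorem mem_divs144 {c : ℕ} (h : c ∣ 144) : c ∈ divs144 := by
  have h1 : c ∈ Nat.divisors 144 := Nat.mem_divisors.2 ⟨h, by norm_num⟩
  simp only [Nat.divisors_ofNat, Finset.mem_insert, Finset.mem_singleton] at h1
  simp only [divs144, List.mem_cons, List.mem_nil_iff, or_false]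
  exact h1

theorem mem_rng {a : ℤ} (h : a * a ≤ 143) : a ∈ rng := by
  have h1 : -11 ≤ a := by nlinarith
  have h2 : a ≤ 11 := by nlinarith
  interval_cases a <;> decide

/-- **the involution column of a simple group of order 7920** (general form): the relations (R11), (R5), (T11), (R1) and
`c = 1 + ∑ squares`, `c ∣ 144` force `c = 48` and the values `(a; b; g; d; e; f) = ({-2,-2,2}; 3; 0; 4; -3; -1)`. -/
theorem arith_c48_values (a1 a2 a3 b g d e f : ℤ) (c : ℕ)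
    (hR11 : 1 - (a1 + a2 + a3) + e - g = 0) (hR5 : 1 + 2 * g + b - d = 0)
    (hT11 : 720 - 72 * (a1 ^ 2 + a2 ^ 2 + a3 ^ 2) + 16 * e ^ 2 - 45 * g ^ 2 = 0)
    (hR1 : 1 + 10 * (a1 + a2 + a3) + 11 * b + 32 * g + 44 * d + 45 * e + 55 * f = 0)
    (hc : (c : ℤ) = 1 + a1 ^ 2 + a2 ^ 2 + a3 ^ 2 + b ^ 2 + 2 * g ^ 2 + d ^ 2 + e ^ 2 + f ^ 2)
    (hdvd : c ∣ 144) :
    c = 48 ∧ g = 0 ∧ b = 3 ∧ f = -1 ∧ d = 4 ∧ e = -3 ∧ a1 ^ 2 = 4 ∧ a2 ^ 2 = 4 ∧ a3 ^ 2 = 4 ∧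
      a1 + a2 + a3 = -2 := by
  have hc144 : c ≤ 144 := Nat.le_of_dvd (by norm_num) hdvd
  have hcz : (c : ℤ) ≤ 144 := by exact_mod_cast hc144
  obtain rfl : e = a1 + a2 + a3 + g - 1 := by linarith
  obtain rfl : d = 1 + 2 * g + b := by linarith
  simp only [sq] at hT11 hc ⊢
  have q1 := mul_self_nonneg a1
  have q2 := mul_self_nonneg a2
  have q3 := mul_self_nonneg a3
  have q4 := mul_self_nonneg b
  have q5 := mul_self_nonneg g
  have q6 := mul_self_nonneg (1 + 2 * g + b)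
  have q7 := mul_self_nonneg (a1 + a2 + a3 + g - 1)
  have q8 := mul_self_nonneg f
  have h12 : a1 * a1 + a2 * a2 ≤ 143 := by linarith
  have h123 : a1 * a1 + a2 * a2 + a3 * a3 ≤ 143 := by linarith
  have ha1 : a1 ∈ rng := mem_rng (by linarith)
  have ha2 : a2 ∈ rng := mem_rng (by linarith)
  have ha3 : a3 ∈ rng := mem_rng (by linarith)
  have hb : b ∈ rng := mem_rng (by linarith)
  have hf : f ∈ rng := mem_rng (by linarith)
  have hg4 : g ∈ rng4 := by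
    have hgg : g * g ≤ 71 := by linarith
    have h1 : -8 ≤ g := by nlinarith
    have h2 : g ≤ 8 := by nlinarith
    generalize a1 * a1 + a2 * a2 + a3 * a3 = S at hT11
    generalize (a1 + a2 + a3 + g - 1) * (a1 + a2 + a3 + g - 1) = E at hT11
    interval_cases g <;> first | (exfalso; omega) | decide
  obtain ⟨r1, r2, r3, r4, r5, r6, r7, r8⟩ := no_bad48 a1 ha1 a2 ha2 h12 a3 ha3 h123 g hg4 hT11 b hb f hf
    (by linarith) c (mem_divs144 hdvd) (by linarith)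
  refine ⟨r1, r2, r3, r4, ?_, ?_, r5, r6, r7, r8⟩
  · rw [r2, r3]; norm_num
  · rw [r8, r2]; norm_num

/-- the order of the centralizer only (general form). -/
theorem arith_c48_gen (a1 a2 a3 b g d e f : ℤ) (c : ℕ)
    (hR11 : 1 - (a1 + a2 + a3) + e - g = 0) (hR5 : 1 + 2 * g + b - d = 0)
    (hT11 : 720 - 72 * (a1 ^ 2 + a2 ^ 2 + a3 ^ 2) + 16 * e ^ 2 - 45 * g ^ 2 = 0)
    (hR1 : 1 + 10 * (a1 + a2 + a3) + 11 * b + 32 * g + 44 * d + 45 * e + 55 * f = 0)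
    (hc : (c : ℤ) = 1 + a1 ^ 2 + a2 ^ 2 + a3 ^ 2 + b ^ 2 + 2 * g ^ 2 + d ^ 2 + e ^ 2 + f ^ 2)
    (hdvd : c ∣ 144) : c = 48 :=
  (arith_c48_values a1 a2 a3 b g d e f c hR11 hR5 hT11 hR1 hc hdvd).1

open scoped BigOperators in
/-- **(ARITH48)**, exact signature of `tools/blueprints/S0435_sigs.lean` (the bounds are not needed). -/
theorem arith_c48 (a : Fin 3 → ℤ) (b u t t' f : ℤ) (c : ℕ)
    (ha : ∀ i, |a i| ≤ 10) (hb : |b| ≤ 45) (hu : |u| ≤ 16) (ht : |t| ≤ 11) (ht' : |t'| ≤ 44)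
    (hf : |f| ≤ 55)
    (R1 : 1 - ∑ i, a i + b - u = 0)
    (R2 : 720 - 72 * ∑ i, a i ^ 2 + 16 * b ^ 2 - 45 * u ^ 2 = 0)
    (R3 : 1 + t - t' + 2 * u = 0)
    (R4 : 1 + 10 * ∑ i, a i + 45 * b + 32 * u + 11 * t + 44 * t' + 55 * f = 0)
    (hc : (c : ℤ) = 1 + ∑ i, a i ^ 2 + b ^ 2 + 2 * u ^ 2 + t ^ 2 + t' ^ 2 + f ^ 2)
    (hdvd : c ∣ 144) : c = 48 := by
  rw [Fin.sum_univ_three] at R1 R2 R4 hc
  exact arith_c48_gen (a 0) (a 1) (a 2) t u t' b f c (by linarith) (by linarith) (by linarith)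
    (by linarith) (by linarith) hdvd

end Cfsg.Agent.Lib.H18.O7920
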