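import Mathlib
import Cfsg.Agent.S0992
import Cfsg.Agent.Lib.H5.KleinSylow
import Cfsg.Agent.Lib.H5.SimpleTools

set_option autoImplicit false

/-!
# Involutions of a simple group of order `≡ 4 (mod 8)` (helper18, S0983 filler)

From S0992 (`T` Klein four, `|N(T) : C(T)| = 3`) and helper5's `K4` library:
* `involutions_conj`: all involutions are conjugate;
* `four_dvd_card_centralizer`: `4 ∣ |C(a)|` for an involution `a`;
* `card_centralizer_eq_of_conj`: conjugate elements have centralizers of the same order.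
-/

namespace Cfsg.Agent.Lib.H18.O983

open Subgroup Cfsg.Agent.Lib.H5

variable {G : Type*} [Group G] [Finite G]

theorem card_centralizer_eq_of_conj {a b : G} (h : IsConj a b) :
    Nat.card (centralizer ({a} : Set G)) = Nat.card (centralizer ({b} : Set G)) := by
  obtain ⟨c, rfl⟩ := isConj_iff.1 h
  refine Nat.card_congr ⟨fun x => ⟨c * x * c⁻¹, ?_⟩, fun x => ⟨c⁻¹ * x * c, ?_⟩, ?_, ?_⟩
  · have hx := mem_centralizer_singleton_iff.1 x.2
    rw [mem_centralizer_singleton_iff]
    calc c * ↑x * c⁻¹ * (c * a * c⁻¹) = c * (↑x * a) * c⁻¹ := by group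
      _ = c * (a * ↑x) * c⁻¹ := by rw [hx]
      _ = c * a * c⁻¹ * (c * ↑x * c⁻¹) := by group
  · have hx := mem_centralizer_singleton_iff.1 x.2
    rw [mem_centralizer_singleton_iff]
    calc c⁻¹ * ↑x * c * a = c⁻¹ * (↑x * (c * a * c⁻¹)) * c := by group
      _ = c⁻¹ * ((c * a * c⁻¹) * ↑x) * c := by rw [hx]
      _ = a * (c⁻¹ * ↑x * c) := by group
  · intro x
    apply Subtype.ext
    show c⁻¹ * (c * ↑x * c⁻¹) * c = ↑x
    group
  · intro x
    apply Subtype.ext
    show c * (c⁻¹ * ↑x * c) * c⁻¹ = ↑x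
    group

variable [IsSimpleGroup G]

/-- all involutions of a nonabelian simple group of order `≡ 4 (mod 8)` are conjugate. -/
theorem involutions_conj (hnc : ¬ IsMulCommutative G) (h2 : Even (Nat.card G))
    (h8 : ¬ 8 ∣ Nat.card G) {a b : G} (ha : orderOf a = 2) (hb : orderOf b = 2) : IsConj a b := by
  classical
  haveI : Fact (Nat.Prime 2) := ⟨Nat.prime_two⟩
  let T : Sylow 2 G := default
  obtain ⟨hK, hrel⟩ := Cfsg.Agent.S0992.result hnc h2 h8 T
  -- an element of `N(T)` moving an element of `T`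
  have hnle : ¬ normalizer ((T : Subgroup G) : Set G) ≤ centralizer ((T : Subgroup G) : Set G) := by
    intro hle
    have := relIndex_eq_one.2 hle
    rw [hrel] at this
    omega
  obtain ⟨n, hnN, hnC⟩ := SetLike.not_le_iff_exists.1 hnle
  rw [mem_centralizer_iff] at hnC
  push Not at hnC
  obtain ⟨x, hxT, hxn⟩ := hnC
  have hxT' : x ∈ (T : Subgroup G) := hxT
  have hninv : n⁻¹ ∈ normalizer ((T : Subgroup G) : Set G) := inv_mem hnN
  have hyT : n⁻¹ * x * n ∈ (T : Subgroup G) := by
    have := (mem_normalizer_iff.1 hninv x).1 hxT'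
    rwa [inv_inv] at this
  have hxy : x ≠ n⁻¹ * x * n := by
    intro h
    apply hxn
    calc x * n = n * (n⁻¹ * x * n) := by group
      _ = n * x := by rw [← h]
  have hx1 : x ≠ 1 := by
    intro h
    apply hxy
    rw [h]
    group
  have hy1 : n⁻¹ * x * n ≠ 1 := by
    intro h
    apply hx1
    have : x = n * (n⁻¹ * x * n) * n⁻¹ := by group
    rw [this, h]
    group
  have hconj : IsConj x (n⁻¹ * x * n) := isConj_iff.2 ⟨n⁻¹, by rw [inv_inv]⟩
  have hall : IsConj x (n⁻¹ * x * n) ∧ IsConj x (x * (n⁻¹ * x * n)) := by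
    rcases K4.dichotomy T hK hxT' hyT hx1 hy1 hxy with h | h
    · exact absurd hconj h.1
    · exact h
  -- every involution is conjugate to `x`
  have key : ∀ t : G, orderOf t = 2 → IsConj t x := by
    intro t ht
    obtain ⟨g, hg⟩ := K4.exists_conj_mem T t ht
    have ht1 : g⁻¹ * t * g ≠ 1 := by
      intro h
      have h1 : t = g * (g⁻¹ * t * g) * g⁻¹ := by group
      rw [h] at h1
      have : t = 1 := by rw [h1]; group
      rw [this, orderOf_one] at ht
      omega
    have hc : IsConj t (g⁻¹ * t * g) := isConj_iff.2 ⟨g⁻¹, by rw [inv_inv]⟩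
    rcases K4.mem_cases hK hxT' hyT hg hx1 hy1 hxy with h | h | h | h
    · exact absurd h ht1
    · rw [h] at hc; exact hc
    · rw [h] at hc; exact hc.trans hall.1.symm
    · rw [h] at hc; exact hc.trans hall.2.symm
  exact (key a ha).trans (key b hb).symm

/-- `4 ∣ |C(a)|` for an involution `a`. -/
theorem four_dvd_card_centralizer (hnc : ¬ IsMulCommutative G) (h2 : Even (Nat.card G))
    (h8 : ¬ 8 ∣ Nat.card G) {a : G} (ha : orderOf a = 2) :
    4 ∣ Nat.card (centralizer ({a} : Set G)) := by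
  haveI : Fact (Nat.Prime 2) := ⟨Nat.prime_two⟩
  have h1 : IsPGroup 2 (zpowers a) := by
    apply IsPGroup.of_card (n := 1)
    rw [Nat.card_zpowers, ha, pow_one]
  obtain ⟨Q, hQ⟩ := h1.exists_le_sylow
  obtain ⟨hK, -⟩ := Cfsg.Agent.S0992.result hnc h2 h8 Q
  have haQ : a ∈ (Q : Subgroup G) := hQ (mem_zpowers a)
  have hle : (Q : Subgroup G) ≤ centralizer ({a} : Set G) := by
    intro z hz
    rw [mem_centralizer_singleton_iff]
    exact K4.mem_comm hK hz haQ
  have := Subgroup.card_dvd_of_le hle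
  rwa [hK.card_four] at this

end Cfsg.Agent.Lib.H18.O983
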