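import Mathlib

set_option autoImplicit false

/-!
# A subgroup with a unique Sylow `p`-subgroup (helper18, S0983 filler)

`le_normalizer_of_sylow_unique`: `P ≤ H` of prime order `p`, `p² ∤ |H|`, and `1` is the only divisor of `|H| / p`
that is `≡ 1 (mod p)` ⟹ `H ≤ N_G(P)`.
-/

namespace Cfsg.Agent.Lib.H18.O983

open Subgroup

variable {G : Type*} [Group G] [Finite G]

theorem le_normalizer_of_sylow_unique (H P : Subgroup G) {p : ℕ} [hp : Fact p.Prime] (hPH : P ≤ H)
    (hP : Nat.card P = p) (hpH : ¬ p ^ 2 ∣ Nat.card H)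
    (huniq : ∀ d : ℕ, d ∣ Nat.card H / p → d % p = 1 → d = 1) :
    H ≤ normalizer (P : Set G) := by
  classical
  have hcardP' : Nat.card (P.subgroupOf H) = p := by
    rw [Nat.card_congr (Subgroup.subgroupOfEquivOfLe hPH).toEquiv, hP]
  have hpdvd : p ∣ Nat.card H := by
    rw [← hP]
    exact Subgroup.card_dvd_of_le hPH
  have hfac : (Nat.card H).factorization p = 1 := by
    have h1 : 1 ≤ (Nat.card H).factorization p :=
      (hp.out.dvd_iff_one_le_factorization Nat.card_pos.ne').1 hpdvd
    have h2 : ¬ 2 ≤ (Nat.card H).factorization p := by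
      intro h
      exact hpH ((hp.out.pow_dvd_iff_le_factorization Nat.card_pos.ne').2 h)
    omega
  have hc : Nat.card (P.subgroupOf H) = p ^ (Nat.card H).factorization p := by
    rw [hcardP', hfac, pow_one]
  set S : Sylow p H := Sylow.ofCard (P.subgroupOf H) hc with hS
  have hmod : Nat.card (Sylow p H) % p = 1 := by
    have := card_sylow_modEq_one p H
    have h1 : 1 % p = 1 := Nat.mod_eq_of_lt hp.out.one_lt
    rw [Nat.ModEq, h1] at this
    exact this
  have hidx : (S : Subgroup H).index = Nat.card H / p := by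
    have h1 := (S : Subgroup H).card_mul_index
    rw [hS, Sylow.coe_ofCard, hcardP'] at h1
    rw [hS, Sylow.coe_ofCard]
    exact (Nat.div_eq_of_eq_mul_right hp.out.pos h1.symm).symm
  have hone : Nat.card (Sylow p H) = 1 :=
    huniq _ (hidx ▸ S.card_dvd_index) hmod
  haveI : Subsingleton (Sylow p H) := (Nat.card_eq_one_iff_unique.1 hone).1
  have hn : (S : Subgroup H).Normal := S.normal_of_subsingleton
  rw [hS, Sylow.coe_ofCard] at hn
  exact (normal_subgroupOf_iff_le_normalizer hPH).1 hn

end Cfsg.Agent.Lib.H18.O983
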