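import Mathlib
import Cfsg.Agent.Lib.L0.CyclicSylowTwo

set_option autoImplicit false

/-!
# Tools for the ad hoc orders of S0983 (helper18)

* `cyclic_sylow_two_of_normalizer`: `K` of prime order, `|C_G(K)|` odd, `N_G(K)` contains a Sylow 2-subgroup of `G`
  ⟹ the Sylow 2-subgroups of `G` are cyclic (they embed in `N/C ↪ Aut(K)`, a cyclic group);
* `false_of_cyclic_sylow_two`: a simple group of even order, not a power of 2, has no cyclic Sylow 2-subgroup.
-/

namespace Cfsg.Agent.Lib.H18.O983

open Subgroup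

variable {G : Type*} [Group G] [Finite G]

theorem isCyclic_mulAut_of_prime_card (K : Subgroup G) {p : ℕ} [hp : Fact p.Prime]
    (hK : Nat.card K = p) : IsCyclic (MulAut K) := by
  haveI : Fact (Nat.card K).Prime := ⟨hK ▸ hp.out⟩
  haveI : IsCyclic K := isCyclic_of_prime_card hK
  exact isCyclic_of_injective (IsCyclic.mulAutMulEquiv K).toMonoidHom (MulEquiv.injective _)

/-- `K` of prime order, `|C_G(K)|` odd, `|N_G(K)|_2 = |G|_2` ⟹ cyclic Sylow 2-subgroups. -/
theorem cyclic_sylow_two_of_normalizer (K : Subgroup G) {p : ℕ} [Fact p.Prime]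
    (hK : Nat.card K = p) (hCodd : ¬ 2 ∣ Nat.card (centralizer (K : Set G)))
    (hN : (Nat.card (normalizer (K : Set G))).factorization 2 = (Nat.card G).factorization 2) :
    ∃ Q : Sylow 2 G, IsCyclic (Q : Subgroup G) := by
  classical
  haveI : Fact (Nat.Prime 2) := ⟨Nat.prime_two⟩
  haveI hcycA : IsCyclic (MulAut K) := isCyclic_mulAut_of_prime_card K hK
  obtain ⟨S⟩ : Nonempty (Sylow 2 (normalizer (K : Set G))) := inferInstance
  -- `S` embeds in `MulAut K`
  let f : (S : Subgroup (normalizer (K : Set G))) →* MulAut K :=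
    K.normalizerMonoidHom.comp (S : Subgroup (normalizer (K : Set G))).subtype
  have hf : Function.Injective f := by
    rw [injective_iff_map_eq_one]
    intro s hs
    have h1 : (s : normalizer (K : Set G)) ∈ K.normalizerMonoidHom.ker := hs
    rw [normalizerMonoidHom_ker, mem_subgroupOf] at h1
    have h2 : orderOf ((s : normalizer (K : Set G)) : G) ∣
        Nat.card (centralizer (K : Set G)) := by
      have := orderOf_dvd_natCard (⟨_, h1⟩ : centralizer (K : Set G))
      rwa [Subgroup.orderOf_mk] at this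
    have h3 : orderOf s ∣ Nat.card (S : Subgroup (normalizer (K : Set G))) :=
      orderOf_dvd_natCard s
    obtain ⟨k, hk⟩ := S.2.exists_card_eq
    rw [hk] at h3
    have h4 : orderOf ((s : normalizer (K : Set G)) : G) = orderOf s := by
      rw [Subgroup.orderOf_coe, Subgroup.orderOf_coe]
    rw [h4] at h2
    obtain ⟨j, -, hj⟩ := (Nat.dvd_prime_pow Nat.prime_two).1 h3
    rw [hj] at h2
    have hj0 : j = 0 := by
      by_contra hne
      exact hCodd ((dvd_pow_self 2 hne).trans h2)
    rw [hj0, pow_zero] at hj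
    exact orderOf_eq_one_iff.1 hj
  haveI hScyc : IsCyclic (S : Subgroup (normalizer (K : Set G))) := isCyclic_of_injective f hf
  -- the image of `S` in `G` is a Sylow 2-subgroup of `G`
  set Q := (S : Subgroup (normalizer (K : Set G))).map (normalizer (K : Set G)).subtype with hQ
  have hcard : Nat.card Q = 2 ^ (Nat.card G).factorization 2 := by
    rw [hQ, Subgroup.card_map_of_injective (Subgroup.subtype_injective _), S.card_eq_multiplicity,
      hN]
  refine ⟨Sylow.ofCard Q hcard, ?_⟩
  rw [Sylow.coe_ofCard]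
  have hsurj : Function.Surjective
      ((normalizer (K : Set G)).subtype.subgroupMap (S : Subgroup (normalizer (K : Set G)))) :=
    MonoidHom.subgroupMap_surjective _ _
  exact isCyclic_of_surjective _ hsurj

theorem factorization_two_eq {n k m : ℕ} (h : n = 2 ^ k * m) (hm : ¬ 2 ∣ m) :
    n.factorization 2 = k := by
  have hm0 : m ≠ 0 := fun h0 => hm (h0 ▸ dvd_zero 2)
  rw [h, Nat.factorization_mul (pow_ne_zero _ (by norm_num)) hm0,
    Nat.Prime.factorization_pow Nat.prime_two]
  simp [Nat.factorization_eq_zero_of_not_dvd hm]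

/-- numeric form of `cyclic_sylow_two_of_normalizer`. -/
theorem cyclic_sylow_two_of_normalizer' (K : Subgroup G) {p : ℕ} [Fact p.Prime]
    (hK : Nat.card K = p) (hCodd : ¬ 2 ∣ Nat.card (centralizer (K : Set G))) {k m m' : ℕ}
    (hG : Nat.card G = 2 ^ k * m) (hm : ¬ 2 ∣ m)
    (hN : Nat.card (normalizer (K : Set G)) = 2 ^ k * m') (hm' : ¬ 2 ∣ m') :
    ∃ Q : Sylow 2 G, IsCyclic (Q : Subgroup G) :=
  cyclic_sylow_two_of_normalizer K hK hCodd
    ((factorization_two_eq hN hm').trans (factorization_two_eq hG hm).symm)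

theorem ne_two_pow_of_prime_dvd {n q : ℕ} (hq : q.Prime) (hq2 : q ≠ 2) (h : q ∣ n) (k : ℕ) :
    n ≠ 2 ^ k := by
  intro hk
  rw [hk] at h
  have h2 := (Nat.prime_dvd_prime_iff_eq hq Nat.prime_two).1 (hq.dvd_of_dvd_pow h)
  exact hq2 h2

/-- a simple group of even order which is not a `2`-group has no cyclic Sylow 2-subgroup. -/
theorem false_of_cyclic_sylow_two [IsSimpleGroup G] (Q : Sylow 2 G) (hQ : IsCyclic (Q : Subgroup G))
    (h2 : 2 ∣ Nat.card G) (hnp : ∀ k : ℕ, Nat.card G ≠ 2 ^ k) : False := by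
  haveI : Fact (Nat.Prime 2) := ⟨Nat.prime_two⟩
  obtain ⟨K, hKn, hKc, -⟩ := Cfsg.Agent.Lib.L0.exists_odd_normal_complement_of_cyclic_sylow Q hQ h2
  have hmul : Nat.card K * Nat.card (Q : Subgroup G) = Nat.card G := hKc.card_mul
  rcases hKn.eq_bot_or_eq_top with h | h
  · rw [h, Subgroup.card_bot, one_mul] at hmul
    obtain ⟨k, hk⟩ := Q.2.exists_card_eq
    exact hnp k (hmul.symm.trans hk)
  · rw [h, Subgroup.card_top] at hmul
    have h1 : Nat.card (Q : Subgroup G) = 1 := by
      have hpos : 0 < Nat.card G := Nat.card_pos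
      exact Nat.eq_of_mul_eq_mul_left hpos (by rw [hmul, mul_one])
    have h3 := Q.card_eq_multiplicity
    rw [h1] at h3
    have h4 : (Nat.card G).factorization 2 = 0 := by
      by_contra hne
      have : 2 ≤ 2 ^ (Nat.card G).factorization 2 := by
        calc 2 = 2 ^ 1 := (pow_one 2).symm
          _ ≤ 2 ^ (Nat.card G).factorization 2 :=
            Nat.pow_le_pow_right (by norm_num) (Nat.one_le_iff_ne_zero.2 hne)
      omega
    have h5 : 0 < (Nat.card G).factorization 2 :=
      Nat.Prime.factorization_pos_of_dvd Nat.prime_two Nat.card_pos.ne' h2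
    omega

/-- an element `y` of prime order `q` normalizing `P` with `|P| ≢ 1 (mod q)` centralizes some `x ≠ 1` of `P`. -/
theorem exists_fixed_of_normalizing (P : Subgroup G) (y : G)
    (hy : y ∈ normalizer (P : Set G)) {q : ℕ} [hq : Fact q.Prime] (hyq : orderOf y = q)
    (hP : ¬ Nat.card P ≡ 1 [MOD q]) : ∃ x ∈ P, x ≠ 1 ∧ y * x = x * y := by
  classical
  set y' : normalizer (P : Set G) := ⟨y, hy⟩ with hy'
  have hoy' : orderOf y' = q := by rw [← hyq, hy', Subgroup.orderOf_mk]
  have hZ : IsPGroup q (zpowers y') := by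
    refine IsPGroup.of_card (n := 1) ?_
    rw [Nat.card_zpowers, hoy', pow_one]
  have hmod := hZ.card_modEq_card_fixedPoints (α := P)
  by_contra hcon
  push Not at hcon
  apply hP
  refine hmod.trans ?_
  have hone : ∀ x : MulAction.fixedPoints (zpowers y') P, x = ⟨1, fun z => smul_one z⟩ := by
    intro x
    by_contra hne
    have hx1 : ((x : P) : G) ≠ 1 := by
      intro h
      apply hne
      apply Subtype.ext
      apply Subtype.ext
      exact h
    have hfix := x.2 ⟨y', mem_zpowers y'⟩
    have hfix' : y * ((x : P) : G) * y⁻¹ = ((x : P) : G) := by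
      have := congrArg (fun z : P => (z : G)) hfix
      exact this
    refine hcon _ (x : P).2 hx1 ?_
    calc y * ((x : P) : G) = y * ((x : P) : G) * y⁻¹ * y := by group
      _ = ((x : P) : G) * y := by rw [hfix']
  have hcard : Nat.card (MulAction.fixedPoints (zpowers y') P) = 1 := by
    rw [Nat.card_eq_one_iff_unique]
    exact ⟨⟨fun a b => (hone a).trans (hone b).symm⟩, ⟨⟨1, fun z => smul_one z⟩⟩⟩
  rw [hcard]

end Cfsg.Agent.Lib.H18.O983
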