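import Mathlib
import Cfsg.Agent.Lib.H5.Ord.GenTests3
import Cfsg.Agent.Lib.H18.O983Tools

set_option autoImplicit false

/-! # No simple group of order 4760 = 2^3·5·7·17 (helper18, S0983 filler)
`n_17 = 35`, `|N(P_17)| = 136`; `|C(P_17)| ∈ {34, 68}` die by the fixed-point test, so `C(P_17) = P_17` and a Sylow
2-subgroup of `N(P_17)` (order 8) embeds in `Aut(Z_17)`: cyclic Sylow 2. -/

namespace Cfsg.Agent.Lib.H18.O983

open Subgroup MulAction Cfsg.Agent.Lib.H5 Cfsg.Agent.Lib.H5.SylPrime Cfsg.Agent.Lib.H5.GenTests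

theorem not_simple_4760 {G : Type*} [Group G] [Finite G] [IsSimpleGroup G] : Nat.card G ≠ 4760 := by
  intro hn
  have hnc : ¬ IsMulCommutative G :=
    not_isMulCommutative_of_card_not_prime (by rw [hn]; norm_num)
  haveI : Fact (Nat.Prime 17) := ⟨by norm_num⟩
  let P : Sylow 17 G := default
  obtain ⟨h1, h2, h3, -, h5, h6, h7, h8, hP, hNd, -, -, hcr, hfp⟩ :=
    prime_data_explicit hnc hn (p := 17) (m := 280) (by norm_num) (by norm_num) (by norm_num) P
  have hd : Nat.card (Sylow 17 G) = 35 := by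
    have hmem : Nat.card (Sylow 17 G) ∈ (Nat.divisors 280).filter (fun d => d % 17 = 1) := by
      rw [Finset.mem_filter, Nat.mem_divisors]
      exact ⟨⟨h1, by norm_num⟩, h2⟩
    have hfil : (Nat.divisors 280).filter (fun d => d % 17 = 1) = {1, 35} := by decide
    rw [hfil] at hmem
    simp only [Finset.mem_insert, Finset.mem_singleton] at hmem
    rcases hmem with h | h
    · exact absurd h h3
    · exact h
  rw [hd] at h7 hNd hfp
  obtain ⟨r, hr⟩ : ∃ r : ℕ, r = (centralizer ((P : Subgroup G) : Set G)).relIndex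
      (normalizer ((P : Subgroup G) : Set G)) := ⟨_, rfl⟩
  obtain ⟨c, hc⟩ : ∃ c : ℕ, c = Nat.card (centralizer ((P : Subgroup G) : Set G)) := ⟨_, rfl⟩
  rw [← hr] at h5 h6 h7 hcr
  rw [← hc] at h7 h8 hcr hfp
  have hr16 : r ≤ 16 := Nat.le_of_dvd (by norm_num) h5
  have hc17 : c = 17 := by
    by_contra hne
    have h2c : 2 ∣ c := by
      interval_cases r <;> omega
    obtain ⟨f, hf1, hf2, hf3, hf4⟩ := hfp 2 Nat.prime_two h2c
    have hf4' := hf4 rfl
    omega
  have hN : Nat.card (normalizer ((P : Subgroup G) : Set G)) = 2 ^ 3 * 17 := by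
    rw [hc17] at h7 hcr
    omega
  obtain ⟨Q, hQ⟩ := cyclic_sylow_two_of_normalizer' (P : Subgroup G) hP (by rw [← hc, hc17]; norm_num)
    (k := 3) (m := 595) (by rw [hn]; norm_num) (by norm_num) hN (by norm_num)
  exact false_of_cyclic_sylow_two Q hQ (by rw [hn]; norm_num)
    (fun k => by
      rw [hn]
      exact ne_two_pow_of_prime_dvd (by norm_num : Nat.Prime 5) (by norm_num) (by norm_num) k)

end Cfsg.Agent.Lib.H18.O983
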