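import Mathlib
import Cfsg.Agent.Lib.H5.Ord.GenTests3
import Cfsg.Agent.Lib.H5.Ord.BigNorm

set_option autoImplicit false

/-! # No simple group of order 5292 (helper18, S0983 filler): `n_7 ≢ 1 (mod 7²)` + S0985 numerics -/

namespace Cfsg.Agent.Lib.H18.O983

open Subgroup MulAction Cfsg.Agent.Lib.H5 Cfsg.Agent.Lib.H5.SylPrime Cfsg.Agent.Lib.H5.GenTests
  Cfsg.Agent.Lib.H5.BigNorm

theorem not_simple_5292 {G : Type*} [Group G] [Finite G] [IsSimpleGroup G] : Nat.card G ≠ 5292 := by
  intro hn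
  have hnc : ¬ IsMulCommutative G :=
    not_isMulCommutative_of_card_not_prime (by rw [hn]; norm_num)
  have : Fact (Nat.Prime 7) := ⟨by norm_num⟩
  obtain ⟨h1, h2, h3, h4, -⟩ := sylow_data hnc hn (p := 7) (k := 2) (m := 108) (by norm_num)
    (by norm_num) (by norm_num) (by norm_num) (default : Sylow 7 G)
  have hmod : ¬ Nat.card (Sylow 7 G) ≡ 1 [MOD 7 ^ 2] := by
    have hle : Nat.card (Sylow 7 G) ≤ 108 := Nat.le_of_dvd (by norm_num) h1
    generalize Nat.card (Sylow 7 G) = d at *
    intro hmod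
    have hmod' : d % (7 ^ 2) = 1 := hmod
    clear h4 hmod
    interval_cases d <;> omega
  obtain ⟨j, d', hj, hd', hd'2, hd'1, hjm, hfac⟩ :=
    exists_numeric_of_not_modEq hnc hn (p := 7) (k := 2) (m := 108) (by norm_num) (by norm_num)
      (by norm_num) hmod
  have hjle : j ≤ 108 := Nat.le_of_dvd (by norm_num) hj
  interval_cases j <;> first | omega | (revert hfac; decide) | skip
  all_goals
    have := Nat.le_of_dvd (by norm_num) hd'
    interval_cases d' <;> omega

end Cfsg.Agent.Lib.H18.O983
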