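import Mathlib
import Cfsg.Agent.Lib.H5.Ord.GenTests3
import Cfsg.Agent.Lib.H5.OrderCount
import Cfsg.Agent.Lib.H15.O983Tools
import Cfsg.Agent.Lib.H28.J1OrdTools
import Cfsg.Agent.Lib.H18.O983Tools
import Cfsg.Agent.Lib.H18.O983Klein
import Cfsg.Agent.Lib.H18.O983SylIn

set_option autoImplicit false

/-! # No simple group of order 5460 = 2^2·3·5·7·13 (helper18, S0983 filler)

Sylow data for `p = 13, 7, 5, 3` (counting, `N/C`, fixed-point tests) leave
`n_13 = 105`, `|N(P_13)| = 52`, `|C(P_13)| ∈ {26, 13}`; `(n_7, |C(P_7)|) ∈ {(78,35), (260,7)}`;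
`(n_5, |C(P_5)|) ∈ {(91,30), (91,15), (546,5)}`; `(n_3, |C(P_3)|) ∈ {(70,39), (91,30), (130,21), (910,3)}`.
`|C| = 13` resp. `15` would give a cyclic Sylow 2-subgroup (order 4 embedded in `Aut Z_p`).
If `|C(P_5)| = 30` then an involution centralizes `P_5`, another one centralizes `P_13`; all involutions being
conjugate (Klein four Sylow 2, S0992) `260 ∣ |C(u)|`, so `|C(u)| = 260` (index `21`), `P_13 ⊴ C(u)`, `C(u) ≤ N(P_13)`
of order `52`: absurd.  So `n_5 = 546`, `|C(P_5)| = 5`; cross-prime symmetry then gives `n_7 = 260`, `n_3 = 910`,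
and `910·2 + 546·4 + 260·6 + 105·12 > 5460`. -/

namespace Cfsg.Agent.Lib.H18.O983

open Subgroup MulAction Cfsg.Agent.Lib.H5 Cfsg.Agent.Lib.H5.SylPrime Cfsg.Agent.Lib.H5.GenTests

section

variable {G : Type*} [Group G] [Finite G] [IsSimpleGroup G]

/-- the centralizer of a nontrivial element of a nonabelian simple group is proper. -/
theorem centralizer_singleton_ne_top (hnc : ¬ IsMulCommutative G) {a : G} (ha : a ≠ 1) :
    centralizer ({a} : Set G) ≠ ⊤ := by
  intro htop
  have hac : a ∈ center G := by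
    rw [mem_center_iff]
    intro g
    have hg : g ∈ centralizer ({a} : Set G) := htop ▸ mem_top g
    rw [mem_centralizer_singleton_iff] at hg
    exact hg
  rcases (inferInstance : (center G).Normal).eq_bot_or_eq_top with h | h
  · rw [h, mem_bot] at hac
    exact ha hac
  · apply hnc
    refine ⟨⟨fun x y => ?_⟩⟩
    have hx : x ∈ center G := h ▸ mem_top x
    exact (mem_center_iff.1 hx y).symm

/-- packaged Sylow data for a prime `p` with `p ∥ 5460`. -/
theorem pdata_5460 (hnc : ¬ IsMulCommutative G) (hn : Nat.card G = 5460) {p m : ℕ} [Fact p.Prime]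
    (hnk : 5460 = p * m) (hpm : ¬ p ∣ m) (hm : m ≠ 1) (P : Sylow p G) :
    ∃ d r c N : ℕ, d = Nat.card (Sylow p G) ∧
      c = Nat.card (centralizer ((P : Subgroup G) : Set G)) ∧
      N = Nat.card (normalizer ((P : Subgroup G) : Set G)) ∧
      Nat.card (P : Subgroup G) = p ∧ d ∈ (Nat.divisors m).filter (fun d => d % p = 1) ∧ d ≠ 1 ∧
      0 < r ∧ r ≤ p - 1 ∧ r ∣ p - 1 ∧ r ≠ 1 ∧ c * r * d = 5460 ∧ p ∣ c ∧ N * d = 5460 ∧ c * r = N ∧
      ∀ q : ℕ, q.Prime → q ∣ c →
        ∃ f : ℕ, f % p = 1 ∧ f % q = d % q ∧ f < d ∧ (q = 2 → 4 ∣ d - f) := by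
  obtain ⟨h1, h2, h3, -, h5, h6, h7, h8, hP, hNd, -, -, hcr, hfp⟩ :=
    prime_data_explicit hnc hn (p := p) (m := m) hnk hpm hm P
  have hp : p.Prime := Fact.out
  have hm0 : m ≠ 0 := fun h => hpm (h ▸ dvd_zero p)
  have hp1 : 0 < p - 1 := by have := hp.two_le; omega
  refine ⟨_, _, _, _, rfl, rfl, rfl, hP, ?_, h3, Nat.pos_of_dvd_of_pos h5 hp1, Nat.le_of_dvd hp1 h5,
    h5, h6, h7, h8, hNd, hcr, hfp⟩
  rw [Finset.mem_filter, Nat.mem_divisors]
  exact ⟨⟨h1, hm0⟩, h2⟩

theorem data13_5460 [Fact (Nat.Prime 13)] (hnc : ¬ IsMulCommutative G) (hn : Nat.card G = 5460)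
    (P : Sylow 13 G) :
    Nat.card (P : Subgroup G) = 13 ∧ Nat.card (Sylow 13 G) = 105 ∧
      Nat.card (normalizer ((P : Subgroup G) : Set G)) = 52 ∧
      (Nat.card (centralizer ((P : Subgroup G) : Set G)) = 26 ∨
        Nat.card (centralizer ((P : Subgroup G) : Set G)) = 13) := by
  obtain ⟨d, r, c, N, hd, hc, hN, hP, hmem, h3, hr0, hr, h5, h6, h7, h8, hNd, hcr, hfp⟩ :=
    pdata_5460 hnc hn (p := 13) (m := 420) (by norm_num) (by norm_num) (by norm_num) P
  rw [← hd, ← hc, ← hN]
  have hfil : (Nat.divisors 420).filter (fun d => d % 13 = 1) = {1, 14, 105} := by decide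
  rw [hfil] at hmem
  simp only [Finset.mem_insert, Finset.mem_singleton] at hmem
  have hr' : r ≤ 12 := hr
  refine ⟨hP, ?_⟩
  rcases hmem with h | h | h
  · exact absurd h h3
  · exfalso
    subst h
    have h5c : 5 ∣ c := by interval_cases r <;> omega
    obtain ⟨f, hf1, hf2, hf3, -⟩ := hfp 5 (by norm_num) h5c
    omega
  · subst h
    refine ⟨rfl, ?_, ?_⟩ <;> interval_cases r <;> omega

theorem data7_5460 [Fact (Nat.Prime 7)] (hnc : ¬ IsMulCommutative G) (hn : Nat.card G = 5460)
    (P : Sylow 7 G) :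
    Nat.card (P : Subgroup G) = 7 ∧
      ((Nat.card (Sylow 7 G) = 78 ∧ Nat.card (centralizer ((P : Subgroup G) : Set G)) = 35) ∨
        (Nat.card (Sylow 7 G) = 260 ∧ Nat.card (centralizer ((P : Subgroup G) : Set G)) = 7)) := by
  obtain ⟨d, r, c, N, hd, hc, hN, hP, hmem, h3, hr0, hr, h5, h6, h7, h8, hNd, hcr, hfp⟩ :=
    pdata_5460 hnc hn (p := 7) (m := 780) (by norm_num) (by norm_num) (by norm_num) P
  rw [← hd, ← hc]
  have hfil : (Nat.divisors 780).filter (fun d => d % 7 = 1) = {1, 15, 78, 260} := by decide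
  rw [hfil] at hmem
  simp only [Finset.mem_insert, Finset.mem_singleton] at hmem
  have hr' : r ≤ 6 := hr
  refine ⟨hP, ?_⟩
  rcases hmem with h | h | h | h
  · exact absurd h h3
  · exfalso
    subst h
    have h13c : 13 ∣ c := by interval_cases r <;> omega
    obtain ⟨f, hf1, hf2, hf3, -⟩ := hfp 13 (by norm_num) h13c
    omega
  · subst h
    left
    refine ⟨rfl, ?_⟩
    interval_cases r <;> omega
  · subst h
    right
    refine ⟨rfl, ?_⟩
    interval_cases r <;> omega

theorem data5_5460 [Fact (Nat.Prime 5)] (hnc : ¬ IsMulCommutative G) (hn : Nat.card G = 5460)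
    (P : Sylow 5 G) :
    Nat.card (P : Subgroup G) = 5 ∧
      ((Nat.card (Sylow 5 G) = 91 ∧ Nat.card (normalizer ((P : Subgroup G) : Set G)) = 60 ∧
          (Nat.card (centralizer ((P : Subgroup G) : Set G)) = 30 ∨
            Nat.card (centralizer ((P : Subgroup G) : Set G)) = 15)) ∨
        (Nat.card (Sylow 5 G) = 546 ∧ Nat.card (centralizer ((P : Subgroup G) : Set G)) = 5)) := by
  obtain ⟨d, r, c, N, hd, hc, hN, hP, hmem, h3, hr0, hr, h5, h6, h7, h8, hNd, hcr, hfp⟩ :=
    pdata_5460 hnc hn (p := 5) (m := 1092) (by norm_num) (by norm_num) (by norm_num) P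
  rw [← hd, ← hc, ← hN]
  have hfil : (Nat.divisors 1092).filter (fun d => d % 5 = 1) = {1, 6, 21, 26, 91, 156, 546} := by
    set_option maxRecDepth 100000 in decide
  rw [hfil] at hmem
  simp only [Finset.mem_insert, Finset.mem_singleton] at hmem
  have hr' : r ≤ 4 := hr
  refine ⟨hP, ?_⟩
  rcases hmem with h | h | h | h | h | h | h
  · exact absurd h h3
  · exfalso
    subst h
    have h7c : 7 ∣ c := by interval_cases r <;> omega
    obtain ⟨f, hf1, hf2, hf3, -⟩ := hfp 7 (by norm_num) h7c
    omega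
  · exfalso
    subst h
    have h13c : 13 ∣ c := by interval_cases r <;> omega
    obtain ⟨f, hf1, hf2, hf3, -⟩ := hfp 13 (by norm_num) h13c
    omega
  · exfalso
    subst h
    have h7c : 7 ∣ c := by interval_cases r <;> omega
    obtain ⟨f, hf1, hf2, hf3, -⟩ := hfp 7 (by norm_num) h7c
    omega
  · subst h
    left
    refine ⟨rfl, ?_, ?_⟩ <;> interval_cases r <;> omega
  · exfalso
    subst h
    interval_cases r <;> omega
  · subst h
    right
    refine ⟨rfl, ?_⟩
    interval_cases r <;> omega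

theorem data3_5460 [Fact (Nat.Prime 3)] (hnc : ¬ IsMulCommutative G) (hn : Nat.card G = 5460)
    (P : Sylow 3 G) :
    Nat.card (P : Subgroup G) = 3 ∧
      ((Nat.card (Sylow 3 G) = 70 ∧ Nat.card (centralizer ((P : Subgroup G) : Set G)) = 39) ∨
        (Nat.card (Sylow 3 G) = 91 ∧ Nat.card (centralizer ((P : Subgroup G) : Set G)) = 30) ∨
        (Nat.card (Sylow 3 G) = 130 ∧ Nat.card (centralizer ((P : Subgroup G) : Set G)) = 21) ∨
        (Nat.card (Sylow 3 G) = 910 ∧ Nat.card (centralizer ((P : Subgroup G) : Set G)) = 3)) := by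
  obtain ⟨d, r, c, N, hd, hc, hN, hP, hmem, h3, hr0, hr, h5, h6, h7, h8, hNd, hcr, hfp⟩ :=
    pdata_5460 hnc hn (p := 3) (m := 1820) (by norm_num) (by norm_num) (by norm_num) P
  rw [← hd, ← hc]
  have hfil : (Nat.divisors 1820).filter (fun d => d % 3 = 1) =
      {1, 4, 7, 10, 13, 28, 52, 70, 91, 130, 364, 910} := by
    set_option maxRecDepth 100000 in decide
  rw [hfil] at hmem
  simp only [Finset.mem_insert, Finset.mem_singleton] at hmem
  have hr' : r ≤ 2 := hr
  have hr2 : r = 2 := by omega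
  subst hr2
  refine ⟨hP, ?_⟩
  rcases hmem with h | h | h | h | h | h | h | h | h | h | h | h
  · exact absurd h h3
  · exfalso; subst h; omega
  · exfalso
    subst h
    have h5c : 5 ∣ c := by omega
    obtain ⟨f, hf1, hf2, hf3, -⟩ := hfp 5 (by norm_num) h5c
    omega
  · exfalso
    subst h
    have h7c : 7 ∣ c := by omega
    obtain ⟨f, hf1, hf2, hf3, -⟩ := hfp 7 (by norm_num) h7c
    omega
  · exfalso
    subst h
    have h5c : 5 ∣ c := by omega
    obtain ⟨f, hf1, hf2, hf3, -⟩ := hfp 5 (by norm_num) h5c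
    omega
  · exfalso; subst h; omega
  · exfalso; subst h; omega
  · subst h; left; exact ⟨rfl, by omega⟩
  · subst h; right; left; exact ⟨rfl, by omega⟩
  · subst h; right; right; left; exact ⟨rfl, by omega⟩
  · exfalso; subst h; omega
  · subst h; right; right; right; exact ⟨rfl, by omega⟩

theorem not_simple_5460 : Nat.card G ≠ 5460 := by
  intro hn
  have hnc : ¬ IsMulCommutative G :=
    not_isMulCommutative_of_card_not_prime (by rw [hn]; norm_num)
  haveI : Fact (Nat.Prime 13) := ⟨by norm_num⟩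
  haveI : Fact (Nat.Prime 7) := ⟨by norm_num⟩
  haveI : Fact (Nat.Prime 5) := ⟨by norm_num⟩
  haveI : Fact (Nat.Prime 3) := ⟨by norm_num⟩
  haveI : Fact (Nat.Prime 2) := ⟨Nat.prime_two⟩
  have h2 : Even (Nat.card G) := by rw [hn]; exact ⟨2730, rfl⟩
  have h8 : ¬ 8 ∣ Nat.card G := by rw [hn]; norm_num
  have hnp : ∀ k : ℕ, Nat.card G ≠ 2 ^ k := fun k => by
    rw [hn]
    exact ne_two_pow_of_prime_dvd (by norm_num : Nat.Prime 5) (by norm_num) (by norm_num) k
  have h2d : 2 ∣ Nat.card G := by rw [hn]; norm_num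
  let P13 : Sylow 13 G := default
  let P7 : Sylow 7 G := default
  let P5 : Sylow 5 G := default
  let P3 : Sylow 3 G := default
  obtain ⟨hP13, hn13, hN13, hC13⟩ := data13_5460 hnc hn P13
  -- step 1: `|C(P13)| = 26`
  have hC13' : Nat.card (centralizer ((P13 : Subgroup G) : Set G)) = 26 := by
    rcases hC13 with h | h
    · exact h
    · exfalso
      obtain ⟨Q, hQ⟩ := cyclic_sylow_two_of_normalizer' (P13 : Subgroup G) hP13
        (by rw [h]; norm_num) (k := 2) (m := 1365) (by rw [hn]; norm_num) (by norm_num) (m' := 13)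
        (by rw [hN13]; norm_num) (by norm_num)
      exact false_of_cyclic_sylow_two Q hQ h2d hnp
  -- step 2: `n_5 = 546`
  obtain ⟨hP5, hd5⟩ := data5_5460 hnc hn P5
  have h5 : Nat.card (Sylow 5 G) = 546 ∧
      Nat.card (centralizer ((P5 : Subgroup G) : Set G)) = 5 := by
    rcases hd5 with ⟨-, hN5, hc5⟩ | h
    · exfalso
      rcases hc5 with hc | hc
      · -- `|C(P5)| = 30`
        obtain ⟨u, hu, huC⟩ := Cfsg.Agent.Lib.H15.O983.exists_orderOf_eq_in_centralizer 2
          (P5 : Subgroup G) (by rw [hc]; norm_num)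
        obtain ⟨u', hu', hu'C⟩ := Cfsg.Agent.Lib.H15.O983.exists_orderOf_eq_in_centralizer 2
          (P13 : Subgroup G) (by rw [hC13']; norm_num)
        have hcard := card_centralizer_eq_of_conj (involutions_conj hnc h2 h8 hu hu')
        have h5le : (P5 : Subgroup G) ≤ centralizer ({u} : Set G) := by
          intro x hx
          rw [mem_centralizer_singleton_iff]
          exact (mem_centralizer_iff.1 huC) x hx
        have h13le : (P13 : Subgroup G) ≤ centralizer ({u'} : Set G) := by
          intro x hx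
          rw [mem_centralizer_singleton_iff]
          exact (mem_centralizer_iff.1 hu'C) x hx
        have h5d : 5 ∣ Nat.card (centralizer ({u'} : Set G)) := by
          rw [← hcard, ← hP5]
          exact Subgroup.card_dvd_of_le h5le
        have h13d : 13 ∣ Nat.card (centralizer ({u'} : Set G)) := by
          rw [← hP13]
          exact Subgroup.card_dvd_of_le h13le
        have h4d := four_dvd_card_centralizer hnc h2 h8 hu'
        have h20d : 20 ∣ Nat.card (centralizer ({u'} : Set G)) :=
          Nat.Coprime.mul_dvd_of_dvd_of_dvd (by norm_num : Nat.Coprime 4 5) h4d h5d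
        have h260d : 260 ∣ Nat.card (centralizer ({u'} : Set G)) :=
          Nat.Coprime.mul_dvd_of_dvd_of_dvd (by norm_num : Nat.Coprime 20 13) h20d h13d
        have hu'1 : u' ≠ 1 := by
          intro h
          rw [h, orderOf_one] at hu'
          omega
        have hne := centralizer_singleton_ne_top hnc hu'1
        have hfac := two_mul_card_dvd_factorial_index hnc _ hne
        have hidx := (centralizer ({u'} : Set G)).card_mul_index
        have hi1 : (centralizer ({u'} : Set G)).index ≠ 1 := fun h => hne (index_eq_one.1 h)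
        obtain ⟨i, hi⟩ : ∃ i : ℕ, i = (centralizer ({u'} : Set G)).index := ⟨_, rfl⟩
        obtain ⟨k, hk⟩ := h260d
        rw [← hi, hn] at hfac hidx
        rw [← hi] at hi1
        have hki : k * i = 21 := by
          rw [hk] at hidx
          have : 260 * (k * i) = 260 * 21 := by rw [← mul_assoc]; exact hidx
          exact Nat.eq_of_mul_eq_mul_left (by norm_num) this
        have hid : i ∣ 21 := Dvd.intro_left k hki
        have hile : i ≤ 21 := Nat.le_of_dvd (by norm_num) hid
        have hcases : i = 1 ∨ i = 3 ∨ i = 7 ∨ i = 21 := by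
          interval_cases i <;> omega
        have h260 : Nat.card (centralizer ({u'} : Set G)) = 260 := by
          rcases hcases with h | h | h | h
          · exact absurd h hi1
          · rw [h] at hfac
            exact absurd hfac (by decide)
          · rw [h] at hfac
            exact absurd hfac (by decide)
          · rw [h] at hidx
            omega
        have hle := le_normalizer_of_sylow_unique (centralizer ({u'} : Set G)) (P13 : Subgroup G)
          (p := 13) h13le hP13 (by rw [h260]; norm_num)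
          (by
            rw [h260]
            intro d hd hd1
            have hd20 : d ≤ 20 := Nat.le_of_dvd (by norm_num) hd
            have hd' : d ∣ 20 := hd
            interval_cases d <;> omega)
        have := Subgroup.card_dvd_of_le hle
        rw [h260, hN13] at this
        omega
      · -- `|C(P5)| = 15`
        obtain ⟨Q, hQ⟩ := cyclic_sylow_two_of_normalizer' (P5 : Subgroup G) hP5
          (by rw [hc]; norm_num) (k := 2) (m := 1365) (by rw [hn]; norm_num) (by norm_num) (m' := 15)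
          (by rw [hN5]; norm_num) (by norm_num)
        exact false_of_cyclic_sylow_two Q hQ h2d hnp
    · exact h
  obtain ⟨hn5, hC5⟩ := h5
  -- step 3: `n_7 = 260`
  obtain ⟨hP7, hd7⟩ := data7_5460 hnc hn P7
  have h7 : Nat.card (Sylow 7 G) = 260 ∧
      Nat.card (centralizer ((P7 : Subgroup G) : Set G)) = 7 := by
    rcases hd7 with ⟨-, hc⟩ | h
    · exfalso
      have := Cfsg.Agent.Lib.H28.J1Ord.dvd_card_centralizer_symm P7 P5 hP5 (by rw [hc]; norm_num)
      rw [hP7, hC5] at this
      omega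
    · exact h
  obtain ⟨hn7, hC7⟩ := h7
  -- step 4: `n_3 = 910`
  obtain ⟨hP3, hd3⟩ := data3_5460 hnc hn P3
  have hn3 : Nat.card (Sylow 3 G) = 910 := by
    rcases hd3 with ⟨-, hc⟩ | ⟨-, hc⟩ | ⟨-, hc⟩ | ⟨h, -⟩
    · exfalso
      have := Cfsg.Agent.Lib.H28.J1Ord.dvd_card_centralizer_symm P3 P13 hP13 (by rw [hc]; norm_num)
      rw [hP3, hC13'] at this
      omega
    · exfalso
      have := Cfsg.Agent.Lib.H28.J1Ord.dvd_card_centralizer_symm P3 P5 hP5 (by rw [hc]; norm_num)
      rw [hP3, hC5] at this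
      omega
    · exfalso
      have := Cfsg.Agent.Lib.H28.J1Ord.dvd_card_centralizer_symm P3 P7 hP7 (by rw [hc]; norm_num)
      rw [hP3, hC7] at this
      omega
    · exact h
  -- counting
  have c3 := card_orderOf_eq_prime (G := G) (p := 3) (fun Q => (data3_5460 hnc hn Q).1)
  have c5 := card_orderOf_eq_prime (G := G) (p := 5) (fun Q => (data5_5460 hnc hn Q).1)
  have c7 := card_orderOf_eq_prime (G := G) (p := 7) (fun Q => (data7_5460 hnc hn Q).1)
  have c13 := card_orderOf_eq_prime (G := G) (p := 13) (fun Q => (data13_5460 hnc hn Q).1)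
  have hsum := Cfsg.Agent.Lib.H28.J1Ord.sum_card_orderOf_le (G := G) [3, 5, 7, 13] (by decide)
  simp only [List.map_cons, List.map_nil, List.sum_cons, List.sum_nil] at hsum
  rw [c3, c5, c7, c13, hn3, hn5, hn7, hn13, hn] at hsum
  omega

end

end Cfsg.Agent.Lib.H18.O983
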