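import Mathlib
import Cfsg.Agent.Lib.H5.Ord.GenTests3
import Cfsg.Agent.Lib.H18.O983Tools
import Cfsg.Agent.S0904

set_option autoImplicit false

/-! # No simple group of order 6000 = 2^4·3·5^3 (helper18, S0983 filler)
`n_5 = 16`, `|N(P_5)| = 375`; an element `y` of order 3 of `N(P_5)` fixes some `x ≠ 1` of `P_5` (`125 ≢ 1 mod 3`);
but `C(P_3) = P_3 = ⟨y⟩` by S0904 (`6000 = 2^4·5^3·3`). -/

namespace Cfsg.Agent.Lib.H18.O983

open Subgroup MulAction Cfsg.Agent.Lib.H5 Cfsg.Agent.Lib.H5.SylPrime Cfsg.Agent.Lib.H5.GenTests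

theorem not_simple_6000 {G : Type*} [Group G] [Finite G] [IsSimpleGroup G] : Nat.card G ≠ 6000 := by
  intro hn
  have hnc : ¬ IsMulCommutative G :=
    not_isMulCommutative_of_card_not_prime (by rw [hn]; norm_num)
  haveI : Fact (Nat.Prime 5) := ⟨by norm_num⟩
  haveI : Fact (Nat.Prime 3) := ⟨by norm_num⟩
  let P : Sylow 5 G := default
  obtain ⟨h1, h2, h3, h4, hNd, hPc, -⟩ := sylow_data hnc hn (p := 5) (k := 3) (m := 48)
    (by norm_num) (by norm_num) (by norm_num) (by norm_num) P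
  have hd : Nat.card (Sylow 5 G) = 16 := by
    have hle : Nat.card (Sylow 5 G) ≤ 48 := Nat.le_of_dvd (by norm_num) h1
    generalize Nat.card (Sylow 5 G) = d at *
    clear hNd
    interval_cases d <;> first | omega | (revert h4; decide)
  rw [hd] at hNd
  have hN : Nat.card (normalizer ((P : Subgroup G) : Set G)) = 375 := by omega
  obtain ⟨y', hy'⟩ := exists_prime_orderOf_dvd_card'
    (G := normalizer ((P : Subgroup G) : Set G)) 3 (by rw [hN]; norm_num)
  have hoy : orderOf (y' : G) = 3 := by rw [Subgroup.orderOf_coe, hy']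
  obtain ⟨x, hxP, hx1, hxy⟩ := exists_fixed_of_normalizing (P : Subgroup G) (y' : G) y'.2 hoy
    (by rw [hPc]; decide)
  -- the Sylow 3-subgroup `⟨y⟩`
  have hfac : (6000 : ℕ).factorization 3 = 1 := by
    have h : (6000 : ℕ) = 3 ^ 1 * 2000 := by norm_num
    rw [h, Nat.factorization_mul (by norm_num) (by norm_num),
      Nat.Prime.factorization_pow (by norm_num)]
    simp [Nat.factorization_eq_zero_of_not_dvd]
  have hcardZ : Nat.card (zpowers (y' : G)) = 3 ^ (Nat.card G).factorization 3 := by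
    rw [Nat.card_zpowers, hoy, hn, hfac, pow_one]
  have hCS := Cfsg.Agent.S0904.result 2 5 3 4 3 Nat.prime_two (by norm_num) (by norm_num)
    (by norm_num) (by norm_num) (by rw [hn]; norm_num) (Sylow.ofCard (zpowers (y' : G)) hcardZ)
  rw [Sylow.coe_ofCard] at hCS
  have hxC : x ∈ centralizer ((zpowers (y' : G) : Subgroup G) : Set G) := by
    rw [mem_centralizer_iff]
    intro z hz
    obtain ⟨n, rfl⟩ := mem_zpowers_iff.1 hz
    exact ((Commute.zpow_left (show Commute (y' : G) x from hxy) n)).eq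
  have hxC' : x ∈ centralizer ((Sylow.ofCard (zpowers (y' : G)) hcardZ : Sylow 3 G) : Set G) := hxC
  rw [hCS] at hxC'
  have ho3 : orderOf x ∣ 3 := by
    have := Subgroup.orderOf_dvd_natCard _ hxC'
    rwa [Nat.card_zpowers, hoy] at this
  have ho125 : orderOf x ∣ 125 := by
    have := Subgroup.orderOf_dvd_natCard _ hxP
    rwa [hPc] at this
  have ho1 : orderOf x ∣ Nat.gcd 3 125 := Nat.dvd_gcd ho3 ho125
  have : orderOf x = 1 := by
    have h1' : Nat.gcd 3 125 = 1 := by norm_num
    rw [h1'] at ho1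
    exact Nat.dvd_one.1 ho1
  exact hx1 (orderOf_eq_one_iff.1 this)

end Cfsg.Agent.Lib.H18.O983
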