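/-
S2345 (minimal degree of Ω⁺_{2n}(q); architect helper12, tools/blueprints/S2345.md), piece **COUNT-FIB**:
the first-row fibration of the alternating matrices of rank two.
-/
import Mathlib
import Cfsg.Agent.Lib.H12.OPMinDefs

set_option autoImplicit false

namespace Cfsg.Agent.Lib.H18.OPMin

open Matrix Cfsg.Agent.Lib.H12.OPMin

section

variable {F : Type*} [Field F]

/-- `a ∧ b = a bᵀ - b aᵀ` -/
def wedge {n : ℕ} (a b : Fin n → F) : Matrix (Fin n) (Fin n) F := vecMulVec a b - vecMulVec b a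

theorem wedge_apply {n : ℕ} (a b : Fin n → F) (i j : Fin n) : wedge a b i j = a i * b j - b i * a j := by
  unfold wedge
  rw [Matrix.sub_apply, vecMulVec_apply, vecMulVec_apply]

theorem wedge_mem {n : ℕ} (a b : Fin n → F) : wedge a b ∈ Alt n F := by
  refine mem_Alt.2 ⟨vecMulVec a b, ?_⟩
  rw [transpose_vecMulVec]
  rfl

theorem isR2_iff {n : ℕ} (T : Matrix (Fin n) (Fin n) F) : IsR2 T ↔ T ≠ 0 ∧ ∃ a b, T = wedge a b := Iff.rfl

/-- a general fibre-counting lemma -/
theorem card_mul_of_fibres {α β : Type*} [Finite α] [Finite β] (f : α → β) (q : ℕ)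
    (hf : ∀ b : β, Nat.card {a // f a = b} = q) : Nat.card β * q = Nat.card α := by
  classical
  have := Fintype.ofFinite α
  have := Fintype.ofFinite β
  rw [Nat.card_congr (Equiv.sigmaFiberEquiv f).symm, Nat.card_sigma]
  simp only [hf]
  rw [Finset.sum_const, Finset.card_univ, smul_eq_mul, Nat.card_eq_fintype_card]

/-- the matrix with first row `(0, r)` and lower block `a' ∧ r` -/
def fib {k : ℕ} (r a' : Fin k → F) : Matrix (Fin (k + 1)) (Fin (k + 1)) F :=
  wedge (Fin.cons 1 a') (Fin.cons 0 r)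

theorem fib_mem {k : ℕ} (r a' : Fin k → F) : fib r a' ∈ Alt (k + 1) F := wedge_mem _ _

theorem fib_zero_succ {k : ℕ} (r a' : Fin k → F) (j : Fin k) : fib r a' 0 j.succ = r j := by
  unfold fib
  rw [wedge_apply]
  simp

theorem fib_succ_succ {k : ℕ} (r a' : Fin k → F) (i j : Fin k) :
    fib r a' i.succ j.succ = a' i * r j - r i * a' j := by
  unfold fib
  rw [wedge_apply]
  simp

/-- two alternating matrices with the same first row and the same lower block are equal -/
theorem alt_ext {k : ℕ} {T T' : Matrix (Fin (k + 1)) (Fin (k + 1)) F} (hT : T ∈ Alt (k + 1) F)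
    (hT' : T' ∈ Alt (k + 1) F) (h0 : ∀ j : Fin k, T 0 j.succ = T' 0 j.succ)
    (h1 : ∀ i j : Fin k, T i.succ j.succ = T' i.succ j.succ) : T = T' := by
  ext i j
  refine Fin.cases ?_ (fun i' => ?_) i
  · refine Fin.cases ?_ (fun j' => ?_) j
    · rw [diag_of_mem hT, diag_of_mem hT']
    · exact h0 j'
  · refine Fin.cases ?_ (fun j' => ?_) j
    · rw [apply_swap_of_mem hT 0 i'.succ, apply_swap_of_mem hT' 0 i'.succ, h0]
    · exact h1 i' j'

theorem fib_ne_zero {k : ℕ} {r : Fin k → F} (hr : r ≠ 0) (a' : Fin k → F) : fib r a' ≠ 0 := by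
  intro h
  apply hr
  ext j
  rw [← fib_zero_succ r a' j, h]
  rfl

theorem isR2_fib {k : ℕ} {r : Fin k → F} (hr : r ≠ 0) (a' : Fin k → F) : IsR2 (fib r a') :=
  ⟨fib_ne_zero hr a', _, _, rfl⟩

/-- every rank-two matrix with first row `(0, r)`, `r ≠ 0`, is a `fib r a'` -/
theorem exists_fib {k : ℕ} {r : Fin k → F} (hr : r ≠ 0) {T : Matrix (Fin (k + 1)) (Fin (k + 1)) F}
    (hT : IsR2 T) (hrow : ∀ j : Fin k, T 0 j.succ = r j) : ∃ a' : Fin k → F, T = fib r a' := by
  obtain ⟨-, a, b, hab⟩ := hT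
  have hTalt : T ∈ Alt (k + 1) F := by rw [hab]; exact wedge_mem a b
  have hr' : ∀ j : Fin k, a 0 * b j.succ - b 0 * a j.succ = r j := by
    intro j
    rw [← hrow j, hab]
    exact (wedge_apply a b 0 j.succ).symm
  -- `x a₀ + y b₀ = 1`
  obtain ⟨x, y, hxy⟩ : ∃ x y : F, x * a 0 + y * b 0 = 1 := by
    by_cases ha : a 0 = 0
    · have hb : b 0 ≠ 0 := by
        intro hb
        apply hr
        ext j
        rw [← hr' j, ha, hb]
        simp
      exact ⟨0, (b 0)⁻¹, by rw [zero_mul, zero_add, inv_mul_cancel₀ hb]⟩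
    · exact ⟨(a 0)⁻¹, 0, by rw [zero_mul, add_zero, inv_mul_cancel₀ ha]⟩
  refine ⟨fun i => x * a i.succ + y * b i.succ, ?_⟩
  apply alt_ext hTalt (fib_mem _ _)
  · intro j
    rw [fib_zero_succ, hrow]
  · intro i j
    rw [fib_succ_succ, ← hr' i, ← hr' j, hab]
    have h1 := wedge_apply a b i.succ j.succ
    rw [show (vecMulVec a b - vecMulVec b a) = wedge a b from rfl, h1]
    linear_combination (-(a i.succ * b j.succ - b i.succ * a j.succ)) * hxy

theorem fib_add_smul {k : ℕ} (r a' : Fin k → F) (c : F) : fib r (a' + c • r) = fib r a' := by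
  apply alt_ext (fib_mem _ _) (fib_mem _ _)
  · intro j
    rw [fib_zero_succ, fib_zero_succ]
  · intro i j
    rw [fib_succ_succ, fib_succ_succ]
    simp only [Pi.add_apply, Pi.smul_apply, smul_eq_mul]
    ring

theorem eq_add_smul_of_fib_eq {k : ℕ} {r : Fin k → F} (hr : r ≠ 0) {a' a'' : Fin k → F}
    (h : fib r a' = fib r a'') : ∃ c : F, a' = a'' + c • r := by
  obtain ⟨j₀, hj₀⟩ : ∃ j₀, r j₀ ≠ 0 := by
    by_contra hall
    push Not at hall
    exact hr (funext hall)
  refine ⟨(a' j₀ - a'' j₀) / r j₀, ?_⟩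
  ext i
  have h1 := congrFun (congrFun h i.succ) j₀.succ
  rw [fib_succ_succ, fib_succ_succ] at h1
  simp only [Pi.add_apply, Pi.smul_apply, smul_eq_mul]
  field_simp
  linear_combination h1

/-- **COUNT-FIB**, the fibre over a non-zero first row -/
theorem card_R2_row [Fintype F] {k : ℕ} (r : Fin k → F) (hr : r ≠ 0) :
    Nat.card {T : Alt (k + 1) F // IsR2 T.1 ∧ ∀ j : Fin k, T.1 0 j.succ = r j} * Fintype.card F =
      Fintype.card F ^ k := by
  classical
  let Φ : (Fin k → F) → {T : Alt (k + 1) F // IsR2 T.1 ∧ ∀ j : Fin k, T.1 0 j.succ = r j} :=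
    fun a' => ⟨⟨fib r a', fib_mem r a'⟩, isR2_fib hr a', fib_zero_succ r a'⟩
  have hΦ : ∀ a' a'' : Fin k → F, Φ a' = Φ a'' ↔ fib r a' = fib r a'' := by
    intro a' a''
    constructor
    · intro h
      exact congrArg (fun T => T.1.1) h
    · intro h
      exact Subtype.ext (Subtype.ext h)
  have hfib : ∀ b, Nat.card {a' // Φ a' = b} = Fintype.card F := by
    intro b
    obtain ⟨a₀, ha₀⟩ := exists_fib hr b.2.1 b.2.2
    have hb : b = Φ a₀ := Subtype.ext (Subtype.ext ha₀)
    rw [← Nat.card_eq_fintype_card]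
    symm
    refine Nat.card_congr (Equiv.ofBijective
      (fun c : F => (⟨a₀ + c • r, by rw [hb, hΦ]; exact fib_add_smul r a₀ c⟩ : {a' // Φ a' = b})) ⟨?_, ?_⟩)
    · intro c c' hcc
      have h1 : a₀ + c • r = a₀ + c' • r := congrArg Subtype.val hcc
      have h2 : c • r = c' • r := add_left_cancel h1
      obtain ⟨j₀, hj₀⟩ : ∃ j₀, r j₀ ≠ 0 := by
        by_contra hall
        push Not at hall
        exact hr (funext hall)
      have h3 := congrFun h2 j₀
      simp only [Pi.smul_apply, smul_eq_mul] at h3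
      exact mul_right_cancel₀ hj₀ h3
    · rintro ⟨a', ha'⟩
      rw [hb, hΦ] at ha'
      obtain ⟨c, hc⟩ := eq_add_smul_of_fib_eq hr ha'
      exact ⟨c, Subtype.ext hc.symm⟩
  rw [card_mul_of_fibres Φ (Fintype.card F) hfib, Nat.card_eq_fintype_card, Fintype.card_fun,
    Fintype.card_fin]

theorem sub_mem {k : ℕ} {T : Matrix (Fin (k + 1)) (Fin (k + 1)) F} (hT : T ∈ Alt (k + 1) F) :
    T.submatrix Fin.succ Fin.succ ∈ Alt k F := by
  obtain ⟨M, rfl⟩ := mem_Alt.1 hT
  refine mem_Alt.2 ⟨M.submatrix Fin.succ Fin.succ, ?_⟩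
  ext i j
  simp

theorem sub_wedge {k : ℕ} (a b : Fin (k + 1) → F) :
    (wedge a b).submatrix Fin.succ Fin.succ = wedge (fun i => a i.succ) (fun i => b i.succ) := by
  ext i j
  rw [submatrix_apply, wedge_apply, wedge_apply]

theorem isR2_sub {k : ℕ} {T : Matrix (Fin (k + 1)) (Fin (k + 1)) F} (hT : IsR2 T)
    (hrow : ∀ j : Fin k, T 0 j.succ = 0) : IsR2 (T.submatrix Fin.succ Fin.succ) := by
  obtain ⟨hT0, a, b, hab⟩ := hT
  have hTalt : T ∈ Alt (k + 1) F := by rw [hab]; exact wedge_mem a b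
  refine ⟨?_, fun i => a i.succ, fun i => b i.succ, ?_⟩
  · intro h0
    apply hT0
    apply alt_ext hTalt (Alt (k + 1) F).zero_mem
    · intro j
      rw [hrow j]; rfl
    · intro i j
      have := congrFun (congrFun h0 i) j
      rw [submatrix_apply] at this
      rw [this]; rfl
  · rw [hab]
    exact sub_wedge a b

/-- **COUNT-FIB**, the fibre over the zero first row -/
theorem card_R2_row_zero [Fintype F] {k : ℕ} :
    Nat.card {T : Alt (k + 1) F // IsR2 T.1 ∧ ∀ j : Fin k, T.1 0 j.succ = 0} = r2 k F := by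
  classical
  have h1 : Nat.card {T' : Alt k F // IsR2 T'.1} = r2 k F := by
    rw [Nat.card_eq_fintype_card, Fintype.card_subtype]
    unfold r2 R2set
    congr 1
  rw [← h1]
  refine Nat.card_congr (Equiv.ofBijective
    (fun T : {T : Alt (k + 1) F // IsR2 T.1 ∧ ∀ j : Fin k, T.1 0 j.succ = 0} =>
      (⟨⟨T.1.1.submatrix Fin.succ Fin.succ, sub_mem T.1.2⟩, isR2_sub T.2.1 T.2.2⟩ :
        {T' : Alt k F // IsR2 T'.1})) ⟨?_, ?_⟩)
  · intro T T₂ h
    have h2 : T.1.1.submatrix Fin.succ Fin.succ = T₂.1.1.submatrix Fin.succ Fin.succ :=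
      congrArg (fun T' : {T' : Alt k F // IsR2 T'.1} => T'.1.1) h
    apply Subtype.ext
    apply Subtype.ext
    apply alt_ext T.1.2 T₂.1.2
    · intro j
      rw [T.2.2 j, T₂.2.2 j]
    · intro i j
      have := congrFun (congrFun h2 i) j
      rwa [submatrix_apply, submatrix_apply] at this
  · rintro ⟨T', hT'0, a', b', hab⟩
    have hsub : (wedge (Fin.cons 0 a' : Fin (k + 1) → F) (Fin.cons 0 b')).submatrix Fin.succ Fin.succ =
        T'.1 := by
      rw [sub_wedge, hab]
      simp only [Fin.cons_succ]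
      rfl
    have hrow : ∀ j : Fin k, wedge (Fin.cons 0 a' : Fin (k + 1) → F) (Fin.cons 0 b') 0 j.succ = 0 := by
      intro j
      rw [wedge_apply]
      simp
    have hne : wedge (Fin.cons 0 a' : Fin (k + 1) → F) (Fin.cons 0 b') ≠ 0 := by
      intro h0
      apply hT'0
      rw [← hsub, h0]
      rfl
    refine ⟨⟨⟨wedge (Fin.cons 0 a') (Fin.cons 0 b'), wedge_mem _ _⟩, ⟨hne, _, _, rfl⟩, hrow⟩, ?_⟩
    apply Subtype.ext
    apply Subtype.ext
    exact hsub

end

end Cfsg.Agent.Lib.H18.OPMin
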