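/-
S2345 (minimal degree of Ω⁺_{2n}(q); architect helper12, tools/blueprints/S2345.md), piece **TRANS**:
`SL_n` (`n ≥ 3`) is transitive on linearly independent pairs, hence on the alternating matrices of rank two.
-/
import Mathlib
import Cfsg.Agent.Lib.H12.OPMinDefs
import Cfsg.Agent.Lib.H18.SLMinTRANSV

set_option autoImplicit false

namespace Cfsg.Agent.Lib.H18.OPMin

open Matrix Module Cfsg.Agent.Lib.H12.OPMin

section

variable {F : Type*} [Field F] {n : ℕ}

/-- a separating functional, as a vector: if `v ∉ W` there is `b` with `b ⬝ v = 1` and `b ⬝ w = 0` on `W` -/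
theorem exists_dot_eq_one_of_notMem {W : Submodule F (Fin n → F)} {v : Fin n → F} (h : v ∉ W) :
    ∃ b : Fin n → F, b ⬝ᵥ v = 1 ∧ ∀ w ∈ W, b ⬝ᵥ w = 0 := by
  classical
  obtain ⟨f, hf, hf'⟩ := Submodule.exists_dual_map_eq_bot_of_notMem h inferInstance
  have hfw : ∀ w ∈ W, f w = 0 := by
    intro w hw
    have h1 : f w ∈ W.map f := Submodule.mem_map_of_mem hw
    rw [hf'] at h1
    exact (Submodule.mem_bot F).1 h1
  have hdot : ∀ x : Fin n → F, (fun i => (f v)⁻¹ * f (Pi.single i 1)) ⬝ᵥ x = (f v)⁻¹ * f x := by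
    intro x
    rw [LinearMap.pi_apply_eq_sum_univ f x, dotProduct, Finset.mul_sum]
    refine Finset.sum_congr rfl fun i _ => ?_
    have h2 : (fun j : Fin n => if i = j then (1 : F) else 0) = Pi.single i 1 := by
      ext j
      simp [Pi.single_apply, eq_comm]
    rw [h2, smul_eq_mul]
    ring
  refine ⟨fun i => (f v)⁻¹ * f (Pi.single i 1), ?_, ?_⟩
  · rw [hdot, inv_mul_cancel₀ hf]
  · intro w hw
    rw [hdot, hfw w hw, mul_zero]

/-- the transvection `1 + (v' - v) bᵀ` fixes `a` and moves `v` to `v'` when `v ∉ span {a, v' - v}` -/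
theorem exists_det_one_fix_of_notMem {a v v' : Fin n → F} (h : v ∉ Submodule.span F {a, v' - v}) :
    ∃ g : GL (Fin n) F, (g : Matrix (Fin n) (Fin n) F).det = 1 ∧
      (g : Matrix (Fin n) (Fin n) F) *ᵥ a = a ∧ (g : Matrix (Fin n) (Fin n) F) *ᵥ v = v' := by
  classical
  obtain ⟨b, hb1, hbW⟩ := exists_dot_eq_one_of_notMem h
  have hba : b ⬝ᵥ a = 0 := hbW a (Submodule.subset_span (by simp))
  have hb0 : b ⬝ᵥ (v' - v) = 0 := hbW _ (Submodule.subset_span (by simp))
  have hdet : (1 + vecMulVec (v' - v) b : Matrix (Fin n) (Fin n) F).det = 1 := by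
    rw [vecMulVec_eq Unit, det_one_add_replicateCol_mul_replicateRow, hb0, add_zero]
  refine ⟨Matrix.GeneralLinearGroup.mkOfDetNeZero (1 + vecMulVec (v' - v) b) (by rw [hdet]; exact one_ne_zero),
    hdet, ?_, ?_⟩
  · show (1 + vecMulVec (v' - v) b : Matrix (Fin n) (Fin n) F) *ᵥ a = a
    rw [add_mulVec, one_mulVec, vecMulVec_mulVec, hba]
    ext i
    simp
  · show (1 + vecMulVec (v' - v) b : Matrix (Fin n) (Fin n) F) *ᵥ v = v'
    rw [add_mulVec, one_mulVec, vecMulVec_mulVec, hb1]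
    ext i
    simp

/-- if `v ∉ span {a}` but `v ∈ span {a, v' - v}` then `v' ∈ span {a, v}` -/
theorem mem_span_pair_of_mem_span_pair_sub {a v v' : Fin n → F} (hv : v ∉ Submodule.span F {a})
    (h : v ∈ Submodule.span F {a, v' - v}) : v' ∈ Submodule.span F {a, v} := by
  obtain ⟨α, β, hαβ⟩ := Submodule.mem_span_pair.1 h
  have hβ : β ≠ 0 := by
    rintro rfl
    rw [zero_smul, add_zero] at hαβ
    exact hv (Submodule.mem_span_singleton.2 ⟨α, hαβ⟩)
  rw [Submodule.mem_span_pair]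
  refine ⟨-(β⁻¹ * α), 1 + β⁻¹, ?_⟩
  have h0 : β • (v' - v) = v - α • a := eq_sub_of_add_eq' hαβ
  have h1 : v' - v = β⁻¹ • (v - α • a) := by
    rw [← h0, smul_smul, inv_mul_cancel₀ hβ, one_smul]
  have h2 : v' = v + β⁻¹ • (v - α • a) := by rw [← h1]; abel
  rw [h2, smul_sub, smul_smul, add_smul, one_smul, neg_smul]
  abel

/-- the stabiliser of `a` in `SL_n` (`n ≥ 3`) is transitive on the vectors outside the line of `a` -/
theorem trans_SL_fix (hn : 3 ≤ n) {a v v' : Fin n → F} (hv : v ∉ Submodule.span F {a})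
    (hv' : v' ∉ Submodule.span F {a}) :
    ∃ g : GL (Fin n) F, (g : Matrix (Fin n) (Fin n) F).det = 1 ∧
      (g : Matrix (Fin n) (Fin n) F) *ᵥ a = a ∧ (g : Matrix (Fin n) (Fin n) F) *ᵥ v = v' := by
  classical
  by_cases h : v ∈ Submodule.span F {a, v' - v}
  · have hv'av : v' ∈ Submodule.span F {a, v} := mem_span_pair_of_mem_span_pair_sub hv h
    obtain ⟨c, hc⟩ : ∃ c : Fin n → F, c ∉ Submodule.span F {a, v} := by
      by_contra hall
      push Not at hall
      have htop : Submodule.span F {a, v} = ⊤ := Submodule.eq_top_iff'.2 hall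
      have h1 : Module.finrank F (Submodule.span F ({a, v} : Set (Fin n → F))) ≤ 2 := by
        have h2 := finrank_span_le_card (R := F) ({a, v} : Set (Fin n → F))
        have h3 : ({a, v} : Set (Fin n → F)).toFinset.card ≤ 2 := by
          rw [Set.toFinset_insert, Set.toFinset_singleton]
          exact Finset.card_insert_le _ _ |>.trans (by simp)
        exact h2.trans h3
      rw [htop, finrank_top, Module.finrank_fin_fun] at h1
      omega
    have hca : c ∉ Submodule.span F {a} := by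
      intro h1
      apply hc
      exact Submodule.span_mono (by simp) h1
    have h1 : v ∉ Submodule.span F {a, c - v} := by
      intro h2
      exact hc (mem_span_pair_of_mem_span_pair_sub hv h2)
    have h2 : c ∉ Submodule.span F {a, v' - c} := by
      intro h3
      have h4 := mem_span_pair_of_mem_span_pair_sub hca h3
      -- `v' ∈ span {a, c}` and `v' ∈ span {a, v}`, `v' ∉ span {a}`: so `c ∈ span {a, v}`
      obtain ⟨α, β, hαβ⟩ := Submodule.mem_span_pair.1 h4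
      have hβ : β ≠ 0 := by
        rintro rfl
        rw [zero_smul, add_zero] at hαβ
        exact hv' (Submodule.mem_span_singleton.2 ⟨α, hαβ⟩)
      apply hc
      have h0 : β • c = v' - α • a := eq_sub_of_add_eq' hαβ
      have h5 : c = β⁻¹ • (v' - α • a) := by
        rw [← h0, smul_smul, inv_mul_cancel₀ hβ, one_smul]
      rw [h5]
      apply Submodule.smul_mem
      apply Submodule.sub_mem _ hv'av
      apply Submodule.smul_mem
      exact Submodule.subset_span (by simp)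
    obtain ⟨g1, hg1, hg1a, hg1v⟩ := exists_det_one_fix_of_notMem h1
    obtain ⟨g2, hg2, hg2a, hg2v⟩ := exists_det_one_fix_of_notMem h2
    refine ⟨g2 * g1, ?_, ?_, ?_⟩
    · rw [Matrix.GeneralLinearGroup.coe_mul, det_mul, hg1, hg2, one_mul]
    · rw [Matrix.GeneralLinearGroup.coe_mul, ← mulVec_mulVec, hg1a, hg2a]
    · rw [Matrix.GeneralLinearGroup.coe_mul, ← mulVec_mulVec, hg1v, hg2v]
  · exact exists_det_one_fix_of_notMem h

/-- `SL_n` (`n ≥ 3`) is transitive on the pairs `(a, b)` with `a ≠ 0`, `b ∉ F a` -/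
theorem trans_SL_pair (hn : 3 ≤ n) {a b a' b' : Fin n → F} (ha : a ≠ 0)
    (hb : b ∉ Submodule.span F {a}) (ha' : a' ≠ 0) (hb' : b' ∉ Submodule.span F {a'}) :
    ∃ g : GL (Fin n) F, (g : Matrix (Fin n) (Fin n) F).det = 1 ∧
      (g : Matrix (Fin n) (Fin n) F) *ᵥ a = a' ∧ (g : Matrix (Fin n) (Fin n) F) *ᵥ b = b' := by
  obtain ⟨g1, hg1, hg1a⟩ := Cfsg.Agent.Lib.H18.SLMin.trans_SL_vec (by omega : 2 ≤ n) ha ha'
  have hb1 : (g1 : Matrix (Fin n) (Fin n) F) *ᵥ b ∉ Submodule.span F {a'} := by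
    intro h1
    obtain ⟨c, hc⟩ := Submodule.mem_span_singleton.1 h1
    apply hb
    rw [Submodule.mem_span_singleton]
    refine ⟨c, ?_⟩
    have h2 : ((g1⁻¹ : GL (Fin n) F) : Matrix (Fin n) (Fin n) F) *ᵥ
        ((g1 : Matrix (Fin n) (Fin n) F) *ᵥ (c • a)) =
        ((g1⁻¹ : GL (Fin n) F) : Matrix (Fin n) (Fin n) F) *ᵥ
        ((g1 : Matrix (Fin n) (Fin n) F) *ᵥ b) := by
      rw [mulVec_smul, hg1a, hc]
    rwa [mulVec_mulVec, mulVec_mulVec, ← Matrix.GeneralLinearGroup.coe_mul, inv_mul_cancel,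
      Matrix.GeneralLinearGroup.coe_one, one_mulVec, one_mulVec] at h2
  obtain ⟨g2, hg2, hg2a, hg2b⟩ := trans_SL_fix hn hb1 hb'
  refine ⟨g2 * g1, ?_, ?_, ?_⟩
  · rw [Matrix.GeneralLinearGroup.coe_mul, det_mul, hg1, hg2, one_mul]
  · rw [Matrix.GeneralLinearGroup.coe_mul, ← mulVec_mulVec, hg1a, hg2a]
  · rw [Matrix.GeneralLinearGroup.coe_mul, ← mulVec_mulVec, hg2b]

/-- `a bᵀ - b aᵀ ≠ 0` forces `a ≠ 0` and `b ∉ F a` -/
theorem indep_of_R2 {a b : Fin n → F} (h : vecMulVec a b - vecMulVec b a ≠ 0) :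
    a ≠ 0 ∧ b ∉ Submodule.span F {a} := by
  constructor
  · rintro rfl
    apply h
    ext i j
    simp [vecMulVec_apply]
  · intro hb
    obtain ⟨c, rfl⟩ := Submodule.mem_span_singleton.1 hb
    apply h
    ext i j
    simp only [Matrix.sub_apply, vecMulVec_apply, Pi.smul_apply, smul_eq_mul, Matrix.zero_apply]
    ring

/-- congruence of `a bᵀ - b aᵀ` -/
theorem cong_R2 (A : Matrix (Fin n) (Fin n) F) (a b : Fin n → F) :
    A * (vecMulVec a b - vecMulVec b a) * Aᵀ =
      vecMulVec (A *ᵥ a) (A *ᵥ b) - vecMulVec (A *ᵥ b) (A *ᵥ a) := by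
  have key : ∀ x y : Fin n → F, A * vecMulVec x y * Aᵀ = vecMulVec (A *ᵥ x) (A *ᵥ y) := by
    intro x y
    rw [mul_vecMulVec, vecMulVec_mul, vecMul_transpose]
  rw [Matrix.mul_sub, Matrix.sub_mul, key, key]

end

/-- **TRANS.** -/
theorem trans_R2 {F : Type*} [Field F] {n : ℕ} (hn : 3 ≤ n) (T T' : Matrix (Fin n) (Fin n) F)
    (hT : IsR2 T) (hT' : IsR2 T') :
    ∃ A : GL (Fin n) F, (A : Matrix (Fin n) (Fin n) F).det = 1 ∧ T' = A.1 * T * A.1ᵀ := by
  obtain ⟨hT0, a, b, rfl⟩ := hT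
  obtain ⟨hT0', a', b', rfl⟩ := hT'
  obtain ⟨ha, hb⟩ := indep_of_R2 hT0
  obtain ⟨ha', hb'⟩ := indep_of_R2 hT0'
  obtain ⟨g, hg, hga, hgb⟩ := trans_SL_pair hn ha hb ha' hb'
  refine ⟨g, hg, ?_⟩
  rw [cong_R2, hga, hgb]

end Cfsg.Agent.Lib.H18.OPMin
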