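import Mathlib
import Cfsg.Prelude.Def_LieClassical
import Cfsg.Agent.Lib.H15.SUGenG

/-!
# Unitary transvection in `GU_2(q)` (task T4a of the S2263 blueprint)
-/

set_option autoImplicit false
set_option linter.unusedSectionVars false
set_option linter.unusedVariables false

namespace Cfsg.Agent.Lib.H18.PGU

open Matrix Cfsg.Agent.Lib.H15.SUGen Cfsg.Agent.Lib.H4
open scoped MatrixGroups

variable {F : Type*} [Field F] [Fintype F]

/-- an isotropic nonzero vector in dimension `2`. -/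
theorem exists_isotropic2 {q : ℕ} (hF : Fintype.card F = q ^ 2) :
    ∃ v : Fin 2 → F, v ≠ 0 ∧ Cfsg.hermForm 2 F q v v = 0 := by
  obtain ⟨φ, hφ, hφ2⟩ := exists_frob hF
  have h1 : φ (-1 : F) = -1 := by rw [map_neg, map_one]
  obtain ⟨l, hl⟩ := Cfsg.Agent.Lib.H11.UGen.exists_norm φ hF hφ (-1 : F) (by simp) h1
  refine ⟨![1, l], ?_, ?_⟩
  · intro h
    have := congrFun h 0
    simp at this
  · simp only [Cfsg.hermForm, Fin.sum_univ_two, Matrix.cons_val_zero, Matrix.cons_val_one,
      one_pow, one_mul]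
    rw [← hφ, hl]; ring

theorem card_eq_prime_of {p f q : ℕ} (hp : p.Prime) (hf : 1 ≤ f) (hq : q = p ^ f)
    (hF : Fintype.card F = q ^ 2) : (p : F) = 0 := by
  have h := Nat.cast_card_eq_zero F
  rw [hF, hq] at h
  push_cast at h
  exact pow_eq_zero_iff (by positivity) |>.1 (pow_eq_zero_iff (by omega) |>.1 h)

theorem exists_GU2_unipotent_aux (p f q : ℕ) (hp : p.Prime) (hf1 : 1 ≤ f) (hq : q = p ^ f)
    (hF : Fintype.card F = q ^ 2) :
    ∃ J : GL (Fin 2) F, J ∈ Cfsg.GU 2 F q ∧ orderOf J = p ∧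
      ∃ v : Fin 2 → F, v ≠ 0 ∧ (J : Matrix (Fin 2) (Fin 2) F) *ᵥ v = v := by
  obtain ⟨v, hv0, hv⟩ := exists_isotropic2 (q := q) hF
  obtain ⟨c, hc0, hc⟩ := exists_tz (q := q) hF
  have hp0 : (p : F) = 0 := card_eq_prime_of hp hf1 hq hF
  obtain ⟨t, ht⟩ : ∃ t : ↥(Cfsg.SU 2 F q), t = tv hF v c := ⟨_, rfl⟩
  have hval : ((t : Matrix.SpecialLinearGroup (Fin 2) F) : Matrix (Fin 2) (Fin 2) F) =
      Cfsg.unitaryTransvection 2 q v c := by rw [ht]; exact tv_val hF hv hc
  have hord : orderOf t = p := by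
    haveI : Fact p.Prime := ⟨hp⟩
    apply orderOf_eq_prime
    · rw [ht, tv_pow hF hv hc, hp0, zero_mul, tv_zero hF hv]
    · intro h1
      -- some coordinate of `v` is nonzero
      obtain ⟨i, hi⟩ : ∃ i, v i ≠ 0 := by
        by_contra hcon
        push Not at hcon
        exact hv0 (funext hcon)
      have h2 := tv_act hF hv hc (Pi.single i (1 : F))
      rw [← ht, h1, act_one] at h2
      have h3 : (c * hf q (Pi.single i (1 : F)) v) • v = 0 := by
        have := h2
        exact (add_eq_left.mp this.symm)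
      have h4 : hf q (Pi.single i (1 : F)) v = (v i) ^ q := by
        simp [hf, Cfsg.hermForm, Pi.single_apply]
      rw [h4] at h3
      have h5 := congrFun h3 i
      simp only [Pi.smul_apply, smul_eq_mul, Pi.zero_apply] at h5
      have : c * v i ^ q * v i ≠ 0 := mul_ne_zero (mul_ne_zero hc0 (pow_ne_zero _ hi)) hi
      exact this h5
  refine ⟨Matrix.SpecialLinearGroup.toGL (t : Matrix.SpecialLinearGroup (Fin 2) F), ?_, ?_, v, hv0, ?_⟩
  · intro x y
    have := t.2 x y
    exact this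
  · rw [← hord]
    have hinj : Function.Injective
        (fun s : ↥(Cfsg.SU 2 F q) => Matrix.SpecialLinearGroup.toGL (s : Matrix.SpecialLinearGroup (Fin 2) F)) := by
      intro a b hab
      apply Subtype.ext
      apply Matrix.SpecialLinearGroup.ext
      intro i j
      have := congrArg (fun g : GL (Fin 2) F => (g : Matrix (Fin 2) (Fin 2) F) i j) hab
      simpa using this
    exact orderOf_injective
      ((Matrix.SpecialLinearGroup.toGL).comp (Cfsg.SU 2 F q).subtype) hinj t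
  · show ((t : Matrix.SpecialLinearGroup (Fin 2) F) : Matrix (Fin 2) (Fin 2) F) *ᵥ v = v
    rw [hval, unitaryTransvection_mulVec]
    have : Cfsg.hermForm 2 F q v v = 0 := hv
    rw [this, mul_zero, zero_smul, add_zero]

/-- **T4a**: a unitary transvection in `GU_2(q)`. -/
theorem exists_GU2_unipotent (p f q : ℕ) (hp : p.Prime) (hf : 1 ≤ f) (hq : q = p ^ f)
    (hF : Fintype.card F = q ^ 2) :
    ∃ J : GL (Fin 2) F, J ∈ Cfsg.GU 2 F q ∧ orderOf J = p ∧
      ∃ v : Fin 2 → F, v ≠ 0 ∧ (J : Matrix (Fin 2) (Fin 2) F) *ᵥ v = v :=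
  exists_GU2_unipotent_aux p f q hp hf hq hF

end Cfsg.Agent.Lib.H18.PGU
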