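import Mathlib
import Cfsg.Prelude.Def_LieClassical
import Cfsg.Agent.Lib.H15.SUGenJ
import Cfsg.Agent.Lib.H13.AutPSLGraphField

/-!
# An element of order `4` in `GU_3(2)` with a fixed vector (task T4b of the S2263 blueprint)
-/

set_option autoImplicit false
set_option linter.unusedSectionVars false
set_option linter.unusedVariables false

namespace Cfsg.Agent.Lib.H18.PGU

open Matrix Cfsg.Agent.Lib.H15.SUGen Cfsg.Agent.Lib.H4
open scoped MatrixGroups

variable {F : Type*} [Field F] [Fintype F]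

/-- the Fourier matrix of order `3` -/
def fourier (ω : F) : Matrix (Fin 3) (Fin 3) F := !![1, 1, 1; 1, ω, ω ^ 2; 1, ω ^ 2, ω]

/-- its inverse in characteristic `2` -/
def fourierInv (ω : F) : Matrix (Fin 3) (Fin 3) F := !![1, 1, 1; 1, ω ^ 2, ω; 1, ω, ω ^ 2]

theorem fourier_mul_inv {ω : F} (h2 : (2 : F) = 0) (hω : 1 + ω + ω ^ 2 = 0) :
    fourier ω * fourierInv ω = 1 := by
  ext i j
  fin_cases i <;> fin_cases j <;>
    simp [fourier, fourierInv, Matrix.mul_apply, Fin.sum_univ_three] <;> grind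

theorem fourierInv_mul {ω : F} (h2 : (2 : F) = 0) (hω : 1 + ω + ω ^ 2 = 0) :
    fourierInv ω * fourier ω = 1 := by
  ext i j
  fin_cases i <;> fin_cases j <;>
    simp [fourier, fourierInv, Matrix.mul_apply, Fin.sum_univ_three] <;> grind

theorem fourier_sq {ω : F} (h2 : (2 : F) = 0) (hω : 1 + ω + ω ^ 2 = 0) :
    fourier ω * fourier ω = !![1, 0, 0; 0, 0, 1; 0, 1, 0] := by
  ext i j
  fin_cases i <;> fin_cases j <;>
    simp [fourier, Matrix.mul_apply, Fin.sum_univ_three] <;> grind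

theorem perm_sq : (!![1, 0, 0; 0, 0, 1; 0, 1, 0] : Matrix (Fin 3) (Fin 3) F) *
    !![1, 0, 0; 0, 0, 1; 0, 1, 0] = 1 := by
  ext i j
  fin_cases i <;> fin_cases j <;> simp [Matrix.mul_apply, Fin.sum_univ_three]

theorem fourier_unitary {ω : F} (h2 : (2 : F) = 0) (hω : 1 + ω + ω ^ 2 = 0) (τ : F ≃+* F)
    (hτ : ∀ a, τ a = a ^ 2) :
    (fourier ω)ᵀ * (fourier ω).map τ = 1 := by
  ext i j
  fin_cases i <;> fin_cases j <;>
    simp [fourier, Matrix.mul_apply, Fin.sum_univ_three, hτ] <;> grind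

/-- **T4b**: an element of order `4` in `GU_3(2)` fixing a nonzero vector. -/
theorem exists_GU3_order_four (hF : Fintype.card F = 2 ^ 2) :
    ∃ J : GL (Fin 3) F, J ∈ Cfsg.GU 3 F 2 ∧ orderOf J = 4 ∧
      ∃ v : Fin 3 → F, v ≠ 0 ∧ (J : Matrix (Fin 3) (Fin 3) F) *ᵥ v = v := by
  obtain ⟨ω, hω0, hω1, hω⟩ := exists_omega hF
  have h2 : (2 : F) = 0 := by
    have := add_self_zero hF (1 : F)
    linear_combination this
  obtain ⟨φ, hφ, hφ2⟩ := exists_frob hF
  obtain ⟨τ, hτ⟩ : ∃ τ : F ≃+* F, ∀ a, τ a = a ^ 2 :=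
    ⟨RingEquiv.ofRingHom φ φ (by ext x; simp [hφ2]) (by ext x; simp [hφ2]), fun a => hφ a⟩
  obtain ⟨J, hJ⟩ : ∃ J : GL (Fin 3) F, J = ⟨fourier ω, fourierInv ω, fourier_mul_inv h2 hω,
      fourierInv_mul h2 hω⟩ := ⟨_, rfl⟩
  have hJv : (J : Matrix (Fin 3) (Fin 3) F) = fourier ω := by rw [hJ]
  refine ⟨J, ?_, ?_, ![0, 1, 1], ?_, ?_⟩
  · rw [Cfsg.Agent.Lib.H13.AutPSL.mem_GU_iff_mat τ hτ, hJv]
    exact fourier_unitary h2 hω τ hτ
  · have h4 : J ^ 2 ^ (1 + 1) = 1 := by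
      apply Units.ext
      rw [Units.val_pow_eq_pow_val, hJv]
      show fourier ω ^ 4 = 1
      have : fourier ω ^ 4 = (fourier ω * fourier ω) * (fourier ω * fourier ω) := by
        simp [pow_succ, Matrix.mul_assoc]
      rw [this, fourier_sq h2 hω, perm_sq]
    have h2' : ¬ J ^ 2 ^ 1 = 1 := by
      intro h
      have h' := congrArg (fun g : GL (Fin 3) F => (g : Matrix (Fin 3) (Fin 3) F)) h
      simp only [pow_one, pow_two, Units.val_mul, Units.val_one, hJv, fourier_sq h2 hω] at h'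
      have h'' := congrFun (congrFun h' 1) 1
      simp at h''
    have := orderOf_eq_prime_pow (p := 2) (n := 1) (hp := ⟨Nat.prime_two⟩) h2' h4
    simpa using this
  · intro h
    have := congrFun h 1
    simp at this
  · rw [hJv]
    ext i
    fin_cases i <;> simp [fourier, Matrix.mulVec, dotProduct, Fin.sum_univ_three] <;> grind

end Cfsg.Agent.Lib.H18.PGU
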