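import Mathlib
import Cfsg.Prelude.Def_LieClassical
import Cfsg.Agent.S0783
import Cfsg.Agent.Lib.H2.Unitary1

/-!
# Block diagonal elements of `GU_{a+b}(q)` and their projective order (task T5 of the S2263 blueprint)
-/

set_option autoImplicit false
set_option linter.unusedSectionVars false
set_option linter.unusedVariables false

namespace Cfsg.Agent.Lib.H18.PGU

open Matrix
open scoped MatrixGroups

variable {F : Type*} [Field F]

/-- block diagonal matrix on `Fin (a + b)` -/
def blockMat {a b : ℕ} (A : Matrix (Fin a) (Fin a) F) (B : Matrix (Fin b) (Fin b) F) :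
    Matrix (Fin (a + b)) (Fin (a + b)) F :=
  Matrix.reindexAlgEquiv F F finSumFinEquiv (Matrix.fromBlocks A 0 0 B)

theorem blockMat_one {a b : ℕ} : blockMat (1 : Matrix (Fin a) (Fin a) F) (1 : Matrix (Fin b) (Fin b) F) = 1 := by
  unfold blockMat
  rw [Matrix.fromBlocks_one, map_one]

theorem blockMat_mul {a b : ℕ} (A A' : Matrix (Fin a) (Fin a) F) (B B' : Matrix (Fin b) (Fin b) F) :
    blockMat (A * A') (B * B') = blockMat A B * blockMat A' B' := by
  unfold blockMat
  rw [← map_mul, Matrix.fromBlocks_multiply]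
  simp

/-- the block diagonal monoid hom on matrices -/
def blockHom (a b : ℕ) : (Matrix (Fin a) (Fin a) F × Matrix (Fin b) (Fin b) F) →*
    Matrix (Fin (a + b)) (Fin (a + b)) F where
  toFun x := blockMat x.1 x.2
  map_one' := blockMat_one
  map_mul' x y := blockMat_mul x.1 y.1 x.2 y.2

theorem blockHom_injective (a b : ℕ) : Function.Injective (blockHom (F := F) a b) := by
  intro x y h
  have h1 : Matrix.fromBlocks x.1 0 0 x.2 = Matrix.fromBlocks y.1 0 0 y.2 :=
    (Matrix.reindexAlgEquiv F F finSumFinEquiv).injective h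
  rw [Matrix.fromBlocks_inj] at h1
  exact Prod.ext h1.1 h1.2.2.2

/-- the block diagonal hom on general linear groups -/
def blockGL (a b : ℕ) : GL (Fin a) F × GL (Fin b) F →* GL (Fin (a + b)) F :=
  (Units.map (blockHom a b)).comp (MulEquiv.prodUnits.symm.toMonoidHom)

theorem blockGL_val {a b : ℕ} (A : GL (Fin a) F) (B : GL (Fin b) F) :
    ((blockGL a b (A, B) : GL (Fin (a + b)) F) : Matrix (Fin (a + b)) (Fin (a + b)) F) =
      blockMat (A : Matrix (Fin a) (Fin a) F) (B : Matrix (Fin b) (Fin b) F) := rfl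

theorem blockGL_injective (a b : ℕ) : Function.Injective (blockGL (F := F) a b) := by
  intro x y h
  have h1 := congrArg (fun g : GL (Fin (a + b)) F => (g : Matrix (Fin (a + b)) (Fin (a + b)) F)) h
  obtain ⟨x1, x2⟩ := x
  obtain ⟨y1, y2⟩ := y
  simp only [blockGL_val] at h1
  have h2 := @blockHom_injective F _ a b ((x1 : Matrix (Fin a) (Fin a) F), (x2 : Matrix (Fin b) (Fin b) F))
    ((y1 : Matrix (Fin a) (Fin a) F), (y2 : Matrix (Fin b) (Fin b) F)) h1
  have h3 := Prod.ext_iff.1 h2
  exact Prod.ext (Units.ext h3.1) (Units.ext h3.2)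

theorem blockMat_mulVec {a b : ℕ} (A : Matrix (Fin a) (Fin a) F) (B : Matrix (Fin b) (Fin b) F)
    (u : Fin (a + b) → F) :
    blockMat A B *ᵥ u = fun k => Sum.elim (A *ᵥ fun i => u (finSumFinEquiv (Sum.inl i)))
      (B *ᵥ fun j => u (finSumFinEquiv (Sum.inr j))) (finSumFinEquiv.symm k) := by
  unfold blockMat
  rw [Matrix.coe_reindexAlgEquiv, Matrix.reindex_apply, Matrix.submatrix_mulVec_equiv,
    Matrix.fromBlocks_mulVec]
  funext k
  simp only [Function.comp_apply, Equiv.symm_symm, Matrix.zero_mulVec, add_zero, zero_add]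
  rfl

theorem hermForm_split {a b : ℕ} (q : ℕ) (u v : Fin (a + b) → F) :
    Cfsg.hermForm (a + b) F q u v =
      Cfsg.hermForm a F q (fun i => u (finSumFinEquiv (Sum.inl i))) (fun i => v (finSumFinEquiv (Sum.inl i))) +
      Cfsg.hermForm b F q (fun j => u (finSumFinEquiv (Sum.inr j))) (fun j => v (finSumFinEquiv (Sum.inr j))) := by
  unfold Cfsg.hermForm
  rw [← finSumFinEquiv.sum_comp, Fintype.sum_sum_type]

theorem blockGL_mem {a b : ℕ} {q : ℕ} (A : GL (Fin a) F) (hA : A ∈ Cfsg.GU a F q)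
    (B : GL (Fin b) F) (hB : B ∈ Cfsg.GU b F q) : blockGL a b (A, B) ∈ Cfsg.GU (a + b) F q := by
  intro u v
  show Cfsg.hermForm (a + b) F q (((blockGL a b (A, B) : GL (Fin (a + b)) F) :
      Matrix (Fin (a + b)) (Fin (a + b)) F) *ᵥ u) (((blockGL a b (A, B) : GL (Fin (a + b)) F) :
      Matrix (Fin (a + b)) (Fin (a + b)) F) *ᵥ v) = Cfsg.hermForm (a + b) F q u v
  rw [blockGL_val, hermForm_split, hermForm_split q u v, blockMat_mulVec, blockMat_mulVec]
  simp only [Equiv.symm_apply_apply, Sum.elim_inl, Sum.elim_inr]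
  have h1 := hA (fun i => u (finSumFinEquiv (Sum.inl i))) (fun i => v (finSumFinEquiv (Sum.inl i)))
  have h2 := hB (fun i => u (finSumFinEquiv (Sum.inr i))) (fun i => v (finSumFinEquiv (Sum.inr i)))
  exact congrArg₂ (· + ·) h1 h2

theorem pow_mulVec_fixed {b : ℕ} (B : GL (Fin b) F) (v : Fin b → F)
    (hBv : (B : Matrix (Fin b) (Fin b) F) *ᵥ v = v) (k : ℕ) :
    ((B ^ k : GL (Fin b) F) : Matrix (Fin b) (Fin b) F) *ᵥ v = v := by
  induction k with
  | zero => simp
  | succ k ih =>
    rw [pow_succ, Units.val_mul, ← Matrix.mulVec_mulVec, hBv, ih]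

variable [Fintype F]

/-- **T5**: block-diagonal element and its projective order. -/
theorem exists_mk_orderOf (q : ℕ) (hF : Fintype.card F = q ^ 2) (a b : ℕ)
    (A : GL (Fin a) F) (hA : A ∈ Cfsg.GU a F q) (B : GL (Fin b) F) (hB : B ∈ Cfsg.GU b F q)
    (v : Fin b → F) (hv : v ≠ 0) (hBv : (B : Matrix (Fin b) (Fin b) F) *ᵥ v = v) :
    ∃ g : (↥(Cfsg.GU (a + b) F q) ⧸ Subgroup.center ↥(Cfsg.GU (a + b) F q)),
      orderOf g = Nat.lcm (orderOf A) (orderOf B) := by
  obtain ⟨x, hx⟩ : ∃ x : ↥(Cfsg.GU (a + b) F q), x = ⟨blockGL a b (A, B), blockGL_mem A hA B hB⟩ :=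
    ⟨_, rfl⟩
  have hb1 : 1 ≤ b := by
    rcases Nat.eq_zero_or_pos b with h0 | h0
    · subst h0
      exact absurd (funext fun i => i.elim0) hv
    · exact h0
  have hxord : orderOf x = Nat.lcm (orderOf A) (orderOf B) := by
    have h1 : orderOf x = orderOf (blockGL a b (A, B)) := by
      rw [hx]
      exact (orderOf_injective (Cfsg.GU (a + b) F q).subtype Subtype.coe_injective
        ⟨blockGL a b (A, B), blockGL_mem A hA B hB⟩).symm
    rw [h1, orderOf_injective (blockGL a b) (blockGL_injective a b) (A, B), Prod.orderOf]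
  refine ⟨QuotientGroup.mk x, ?_⟩
  rw [← hxord]
  rw [orderOf_eq_orderOf_iff]
  intro k
  constructor
  · intro hk
    rw [← QuotientGroup.mk_pow, QuotientGroup.eq_one_iff] at hk
    obtain ⟨l, hl, hl1⟩ := Cfsg.Agent.Lib.H2.Unitary.exists_norm_one_ne_one hF
    have hl' : (l : F) ^ (q + 1) = 1 := by rw [pow_succ']; exact hl
    obtain ⟨c, hc, hZ⟩ := Cfsg.Agent.S0783.central_scalar hF (by omega) (x ^ k) hk l hl'
      (fun h => hl1 (by rw [h]; rfl))
    -- evaluate at the extended fixed vector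
    have hpow : ((x ^ k : ↥(Cfsg.GU (a + b) F q)) : GL (Fin (a + b)) F) = blockGL a b (A ^ k, B ^ k) := by
      rw [hx]
      show (blockGL a b (A, B)) ^ k = _
      rw [← map_pow, Prod.pow_mk]
    obtain ⟨w, hw⟩ : ∃ w : Fin (a + b) → F, w = fun k => Sum.elim (fun _ => (0 : F)) v (finSumFinEquiv.symm k) :=
      ⟨_, rfl⟩
    have hw1 : ∀ i, w (finSumFinEquiv (Sum.inl i)) = 0 := by
      intro i; rw [hw]; simp
    have hw2 : ∀ j, w (finSumFinEquiv (Sum.inr j)) = v j := by
      intro j; rw [hw]; simp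
    have hfix : (((x ^ k : ↥(Cfsg.GU (a + b) F q)) : GL (Fin (a + b)) F) :
        Matrix (Fin (a + b)) (Fin (a + b)) F) *ᵥ w = w := by
      rw [hpow, blockGL_val, blockMat_mulVec]
      funext m
      obtain ⟨s, rfl⟩ := finSumFinEquiv.surjective m
      rw [Equiv.symm_apply_apply]
      cases s with
      | inl i =>
        simp only [Sum.elim_inl, hw1]
        rw [show (fun i => (0 : F)) = (0 : Fin a → F) from rfl, Matrix.mulVec_zero]
        rfl
      | inr j =>
        simp only [Sum.elim_inr, hw2]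
        rw [show (fun j => v j) = v from rfl, pow_mulVec_fixed B v hBv k]
    rw [hZ] at hfix
    -- so `c = 1`
    obtain ⟨j, hj⟩ : ∃ j, v j ≠ 0 := by
      by_contra hcon
      push Not at hcon
      exact hv (funext hcon)
    have hcj := congrFun hfix (finSumFinEquiv (Sum.inr j))
    rw [Matrix.mulVec_diagonal, hw2] at hcj
    have hc1 : (c : F) = 1 := by
      have : ((c : F) - 1) * v j = 0 := by linear_combination hcj
      rcases mul_eq_zero.1 this with h | h
      · linear_combination h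
      · exact absurd h hj
    apply Subtype.ext
    apply Units.ext
    rw [hZ, hc1]
    simp
  · intro hk
    rw [← QuotientGroup.mk_pow, hk]
    rfl

end Cfsg.Agent.Lib.H18.PGU
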