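import Cfsg.Agent.Lib.H23.BlockNil

/-!
# Fixed vectors of `p`-groups in characteristic `p`, and the socle of the group algebra (helper18)

* `exists_fixed_ne_zero_of_charP`: a `p`-group acting linearly over any field of characteristic
  `p` on a stable subspace containing a nonzero vector fixes a nonzero vector of it.
* `exists_conv_eq_one`: `R` a commutative ring, `m` a maximal ideal containing `p`, `P` a finite
  `p`-group, `a : P → R` with some coefficient outside `m`; then some left multiple `b * a`
  (convolution) is congruent to the constant function `1` mod `m`, i.e. every nonzero left ideal of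
  `(R/m)[P]` contains the sum of all group elements.
-/

set_option autoImplicit false

namespace Cfsg.Agent.Lib.H18.PFixed

/-- A `p`-group acting linearly on a vector space over a field of characteristic `p`,
stabilising a subspace `I` containing a nonzero vector, fixes a nonzero vector of `I`. -/
theorem exists_fixed_ne_zero_of_charP {k : Type*} [Field k] (p : ℕ) [hp : Fact p.Prime]
    [CharP k p] {P : Type*} [Group P] [Finite P] (hP : IsPGroup p P) {V : Type*}
    [AddCommGroup V] [Module k V] (ρ : Representation k P V) (I : Submodule k V)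
    (hI : ∀ x : P, ∀ v ∈ I, ρ x v ∈ I) (w : V) (hwI : w ∈ I) (hw : w ≠ 0) :
    ∃ c ∈ I, c ≠ 0 ∧ ∀ x : P, ρ x c = c := by
  classical
  let _ : Algebra (ZMod p) k := ZMod.algebra k p
  let _ : Module (ZMod p) V := Module.compHom V (algebraMap (ZMod p) k)
  have hsm : ∀ (a : ZMod p) (v : V), a • v = (algebraMap (ZMod p) k a) • v := fun _ _ => rfl
  set S : Set V := Set.range (fun x : P => ρ x w) with hS
  have hSfin : S.Finite := Set.finite_range _
  set W : Submodule (ZMod p) V := Submodule.span (ZMod p) S with hW
  have hWfin : Module.Finite (ZMod p) W := Module.Finite.span_of_finite (ZMod p) hSfin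
  have hWF : Finite W := Module.finite_of_finite (ZMod p)
  have hwW : w ∈ W := by
    apply Submodule.subset_span
    exact ⟨1, by simp⟩
  have hWI : ∀ v ∈ W, v ∈ I := by
    intro v hv
    induction hv using Submodule.span_induction with
    | mem v hv =>
      obtain ⟨x, rfl⟩ := hv
      exact hI x w hwI
    | zero => exact I.zero_mem
    | add a b _ _ ha hb => exact I.add_mem ha hb
    | smul a v _ hv =>
      rw [hsm]
      exact I.smul_mem _ hv
  have hWst : ∀ x : P, ∀ v ∈ W, ρ x v ∈ W := by
    intro x v hv
    induction hv using Submodule.span_induction with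
    | mem v hv =>
      obtain ⟨y, rfl⟩ := hv
      apply Submodule.subset_span
      refine ⟨x * y, ?_⟩
      simp [map_mul]
    | zero => rw [map_zero]; exact W.zero_mem
    | add a b _ _ ha hb => rw [map_add]; exact W.add_mem ha hb
    | smul a v _ hv =>
      rw [hsm, map_smul, ← hsm]
      exact W.smul_mem _ hv
  let _ : MulAction P W :=
    { smul := fun x v => ⟨ρ x v, hWst x v v.2⟩
      one_smul := fun v => by
        apply Subtype.ext
        show ρ 1 (v : V) = v
        simp
      mul_smul := fun x y v => by
        apply Subtype.ext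
        show ρ (x * y) (v : V) = ρ x (ρ y (v : V))
        simp [map_mul] }
  have hsmul : ∀ (x : P) (v : W), ((x • v : W) : V) = ρ x (v : V) := fun _ _ => rfl
  have hnt : Nontrivial W := ⟨⟨⟨w, hwW⟩, 0, fun h => hw (congrArg Subtype.val h)⟩⟩
  have h0 : (0 : W) ∈ MulAction.fixedPoints P W := by
    intro x
    apply Subtype.ext
    rw [hsmul]
    simp
  obtain ⟨b, hb, hne⟩ := hP.exists_fixed_point_of_prime_dvd_card_of_fixed_point (α := W)
    Cfsg.Agent.Lib.H23.dvd_card_of_nontrivial_zmod h0
  refine ⟨(b : V), hWI _ b.2, fun h => hne (Subtype.ext h).symm, fun x => ?_⟩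
  rw [← hsmul]
  exact congrArg Subtype.val (hb x)

/-- left translation representation on functions -/
def leftTrans (k : Type*) [Field k] (P : Type*) [Group P] : Representation k P (P → k) where
  toFun x :=
    { toFun := fun c y => c (x⁻¹ * y)
      map_add' := fun _ _ => rfl
      map_smul' := fun _ _ => rfl }
  map_one' := by
    ext c y
    simp
  map_mul' := by
    intro x y
    ext c z
    simp [mul_assoc]

theorem leftTrans_apply (k : Type*) [Field k] (P : Type*) [Group P] (x : P) (c : P → k) (y : P) :
    leftTrans k P x c y = c (x⁻¹ * y) := rfl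

/-- In a group algebra of a `p`-group over a local-type ring with residue characteristic `p`,
every element with a unit coefficient has a left multiple congruent to the sum of all group
elements. -/
theorem exists_conv_eq_one {R : Type*} [CommRing R] (m : Ideal R) [hm : m.IsMaximal] (p : ℕ)
    [hp : Fact p.Prime] (hpm : (p : R) ∈ m) {P : Type*} [Group P] [Fintype P]
    (hP : IsPGroup p P) (a : P → R) (x0 : P) (ha : a x0 ∉ m) :
    ∃ b : P → R, ∀ y : P, (∑ x : P, b x * a (x⁻¹ * y)) - 1 ∈ m := by
  classical
  let _ : Field (R ⧸ m) := Ideal.Quotient.field m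
  have hchar : CharP (R ⧸ m) p := by
    rw [CharP.charP_iff_prime_eq_zero hp.out]
    rw [← map_natCast (Ideal.Quotient.mk m)]
    exact Ideal.Quotient.eq_zero_iff_mem.mpr hpm
  set ρ := leftTrans (R ⧸ m) P with hρ
  set abar : P → R ⧸ m := fun y => Ideal.Quotient.mk m (a y) with habar
  have habar0 : abar ≠ 0 := by
    intro h
    exact ha (Ideal.Quotient.eq_zero_iff_mem.mp (congrFun h x0))
  set I : Submodule (R ⧸ m) (P → R ⧸ m) :=
    Submodule.span (R ⧸ m) (Set.range (fun x : P => ρ x abar)) with hI
  have hIst : ∀ x : P, ∀ v ∈ I, ρ x v ∈ I := by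
    intro x v hv
    induction hv using Submodule.span_induction with
    | mem v hv =>
      obtain ⟨y, rfl⟩ := hv
      apply Submodule.subset_span
      refine ⟨x * y, ?_⟩
      simp [map_mul]
    | zero => rw [map_zero]; exact I.zero_mem
    | add a b _ _ ha hb => rw [map_add]; exact I.add_mem ha hb
    | smul a v _ hv => rw [map_smul]; exact I.smul_mem _ hv
  have habarI : abar ∈ I := by
    apply Submodule.subset_span
    exact ⟨1, by simp⟩
  obtain ⟨c, hcI, hc0, hcfix⟩ := exists_fixed_ne_zero_of_charP p hP ρ I hIst abar habarI habar0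
  have hconst : ∀ y : P, c y = c 1 := by
    intro y
    have := congrFun (hcfix y⁻¹) 1
    rw [hρ, leftTrans_apply] at this
    simpa using this
  have hc1 : c 1 ≠ 0 := by
    intro h
    apply hc0
    funext y
    rw [hconst y, h]
    rfl
  obtain ⟨β, hβ⟩ := (Submodule.mem_span_range_iff_exists_fun (R ⧸ m)).mp hcI
  choose b hb using fun x : P => Ideal.Quotient.mk_surjective (β x * (c 1)⁻¹)
  refine ⟨b, fun y => ?_⟩
  rw [← Ideal.Quotient.eq_zero_iff_mem, map_sub, map_sum, map_one]
  simp only [map_mul, hb]
  have h1 := congrFun hβ y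
  rw [Finset.sum_apply] at h1
  simp only [Pi.smul_apply, smul_eq_mul, hρ, leftTrans_apply] at h1
  have h2 : ∑ x : P, β x * (c 1)⁻¹ * (Ideal.Quotient.mk m) (a (x⁻¹ * y)) =
      (c 1)⁻¹ * ∑ x : P, β x * abar (x⁻¹ * y) := by
    rw [Finset.mul_sum]
    refine Finset.sum_congr rfl fun x _ => ?_
    rw [habar]
    ring
  rw [h2, h1, hconst y, inv_mul_cancel₀ hc1, sub_self]

end Cfsg.Agent.Lib.H18.PFixed
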