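import Mathlib

/-!
# The Principal Ideal Theorem (helper18)

The transfer of a finite group `G` into `G'/G''` is trivial.  We follow the Witt / Artin–Tate
determinant proof: a derivation `D : G → W` into a `ℤ[G/G']`-module together with a linear map
`θ : W → ℤ[G/G']`, `θ (D g) = ḡ - 1`, is killed by the norm element.
-/

set_option autoImplicit false

namespace Cfsg.Agent.Lib.H18

section CyclicGenerators

/-- A finite abelian group has generators `s i` with `s i ^ e i = 1` and `∏ e i = |Q|`. -/
theorem exists_cyclic_generators (Q : Type*) [CommGroup Q] [Finite Q] :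
    ∃ (ι : Type) (_ : Fintype ι) (s : ι → Q) (e : ι → ℕ),
      (∀ i, s i ^ e i = 1) ∧ Subgroup.closure (Set.range s) = ⊤ ∧ ∏ i, e i = Nat.card Q := by
  classical
  obtain ⟨ι, hι, n, hn, ⟨φ⟩⟩ := CommGroup.equiv_prod_multiplicative_zmod_of_finite Q
  refine ⟨ι, hι, fun i => φ.symm (Pi.mulSingle i (Multiplicative.ofAdd 1)), n, ?_, ?_, ?_⟩
  · intro i
    rw [← map_pow, ← Pi.mulSingle_pow, ← ofAdd_nsmul]
    simp
  · rw [eq_top_iff]
    intro q _
    have hq : q = φ.symm (φ q) := (φ.symm_apply_apply q).symm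
    rw [hq, ← Finset.univ_prod_mulSingle (φ q), map_prod]
    refine Subgroup.prod_mem _ (fun i _ => ?_)
    have h1 : (φ q i) = Multiplicative.ofAdd (1 : ZMod (n i)) ^ ((φ q i).toAdd.val) := by
      have : NeZero (n i) := ⟨by have := hn i; omega⟩
      rw [← ofAdd_nsmul]
      simp
    rw [h1, Pi.mulSingle_pow, map_pow]
    refine Subgroup.pow_mem _ (Subgroup.subset_closure ?_) _
    exact ⟨i, rfl⟩
  · rw [Nat.card_congr φ.toEquiv, Nat.card_pi]
    refine Finset.prod_congr rfl (fun i _ => ?_)
    have : NeZero (n i) := ⟨by have := hn i; omega⟩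
    rw [Nat.card_eq_fintype_card, Fintype.card_multiplicative]
    exact (ZMod.card (n i)).symm

end CyclicGenerators

section GroupRing

variable {Q : Type*} [CommGroup Q]

/-- The augmentation map of the integral group ring. -/
noncomputable def aug (Q : Type*) [CommGroup Q] : MonoidAlgebra ℤ Q →ₐ[ℤ] ℤ :=
  MonoidAlgebra.lift ℤ ℤ Q 1

theorem aug_of (q : Q) : aug Q (MonoidAlgebra.of ℤ Q q) = 1 := by
  rw [aug, MonoidAlgebra.lift_of]; rfl

/-- The augmentation ideal, as the span of the `q - 1`. -/
noncomputable def augIdeal (Q : Type*) [CommGroup Q] : Ideal (MonoidAlgebra ℤ Q) :=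
  Ideal.span (Set.range fun q : Q => MonoidAlgebra.of ℤ Q q - 1)

theorem of_sub_one_mem_augIdeal (q : Q) : MonoidAlgebra.of ℤ Q q - 1 ∈ augIdeal Q :=
  Ideal.subset_span ⟨q, rfl⟩

theorem aug_eq_zero_of_mem_augIdeal {c : MonoidAlgebra ℤ Q} (hc : c ∈ augIdeal Q) :
    aug Q c = 0 := by
  have hle : augIdeal Q ≤ RingHom.ker (aug Q : MonoidAlgebra ℤ Q →+* ℤ) := by
    rw [augIdeal, Ideal.span_le]
    rintro _ ⟨q, rfl⟩
    rw [SetLike.mem_coe, RingHom.mem_ker]
    change aug Q (MonoidAlgebra.of ℤ Q q - 1) = 0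
    rw [map_sub, aug_of, map_one, sub_self]
  exact hle hc

variable [Fintype Q]

theorem aug_eq_sum_coeff (x : MonoidAlgebra ℤ Q) : aug Q x = ∑ q : Q, x.coeff q := by
  rw [aug, MonoidAlgebra.lift_apply, Finsupp.sum_fintype]
  · simp
  · intro i; simp

/-- An element fixed by all translations with augmentation `|Q|` has all coefficients `1`. -/
theorem coeff_eq_one_of_mul_of_eq (x : MonoidAlgebra ℤ Q)
    (hx : ∀ q, x * MonoidAlgebra.of ℤ Q q = x) (haug : aug Q x = Fintype.card Q) (q : Q) :
    x.coeff q = 1 := by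
  have h1 : ∀ h : Q, x.coeff h = x.coeff 1 := by
    intro h
    have := congrArg (fun y : MonoidAlgebra ℤ Q => y.coeff h) (hx h)
    simp only [MonoidAlgebra.of_apply, MonoidAlgebra.coeff_mul_single_apply, mul_inv_cancel,
      mul_one] at this
    exact this.symm
  rw [aug_eq_sum_coeff] at haug
  have h2 : ∑ q : Q, x.coeff q = Fintype.card Q * x.coeff 1 := by
    rw [Finset.sum_congr rfl (fun h _ => h1 h)]
    simp
  rw [h2] at haug
  have hpos : (0 : ℤ) < Fintype.card Q := by exact_mod_cast Fintype.card_pos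
  rw [h1 q]
  nlinarith

theorem eq_sum_of_of_coeff_eq_one (x : MonoidAlgebra ℤ Q) (hx : ∀ q, x.coeff q = 1) :
    x = ∑ q : Q, MonoidAlgebra.of ℤ Q q := by
  classical
  apply MonoidAlgebra.coeff_injective
  ext h
  rw [hx h, MonoidAlgebra.coeff_sum, Finsupp.finsetSum_apply]
  simp only [MonoidAlgebra.of_apply, MonoidAlgebra.coeff_single, Finsupp.single_apply]
  simp

end GroupRing

section Adjugate

/-- If a square matrix over a commutative ring kills a vector of module elements, so does its
determinant. -/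
theorem det_smul_eq_zero_of_sum_smul_eq_zero {R M ι : Type*} [CommRing R] [AddCommGroup M]
    [Module R M] [Fintype ι] [DecidableEq ι] (A : Matrix ι ι R) (v : ι → M)
    (h : ∀ i, ∑ j, A i j • v j = 0) (k : ι) : A.det • v k = 0 := by
  have h1 : A.det • v k = ∑ j, (A.adjugate * A) k j • v j := by
    rw [Matrix.adjugate_mul]
    simp [Matrix.smul_apply, Matrix.one_apply, ite_smul]
  rw [h1]
  simp only [Matrix.mul_apply, Finset.sum_smul, mul_smul]
  rw [Finset.sum_comm]
  simp only [← Finset.smul_sum, h, smul_zero, Finset.sum_const_zero]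

end Adjugate

open scoped commutatorElement Pointwise

section Derivation

variable {G Q : Type*} [Group G] [CommGroup Q] (π : G →* Q)
  {W : Type*} [AddCommGroup W] [Module (MonoidAlgebra ℤ Q) W]
  (D : G → W) (hD : ∀ g h, D (g * h) = D g + MonoidAlgebra.of ℤ Q (π g) • D h)

include hD

theorem deriv_one : D 1 = 0 := by
  have := hD 1 1
  rw [mul_one, map_one, map_one, one_smul] at this
  exact left_eq_add.mp this

theorem deriv_inv (g : G) : D g⁻¹ = -(MonoidAlgebra.of ℤ Q (π g)⁻¹ • D g) := by
  have h1 := hD g⁻¹ g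
  rw [inv_mul_cancel, deriv_one π D hD, map_inv] at h1
  exact eq_neg_of_add_eq_zero_left h1.symm

/-- The elements whose derivation value lies in a given submodule form a subgroup. -/
def derivSubgroup (P : Submodule (MonoidAlgebra ℤ Q) W) : Subgroup G where
  carrier := {g | D g ∈ P}
  one_mem' := by
    change D 1 ∈ P
    rw [deriv_one π D hD]
    exact P.zero_mem
  mul_mem' := by
    intro a b ha hb
    change D (a * b) ∈ P
    rw [hD]
    exact P.add_mem ha (P.smul_mem _ hb)
  inv_mem' := by
    intro a ha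
    change D a⁻¹ ∈ P
    rw [deriv_inv π D hD]
    exact P.neg_mem (P.smul_mem _ ha)

theorem mem_derivSubgroup (P : Submodule (MonoidAlgebra ℤ Q) W) (g : G) :
    g ∈ derivSubgroup π D hD P ↔ D g ∈ P := Iff.rfl

/-- Modulo `I • M`, a derivation is additive. -/
theorem deriv_mul_sub_mem (M : Submodule (MonoidAlgebra ℤ Q) W) (hM : ∀ g, D g ∈ M) (g h : G) :
    D (g * h) - (D g + D h) ∈ augIdeal Q • M := by
  have : D (g * h) - (D g + D h) = (MonoidAlgebra.of ℤ Q (π g) - 1) • D h := by
    rw [hD, sub_smul, one_smul]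
    abel
  rw [this]
  exact Submodule.smul_mem_smul (of_sub_one_mem_augIdeal _) (hM h)

theorem commutator_le_derivSubgroup (M : Submodule (MonoidAlgebra ℤ Q) W) (hM : ∀ g, D g ∈ M)
    (P : Submodule (MonoidAlgebra ℤ Q) W) (hP : augIdeal Q • M ≤ P) :
    commutator G ≤ derivSubgroup π D hD P := by
  rw [commutator_eq_closure, Subgroup.closure_le]
  rintro _ ⟨x, y, rfl⟩
  rw [SetLike.mem_coe, mem_derivSubgroup, commutatorElement_def]
  set IM := augIdeal Q • M with hIM
  have h1 := deriv_mul_sub_mem π D hD M hM (x * y * x⁻¹) y⁻¹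
  have h2 := deriv_mul_sub_mem π D hD M hM (x * y) x⁻¹
  have h3 := deriv_mul_sub_mem π D hD M hM x y
  have h4 := deriv_mul_sub_mem π D hD M hM x x⁻¹
  have h5 := deriv_mul_sub_mem π D hD M hM y y⁻¹
  rw [mul_inv_cancel, deriv_one π D hD] at h4 h5
  have key : D (x * y * x⁻¹ * y⁻¹) =
      (D (x * y * x⁻¹ * y⁻¹) - (D (x * y * x⁻¹) + D y⁻¹)) +
      (D (x * y * x⁻¹) - (D (x * y) + D x⁻¹)) + (D (x * y) - (D x + D y))
      - (0 - (D x + D x⁻¹)) - (0 - (D y + D y⁻¹)) := by abel
  rw [key]
  exact hP (IM.sub_mem (IM.sub_mem (IM.add_mem (IM.add_mem h1 h2) h3) h4) h5)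

end Derivation

section Main

/-- The determinant argument: a derivation into a `ℤ[Q]`-module lying over the universal
derivation `g ↦ ḡ - 1` is killed by the norm element, if `ker π = G'`. -/
theorem derivation_norm_smul_eq_zero
    {G Q : Type*} [Group G] [Finite G] [CommGroup Q] [Fintype Q]
    (π : G →* Q) (hπ : Function.Surjective π) (hker : π.ker ≤ commutator G)
    {W : Type*} [AddCommGroup W] [Module (MonoidAlgebra ℤ Q) W]
    (D : G → W) (hD : ∀ g h, D (g * h) = D g + MonoidAlgebra.of ℤ Q (π g) • D h)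
    (θ : W →ₗ[MonoidAlgebra ℤ Q] MonoidAlgebra ℤ Q)
    (hθ : ∀ g, θ (D g) = MonoidAlgebra.of ℤ Q (π g) - 1) (g : G) :
    (∑ q : Q, MonoidAlgebra.of ℤ Q q) • D g = 0 := by
  classical
  obtain ⟨ι, hι, s, e, hse, hgen, hcard⟩ := exists_cyclic_generators Q
  choose gl hgl using fun i => hπ (s i)
  let I := augIdeal Q
  let M : Submodule (MonoidAlgebra ℤ Q) W := Submodule.span _ (Set.range D)
  let M0 : Submodule (MonoidAlgebra ℤ Q) W := Submodule.span _ (Set.range fun i => D (gl i))
  have hMmem : ∀ g, D g ∈ M := fun g => Submodule.subset_span ⟨g, rfl⟩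
  -- `G = ⟨gl i⟩ G'`
  have hGgen : ∀ (S : Subgroup G), (∀ i, gl i ∈ S) → commutator G ≤ S → ∀ g, g ∈ S := by
    intro S h1 h2 g
    have h3 : π g ∈ Subgroup.map π (Subgroup.closure (Set.range gl)) := by
      rw [MonoidHom.map_closure]
      have : π '' Set.range gl = Set.range s := by
        rw [← Set.range_comp]
        congr 1
        ext i
        exact hgl i
      rw [this, hgen]
      trivial
    obtain ⟨h, hh, hhg⟩ := h3
    have h4 : h⁻¹ * g ∈ commutator G := by
      apply hker
      rw [MonoidHom.mem_ker, map_mul, map_inv, hhg, inv_mul_cancel]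
    have h5 : h ∈ S := by
      have : Subgroup.closure (Set.range gl) ≤ S := by
        rw [Subgroup.closure_le]
        rintro _ ⟨i, rfl⟩
        exact h1 i
      exact this hh
    have := S.mul_mem h5 (h2 h4)
    rwa [mul_inv_cancel_left] at this
  have hM : M ≤ M0 ⊔ I • M := by
    rw [Submodule.span_le]
    rintro _ ⟨g, rfl⟩
    refine hGgen (derivSubgroup π D hD (M0 ⊔ I • M)) ?_ ?_ g
    · intro i
      rw [mem_derivSubgroup]
      exact Submodule.mem_sup_left (Submodule.subset_span ⟨i, rfl⟩)
    · exact commutator_le_derivSubgroup π D hD M hMmem _ le_sup_right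
  have hfg : M.FG := Submodule.fg_span (Set.finite_range D)
  obtain ⟨δ, hδI, hδM⟩ := Submodule.exists_sub_one_mem_and_smul_le_of_fg_of_le_sup hfg le_rfl hM
  have haugδ : aug Q δ = 1 := by
    have := aug_eq_zero_of_mem_augIdeal hδI
    rw [map_sub, map_one] at this
    exact sub_eq_zero.mp this
  let U : ι → MonoidAlgebra ℤ Q := fun i =>
    ∑ k ∈ Finset.range (e i), MonoidAlgebra.of ℤ Q (s i) ^ k
  have hUmul : ∀ i, U i * (MonoidAlgebra.of ℤ Q (s i) - 1) = 0 := by
    intro i
    rw [geom_sum_mul, ← map_pow, hse, map_one, sub_self]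
  have haugU : ∀ i, aug Q (U i) = e i := by
    intro i
    simp only [U, map_sum, map_pow, aug_of, one_pow, Finset.sum_const, Finset.card_range]
    simp
  have hDpow : ∀ (g : G) (k : ℕ),
      D (g ^ k) = (∑ l ∈ Finset.range k, MonoidAlgebra.of ℤ Q (π g) ^ l) • D g := by
    intro g k
    induction k with
    | zero => simp [deriv_one π D hD]
    | succ k ih =>
      rw [pow_succ, hD, ih, Finset.sum_range_succ, add_smul, map_pow, map_pow]
  have hUI : ∀ i, U i • D (gl i) ∈ I • M := by
    intro i
    have h1 : U i • D (gl i) = D (gl i ^ e i) := by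
      rw [hDpow, hgl]
    rw [h1]
    have h2 : gl i ^ e i ∈ commutator G := by
      apply hker
      rw [MonoidHom.mem_ker, map_pow, hgl, hse]
    exact commutator_le_derivSubgroup π D hD M hMmem _ le_rfl h2
  have hδIM : ∀ x ∈ I • M, δ • x ∈ I • M0 := by
    intro x hx
    refine Submodule.smul_induction_on hx ?_ ?_
    · intro r hr n hn
      rw [smul_comm]
      exact Submodule.smul_mem_smul hr (hδM (Submodule.smul_mem_pointwise_smul n δ M hn))
    · intro x y hx hy
      rw [smul_add]; exact Submodule.add_mem _ hx hy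
  have hc : ∀ i, ∃ c : ι → MonoidAlgebra ℤ Q,
      (∀ j, c j ∈ I) ∧ δ • U i • D (gl i) = ∑ j, c j • D (gl j) := by
    intro i
    have := hδIM _ (hUI i)
    rw [Submodule.mem_ideal_smul_span_iff_exists_sum] at this
    obtain ⟨a, ha, hsum⟩ := this
    refine ⟨a, ha, ?_⟩
    rw [← hsum, Finsupp.sum_fintype]
    intro j; exact zero_smul _ _
  choose c hcI hceq using hc
  have hθc : ∀ i, ∑ j, c i j * (MonoidAlgebra.of ℤ Q (s j) - 1) = 0 := by
    intro i
    have := congrArg θ (hceq i)
    rw [map_smul, map_smul, hθ, hgl, smul_eq_mul, smul_eq_mul, hUmul, mul_zero, map_sum] at this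
    rw [this]
    refine Finset.sum_congr rfl (fun j _ => ?_)
    rw [map_smul, hθ, hgl, smul_eq_mul]
  let Rm : Matrix ι ι (MonoidAlgebra ℤ Q) :=
    Matrix.of fun i j => (if i = j then δ * U i else 0) - c i j
  have h1 : ∀ i, ∑ j, Rm i j • D (gl j) = 0 := by
    intro i
    simp only [Rm, Matrix.of_apply, sub_smul, Finset.sum_sub_distrib, ite_smul, zero_smul,
      Finset.sum_ite_eq, Finset.mem_univ, if_true]
    rw [mul_smul, hceq, sub_self]
  have h2 : ∀ i, ∑ j, Rm i j * (MonoidAlgebra.of ℤ Q (s j) - 1) = 0 := by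
    intro i
    simp only [Rm, Matrix.of_apply, sub_mul, Finset.sum_sub_distrib, ite_mul, zero_mul,
      Finset.sum_ite_eq, Finset.mem_univ, if_true]
    rw [mul_assoc, hUmul, mul_zero, hθc, sub_self]
  have h3 : ∀ k, Rm.det • D (gl k) = 0 :=
    det_smul_eq_zero_of_sum_smul_eq_zero Rm (fun j => D (gl j)) h1
  have h4 : ∀ k, Rm.det * (MonoidAlgebra.of ℤ Q (s k) - 1) = 0 := by
    intro k
    have := det_smul_eq_zero_of_sum_smul_eq_zero Rm (fun j => MonoidAlgebra.of ℤ Q (s j) - 1)
      (fun i => by simpa only [smul_eq_mul] using h2 i) k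
    simpa only [smul_eq_mul] using this
  have h5 : ∀ q, Rm.det * MonoidAlgebra.of ℤ Q q = Rm.det := by
    intro q
    have hq : q ∈ Subgroup.closure (Set.range s) := by rw [hgen]; trivial
    induction hq using Subgroup.closure_induction with
    | mem x hx =>
      obtain ⟨k, rfl⟩ := hx
      have := h4 k
      rw [mul_sub, mul_one, sub_eq_zero] at this
      exact this
    | one => rw [map_one, mul_one]
    | mul x y _ _ hx hy => rw [map_mul, ← mul_assoc, hx, hy]
    | inv x _ hx =>
      have : Rm.det * MonoidAlgebra.of ℤ Q x * MonoidAlgebra.of ℤ Q x⁻¹ = Rm.det := by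
        rw [mul_assoc, ← map_mul, mul_inv_cancel, map_one, mul_one]
      rw [hx] at this
      exact this
  have h6 : aug Q Rm.det = Fintype.card Q := by
    rw [AlgHom.map_det]
    have : (aug Q).mapMatrix Rm = Matrix.diagonal (fun i => (e i : ℤ)) := by
      ext i j
      simp only [AlgHom.mapMatrix_apply, Matrix.map_apply, Rm, Matrix.of_apply, map_sub,
        aug_eq_zero_of_mem_augIdeal (hcI i j), sub_zero, Matrix.diagonal_apply]
      by_cases hij : i = j
      · rw [if_pos hij, if_pos hij, map_mul, haugδ, haugU, one_mul]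
      · rw [if_neg hij, if_neg hij, map_zero]
    rw [this, Matrix.det_diagonal, ← Nat.card_eq_fintype_card, ← hcard]
    push_cast
    rfl
  have h7 : Rm.det = ∑ q : Q, MonoidAlgebra.of ℤ Q q :=
    eq_sum_of_of_coeff_eq_one _ (coeff_eq_one_of_mul_of_eq _ h5 h6)
  rw [← h7]
  -- the elements killed by `det` form a subgroup containing the `gl i` and `G'`
  let P : Submodule (MonoidAlgebra ℤ Q) W := LinearMap.ker (LinearMap.lsmul (MonoidAlgebra ℤ Q) W Rm.det)
  have hP : ∀ w, w ∈ P ↔ Rm.det • w = 0 := fun w => by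
    rw [LinearMap.mem_ker, LinearMap.lsmul_apply]
  have hIP : I • M ≤ P := by
    rw [Submodule.smul_le]
    intro r hr n _
    rw [hP, smul_smul]
    have : Rm.det * r = 0 := by
      induction hr using Submodule.span_induction with
      | mem x hx =>
        obtain ⟨q, rfl⟩ := hx
        rw [mul_sub, mul_one, h5, sub_self]
      | zero => rw [mul_zero]
      | add x y _ _ hx hy => rw [mul_add, hx, hy, add_zero]
      | smul a x _ hx => rw [smul_eq_mul, mul_left_comm, hx, mul_zero]
    rw [this, zero_smul]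
  have := hGgen (derivSubgroup π D hD P) (fun i => (hP _).mpr (h3 i))
    (commutator_le_derivSubgroup π D hD M hMmem _ hIP) g
  exact (hP _).mp this

end Main

section TransferCocycle

variable {G : Type*} [Group G] (H : Subgroup G) [H.Normal]

/-- The cocycle of the extension `H → G → G ⧸ H` with respect to the section `Quotient.out`. -/
noncomputable def trCocycle (g : G) (q : G ⧸ H) : H :=
  ⟨q.out⁻¹ * g * ((g : G ⧸ H)⁻¹ * q).out, by
    rw [← QuotientGroup.eq_one_iff]
    simp only [QuotientGroup.mk_mul, QuotientGroup.mk_inv, QuotientGroup.out_eq']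
    group⟩

theorem trCocycle_coe (g : G) (q : G ⧸ H) :
    ((trCocycle H g q : H) : G) = q.out⁻¹ * g * ((g : G ⧸ H)⁻¹ * q).out := rfl

theorem trCocycle_mul (g h : G) (q : G ⧸ H) :
    trCocycle H (g * h) q = trCocycle H g q * trCocycle H h ((g : G ⧸ H)⁻¹ * q) := by
  apply Subtype.ext
  rw [Subgroup.coe_mul, trCocycle_coe, trCocycle_coe, trCocycle_coe]
  have : ((g * h : G) : G ⧸ H)⁻¹ * q = (h : G ⧸ H)⁻¹ * ((g : G ⧸ H)⁻¹ * q) := by
    rw [QuotientGroup.mk_mul, mul_inv_rev, mul_assoc]
  rw [this]
  group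

theorem transfer_eq_prod_trCocycle [H.FiniteIndex] [Fintype (G ⧸ H)] {A : Type*} [CommGroup A]
    (ϕ : H →* A) (g : G) :
    MonoidHom.transfer ϕ g = ∏ q : G ⧸ H, ϕ (trCocycle H g q) := by
  classical
  let T : H.LeftTransversal :=
    ⟨Set.range (Quotient.out : G ⧸ H → G), Subgroup.isComplement_range_left Quotient.out_eq'⟩
  have hT : ∀ q : G ⧸ H, (T.2.leftQuotientEquiv q : G) = q.out := fun q =>
    Subgroup.IsComplement.leftQuotientEquiv_apply (f := (Quotient.out : G ⧸ H → G))
      Quotient.out_eq' q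
  have hsm : ∀ q : G ⧸ H, g⁻¹ • q = (g : G ⧸ H)⁻¹ * q := by
    intro q
    induction q using QuotientGroup.induction_on with
    | H x => rfl
  rw [MonoidHom.transfer_def ϕ T, Subgroup.leftTransversals.diff]
  refine Finset.prod_congr (Finset.ext (by simp)) (fun q _ => ?_)
  congr 1
  apply Subtype.ext
  simp only []
  rw [Subgroup.smul_apply_eq_smul_apply_inv_smul, hsm, hT, hT, smul_eq_mul, trCocycle_coe,
    mul_assoc]

end TransferCocycle

section TransRep

/-- The translation representation of `Q` on functions `Q → A`. -/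
noncomputable def transRep (Q A : Type*) [Group Q] [AddCommGroup A] :
    Representation ℤ Q (Q → A) where
  toFun s := LinearMap.funLeft ℤ A (fun q => s⁻¹ * q)
  map_one' := by
    ext f q
    simp [LinearMap.funLeft_apply]
  map_mul' := by
    intro s t
    ext f q
    simp [LinearMap.funLeft_apply, mul_assoc]

theorem transRep_apply {Q A : Type*} [Group Q] [AddCommGroup A] (s : Q) (f : Q → A) (q : Q) :
    transRep Q A s f q = f (s⁻¹ * q) := rfl

end TransRep

section PrincipalIdeal

/-- **Principal Ideal Theorem**: the transfer `G → G'/G''` is trivial. -/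
theorem transfer_commutator_eq_one {G : Type*} [Group G] [Finite G] :
    MonoidHom.transfer (Abelianization.of : ↥(commutator G) →* Abelianization ↥(commutator G)) =
      (1 : G →* Abelianization ↥(commutator G)) := by
  classical
  let _ : Fintype (G ⧸ commutator G) := Fintype.ofFinite _
  let Q := Abelianization G
  let _ : Fintype Q := (inferInstance : Fintype (G ⧸ commutator G))
  let A := Additive (Abelianization ↥(commutator G))
  let ρ : Representation ℤ Q (Q → A) := transRep Q A
  let π : G →* Q := Abelianization.of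
  let d : G → (Q → A) := fun g q =>
    Additive.ofMul (Abelianization.of (trCocycle (commutator G) g q))
  let D : G → ρ.asModule × MonoidAlgebra ℤ Q := fun g =>
    (ρ.asModuleEquiv.symm (d g), MonoidAlgebra.of ℤ Q (π g) - 1)
  have hd : ∀ g h, d (g * h) = d g + ρ (π g) (d h) := by
    intro g h
    funext q
    change Additive.ofMul (Abelianization.of (trCocycle (commutator G) (g * h) q)) =
      Additive.ofMul (Abelianization.of (trCocycle (commutator G) g q)) +
      Additive.ofMul (Abelianization.of (trCocycle (commutator G) h ((π g)⁻¹ * q)))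
    have e := trCocycle_mul (commutator G) g h q
    refine (congrArg (fun x => Additive.ofMul (Abelianization.of x)) e).trans ?_
    simp only [map_mul, ofMul_mul]
    rfl
  have hD : ∀ g h, D (g * h) = D g + MonoidAlgebra.of ℤ Q (π g) • D h := by
    intro g h
    apply Prod.ext
    · change ρ.asModuleEquiv.symm (d (g * h)) =
        ρ.asModuleEquiv.symm (d g) + MonoidAlgebra.of ℤ Q (π g) • ρ.asModuleEquiv.symm (d h)
      rw [hd, map_add, Representation.asModuleEquiv_symm_map_rho]
    · change MonoidAlgebra.of ℤ Q (π (g * h)) - 1 =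
        (MonoidAlgebra.of ℤ Q (π g) - 1) + MonoidAlgebra.of ℤ Q (π g) * (MonoidAlgebra.of ℤ Q (π h) - 1)
      rw [map_mul, map_mul]
      ring
  have hπ : Function.Surjective π := QuotientGroup.mk_surjective
  have hker : π.ker ≤ commutator G := by
    rw [Abelianization.ker_of]
  have key := derivation_norm_smul_eq_zero π hπ hker D hD
    (LinearMap.snd (MonoidAlgebra ℤ Q) ρ.asModule (MonoidAlgebra ℤ Q)) (fun g => rfl)
  ext g
  rw [transfer_eq_prod_trCocycle, MonoidHom.one_apply]
  have h1 : (∑ q : Q, MonoidAlgebra.of ℤ Q q) • ρ.asModuleEquiv.symm (d g) = 0 :=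
    congrArg Prod.fst (key g)
  rw [Finset.sum_smul] at h1
  simp only [← Representation.asModuleEquiv_symm_map_rho] at h1
  rw [← map_sum, LinearEquiv.map_eq_zero_iff] at h1
  have h2 := congrFun h1 1
  rw [Finset.sum_apply] at h2
  simp only [ρ, transRep_apply, mul_one, Pi.zero_apply] at h2
  have h3 : ∑ c : Q, d g c⁻¹ = ∑ c : Q, d g c :=
    Fintype.sum_equiv (Equiv.inv Q) _ _ (fun q => rfl)
  rw [h3] at h2
  change ∑ q : Q, Additive.ofMul (Abelianization.of (trCocycle (commutator G) g q)) = 0 at h2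
  rw [← ofMul_prod] at h2
  exact h2

end PrincipalIdeal

end Cfsg.Agent.Lib.H18
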