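/-
(B,N)-pair of `SL_n(F)` (helper18, for S2937 / general use), part a: monomial matrices.
`monoMat π ε` has column `l` equal to `ε l • e_{π l}`; `HasPerm g π` says that `g ∈ SL` is such a matrix with all `ε l ≠ 0`.
-/
import Mathlib

set_option autoImplicit false
set_option linter.unusedSectionVars false
set_option linter.unusedVariables false

namespace Cfsg.Agent.Lib.H18.SLBN

open Matrix

variable {ι : Type*} [Fintype ι] [DecidableEq ι] {F : Type*} [Field F]

/-- monomial matrix: column `l` is `ε l • e_{π l}` -/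
def monoMat (π : Equiv.Perm ι) (ε : ι → F) : Matrix ι ι F := fun k l => if k = π l then ε l else 0

theorem monoMat_apply (π : Equiv.Perm ι) (ε : ι → F) (k l : ι) :
    monoMat π ε k l = if k = π l then ε l else 0 := rfl

theorem monoMat_apply_same (π : Equiv.Perm ι) (ε : ι → F) (l : ι) : monoMat π ε (π l) l = ε l := by
  rw [monoMat_apply, if_pos rfl]

theorem monoMat_apply_ne (π : Equiv.Perm ι) (ε : ι → F) {k l : ι} (h : k ≠ π l) : monoMat π ε k l = 0 := by
  rw [monoMat_apply, if_neg h]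

theorem monoMat_mul (π σ : Equiv.Perm ι) (ε δ : ι → F) :
    monoMat π ε * monoMat σ δ = monoMat (π * σ) (fun l => ε (σ l) * δ l) := by
  ext k l
  rw [Matrix.mul_apply, Finset.sum_eq_single (σ l)]
  · rw [monoMat_apply_same, monoMat_apply, monoMat_apply, Equiv.Perm.mul_apply]
    split_ifs <;> simp
  · intro t _ ht
    rw [monoMat_apply_ne σ δ ht, mul_zero]
  · intro h
    exact absurd (Finset.mem_univ _) h

theorem monoMat_one : monoMat (1 : Equiv.Perm ι) (fun _ => (1 : F)) = 1 := by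
  ext k l
  rw [monoMat_apply, Equiv.Perm.one_apply, Matrix.one_apply]

theorem monoMat_mul_single (π : Equiv.Perm ι) (ε : ι → F) (p q : ι) (c : F) :
    monoMat π ε * single p q c = single (π p) q (ε p * c) := by
  ext k l
  rw [Matrix.mul_apply, Finset.sum_eq_single p]
  · rw [monoMat_apply, single_apply, single_apply]
    by_cases hl : q = l
    · by_cases hk : k = π p
      · rw [if_pos hk, if_pos (⟨rfl, hl⟩ : p = p ∧ q = l), if_pos (⟨hk.symm, hl⟩ : π p = k ∧ q = l)]
      · rw [if_neg hk, zero_mul, if_neg (fun h : π p = k ∧ q = l => hk h.1.symm)]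
    · rw [if_neg (fun h : p = p ∧ q = l => hl h.2), mul_zero, if_neg (fun h : π p = k ∧ q = l => hl h.2)]
  · intro t _ ht
    rw [single_apply, if_neg (fun h : p = t ∧ q = l => ht h.1.symm), mul_zero]
  · intro h
    exact absurd (Finset.mem_univ _) h

theorem single_mul_monoMat (π : Equiv.Perm ι) (ε : ι → F) (p q : ι) (c : F) :
    single p q c * monoMat π ε = single p (π⁻¹ q) (c * ε (π⁻¹ q)) := by
  ext k l
  rw [Matrix.mul_apply, Finset.sum_eq_single q]
  · rw [monoMat_apply, single_apply, single_apply]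
    by_cases hk : p = k
    · by_cases hl : q = π l
      · have hl' : π⁻¹ q = l := by rw [hl]; simp
        rw [if_pos hl, if_pos (⟨hk, rfl⟩ : p = k ∧ q = q), if_pos (⟨hk, hl'⟩ : p = k ∧ π⁻¹ q = l), hl']
      · have hl' : π⁻¹ q ≠ l := by
          intro h
          apply hl
          rw [← h]; simp
        rw [if_neg hl, mul_zero, if_neg (fun h : p = k ∧ π⁻¹ q = l => hl' h.2)]
    · rw [if_neg (fun h : p = k ∧ q = q => hk h.1), zero_mul, if_neg (fun h : p = k ∧ π⁻¹ q = l => hk h.1)]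
  · intro t _ ht
    rw [single_apply, if_neg (fun h : p = k ∧ q = t => ht h.2.symm), zero_mul]
  · intro h
    exact absurd (Finset.mem_univ _) h

/-- `g ∈ SL` is monomial with permutation `π` -/
def HasPerm (g : SpecialLinearGroup ι F) (π : Equiv.Perm ι) : Prop :=
  ∃ ε : ι → F, (∀ l, ε l ≠ 0) ∧ (g : Matrix ι ι F) = monoMat π ε

theorem hasPerm_one : HasPerm (1 : SpecialLinearGroup ι F) 1 :=
  ⟨fun _ => 1, fun _ => one_ne_zero, by rw [Matrix.SpecialLinearGroup.coe_one, monoMat_one]⟩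

theorem HasPerm.mul {g h : SpecialLinearGroup ι F} {π σ : Equiv.Perm ι} (hg : HasPerm g π) (hh : HasPerm h σ) :
    HasPerm (g * h) (π * σ) := by
  obtain ⟨ε, hε, e1⟩ := hg
  obtain ⟨δ, hδ, e2⟩ := hh
  refine ⟨fun l => ε (σ l) * δ l, fun l => mul_ne_zero (hε _) (hδ _), ?_⟩
  rw [Matrix.SpecialLinearGroup.coe_mul, e1, e2, monoMat_mul]

/-- the matrix of the inverse of a monomial element -/
theorem coe_inv_of_monoMat {g : SpecialLinearGroup ι F} {π : Equiv.Perm ι} {ε : ι → F} (hε : ∀ l, ε l ≠ 0)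
    (e : (g : Matrix ι ι F) = monoMat π ε) :
    ((g⁻¹ : SpecialLinearGroup ι F) : Matrix ι ι F) = monoMat π⁻¹ (fun k => (ε (π⁻¹ k))⁻¹) := by
  have h1 : (g : Matrix ι ι F) * monoMat π⁻¹ (fun k => (ε (π⁻¹ k))⁻¹) = 1 := by
    rw [e, monoMat_mul, mul_inv_cancel, ← monoMat_one]
    congr 1
    funext l
    exact mul_inv_cancel₀ (hε _)
  have h2 : ((g⁻¹ : SpecialLinearGroup ι F) : Matrix ι ι F) * (g : Matrix ι ι F) = 1 := by
    rw [← Matrix.SpecialLinearGroup.coe_mul, inv_mul_cancel, Matrix.SpecialLinearGroup.coe_one]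
  calc ((g⁻¹ : SpecialLinearGroup ι F) : Matrix ι ι F)
      = ((g⁻¹ : SpecialLinearGroup ι F) : Matrix ι ι F) * ((g : Matrix ι ι F) * monoMat π⁻¹ (fun k => (ε (π⁻¹ k))⁻¹)) := by
        rw [h1, Matrix.mul_one]
    _ = monoMat π⁻¹ (fun k => (ε (π⁻¹ k))⁻¹) := by rw [← Matrix.mul_assoc, h2, Matrix.one_mul]

theorem HasPerm.inv {g : SpecialLinearGroup ι F} {π : Equiv.Perm ι} (hg : HasPerm g π) : HasPerm g⁻¹ π⁻¹ := by
  obtain ⟨ε, hε, e⟩ := hg
  exact ⟨fun k => (ε (π⁻¹ k))⁻¹, fun k => inv_ne_zero (hε _), coe_inv_of_monoMat hε e⟩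

theorem HasPerm.unique {g : SpecialLinearGroup ι F} {π σ : Equiv.Perm ι} (h1 : HasPerm g π) (h2 : HasPerm g σ) :
    π = σ := by
  obtain ⟨ε, hε, e1⟩ := h1
  obtain ⟨δ, hδ, e2⟩ := h2
  ext l
  by_contra hne
  have h3 : (g : Matrix ι ι F) (π l) l = ε l := by rw [e1, monoMat_apply_same]
  have h4 : (g : Matrix ι ι F) (π l) l = 0 := by rw [e2, monoMat_apply_ne σ δ hne]
  exact hε l (h3.symm.trans h4)

/-- conjugation of a transvection by a monomial element -/
theorem HasPerm.conj_transvection {g : SpecialLinearGroup ι F} {π : Equiv.Perm ι} (hg : HasPerm g π)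
    {p q : ι} (hpq : p ≠ q) (c : F) :
    ∃ d : F, (c ≠ 0 → d ≠ 0) ∧ g * SpecialLinearGroup.transvection hpq c * g⁻¹ =
      SpecialLinearGroup.transvection (fun h => hpq (π.injective h)) d := by
  obtain ⟨ε, hε, e⟩ := hg
  refine ⟨ε p * c * (ε q)⁻¹, fun hc => mul_ne_zero (mul_ne_zero (hε p) hc) (inv_ne_zero (hε q)), ?_⟩
  apply Subtype.ext
  rw [Matrix.SpecialLinearGroup.coe_mul, Matrix.SpecialLinearGroup.coe_mul, Matrix.SpecialLinearGroup.transvection_coe,
    Matrix.SpecialLinearGroup.transvection_coe, coe_inv_of_monoMat hε e, e, Matrix.mul_add, Matrix.add_mul, Matrix.mul_one,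
    monoMat_mul, monoMat_mul_single, single_mul_monoMat]
  congr 1
  · rw [mul_inv_cancel, ← monoMat_one]
    congr 1
    funext l
    exact mul_inv_cancel₀ (hε _)
  · simp

/-- all monomial elements -/
def slN (ι : Type*) [Fintype ι] [DecidableEq ι] (F : Type*) [Field F] : Subgroup (SpecialLinearGroup ι F) where
  carrier := {g | ∃ π, HasPerm g π}
  one_mem' := ⟨1, hasPerm_one⟩
  mul_mem' := by
    rintro a b ⟨π, ha⟩ ⟨σ, hb⟩
    exact ⟨π * σ, ha.mul hb⟩
  inv_mem' := by
    rintro a ⟨π, ha⟩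
    exact ⟨π⁻¹, ha.inv⟩

/-- the diagonal elements -/
def slT (ι : Type*) [Fintype ι] [DecidableEq ι] (F : Type*) [Field F] : Subgroup (SpecialLinearGroup ι F) where
  carrier := {g | HasPerm g 1}
  one_mem' := hasPerm_one
  mul_mem' := by
    intro a b ha hb
    have := HasPerm.mul ha hb
    rwa [mul_one] at this
  inv_mem' := by
    intro a ha
    have := HasPerm.inv ha
    rwa [inv_one] at this

theorem mem_slN {g : SpecialLinearGroup ι F} : g ∈ slN ι F ↔ ∃ π, HasPerm g π := Iff.rfl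

theorem mem_slT {g : SpecialLinearGroup ι F} : g ∈ slT ι F ↔ HasPerm g 1 := Iff.rfl

theorem slT_le_slN : slT ι F ≤ slN ι F := fun _ hg => ⟨1, hg⟩

/-- `N` normalises `T` -/
theorem slN_conj_slT {n t : SpecialLinearGroup ι F} (hn : n ∈ slN ι F) (ht : t ∈ slT ι F) : n * t * n⁻¹ ∈ slT ι F := by
  obtain ⟨π, hπ⟩ := hn
  have := (hπ.mul ht).mul hπ.inv
  rw [mul_one, mul_inv_cancel] at this
  exact this

/-- diagonal entries of a diagonal element -/
theorem slT_apply_ne {t : SpecialLinearGroup ι F} (ht : t ∈ slT ι F) {k l : ι} (hkl : k ≠ l) :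
    (t : Matrix ι ι F) k l = 0 := by
  obtain ⟨ε, hε, e⟩ := ht
  rw [e, monoMat_apply_ne]
  rwa [Equiv.Perm.one_apply]

end Cfsg.Agent.Lib.H18.SLBN
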