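/-
(B,N)-pair of `SL_{m+1}(F)` (helper18), part b: the Borel subgroup, the unipotent radical, the reflections and the root elements.
-/
import Mathlib
import Cfsg.Agent.Lib.H18.SLBNa
import Cfsg.Agent.Lib.H8.OGLevel
import Cfsg.Agent.Lib.H2.SLGen

set_option autoImplicit false
set_option linter.unusedSectionVars false
set_option linter.unusedVariables false

namespace Cfsg.Agent.Lib.H18.SLBN

open Matrix Cfsg.Agent.Lib.H8.OG

variable {F : Type*} [Field F] {m : ℕ}

/-- the tautological matrix representation -/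
def slφ (m : ℕ) (F : Type*) [Field F] :
    SpecialLinearGroup (Fin (m + 1)) F →* Matrix (Fin (m + 1)) (Fin (m + 1)) F :=
  Matrix.SpecialLinearGroup.coeMonoidHom

theorem slφ_apply (g : SpecialLinearGroup (Fin (m + 1)) F) : slφ m F g = (g : Matrix (Fin (m + 1)) (Fin (m + 1)) F) := rfl

theorem slφ_injective : Function.Injective (slφ m F) := Matrix.SpecialLinearGroup.coeMonoidHom_injective

/-- the rank function of the standard flag -/
def rk (m : ℕ) : Fin (m + 1) → ℕ := fun i => (i : ℕ)

theorem rk_injective : Function.Injective (rk m) := fun _ _ h => Fin.ext h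

/-- the Borel subgroup: upper triangular matrices -/
def slB (m : ℕ) (F : Type*) [Field F] : Subgroup (SpecialLinearGroup (Fin (m + 1)) F) := levP (slφ m F) (rk m)

/-- the unipotent radical: upper unitriangular matrices -/
def slU (m : ℕ) (F : Type*) [Field F] : Subgroup (SpecialLinearGroup (Fin (m + 1)) F) := levQ (slφ m F) (rk m)

theorem coe_inv_mul (g : SpecialLinearGroup (Fin (m + 1)) F) :
    ((g⁻¹ : SpecialLinearGroup (Fin (m + 1)) F) : Matrix (Fin (m + 1)) (Fin (m + 1)) F) *
      (g : Matrix (Fin (m + 1)) (Fin (m + 1)) F) = 1 := by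
  rw [← Matrix.SpecialLinearGroup.coe_mul, inv_mul_cancel, Matrix.SpecialLinearGroup.coe_one]

theorem coe_mul_inv (g : SpecialLinearGroup (Fin (m + 1)) F) :
    (g : Matrix (Fin (m + 1)) (Fin (m + 1)) F) *
      ((g⁻¹ : SpecialLinearGroup (Fin (m + 1)) F) : Matrix (Fin (m + 1)) (Fin (m + 1)) F) = 1 := by
  rw [← Matrix.SpecialLinearGroup.coe_mul, mul_inv_cancel, Matrix.SpecialLinearGroup.coe_one]

/-- the inverse of an upper triangular element is upper triangular -/
theorem blockTriangular_inv {g : SpecialLinearGroup (Fin (m + 1)) F}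
    (h : (g : Matrix (Fin (m + 1)) (Fin (m + 1)) F).BlockTriangular (rk m)) :
    ((g⁻¹ : SpecialLinearGroup (Fin (m + 1)) F) : Matrix (Fin (m + 1)) (Fin (m + 1)) F).BlockTriangular (rk m) := by
  letI : Invertible (g : Matrix (Fin (m + 1)) (Fin (m + 1)) F) :=
    invertibleOfLeftInverse _ _ (coe_inv_mul g)
  have e : ((g⁻¹ : SpecialLinearGroup (Fin (m + 1)) F) : Matrix (Fin (m + 1)) (Fin (m + 1)) F) =
      (g : Matrix (Fin (m + 1)) (Fin (m + 1)) F)⁻¹ := (Matrix.inv_eq_left_inv (coe_inv_mul g)).symm
  rw [e]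
  exact Matrix.blockTriangular_inv_of_blockTriangular h

theorem mem_slB_iff {g : SpecialLinearGroup (Fin (m + 1)) F} :
    g ∈ slB m F ↔ (g : Matrix (Fin (m + 1)) (Fin (m + 1)) F).BlockTriangular (rk m) :=
  ⟨fun h => h.1, fun h => ⟨h, blockTriangular_inv h⟩⟩

theorem slU_le_slB : slU m F ≤ slB m F := levQ_le_levP _ _

/-- `T ≤ B` -/
theorem slT_le_slB : slT (Fin (m + 1)) F ≤ slB m F := by
  intro t ht
  rw [mem_slB_iff]
  intro k l hkl
  apply slT_apply_ne ht
  rintro rfl
  exact lt_irrefl _ hkl

/-- a permutation of `Fin n` with `π l ≤ l` for all `l` is the identity -/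
theorem perm_eq_one_of_le {n : ℕ} (π : Equiv.Perm (Fin n)) (h : ∀ l, π l ≤ l) : π = 1 := by
  have key : ∀ v : ℕ, ∀ l : Fin n, (l : ℕ) = v → π l = l := by
    intro v
    induction v using Nat.strong_induction_on with
    | _ v ih =>
      intro l hv
      have h1 := h l
      by_contra hne
      have hlt : π l < l := lt_of_le_of_ne h1 hne
      have h3 : π (π l) = π l := ih (π l : ℕ) (by rw [← hv]; exact hlt) (π l) rfl
      exact hne (π.injective h3)
  ext l
  rw [Equiv.Perm.one_apply, key _ l rfl]

/-- `B ∩ N ≤ T` -/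
theorem slB_inf_slN_le : slB m F ⊓ slN (Fin (m + 1)) F ≤ slT (Fin (m + 1)) F := by
  rintro g ⟨hB, π, hπ⟩
  have h1 : π = 1 := by
    apply perm_eq_one_of_le
    intro l
    by_contra hlt
    push Not at hlt
    obtain ⟨ε, hε, e⟩ := hπ
    have h2 : (g : Matrix (Fin (m + 1)) (Fin (m + 1)) F) (π l) l = 0 := (mem_slB_iff.1 hB) hlt
    rw [e, monoMat_apply_same] at h2
    exact hε l h2
  rw [mem_slT, ← h1]
  exact hπ

/-! ### root elements -/

theorem castSucc_ne_succ (j : Fin m) : j.castSucc ≠ j.succ := (Fin.castSucc_lt_succ).ne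

/-- the positive simple root elements -/
def xR (j : Fin m) (c : F) : SpecialLinearGroup (Fin (m + 1)) F :=
  SpecialLinearGroup.transvection (castSucc_ne_succ j) c

/-- the negative simple root elements -/
def yR (j : Fin m) (c : F) : SpecialLinearGroup (Fin (m + 1)) F :=
  SpecialLinearGroup.transvection (castSucc_ne_succ j).symm c

theorem transvection_mul {p q : Fin (m + 1)} (hpq : p ≠ q) (c d : F) :
    (SpecialLinearGroup.transvection hpq c : SpecialLinearGroup (Fin (m + 1)) F) * SpecialLinearGroup.transvection hpq d =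
      SpecialLinearGroup.transvection hpq (c + d) := by
  apply Subtype.ext
  rw [Matrix.SpecialLinearGroup.coe_mul, Matrix.SpecialLinearGroup.transvection_coe, Matrix.SpecialLinearGroup.transvection_coe,
    Matrix.SpecialLinearGroup.transvection_coe, Matrix.mul_add, Matrix.add_mul, Matrix.add_mul, Matrix.one_mul, Matrix.one_mul,
    Matrix.mul_one, single_mul_single_of_ne _ _ _ _ hpq.symm, add_zero, single_add]
  abel

theorem transvection_zero {p q : Fin (m + 1)} (hpq : p ≠ q) :
    (SpecialLinearGroup.transvection hpq (0 : F) : SpecialLinearGroup (Fin (m + 1)) F) = 1 :=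
  Matrix.SpecialLinearGroup.transvection_coeff_zero hpq

theorem transvection_inv {p q : Fin (m + 1)} (hpq : p ≠ q) (c : F) :
    (SpecialLinearGroup.transvection hpq c : SpecialLinearGroup (Fin (m + 1)) F)⁻¹ = SpecialLinearGroup.transvection hpq (-c) := by
  apply inv_eq_of_mul_eq_one_right
  rw [transvection_mul, add_neg_cancel, transvection_zero]

/-- an upper transvection lies in `B` -/
theorem transvection_mem_slB {p q : Fin (m + 1)} (hpq : p < q) (c : F) :
    (SpecialLinearGroup.transvection hpq.ne c : SpecialLinearGroup (Fin (m + 1)) F) ∈ slB m F := by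
  rw [mem_slB_iff]
  intro k l hkl
  rw [Matrix.SpecialLinearGroup.transvection_coe, Matrix.add_apply, Matrix.one_apply_ne, zero_add, single_apply, if_neg]
  · rintro ⟨rfl, rfl⟩
    have : (p : ℕ) < (q : ℕ) := hpq
    unfold rk at hkl
    omega
  · rintro rfl
    exact lt_irrefl _ hkl

/-- a lower transvection with nonzero coefficient does not lie in `B` -/
theorem transvection_not_mem_slB {p q : Fin (m + 1)} (hpq : q < p) {c : F} (hc : c ≠ 0) :
    (SpecialLinearGroup.transvection hpq.ne' c : SpecialLinearGroup (Fin (m + 1)) F) ∉ slB m F := by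
  intro h
  rw [mem_slB_iff] at h
  have h1 := @h p q hpq
  rw [Matrix.SpecialLinearGroup.transvection_coe, Matrix.add_apply, Matrix.one_apply_ne hpq.ne', zero_add,
    single_apply_same] at h1
  exact hc h1

theorem xR_mem_slB (j : Fin m) (c : F) : xR j c ∈ slB m F := transvection_mem_slB Fin.castSucc_lt_succ c

theorem xR_mul (j : Fin m) (c d : F) : xR j c * xR j d = xR j (c + d) := transvection_mul _ c d

theorem yR_mul (j : Fin m) (c d : F) : yR j c * yR j d = yR j (c + d) := transvection_mul _ c d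

theorem xR_zero (j : Fin m) : xR j (0 : F) = 1 := transvection_zero _

theorem yR_zero (j : Fin m) : yR j (0 : F) = 1 := transvection_zero _

theorem xR_inv (j : Fin m) (c : F) : (xR j c)⁻¹ = xR j (-c) := transvection_inv _ c

theorem yR_inv (j : Fin m) (c : F) : (yR j c)⁻¹ = yR j (-c) := transvection_inv _ c

/-! ### the reflections -/

/-- `x(c) y(-c⁻¹) x(c)`, a monomial element -/
def wEl (j : Fin m) (c : F) : SpecialLinearGroup (Fin (m + 1)) F := xR j c * yR j (-c⁻¹) * xR j c

/-- the simple reflections -/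
def slRef (j : Fin m) : SpecialLinearGroup (Fin (m + 1)) F := wEl j 1

open Cfsg.Agent.Lib.H2 in
theorem wEl_coe (j : Fin m) {c : F} (hc : c ≠ 0) :
    (wEl j c : Matrix (Fin (m + 1)) (Fin (m + 1)) F) = M4 j.castSucc j.succ 0 c (-c⁻¹) 0 := by
  have hab := castSucc_ne_succ j
  unfold wEl xR yR
  rw [Matrix.SpecialLinearGroup.coe_mul, Matrix.SpecialLinearGroup.coe_mul, Matrix.SpecialLinearGroup.transvection_coe,
    Matrix.SpecialLinearGroup.transvection_coe]
  have h1 : (1 : Matrix (Fin (m + 1)) (Fin (m + 1)) F) + single j.castSucc j.succ c = M4 j.castSucc j.succ 1 c 0 1 := by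
    have := M4_mul_transvection hab (1 : F) 0 0 1 c
    rw [M4_one, Matrix.one_mul] at this
    rw [this]
    congr 1 <;> ring
  have h2 : ((1 : Matrix (Fin (m + 1)) (Fin (m + 1)) F) + single j.castSucc j.succ c) * (1 + single j.succ j.castSucc (-c⁻¹)) =
      M4 j.castSucc j.succ 0 c (-c⁻¹) 1 := by
    rw [h1, M4_mul_transvection' hab]
    congr 1
    · rw [mul_neg, mul_inv_cancel₀ hc]; ring
    · ring
  rw [h2, M4_mul_transvection hab]
  congr 1
  · ring
  · rw [neg_mul, inv_mul_cancel₀ hc]; ring

open Cfsg.Agent.Lib.H2 in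
/-- the matrix `[[0, c], [d, 0]]` on `a, b` is monomial -/
theorem M4_eq_monoMat {a b : Fin (m + 1)} (hab : a ≠ b) (c d : F) :
    M4 a b (0 : F) c d 0 = monoMat (Equiv.swap a b) (fun l => if l = a then d else if l = b then c else 1) := by
  ext k l
  unfold M4
  simp only [Matrix.add_apply, monoMat_apply, zero_sub]
  by_cases hla : l = a
  · subst hla
    rw [Equiv.swap_apply_left, if_pos rfl]
    by_cases hkb : k = b
    · subst hkb
      simp [Matrix.one_apply_ne hab.symm, hab, hab.symm]
    · by_cases hka : k = l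
      · subst hka
        simp [hab, hab.symm, hkb]
      · simp [Matrix.one_apply_ne hka, hab, hab.symm, hkb, hka, Ne.symm hka, Ne.symm hkb]
  · by_cases hlb : l = b
    · subst hlb
      rw [Equiv.swap_apply_right, if_neg hla, if_pos rfl]
      by_cases hka : k = a
      · subst hka
        simp [Matrix.one_apply_ne hab, hab, hab.symm]
      · by_cases hkl : k = l
        · subst hkl
          simp [hab, hab.symm, hka]
        · simp [Matrix.one_apply_ne hkl, hab, hab.symm, hka, hkl, Ne.symm hka, Ne.symm hkl]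
    · rw [Equiv.swap_apply_of_ne_of_ne hla hlb, if_neg hla, if_neg hlb]
      by_cases hkl : k = l
      · subst hkl
        simp [hla, hlb, Ne.symm hla, Ne.symm hlb]
      · simp [Matrix.one_apply_ne hkl, hkl, hla, hlb, Ne.symm hla, Ne.symm hlb]

theorem wEl_hasPerm (j : Fin m) {c : F} (hc : c ≠ 0) : HasPerm (wEl j c) (Equiv.swap j.castSucc j.succ) := by
  refine ⟨fun l => if l = j.castSucc then -c⁻¹ else if l = j.succ then c else 1, fun l => ?_, ?_⟩
  · dsimp only
    split_ifs
    · exact neg_ne_zero.mpr (inv_ne_zero hc)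
    · exact hc
    · exact one_ne_zero
  · rw [wEl_coe j hc, M4_eq_monoMat (castSucc_ne_succ j)]

theorem slRef_hasPerm (j : Fin m) : HasPerm (slRef j : SpecialLinearGroup (Fin (m + 1)) F) (Equiv.swap j.castSucc j.succ) :=
  wEl_hasPerm j one_ne_zero

theorem slRef_mem_slN (j : Fin m) : (slRef j : SpecialLinearGroup (Fin (m + 1)) F) ∈ slN (Fin (m + 1)) F :=
  ⟨_, slRef_hasPerm j⟩

/-- the product of two monomial elements with the same transposition is diagonal -/
theorem mul_mem_slT_of_swap {g h : SpecialLinearGroup (Fin (m + 1)) F} {a b : Fin (m + 1)}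
    (hg : HasPerm g (Equiv.swap a b)) (hh : HasPerm h (Equiv.swap a b)) : g * h ∈ slT (Fin (m + 1)) F := by
  have := hg.mul hh
  rw [Equiv.swap_mul_self] at this
  exact this

theorem slRef_sq_mem (j : Fin m) : (slRef j : SpecialLinearGroup (Fin (m + 1)) F) * slRef j ∈ slT (Fin (m + 1)) F :=
  mul_mem_slT_of_swap (slRef_hasPerm j) (slRef_hasPerm j)

/-- **rank one relation**: `s x(c) ∈ B y(c⁻¹)` for `c ≠ 0` -/
theorem rank_one (j : Fin m) {c : F} (hc : c ≠ 0) :
    ∃ b ∈ slB m F, (slRef j : SpecialLinearGroup (Fin (m + 1)) F) * xR j c = b * yR j c⁻¹ := by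
  refine ⟨slRef j * wEl j c * xR j (-c), ?_, ?_⟩
  · exact (slB m F).mul_mem (slT_le_slB (mul_mem_slT_of_swap (slRef_hasPerm j) (wEl_hasPerm j hc))) (xR_mem_slB j _)
  · have e : wEl j c * xR j (-c) * yR j c⁻¹ = xR j c := by
      unfold wEl
      rw [mul_assoc (xR j c * yR j (-c⁻¹)), xR_mul, add_neg_cancel, xR_zero, mul_one, mul_assoc, yR_mul, neg_add_cancel,
        yR_zero, mul_one]
    rw [← e]
    group

end Cfsg.Agent.Lib.H18.SLBN
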