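/-
(B,N)-pair of `SL_{m+1}(F)` (helper18), part c: the (B,N)-pair `slBN m F`, `B = T U`, and the Coxeter relations of the reflections.
-/
import Mathlib
import Cfsg.Prelude.Def_LieExceptional
import Cfsg.Agent.Lib.H18.SLBNb
import Cfsg.Agent.Lib.H8.SpBNAbs

set_option autoImplicit false
set_option linter.unusedSectionVars false
set_option linter.unusedVariables false

namespace Cfsg.Agent.Lib.H18.SLBN

open Matrix Cfsg.Agent.Lib.H8.OG

variable {F : Type*} [Field F] {m : ℕ}

/-- entries of a conjugate by a monomial matrix -/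
theorem monoMat_conj_apply {ι : Type*} [Fintype ι] [DecidableEq ι] (π : Equiv.Perm ι) (ε ε' : ι → F)
    (A : Matrix ι ι F) (k l : ι) :
    (monoMat π ε * A * monoMat π⁻¹ ε') k l = ε (π⁻¹ k) * A (π⁻¹ k) (π⁻¹ l) * ε' l := by
  rw [Matrix.mul_apply, Finset.sum_eq_single (π⁻¹ l)]
  · rw [monoMat_apply_same, Matrix.mul_apply, Finset.sum_eq_single (π⁻¹ k)]
    · rw [monoMat_apply, if_pos (by simp)]
    · intro t _ ht
      rw [monoMat_apply_ne, zero_mul]
      intro h
      apply ht
      rw [h]; simp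
    · intro h
      exact absurd (Finset.mem_univ _) h
  · intro t _ ht
    rw [monoMat_apply_ne π⁻¹ ε' ht, mul_zero]
  · intro h
    exact absurd (Finset.mem_univ _) h

/-- an adjacent transposition reverses the order of exactly one pair -/
theorem swap_adj_lt (j : Fin m) {k l : Fin (m + 1)} (hlk : l < k) :
    Equiv.swap j.castSucc j.succ l < Equiv.swap j.castSucc j.succ k ∨ (k = j.succ ∧ l = j.castSucc) := by
  have hv : ∀ x : Fin (m + 1), ((Equiv.swap j.castSucc j.succ x : Fin (m + 1)) : ℕ) =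
      if (x : ℕ) = j then (j : ℕ) + 1 else if (x : ℕ) = j + 1 then (j : ℕ) else (x : ℕ) := by
    intro x
    by_cases h1 : x = j.castSucc
    · subst h1
      rw [Equiv.swap_apply_left]
      simp
    · by_cases h2 : x = j.succ
      · subst h2
        rw [Equiv.swap_apply_right]
        simp
      · rw [Equiv.swap_apply_of_ne_of_ne h1 h2]
        have h1' : (x : ℕ) ≠ j := fun h => h1 (Fin.ext (by simpa using h))
        have h2' : (x : ℕ) ≠ j + 1 := fun h => h2 (Fin.ext (by simpa using h))
        rw [if_neg h1', if_neg h2']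
  by_cases hc : k = j.succ ∧ l = j.castSucc
  · exact Or.inr hc
  · left
    rw [Fin.lt_def, hv, hv]
    have hlk' : (l : ℕ) < (k : ℕ) := hlk
    have hc' : ¬ ((k : ℕ) = j + 1 ∧ (l : ℕ) = j) := by
      rintro ⟨h1, h2⟩
      exact hc ⟨Fin.ext (by simpa using h1), Fin.ext (by simpa using h2)⟩
    split_ifs <;> omega

/-- diagonal entries of an upper triangular element are nonzero -/
theorem slB_diag_ne_zero {b : SpecialLinearGroup (Fin (m + 1)) F} (hb : b ∈ slB m F) (i : Fin (m + 1)) :
    (b : Matrix (Fin (m + 1)) (Fin (m + 1)) F) i i ≠ 0 := by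
  have h1 : (b : Matrix (Fin (m + 1)) (Fin (m + 1)) F).det = ∏ i, (b : Matrix (Fin (m + 1)) (Fin (m + 1)) F) i i := by
    apply Matrix.det_of_upperTriangular
    intro k l hkl
    exact (mem_slB_iff.1 hb) hkl
  rw [b.2] at h1
  intro h0
  have : ∏ i, (b : Matrix (Fin (m + 1)) (Fin (m + 1)) F) i i = 0 := Finset.prod_eq_zero (Finset.mem_univ i) h0
  rw [this] at h1
  exact one_ne_zero h1

/-- **root factorisation**: `B = (B ∩ s⁻¹ B s) X_j` -/
theorem root_factor (j : Fin m) (b : SpecialLinearGroup (Fin (m + 1)) F) (hb : b ∈ slB m F) :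
    ∃ b' ∈ slB m F, ∃ x ∈ Set.range (xR (F := F) j), b = b' * x ∧ slRef j * b' * (slRef j)⁻¹ ∈ slB m F := by
  have hab := castSucc_ne_succ j
  set c : F := (b : Matrix (Fin (m + 1)) (Fin (m + 1)) F) j.castSucc j.succ /
    (b : Matrix (Fin (m + 1)) (Fin (m + 1)) F) j.castSucc j.castSucc with hc
  have hd := slB_diag_ne_zero hb j.castSucc
  set b' := b * xR j (-c) with hb'
  have hb'B : b' ∈ slB m F := (slB m F).mul_mem hb (xR_mem_slB j _)
  have hzero : (b' : Matrix (Fin (m + 1)) (Fin (m + 1)) F) j.castSucc j.succ = 0 := by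
    rw [hb']
    unfold xR
    rw [Matrix.SpecialLinearGroup.coe_mul, Matrix.SpecialLinearGroup.transvection_coe, Matrix.mul_add, Matrix.mul_one,
      Matrix.add_apply, Matrix.mul_single_apply_same, hc]
    field_simp
    ring
  refine ⟨b', hb'B, xR j c, ⟨c, rfl⟩, ?_, ?_⟩
  · rw [hb', mul_assoc, xR_mul, neg_add_cancel, xR_zero, mul_one]
  · rw [mem_slB_iff]
    obtain ⟨ε, hε, e⟩ := slRef_hasPerm (F := F) j
    intro k l hkl
    have hkl' : l < k := hkl
    rw [Matrix.SpecialLinearGroup.coe_mul, Matrix.SpecialLinearGroup.coe_mul, coe_inv_of_monoMat hε e, e,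
      monoMat_conj_apply]
    have hs : (Equiv.swap j.castSucc j.succ)⁻¹ = Equiv.swap j.castSucc j.succ := Equiv.swap_inv _ _
    rw [hs]
    rcases swap_adj_lt j hkl' with h | ⟨rfl, rfl⟩
    · rw [(mem_slB_iff.1 hb'B) h, mul_zero, zero_mul]
    · rw [Equiv.swap_apply_right, Equiv.swap_apply_left, hzero, mul_zero, zero_mul]

/-- **the dichotomy**: a monomial element conjugates `X_j` or `Y_j` into `B` -/
theorem mono_dichotomy (j : Fin m) {n : SpecialLinearGroup (Fin (m + 1)) F} (hn : n ∈ slN (Fin (m + 1)) F) :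
    (∀ x ∈ Set.range (xR (F := F) j), n⁻¹ * x * n ∈ slB m F) ∨
      (∀ y ∈ Set.range (yR (F := F) j), n⁻¹ * y * n ∈ slB m F) := by
  obtain ⟨π, hπ⟩ := hn
  have hab := castSucc_ne_succ j
  have hne : π⁻¹ j.castSucc ≠ π⁻¹ j.succ := fun h => hab (π⁻¹.injective h)
  rcases lt_or_gt_of_ne hne with h | h
  · left
    rintro _ ⟨c, rfl⟩
    obtain ⟨d, -, hd⟩ := hπ.inv.conj_transvection hab c
    rw [inv_inv] at hd
    unfold xR
    rw [hd]
    exact transvection_mem_slB h d
  · right
    rintro _ ⟨c, rfl⟩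
    obtain ⟨d, -, hd⟩ := hπ.inv.conj_transvection hab.symm c
    rw [inv_inv] at hd
    unfold yR
    rw [hd]
    exact transvection_mem_slB h d

/-- the set of simple reflections -/
def slS (m : ℕ) (F : Type*) [Field F] : Set (SpecialLinearGroup (Fin (m + 1)) F) := Set.range (slRef (m := m) (F := F))

/-- every permutation is realised in the subgroup generated by the reflections -/
theorem exists_hasPerm (π : Equiv.Perm (Fin (m + 1))) :
    ∃ w ∈ Subgroup.closure (slS m F), HasPerm w π := by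
  have h : π ∈ Submonoid.closure (Set.range fun i : Fin m => Equiv.swap i.castSucc i.succ) := by
    rw [Equiv.Perm.mclosure_swap_castSucc_succ]
    trivial
  induction h using Submonoid.closure_induction with
  | mem x hx =>
    obtain ⟨i, rfl⟩ := hx
    exact ⟨slRef i, Subgroup.subset_closure ⟨i, rfl⟩, slRef_hasPerm i⟩
  | one => exact ⟨1, Subgroup.one_mem _, hasPerm_one⟩
  | mul x y _ _ hx hy =>
    obtain ⟨w, hw, hwx⟩ := hx
    obtain ⟨v, hv, hvy⟩ := hy
    exact ⟨w * v, Subgroup.mul_mem _ hw hv, hwx.mul hvy⟩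

theorem closure_slS_le : Subgroup.closure (slS m F) ≤ slN (Fin (m + 1)) F := by
  rw [Subgroup.closure_le]
  rintro _ ⟨j, rfl⟩
  exact slRef_mem_slN j

/-- `S` and `T` generate `N` -/
theorem closure_sup_eq : Subgroup.closure (slS m F) ⊔ (slB m F ⊓ slN (Fin (m + 1)) F) = slN (Fin (m + 1)) F := by
  apply le_antisymm
  · exact sup_le closure_slS_le inf_le_right
  · rintro g ⟨π, hπ⟩
    obtain ⟨w, hw, hwπ⟩ := exists_hasPerm (F := F) π
    have h1 : w⁻¹ * g ∈ slT (Fin (m + 1)) F := by
      have := hwπ.inv.mul hπ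
      rw [inv_mul_cancel] at this
      exact this
    have h2 : g = w * (w⁻¹ * g) := by group
    rw [h2]
    exact Subgroup.mul_mem _ (Subgroup.mem_sup_left hw)
      (Subgroup.mem_sup_right ⟨slT_le_slB h1, slT_le_slN h1⟩)

/-- `B` and `N` generate `SL` -/
theorem slB_sup_slN : slB m F ⊔ slN (Fin (m + 1)) F = ⊤ := by
  rcases Nat.eq_zero_or_pos m with rfl | hm
  · rw [eq_top_iff]
    intro g _
    have : g = 1 := by
      apply Subtype.ext
      ext i j
      have hi : i = 0 := Fin.eq_zero i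
      have hj : j = 0 := Fin.eq_zero j
      subst hi; subst hj
      have h1 : (g : Matrix (Fin (0 + 1)) (Fin (0 + 1)) F).det = 1 := g.2
      have h2 : (g : Matrix (Fin (0 + 1)) (Fin (0 + 1)) F).det = (g : Matrix (Fin (0 + 1)) (Fin (0 + 1)) F) 0 0 :=
        Matrix.det_fin_one _
      rw [Matrix.SpecialLinearGroup.coe_one, Matrix.one_apply_eq, ← h2]
      exact h1
    rw [this]
    exact Subgroup.one_mem _
  have : Nontrivial (Fin (m + 1)) := Fin.nontrivial_iff_two_le.mpr (by omega)
  rw [eq_top_iff, ← Cfsg.Agent.Lib.H2.SL_closure_transvection, Subgroup.closure_le]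
  rintro _ ⟨p, q, hpq, c, rfl⟩
  rcases lt_or_gt_of_ne hpq with h | h
  · exact Subgroup.mem_sup_left (transvection_mem_slB h c)
  · -- conjugate an upper transvection by a monomial element with permutation `swap p q`
    obtain ⟨w, hw, hwπ⟩ := exists_hasPerm (F := F) (Equiv.swap p q)
    obtain ⟨ε, hε, e⟩ := hwπ
    have hwN : w ∈ slB m F ⊔ slN (Fin (m + 1)) F := Subgroup.mem_sup_right (closure_slS_le hw)
    have key : w * SpecialLinearGroup.transvection hpq.symm ((ε q)⁻¹ * c * ε p) * w⁻¹ =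
        SpecialLinearGroup.transvection hpq c := by
      apply Subtype.ext
      rw [Matrix.SpecialLinearGroup.coe_mul, Matrix.SpecialLinearGroup.coe_mul, Matrix.SpecialLinearGroup.transvection_coe,
        Matrix.SpecialLinearGroup.transvection_coe, coe_inv_of_monoMat hε e, e, Matrix.mul_add, Matrix.add_mul,
        Matrix.mul_one, monoMat_mul, monoMat_mul_single, single_mul_monoMat]
      congr 1
      · rw [mul_inv_cancel, ← monoMat_one]
        congr 1
        funext l
        exact mul_inv_cancel₀ (hε _)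
      · simp only [Equiv.swap_inv, Equiv.swap_apply_left, Equiv.swap_apply_right]
        congr 1
        have h1 := hε p
        have h2 := hε q
        field_simp
    rw [SetLike.mem_coe, ← key]
    exact Subgroup.mul_mem _ (Subgroup.mul_mem _ hwN (Subgroup.mem_sup_left (transvection_mem_slB h _)))
      (Subgroup.inv_mem _ hwN)

theorem slRef_injective (i j : Fin m) (h : (slRef i : SpecialLinearGroup (Fin (m + 1)) F)⁻¹ * slRef j ∈ slB m F) :
    i = j := by
  have h1 : (slRef i : SpecialLinearGroup (Fin (m + 1)) F)⁻¹ * slRef j ∈ slT (Fin (m + 1)) F :=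
    slB_inf_slN_le ⟨h, (slN _ F).mul_mem ((slN _ F).inv_mem (slRef_mem_slN i)) (slRef_mem_slN j)⟩
  have h2 := (slRef_hasPerm (F := F) i).inv.mul (slRef_hasPerm (F := F) j)
  have h3 := HasPerm.unique h2 h1
  rw [Equiv.swap_inv] at h3
  -- `swap i i+1 * swap j j+1 = 1`
  have h4 : Equiv.swap i.castSucc i.succ = Equiv.swap j.castSucc j.succ := by
    have := congrArg (fun σ => Equiv.swap i.castSucc i.succ * σ) h3
    simp only [← mul_assoc, Equiv.swap_mul_self, one_mul, mul_one] at this
    exact this.symm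
  have h5 := congrArg (fun σ : Equiv.Perm (Fin (m + 1)) => ((σ i.castSucc : Fin (m + 1)) : ℕ)) h4
  simp only [Equiv.swap_apply_left, Fin.val_succ] at h5
  by_cases h6 : i.castSucc = j.castSucc
  · exact Fin.castSucc_injective _ h6
  by_cases h7 : i.castSucc = j.succ
  · rw [h7, Equiv.swap_apply_right] at h5
    have h8 := congrArg (fun x : Fin (m + 1) => (x : ℕ)) h7
    simp only [Fin.val_castSucc, Fin.val_succ] at h8 h5
    omega
  · rw [Equiv.swap_apply_of_ne_of_ne h6 h7] at h5
    simp only [Fin.val_castSucc] at h5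
    omega

/-- **the (B,N)-pair of `SL_{m+1}(F)`** -/
noncomputable def slBN (m : ℕ) (F : Type*) [Field F] : Cfsg.BNPair (SpecialLinearGroup (Fin (m + 1)) F) where
  B := slB m F
  N := slN (Fin (m + 1)) F
  S := slS m F
  sup_eq_top := slB_sup_slN
  conj_mem := by
    intro n hn t ht
    exact slT_le_slB (slN_conj_slT hn (slB_inf_slN_le ht))
  subset := by
    rintro _ ⟨j, rfl⟩
    exact slRef_mem_slN j
  sq_mem := by
    rintro _ ⟨j, rfl⟩
    exact slT_le_slB (slRef_sq_mem j)
  inj := by
    rintro _ ⟨i, rfl⟩ _ ⟨j, rfl⟩ h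
    rw [slRef_injective i j h]
  closure_sup := closure_sup_eq
  mul_mem_union := by
    rintro _ ⟨j, rfl⟩ n hn b hb
    exact Cfsg.Agent.Lib.H8.SpBN.bn_axiom_of_root (slB m F) (slRef j) n (Set.range (xR j)) (Set.range (yR j))
      (root_factor j)
      (by
        rintro _ ⟨c, rfl⟩
        by_cases hc : c = 0
        · left
          rw [hc, xR_zero]
        · right
          obtain ⟨b, hb, h⟩ := rank_one (F := F) j hc
          exact ⟨b, hb, yR j c⁻¹, ⟨_, rfl⟩, h⟩)
      (mono_dichotomy j hn) b hb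
  conj_ne := by
    rintro _ ⟨j, rfl⟩ heq
    have h1 : (slRef j : SpecialLinearGroup (Fin (m + 1)) F) * xR j 1 * slRef j ∈
        ((slB m F : Subgroup (SpecialLinearGroup (Fin (m + 1)) F)) : Set (SpecialLinearGroup (Fin (m + 1)) F)) := by
      rw [← heq]
      exact ⟨xR j 1, xR_mem_slB j 1, rfl⟩
    have h2 : (slRef j : SpecialLinearGroup (Fin (m + 1)) F) * xR j 1 * (slRef j)⁻¹ ∈ slB m F := by
      have h3 : (slRef j : SpecialLinearGroup (Fin (m + 1)) F) * xR j 1 * (slRef j)⁻¹ =
          (slRef j * xR j 1 * slRef j) * (slRef j * slRef j)⁻¹ := by group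
      rw [h3]
      exact (slB m F).mul_mem h1 ((slB m F).inv_mem (slT_le_slB (slRef_sq_mem j)))
    obtain ⟨d, hd, hd2⟩ := (slRef_hasPerm (F := F) j).conj_transvection (castSucc_ne_succ j) (1 : F)
    unfold xR at h2
    rw [hd2] at h2
    have hlt : Equiv.swap j.castSucc j.succ j.succ < Equiv.swap j.castSucc j.succ j.castSucc := by
      rw [Equiv.swap_apply_left, Equiv.swap_apply_right]
      exact Fin.castSucc_lt_succ
    exact transvection_not_mem_slB hlt (hd one_ne_zero) h2

theorem slBN_B : (slBN m F).B = slB m F := rfl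
theorem slBN_N : (slBN m F).N = slN (Fin (m + 1)) F := rfl
theorem slBN_S : (slBN m F).S = slS m F := rfl

end Cfsg.Agent.Lib.H18.SLBN
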