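/-
(B,N)-pair of `SL_{m+1}(F)` (helper18), part d: `B = T U`, helper8's `RootData` of `slBN`, the torus has exponent `q - 1`, `U` is a
`p`-group, and the Coxeter relations of the reflections.
-/
import Mathlib
import Cfsg.Agent.Lib.H18.SLBNc
import Cfsg.Agent.Lib.H18.OGLevP
import Cfsg.Agent.Lib.H8.BNRootData

set_option autoImplicit false
set_option linter.unusedSectionVars false
set_option linter.unusedVariables false

namespace Cfsg.Agent.Lib.H18.SLBN

open Matrix Cfsg.Agent.Lib.H8.OG

variable {F : Type*} [Field F] {m : ℕ}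

theorem monoMat_one_eq_diagonal {ι : Type*} [Fintype ι] [DecidableEq ι] (ε : ι → F) :
    monoMat (1 : Equiv.Perm ι) ε = Matrix.diagonal ε := by
  ext k l
  rw [monoMat_apply, Equiv.Perm.one_apply, Matrix.diagonal_apply]
  by_cases h : k = l
  · rw [if_pos h, if_pos h, h]
  · rw [if_neg h, if_neg h]

/-- unitriangular = upper triangular with unit diagonal -/
theorem mem_slU_iff {g : SpecialLinearGroup (Fin (m + 1)) F} :
    g ∈ slU m F ↔ g ∈ slB m F ∧ ∀ k, (g : Matrix (Fin (m + 1)) (Fin (m + 1)) F) k k = 1 := by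
  constructor
  · intro hg
    refine ⟨slU_le_slB hg, fun k => ?_⟩
    have := hg.1 k k le_rfl
    rw [slφ_apply, Matrix.sub_apply, Matrix.one_apply_eq, sub_eq_zero] at this
    exact this
  · rintro ⟨hB, hd⟩
    have key : ∀ h : SpecialLinearGroup (Fin (m + 1)) F, h ∈ slB m F →
        (∀ k, (h : Matrix (Fin (m + 1)) (Fin (m + 1)) F) k k = 1) → StrictBT (rk m) (slφ m F h - 1) := by
      intro h hB hd k l hkl
      rw [slφ_apply, Matrix.sub_apply]
      by_cases hk : k = l
      · subst hk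
        rw [hd, Matrix.one_apply_eq, sub_self]
      · have hlt : rk m l < rk m k := lt_of_le_of_ne hkl (fun h' => hk (rk_injective h').symm)
        rw [(mem_slB_iff.1 hB) hlt, Matrix.one_apply_ne hk, sub_self]
    refine ⟨key g hB hd, key g⁻¹ ((slB m F).inv_mem hB) (fun k => ?_)⟩
    -- the diagonal of the inverse
    have h1 : ((g : Matrix (Fin (m + 1)) (Fin (m + 1)) F) *
        ((g⁻¹ : SpecialLinearGroup (Fin (m + 1)) F) : Matrix (Fin (m + 1)) (Fin (m + 1)) F)) k k = 1 := by
      rw [coe_mul_inv, Matrix.one_apply_eq]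
    rw [Matrix.mul_apply, Finset.sum_eq_single k, hd, one_mul] at h1
    · exact h1
    · intro t _ ht
      rcases lt_or_gt_of_ne ht with h | h
      · rw [(mem_slB_iff.1 hB) (show rk m t < rk m k from h), zero_mul]
      · rw [(mem_slB_iff.1 ((slB m F).inv_mem hB)) (show rk m k < rk m t from h), mul_zero]
    · intro h
      exact absurd (Finset.mem_univ k) h

/-- `B = T U` -/
theorem slB_eq_slT_mul_slU (b : SpecialLinearGroup (Fin (m + 1)) F) (hb : b ∈ slB m F) :
    ∃ t ∈ slT (Fin (m + 1)) F, ∃ u ∈ slU m F, b = t * u := by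
  have hne := slB_diag_ne_zero hb
  set ε : Fin (m + 1) → F := fun i => (b : Matrix (Fin (m + 1)) (Fin (m + 1)) F) i i with hε
  have hdet : (Matrix.diagonal ε).det = 1 := by
    rw [Matrix.det_diagonal]
    have h1 : (b : Matrix (Fin (m + 1)) (Fin (m + 1)) F).det = ∏ i, (b : Matrix (Fin (m + 1)) (Fin (m + 1)) F) i i := by
      apply Matrix.det_of_upperTriangular
      intro k l hkl
      exact (mem_slB_iff.1 hb) hkl
    rw [← h1]
    exact b.2
  set t : SpecialLinearGroup (Fin (m + 1)) F := ⟨Matrix.diagonal ε, hdet⟩ with ht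
  have hte : (t : Matrix (Fin (m + 1)) (Fin (m + 1)) F) = monoMat 1 ε := (monoMat_one_eq_diagonal ε).symm
  have htT : t ∈ slT (Fin (m + 1)) F := ⟨ε, hne, hte⟩
  refine ⟨t, htT, t⁻¹ * b, ?_, by group⟩
  rw [mem_slU_iff]
  refine ⟨(slB m F).mul_mem ((slB m F).inv_mem (slT_le_slB htT)) hb, fun k => ?_⟩
  rw [Matrix.SpecialLinearGroup.coe_mul, coe_inv_of_monoMat hne hte, Matrix.mul_apply, Finset.sum_eq_single k]
  · rw [monoMat_apply, if_pos (by simp)]
    simp only [inv_one, Equiv.Perm.one_apply]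
    exact inv_mul_cancel₀ (hne k)
  · intro l _ hl
    rw [monoMat_apply_ne, zero_mul]
    simpa using hl.symm
  · intro h
    exact absurd (Finset.mem_univ k) h

theorem slT_inf_slU {g : SpecialLinearGroup (Fin (m + 1)) F} (hT : g ∈ slT (Fin (m + 1)) F) (hU : g ∈ slU m F) : g = 1 := by
  apply Subtype.ext
  ext k l
  rw [Matrix.SpecialLinearGroup.coe_one]
  by_cases h : k = l
  · subst h
    rw [(mem_slU_iff.1 hU).2, Matrix.one_apply_eq]
  · rw [slT_apply_ne hT h, Matrix.one_apply_ne h]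

theorem slB_conj_slU {b u : SpecialLinearGroup (Fin (m + 1)) F} (hb : b ∈ slB m F) (hu : u ∈ slU m F) :
    b⁻¹ * u * b ∈ slU m F := by
  have := conj_mem_levQ (slφ m F) (rk m) ((slB m F).inv_mem hb) hu
  rwa [inv_inv] at this

theorem xR_mem_slU (j : Fin m) (c : F) : xR j c ∈ slU m F := by
  rw [mem_slU_iff]
  refine ⟨xR_mem_slB j c, fun k => ?_⟩
  unfold xR
  rw [Matrix.SpecialLinearGroup.transvection_coe, Matrix.add_apply, Matrix.one_apply_eq, single_apply, if_neg, add_zero]
  rintro ⟨h1, h2⟩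
  exact castSucc_ne_succ j (h1.trans h2.symm)

theorem yR_not_mem_slB (j : Fin m) {c : F} (hc : c ≠ 0) : yR j c ∉ slB m F :=
  transvection_not_mem_slB Fin.castSucc_lt_succ hc

/-- a transvection in `B` with nonzero coefficient is upper -/
theorem lt_of_transvection_mem_slB {p q : Fin (m + 1)} (hpq : p ≠ q) {c : F} (hc : c ≠ 0)
    (h : (SpecialLinearGroup.transvection hpq c : SpecialLinearGroup (Fin (m + 1)) F) ∈ slB m F) : p < q := by
  rcases lt_or_gt_of_ne hpq with h1 | h1
  · exact h1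
  · exact absurd h (transvection_not_mem_slB h1 hc)

/-- the opposite Borel condition -/
theorem slBN_opp (n₀ : SpecialLinearGroup (Fin (m + 1)) F) (hn₀ : n₀ ∈ slN (Fin (m + 1)) F)
    (hY : ∀ i : Fin m, ∀ y ∈ Set.range (yR (F := F) i), n₀⁻¹ * y * n₀ ∈ slB m F)
    (b : SpecialLinearGroup (Fin (m + 1)) F) (hb : b ∈ slB m F) (hb' : n₀⁻¹ * b * n₀ ∈ slB m F) :
    b ∈ slT (Fin (m + 1)) F := by
  obtain ⟨π, hπ⟩ := hn₀
  -- `π⁻¹` reverses consecutive elements
  have hstep : ∀ i : Fin m, π⁻¹ i.succ < π⁻¹ i.castSucc := by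
    intro i
    obtain ⟨d, hd, hd2⟩ := hπ.inv.conj_transvection (castSucc_ne_succ i).symm (1 : F)
    rw [inv_inv] at hd2
    have h1 := hY i (yR i 1) ⟨1, rfl⟩
    unfold yR at h1
    rw [hd2] at h1
    exact lt_of_transvection_mem_slB _ (hd one_ne_zero) h1
  -- hence `π⁻¹` is order reversing
  have hanti : ∀ k l : Fin (m + 1), k < l → π⁻¹ l < π⁻¹ k := by
    intro k l hkl
    induction l using Fin.induction with
    | zero => exact absurd hkl (Fin.not_lt_zero k)
    | succ l ih =>
      rcases (Fin.le_castSucc_iff.mpr hkl).eq_or_lt with rfl | hlt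
      · exact hstep l
      · exact lt_trans (hstep l) (ih hlt)
  -- `b` is lower triangular too
  obtain ⟨ε, hε, e⟩ := hπ
  have hlow : ∀ p q : Fin (m + 1), p < q → (b : Matrix (Fin (m + 1)) (Fin (m + 1)) F) p q = 0 := by
    intro p q hpq
    have h1 := (mem_slB_iff.1 hb') (show rk m (π⁻¹ q) < rk m (π⁻¹ p) from hanti p q hpq)
    have hinv := coe_inv_of_monoMat hε e
    have e2 : ((n₀⁻¹ * b * n₀ : SpecialLinearGroup (Fin (m + 1)) F) : Matrix (Fin (m + 1)) (Fin (m + 1)) F) =
        monoMat π⁻¹ (fun k => (ε (π⁻¹ k))⁻¹) * (b : Matrix (Fin (m + 1)) (Fin (m + 1)) F) * monoMat (π⁻¹)⁻¹ ε := by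
      rw [Matrix.SpecialLinearGroup.coe_mul, Matrix.SpecialLinearGroup.coe_mul, hinv, e, inv_inv]
    rw [e2, monoMat_conj_apply] at h1
    have hp : (π⁻¹)⁻¹ (π⁻¹ p) = p := by simp
    have hq : (π⁻¹)⁻¹ (π⁻¹ q) = q := by simp
    simp only [hp, hq] at h1
    have h2 : (ε (π⁻¹ p))⁻¹ ≠ 0 := inv_ne_zero (hε _)
    have h3 := hε (π⁻¹ q)
    rcases mul_eq_zero.mp h1 with h4 | h4
    · rcases mul_eq_zero.mp h4 with h5 | h5
      · exact absurd h5 h2
      · exact h5
    · exact absurd h4 h3
  refine ⟨fun i => (b : Matrix (Fin (m + 1)) (Fin (m + 1)) F) i i, slB_diag_ne_zero hb, ?_⟩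
  rw [monoMat_one_eq_diagonal]
  ext k l
  rw [Matrix.diagonal_apply]
  by_cases h : k = l
  · rw [if_pos h, h]
  · rw [if_neg h]
    rcases lt_or_gt_of_ne h with h1 | h1
    · exact hlow k l h1
    · exact (mem_slB_iff.1 hb) (show rk m l < rk m k from h1)

/-- **the root data of `slBN`** in helper8's format -/
noncomputable def slRootData (m : ℕ) (F : Type*) [Field F] :
    Cfsg.Agent.Lib.H8.BNRoot.RootData (slBN m F) (Fin m) where
  e := slRef
  hS := rfl
  T := slT (Fin (m + 1)) F
  U := slU m F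
  X := fun i => Set.range (xR i)
  Y := fun i => Set.range (yR i)
  hTB := slT_le_slB
  hTN := slT_le_slN
  hNT := by
    intro n hn t ht
    have := slN_conj_slT ((slN (Fin (m + 1)) F).inv_mem hn) ht
    rwa [inv_inv] at this
  ha := root_factor
  hc := fun i n hn => mono_dichotomy i hn
  hopp := slBN_opp
  hUB := slU_le_slB
  hBTU := slB_eq_slT_mul_slU
  hTU := fun g hT hU => slT_inf_slU hT hU
  hUn := fun b hb u hu => slB_conj_slU hb hu
  hXU := by
    rintro i _ ⟨c, rfl⟩
    exact xR_mem_slU i c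
  hYB := fun i => ⟨yR i 1, ⟨1, rfl⟩, yR_not_mem_slB i one_ne_zero⟩

/-- in characteristic `p`, `U` is a `p`-group -/
theorem slU_isPGroup (p : ℕ) [Fact p.Prime] [CharP F p] : IsPGroup p ↥(slU m F) :=
  Cfsg.Agent.Lib.H18.OG.levQ_isPGroup (slφ m F) (rk m) slφ_injective p

theorem slU_ne_bot (hm : 1 ≤ m) : slU m F ≠ ⊥ := by
  intro h
  have h1 : xR (⟨0, hm⟩ : Fin m) (1 : F) ∈ slU m F := xR_mem_slU _ _
  rw [h, Subgroup.mem_bot] at h1
  have h2 := xR_mem_slB (F := F) (⟨0, hm⟩ : Fin m) 1
  have h3 : yR (⟨0, hm⟩ : Fin m) (1 : F) ∉ slB m F := yR_not_mem_slB _ one_ne_zero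
  have h4 := congrArg (fun g : SpecialLinearGroup (Fin (m + 1)) F =>
    (g : Matrix (Fin (m + 1)) (Fin (m + 1)) F) (Fin.castSucc ⟨0, hm⟩) (Fin.succ ⟨0, hm⟩)) h1
  unfold xR at h4
  simp only [Matrix.SpecialLinearGroup.transvection_coe, Matrix.add_apply, single_apply_same,
    Matrix.SpecialLinearGroup.coe_one] at h4
  rw [Matrix.one_apply_ne (castSucc_ne_succ _), zero_add] at h4
  exact one_ne_zero h4

/-! ### the torus has exponent `q - 1` -/

theorem slT_pow_coe {t : SpecialLinearGroup (Fin (m + 1)) F} {ε : Fin (m + 1) → F}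
    (e : (t : Matrix (Fin (m + 1)) (Fin (m + 1)) F) = monoMat 1 ε) (k : ℕ) :
    ((t ^ k : SpecialLinearGroup (Fin (m + 1)) F) : Matrix (Fin (m + 1)) (Fin (m + 1)) F) = monoMat 1 (fun l => ε l ^ k) := by
  induction k with
  | zero =>
    rw [pow_zero, Matrix.SpecialLinearGroup.coe_one, ← monoMat_one]
    congr 1
    funext l
    rw [pow_zero]
  | succ k ih =>
    rw [pow_succ, Matrix.SpecialLinearGroup.coe_mul, ih, e, monoMat_mul, mul_one]
    congr 1
    funext l
    rw [Equiv.Perm.one_apply, pow_succ]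

theorem slT_pow_card_sub_one [Fintype F] {t : SpecialLinearGroup (Fin (m + 1)) F} (ht : t ∈ slT (Fin (m + 1)) F) :
    t ^ (Fintype.card F - 1) = 1 := by
  obtain ⟨ε, hε, e⟩ := ht
  apply Subtype.ext
  rw [slT_pow_coe e, Matrix.SpecialLinearGroup.coe_one, ← monoMat_one]
  congr 1
  funext l
  exact FiniteField.pow_card_sub_one_eq_one (ε l) (hε l)

/-- the torus has no element of order `p` -/
theorem slT_orderOf_coprime [Fintype F] (p : ℕ) [Fact p.Prime] [CharP F p] {t : SpecialLinearGroup (Fin (m + 1)) F}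
    (ht : t ∈ slT (Fin (m + 1)) F) : (orderOf t).Coprime p := by
  have hp : p.Prime := Fact.out
  have h1 : orderOf t ∣ Fintype.card F - 1 := orderOf_dvd_of_pow_eq_one (slT_pow_card_sub_one ht)
  apply Nat.Coprime.coprime_dvd_left h1
  obtain ⟨n, -, hn⟩ := FiniteField.card F p
  rw [Nat.coprime_comm, Nat.Prime.coprime_iff_not_dvd hp]
  intro hdvd
  have h2 : p ∣ Fintype.card F := by
    rw [hn]
    exact dvd_pow_self p n.ne_zero
  have h3 : 0 < Fintype.card F := Fintype.card_pos
  have h4 : p ∣ 1 := by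
    have := (Nat.dvd_sub h2 hdvd)
    have e : Fintype.card F - (Fintype.card F - 1) = 1 := by omega
    rwa [e] at this
  exact hp.one_lt.ne' (Nat.dvd_one.mp h4)

/-! ### Coxeter relations -/

/-- transvections with disjoint supports commute -/
theorem transvection_commute {p q r s : Fin (m + 1)} (hpq : p ≠ q) (hrs : r ≠ s) (h1 : q ≠ r) (h2 : s ≠ p) (c d : F) :
    (SpecialLinearGroup.transvection hpq c : SpecialLinearGroup (Fin (m + 1)) F) * SpecialLinearGroup.transvection hrs d =
      SpecialLinearGroup.transvection hrs d * SpecialLinearGroup.transvection hpq c := by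
  apply Subtype.ext
  rw [Matrix.SpecialLinearGroup.coe_mul, Matrix.SpecialLinearGroup.coe_mul, Matrix.SpecialLinearGroup.transvection_coe,
    Matrix.SpecialLinearGroup.transvection_coe, Matrix.mul_add, Matrix.add_mul, Matrix.add_mul, Matrix.mul_add,
    Matrix.add_mul, Matrix.add_mul, single_mul_single_of_ne _ _ _ _ h1, single_mul_single_of_ne _ _ _ _ h2]
  simp only [Matrix.one_mul, Matrix.mul_one]
  abel

/-- reflections at distance at least two commute -/
theorem slRef_commute (i j : Fin m) (h : (i : ℕ) + 1 < j ∨ (j : ℕ) + 1 < i) :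
    (slRef i : SpecialLinearGroup (Fin (m + 1)) F) * slRef j = slRef j * slRef i := by
  have h1 : i.castSucc ≠ j.castSucc := fun e => by
    have := congrArg (fun x : Fin (m + 1) => (x : ℕ)) e
    simp only [Fin.val_castSucc] at this
    omega
  have h2 : i.castSucc ≠ j.succ := fun e => by
    have := congrArg (fun x : Fin (m + 1) => (x : ℕ)) e
    simp only [Fin.val_castSucc, Fin.val_succ] at this
    omega
  have h3 : i.succ ≠ j.castSucc := fun e => by
    have := congrArg (fun x : Fin (m + 1) => (x : ℕ)) e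
    simp only [Fin.val_castSucc, Fin.val_succ] at this
    omega
  have h4 : i.succ ≠ j.succ := fun e => by
    have := congrArg (fun x : Fin (m + 1) => (x : ℕ)) e
    simp only [Fin.val_succ] at this
    omega
  have cxx : ∀ c d : F, Commute (xR i c) (xR j d) := fun c d =>
    transvection_commute _ _ h3 h2.symm c d
  have cxy : ∀ c d : F, Commute (xR i c) (yR j d) := fun c d =>
    transvection_commute _ _ h4 h1.symm c d
  have cyx : ∀ c d : F, Commute (yR i c) (xR j d) := fun c d =>
    transvection_commute _ _ h1 h4.symm c d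
  have cyy : ∀ c d : F, Commute (yR i c) (yR j d) := fun c d =>
    transvection_commute _ _ h2 h3.symm c d
  have hx : ∀ c : F, Commute (xR i c) (slRef j : SpecialLinearGroup (Fin (m + 1)) F) := by
    intro c
    unfold slRef wEl
    exact ((cxx c _).mul_right (cxy c _)).mul_right (cxx c _)
  have hy : ∀ c : F, Commute (yR i c) (slRef j : SpecialLinearGroup (Fin (m + 1)) F) := by
    intro c
    unfold slRef wEl
    exact ((cyx c _).mul_right (cyy c _)).mul_right (cyx c _)
  have : Commute (slRef i : SpecialLinearGroup (Fin (m + 1)) F) (slRef j) := by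
    show Commute (wEl i 1) (slRef j)
    unfold wEl
    exact ((hx _).mul_left (hy _)).mul_left (hx _)
  exact this

/-- adjacent reflections do not commute modulo `B` -/
theorem slRef_commutator_not_mem (i j : Fin m) (h : (i : ℕ) + 1 = j) :
    (slRef i : SpecialLinearGroup (Fin (m + 1)) F) * slRef j * (slRef i)⁻¹ * (slRef j)⁻¹ ∉ slB m F := by
  intro hB
  have hN : (slRef i : SpecialLinearGroup (Fin (m + 1)) F) * slRef j * (slRef i)⁻¹ * (slRef j)⁻¹ ∈ slN (Fin (m + 1)) F :=
    (slN _ F).mul_mem ((slN _ F).mul_mem ((slN _ F).mul_mem (slRef_mem_slN i) (slRef_mem_slN j))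
      ((slN _ F).inv_mem (slRef_mem_slN i))) ((slN _ F).inv_mem (slRef_mem_slN j))
  have hT := slB_inf_slN_le ⟨hB, hN⟩
  have hP := (((slRef_hasPerm (F := F) i).mul (slRef_hasPerm (F := F) j)).mul (slRef_hasPerm (F := F) i).inv).mul
    (slRef_hasPerm (F := F) j).inv
  have h1 := HasPerm.unique hP hT
  rw [Equiv.swap_inv, Equiv.swap_inv] at h1
  -- evaluate at `j.succ`
  have e1 : j.castSucc = i.succ := Fin.ext (by simp only [Fin.val_castSucc, Fin.val_succ]; omega)
  have e2 : i.castSucc ≠ i.succ := castSucc_ne_succ i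
  have e3 : i.castSucc ≠ j.succ := fun e => by
    have := congrArg (fun x : Fin (m + 1) => (x : ℕ)) e
    simp only [Fin.val_castSucc, Fin.val_succ] at this
    omega
  have e4 : i.succ ≠ j.succ := fun e => by
    have := congrArg (fun x : Fin (m + 1) => (x : ℕ)) e
    simp only [Fin.val_succ] at this
    omega
  have h2 : (Equiv.swap i.castSucc i.succ * Equiv.swap j.castSucc j.succ * Equiv.swap i.castSucc i.succ *
      Equiv.swap j.castSucc j.succ) j.succ = i.succ := by
    rw [Equiv.Perm.mul_apply, Equiv.Perm.mul_apply, Equiv.Perm.mul_apply, Equiv.swap_apply_right, e1,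
      Equiv.swap_apply_right, Equiv.swap_apply_of_ne_of_ne e2 e3, Equiv.swap_apply_left]
  rw [h1, Equiv.Perm.one_apply] at h2
  exact e4 h2.symm

end Cfsg.Agent.Lib.H18.SLBN
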