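/-
S2937 (architect helper3), pieces PSL2, PSL3T, PSL (helper18): the split (B,N)-pair `slBN` of `SL_{m+1}(F)` pushed to `PSL`.
`pm_PSL2` (rank one), `pm_PSL3_two` (rank two, listed), `pm_PSL` (`n = 3`, `p` odd: rank two odd; `n ≥ 4`: leaf).
-/
import Mathlib
import Cfsg.Agent.Lib.H3.PMinBN
import Cfsg.Agent.Lib.H18.SLBNd

set_option autoImplicit false
set_option linter.unusedSectionVars false
set_option linter.unusedVariables false

namespace Cfsg.Agent.Lib.H18.PM

open Cfsg Cfsg.Agent.Lib.H3.PMin Cfsg.Agent.Lib.H18.SLBN Cfsg.Agent.Lib.H2.BN Matrix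

variable {m : ℕ} {F : Type*} [Field F]

/-- the split data of `slBN` -/
theorem slSpl (m : ℕ) (F : Type*) [Field F] [Fintype F] (p : ℕ) [Fact p.Prime] [CharP F p] :
    Spl p (slBN m F) (slT (Fin (m + 1)) F) (slU m F) where
  hTB := slT_le_slB
  hNT := by
    intro n hn t ht
    have := slN_conj_slT ((slN (Fin (m + 1)) F).inv_mem hn) ht
    rwa [inv_inv] at this
  hUB := slU_le_slB
  hBTU := slB_eq_slT_mul_slU
  hUn := fun b hb u hu => slB_conj_slU hb hu
  hU := slU_isPGroup p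
  hTp := fun t ht => slT_orderOf_coprime p ht

/-- the centre of `SL` lies in `B` -/
theorem center_le_slB : Subgroup.center (SpecialLinearGroup (Fin (m + 1)) F) ≤ slB m F := by
  intro g hg
  rw [Matrix.SpecialLinearGroup.mem_center_iff] at hg
  obtain ⟨r, _, hr⟩ := hg
  rw [mem_slB_iff, ← hr]
  intro k l hkl
  rw [Matrix.scalar_apply, Matrix.diagonal_apply_ne]
  intro h
  rw [h] at hkl
  exact lt_irrefl _ hkl

theorem ker_mk_le_B :
    (QuotientGroup.mk' (Subgroup.center (SpecialLinearGroup (Fin (m + 1)) F))).ker ≤ (slBN m F).B := by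
  rw [QuotientGroup.ker_mk']
  exact center_le_slB

/-- a monomial element with nontrivial permutation is not in `B` -/
theorem not_mem_slB_of_hasPerm {g : SpecialLinearGroup (Fin (m + 1)) F} {σ : Equiv.Perm (Fin (m + 1))}
    (hP : HasPerm g σ) (hσ : σ ≠ 1) : g ∉ slB m F := by
  intro hB
  have hT := slB_inf_slN_le ⟨hB, ⟨σ, hP⟩⟩
  exact hσ (HasPerm.unique hP hT)

theorem swap_adj_not_commute (i j : Fin m) (h : (i : ℕ) + 1 = j) :
    Equiv.swap i.castSucc i.succ * Equiv.swap j.castSucc j.succ ≠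
      Equiv.swap j.castSucc j.succ * Equiv.swap i.castSucc i.succ := by
  intro he
  have e1 : j.castSucc = i.succ := Fin.ext (by simp only [Fin.val_castSucc, Fin.val_succ]; omega)
  have e2 : i.castSucc ≠ i.succ := castSucc_ne_succ i
  have e3 : j.succ ≠ i.castSucc := fun e => by
    have := congrArg (fun x : Fin (m + 1) => (x : ℕ)) e
    simp only [Fin.val_castSucc, Fin.val_succ] at this
    omega
  have e4 : j.succ ≠ i.succ := fun e => by
    have := congrArg (fun x : Fin (m + 1) => (x : ℕ)) e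
    simp only [Fin.val_succ] at this
    omega
  have h1 := congrArg (fun σ : Equiv.Perm (Fin (m + 1)) => σ j.succ) he
  simp only [Equiv.Perm.mul_apply] at h1
  rw [Equiv.swap_apply_right, e1, Equiv.swap_apply_right, Equiv.swap_apply_of_ne_of_ne e3 e4, ← e1,
    Equiv.swap_apply_right, e1] at h1
  exact e2 h1

/-- adjacent reflections do not commute modulo `B` -/
theorem slRef_not_eqv (i j : Fin m) (h : (i : ℕ) + 1 = j ∨ (j : ℕ) + 1 = i) :
    ¬ Eqv (slBN m F) (slRef i * slRef j) (slRef j * slRef i) := by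
  intro hE
  have hi := slRef_hasPerm (F := F) i
  have hj := slRef_hasPerm (F := F) j
  have hP := (hi.mul hj).inv.mul (hj.mul hi)
  apply not_mem_slB_of_hasPerm hP _ hE
  intro h1
  rw [inv_mul_eq_one] at h1
  rcases h with h | h
  · exact swap_adj_not_commute i j h h1
  · exact swap_adj_not_commute j i h h1.symm

theorem slRef_ne (i j : Fin m) (h : i ≠ j) : (slRef i : SpecialLinearGroup (Fin (m + 1)) F) ≠ slRef j := by
  intro he
  apply h
  apply slRef_injective (F := F) i j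
  rw [he, inv_mul_cancel]
  exact (slB m F).one_mem

/-- PSL2 -/
theorem pm_PSL2 (F : Type*) [Field F] [Fintype F] (p : ℕ) [Fact p.Prime] [CharP F p] (h4 : 4 ≤ Fintype.card F) :
    PMinR1 p (Matrix.ProjectiveSpecialLinearGroup (Fin 2) F) := by
  refine pminR1_of_bn (slSpl 1 F p) (QuotientGroup.mk' (Subgroup.center (SpecialLinearGroup (Fin (1 + 1)) F)))
    (QuotientGroup.mk'_surjective _) ker_mk_le_B (slRef (0 : Fin 1)) ?_
  rw [slBN_S]
  unfold slS
  ext x
  constructor
  · rintro ⟨j, rfl⟩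
    rw [Subsingleton.elim j 0]
    rfl
  · rintro rfl
    exact ⟨0, rfl⟩

theorem slS_two : (slBN 2 F).S = {slRef (0 : Fin 2), slRef (1 : Fin 2)} := by
  rw [slBN_S]
  unfold slS
  ext x
  constructor
  · rintro ⟨j, rfl⟩
    fin_cases j
    · exact Or.inl rfl
    · exact Or.inr rfl
  · rintro (rfl | rfl)
    · exact ⟨0, rfl⟩
    · exact ⟨1, rfl⟩

/-- PSL3T: `PSL₃(2ᵉ)`, `e ≥ 1` -/
theorem pm_PSL3_two (F : Type*) [Field F] [Fintype F] [CharP F 2] :
    PMinR2 2 (Matrix.ProjectiveSpecialLinearGroup (Fin 3) F) :=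
  pminR2_of_bn (slSpl 2 F 2) (QuotientGroup.mk' (Subgroup.center (SpecialLinearGroup (Fin (2 + 1)) F)))
    (QuotientGroup.mk'_surjective _) ker_mk_le_B (slRef (0 : Fin 2)) (slRef (1 : Fin 2))
    (slRef_ne _ _ (by decide)) slS_two

/-- PSL: rank `n - 1 ≥ 2`, not (`n = 3`, `p = 2`) -/
theorem pm_PSL (F : Type*) [Field F] [Fintype F] (p : ℕ) [Fact p.Prime] [CharP F p] (n : ℕ) (hn : 3 ≤ n)
    (h32 : ¬ (n = 3 ∧ p = 2)) : PMinBad p (Matrix.ProjectiveSpecialLinearGroup (Fin n) F) := by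
  obtain ⟨m, rfl⟩ : ∃ m, n = m + 1 := ⟨n - 1, by omega⟩
  by_cases hm2 : m = 2
  · subst hm2
    have hp : p ≠ 2 := fun hp => h32 ⟨rfl, hp⟩
    exact pminBad_of_rank_two_odd (slSpl 2 F p)
      (QuotientGroup.mk' (Subgroup.center (SpecialLinearGroup (Fin (2 + 1)) F)))
      (QuotientGroup.mk'_surjective _) ker_mk_le_B (slRef (0 : Fin 2)) (slRef (1 : Fin 2))
      (slRef_ne _ _ (by decide)) slS_two hp
  · have hm3 : 3 ≤ m := by omega
    set i0 : Fin m := ⟨0, by omega⟩ with hi0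
    set i1 : Fin m := ⟨1, by omega⟩ with hi1
    set i2 : Fin m := ⟨2, by omega⟩ with hi2
    have h01 : i0 ≠ i1 := fun e => by
      have := congrArg (fun x : Fin m => (x : ℕ)) e
      simp [hi0, hi1] at this
    have h02 : i0 ≠ i2 := fun e => by
      have := congrArg (fun x : Fin m => (x : ℕ)) e
      simp [hi0, hi2] at this
    refine pminBad_of_leaf (slSpl m F p)
      (QuotientGroup.mk' (Subgroup.center (SpecialLinearGroup (Fin (m + 1)) F)))
      (QuotientGroup.mk'_surjective _) ker_mk_le_B (slRef i0) (slRef i1) (slRef i2)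
      ⟨i0, rfl⟩ ⟨i1, rfl⟩ ⟨i2, rfl⟩ (slRef_ne _ _ h01) (slRef_ne _ _ h02) ?_ ?_ ?_
    · rintro _ ⟨j, rfl⟩ hj0 hj1
      have hj0' : j ≠ i0 := fun e => hj0 (by rw [e])
      have hj1' : j ≠ i1 := fun e => hj1 (by rw [e])
      have hj : (i0 : ℕ) + 1 < j := by
        have a0 : (j : ℕ) ≠ 0 := fun e => hj0' (Fin.ext e)
        have a1 : (j : ℕ) ≠ 1 := fun e => hj1' (Fin.ext e)
        simp only [hi0]
        omega
      rw [slRef_commute i0 j (Or.inl hj)]
      exact Eqv.refl _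
    · exact slRef_not_eqv i1 i0 (Or.inr (by simp [hi0, hi1]))
    · exact slRef_not_eqv i1 i2 (Or.inl (by simp [hi1, hi2]))

end Cfsg.Agent.Lib.H18.PM
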