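/-
S2937 (architect helper3), piece PSU33 (helper18, twin): generic part.  In a finite simple group `K` a subgroup `U` with
nontrivial centre, such that some `g₁` normalizes `Z(U)`, some `g₂` normalizes `C_U({x² | x ∈ U})` and `⟨U, g₁, g₂⟩ = K`,
satisfies `BadAt p K U`: the two normalizers are proper (simplicity), contain `U`, generate `K` and are invariant under every
automorphism stabilizing `U`.
-/
import Mathlib
import Cfsg.Agent.Lib.H3.PMinBN

set_option autoImplicit false

namespace Cfsg.Agent.Lib.H18.PM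

open Cfsg Subgroup Cfsg.Agent.Lib.H3.PMin

variable {K : Type*} [Group K]

/-- the set of squares of `U` -/
def sqSet (U : Subgroup K) : Set K := {y | ∃ x ∈ U, y = x * x}

/-- `C_U({x² | x ∈ U})` -/
def sqCent (U : Subgroup K) : Subgroup K := U ⊓ centralizer (sqSet U)

theorem mem_sqCent {U : Subgroup K} {x : K} :
    x ∈ sqCent U ↔ x ∈ U ∧ ∀ u ∈ U, (u * u) * x = x * (u * u) := by
  unfold sqCent sqSet
  rw [Subgroup.mem_inf, mem_centralizer_iff]
  constructor
  · rintro ⟨h1, h2⟩
    exact ⟨h1, fun u hu => h2 _ ⟨u, hu, rfl⟩⟩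
  · rintro ⟨h1, h2⟩
    refine ⟨h1, ?_⟩
    rintro _ ⟨u, hu, rfl⟩
    exact h2 u hu

theorem sqCent_le (U : Subgroup K) : sqCent U ≤ U := inf_le_left

theorem center_le_sqCent (U : Subgroup K) : U ⊓ centralizer (U : Set K) ≤ sqCent U := by
  rintro x ⟨hxU, hxC⟩
  rw [mem_sqCent]
  refine ⟨hxU, fun u hu => ?_⟩
  exact mem_centralizer_iff.mp hxC (u * u) (U.mul_mem hu hu)

/-- `C_U(squares)` is canonical -/
theorem sqCent_canonical (U : Subgroup K) (φ : K ≃* K) (hφ : U.map φ.toMonoidHom = U) :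
    (sqCent U).map φ.toMonoidHom = sqCent U := by
  have half : ∀ ψ : K ≃* K, U.map ψ.toMonoidHom = U → (sqCent U).map ψ.toMonoidHom ≤ sqCent U := by
    intro ψ hψ
    rintro _ ⟨x, hx, rfl⟩
    have hx' : x ∈ sqCent U := hx
    rw [mem_sqCent] at hx' ⊢
    obtain ⟨hxU, hxS⟩ := hx'
    refine ⟨?_, ?_⟩
    · rw [← hψ]; exact ⟨x, hxU, rfl⟩
    · intro u hu
      rw [← hψ] at hu
      obtain ⟨v, hv, rfl⟩ := hu
      have := hxS v hv
      show (ψ v * ψ v) * ψ x = ψ x * (ψ v * ψ v)
      simp only [← map_mul]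
      rw [this]
  apply le_antisymm (half φ hφ)
  have hsymm : U.map φ.symm.toMonoidHom = U := by
    conv_lhs => rw [← hφ]
    rw [Subgroup.map_map]
    have : φ.symm.toMonoidHom.comp φ.toMonoidHom = MonoidHom.id K := by
      ext x; simp
    rw [this, Subgroup.map_id]
  intro x hx
  refine ⟨φ.symm x, half φ.symm hsymm ⟨x, hx, rfl⟩, by simp⟩

/-- a canonical subgroup of `U` is normalized by `U` -/
theorem le_normalizer_of_canonical (U C : Subgroup K)
    (hC : ∀ φ : K ≃* K, U.map φ.toMonoidHom = U → C.map φ.toMonoidHom = C) :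
    U ≤ normalizer (C : Set K) := by
  intro u hu
  apply mem_normalizer_of_map_conj_eq
  apply hC
  exact map_conj_eq_of_mem_normalizer (Subgroup.le_normalizer hu)

/-- **the criterion** -/
theorem badAt_of_canonical [Finite K] [IsSimpleGroup K] (p : ℕ) (U : Subgroup K) (hU2 : U ≠ ⊤)
    (z : K) (hz : z ∈ U ⊓ centralizer (U : Set K)) (hz1 : z ≠ 1) (g₁ g₂ : K)
    (hg₁ : g₁ ∈ normalizer ((U ⊓ centralizer (U : Set K) : Subgroup K) : Set K))
    (hg₂ : g₂ ∈ normalizer ((sqCent U : Subgroup K) : Set K))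
    (hgen : U ⊔ closure {g₁, g₂} = ⊤) : BadAt p K U := by
  intro A _ hfix
  have hUbot : U ≠ ⊥ := by
    intro h
    have : z ∈ U := hz.1
    rw [h, Subgroup.mem_bot] at this
    exact hz1 this
  have hC1bot : U ⊓ centralizer (U : Set K) ≠ ⊥ := by
    intro h
    rw [h, Subgroup.mem_bot] at hz
    exact hz1 hz
  have hC1top : U ⊓ centralizer (U : Set K) ≠ ⊤ := by
    intro h
    apply hU2
    rw [eq_top_iff, ← h]
    exact inf_le_left
  have hC2bot : sqCent U ≠ ⊥ := by
    intro h
    have := center_le_sqCent U hz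
    rw [h, Subgroup.mem_bot] at this
    exact hz1 this
  have hC2top : sqCent U ≠ ⊤ := by
    intro h
    apply hU2
    rw [eq_top_iff, ← h]
    exact sqCent_le U
  have hU1 : U ≤ normalizer ((U ⊓ centralizer (U : Set K) : Subgroup K) : Set K) :=
    le_normalizer_of_canonical U _ (center_canonical U)
  have hU2' : U ≤ normalizer ((sqCent U : Subgroup K) : Set K) :=
    le_normalizer_of_canonical U _ (sqCent_canonical U)
  refine ⟨normalizer_ne_top_of_simple U hUbot hU2, normalizer ((U ⊓ centralizer (U : Set K) : Subgroup K) : Set K),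
    normalizer ((sqCent U : Subgroup K) : Set K), hU1, hU2', normalizer_ne_top_of_simple _ hC1bot hC1top,
    normalizer_ne_top_of_simple _ hC2bot hC2top, ?_, ?_⟩
  · rw [eq_top_iff, ← hgen]
    apply sup_le (hU1.trans le_sup_left)
    rw [Subgroup.closure_le]
    rintro x (rfl | rfl)
    · exact (le_sup_left : _ ≤ _ ⊔ normalizer ((sqCent U : Subgroup K) : Set K)) hg₁
    · exact (le_sup_right : normalizer ((sqCent U : Subgroup K) : Set K) ≤ _) hg₂
  · intro φ hφ
    constructor
    · rw [Subgroup.map_equiv_normalizer_eq]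
      congr 2
      exact center_canonical U φ (hfix φ hφ)
    · rw [Subgroup.map_equiv_normalizer_eq]
      congr 2
      exact sqCent_canonical U φ (hfix φ hφ)

end Cfsg.Agent.Lib.H18.PM
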