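/-
S2937 piece PSU33 (helper18, twin): tables for `U₃(3) ≅ G₂(2)'` acting on 63 points (helper14's model of S1057).
Generators `a₀ = x_b`, `a₁ = x_a x_{a+b}`, `a₂ = x_{-a} x_a`, `a₃ = x_{-b}` as words in the twelve root involutions; the Sylow
2-subgroup `U₀ = ⟨a₀, a₁⟩` (32 words), its centre `⟨z⟩`, `z = a₁a₀a₁a₀`, the centralizer `J` of the squares, and the unitary
transvections as words in `a₀, …, a₃`.  Generated by a script; all checks by kernel evaluation.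
-/
import Mathlib
import Cfsg.Agent.Lib.H14.U3Tab

set_option autoImplicit false
set_option maxRecDepth 100000

namespace Cfsg.Agent.Lib.H18.PMU33

open Cfsg.Agent.Lib.H14 Cfsg.Agent.Lib.H14.F9 Cfsg.Agent.Lib.H14.G2Tab Cfsg.Agent.Lib.H14.U3Tab

/-- the four generators as words in the root involutions -/
def gw : Fin 4 → List (Fin 12) := ![[6], [7, 8], [4, 7], [5]]

/-- a word in the four generators as a word in the root involutions -/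
def flat (v : List (Fin 4)) : List (Fin 12) := v.flatMap gw

/-- two words give the same permutation -/
def weq (v v' : List (Fin 4)) : Prop := ∀ i : Fin 63, wp (flat v) i = wp (flat v') i

instance (v v' : List (Fin 4)) : Decidable (weq v v') := by unfold weq; infer_instance

/-- the 32 elements of `U₀` as words in `a₀, a₁` -/
def Lv : Fin 32 → List (Fin 4) :=
  ![[],
    [0],
    [1],
    [1, 0],
    [0, 1],
    [1, 1],
    [0, 1, 0],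
    [1, 1, 0],
    [1, 0, 1],
    [0, 1, 1],
    [1, 1, 1],
    [1, 0, 1, 0],
    [0, 1, 1, 0],
    [1, 1, 1, 0],
    [1, 1, 0, 1],
    [1, 0, 1, 1],
    [0, 1, 1, 1],
    [1, 1, 0, 1, 0],
    [1, 0, 1, 1, 0],
    [0, 1, 1, 1, 0],
    [1, 1, 1, 0, 1],
    [1, 1, 0, 1, 1],
    [1, 0, 1, 1, 1],
    [1, 1, 1, 0, 1, 0],
    [1, 1, 0, 1, 1, 0],
    [1, 0, 1, 1, 1, 0],
    [1, 1, 1, 0, 1, 1],
    [1, 1, 0, 1, 1, 1],
    [1, 1, 1, 0, 1, 1, 0],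
    [1, 1, 0, 1, 1, 1, 0],
    [1, 1, 1, 0, 1, 1, 1],
    [1, 1, 1, 0, 1, 1, 1, 0]]

/-- left multiplication by `a₀` on `U₀` -/
def mt0 : Fin 32 → Fin 32 :=
  ![1, 0, 4, 6, 2, 9, 3, 12, 11, 5, 16, 8, 7, 19, 18, 17, 10, 15, 14, 13, 25, 24, 23, 22, 21, 20, 29, 28, 27, 26, 31, 30]

/-- left multiplication by `a₁` on `U₀` -/
def mt1 : Fin 32 → Fin 32 :=
  ![2, 3, 5, 7, 8, 10, 11, 13, 14, 15, 0, 17, 18, 1, 20, 21, 22, 23, 24, 25, 4, 26, 27, 6, 28, 29, 9, 30, 12, 31, 16, 19]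

/-- the generator of the centre of `U₀` -/
def zv : List (Fin 4) := [1, 0, 1, 0]

/-- membership in `J = C_{U₀}(squares)` -/
def jb : Fin 32 → Bool :=
  ![true, false, true, false, false, true, true, false, false, false, true, true, true, false, false, false, false, true, true, true, false, false, false, true, true, true, false, false, true, true, false, true]

/-- conjugation by `a₃` on `J` -/
def cj3 : Fin 32 → Fin 32 :=
  ![0, 0, 25, 0, 0, 24, 19, 0, 0, 0, 23, 18, 12, 0, 0, 0, 0, 17, 11, 6, 0, 0, 0, 10, 5, 2, 0, 0, 31, 29, 0, 28]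

/-- the transvections `τ(k, i)` as words in the generators -/
def tvA : Fin 28 → List (Fin 4) :=
  ![[3, 2, 1, 1, 0, 3],
    [3, 0, 2, 2, 0, 3],
    [3, 2, 2, 3, 1, 1, 1],
    [3, 2, 3],
    [1, 0, 3, 2, 0, 3, 0, 1],
    [2, 1, 2, 3, 2, 3, 1, 0],
    [0, 3, 2, 3, 0],
    [0, 3, 0, 2, 2, 0, 3, 0],
    [2, 2, 3, 2, 3, 1, 2],
    [2, 2, 1, 3, 2, 3, 2],
    [2, 2, 3, 2, 2, 3, 2],
    [2, 2, 3, 2, 0, 2, 3, 2, 0],
    [2, 2, 0, 3, 2, 2, 3, 0, 2],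
    [1, 2, 3, 2, 2, 3, 1, 0, 2],
    [1, 2, 3, 2, 3, 0, 2, 0],
    [2, 2, 0, 3, 2, 3, 1, 0, 2],
    [2, 1, 3, 2, 3, 2, 2],
    [2, 3, 2, 3, 1, 2, 2],
    [2, 1, 3, 2, 2, 3, 2, 1, 0],
    [2, 3, 2, 2, 3, 2, 2],
    [0, 1, 1, 2, 2],
    [2, 1, 0, 1],
    [0, 2, 3, 2, 2, 3, 2, 2, 0],
    [2, 0, 3, 2, 1, 3, 2, 0, 1],
    [2, 1, 0, 3, 2, 3, 2, 2, 0],
    [0, 2, 3, 2, 3, 1, 2, 2, 0],
    [0, 2, 0],
    [2, 2]]

/-- the transvections `τ(k, -i)` as words in the generators -/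
def tvB : Fin 28 → List (Fin 4) :=
  ![[3, 1, 2, 3, 0, 1, 0],
    [3, 2, 3, 1],
    [1, 3, 2, 3],
    [3, 2, 2, 3],
    [0, 1, 3, 2, 3, 0],
    [1, 0, 3, 2, 1, 3, 0],
    [0, 3, 2, 2, 3, 0],
    [0, 3, 2, 3, 1, 0],
    [1, 0, 2, 3, 2, 2, 3, 2],
    [1, 0, 2, 3, 2, 0, 2, 3, 2, 0],
    [2, 2, 3, 2, 3, 2],
    [2, 2, 3, 2, 0, 3, 2, 0],
    [2, 2, 0, 3, 2, 3, 0, 2],
    [1, 2, 3, 2, 3, 1, 0, 2],
    [2, 0, 2, 3, 2, 1, 3, 0, 2],
    [1, 2, 3, 2, 2, 3, 0, 2],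
    [2, 3, 2, 2, 3, 2, 1, 0],
    [2, 3, 1, 2, 3, 0, 2, 2, 0],
    [2, 1, 3, 2, 3, 2, 1, 0],
    [2, 3, 2, 3, 2, 2],
    [2, 1, 1, 0],
    [1, 1, 2, 2, 0],
    [0, 2, 3, 2, 3, 2, 2, 0],
    [2, 1, 0, 3, 2, 3, 2, 1],
    [0, 2, 3, 2, 2, 3, 2, 1],
    [2, 0, 3, 2, 3, 0, 2, 2],
    [0, 2, 2, 0],
    [2]]

/-- the generators as products of transvections -/
def tw : Fin 4 → List (Fin 28 × F9) :=
  ![[(15, e02), (13, e01), (12, e01)], [(1, e02), (0, e02)], [(27, e02)], [(23, e02), (13, e01), (9, e01)]]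

theorem Lv_zero : Lv 0 = [] := rfl

theorem Lv_letters : ∀ k : Fin 32, ∀ l ∈ Lv k, l = 0 ∨ l = 1 := by decide

set_option maxHeartbeats 8000000 in
theorem T1 : ∀ k : Fin 32, weq (0 :: Lv k) (Lv (mt0 k)) ∧ weq (1 :: Lv k) (Lv (mt1 k)) := by decide +kernel

set_option maxHeartbeats 8000000 in
theorem T2 : weq [0, 0] [] ∧ weq [1, 1, 1, 1] [] ∧ weq [3, 3] [] := by decide +kernel

set_option maxHeartbeats 8000000 in
theorem T3 : ∀ k k' : Fin 32, weq (Lv k) (Lv k') → k = k' := by decide +kernel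

set_option maxHeartbeats 8000000 in
theorem T4 : weq (zv ++ [0]) (0 :: zv) ∧ weq (zv ++ [1]) (1 :: zv) ∧ ¬ weq zv [] ∧ weq (2 :: zv) (zv ++ [2]) := by
  decide +kernel

set_option maxHeartbeats 8000000 in
theorem T5 : ∀ k : Fin 32, (weq (Lv k) [] ∨ weq (Lv k) zv ∨ weq (Lv k) (zv ++ zv) ∨ weq (Lv k) (zv ++ zv ++ zv)) ∨
    ¬ weq (Lv k ++ [0]) (0 :: Lv k) ∨ ¬ weq (Lv k ++ [1]) (1 :: Lv k) := by decide +kernel

set_option maxHeartbeats 16000000 in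
theorem T6 : ∀ k : Fin 32, jb k = true → ∀ k' : Fin 32, weq (Lv k' ++ Lv k' ++ Lv k) (Lv k ++ (Lv k' ++ Lv k')) := by
  decide +kernel

set_option maxHeartbeats 16000000 in
theorem T7 : ∀ k : Fin 32, jb k = false → ∃ k' : Fin 32, ¬ weq (Lv k' ++ Lv k' ++ Lv k) (Lv k ++ (Lv k' ++ Lv k')) := by
  decide +kernel

set_option maxHeartbeats 8000000 in
theorem T8 : ∀ k : Fin 32, jb k = true → jb (cj3 k) = true ∧ weq (3 :: (Lv k ++ [3])) (Lv (cj3 k)) := by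
  decide +kernel

set_option maxHeartbeats 8000000 in
theorem T9 : ∀ (k : Fin 28) (i : Fin 63), wp (wdA k) i = wp (flat (tvA k)) i ∧ wp (wdB k) i = wp (flat (tvB k)) i := by
  decide +kernel

set_option maxHeartbeats 8000000 in
theorem T10 : ∀ j : Fin 4, (∀ p ∈ tw j, p.2 + p.2 ^ 3 = 0) ∧ ∀ i : Fin 63, wp (gw j) i = tpw (tw j) i := by
  decide +kernel

theorem T11 : ∀ c : F9, c + c ^ 3 = 0 → c = 0 ∨ c = e01 ∨ c = e02 := by decide

end Cfsg.Agent.Lib.H18.PMU33
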