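/-
S2937 piece PSU33 (helper18, twin): `BadAt 2` for `K = rhoU.range ≅ SU₃(3)` (helper14's model on 63 points), from the tables of
`PMU33b` and the criterion `badAt_of_canonical` of `PMU33a`.
-/
import Mathlib
import Cfsg.Agent.Lib.H14.G2U3Main
import Cfsg.Agent.Lib.H18.PMU33a
import Cfsg.Agent.Lib.H18.PMU33b

set_option autoImplicit false
set_option linter.unusedSectionVars false
set_option linter.unusedVariables false

namespace Cfsg.Agent.Lib.H18.PMU33

open Cfsg Subgroup Cfsg.Agent.Lib.H3.PMin Cfsg.Agent.Lib.H18.PM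
open Cfsg.Agent.Lib.H14 Cfsg.Agent.Lib.H14.F9 Cfsg.Agent.Lib.H14.G2Tab Cfsg.Agent.Lib.H14.U3Tab
  Cfsg.Agent.Lib.H14.U3A Cfsg.Agent.Lib.H14.U3B Cfsg.Agent.Lib.H14.G2A Cfsg.Agent.Lib.H14.G2U3Main

/-- the permutation of a word in the root involutions -/
noncomputable def pw (w : List (Fin 12)) : Equiv.Perm (Fin 63) := rhoG (wel w)

theorem pw_apply (w : List (Fin 12)) (i : Fin 63) : pw w i = wp w i := rhoG_wel w i

theorem pw_nil : pw [] = 1 := by
  unfold pw wel
  rw [List.map_nil, List.prod_nil, map_one]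

theorem pw_append (w w' : List (Fin 12)) : pw (w ++ w') = pw w * pw w' := by
  unfold pw wel
  rw [List.map_append, List.prod_append, map_mul]

theorem pw_eq {w w' : List (Fin 12)} (h : ∀ i, wp w i = wp w' i) : pw w = pw w' :=
  Equiv.Perm.ext fun i => by rw [pw_apply, pw_apply, h i]

theorem pw_gw_mem (j : Fin 4) : pw (gw j) ∈ rhoU.range := by
  rw [range_rhoU]
  obtain ⟨h1, h2⟩ := T10 j
  obtain ⟨x, hx, hxi⟩ := tpw_mem (tw j) h1
  have : pw (gw j) = x := Equiv.Perm.ext fun i => by rw [pw_apply, hxi, h2 i]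
  rw [this]
  exact hx

/-- the group `≅ SU₃(3)` -/
abbrev KT : Type := ↥(rhoU.range)

/-- the four generators -/
noncomputable def a (j : Fin 4) : KT := ⟨pw (gw j), pw_gw_mem j⟩

/-- the value of a word in the generators -/
noncomputable def ev (v : List (Fin 4)) : KT := (v.map a).prod

theorem ev_nil : ev [] = 1 := rfl

theorem ev_cons (j : Fin 4) (v : List (Fin 4)) : ev (j :: v) = a j * ev v := by
  unfold ev
  rw [List.map_cons, List.prod_cons]

theorem ev_append (v v' : List (Fin 4)) : ev (v ++ v') = ev v * ev v' := by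
  unfold ev
  rw [List.map_append, List.prod_append]

theorem ev_singleton (j : Fin 4) : ev [j] = a j := by
  rw [ev_cons, ev_nil, mul_one]

theorem flat_nil : flat [] = [] := rfl

theorem flat_cons (j : Fin 4) (v : List (Fin 4)) : flat (j :: v) = gw j ++ flat v := by
  unfold flat
  rw [List.flatMap_cons]

theorem coe_ev (v : List (Fin 4)) : ((ev v : KT) : Equiv.Perm (Fin 63)) = pw (flat v) := by
  induction v with
  | nil => rw [ev_nil, flat_nil, pw_nil]; rfl
  | cons j v ih => rw [ev_cons, flat_cons, pw_append, Subgroup.coe_mul, ih]; rfl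

theorem ev_eq {v v' : List (Fin 4)} (h : weq v v') : ev v = ev v' :=
  Subtype.ext (by rw [coe_ev, coe_ev]; exact pw_eq h)

theorem weq_of_ev_eq {v v' : List (Fin 4)} (h : ev v = ev v') : weq v v' := by
  intro i
  have h1 : ((ev v : KT) : Equiv.Perm (Fin 63)) i = ((ev v' : KT) : Equiv.Perm (Fin 63)) i := by rw [h]
  rw [coe_ev, coe_ev, pw_apply, pw_apply] at h1
  exact h1

/-- the Sylow 2-subgroup -/
noncomputable def U0 : Subgroup KT := closure {a 0, a 1}

/-- its elements -/
noncomputable def L (k : Fin 32) : KT := ev (Lv k)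

theorem a0_mul_L (k : Fin 32) : a 0 * L k = L (mt0 k) := by
  unfold L
  rw [← ev_cons]
  exact ev_eq (T1 k).1

theorem a1_mul_L (k : Fin 32) : a 1 * L k = L (mt1 k) := by
  unfold L
  rw [← ev_cons]
  exact ev_eq (T1 k).2

theorem a0_sq : a 0 * a 0 = 1 := by
  have := ev_eq T2.1
  rw [ev_cons, ev_singleton, ev_nil] at this
  exact this

theorem a1_pow : a 1 * (a 1 * (a 1 * a 1)) = 1 := by
  have := ev_eq T2.2.1
  rw [ev_cons, ev_cons, ev_cons, ev_singleton, ev_nil] at this
  exact this

theorem a3_sq : a 3 * a 3 = 1 := by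
  have := ev_eq T2.2.2
  rw [ev_cons, ev_singleton, ev_nil] at this
  exact this

theorem a0_inv : (a 0)⁻¹ = a 0 := inv_eq_of_mul_eq_one_right a0_sq

theorem a3_inv : (a 3)⁻¹ = a 3 := inv_eq_of_mul_eq_one_right a3_sq

theorem a1_inv : (a 1)⁻¹ = a 1 * (a 1 * a 1) := inv_eq_of_mul_eq_one_right a1_pow

theorem L_zero : L 0 = 1 := by
  unfold L
  rw [Lv_zero]
  rfl

theorem L_injective : Function.Injective L := fun k k' h => T3 k k' (weq_of_ev_eq h)

theorem a0_mem : a 0 ∈ U0 := subset_closure (Set.mem_insert _ _)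

theorem a1_mem : a 1 ∈ U0 := subset_closure (Set.mem_insert_of_mem _ rfl)

theorem L_mem (k : Fin 32) : L k ∈ U0 := by
  unfold L ev
  apply Subgroup.list_prod_mem
  intro x hx
  rw [List.mem_map] at hx
  obtain ⟨l, hl, rfl⟩ := hx
  rcases Lv_letters k l hl with rfl | rfl
  · exact a0_mem
  · exact a1_mem

theorem mem_U0 {x : KT} (hx : x ∈ U0) : ∃ k, x = L k := by
  have key : ∀ k, ∃ k', x * L k = L k' := by
    unfold U0 at hx
    induction hx using Subgroup.closure_induction'' with
    | mem y hy =>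
      intro k
      rcases hy with rfl | rfl
      · exact ⟨_, a0_mul_L k⟩
      · exact ⟨_, a1_mul_L k⟩
    | inv_mem y hy =>
      intro k
      rcases hy with rfl | rfl
      · rw [a0_inv]; exact ⟨_, a0_mul_L k⟩
      · rw [a1_inv, mul_assoc, mul_assoc, a1_mul_L, a1_mul_L, a1_mul_L]; exact ⟨_, rfl⟩
    | one => intro k; exact ⟨k, one_mul _⟩
    | mul y y' _ _ ihy ihy' =>
      intro k
      obtain ⟨k1, h1⟩ := ihy' k
      obtain ⟨k2, h2⟩ := ihy k1
      exact ⟨k2, by rw [mul_assoc, h1, h2]⟩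
  obtain ⟨k, hk⟩ := key 0
  rw [L_zero, mul_one] at hk
  exact ⟨k, hk⟩

theorem mem_U0_iff {x : KT} : x ∈ U0 ↔ ∃ k, x = L k :=
  ⟨mem_U0, fun ⟨k, hk⟩ => hk ▸ L_mem k⟩

theorem card_U0 : Nat.card U0 = 32 := by
  have e : Fin 32 ≃ ↥U0 := Equiv.ofBijective (fun k => ⟨L k, L_mem k⟩)
    ⟨fun k k' h => L_injective (congrArg Subtype.val h),
      fun ⟨x, hx⟩ => by
        obtain ⟨k, hk⟩ := mem_U0 hx
        exact ⟨k, Subtype.ext hk.symm⟩⟩
  rw [← Nat.card_congr e, Nat.card_fin]

/-- the central element -/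
noncomputable def zel : KT := ev zv

theorem zel_comm_a0 : zel * a 0 = a 0 * zel := by
  have := ev_eq T4.1
  rw [ev_append, ev_singleton, ev_cons] at this
  exact this

theorem zel_comm_a1 : zel * a 1 = a 1 * zel := by
  have := ev_eq T4.2.1
  rw [ev_append, ev_singleton, ev_cons] at this
  exact this

theorem zel_ne_one : zel ≠ 1 := by
  intro h
  apply T4.2.2.1
  apply weq_of_ev_eq
  rw [ev_nil]
  exact h

theorem a2_comm_zel : a 2 * zel = zel * a 2 := by
  have := ev_eq T4.2.2.2
  rw [ev_append, ev_singleton, ev_cons] at this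
  exact this

theorem zel_mem : zel ∈ U0 := by
  unfold zel ev
  apply Subgroup.list_prod_mem
  intro x hx
  rw [List.mem_map] at hx
  obtain ⟨l, hl, rfl⟩ := hx
  have : l = 0 ∨ l = 1 := by
    revert l
    decide
  rcases this with rfl | rfl
  · exact a0_mem
  · exact a1_mem

theorem comm_of_mem_U0 {x y : KT} (hx : x * a 0 = a 0 * x) (hx1 : x * a 1 = a 1 * x) (hy : y ∈ U0) :
    y * x = x * y := by
  have : U0 ≤ centralizer {x} := by
    unfold U0
    rw [Subgroup.closure_le]
    rintro g (rfl | rfl)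
    · rw [SetLike.mem_coe, mem_centralizer_iff]
      rintro _ rfl
      exact hx
    · rw [SetLike.mem_coe, mem_centralizer_iff]
      rintro _ rfl
      exact hx1
  have h1 := mem_centralizer_iff.mp (this hy) x rfl
  exact h1.symm

theorem zel_mem_center : zel ∈ U0 ⊓ centralizer (U0 : Set KT) := by
  refine ⟨zel_mem, ?_⟩
  show zel ∈ centralizer (U0 : Set KT)
  rw [mem_centralizer_iff]
  intro y hy
  exact comm_of_mem_U0 zel_comm_a0 zel_comm_a1 hy

/-- the centre of `U₀` consists of the powers of `z` -/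
theorem center_cases {x : KT} (hx : x ∈ U0 ⊓ centralizer (U0 : Set KT)) :
    x = 1 ∨ x = zel ∨ x = zel * zel ∨ x = zel * zel * zel := by
  obtain ⟨hxU, hxC⟩ := hx
  obtain ⟨k, rfl⟩ := mem_U0 hxU
  have hc0 : a 0 * L k = L k * a 0 := mem_centralizer_iff.mp hxC (a 0) a0_mem
  have hc1 : a 1 * L k = L k * a 1 := mem_centralizer_iff.mp hxC (a 1) a1_mem
  rcases T5 k with (h | h | h | h) | h | h
  · left
    have := ev_eq h
    rw [ev_nil] at this
    exact this
  · right; left
    exact ev_eq h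
  · right; right; left
    have := ev_eq h
    rw [ev_append] at this
    exact this
  · right; right; right
    have := ev_eq h
    rw [ev_append, ev_append] at this
    exact this
  · exfalso
    apply h
    apply weq_of_ev_eq
    rw [ev_append, ev_singleton, ev_cons]
    exact hc0.symm
  · exfalso
    apply h
    apply weq_of_ev_eq
    rw [ev_append, ev_singleton, ev_cons]
    exact hc1.symm

theorem a2_comm_center {x : KT} (hx : x ∈ U0 ⊓ centralizer (U0 : Set KT)) : a 2 * x = x * a 2 := by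
  have hz := a2_comm_zel
  rcases center_cases hx with rfl | rfl | rfl | rfl
  · rw [mul_one, one_mul]
  · exact hz
  · rw [← mul_assoc, hz, mul_assoc, hz, mul_assoc]
  · rw [← mul_assoc, ← mul_assoc, hz, mul_assoc (zel) (a 2), hz, ← mul_assoc, mul_assoc (zel * zel) (a 2), hz,
      ← mul_assoc]

theorem a2_mem_normalizer : a 2 ∈ normalizer ((U0 ⊓ centralizer (U0 : Set KT) : Subgroup KT) : Set KT) := by
  rw [mem_normalizer_iff]
  intro h
  constructor
  · intro hh
    have : a 2 * h * (a 2)⁻¹ = h := by rw [a2_comm_center hh, mul_inv_cancel_right]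
    rw [this]
    exact hh
  · intro hh
    have h1 := a2_comm_center hh
    have : h = a 2 * h * (a 2)⁻¹ := by
      have h2 : a 2 * (a 2 * h * (a 2)⁻¹) * (a 2)⁻¹ = a 2 * h * (a 2)⁻¹ := by
        rw [h1, mul_inv_cancel_right]
      have h3 := mul_left_cancel (mul_right_cancel h2)
      exact h3.symm
    rw [this]
    exact hh

/-- membership in `J` -/
theorem L_mem_sqCent_iff (k : Fin 32) : L k ∈ sqCent U0 ↔ jb k = true := by
  rw [mem_sqCent]
  constructor
  · rintro ⟨_, h⟩
    by_contra hk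
    rw [Bool.not_eq_true] at hk
    obtain ⟨k', hk'⟩ := T7 k hk
    apply hk'
    apply weq_of_ev_eq
    rw [ev_append, ev_append, ev_append, ev_append]
    exact h (L k') (L_mem k')
  · intro hk
    refine ⟨L_mem k, ?_⟩
    intro u hu
    obtain ⟨k', rfl⟩ := mem_U0 hu
    have := ev_eq (T6 k hk k')
    rw [ev_append, ev_append, ev_append, ev_append] at this
    exact this

theorem a3_conj_mem {x : KT} (hx : x ∈ sqCent U0) : a 3 * x * (a 3)⁻¹ ∈ sqCent U0 := by
  obtain ⟨k, rfl⟩ := mem_U0 (sqCent_le U0 hx)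
  have hk := (L_mem_sqCent_iff k).mp hx
  obtain ⟨h1, h2⟩ := T8 k hk
  have := ev_eq h2
  rw [ev_cons, ev_append, ev_singleton] at this
  have e : a 3 * L k * (a 3)⁻¹ = L (cj3 k) := by
    rw [a3_inv, mul_assoc]
    exact this
  rw [e]
  exact (L_mem_sqCent_iff _).mpr h1

theorem a3_mem_normalizer : a 3 ∈ normalizer ((sqCent U0 : Subgroup KT) : Set KT) := by
  rw [mem_normalizer_iff]
  intro h
  constructor
  · exact a3_conj_mem
  · intro hh
    have := a3_conj_mem hh
    have e : a 3 * (a 3 * h * (a 3)⁻¹) * (a 3)⁻¹ = h := by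
      rw [a3_inv]
      calc a 3 * (a 3 * h * a 3) * a 3 = (a 3 * a 3) * h * (a 3 * a 3) := by group
        _ = h := by rw [a3_sq, one_mul, mul_one]
    rw [e] at this
    exact this

/-- generation -/
theorem ev_mem_closure (v : List (Fin 4)) : ev v ∈ U0 ⊔ closure {a 2, a 3} := by
  unfold ev
  apply Subgroup.list_prod_mem
  intro x hx
  rw [List.mem_map] at hx
  obtain ⟨l, _, rfl⟩ := hx
  have h01 : U0 ≤ U0 ⊔ closure {a 2, a 3} := le_sup_left
  have h23 : closure {a 2, a 3} ≤ U0 ⊔ closure {a 2, a 3} := le_sup_right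
  fin_cases l
  · exact h01 a0_mem
  · exact h01 a1_mem
  · exact h23 (subset_closure (Set.mem_insert _ _))
  · exact h23 (subset_closure (Set.mem_insert_of_mem _ rfl))

theorem gen_top : U0 ⊔ closure {a 2, a 3} = ⊤ := by
  rw [eq_top_iff]
  intro x _
  have hS : closure TauSet ≤ (U0 ⊔ closure {a 2, a 3}).map rhoU.range.subtype := by
    rw [Subgroup.closure_le]
    rintro _ ⟨k, c, hc, rfl⟩
    rcases T11 c hc with rfl | rfl | rfl
    · refine ⟨1, one_mem _, ?_⟩
      rw [map_one]
      refine Equiv.Perm.ext fun i => ?_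
      rw [tau_apply]
      rfl
    · refine ⟨ev (tvA k), ev_mem_closure _, ?_⟩
      refine Equiv.Perm.ext fun i => ?_
      rw [Subgroup.coe_subtype, coe_ev, pw_apply, tau_apply]
      exact ((T9 k i).1).symm
    · refine ⟨ev (tvB k), ev_mem_closure _, ?_⟩
      refine Equiv.Perm.ext fun i => ?_
      rw [Subgroup.coe_subtype, coe_ev, pw_apply, tau_apply]
      exact ((T9 k i).2).symm
  have hx : (x : Equiv.Perm (Fin 63)) ∈ closure TauSet := by
    rw [← range_rhoU]
    exact x.2
  obtain ⟨y, hy, hyx⟩ := hS hx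
  have : y = x := Subtype.ext hyx
  rw [← this]
  exact hy

end Cfsg.Agent.Lib.H18.PMU33
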