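/-
S2937 (architect helper3), piece PSU33 (helper18, twin): `PMinBad 2 (PSU 3 F 3)` for `|F| = 9`.
`PSU₃(3) ≅ SU₃(3) ≅ rhoU.range ≤ Perm (Fin 63)` (helper14's model of S1057), where `BadAt 2` holds for the explicit Sylow
2-subgroup `U₀ = ⟨a₀, a₁⟩` (`PMU33c`): `N(Z(U₀))` and `N(C_{U₀}(squares))` are canonical, proper and generate.
-/
import Mathlib
import Cfsg.Agent.Lib.H18.PMU33c
import Cfsg.Agent.Lib.H11.UnitarySimple6
import Cfsg.Agent.Lib.H28.OGU33b
import Cfsg.Agent.Lib.H3.CenterIso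
import Cfsg.Agent.Lib.H2.Spec5

set_option autoImplicit false

namespace Cfsg.Agent.Lib.H18.PM

open Cfsg Subgroup Cfsg.Agent.Lib.H3.PMin Cfsg.Agent.Lib.H18.PMU33
open Cfsg.Agent.Lib.H14 Cfsg.Agent.Lib.H14.U3A Cfsg.Agent.Lib.H14.U3B

/-- `rhoU.range ≅ PSU₃(3)` over the concrete field -/
noncomputable def eKT : KT ≃* Cfsg.PSU 3 F9 3 := by
  have e3 : SU3 ≃* ↥rhoU.range := MonoidHom.ofInjective rhoU_injective
  have e4 : SU3 ≃* Cfsg.PSU 3 F9 3 :=
    (QuotientGroup.quotientBot (G := SU3)).symm.trans (QuotientGroup.quotientMulEquivOfEq center_SU3.symm)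
  exact e3.symm.trans e4

theorem card_KT : Nat.card KT = 6048 := by
  rw [Nat.card_congr eKT.toEquiv]
  exact Cfsg.Agent.Lib.H28.OG.u33_card F9.card_eq

theorem simple_KT : IsSimpleGroup KT := by
  have hF' : Fintype.card F9 = 3 ^ 2 := by rw [F9.card_eq]; norm_num
  have hs : IsSimpleGroup (Cfsg.PSU 3 F9 3) :=
    Cfsg.Agent.Lib.H11.USimple.psu_simple hF' 3 (le_refl 3) (by omega)
  exact MulEquiv.isSimpleGroup eKT

theorem fact_6048 : (6048 : ℕ).factorization 2 = 5 := by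
  have h : (6048 : ℕ) = 2 ^ 5 * 189 := by norm_num
  rw [h, Nat.factorization_mul (by norm_num) (by norm_num), Nat.Prime.factorization_pow Nat.prime_two]
  simp
  exact Nat.factorization_eq_zero_of_not_dvd (by norm_num)

theorem pminBad_KT : PMinBad 2 KT := by
  haveI := simple_KT
  have hcard : Nat.card U0 = 2 ^ (Nat.card KT).factorization 2 := by
    rw [card_U0, card_KT, fact_6048]
    norm_num
  have hU2 : U0 ≠ ⊤ := by
    intro h
    have h1 := card_U0
    rw [h, Subgroup.card_top, card_KT] at h1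
    omega
  have hbad : BadAt 2 KT U0 :=
    badAt_of_canonical 2 U0 hU2 zel zel_mem_center zel_ne_one (a 2) (a 3) a2_mem_normalizer a3_mem_normalizer gen_top
  refine pminBad_of_one 2 (Sylow.ofCard U0 hcard) ?_
  rw [Sylow.coe_ofCard]
  exact hbad

/-- PSU33 (p = 2): `PSU₃(3) ≅ G₂(2)'` -/
theorem pm_PSU33 (F : Type*) [Field F] [Fintype F] (hF : Fintype.card F = 9) : PMinBad 2 (PSU 3 F 3) := by
  have eK : F ≃+* F9 := FiniteField.ringEquivOfCardEq (hF.trans F9.card_eq.symm)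
  have e2 : Cfsg.PSU 3 F 3 ≃* Cfsg.PSU 3 F9 3 :=
    Cfsg.Agent.Lib.H3.CenterIso.quotCenterCongr (Cfsg.Agent.Lib.H2.Spec.suEquiv eK 3 3)
  exact PMinBad.of_mulEquiv 2 (eKT.trans e2.symm) pminBad_KT

end Cfsg.Agent.Lib.H18.PM
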