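import Mathlib
import Cfsg.Prelude.Def_Characters
import Cfsg.Agent.Lib.H1.PQ2TRICK
import Cfsg.Agent.Lib.H24.CentralMod

/-!
# S4886 piece LAM (helper18): `q ∤ |Y : Y ∩ I_G(λ)|` for a `P₀`-invariant `λ ∈ Irr(N)`.
Exact signature of `tools/blueprints/S4886_sigs.lean` (`not_dvd_relIndex_stabilizer`), on top of
helper1's TRICK (`H1.PQ2.exists_pPrime_degree_over`).
-/

set_option autoImplicit false

namespace Cfsg.Agent.Lib.H18.PQ2

open Cfsg

/-- For `B` normal, `|B : A ∩ B|` divides `|G : A|`. -/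
theorem lam_relIndex_dvd_index {G : Type*} [Group G] [Finite G] (A B : Subgroup G) [B.Normal] :
    A.relIndex B ∣ A.index := by
  have h1 : (A ⊓ B).relIndex A * A.relIndex (A ⊔ B) = (A ⊓ B).relIndex (A ⊔ B) :=
    Subgroup.relIndex_mul_relIndex _ _ _ inf_le_left le_sup_left
  have h2 : (A ⊓ B).relIndex B * B.relIndex (A ⊔ B) = (A ⊓ B).relIndex (A ⊔ B) :=
    Subgroup.relIndex_mul_relIndex _ _ _ inf_le_right le_sup_right
  have h3 : B.relIndex (A ⊔ B) = B.relIndex A := Subgroup.relIndex_sup_right A B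
  have h4 : (A ⊓ B).relIndex A = B.relIndex A := Subgroup.inf_relIndex_left _ _
  have h5 : (A ⊓ B).relIndex B = A.relIndex B := Subgroup.inf_relIndex_right _ _
  rw [h3, ← h4, h5] at h2
  have hx : 0 < (A ⊓ B).relIndex A :=
    Nat.pos_of_ne_zero (Subgroup.index_ne_zero_of_finite (H := (A ⊓ B).subgroupOf A))
  have h6 : A.relIndex (A ⊔ B) = A.relIndex B := by
    apply Nat.eq_of_mul_eq_mul_left hx
    rw [h1, ← h2, mul_comm]
  rw [← h6]
  exact Subgroup.relIndex_dvd_index_of_le le_sup_left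

/-- For `N ≤ I` normal, `|Y N : Y N ∩ I| = |Y : Y ∩ I|` (Dedekind). -/
theorem lam_relIndex_sup {G : Type*} [Group G] [Finite G] (I Y N : Subgroup G) [N.Normal]
    (hNI : N ≤ I) : I.relIndex (Y ⊔ N) = I.relIndex Y := by
  have hded : I ⊓ (Y ⊔ N) = (I ⊓ Y) ⊔ N := by
    apply le_antisymm
    · rintro x ⟨hxI, hxYN⟩
      have hxYN' : x ∈ (↑(Y ⊔ N) : Set G) := hxYN
      rw [Subgroup.mul_normal, Set.mem_mul] at hxYN'
      obtain ⟨y, hy, n, hn, rfl⟩ := hxYN'
      have hyI : y ∈ I := by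
        have h : y = y * n * n⁻¹ := by group
        rw [h]; exact mul_mem hxI (inv_mem (hNI hn))
      exact mul_mem (Subgroup.mem_sup_left ⟨hyI, hy⟩) (Subgroup.mem_sup_right hn)
    · exact sup_le (inf_le_inf_left I le_sup_left) (le_inf hNI le_sup_right)
  have h1 : N.relIndex (I ⊓ (Y ⊔ N)) * (I ⊓ (Y ⊔ N)).relIndex (Y ⊔ N) = N.relIndex (Y ⊔ N) :=
    Subgroup.relIndex_mul_relIndex _ _ _ (le_inf hNI le_sup_right) inf_le_right
  rw [Subgroup.inf_relIndex_right, hded, Subgroup.relIndex_sup_right,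
    Subgroup.relIndex_sup_right] at h1
  have h2 : (N ⊓ Y).relIndex (I ⊓ Y) * (I ⊓ Y).relIndex Y = (N ⊓ Y).relIndex Y :=
    Subgroup.relIndex_mul_relIndex _ _ _ (inf_le_inf_right Y hNI) inf_le_right
  have h3 : (N ⊓ Y).relIndex (I ⊓ Y) = N.relIndex (I ⊓ Y) := by
    have h : N ⊓ Y = N ⊓ (I ⊓ Y) := by rw [← inf_assoc, inf_eq_left.2 hNI]
    rw [h, Subgroup.inf_relIndex_right]
  rw [h3, Subgroup.inf_relIndex_right, Subgroup.inf_relIndex_right] at h2
  have hx : 0 < N.relIndex (I ⊓ Y) :=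
    Nat.pos_of_ne_zero (Subgroup.index_ne_zero_of_finite (H := N.subgroupOf (I ⊓ Y)))
  apply Nat.eq_of_mul_eq_mul_left hx
  rw [h1, h2]

theorem not_dvd_relIndex_stabilizer {G : Type*} [Group G] [Finite G] (p q : ℕ) [Fact p.Prime]
    [Fact q.Prime] (N H Y P₀ I : Subgroup G) [N.Normal] (hNH : N ⊓ H = ⊥) (hNH' : N ⊔ H = ⊤)
    (hNab : ∀ a ∈ N, ∀ b ∈ N, a * b = b * a)
    (hYH : Y ≤ H) (hYn : ∀ h ∈ H, ∀ y ∈ Y, h * y * h⁻¹ ∈ Y)
    (hP₀H : P₀ ≤ H) (hP₀ : IsPGroup p P₀) (hP₀syl : ¬ p ∣ P₀.relIndex H)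
    (hyp : ∀ χ : IrrCharacter G, ¬ p ∣ charDegree (χ : G → ℂ) → ¬ q ∣ charDegree (χ : G → ℂ))
    (lam : IrrCharacter N)
    (hlam : ∀ s ∈ P₀, ∀ g g' : N, (g' : G) = s * g * s⁻¹ → (lam : N → ℂ) g' = (lam : N → ℂ) g)
    (hI : ∀ x : G, x ∈ I ↔
      ∀ g g' : N, (g' : G) = x * g * x⁻¹ → (lam : N → ℂ) g' = (lam : N → ℂ) g) :
    ¬ q ∣ (I ⊓ Y).relIndex Y := by
  classical
  haveI : Fintype G := Fintype.ofFinite G
  haveI : Fintype N := Fintype.ofFinite N
  have hp : p.Prime := Fact.out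
  -- `λ` is linear
  have hlam1 : charDegree (lam : N → ℂ) = 1 := by
    have h1 : (lam : N → ℂ) 1 = 1 := by
      apply Cfsg.Agent.Lib.H24.linear_of_commutator_ker lam.2
      intro a b
      have h : a * b * a⁻¹ * b⁻¹ = 1 := by
        have hc : a * b = b * a := Subtype.ext (hNab a a.2 b b.2)
        rw [hc]; group
      rw [h]
    exact Cfsg.Agent.Lib.H23.charDegree_eq_of_apply_one (by rw [h1]; simp)
  -- hypotheses of TRICK
  have hdisj : N ⊓ P₀ = ⊥ := by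
    apply le_bot_iff.1; rw [← hNH]; exact inf_le_inf_left N hP₀H
  have hcompl : Subgroup.IsComplement' N H := by
    apply Subgroup.isComplement'_of_disjoint_and_mul_eq_univ (disjoint_iff.2 hNH)
    rw [← Subgroup.normal_mul, hNH']; rfl
  have hcH : N.index = Nat.card H := hcompl.symm.index_eq_card
  have hidx : ¬ p ∣ (N ⊔ P₀).index := by
    have h1 : N.index = Nat.card P₀ * (N ⊔ P₀).index :=
      Cfsg.Agent.Lib.H1.PQ2.trick_index N P₀ hdisj
    have h2 : Nat.card (P₀.subgroupOf H) * P₀.relIndex H = Nat.card H :=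
      Subgroup.card_mul_index (P₀.subgroupOf H)
    have h3 : Nat.card (P₀.subgroupOf H) = Nat.card P₀ :=
      Nat.card_congr (Subgroup.subgroupOfEquivOfLe hP₀H).toEquiv
    rw [h3, ← hcH, h1] at h2
    have h4 : P₀.relIndex H = (N ⊔ P₀).index := Nat.eq_of_mul_eq_mul_left Nat.card_pos h2
    rw [← h4]; exact hP₀syl
  have hdeg : ¬ p ∣ charDegree (lam : N → ℂ) := by
    rw [hlam1]; exact fun h => hp.one_lt.ne' (Nat.dvd_one.1 h)
  obtain ⟨χ, hcon, hχp⟩ :=
    Cfsg.Agent.Lib.H1.PQ2.exists_pPrime_degree_over p N P₀ hP₀ hdisj hidx lam hdeg hlam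
  have hχq := hyp χ hχp
  have hdvd : (Cfsg.Agent.Lib.H23.inertia N (lam : N → ℂ)).index ∣ charDegree (χ : G → ℂ) :=
    Cfsg.Agent.Lib.H23.inertia_index_dvd_charDegree N χ.2 lam.2 hcon
  have hIeq : I = Cfsg.Agent.Lib.H23.inertia N (lam : N → ℂ) := by
    ext x
    rw [hI]
    constructor
    · intro h n
      exact h n ⟨x * n * x⁻¹, _⟩ rfl
    · intro h g g' hg'
      have e : g' = ⟨x * g * x⁻¹, (inferInstance : N.Normal).conj_mem g g.2 x⟩ :=
        Subtype.ext hg'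
      rw [e]; exact h g
  rw [← hIeq] at hdvd
  -- `N ≤ I`
  have hNI : N ≤ I := by
    intro x hx
    rw [hI]
    intro g g' hg'
    have h : g' = g := by
      apply Subtype.ext
      rw [hg', hNab x hx g g.2]; group
    rw [h]
  -- `Y ⊔ N` is normal in `G`
  have hKn : (Y ⊔ N).Normal := by
    rw [← Subgroup.normalizer_eq_top_iff, eq_top_iff, ← hNH']
    apply sup_le
    · exact le_trans le_sup_right Subgroup.le_normalizer
    · intro h hh
      apply Subgroup.mem_normalizer_fintype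
      intro k hk
      have hk' : k ∈ (↑(Y ⊔ N) : Set G) := hk
      rw [Subgroup.mul_normal, Set.mem_mul] at hk'
      obtain ⟨y, hy, n, hn, rfl⟩ := hk'
      have h1 : h * (y * n) * h⁻¹ = (h * y * h⁻¹) * (h * n * h⁻¹) := by group
      rw [h1]
      exact mul_mem (Subgroup.mem_sup_left (hYn h hh y hy))
        (Subgroup.mem_sup_right ((inferInstance : N.Normal).conj_mem n hn h))
  have h1 : (I ⊓ Y).relIndex Y = I.relIndex (Y ⊔ N) := by
    rw [Subgroup.inf_relIndex_right, lam_relIndex_sup I Y N hNI]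
  have h2 : I.relIndex (Y ⊔ N) ∣ I.index := lam_relIndex_dvd_index I (Y ⊔ N)
  rw [h1]
  exact fun h => hχq (dvd_trans h (dvd_trans h2 hdvd))

end Cfsg.Agent.Lib.H18.PQ2
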