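import Mathlib
import Cfsg.Prelude.Def_Solvable
import Cfsg.Agent.Lib.H1.SchurZassenhaus
import Cfsg.Agent.Lib.H22.PPrimeCore

/-!
# S4886 piece SPLIT (helper18): Frattini + Schur–Zassenhaus splitting over a minimal normal
abelian `p`-subgroup.  Exact signature of `tools/blueprints/S4886_sigs.lean` (`split_or_done`).
-/

set_option autoImplicit false

namespace Cfsg.Agent.Lib.H18.PQ2

open Cfsg
open scoped Pointwise

/-- Conjugacy of Hall complements of the abelian normal subgroup `N` inside `A ≥ N`. -/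
theorem split_conj_aux {G : Type*} [Group G] [Finite G] (N A Y Y' : Subgroup G) [N.Normal]
    (hNA : N ≤ A) (hNab : ∀ a ∈ N, ∀ b ∈ N, a * b = b * a)
    (hcop : (Nat.card N).Coprime (N.relIndex A))
    (hY : Y ≤ A) (hY' : Y' ≤ A) (hcY : Nat.card Y = N.relIndex A)
    (hcY' : Nat.card Y' = N.relIndex A) :
    ∃ n ∈ N, ∀ y ∈ Y', n⁻¹ * y * n ∈ Y := by
  haveI : (N.subgroupOf A).Normal := inferInstance
  have hcN : Nat.card (N.subgroupOf A) = Nat.card N :=
    Nat.card_congr (Subgroup.subgroupOfEquivOfLe hNA).toEquiv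
  have hcK : Nat.card (Y.subgroupOf A) = Nat.card Y :=
    Nat.card_congr (Subgroup.subgroupOfEquivOfLe hY).toEquiv
  have hcK' : Nat.card (Y'.subgroupOf A) = Nat.card Y' :=
    Nat.card_congr (Subgroup.subgroupOfEquivOfLe hY').toEquiv
  have hmul : Nat.card (N.subgroupOf A) * N.relIndex A = Nat.card A :=
    Subgroup.card_mul_index (N.subgroupOf A)
  have hK : Subgroup.IsComplement' (N.subgroupOf A) (Y.subgroupOf A) := by
    apply Subgroup.isComplement'_of_coprime
    · rw [hcK, hcY]; exact hmul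
    · rw [hcN, hcK, hcY]; exact hcop
  have hK' : Subgroup.IsComplement' (N.subgroupOf A) (Y'.subgroupOf A) := by
    apply Subgroup.isComplement'_of_coprime
    · rw [hcK', hcY']; exact hmul
    · rw [hcN, hcK', hcY']; exact hcop
  have hsolv : Group.IsSolvable (N.subgroupOf A) := by
    apply isSolvable_of_comm
    intro a b
    apply Subtype.ext
    apply Subtype.ext
    have := hNab (a : A) a.2 (b : A) b.2
    simpa using this
  have hcop' : (Nat.card (N.subgroupOf A)).Coprime (N.subgroupOf A).index := by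
    rw [hcN]; exact hcop
  obtain ⟨n, hn, hconj⟩ := Cfsg.Agent.Lib.H1.sz_conj_quotient hcop' hK hK' (Or.inl hsolv)
  refine ⟨(n : G), hn, fun y hy => ?_⟩
  have h1 : (⟨y, hY' hy⟩ : A) ∈ MulAut.conj n • (Y.subgroupOf A) := by
    rw [hconj]; exact hy
  rw [Subgroup.mem_pointwise_smul_iff_inv_smul_mem] at h1
  have h2 : ((MulAut.conj n)⁻¹ • (⟨y, hY' hy⟩ : A) : A) = n⁻¹ * ⟨y, hY' hy⟩ * n := by
    simp [MulAut.smul_def]
  rw [h2, Subgroup.mem_subgroupOf] at h1
  simpa using h1

/-- Frattini argument: `G = N · N_G(Y)` for a Hall complement `Y` of `N` in `A ⊴ G`. -/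
theorem split_frattini_aux {G : Type*} [Group G] [Finite G] (N A Y : Subgroup G) [N.Normal]
    [A.Normal] (hNA : N ≤ A) (hNab : ∀ a ∈ N, ∀ b ∈ N, a * b = b * a)
    (hcop : (Nat.card N).Coprime (N.relIndex A))
    (hY : Y ≤ A) (hcY : Nat.card Y = N.relIndex A) (g : G) :
    ∃ n ∈ N, ∃ h ∈ Subgroup.normalizer (Y : Set G), g = n * h := by
  set Y' : Subgroup G := Y.map (MulAut.conj g).toMonoidHom with hY'def
  have hY' : Y' ≤ A := by
    rintro _ ⟨y, hy, rfl⟩
    exact (inferInstance : A.Normal).conj_mem y (hY hy) g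
  have hcY' : Nat.card Y' = N.relIndex A := by
    rw [← hcY]
    exact Nat.card_congr
      (Y.equivMapOfInjective _ (MulAut.conj g).injective).toEquiv.symm
  obtain ⟨n, hn, hconj⟩ := split_conj_aux N A Y Y' hNA hNab hcop hY hY' hcY hcY'
  refine ⟨n, hn, n⁻¹ * g, ?_, by group⟩
  apply Subgroup.mem_normalizer_fintype
  intro y hy
  have hy' : g * y * g⁻¹ ∈ Y' := ⟨y, hy, by simp [MulAut.conj_apply]⟩
  have h3 := hconj _ hy'
  have h4 : n⁻¹ * g * y * (n⁻¹ * g)⁻¹ = n⁻¹ * (g * y * g⁻¹) * n := by group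
  rw [h4]; exact h3

theorem split_or_done {G : Type*} [Group G] [Finite G] (p q : ℕ) [Fact p.Prime] [Fact q.Prime]
    (hpq : p ≠ q) (hA : pPrimeCore p G = ⊥) (N : Subgroup G) [N.Normal] (hNp : IsPGroup p N)
    (hNab : ∀ a ∈ N, ∀ b ∈ N, a * b = b * a)
    (hNmin : ∀ M : Subgroup G, M.Normal → M ≤ N → M = ⊥ ∨ M = N)
    (hquot : ¬ q ∣ (pPrimeCore p (G ⧸ N)).index) :
    ¬ q ∣ Nat.card G ∨ ∃ H Y : Subgroup G, N ⊓ H = ⊥ ∧ N ⊔ H = ⊤ ∧ Y ≤ H ∧
      (∀ h ∈ H, ∀ y ∈ Y, h * y * h⁻¹ ∈ Y) ∧ (Nat.card Y).Coprime p ∧ ¬ q ∣ Y.relIndex H ∧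
      Y ⊓ Subgroup.centralizer (N : Set G) = ⊥ := by
  classical
  have hp : p.Prime := Fact.out
  have hq : q.Prime := Fact.out
  set O : Subgroup (G ⧸ N) := pPrimeCore p (G ⧸ N) with hO
  haveI hOn : O.Normal := Cfsg.Agent.Lib.H22.pPrimeCore_normal p
  have hOc : (Nat.card O).Coprime p := Cfsg.Agent.Lib.H22.card_pPrimeCore_coprime p
  have hOpos : 0 < Nat.card O := Nat.card_pos
  have hOidx : 0 < O.index := Nat.pos_of_ne_zero (Subgroup.index_ne_zero_of_finite)
  set A : Subgroup G := O.comap (QuotientGroup.mk' N) with hAdef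
  haveI hAn : A.Normal := inferInstance
  have hNA : N ≤ A := by
    intro x hx
    rw [hAdef, Subgroup.mem_comap]
    have : (QuotientGroup.mk' N) x = 1 := by
      rw [QuotientGroup.mk'_apply, QuotientGroup.eq_one_iff]; exact hx
    rw [this]; exact one_mem _
  have hNidx : N.index = Nat.card O * O.index := by
    rw [Subgroup.index_eq_card, ← Subgroup.card_mul_index O]
  have hrel : N.relIndex A = Nat.card O := by
    have h1 : N.relIndex A * A.index = N.index := Subgroup.relIndex_mul_index hNA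
    have h2 : A.index = O.index :=
      Subgroup.index_comap_of_surjective O (QuotientGroup.mk'_surjective N)
    rw [h2, hNidx] at h1
    exact Nat.eq_of_mul_eq_mul_right hOidx h1
  obtain ⟨k, hk⟩ := IsPGroup.exists_card_eq hNp
  have hcop : (Nat.card N).Coprime (N.relIndex A) := by
    rw [hrel, hk]
    exact Nat.Coprime.pow_left k hOc.symm
  -- Schur–Zassenhaus complement in `A`
  haveI : (N.subgroupOf A).Normal := inferInstance
  have hcN : Nat.card (N.subgroupOf A) = Nat.card N :=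
    Nat.card_congr (Subgroup.subgroupOfEquivOfLe hNA).toEquiv
  obtain ⟨Y₀, hY₀⟩ := Subgroup.exists_right_complement'_of_coprime
    (N := N.subgroupOf A) (by rw [hcN]; exact hcop)
  set Y : Subgroup G := Y₀.map A.subtype with hYdef
  have hYA : Y ≤ A := Subgroup.map_subtype_le Y₀
  have hcY : Nat.card Y = N.relIndex A := by
    have h1 : Nat.card Y = Nat.card Y₀ :=
      Nat.card_congr (Y₀.equivMapOfInjective _ A.subtype_injective).toEquiv.symm
    rw [h1]
    exact hY₀.symm.index_eq_card.symm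
  have hYp : (Nat.card Y).Coprime p := by rw [hcY, hrel]; exact hOc
  set H : Subgroup G := Subgroup.normalizer (Y : Set G) with hHdef
  have hdecomp : ∀ g : G, ∃ n ∈ N, ∃ h ∈ H, g = n * h :=
    fun g => split_frattini_aux N A Y hNA hNab hcop hYA hcY g
  have hsup : N ⊔ H = ⊤ := by
    rw [eq_top_iff]
    intro g _
    obtain ⟨n, hn, h, hh, rfl⟩ := hdecomp g
    exact mul_mem (Subgroup.mem_sup_left hn) (Subgroup.mem_sup_right hh)
  have hYH : Y ≤ H := Subgroup.le_normalizer
  have hHY : ∀ h ∈ H, ∀ y ∈ Y, h * y * h⁻¹ ∈ Y := fun h hh y hy =>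
    (Subgroup.mem_normalizer_iff.1 hh y).1 hy
  have hNHn : (N ⊓ H).Normal := by
    constructor
    intro x hx g
    obtain ⟨n, hn, h, hh, rfl⟩ := hdecomp g
    have hx1 : h * x * h⁻¹ ∈ N := (inferInstance : N.Normal).conj_mem x hx.1 h
    have hx2 : h * x * h⁻¹ ∈ H := mul_mem (mul_mem hh hx.2) (inv_mem hh)
    have h5 : n * h * x * (n * h)⁻¹ = h * x * h⁻¹ := by
      have hc := hNab n hn (h * x * h⁻¹) hx1
      calc n * h * x * (n * h)⁻¹ = n * (h * x * h⁻¹) * n⁻¹ := by group
        _ = (h * x * h⁻¹) * n * n⁻¹ := by rw [hc]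
        _ = h * x * h⁻¹ := by group
    rw [h5]; exact ⟨hx1, hx2⟩
  have hqN : ¬ q ∣ Nat.card N := by
    rw [hk]
    intro hdvd
    have := hq.dvd_of_dvd_pow hdvd
    exact hpq ((Nat.prime_dvd_prime_iff_eq hq hp).1 this).symm
  rcases hNmin (N ⊓ H) hNHn inf_le_left with h0 | h1
  · -- the split case
    right
    refine ⟨H, Y, h0, hsup, hYH, hHY, hYp, ?_, ?_⟩
    · -- `|H : Y| = |G/N : O_{p'}(G/N)|`
      have hcompl : Subgroup.IsComplement' N H := by
        apply Subgroup.isComplement'_of_disjoint_and_mul_eq_univ (disjoint_iff.2 h0)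
        rw [Set.eq_univ_iff_forall]
        intro g
        obtain ⟨n, hn, h, hh, rfl⟩ := hdecomp g
        exact Set.mul_mem_mul hn hh
      have hcH : N.index = Nat.card H := hcompl.symm.index_eq_card
      have hcYH : Nat.card (Y.subgroupOf H) = Nat.card Y :=
        Nat.card_congr (Subgroup.subgroupOfEquivOfLe hYH).toEquiv
      have h6 : Nat.card (Y.subgroupOf H) * Y.relIndex H = Nat.card H :=
        Subgroup.card_mul_index (Y.subgroupOf H)
      rw [hcYH, hcY, hrel, ← hcH, hNidx] at h6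
      have h7 : Y.relIndex H = O.index := Nat.eq_of_mul_eq_mul_left hOpos h6
      rw [h7]; exact hquot
    · -- `C_Y(N)` is a normal `p'`-subgroup of `G`
      set C : Subgroup G := Y ⊓ Subgroup.centralizer (N : Set G) with hCdef
      have hCn : C.Normal := by
        constructor
        intro x hx g
        obtain ⟨n, hn, h, hh, rfl⟩ := hdecomp g
        have hx1 : h * x * h⁻¹ ∈ Y := hHY h hh x hx.1
        have hx2 : h * x * h⁻¹ ∈ Subgroup.centralizer (N : Set G) :=
          (inferInstance : (Subgroup.centralizer (N : Set G)).Normal).conj_mem x hx.2 h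
        have h5 : n * h * x * (n * h)⁻¹ = h * x * h⁻¹ := by
          have hc := (Subgroup.mem_centralizer_iff.1 hx2) n hn
          calc n * h * x * (n * h)⁻¹ = n * (h * x * h⁻¹) * n⁻¹ := by group
            _ = (h * x * h⁻¹) * n * n⁻¹ := by rw [hc]
            _ = h * x * h⁻¹ := by group
        rw [h5]; exact ⟨hx1, hx2⟩
      have hCc : (Nat.card C).Coprime p :=
        Nat.Coprime.coprime_dvd_left (Subgroup.card_dvd_of_le inf_le_left) hYp
      have := Cfsg.Agent.Lib.H22.le_pPrimeCore p C hCn hCc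
      rw [hA] at this
      exact le_bot_iff.1 this
  · -- `N ≤ H`: then `Y ⊴ G`, so `Y = 1` and `q ∤ |G|`
    left
    have hNH : N ≤ H := by rw [← h1]; exact inf_le_right
    have hHtop : H = ⊤ := by rw [← hsup]; exact (sup_eq_right.2 hNH).symm
    have hYn : Y.Normal := Subgroup.normalizer_eq_top_iff.1 hHtop
    have hYbot : Y = ⊥ := by
      have := Cfsg.Agent.Lib.H22.le_pPrimeCore p Y hYn hYp
      rw [hA] at this
      exact le_bot_iff.1 this
    have hO1 : Nat.card O = 1 := by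
      rw [← hrel, ← hcY, hYbot]; exact Subgroup.card_bot
    have hqi : ¬ q ∣ N.index := by
      rw [hNidx, hO1, one_mul]; exact hquot
    rw [← Subgroup.card_mul_index N]
    intro hdvd
    rcases (Nat.Prime.dvd_mul hq).1 hdvd with h | h
    · exact hqN h
    · exact hqi h

end Cfsg.Agent.Lib.H18.PQ2
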