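import Mathlib
import Cfsg.Agent.Lib.H19.PQCore
import Cfsg.Agent.Lib.H19.WardE2

/-!
# The nonabelian-`pq` fixed-point-free theorem: reduction skeleton, part 1 (helper18)

`pq_vabs` : a solvable normal subgroup `H` acting faithfully on an `𝔽_r`-module, normalized by a
Frobenius group `A` of order `pq` acting coprimely and without fixed points on `H` and on the
module, with `O_r(H) = 1`, is nilpotent.  Reduction to `Cfsg.Agent.Lib.H19.PQ.core`.
-/

set_option autoImplicit false
set_option linter.style.haveILetI false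
set_option linter.unusedSectionVars false

namespace Cfsg.Agent.Lib.H18.PQSkel

open Module Cfsg.Agent.Lib.H1 Cfsg.Agent.Lib.H19.ModRep Cfsg.Agent.Lib.H19.Ward
  Cfsg.Agent.Lib.H19.PQ
open scoped commutatorElement TensorProduct

variable {Γ : Type*} [Group Γ] {r : ℕ} [Fact r.Prime] {M : Type*} [AddCommGroup M]
  [Module (ZMod r) M]

/-- the averaging operator over a finite subgroup vanishes when there are no fixed vectors -/
theorem sum_eq_zero_of_fpf (ρ : Representation (ZMod r) Γ M) (A : Subgroup Γ)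
    [Fintype ↥A] (hfixM : ∀ m : M, (∀ x ∈ A, ρ x m = m) → m = 0) :
    (∑ x : ↥A, ρ (x : Γ)) = 0 := by
  apply LinearMap.ext
  intro m
  rw [LinearMap.zero_apply]
  apply hfixM
  intro y hy
  rw [LinearMap.sum_apply, map_sum]
  have h1 : ∀ x : ↥A, ρ y (ρ (x : Γ) m) = ρ (((⟨y, hy⟩ : ↥A) * x : ↥A) : Γ) m := by
    intro x
    rw [Subgroup.coe_mul, map_mul, Module.End.mul_apply]
  simp only [h1]
  exact Fintype.sum_equiv (Equiv.mulLeft (⟨y, hy⟩ : ↥A)) _ _ (fun x => rfl)

/-- no fixed vectors after base change -/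
theorem bc_fpf [Finite Γ] (k : Type*) [Field k] [Algebra (ZMod r) k]
    (ρ : Representation (ZMod r) Γ M) (A : Subgroup Γ) (hk : (Nat.card A : k) ≠ 0)
    (hfixM : ∀ m : M, (∀ x ∈ A, ρ x m = m) → m = 0) (w : k ⊗[ZMod r] M)
    (hw : ∀ x ∈ A, bc k ρ x w = w) : w = 0 := by
  classical
  haveI : Fintype ↥A := Fintype.ofFinite _
  have h0 := sum_eq_zero_of_fpf ρ A hfixM
  have h1 : (∑ x : ↥A, ρ (x : Γ)).baseChange k = ∑ x : ↥A, (ρ (x : Γ)).baseChange k :=
    map_sum (Module.End.baseChangeHom (ZMod r) k M) _ _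
  rw [h0, LinearMap.baseChange_zero] at h1
  have h2 := congrArg (fun F : Module.End k (k ⊗[ZMod r] M) => F w) h1
  simp only [LinearMap.zero_apply, LinearMap.sum_apply] at h2
  have h3 : ∀ x : ↥A, (ρ (x : Γ)).baseChange k w = w := fun x => hw x x.2
  simp only [h3, Finset.sum_const, Finset.card_univ] at h2
  rw [← Nat.card_eq_fintype_card, ← Nat.cast_smul_eq_nsmul k] at h2
  exact (smul_eq_zero.mp h2.symm).resolve_left hk

theorem pq_vabs [Finite Γ] [Module.Finite (ZMod r) M]
    (ρ : Representation (ZMod r) Γ M) (H : Subgroup Γ) [H.Normal] (hHs : Group.IsSolvable ↥H)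
    {A : Subgroup Γ} {p q e : ℕ} {a b : Γ} (hfrob : FrobPQ A p q e a b)
    (hAcard : Nat.card A = p * q) (hHp : (Nat.card H).Coprime (p * q)) (hpr : p ≠ r)
    (hqr : q ≠ r) (hfaith : ∀ h ∈ H, ρ h = 1 → h = 1)
    (hfixH : ∀ h ∈ H, (∀ x ∈ A, x * h = h * x) → h = 1)
    (hfixM : ∀ m : M, (∀ x ∈ A, ρ x m = m) → m = 0)
    (hOr : ∀ P : Subgroup Γ, P.Normal → P ≤ H → IsPGroup r P → P = ⊥) :
    Group.IsNilpotent ↥H := by
  by_contra hnil
  have hp : p.Prime := hfrob.hp
  have hq : q.Prime := hfrob.hq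
  have hr : r.Prime := Fact.out
  have hNH : Subgroup.normalizer (H : Set Γ) = ⊤ := Subgroup.normalizer_eq_top H
  have hact : CoprimeAction A H :=
    { normalizes := by rw [hNH]; exact le_top
      coprime := by rw [hAcard]; exact hHp.symm
      solvable := Or.inr hHs }
  -- characteristic subgroups of `H` are normal in `Γ`
  have hcharn : ∀ (C : Subgroup ↥H) [C.Characteristic], (C.map H.subtype).Normal := by
    intro C _
    have h1 := normalizer_le_normalizer_map_of_characteristic (K := H) C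
    rw [hNH, top_le_iff] at h1
    exact Subgroup.normalizer_eq_top_iff.mp h1
  -- `O_r(H) = 1`
  have hO : Cfsg.pCore r ↥H = ⊥ := by
    haveI := pCore_characteristic r ↥H
    have hP := hOr _ (hcharn (Cfsg.pCore r ↥H)) (Subgroup.map_subtype_le _)
      ((pCore_isPGroup r ↥H).map _)
    exact (Subgroup.map_eq_bot_iff_of_injective _ H.subtype_injective).mp hP
  -- `D = O_{r'}(H)`
  haveI : Group.IsSolvable ↥H := hHs
  have hcent := Cfsg.Agent.Lib.H1.PSolvDual.centralizer_pPrimeCore_le_of_isPSolvable r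
    (Cfsg.Agent.Lib.H1.PSolvOfSolv.isPSolvable_of_isSolvable r ↥H) hO
  obtain ⟨D, hDdef⟩ : ∃ D : Subgroup Γ, D = (Cfsg.pPrimeCore r ↥H).map H.subtype := ⟨_, rfl⟩
  have hDH : D ≤ H := by rw [hDdef]; exact Subgroup.map_subtype_le _
  have hDn : D.Normal := by
    haveI := Cfsg.Agent.Lib.H9.pPrimeCore_characteristic (G := ↥H) r
    rw [hDdef]
    exact hcharn (Cfsg.pPrimeCore r ↥H)
  have hDr : (Nat.card D).Coprime r := by
    rw [hDdef, Subgroup.card_map_of_injective H.subtype_injective]
    exact Cfsg.Agent.Lib.H22.card_pPrimeCore_coprime r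
  have hDcent : H ⊓ Subgroup.centralizer (D : Set Γ) ≤ D := by
    intro g hg
    rw [Subgroup.mem_inf] at hg
    have h1 : (⟨g, hg.1⟩ : ↥H) ∈ Subgroup.centralizer (Cfsg.pPrimeCore r ↥H : Set ↥H) := by
      rw [Subgroup.mem_centralizer_iff]
      intro d hd
      apply Subtype.ext
      have hdD : (d : Γ) ∈ D := by rw [hDdef]; exact Subgroup.mem_map_of_mem _ hd
      exact (Subgroup.mem_centralizer_iff.mp hg.2) d hdD
    have h2 := hcent h1
    rw [hDdef]
    exact ⟨⟨g, hg.1⟩, h2, rfl⟩
  have hND : Subgroup.normalizer (D : Set Γ) = ⊤ := Subgroup.normalizer_eq_top D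
  -- the invariant Sylow `r`-subgroup
  obtain ⟨Sr, hSr, hASr⟩ := coprime_exists_invariant_sylow hact r
  have hSrr : IsPGroup r Sr := hSr.isPGroup
  obtain ⟨L, hLdef⟩ : ∃ L : Subgroup Γ, L = D ⊔ Sr := ⟨_, rfl⟩
  have hDL : D ≤ L := by rw [hLdef]; exact le_sup_left
  have hSrL : Sr ≤ L := by rw [hLdef]; exact le_sup_right
  have hLH : L ≤ H := by rw [hLdef]; exact sup_le hDH hSr.le
  have hAL : A ≤ Subgroup.normalizer (L : Set Γ) := by
    rw [hLdef]
    refine le_trans (le_inf ?_ hASr) (Subgroup.normalizer_inf_normalizer_le_normalizer_sup D Sr)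
    rw [hND]; exact le_top
  have hactL : CoprimeAction A L := hact.mono hLH hAL
  have hLsol : Group.IsSolvable ↥L :=
    Group.isSolvable_of_isSolvable_injective (Subgroup.inclusion_injective hLH)
  have hLnil : ¬ Group.IsNilpotent ↥L := by
    intro hLn
    have h1 : Sr ≤ Subgroup.centralizer (D : Set Γ) := by
      intro t ht
      rw [Subgroup.mem_centralizer_iff]
      intro d hd
      apply Cfsg.Agent.Lib.H8.mul_comm_of_coprime_of_mem_nilpotent L hLn (hDL hd) (hSrL ht)
      obtain ⟨m, hm⟩ := (IsPGroup.iff_orderOf.mp hSrr) ⟨t, ht⟩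
      rw [Subgroup.orderOf_mk] at hm
      rw [hm]
      apply Nat.Coprime.pow_right
      have h2 : orderOf d ∣ Nat.card D := by
        have := orderOf_dvd_natCard (⟨d, hd⟩ : ↥D)
        rwa [Subgroup.orderOf_mk] at this
      exact Nat.Coprime.coprime_dvd_left h2 hDr
    have h2 : Sr ≤ D := fun t ht => hDcent (Subgroup.mem_inf.mpr ⟨hSr.le ht, h1 ht⟩)
    have h3 : (Nat.card H).factorization r = 0 := by
      by_contra hne
      have h4 : r ∣ Nat.card Sr := by
        rw [hSr.card_eq]
        exact dvd_pow_self r hne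
      have h5 : r ∣ Nat.card D := h4.trans (Subgroup.card_dvd_of_le h2)
      have h6 := Nat.Coprime.eq_one_of_dvd hDr.symm h5
      exact hr.one_lt.ne' h6
    have h4 : (Nat.card H).Coprime r := by
      rcases (Nat.factorization_eq_zero_iff _ _).mp h3 with h5 | h5 | h5
      · exact absurd hr h5
      · exact ((Nat.Prime.coprime_iff_not_dvd hr).mpr h5).symm
      · exact absurd h5 Nat.card_pos.ne'
    have h5 : H ≤ D := by
      have h6 : (⊤ : Subgroup ↥H) ≤ Cfsg.pPrimeCore r ↥H := by
        apply Cfsg.Agent.Lib.H22.le_pPrimeCore r ⊤ inferInstance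
        rw [Subgroup.card_top]
        exact h4
      intro g hg
      rw [hDdef]
      exact ⟨⟨g, hg⟩, h6 (Subgroup.mem_top _), rfl⟩
    have h6 : L = H := le_antisymm hLH (h5.trans hDL)
    rw [h6] at hLn
    exact hnil hLn
  -- `r'`-elements of `L` lie in `D`
  have hr' : ∀ g ∈ L, (orderOf g).Coprime r → g ∈ D := by
    intro g hg hgr
    have h1 : (QuotientGroup.mk' D) g ∈ Sr.map (QuotientGroup.mk' D) := by
      have h2 : L.map (QuotientGroup.mk' D) = Sr.map (QuotientGroup.mk' D) := by
        rw [hLdef, Subgroup.map_sup]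
        have : D.map (QuotientGroup.mk' D) = ⊥ := by
          rw [Subgroup.map_eq_bot_iff, QuotientGroup.ker_mk']
        rw [this, bot_sup_eq]
      rw [← h2]
      exact Subgroup.mem_map_of_mem _ hg
    have h3 : IsPGroup r (Sr.map (QuotientGroup.mk' D)) := hSrr.map _
    obtain ⟨m, hm⟩ := (IsPGroup.iff_orderOf.mp h3) ⟨_, h1⟩
    rw [Subgroup.orderOf_mk] at hm
    have h4 : orderOf ((QuotientGroup.mk' D) g) ∣ orderOf g := orderOf_map_dvd _ g
    have h5 : orderOf ((QuotientGroup.mk' D) g) = 1 := by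
      have h6 := Nat.Coprime.coprime_dvd_left h4 hgr
      rw [hm] at h6 ⊢
      rcases Nat.eq_zero_or_pos m with h0 | h0
      · rw [h0, pow_zero]
      · exfalso
        have h7 := Nat.Coprime.coprime_dvd_left (dvd_pow_self r h0.ne') h6
        rw [Nat.coprime_self] at h7
        exact hr.one_lt.ne' h7
    rw [orderOf_eq_one_iff] at h5
    exact (QuotientGroup.eq_one_iff g).mp h5
  -- Lemma P
  obtain ⟨q', s', hq', hs', hqs, hq'r, Q, S, hQL, hSL, hQq, hSs, hAQ, hAS, hSQ, hncent⟩ :=
    lemP (B := A) (Nat.card L) L D rfl hactL hLsol hLnil hDL (by rw [hND]; exact le_top) hDr hr'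
  apply hncent
  -- the field
  let k := AlgebraicClosure (ZMod r)
  haveI : CharP k r := charP_of_injective_algebraMap (algebraMap (ZMod r) k).injective r
  have hne : ∀ n : ℕ, n.Prime → n ≠ r → ((n : ℕ) : k) ≠ 0 := by
    intro n hn hnr
    rw [Ne, CharP.cast_eq_zero_iff k r n]
    intro hdvd
    exact hnr ((Nat.prime_dvd_prime_iff_eq hr hn).mp hdvd).symm
  have hcfg : Cfg (bc k ρ) A H Q S p q e a b q' s' :=
    { frob := hfrob
      hAcard := hAcard
      hs := hq'
      ht := hs'
      hst := hqs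
      hS := hQq
      hT := hSs
      hSH := hQL.trans hLH
      hTH := hSL.trans hLH
      hHp := hHp
      hsk := hne q' hq' hq'r
      hpk := hne p hp hpr
      hqk := hne q hq hqr
      hAS := hAQ
      hAT := hAS
      hTS := hSQ
      hfaith := by
        intro u hu h1
        apply hfaith u (hQL.trans hLH hu)
        apply bc_injective k
        rw [LinearMap.baseChange_one]
        exact h1
      hfixH := hfixH
      hfixW := by
        intro w hw
        refine bc_fpf k ρ A ?_ hfixM w hw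
        rw [hAcard, Nat.cast_mul]
        exact mul_ne_zero (hne p hp hpr) (hne q hq hqr) }
  exact core hcfg

end Cfsg.Agent.Lib.H18.PQSkel
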