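import Mathlib
import Cfsg.Agent.Lib.H18.PQSkel1
import Cfsg.Agent.Lib.H19.WardF3

/-!
# The nonabelian-`pq` fixed-point-free theorem: reduction skeleton, part 2 (helper18)

Quotients (`quot_data`) and the chief factor claim `pq_claimV`.
-/

set_option autoImplicit false
set_option linter.style.haveILetI false
set_option linter.unusedSectionVars false

namespace Cfsg.Agent.Lib.H18.PQSkel

open Cfsg.Agent.Lib.H1 Cfsg.Agent.Lib.H1.QuadMul Cfsg.Agent.Lib.H19.ModRep
  Cfsg.Agent.Lib.H19.Ward Cfsg.Agent.Lib.H19.PQ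
open scoped commutatorElement

/-- transport of `FrobPQ` along a homomorphism which is injective on `A` -/
theorem frobPQ_map {X Y : Type*} [Group X] [Group Y] (f : X →* Y) {A : Subgroup X}
    {p q e : ℕ} {a b : X} (h : FrobPQ A p q e a b) (hinj : ∀ x ∈ A, f x = 1 → x = 1) :
    FrobPQ (A.map f) p q e (f a) (f b) where
  hp := h.hp
  hq := h.hq
  ha := Subgroup.mem_map_of_mem f h.ha
  hb := Subgroup.mem_map_of_mem f h.hb
  hap := by rw [← map_pow, h.hap, map_one]
  hbq := by rw [← map_pow, h.hbq, map_one]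
  ha1 := fun h1 => h.ha1 (hinj a h.ha h1)
  hrel := by rw [← map_inv, ← map_mul, ← map_mul, h.hrel, map_pow]
  he1 := by
    intro h1
    apply h.he1
    have h2 : f (a ^ e * a⁻¹) = 1 := by rw [map_mul, map_pow, map_inv, h1, mul_inv_cancel]
    have h3 := hinj _ (A.mul_mem (A.pow_mem h.ha e) (A.inv_mem h.ha)) h2
    exact mul_inv_eq_one.mp h3
  hgen := by
    rintro _ ⟨x, hx, rfl⟩
    obtain ⟨i, j, hxe⟩ := h.hgen x hx
    exact ⟨i, j, by rw [hxe, map_mul, map_pow, map_pow]⟩

theorem card_map_of_injOn {X Y : Type*} [Group X] [Group Y] (f : X →* Y) (A : Subgroup X)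
    (hinj : ∀ x ∈ A, f x = 1 → x = 1) : Nat.card (A.map f) = Nat.card A := by
  have h1 : Function.Injective (f.comp A.subtype) := by
    rw [injective_iff_map_eq_one]
    intro x hx
    exact Subtype.ext (hinj x x.2 hx)
  have h2 : (f.comp A.subtype).range = A.map f := by
    rw [MonoidHom.range_eq_map, ← Subgroup.map_map, ← MonoidHom.range_eq_map,
      Subgroup.range_subtype]
  rw [← h2]
  exact (Nat.card_congr (MonoidHom.ofInjective h1).toEquiv).symm

variable {X : Type*} [Group X] [Finite X]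

/-- the hypotheses pass to the quotient by a normal subgroup `N ≤ G` -/
theorem quot_data (G : Subgroup X) [G.Normal] (hGs : Group.IsSolvable ↥G) {A : Subgroup X}
    {p q e : ℕ} {a b : X} (hfrob : FrobPQ A p q e a b) (hAcard : Nat.card A = p * q)
    (hGp : (Nat.card G).Coprime (p * q))
    (hfix : ∀ g ∈ G, (∀ x ∈ A, x * g = g * x) → g = 1)
    (N : Subgroup X) [N.Normal] (hNG : N ≤ G) :
    FrobPQ (A.map (QuotientGroup.mk' N)) p q e (QuotientGroup.mk' N a) (QuotientGroup.mk' N b) ∧
    Nat.card (A.map (QuotientGroup.mk' N)) = p * q ∧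
    (Nat.card (G.map (QuotientGroup.mk' N))).Coprime (p * q) ∧
    ∀ g' ∈ G.map (QuotientGroup.mk' N),
      (∀ x' ∈ A.map (QuotientGroup.mk' N), x' * g' = g' * x') → g' = 1 := by
  have hNG' : Subgroup.normalizer (G : Set X) = ⊤ := Subgroup.normalizer_eq_top G
  have hNN' : Subgroup.normalizer (N : Set X) = ⊤ := Subgroup.normalizer_eq_top N
  have hact : CoprimeAction A G :=
    { normalizes := by rw [hNG']; exact le_top
      coprime := by rw [hAcard]; exact hGp.symm
      solvable := Or.inr hGs }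
  have hinj : ∀ x ∈ A, (QuotientGroup.mk' N) x = 1 → x = 1 := by
    intro x hx h1
    have h2 : x ∈ N := (QuotientGroup.eq_one_iff x).mp h1
    exact Subgroup.disjoint_def.mp hact.disjoint (hNG h2) hx
  refine ⟨frobPQ_map _ hfrob hinj, ?_, ?_, ?_⟩
  · rw [card_map_of_injOn _ A hinj, hAcard]
  · exact Nat.Coprime.coprime_dvd_left (Subgroup.card_map_dvd G _) hGp
  · rintro _ ⟨g, hg, rfl⟩ h
    have hfix' : ∀ x ∈ A, x * g * x⁻¹ * g⁻¹ ∈ N := by
      intro x hx
      rw [← QuotientGroup.eq_one_iff, QuotientGroup.mk_mul, QuotientGroup.mk_mul,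
        QuotientGroup.mk_mul, QuotientGroup.mk_inv, QuotientGroup.mk_inv]
      have := h _ (Subgroup.mem_map_of_mem _ hx)
      simp only [QuotientGroup.mk'_apply] at this
      rw [this]
      group
    obtain ⟨c, hc, hcN⟩ := coprime_centralizer_quotient hact hNG (by rw [hNN']; exact le_top)
      (by rw [hNN']; exact le_top) hg hfix'
    rw [Subgroup.mem_inf] at hc
    have hc1 : c = 1 := hfix c hc.1 (fun x hx => Subgroup.mem_centralizer_iff.mp hc.2 x hx)
    rw [hc1, mul_one] at hcN
    have h2 : g ∈ N := by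
      have := N.inv_mem hcN
      rwa [inv_inv] at this
    exact (QuotientGroup.eq_one_iff g).mpr h2

/-- **Claim V'**: `G / C_G(V)` is nilpotent -/
theorem pq_claimV (G : Subgroup X) [G.Normal] (hGs : Group.IsSolvable ↥G) {A : Subgroup X}
    {p q e : ℕ} {a b : X} (hfrob : FrobPQ A p q e a b) (hAcard : Nat.card A = p * q)
    (hGp : (Nat.card G).Coprime (p * q))
    (hfix : ∀ g ∈ G, (∀ x ∈ A, x * g = g * x) → g = 1)
    (V : Subgroup X) [V.Normal] (hVG : V ≤ G) (hV : V ≠ ⊥)
    (hmin : ∀ W : Subgroup X, W.Normal → W ≤ V → W ≠ ⊥ → W = V)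
    {r : ℕ} [Fact r.Prime] [IsEA r ↥V] :
    ∃ m : ℕ, G.lowerCentralSeries m ≤ Subgroup.centralizer (V : Set X) := by
  have hp : p.Prime := hfrob.hp
  have hq : q.Prime := hfrob.hq
  have hr : r.Prime := Fact.out
  obtain ⟨C, hCdef⟩ : ∃ C : Subgroup X, C = G ⊓ Subgroup.centralizer (V : Set X) := ⟨_, rfl⟩
  haveI hCn : C.Normal := by rw [hCdef]; infer_instance
  have hCG : C ≤ G := by rw [hCdef]; exact inf_le_left
  have hCV : C ≤ Subgroup.centralizer (V : Set X) := by rw [hCdef]; exact inf_le_right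
  have hmemC : ∀ g ∈ G, g ∈ Subgroup.centralizer (V : Set X) → g ∈ C := by
    intro g hg hgV
    rw [hCdef]; exact ⟨hg, hgV⟩
  obtain ⟨hfrob', hAcard', hGp', hfix'⟩ := quot_data G hGs hfrob hAcard hGp hfix C hCG
  let π : X →* X ⧸ C := QuotientGroup.mk' C
  have hπsurj : Function.Surjective π := QuotientGroup.mk'_surjective C
  have hπker : π.ker = C := QuotientGroup.ker_mk' C
  have hπ1 : ∀ g : X, π g = 1 ↔ g ∈ C := fun g => QuotientGroup.eq_one_iff g
  -- the representation
  let ρX := conjRepX r V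
  have hker : C ≤ MonoidHom.ker ρX := by
    intro c hc
    rw [MonoidHom.mem_ker]
    exact (conjRepX_eq_one_iff V c).mpr (hCV hc)
  let ρ : Representation (ZMod r) (X ⧸ C) (EA r ↥V) := QuotientGroup.lift C ρX hker
  have hρ : ∀ g : X, ρ (π g) = ρX g := fun g => QuotientGroup.lift_mk C hker g
  -- the image of `G`
  obtain ⟨H, hHdef⟩ : ∃ H : Subgroup (X ⧸ C), H = G.map π := ⟨_, rfl⟩
  haveI hHn : H.Normal := by
    rw [hHdef]
    exact Subgroup.Normal.map inferInstance π hπsurj
  have hHs : Group.IsSolvable ↥H := by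
    rw [hHdef]
    haveI := hGs
    exact Group.isSolvable_of_surjective (f := π.subgroupMap G) (π.subgroupMap_surjective G)
  have hfaith : ∀ h ∈ H, ρ h = 1 → h = 1 := by
    intro h hh h1
    rw [hHdef] at hh
    obtain ⟨g, hg, rfl⟩ := hh
    rw [hρ] at h1
    rw [hπ1]
    exact hmemC g hg ((conjRepX_eq_one_iff V g).mp h1)
  have hVr : IsPGroup r ↥V := fun v => ⟨1, by rw [pow_one]; exact IsEA.exp v⟩
  have hrV : r ∣ Nat.card V := by
    obtain ⟨n, hn⟩ := IsPGroup.iff_card.mp hVr
    rw [hn]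
    apply dvd_pow_self
    rintro rfl
    rw [pow_zero] at hn
    exact hV (Subgroup.card_eq_one.mp hn)
  have hrG : r ∣ Nat.card G := hrV.trans (Subgroup.card_dvd_of_le hVG)
  have hpr : p ≠ r := by
    rintro rfl
    have h1 := Nat.Coprime.eq_one_of_dvd (Nat.Coprime.coprime_dvd_right (dvd_mul_right p q) hGp).symm
      hrG
    exact hp.one_lt.ne' h1
  have hqr : q ≠ r := by
    rintro rfl
    have h1 := Nat.Coprime.eq_one_of_dvd (Nat.Coprime.coprime_dvd_right (dvd_mul_left q p) hGp).symm
      hrG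
    exact hq.one_lt.ne' h1
  have hfixM : ∀ m : EA r ↥V, (∀ x' ∈ A.map π, ρ x' m = m) → m = 0 := by
    intro m hm
    have h3 : (m.val : X) = 1 := by
      apply hfix _ (hVG m.val.2)
      intro x hx
      have h1 := hm _ (Subgroup.mem_map_of_mem π hx)
      rw [hρ, conjRepX_eq_self_iff] at h1
      exact h1
    apply EA.ext
    rw [EA.val_zero]
    exact Subtype.ext h3
  -- normal `r`-subgroups
  have hOr : ∀ P : Subgroup (X ⧸ C), P.Normal → P ≤ H → IsPGroup r P → P = ⊥ := by
    intro P hPn hPH hPr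
    obtain ⟨P', hP'def⟩ : ∃ P' : Subgroup X, P' = P.comap π := ⟨_, rfl⟩
    haveI hP'n : P'.Normal := by rw [hP'def]; exact Subgroup.Normal.comap hPn π
    have hP'G : P' ≤ G := by
      intro t ht
      rw [hP'def, Subgroup.mem_comap] at ht
      have h1 := hPH ht
      rw [hHdef] at h1
      obtain ⟨g, hg, hgt⟩ := h1
      have h2 : g⁻¹ * t ∈ C := by
        rw [← hπ1, map_mul, map_inv, hgt, inv_mul_cancel]
      have e : t = g * (g⁻¹ * t) := by group
      rw [e]
      exact G.mul_mem hg (hCG h2)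
    have hcent : P' ≤ Subgroup.centralizer (V : Set X) := by
      obtain ⟨v, hv, hv1, hvfix⟩ := exists_fixed_of_pgroup_image V hrV P' (by
        intro t ht
        rw [hP'def, Subgroup.mem_comap] at ht
        obtain ⟨kk, hkk⟩ := hPr ⟨π t, ht⟩
        refine ⟨kk, ?_⟩
        have h1 : π (t ^ (r ^ kk)) = 1 := by
          have := congrArg Subtype.val hkk
          rw [map_pow]
          simpa using this
        have h2 : t ^ (r ^ kk) ∈ C := (hπ1 _).mp h1
        intro v hv
        exact ((Subgroup.mem_centralizer_iff.mp (hCV h2)) v hv).symm)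
      have hW : V ⊓ Subgroup.centralizer (P' : Set X) = V := by
        apply hmin _ inferInstance inf_le_left
        intro hbot
        apply hv1
        have h1 : v ∈ V ⊓ Subgroup.centralizer (P' : Set X) := by
          rw [Subgroup.mem_inf, Subgroup.mem_centralizer_iff]
          exact ⟨hv, fun t ht => hvfix t ht⟩
        rw [hbot, Subgroup.mem_bot] at h1
        exact h1
      have h2 : V ≤ Subgroup.centralizer (P' : Set X) := by
        rw [← hW]; exact inf_le_right
      exact Subgroup.le_centralizer_iff.mp h2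
    have hP'C : P' ≤ C := fun t ht => hmemC t (hP'G ht) (hcent ht)
    have h3 : P = P'.map π := by
      rw [hP'def, Subgroup.map_comap_eq_self_of_surjective hπsurj]
    rw [h3, Subgroup.map_eq_bot_iff, hπker]
    exact hP'C
  -- conclusion
  have hnil : Group.IsNilpotent ↥H :=
    pq_vabs ρ H hHs hfrob' hAcard' (by rw [hHdef]; exact hGp') hpr hqr hfaith
      (by rw [hHdef]; exact hfix') hfixM hOr
  obtain ⟨m, hm⟩ := (Subgroup.isNilpotent_iff_lowerCentralSeries H).mp hnil
  refine ⟨m, ?_⟩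
  rw [hHdef, ← Subgroup.map_lowerCentralSeries, Subgroup.map_eq_bot_iff, hπker] at hm
  exact hm.trans hCV

end Cfsg.Agent.Lib.H18.PQSkel
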