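import Mathlib
import Cfsg.Agent.Lib.H18.PQSkel2
import Cfsg.Agent.Lib.H19.WardF4
import Cfsg.Agent.Lib.H19.PQ1b

/-!
# The nonabelian-`pq` fixed-point-free theorem: reduction skeleton, part 3 (helper18)

`pq_ambient` : if `G ⊴ X` is solvable and `A ≤ X` is a Frobenius group of order `pq` coprime to
`|G|` with `C_G(A) = 1`, then `G` has a nilpotent normal subgroup `N` (normal in `X`) with `G / N`
nilpotent.  `pq_abstract` : the same for an action by automorphisms.
-/

set_option autoImplicit false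
set_option linter.style.haveILetI false
set_option linter.unusedSectionVars false

namespace Cfsg.Agent.Lib.H18.PQSkel

open Cfsg.Agent.Lib.H1 Cfsg.Agent.Lib.H1.QuadMul Cfsg.Agent.Lib.H19.Ward Cfsg.Agent.Lib.H19.PQ
open scoped commutatorElement

universe u

theorem pq_ambient :
    ∀ (n : ℕ) (X : Type u) [Group X] [Finite X] (G : Subgroup X) [G.Normal], Nat.card G = n →
      Group.IsSolvable ↥G → ∀ (A : Subgroup X) (p q e : ℕ) (a b : X), FrobPQ A p q e a b →
      Nat.card A = p * q → (Nat.card G).Coprime (p * q) →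
      (∀ g ∈ G, (∀ x ∈ A, x * g = g * x) → g = 1) →
      ∃ N : Subgroup X, N ≤ G ∧ N.Normal ∧ Group.IsNilpotent ↥N ∧
        ∃ m : ℕ, G.lowerCentralSeries m ≤ N := by
  intro n
  induction n using Nat.strong_induction_on with
  | _ n ih =>
    intro X _ _ G _ hn hGs A p q e a b hfrob hAcard hGp hfix
    by_cases hG : G = ⊥
    · refine ⟨⊥, bot_le, inferInstance, inferInstance, 0, ?_⟩
      rw [Subgroup.lowerCentralSeries_zero, hG]
    obtain ⟨V, hVn, hVG, hV, hmin⟩ := exists_min_normal G hG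
    haveI := hVn
    have hVs : Group.IsSolvable ↥V :=
      Group.isSolvable_of_isSolvable_injective (Subgroup.inclusion_injective hVG)
    obtain ⟨r, hr, hEA⟩ := isEA_min_normal hVs hV hmin
    haveI : Fact r.Prime := ⟨hr⟩
    obtain ⟨m₁, hm₁⟩ := pq_claimV G hGs hfrob hAcard hGp hfix V hVG hV hmin (r := r)
    -- the quotient
    obtain ⟨hfrob', hAcard', hGp', hfix'⟩ := quot_data G hGs hfrob hAcard hGp hfix V hVG
    obtain ⟨π, hπdef⟩ : ∃ π : X →* X ⧸ V, π = QuotientGroup.mk' V := ⟨_, rfl⟩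
    rw [← hπdef] at hfrob' hAcard' hGp' hfix'
    have hπsurj : Function.Surjective π := by rw [hπdef]; exact QuotientGroup.mk'_surjective V
    have hπ1 : ∀ g : X, π g = 1 ↔ g ∈ V := by
      intro g; rw [hπdef]; exact QuotientGroup.eq_one_iff g
    have hlt : Nat.card (G.map π) < n := by
      rw [← hn, hπdef]
      exact card_map_lt G V hVG hV
    haveI hGn' : (G.map π).Normal := Subgroup.Normal.map inferInstance π hπsurj
    have hGs' : Group.IsSolvable ↥(G.map π) := by
      haveI := hGs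
      exact Group.isSolvable_of_surjective (f := π.subgroupMap G) (π.subgroupMap_surjective G)
    obtain ⟨N', hN'G, hN'n, hN'nil, m₂, hm₂⟩ := ih _ hlt (X ⧸ V) (G.map π) rfl hGs' (A.map π)
      p q e (π a) (π b) hfrob' hAcard' hGp' hfix'
    haveI := hN'n
    haveI hcn : (N'.comap π).Normal := Subgroup.Normal.comap hN'n π
    refine ⟨N'.comap π ⊓ Subgroup.centralizer (V : Set X), ?_, inferInstance, ?_,
      max m₁ m₂, ?_⟩
    · -- `N ≤ G`
      intro t ht
      rw [Subgroup.mem_inf, Subgroup.mem_comap] at ht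
      obtain ⟨g, hg, hgt⟩ := hN'G ht.1
      have h2 : g⁻¹ * t ∈ V := by
        rw [← hπ1, map_mul, map_inv, hgt, inv_mul_cancel]
      have e : t = g * (g⁻¹ * t) := by group
      rw [e]
      exact G.mul_mem hg (hVG h2)
    · -- nilpotent
      obtain ⟨N, hNdef⟩ : ∃ N : Subgroup X, N = N'.comap π ⊓ Subgroup.centralizer (V : Set X) :=
        ⟨_, rfl⟩
      rw [← hNdef]
      have hNle : N ≤ N'.comap π := by rw [hNdef]; exact inf_le_left
      have hNcent : N ≤ Subgroup.centralizer (V : Set X) := by rw [hNdef]; exact inf_le_right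
      let f : ↥N →* ↥N' := (π.comp N.subtype).codRestrict N' (fun t => hNle t.2)
      haveI := hN'nil
      apply Subgroup.isNilpotent_of_ker_le_center f
      intro t ht
      rw [MonoidHom.mem_ker] at ht
      have h1 : π (t : X) = 1 := congrArg Subtype.val ht
      have h2 : (t : X) ∈ V := (hπ1 _).mp h1
      rw [Subgroup.mem_center_iff]
      intro t'
      apply Subtype.ext
      show (t' : X) * t = t * t'
      exact ((Subgroup.mem_centralizer_iff.mp (hNcent t'.2)) _ h2).symm
    · -- the quotient is nilpotent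
      apply le_inf
      · have h1 : G.lowerCentralSeries (max m₁ m₂) ≤ G.lowerCentralSeries m₂ :=
          Subgroup.lowerCentralSeries_antitone G (le_max_right m₁ m₂)
        refine h1.trans ?_
        rw [← Subgroup.map_le_iff_le_comap, Subgroup.map_lowerCentralSeries]
        exact hm₂
      · exact (Subgroup.lowerCentralSeries_antitone G (le_max_left m₁ m₂)).trans hm₁

open SemidirectProduct in
theorem pq_abstract {G A : Type*} [Group G] [Finite G] (hG : Group.IsSolvable G) [Group A]
    [Finite A] (φ : A →* MulAut G) (p q : ℕ) (hp : p.Prime) (hq : q.Prime) (hpq : p ≠ q)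
    (hA : Nat.card A = p * q) (hAna : ¬ IsMulCommutative A)
    (hcop : (Nat.card G).Coprime (p * q))
    (hfpf : ∀ g : G, (∀ x : A, φ x g = g) → g = 1) :
    ∃ N₀ : Subgroup G, N₀.Normal ∧ Group.IsNilpotent ↥N₀ ∧
      ∃ m : ℕ, (⊤ : Subgroup G).lowerCentralSeries m ≤ N₀ := by
  haveI : Finite (G ⋊[φ] A) := Finite.of_equiv _ (SemidirectProduct.equivProd (φ := φ)).symm
  obtain ⟨Gt, hGt⟩ : ∃ Gt : Subgroup (G ⋊[φ] A), Gt = (inl : G →* G ⋊[φ] A).range :=
    ⟨_, rfl⟩
  haveI hGtn : Gt.Normal := by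
    rw [hGt, range_inl_eq_ker_rightHom]; infer_instance
  have hGts : Group.IsSolvable ↥Gt := by
    haveI := hG
    rw [hGt]
    exact Group.isSolvable_of_surjective (f := (inl : G →* G ⋊[φ] A).rangeRestrict)
      (MonoidHom.rangeRestrict_surjective _)
  have hGtcard : Nat.card Gt = Nat.card G := by
    rw [hGt]
    exact (Nat.card_congr (MonoidHom.ofInjective (inl_injective (φ := φ))).toEquiv).symm
  have hconj : ∀ (x : A) (g : G),
      (inr x : G ⋊[φ] A) * inl g = inl g * inr x → φ x g = g := by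
    intro x g h
    have h1 : (inl (φ x g) : G ⋊[φ] A) = inr x * inl g * (inr x)⁻¹ := by
      rw [inl_aut, map_inv]
    rw [h, mul_assoc, mul_inv_cancel, mul_one] at h1
    exact inl_injective h1
  obtain ⟨p', q', e, a, b, hpq', hfrob⟩ := exists_frobPQ hp hq hpq hA hAna
  have hfrob' := FrobPQ.map (inr : A →* G ⋊[φ] A) inr_injective hfrob
  have hAcard : Nat.card (inr : A →* G ⋊[φ] A).range = p' * q' := by
    rw [hpq', ← hA]
    exact (Nat.card_congr (MonoidHom.ofInjective (inr_injective (φ := φ))).toEquiv).symm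
  obtain ⟨N, hNG, hNn, hNnil, m, hm⟩ := pq_ambient (Nat.card Gt) (G ⋊[φ] A) Gt rfl
    hGts (inr : A →* G ⋊[φ] A).range p' q' e (inr a) (inr b) hfrob' hAcard
    (by rw [hGtcard, hpq']; exact hcop) (by
      intro g' hg' h1
      rw [hGt] at hg'
      obtain ⟨g, rfl⟩ := hg'
      rw [hfpf g (fun x => hconj x g (h1 _ ⟨x, rfl⟩)), map_one])
  refine ⟨N.comap inl, Subgroup.Normal.comap hNn _, ?_, m, ?_⟩
  · let f : ↥(N.comap (inl : G →* G ⋊[φ] A)) →* ↥N :=
      ((inl : G →* G ⋊[φ] A).comp (N.comap inl).subtype).codRestrict N (fun t => t.2)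
    haveI := hNnil
    apply Subgroup.isNilpotent_of_ker_le_center f
    intro t ht
    rw [MonoidHom.mem_ker] at ht
    have h1 : (inl (t : G) : G ⋊[φ] A) = 1 := congrArg Subtype.val ht
    have h2 : (t : G) = 1 := inl_injective (by rw [h1, map_one])
    have h3 : t = 1 := Subtype.ext h2
    rw [h3]
    exact Subgroup.one_mem _
  · rw [← Subgroup.map_le_iff_le_comap, Subgroup.map_lowerCentralSeries, ← MonoidHom.range_eq_map,
      ← hGt]
    exact hm

/-- the quotient form -/
theorem pq_quotient_form {G A : Type*} [Group G] [Finite G] (hG : Group.IsSolvable G) [Group A]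
    [Finite A] (φ : A →* MulAut G) (p q : ℕ) (hp : p.Prime) (hq : q.Prime) (hpq : p ≠ q)
    (hA : Nat.card A = p * q) (hAna : ¬ IsMulCommutative A)
    (hcop : (Nat.card G).Coprime (p * q))
    (hfpf : ∀ g : G, (∀ x : A, φ x g = g) → g = 1) :
    ∃ F : Subgroup G, ∃ hF : F.Normal, Group.IsNilpotent ↥F ∧ Group.IsNilpotent (G ⧸ F) := by
  obtain ⟨N₀, hN₀n, hN₀nil, m, hm⟩ := pq_abstract hG φ p q hp hq hpq hA hAna hcop hfpf
  refine ⟨N₀, hN₀n, hN₀nil, ?_⟩
  haveI := hN₀n
  rw [Subgroup.nilpotent_iff_lowerCentralSeries]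
  refine ⟨m, ?_⟩
  have h1 : ((⊤ : Subgroup G).lowerCentralSeries m).map (QuotientGroup.mk' N₀) =
      (⊤ : Subgroup (G ⧸ N₀)).lowerCentralSeries m := by
    rw [Subgroup.map_lowerCentralSeries, ← MonoidHom.range_eq_map,
      MonoidHom.range_eq_top.mpr (QuotientGroup.mk'_surjective N₀)]
  rw [← h1, Subgroup.map_eq_bot_iff, QuotientGroup.ker_mk']
  exact hm

end Cfsg.Agent.Lib.H18.PQSkel
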