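import Mathlib
import Cfsg.Agent.Lib.H18.SL2Pow
import Cfsg.Agent.Lib.H18.PrimeGraph
import Cfsg.Agent.Lib.H18.SL2Char2Action

set_option autoImplicit false

/-!
Helper library (helper18): the prime graphs of `PSL(2,7)` and `SL(2,8)` (three isolated vertices
`2, 3, 7`).
-/

namespace Cfsg.Agent.Lib.H18

open Matrix

section Poly
variable {R : Type*} [CommRing R]

theorem trFib_2 (t : R) : trFib t 2 = t := by simp only [trFib]; ring
theorem trFib_3 (t : R) : trFib t 3 = t ^ 2 - 1 := by simp only [trFib]; ring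
theorem trFib_4 (t : R) : trFib t 4 = t ^ 3 - 2 * t := by simp only [trFib]; ring
theorem trFib_6 (t : R) : trFib t 6 = t ^ 5 - 4 * t ^ 3 + 3 * t := by simp only [trFib]; ring
theorem trFib_7 (t : R) : trFib t 7 = t ^ 6 - 5 * t ^ 4 + 6 * t ^ 2 - 1 := by
  simp only [trFib]; ring
theorem trFib_8 (t : R) : trFib t 8 = t ^ 7 - 6 * t ^ 5 + 10 * t ^ 3 - 4 * t := by
  simp only [trFib]; ring
theorem trFib_9 (t : R) : trFib t 9 = t ^ 8 - 7 * t ^ 6 + 15 * t ^ 4 - 10 * t ^ 2 + 1 := by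
  simp only [trFib]; ring

/-- If `f_{n+1}(t) = 0` and `f_n(t) = a` then `g^(n+1) = -a`. -/
theorem sl2_pow_of_trFib (g : Matrix.SpecialLinearGroup (Fin 2) R) (n : ℕ) (a : R)
    (h1 : trFib (g.1 0 0 + g.1 1 1) (n + 1) = 0) (h0 : trFib (g.1 0 0 + g.1 1 1) n = a) :
    g.1 ^ (n + 1) = (-a) • (1 : Matrix (Fin 2) (Fin 2) R) := by
  rw [sl2_pow_succ, h1, h0]
  module

end Poly

section PSL
variable {R : Type*} [CommRing R]

theorem psl2_mk_eq_one_of (g : Matrix.SpecialLinearGroup (Fin 2) R)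
    (h : g.1 = 1 ∨ g.1 = -1) :
    (QuotientGroup.mk g : Matrix.ProjectiveSpecialLinearGroup (Fin 2) R) = 1 := by
  rw [QuotientGroup.eq_one_iff, Matrix.SpecialLinearGroup.mem_center_iff]
  rcases h with h | h
  · exact ⟨1, by simp, by simp [h]⟩
  · refine ⟨-1, by simp, ?_⟩
    rw [h, map_neg, map_one]

theorem psl2_mk_ne_one_of (g : Matrix.SpecialLinearGroup (Fin 2) R) (h : g.1 0 1 ≠ 0) :
    (QuotientGroup.mk g : Matrix.ProjectiveSpecialLinearGroup (Fin 2) R) ≠ 1 := by
  rw [Ne, QuotientGroup.eq_one_iff, Matrix.SpecialLinearGroup.mem_center_iff]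
  rintro ⟨r, _, hr⟩
  apply h
  rw [← hr]
  simp

theorem psl2_mk_pow_eq_one_of (g : Matrix.SpecialLinearGroup (Fin 2) R) (n : ℕ)
    (h : g.1 ^ n = 1 ∨ g.1 ^ n = -1) :
    (QuotientGroup.mk g : Matrix.ProjectiveSpecialLinearGroup (Fin 2) R) ^ n = 1 := by
  rw [← QuotientGroup.mk_pow]
  apply psl2_mk_eq_one_of
  rwa [Matrix.SpecialLinearGroup.coe_pow]

end PSL

section PG237

/-- The prime graph is the empty graph on `{2, 3, 7}`. -/
def PG237 (G : Type*) [Group G] : Prop :=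
  (∀ p : ℕ, p.Prime → (p ∣ Nat.card G ↔ (p = 2 ∨ p = 3 ∨ p = 7))) ∧
  (∀ p q : ℕ, p.Prime → q.Prime → p ≠ q → ¬ ∃ g : G, orderOf g = p * q)

theorem samePG_of_pg237 {G H : Type*} [Group G] [Group H] (hG : PG237 G) (hH : PG237 H) :
    SamePG G H :=
  ⟨fun p hp => (hG.1 p hp).trans (hH.1 p hp).symm,
    fun p q hp hq hpq => ⟨fun h => absurd h (hG.2 p q hp hq hpq),
      fun h => absurd h (hH.2 p q hp hq hpq)⟩⟩

theorem pg237_of_pow {G : Type*} [Group G] [Finite G]
    (h : ∀ x : G, x ^ 4 = 1 ∨ x ^ 9 = 1 ∨ x ^ 7 = 1)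
    (h2 : ∃ x : G, orderOf x = 2) (h3 : ∃ x : G, orderOf x = 3) (h7 : ∃ x : G, orderOf x = 7) :
    PG237 G := by
  have key : ∀ (x : G) (p : ℕ), p.Prime → p ∣ orderOf x → (p = 2 ∨ p = 3 ∨ p = 7) := by
    intro x p hp hpx
    rcases h x with hx | hx | hx
    · left
      have h4 : p ∣ 2 ^ 2 := hpx.trans (orderOf_dvd_of_pow_eq_one hx)
      exact (Nat.prime_dvd_prime_iff_eq hp Nat.prime_two).mp (hp.dvd_of_dvd_pow h4)
    · right; left
      have h9 : p ∣ 3 ^ 2 := hpx.trans (orderOf_dvd_of_pow_eq_one hx)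
      exact (Nat.prime_dvd_prime_iff_eq hp Nat.prime_three).mp (hp.dvd_of_dvd_pow h9)
    · right; right
      have h7 : p ∣ 7 := hpx.trans (orderOf_dvd_of_pow_eq_one hx)
      exact (Nat.prime_dvd_prime_iff_eq hp (by norm_num)).mp h7
  constructor
  · intro p hp
    constructor
    · intro hpc
      have : Fact p.Prime := ⟨hp⟩
      obtain ⟨x, hx⟩ := exists_prime_orderOf_dvd_card' p hpc
      exact key x p hp (by rw [hx])
    · rintro (rfl | rfl | rfl)
      · obtain ⟨x, hx⟩ := h2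
        rw [← hx]; exact orderOf_dvd_natCard x
      · obtain ⟨x, hx⟩ := h3
        rw [← hx]; exact orderOf_dvd_natCard x
      · obtain ⟨x, hx⟩ := h7
        rw [← hx]; exact orderOf_dvd_natCard x
  · rintro p q hp hq hpq ⟨x, hx⟩
    rcases h x with hx' | hx' | hx'
    · have hd : p * q ∣ 2 ^ 2 := hx ▸ orderOf_dvd_of_pow_eq_one hx'
      have e1 := (Nat.prime_dvd_prime_iff_eq hp Nat.prime_two).mp
        (hp.dvd_of_dvd_pow ((dvd_mul_right p q).trans hd))
      have e2 := (Nat.prime_dvd_prime_iff_eq hq Nat.prime_two).mp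
        (hq.dvd_of_dvd_pow ((dvd_mul_left q p).trans hd))
      exact hpq (e1.trans e2.symm)
    · have hd : p * q ∣ 3 ^ 2 := hx ▸ orderOf_dvd_of_pow_eq_one hx'
      have e1 := (Nat.prime_dvd_prime_iff_eq hp Nat.prime_three).mp
        (hp.dvd_of_dvd_pow ((dvd_mul_right p q).trans hd))
      have e2 := (Nat.prime_dvd_prime_iff_eq hq Nat.prime_three).mp
        (hq.dvd_of_dvd_pow ((dvd_mul_left q p).trans hd))
      exact hpq (e1.trans e2.symm)
    · have hd : p * q ∣ 7 := hx ▸ orderOf_dvd_of_pow_eq_one hx'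
      have e1 := (Nat.prime_dvd_prime_iff_eq hp (by norm_num : Nat.Prime 7)).mp
        ((dvd_mul_right p q).trans hd)
      have e2 := (Nat.prime_dvd_prime_iff_eq hq (by norm_num : Nat.Prime 7)).mp
        ((dvd_mul_left q p).trans hd)
      exact hpq (e1.trans e2.symm)

end PG237

theorem zmod7_cases :
    ∀ x : ZMod 7, x = 0 ∨ x = 1 ∨ x = -1 ∨ x = 2 ∨ x = -2 ∨ x = 3 ∨ x = -3 := by
  decide

section F7
variable {F : Type*} [Field F] [Fintype F]

theorem f7_cases (hF : Fintype.card F = 7) (t : F) :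
    (7 : F) = 0 ∧ (t = 0 ∨ t = 1 ∨ t = -1 ∨ t = 2 ∨ t = -2 ∨ t = 3 ∨ t = -3) := by
  have hp : Nat.Prime 7 := by norm_num
  have : Fact (Nat.Prime 7) := ⟨hp⟩
  let e : ZMod 7 ≃+* F := ZMod.ringEquivOfPrime F hp hF
  constructor
  · have : (7 : F) = e (7 : ZMod 7) := by rw [map_ofNat]
    rw [this, show (7 : ZMod 7) = 0 from rfl, map_zero]
  · have hall := zmod7_cases
    have ht : t = e (e.symm t) := (e.apply_symm_apply t).symm
    rcases hall (e.symm t) with h | h | h | h | h | h | h <;> rw [h] at ht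
    · left; rw [ht, map_zero]
    · right; left; rw [ht, map_one]
    · right; right; left; rw [ht, map_neg, map_one]
    · right; right; right; left; rw [ht, map_ofNat]
    · right; right; right; right; left; rw [ht, map_neg, map_ofNat]
    · right; right; right; right; right; left; rw [ht, map_ofNat]
    · right; right; right; right; right; right; rw [ht, map_neg, map_ofNat]

/-- Powers of elements of `SL(2,7)` by trace. -/
theorem sl27_pow (hF : Fintype.card F = 7) (g : Matrix.SpecialLinearGroup (Fin 2) F) :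
    (g.1 0 0 + g.1 1 1 = 0 ∧ g.1 ^ 2 = -1) ∨
    (g.1 0 0 + g.1 1 1 = 1 ∧ g.1 ^ 3 = -1) ∨
    (g.1 0 0 + g.1 1 1 = -1 ∧ g.1 ^ 3 = 1) ∨
    (g.1 0 0 + g.1 1 1 = 2 ∧ g.1 ^ 7 = 1) ∨
    (g.1 0 0 + g.1 1 1 = -2 ∧ g.1 ^ 7 = -1) ∨
    (g.1 0 0 + g.1 1 1 = 3 ∧ g.1 ^ 4 = -1) ∨
    (g.1 0 0 + g.1 1 1 = -3 ∧ g.1 ^ 4 = -1) := by
  obtain ⟨h7, ht⟩ := f7_cases hF (g.1 0 0 + g.1 1 1)
  rcases ht with ht | ht | ht | ht | ht | ht | ht
  · left
    refine ⟨ht, ?_⟩
    rw [sl2_pow_of_trFib g 1 1 (by rw [trFib_2, ht]) (by simp)]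
    simp
  · right; left
    refine ⟨ht, ?_⟩
    rw [sl2_pow_of_trFib g 2 1 (by rw [trFib_3, ht]; ring) (by rw [trFib_2, ht])]
    simp
  · right; right; left
    refine ⟨ht, ?_⟩
    rw [sl2_pow_of_trFib g 2 (-1) (by rw [trFib_3, ht]; ring) (by rw [trFib_2, ht])]
    simp
  · right; right; right; left
    refine ⟨ht, ?_⟩
    rw [sl2_pow_of_trFib g 6 (-1) (by rw [trFib_7, ht]; linear_combination h7)
      (by rw [trFib_6, ht]; linear_combination h7)]
    simp
  · right; right; right; right; left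
    refine ⟨ht, ?_⟩
    rw [sl2_pow_of_trFib g 6 1 (by rw [trFib_7, ht]; linear_combination h7)
      (by rw [trFib_6, ht]; linear_combination (-1 : F) * h7)]
    simp
  · right; right; right; right; right; left
    refine ⟨ht, ?_⟩
    rw [sl2_pow_of_trFib g 3 1 (by rw [trFib_4, ht]; linear_combination (3 : F) * h7)
      (by rw [trFib_3, ht]; linear_combination h7)]
    simp
  · right; right; right; right; right; right
    refine ⟨ht, ?_⟩
    rw [sl2_pow_of_trFib g 3 1 (by rw [trFib_4, ht]; linear_combination (-3 : F) * h7)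
      (by rw [trFib_3, ht]; linear_combination h7)]
    simp

theorem psl27_pow (hF : Fintype.card F = 7) (x : Matrix.ProjectiveSpecialLinearGroup (Fin 2) F) :
    x ^ 4 = 1 ∨ x ^ 9 = 1 ∨ x ^ 7 = 1 := by
  obtain ⟨g, rfl⟩ := QuotientGroup.mk_surjective x
  rcases sl27_pow hF g with h | h | h | h | h | h | h
  · left
    have := psl2_mk_pow_eq_one_of g 2 (Or.inr h.2)
    rw [show 4 = 2 * 2 from rfl, pow_mul, this, one_pow]
  · right; left
    have := psl2_mk_pow_eq_one_of g 3 (Or.inr h.2)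
    rw [show 9 = 3 * 3 from rfl, pow_mul, this, one_pow]
  · right; left
    have := psl2_mk_pow_eq_one_of g 3 (Or.inl h.2)
    rw [show 9 = 3 * 3 from rfl, pow_mul, this, one_pow]
  · right; right
    exact psl2_mk_pow_eq_one_of g 7 (Or.inl h.2)
  · right; right
    exact psl2_mk_pow_eq_one_of g 7 (Or.inr h.2)
  · left
    exact psl2_mk_pow_eq_one_of g 4 (Or.inr h.2)
  · left
    exact psl2_mk_pow_eq_one_of g 4 (Or.inr h.2)

/-- An element of `SL(2,R)` with prescribed first row `0 1` and second row `-1 t`. -/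
def sl2T {R : Type*} [CommRing R] (t : R) : Matrix.SpecialLinearGroup (Fin 2) R :=
  ⟨!![0, 1; -1, t], by simp [Matrix.det_fin_two]⟩

theorem sl2T_trace {R : Type*} [CommRing R] (t : R) :
    (sl2T t).1 0 0 + (sl2T t).1 1 1 = t := by
  simp [sl2T]

theorem sl2T_01 {R : Type*} [CommRing R] (t : R) : (sl2T t).1 0 1 = 1 := by
  simp [sl2T]

theorem psl27_pg237 (hF : Fintype.card F = 7) :
    PG237 (Matrix.ProjectiveSpecialLinearGroup (Fin 2) F) := by
  classical
  have h7 : (7 : F) = 0 := (f7_cases hF 0).1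
  have hne : ∀ t : F, (QuotientGroup.mk (sl2T t) :
      Matrix.ProjectiveSpecialLinearGroup (Fin 2) F) ≠ 1 := fun t =>
    psl2_mk_ne_one_of _ (by rw [sl2T_01]; exact one_ne_zero)
  have hfin : Finite (Matrix.SpecialLinearGroup (Fin 2) F) := inferInstance
  have hp7 : Fact (Nat.Prime 7) := ⟨by norm_num⟩
  apply pg237_of_pow (psl27_pow hF)
  · refine ⟨QuotientGroup.mk (sl2T 0), orderOf_eq_prime ?_ (hne 0)⟩
    apply psl2_mk_pow_eq_one_of _ 2
    right
    rw [sl2_pow_of_trFib (sl2T (0 : F)) 1 1 (by rw [trFib_2, sl2T_trace]) (by simp)]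
    simp
  · refine ⟨QuotientGroup.mk (sl2T (-1)), orderOf_eq_prime ?_ (hne _)⟩
    apply psl2_mk_pow_eq_one_of _ 3
    left
    rw [sl2_pow_of_trFib (sl2T (-1 : F)) 2 (-1) (by rw [trFib_3, sl2T_trace]; ring)
      (by rw [trFib_2, sl2T_trace])]
    simp
  · refine ⟨QuotientGroup.mk (sl2T 2), orderOf_eq_prime ?_ (hne _)⟩
    apply psl2_mk_pow_eq_one_of _ 7
    left
    rw [sl2_pow_of_trFib (sl2T (2 : F)) 6 (-1)
      (by rw [trFib_7, sl2T_trace]; linear_combination h7)
      (by rw [trFib_6, sl2T_trace]; linear_combination h7)]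
    simp

end F7

section F8
variable {K : Type*} [Field K] [Fintype K] [CharP K 2]

theorem f8_cases (hK : Fintype.card K = 8) (t : K) :
    t = 0 ∨ t = 1 ∨ (t ^ 3 + t ^ 2 + 1 = 0 ∧ t ^ 7 = 1) ∨ (t ^ 3 + t + 1 = 0 ∧ t ^ 7 = 1) := by
  have h2 : (2 : K) = 0 := CharTwo.two_eq_zero
  have h8 : t ^ 8 = t := by
    have := FiniteField.pow_card t
    rwa [hK] at this
  by_cases h0 : t = 0
  · left; exact h0
  right
  have h7 : t ^ 7 = 1 := by
    have : t * (t ^ 7 - 1) = 0 := by linear_combination h8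
    rcases mul_eq_zero.mp this with h | h
    · exact absurd h h0
    · exact sub_eq_zero.mp h
  by_cases h1 : t = 1
  · left; exact h1
  right
  have h6 : (t ^ 3 + t ^ 2 + 1) * (t ^ 3 + t + 1) = 0 := by
    have : (t - 1) * ((t ^ 3 + t ^ 2 + 1) * (t ^ 3 + t + 1)) = 0 := by
      linear_combination h7 + (t ^ 4 - t ^ 3) * h2
    rcases mul_eq_zero.mp this with h | h
    · exact absurd (sub_eq_zero.mp h) h1
    · exact h
  rcases mul_eq_zero.mp h6 with h | h
  · left; exact ⟨h, h7⟩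
  · right; exact ⟨h, h7⟩

theorem sl28_pow (hK : Fintype.card K = 8) (g : Matrix.SpecialLinearGroup (Fin 2) K) :
    g ^ 4 = 1 ∨ g ^ 9 = 1 ∨ g ^ 7 = 1 := by
  have h2 : (2 : K) = 0 := CharTwo.two_eq_zero
  have hneg : (-1 : K) = 1 := CharTwo.neg_eq 1
  have hpow : ∀ n : ℕ, g.1 ^ n = 1 → g ^ n = 1 := by
    intro n h
    apply Subtype.ext
    rw [Matrix.SpecialLinearGroup.coe_pow, h]
    rfl
  rcases f8_cases hK (g.1 0 0 + g.1 1 1) with ht | ht | ⟨ht, ht7⟩ | ⟨ht, ht7⟩
  · left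
    have : g ^ 2 = 1 := by
      apply hpow
      rw [sl2_pow_of_trFib g 1 1 (by rw [trFib_2, ht]) (by simp), hneg, one_smul]
    rw [show 4 = 2 * 2 from rfl, pow_mul, this, one_pow]
  · right; left
    have : g ^ 3 = 1 := by
      apply hpow
      rw [sl2_pow_of_trFib g 2 1 (by rw [trFib_3, ht]; ring) (by rw [trFib_2, ht]), hneg,
        one_smul]
    rw [show 9 = 3 * 3 from rfl, pow_mul, this, one_pow]
  · right; right
    apply hpow
    rw [sl2_pow_of_trFib g 6 1
      (by rw [trFib_7]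
          linear_combination (3 + (-4) * (g.1 0 0 + g.1 1 1) + (-1) * (g.1 0 0 + g.1 1 1) ^ 2 +
            (g.1 0 0 + g.1 1 1) ^ 3) * ht +
            (-2 + 2 * (g.1 0 0 + g.1 1 1) + 2 * (g.1 0 0 + g.1 1 1) ^ 2) * h2)
      (by rw [trFib_6]
          linear_combination (-3 + (-1) * (g.1 0 0 + g.1 1 1) + (g.1 0 0 + g.1 1 1) ^ 2) * ht +
            (1 + 2 * (g.1 0 0 + g.1 1 1) + (g.1 0 0 + g.1 1 1) ^ 2) * h2), hneg, one_smul]
  · right; left
    apply hpow
    rw [sl2_pow_of_trFib g 8 1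
      (by rw [trFib_9]
          linear_combination (9 + 23 * (g.1 0 0 + g.1 1 1) + (-1) * (g.1 0 0 + g.1 1 1) ^ 2 +
            (-8) * (g.1 0 0 + g.1 1 1) ^ 3 + (g.1 0 0 + g.1 1 1) ^ 5) * ht +
            (-4 + (-16) * (g.1 0 0 + g.1 1 1) + (-16) * (g.1 0 0 + g.1 1 1) ^ 2) * h2)
      (by rw [trFib_8]
          linear_combination (17 + (-1) * (g.1 0 0 + g.1 1 1) + (-7) * (g.1 0 0 + g.1 1 1) ^ 2 +
            (g.1 0 0 + g.1 1 1) ^ 4) * ht +
            (-9 + (-10) * (g.1 0 0 + g.1 1 1) + 4 * (g.1 0 0 + g.1 1 1) ^ 2) * h2), hneg, one_smul]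

/-- A diagonal element of `SL(2,K)`. -/
def sl2D {R : Type*} [Field R] (a : R) (ha : a ≠ 0) : Matrix.SpecialLinearGroup (Fin 2) R :=
  ⟨Matrix.diagonal ![a, a⁻¹], by
    rw [Matrix.det_diagonal, Fin.prod_univ_two]
    simp [mul_inv_cancel₀ ha]⟩

theorem sl28_pg237 (hK : Fintype.card K = 8) :
    PG237 (Matrix.SpecialLinearGroup (Fin 2) K) := by
  classical
  have hneg : (-1 : K) = 1 := CharTwo.neg_eq 1
  have hfin : Finite (Matrix.SpecialLinearGroup (Fin 2) K) := inferInstance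
  have hp7 : Fact (Nat.Prime 7) := ⟨by norm_num⟩
  apply pg237_of_pow (sl28_pow hK)
  · exact ⟨sl2U, orderOf_eq_prime (by rw [pow_two]; exact sl2U_sq) sl2U_ne_one⟩
  · refine ⟨sl2T 1, orderOf_eq_prime ?_ ?_⟩
    · apply Subtype.ext
      rw [Matrix.SpecialLinearGroup.coe_pow,
        sl2_pow_of_trFib (sl2T (1 : K)) 2 1 (by rw [trFib_3, sl2T_trace]; ring)
          (by rw [trFib_2, sl2T_trace]), hneg, one_smul]
      rfl
    · intro h
      have := congrArg (fun m : Matrix.SpecialLinearGroup (Fin 2) K => m.1 0 1) h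
      simp [sl2T] at this
  · obtain ⟨a, ha0, ha1⟩ : ∃ a : K, a ≠ 0 ∧ a ≠ 1 := by
      have h3 : 2 < Fintype.card K := by rw [hK]; norm_num
      obtain ⟨a, b, c, hab, hac, hbc⟩ := Fintype.two_lt_card_iff.mp h3
      by_cases ha : a = 0 ∨ a = 1
      · by_cases hb : b = 0 ∨ b = 1
        · refine ⟨c, ?_, ?_⟩
          · rintro rfl
            rcases ha with rfl | rfl
            · exact hac rfl
            · rcases hb with rfl | rfl
              · exact hbc rfl
              · exact hab rfl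
          · rintro rfl
            rcases ha with rfl | rfl
            · rcases hb with rfl | rfl
              · exact hab rfl
              · exact hbc rfl
            · exact hac rfl
        · push Not at hb
          exact ⟨b, hb.1, hb.2⟩
      · push Not at ha
        exact ⟨a, ha.1, ha.2⟩
    have h8 : a ^ 8 = a := by
      have := FiniteField.pow_card a
      rwa [hK] at this
    have h7 : a ^ 7 = 1 := by
      have : a * (a ^ 7 - 1) = 0 := by linear_combination h8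
      rcases mul_eq_zero.mp this with h | h
      · exact absurd h ha0
      · exact sub_eq_zero.mp h
    refine ⟨sl2D a ha0, orderOf_eq_prime ?_ ?_⟩
    · apply Subtype.ext
      rw [Matrix.SpecialLinearGroup.coe_pow]
      show (Matrix.diagonal ![a, a⁻¹]) ^ 7 = 1
      rw [Matrix.diagonal_pow, ← Matrix.diagonal_one]
      congr 1
      funext i
      fin_cases i
      · simpa using h7
      · simp [inv_pow, h7]
    · intro h
      have := congrArg (fun m : Matrix.SpecialLinearGroup (Fin 2) K => m.1 0 0) h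
      simp [sl2D] at this
      exact ha1 this

end F8

/-- Arbitrarily large finite groups with the prime graph of `PSL(2,7)`. -/
theorem exists_large_samePG_psl27 {F : Type*} [Field F] [Fintype F] (hF : Fintype.card F = 7)
    (N : ℕ) :
    ∃ (H : Type) (_ : Group H) (_ : Finite H), N < Nat.card H ∧
      SamePG (Matrix.ProjectiveSpecialLinearGroup (Fin 2) F) H := by
  letI : Fintype (GaloisField 2 3) := Fintype.ofFinite _
  have hK : Fintype.card (GaloisField 2 3) = 8 := by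
    rw [← Nat.card_eq_fintype_card, GaloisField.card 2 3 (by norm_num)]
    norm_num
  obtain ⟨H, instG, instF, hN, hH⟩ := exists_large_samePG_psl2 (F := GaloisField 2 3) N
  refine ⟨H, instG, instF, hN, ?_⟩
  exact (samePG_of_pg237 (psl27_pg237 hF) (sl28_pg237 hK)).trans
    ((samePG_of_mulEquiv psl2EquivSl2).symm.trans hH)

end Cfsg.Agent.Lib.H18
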