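import Cfsg.Agent.Lib.H18.SchurTransport
import Cfsg.Agent.Lib.H2.PSLSimple
import Cfsg.Agent.Lib.H2.PSLCard
import Cfsg.Agent.Lib.H5.Order168b
import Cfsg.Agent.S0495
import Cfsg.Agent.S3965

/-!
# The Schur multiplier of a simple group of order 168 is cyclic of order 2 (helper18)

Upper bound: the exponent of the multiplier squared divides 168, and its 2-part embeds in the
multiplier of a Sylow 2-subgroup (dihedral of order 8, multiplier of order 2).  Lower bound:
`G ≃* PSL₂(7)` and `SL₂(7) → PSL₂(7)` is a stem extension with kernel of order 2.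
-/

set_option autoImplicit false

namespace Cfsg.Agent.Lib.H18.PSL32

open Cfsg.Agent.Lib.H18 Cfsg.Agent.Lib.H18.SL2Mult Cfsg.Agent.Lib.H18.SchurTransport Matrix

universe u

theorem card_psl32 {F : Type*} [Field F] [Fintype F] (hF : Fintype.card F = 2) :
    Nat.card (Matrix.ProjectiveSpecialLinearGroup (Fin 3) F) = 168 := by
  have h1 := Cfsg.Agent.Lib.H2.card_PSL_mul (F := F) 3 (by norm_num)
  have h2 := Cfsg.Agent.Lib.H12.card_SL_mul (F := F) 3 (by norm_num)
  rw [hF] at h1 h2
  rw [Fin.prod_univ_three] at h2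
  simp at h1 h2
  omega

/-- the double cover `SL₂(7) → PSL₂(7)` is a stem extension with kernel of order 2. -/
theorem sl27_stem :
    Cfsg.IsStemExtension (QuotientGroup.mk' (Subgroup.center (SpecialLinearGroup (Fin 2) (ZMod 7)))) := by
  refine ⟨QuotientGroup.mk'_surjective _, ?_, ?_⟩
  · rw [QuotientGroup.ker_mk']
  · rw [QuotientGroup.ker_mk']
    have h : commutator (SpecialLinearGroup (Fin 2) (ZMod 7)) = ⊤ :=
      Matrix.SL2.commutator_eq_top (a := (2 : ZMod 7)) (by decide) (by decide)
    rw [h]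
    exact le_top

theorem card_center_sl27 :
    Nat.card (Subgroup.center (SpecialLinearGroup (Fin 2) (ZMod 7))) = 2 := by
  have := Cfsg.Agent.Lib.H2.card_center_SL (F := ZMod 7) 2 (by norm_num)
  rw [this]
  simp [Nat.card_eq_fintype_card, ZMod.card]

/-- A simple group of order 168 has Schur multiplier cyclic of order 2. -/
theorem hasCyclicSchurMultiplier_two_of_simple_168 {G : Type u} [Group G] [Finite G]
    [IsSimpleGroup G] (h : Nat.card G = 168) : Cfsg.HasCyclicSchurMultiplier G 2 := by
  have : Fact (Nat.Prime 2) := ⟨Nat.prime_two⟩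
  have hA : Cfsg.HasSchurMultiplier G (SchurT G) := hasSchurMultiplier_schurT G
  -- exponent two
  have hexp : ∀ a : SchurT G, a ^ 2 = 1 := by
    obtain ⟨⟨Γ, _, _, σ, hσ, ⟨k⟩⟩, -⟩ := hA
    have h1 := exponent_sq_dvd_index_of_central_commutator σ.ker hσ.2.1 hσ.2.2
    rw [Subgroup.index_ker, MonoidHom.range_eq_top.mpr hσ.1, Subgroup.card_top, h] at h1
    have h2 : Monoid.exponent σ.ker ∣ 2 := by
      set n := Monoid.exponent σ.ker with hn
      have hle : n ^ 2 ≤ 168 := Nat.le_of_dvd (by norm_num) h1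
      have hn12 : n ≤ 12 := by nlinarith
      interval_cases n <;> omega
    intro a
    obtain ⟨x, rfl⟩ := k.surjective a
    rw [← map_pow, Monoid.exponent_dvd_iff_forall_pow_eq_one.mp h2 x, map_one]
  -- upper bound
  have hle : Nat.card (SchurT G) ≤ 2 := by
    obtain ⟨T⟩ : Nonempty (Sylow 2 G) := inferInstance
    obtain ⟨eT⟩ := Cfsg.Agent.Lib.H5.O168.sylow2_dihedral h T
    have hD : Cfsg.HasCyclicSchurMultiplier (DihedralGroup 4) 2 :=
      Cfsg.Agent.S3965.result 4 (by decide)
    have hT : Cfsg.HasCyclicSchurMultiplier T 2 :=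
      hasSchurMultiplier_of_group_mulEquiv eT.symm hD
    obtain ⟨C, D, -, -, ⟨eC⟩⟩ := primaryComponent_direct_factor_sylow 2 T hA hT
    have htop : CommGroup.primaryComponent (SchurT G) 2 = ⊤ := by
      rw [eq_top_iff]
      intro a _
      exact ⟨1, by rw [pow_one]; exact hexp a⟩
    have h1 : Nat.card (SchurT G) = Nat.card C := by
      rw [← Nat.card_congr eC.toEquiv, htop, Subgroup.card_top]
    rw [h1]
    have h2 : Nat.card (Multiplicative (ZMod 2)) = 2 := by
      rw [Nat.card_eq_fintype_card]; rfl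
    exact (Subgroup.card_le_card_group C).trans h2.le
  -- lower bound
  have hge : 2 ≤ Nat.card (SchurT G) := by
    obtain ⟨e7⟩ := Cfsg.Agent.S0495.result h (F := ZMod 7) (by simp [ZMod.card])
    obtain ⟨Γ, _, _, ⟨f⟩⟩ :=
      exists_mulEquiv_universe.{0, u} (SpecialLinearGroup (Fin 2) (ZMod 7))
    have hst := stem_transport _ sl27_stem f.symm e7.symm
    obtain ⟨π, hπ⟩ := hA.2 Γ _ hst
    have h1 := Nat.card_le_card_of_surjective π hπ
    rw [Nat.card_congr (kerTransport _ f.symm e7.symm).toEquiv, QuotientGroup.ker_mk',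
      card_center_sl27] at h1
    exact h1
  have hcard : Nat.card (SchurT G) = 2 := le_antisymm hle hge
  have h2 : Nat.card (Multiplicative (ZMod 2)) = 2 := by
    rw [Nat.card_eq_fintype_card]; rfl
  exact hasSchurMultiplier_of_mulEquiv G hA (mulEquivOfPrimeCardEq hcard h2)

/-- `PSL₃(2)` has Schur multiplier cyclic of order 2. -/
theorem psl32_hasCyclicSchurMultiplier_two {F : Type u} [Field F] [Fintype F]
    (hF : Fintype.card F = 2) :
    Cfsg.HasCyclicSchurMultiplier (Matrix.ProjectiveSpecialLinearGroup (Fin 3) F) 2 := by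
  have : IsSimpleGroup (Matrix.ProjectiveSpecialLinearGroup (Fin 3) F) :=
    Cfsg.Agent.Lib.H2.PSL_simple_of_three_le (by simp)
  have : Finite (Matrix.ProjectiveSpecialLinearGroup (Fin 3) F) :=
    Nat.finite_of_card_ne_zero (by rw [card_psl32 hF]; norm_num)
  exact hasCyclicSchurMultiplier_two_of_simple_168 (card_psl32 hF)

end Cfsg.Agent.Lib.H18.PSL32
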