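import Mathlib
import Cfsg.Agent.Lib.H12.BCTransS
import Cfsg.Agent.Lib.H12.PSpA

/-!
# `PSp_6(3)` has no element of order `26` (helper18, REQUEST-P1b of helper8 for S3664)
-/

set_option autoImplicit false
set_option linter.unusedSectionVars false

namespace Cfsg.Agent.Lib.H18.PSp63

open Module Polynomial
open Cfsg.Agent.Lib.H12.SpSemi Cfsg.Agent.Lib.H12.PSpG Cfsg.Agent.Lib.H12.PGraph
  Cfsg.Agent.Lib.H12.BC

universe u v
variable {F : Type u} [Field F] {V : Type v} [AddCommGroup V] [Module F V]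

theorem commute_aeval {S U : Module.End F V} (h : Commute S U) (π : F[X]) :
    Commute S (aeval U π) := by
  rw [aeval_eq_sum_range]
  exact Commute.sum_right _ _ _ (fun i _ => (h.pow_right i).smul_right _)

theorem ker_aeval_invt {S U : Module.End F V} (h : Commute S U) (π : F[X]) :
    ∀ w ∈ LinearMap.ker (aeval U π), S w ∈ LinearMap.ker (aeval U π) := by
  intro w hw
  rw [LinearMap.mem_ker] at hw ⊢
  have h1 : aeval U π (S w) = (aeval U π * S) w := rfl
  rw [h1, ← (commute_aeval h π).eq, Module.End.mul_apply, hw, map_zero]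

section card3

variable [Fintype F]

theorem three_eq_zero (hF : Fintype.card F = 3) : (3 : F) = 0 := by
  have h := FiniteField.cast_card_eq_zero F
  rw [hF] at h
  exact_mod_cast h

theorem two_ne_zero' (hF : Fintype.card F = 3) : (2 : F) ≠ 0 := by
  intro h2
  have h3 := three_eq_zero hF
  have h1 : (1 : F) = 0 := by linear_combination h3 - h2
  exact one_ne_zero h1

theorem sq_ne_neg_one (hF : Fintype.card F = 3) (c : F) : c * c ≠ -1 := by
  intro hc
  have h1 := FiniteField.pow_card c
  rw [hF] at h1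
  have h2 : c * (c * c) = c := by
    calc c * (c * c) = c ^ 3 := by ring
      _ = c := h1
  rw [hc] at h2
  have h3 : (2 : F) * c = 0 := by linear_combination -h2
  rcases mul_eq_zero.mp h3 with h4 | h4
  · exact two_ne_zero' hF h4
  · rw [h4, mul_zero] at hc
    exact one_ne_zero (neg_eq_zero.mp hc.symm)

variable [FiniteDimensional F V]

/-- an invariant subspace of an operator with `T² = -1` over `𝔽₃` has even dimension -/
theorem even_finrank_of_sq (hF : Fintype.card F = 3) {T : Module.End F V} (hT : T * T = -1)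
    (W : Submodule F V) (hW : ∀ w ∈ W, T w ∈ W) : Even (finrank F W) := by
  let t : Module.End F W := T.restrict hW
  have htt : t * t = (-1 : F) • (1 : Module.End F W) := by
    apply LinearMap.ext
    intro w
    apply Subtype.ext
    have h1 : ((t * t) w : V) = (T * T) (w : V) := rfl
    rw [h1, hT]
    simp
  have hdet : LinearMap.det t * LinearMap.det t = (-1 : F) ^ finrank F W := by
    rw [← map_mul, htt, LinearMap.det_smul, map_one, mul_one]
  by_contra hodd
  rw [Nat.not_even_iff_odd] at hodd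
  rw [hodd.neg_one_pow] at hdet
  exact sq_ne_neg_one hF _ hdet

end card3

/-- the adjoint of a cubic polynomial in an isometry -/
theorem cubic_adj {B : LinearMap.BilinForm F V} {U : Module.End F V} (h : SpData B U)
    (a b c : F) (x z : V) :
    B ((U ^ 3) x + a • (U ^ 2) x + b • U x + c • x) ((U ^ 3) z) =
      B x (c • (U ^ 3) z + b • (U ^ 2) z + a • U z + z) := by
  have h3 : B ((U ^ 3) x) ((U ^ 3) z) = B x z := h.iso_pow 3 x z
  have h2 : B ((U ^ 2) x) ((U ^ 3) z) = B x (U z) := by
    have := h.iso_pow_le (show 2 ≤ 3 by norm_num) x z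
    simpa using this
  have h1 : B (U x) ((U ^ 3) z) = B x ((U ^ 2) z) := by
    have := h.iso_pow_le (show 1 ≤ 3 by norm_num) x z
    simpa using this
  simp only [map_add, map_smul, LinearMap.add_apply, LinearMap.smul_apply, smul_eq_mul, h3, h2, h1]
  ring

/-- a cubic coprime to its reverse cannot annihilate an isometry -/
theorem no_cubic [Nontrivial V] {B : LinearMap.BilinForm F V} {U : Module.End F V}
    (h : SpData B U) (a b c : F) (π π' α β : F[X])
    (hP : ∀ x, aeval U π x = (U ^ 3) x + a • (U ^ 2) x + b • U x + c • x)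
    (hP' : ∀ z, aeval U π' z = c • (U ^ 3) z + b • (U ^ 2) z + a • U z + z)
    (hbez : α * π + β * π' = 1) : aeval U π ≠ 0 := by
  intro h0
  have h1 : aeval U π' = 0 := by
    apply LinearMap.ext
    intro z
    rw [LinearMap.zero_apply]
    apply h.nd_right
    intro x
    rw [hP', ← cubic_adj h a b c x z, ← hP, h0, LinearMap.zero_apply, map_zero,
      LinearMap.zero_apply]
  have h2 := congrArg (aeval U) hbez
  rw [map_add, map_mul, map_mul, h0, h1, mul_zero, mul_zero, add_zero, map_one] at h2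
  obtain ⟨v, hv⟩ := exists_ne (0 : V)
  apply hv
  have h3 := congrArg (fun f : Module.End F V => f v) h2
  simpa using h3.symm

section main

variable [Fintype F]

theorem finrank_V : finrank F (Fin 3 ⊕ Fin 3 → F) = 6 := by
  rw [Module.finrank_fintype_fun_eq_card]
  simp

theorem orderOf_three : orderOf (((3 : ℕ) : ZMod 13)) = 3 := by
  haveI : Fact (Nat.Prime 3) := ⟨Nat.prime_three⟩
  apply orderOf_eq_prime
  · decide
  · decide

theorem fact13 : Fact (Nat.Prime 13) := ⟨by norm_num⟩

theorem thirteen_ne_zero (hF : Fintype.card F = 3) : ((13 : ℕ) : F) ≠ 0 := by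
  have h3 := three_eq_zero hF
  have h1 : ((13 : ℕ) : F) = 1 := by
    push_cast
    linear_combination 4 * h3
  rw [h1]
  exact one_ne_zero

/-- the polynomial identity `X¹³ - 1 = (X - 1) f₁ f₂ f₃ f₄` over `𝔽₃` -/
theorem factor13 (hF : Fintype.card F = 3) :
    (X - 1 : F[X]) * ((X ^ 3 + X ^ 2 - 1) * (X ^ 3 + X ^ 2 + X - 1) * (X ^ 3 - X - 1) *
      (X ^ 3 - X ^ 2 - X - 1)) = X ^ 13 - 1 := by
  have h3 : (3 : F[X]) = 0 := by
    rw [show (3 : F[X]) = C (3 : F) from (map_ofNat C 3).symm, three_eq_zero hF, map_zero]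
  linear_combination (X ^ 2 + 2 * X ^ 3 - X ^ 4 - 4 * X ^ 5 - 3 * X ^ 6 + 3 * X ^ 7 + 4 * X ^ 8 +
    X ^ 9 - 2 * X ^ 10 - X ^ 11 : F[X]) * h3

theorem main_aux [FiniteDimensional F V] (hdim : finrank F V = 6) (hF : Fintype.card F = 3)
    {g0 : Module.End F V} {B : LinearMap.BilinForm F V} (h : SpData B g0)
    (h26 : g0 ^ 26 = 1 ∨ g0 ^ 26 = -1) (h13 : g0 ^ 13 ≠ 1 ∧ g0 ^ 13 ≠ -1) (h4 : g0 ^ 4 ≠ 1) :
    False := by
  haveI := fact13
  haveI : Nontrivial V := Module.nontrivial_of_finrank_pos (R := F) (by rw [hdim]; norm_num)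
  have h3F := three_eq_zero hF
  obtain ⟨U, hU⟩ : ∃ U : Module.End F V, U = g0 ^ 4 := ⟨_, rfl⟩
  obtain ⟨T, hT⟩ : ∃ T : Module.End F V, T = g0 ^ 13 := ⟨_, rfl⟩
  have hUsp : SpData B U := ⟨h.alt, h.nd, by rw [hU]; exact h.iso_pow 4⟩
  have hTsp : SpData B T := ⟨h.alt, h.nd, by rw [hT]; exact h.iso_pow 13⟩
  have hU13 : U ^ 13 = 1 := by
    rw [hU, ← pow_mul, show 4 * 13 = 26 * 2 by norm_num, pow_mul]
    rcases h26 with h | h
    · rw [h, one_pow]
    · rw [h, sq]
      simp
  have hU1 : U ≠ 1 := by rw [hU]; exact h4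
  have hTT : T * T = g0 ^ 26 := by rw [hT, ← pow_add]
  have hcomm : Commute T U := by
    rw [hT, hU]
    exact (Commute.refl g0).pow_pow 13 4
  have h13F := thirteen_ne_zero hF
  -- `range (U - 1) = ⊤`
  have hk : 3 = orderOf ((Fintype.card F : ℕ) : ZMod 13) := by rw [hF]; exact orderOf_three.symm
  have hle := two_eta_le hUsp 13 hU13 h13F hU1 hk (Or.inl ⟨by decide, rfl⟩)
  have hrange : LinearMap.range (U - 1) = ⊤ := by
    apply Submodule.eq_top_of_finrank_eq
    have h1 := Submodule.finrank_le (LinearMap.range (U - 1))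
    rw [hdim] at h1 ⊢
    omega
  have hdiv : ∀ W : Submodule F V, (∀ w ∈ W, U w ∈ W) → 3 ∣ finrank F W := by
    intro W hW
    have h1 := orderOf_dvd_finrank U 13 hU13 h13F W (by rw [hrange]; exact le_top) hW
    rw [← hk] at h1
    exact h1
  have hsix : ∀ W : Submodule F V, (∀ w ∈ W, U w ∈ W) → Even (finrank F W) →
      W ≠ ⊥ → W = ⊤ := by
    intro W hW hev hne
    apply Submodule.eq_top_of_finrank_eq
    have h1 := Submodule.finrank_le W
    have h2 := hdiv W hW
    have h3 : finrank F W ≠ 0 := by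
      intro h0
      exact hne (Submodule.finrank_eq_zero.mp h0)
    rw [hdim] at h1 ⊢
    obtain ⟨m, hm⟩ := hev
    omega
  rcases h26 with h26 | h26
  · -- `T² = 1`
    have hT2 : T ^ 2 = 1 := by rw [sq, hTT, h26]
    have h2F : ((2 : ℕ) : F) ≠ 0 := by
      push_cast
      exact two_ne_zero' hF
    have hinv := range_sub_one_invt (T := T) U hcomm.eq.symm
    have hev := even_finrank_range hTsp 2 hT2 h2F
    by_cases hbot : LinearMap.range (T - 1) = ⊥
    · apply h13.1
      rw [← hT]
      have h1 : T - 1 = 0 := LinearMap.range_eq_bot.mp hbot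
      exact sub_eq_zero.mp h1
    · have htop := hsix _ hinv hev hbot
      have hc := isCompl_ker_range (T := T) 2 hT2 h2F
      have hker : LinearMap.ker (T - 1) = ⊥ := by
        have := hc.inf_eq_bot
        rw [htop, inf_top_eq] at this
        exact this
      apply h13.2
      rw [← hT]
      have h1 : (T - 1) * (T + 1) = 0 := by
        have : (T - 1) * (T + 1) = T * T - 1 := by
          simp only [sub_mul, mul_add, mul_one, one_mul]
          abel
        rw [this, hTT, h26, sub_self]
      have h2 : T + 1 = 0 := by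
        apply LinearMap.ext
        intro v
        have h3 : (T + 1) v ∈ LinearMap.ker (T - 1) := by
          rw [LinearMap.mem_ker, ← Module.End.mul_apply, h1, LinearMap.zero_apply]
        rw [hker, Submodule.mem_bot] at h3
        rw [h3, LinearMap.zero_apply]
      exact eq_neg_of_add_eq_zero_left h2
  · -- `T² = -1`
    have hTT' : T * T = -1 := by rw [hTT, h26]
    have hkerU : LinearMap.ker (U - 1) = ⊥ := LinearMap.ker_eq_bot_iff_range_eq_top.mpr hrange
    have hinj := LinearMap.ker_eq_bot.mp hkerU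
    have hprod : aeval U ((X ^ 3 + X ^ 2 - 1 : F[X]) * (X ^ 3 + X ^ 2 + X - 1) * (X ^ 3 - X - 1) *
        (X ^ 3 - X ^ 2 - X - 1)) = 0 := by
      have h1 := congrArg (aeval U) (factor13 hF)
      rw [map_mul] at h1
      have h2 : aeval U (X ^ 13 - 1 : F[X]) = 0 := by
        simp [hU13]
      rw [h2] at h1
      have h3 : aeval U (X - 1 : F[X]) = U - 1 := by simp
      rw [h3] at h1
      apply LinearMap.ext
      intro v
      apply hinj
      rw [← Module.End.mul_apply, h1, LinearMap.zero_apply, map_zero]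
    -- every cubic factor acts injectively
    have hkey : ∀ π : F[X], aeval U π ≠ 0 → LinearMap.ker (aeval U π) = ⊥ := by
      intro π hπ
      by_contra hne
      have hev := even_finrank_of_sq hF hTT' _ (ker_aeval_invt hcomm π)
      have htop := hsix _ (ker_aeval_invt (Commute.refl U) π) hev hne
      exact hπ (LinearMap.ker_eq_top.mp htop)
    have hX : (aeval U (X : F[X])) = U := aeval_X U
    have e1 : aeval U (X ^ 3 + X ^ 2 - 1 : F[X]) ≠ 0 := by
      apply no_cubic hUsp 1 0 (-1) _ (-(X ^ 3 - X - 1)) (X - 1) X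
      · intro x; simp [sub_eq_add_neg]
      · intro z; simp [sub_eq_add_neg]; abel
      · ring
    have e3 : aeval U (X ^ 3 - X - 1 : F[X]) ≠ 0 := by
      apply no_cubic hUsp 0 (-1) (-1) _ (-(X ^ 3 + X ^ 2 - 1)) (-X) (-(X - 1))
      · intro x; simp [sub_eq_add_neg]
      · intro z; simp [sub_eq_add_neg]; abel
      · ring
    have h3X : (3 : F[X]) = 0 := by
      rw [show (3 : F[X]) = C (3 : F) from (map_ofNat C 3).symm, h3F, map_zero]
    have e2 : aeval U (X ^ 3 + X ^ 2 + X - 1 : F[X]) ≠ 0 := by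
      apply no_cubic hUsp 1 1 (-1) _ (-(X ^ 3 - X ^ 2 - X - 1)) (X ^ 2) (1 - X + X ^ 2)
      · intro x; simp [sub_eq_add_neg]
      · intro z; simp [sub_eq_add_neg]; abel
      · linear_combination (X ^ 4 : F[X]) * h3X
    have e4 : aeval U (X ^ 3 - X ^ 2 - X - 1 : F[X]) ≠ 0 := by
      apply no_cubic hUsp (-1) (-1) (-1) _ (-(X ^ 3 + X ^ 2 + X - 1)) (-1 + X - X ^ 2) (-X ^ 2)
      · intro x; simp [sub_eq_add_neg]
      · intro z; simp [sub_eq_add_neg]; abel
      · linear_combination (X ^ 4 : F[X]) * h3X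
    have k1 := hkey _ e1
    have k2 := hkey _ e2
    have k3 := hkey _ e3
    have k4 := hkey _ e4
    rw [LinearMap.ker_eq_bot] at k1 k2 k3 k4
    rw [map_mul, map_mul, map_mul] at hprod
    obtain ⟨v, hv⟩ := exists_ne (0 : V)
    apply hv
    have h5 := congrArg (fun f : Module.End F V => f v) hprod
    simp only [Module.End.mul_apply, LinearMap.zero_apply] at h5
    have inj0 : ∀ {f : Module.End F V}, Function.Injective f →
        ∀ {x : V}, f x = 0 → x = 0 :=
      fun hf _ hx => hf (hx.trans (map_zero _).symm)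
    exact inj0 k4 (inj0 k3 (inj0 k2 (inj0 k1 h5)))

/-- REQUEST-P1b of helper8: `PSp_6(3)` has no element of order `26` -/
theorem psp63_no_order_26 {F : Type*} [Field F] [Fintype F] (hF : Fintype.card F = 3)
    (g : Cfsg.PSp 3 F) : orderOf g ≠ 26 := by
  intro hord
  obtain ⟨g0, hsp, hpow⟩ := exists_of_psp (n := 3) (by norm_num) g
  have h26 : g0 ^ 26 = 1 ∨ g0 ^ 26 = -1 :=
    (hpow 26).mp (by rw [← hord]; exact pow_orderOf_eq_one g)
  have h13 : g0 ^ 13 ≠ 1 ∧ g0 ^ 13 ≠ -1 := by
    have h1 : ¬ (g ^ 13 = 1) := by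
      intro h
      have h2 := orderOf_dvd_of_pow_eq_one h
      rw [hord] at h2
      omega
    rw [hpow 13] at h1
    push Not at h1
    exact h1
  have h4 : g0 ^ 4 ≠ 1 := by
    intro h
    have h1 : g ^ 4 = 1 := (hpow 4).mpr (Or.inl h)
    have h2 := orderOf_dvd_of_pow_eq_one h1
    rw [hord] at h2
    omega
  exact main_aux finrank_V hF hsp h26 h13 h4

end main

end Cfsg.Agent.Lib.H18.PSp63
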