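import Mathlib
import Cfsg.Agent.Lib.H1.NilpotentBasic

/-!
# S5239 piece CF9 (helper18): a core-free subgroup of order nine

`|G| = 81`, `|Z(G)| = 3`, `A ≤ G` elementary abelian of order `27`: a complement of `Z(G)` in `A`
has order `9` and is core-free.
-/

set_option autoImplicit false

namespace Cfsg.Agent.Lib.H18.Pearl

open scoped Pointwise

/-- In a finite abelian group of prime exponent every subgroup has a complement. -/
theorem exists_compl_of_exponent {A : Type*} [Group A] [Finite A]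
    (hcomm : ∀ a b : A, a * b = b * a) (p : ℕ) [hp : Fact p.Prime] (hexp : ∀ a : A, a ^ p = 1)
    (Z : Subgroup A) :
    ∃ B : Subgroup A, Z ⊓ B = ⊥ ∧ Nat.card ↥Z * Nat.card ↥B = Nat.card A := by
  have hnorm : ∀ H : Subgroup A, H.Normal := fun H =>
    ⟨fun n hn g => by rw [hcomm g n, mul_inv_cancel_right]; exact hn⟩
  haveI : Finite (Subgroup A) :=
    Finite.of_injective (fun H : Subgroup A => (H : Set A)) SetLike.coe_injective
  haveI : Nonempty {B : Subgroup A // Z ⊓ B = ⊥} := ⟨⟨⊥, inf_bot_eq _⟩⟩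
  obtain ⟨⟨B, hB⟩, hmax⟩ :=
    Finite.exists_max (fun B : {B : Subgroup A // Z ⊓ B = ⊥} => Nat.card ↥B.1)
  have htop : Z ⊔ B = ⊤ := by
    by_contra hne
    obtain ⟨a, ha⟩ : ∃ a, a ∉ Z ⊔ B := by
      by_contra h
      push_neg at h
      exact hne (eq_top_iff.mpr fun x _ => h x)
    have ha1 : a ≠ 1 := fun h => ha (h ▸ one_mem _)
    have hord : orderOf a = p := orderOf_eq_prime (hexp a) ha1
    have hcC : Nat.card ↥(Subgroup.zpowers a) = p := by rw [Nat.card_zpowers, hord]
    have hint : (Z ⊔ B) ⊓ Subgroup.zpowers a = ⊥ := by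
      have h2 : Nat.card ↥((Z ⊔ B) ⊓ Subgroup.zpowers a) ∣ p :=
        hcC ▸ Subgroup.card_dvd_of_le inf_le_right
      rcases (Nat.dvd_prime hp.out).mp h2 with h3 | h3
      · exact Subgroup.eq_bot_of_card_eq _ h3
      · exfalso
        have h4 : (Z ⊔ B) ⊓ Subgroup.zpowers a = Subgroup.zpowers a :=
          Subgroup.eq_of_le_of_card_ge inf_le_right (by rw [h3, hcC])
        have h5 : Subgroup.zpowers a ≤ Z ⊔ B := h4 ▸ inf_le_left
        exact ha (h5 (Subgroup.mem_zpowers a))
    have hB' : Z ⊓ (B ⊔ Subgroup.zpowers a) = ⊥ := by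
      rw [eq_bot_iff]
      intro x hx0
      obtain ⟨hxZ, hxBC⟩ := Subgroup.mem_inf.mp hx0
      have := hnorm (Subgroup.zpowers a)
      have hx : x ∈ ((B : Set A) * (Subgroup.zpowers a : Set A)) := by
        rw [← Subgroup.mul_normal]; exact hxBC
      obtain ⟨b, hb, c, hc, rfl⟩ := Set.mem_mul.mp hx
      have hc1 : c = 1 := by
        have h6 : c ∈ (Z ⊔ B) ⊓ Subgroup.zpowers a := by
          refine Subgroup.mem_inf.mpr ⟨?_, hc⟩
          have h7 : c = b⁻¹ * (b * c) := by group
          rw [h7]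
          exact mul_mem (inv_mem (Subgroup.mem_sup_right hb)) (Subgroup.mem_sup_left hxZ)
        rw [hint] at h6
        exact Subgroup.mem_bot.mp h6
      rw [hc1, mul_one] at hxZ ⊢
      have h8 : b ∈ Z ⊓ B := Subgroup.mem_inf.mpr ⟨hxZ, hb⟩
      rw [hB] at h8
      exact h8
    have h1 := hmax ⟨B ⊔ Subgroup.zpowers a, hB'⟩
    have h9 : B = B ⊔ Subgroup.zpowers a := Subgroup.eq_of_le_of_card_ge le_sup_left h1
    apply ha
    apply Subgroup.mem_sup_right
    rw [h9]
    exact Subgroup.mem_sup_right (Subgroup.mem_zpowers a)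
  refine ⟨B, hB, ?_⟩
  have := hnorm B
  have hcomp : Subgroup.IsComplement' Z B :=
    Subgroup.isComplement'_of_disjoint_and_mul_eq_univ (disjoint_iff.mpr hB)
      (by rw [← Subgroup.mul_normal, htop]; rfl)
  exact hcomp.card_mul_card

/-- **CF9**.  `|G| = 81`, `|Z(G)| = 3`, `A ≤ G` elementary abelian of order `27`: a complement `B` of
`Z(G)` in `A` has order `9` and is core-free. -/
theorem exists_coreFree_nine {G : Type*} [Group G] [Finite G] (hG : Nat.card G = 81)
    (hZ : Nat.card ↥(Subgroup.center G) = 3) (A : Subgroup G) (hA : Nat.card ↥A = 27)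
    (hAab : ∀ a ∈ A, ∀ b ∈ A, a * b = b * a) (hAexp : ∀ a ∈ A, a ^ 3 = 1) :
    ∃ B : Subgroup G, Nat.card ↥B = 9 ∧ B.normalCore = ⊥ := by
  haveI : Fact (Nat.Prime 3) := ⟨Nat.prime_three⟩
  have hpG : IsPGroup 3 G := IsPGroup.of_card (n := 4) (by rw [hG]; norm_num)
  haveI : Group.IsNilpotent G := hpG.isNilpotent
  -- nontrivial normal subgroups contain the centre
  have key : ∀ N : Subgroup G, N.Normal → N ≠ ⊥ → Subgroup.center G ≤ N := by
    intro N hN hne
    have := hN
    have h1 := Cfsg.Agent.Lib.H1.normal_inf_center_ne_bot N hne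
    have h2 : Nat.card ↥(N ⊓ Subgroup.center G) ∣ 3 :=
      hZ ▸ Subgroup.card_dvd_of_le inf_le_right
    rcases (Nat.dvd_prime Nat.prime_three).mp h2 with h3 | h3
    · exact absurd (Subgroup.eq_bot_of_card_eq _ h3) h1
    · have h4 : N ⊓ Subgroup.center G = Subgroup.center G :=
        Subgroup.eq_of_le_of_card_ge inf_le_right (by rw [h3, hZ])
      rw [← h4]; exact inf_le_left
  have hidx : A.index = 3 := by
    have := Subgroup.card_mul_index A
    rw [hA, hG] at this; omega
  have hAn : A.Normal :=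
    Subgroup.normal_of_index_eq_minFac_card (by rw [hidx, hG]; norm_num)
  have hAne : A ≠ ⊥ := by
    intro h
    rw [h, Subgroup.card_bot] at hA
    omega
  have hZA : Subgroup.center G ≤ A := key A hAn hAne
  obtain ⟨B', hB'1, hB'2⟩ := exists_compl_of_exponent (A := ↥A)
    (fun a b => Subtype.ext (hAab a a.2 b b.2)) 3
    (fun a => Subtype.ext (by simpa using hAexp a a.2)) ((Subgroup.center G).subgroupOf A)
  have hcZ' : Nat.card ↥((Subgroup.center G).subgroupOf A) = 3 := by
    rw [Nat.card_congr (Subgroup.subgroupOfEquivOfLe hZA).toEquiv, hZ]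
  have hcB' : Nat.card ↥B' = 9 := by
    rw [hcZ', hA] at hB'2; omega
  refine ⟨B'.map A.subtype, ?_, ?_⟩
  · rw [Subgroup.card_map_of_injective A.subtype_injective, hcB']
  · by_contra hne
    have h1 : Subgroup.center G ≤ (B'.map A.subtype).normalCore :=
      key _ (Subgroup.normalCore_normal _) hne
    have h2 : Subgroup.center G ≤ B'.map A.subtype := h1.trans (Subgroup.normalCore_le _)
    have h3 : Subgroup.center G = ⊥ := by
      rw [eq_bot_iff]
      intro x hx
      obtain ⟨b, hb, rfl⟩ := Subgroup.mem_map.mp (h2 hx)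
      have h4 : b ∈ (Subgroup.center G).subgroupOf A ⊓ B' :=
        Subgroup.mem_inf.mpr ⟨Subgroup.mem_subgroupOf.mpr hx, hb⟩
      rw [hB'1, Subgroup.mem_bot] at h4
      rw [h4]
      exact Subgroup.mem_bot.mpr (map_one _)
    rw [h3, Subgroup.card_bot] at hZ
    omega

end Cfsg.Agent.Lib.H18.Pearl
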