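import Mathlib

set_option autoImplicit false
open scoped Pointwise

namespace Cfsg.Agent.Lib.H18.PermPStab

/-- Fixed-point argument: a `p`-subgroup `P` inside `K`, a subgroup `S ≤ K` fixing the point `c`,
where `K` cannot move `c` into the fixed points of `P` unless `c` is already fixed: then `p ∣ S.index`. -/
theorem dvd_index_of_moved {H : Type*} [Group H] [Finite H] {Ω : Type*} [MulAction H Ω]
    (p : ℕ) [Fact p.Prime] (P : Subgroup H) (hP : IsPGroup p P) (K S : Subgroup H)
    (hPK : P ≤ K) (hSK : S ≤ K) (c : Ω) (hSc : ∀ s ∈ S, s • c = c)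
    (hK : ∀ k ∈ K, (∀ x ∈ P, x • (k • c) = k • c) → (∀ x ∈ P, x • c = c))
    (hc : ∃ x ∈ P, x • c ≠ c) : p ∣ S.index := by
  by_contra hnd
  have hrel : ¬ p ∣ S.relIndex K := by
    intro h
    apply hnd
    rw [← Subgroup.relIndex_mul_index hSK]
    exact Dvd.dvd.mul_right h _
  -- the p-group P.subgroupOf K acts on K ⧸ S.subgroupOf K
  have hP' : IsPGroup p (P.subgroupOf K) := hP.comap_subtype
  have hcard : ¬ p ∣ Nat.card (↥K ⧸ S.subgroupOf K) := by
    have : Nat.card (↥K ⧸ S.subgroupOf K) = S.relIndex K := by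
      rw [Subgroup.relIndex, Subgroup.index]
    rw [this]; exact hrel
  obtain ⟨q, hq⟩ := hP'.nonempty_fixed_point_of_prime_not_dvd_card (↥K ⧸ S.subgroupOf K) hcard
  obtain ⟨k, rfl⟩ := QuotientGroup.mk_surjective q
  rw [MulAction.mem_fixedPoints] at hq
  obtain ⟨x, hxP, hxc⟩ := hc
  apply hxc
  apply hK k.1 k.2 _ x hxP
  intro y hyP
  have hyK : y ∈ K := hPK hyP
  have h1 := hq ⟨⟨y, hyK⟩, by simpa [Subgroup.mem_subgroupOf] using hyP⟩
  have h2 : (((⟨y, hyK⟩ * k : ↥K)) : ↥K ⧸ S.subgroupOf K) = (k : ↥K ⧸ S.subgroupOf K) := h1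
  have h3 : k⁻¹ * (⟨y, hyK⟩ * k) ∈ S.subgroupOf K := by
    have := QuotientGroup.eq.mp h2.symm
    simpa using this
  rw [Subgroup.mem_subgroupOf] at h3
  have h4 := hSc _ h3
  simp only [Subgroup.coe_mul, Subgroup.coe_inv, mul_smul] at h4
  have h5 := congrArg (fun z => (k : H) • z) h4
  simpa using h5

/-- Any finite group acting faithfully with order divisible by `p` has two disjoint nonempty sets
whose common setwise stabilizer has index divisible by `p`. -/
theorem exists_pair {H : Type*} [Group H] [Finite H] {Ω : Type*} [MulAction H Ω] [FaithfulSMul H Ω]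
    (p : ℕ) [Fact p.Prime] (hp : p ∣ Nat.card H) :
    ∃ Δ₁ Δ₂ : Set Ω, Δ₁.Nonempty ∧ Δ₂.Nonempty ∧ Disjoint Δ₁ Δ₂ ∧
      p ∣ (MulAction.stabilizer H Δ₁ ⊓ MulAction.stabilizer H Δ₂).index := by
  obtain ⟨P⟩ : Nonempty (Sylow p H) := inferInstance
  have hPne : (P : Subgroup H) ≠ ⊥ := by
    intro h
    have hcard := P.card_eq_multiplicity
    rw [h, Subgroup.card_bot] at hcard
    have : (Nat.card H).factorization p = 0 := by
      by_contra h0
      have : 1 < p ^ (Nat.card H).factorization p :=
        Nat.one_lt_pow h0 (Fact.out : p.Prime).one_lt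
      omega
    have hpos : 0 < (Nat.card H).factorization p :=
      (Fact.out : p.Prime).factorization_pos_of_dvd Nat.card_pos.ne' hp
    omega
  obtain ⟨x, hx1⟩ := (Subgroup.ne_bot_iff_exists_ne_one.mp hPne)
  have hx1' : (x : H) ≠ 1 := fun h => hx1 (Subtype.ext h)
  obtain ⟨c, hc⟩ : ∃ c : Ω, (x : H) • c ≠ c := by
    by_contra hcon
    push Not at hcon
    apply hx1'
    apply FaithfulSMul.eq_of_smul_eq_smul (α := Ω)
    intro a
    rw [one_smul]; exact hcon a
  obtain ⟨F, hF⟩ : ∃ F : Set Ω, F = {a : Ω | ∀ y ∈ (P : Subgroup H), y • a = a} := ⟨_, rfl⟩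
  have hcF : c ∉ F := by
    intro h
    rw [hF] at h
    exact hc (h _ x.2)
  by_cases hFne : F.Nonempty
  · refine ⟨F, {c}, hFne, Set.singleton_nonempty c, ?_, ?_⟩
    · rw [Set.disjoint_singleton_right]; exact hcF
    · apply dvd_index_of_moved p (P : Subgroup H) P.2 (MulAction.stabilizer H F) _ _ inf_le_left c
      · intro s hs
        have := (Subgroup.mem_inf.mp hs).2
        rw [MulAction.mem_stabilizer_iff, Set.smul_set_singleton] at this
        exact Set.singleton_eq_singleton_iff.mp this
      · intro k hk hfix y hy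
        rw [MulAction.mem_stabilizer_iff] at hk
        have hkc : k • c ∈ F := by
          rw [hF]; exact hfix
        rw [← hk, Set.smul_mem_smul_set_iff] at hkc
        exact absurd hkc hcF
      · exact ⟨x, x.2, hc⟩
      · intro y hy
        rw [MulAction.mem_stabilizer_iff]
        ext a
        constructor
        · rintro ⟨b, hb, rfl⟩
          have hb' := hb
          rw [hF] at hb'
          have : y • b = b := hb' y hy
          show y • b ∈ F
          rw [this]; exact hb
        · intro ha
          have ha' := ha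
          rw [hF] at ha'
          exact ⟨a, ha, ha' y hy⟩
  · refine ⟨{c}, {(x : H) • c}, Set.singleton_nonempty _, Set.singleton_nonempty _, ?_, ?_⟩
    · rw [Set.disjoint_singleton]; exact fun h => hc h.symm
    · apply dvd_index_of_moved p (P : Subgroup H) P.2 ⊤ _ le_top le_top c
      · intro s hs
        have := (Subgroup.mem_inf.mp hs).1
        rw [MulAction.mem_stabilizer_iff, Set.smul_set_singleton] at this
        exact Set.singleton_eq_singleton_iff.mp this
      · intro k _ hfix
        exfalso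
        apply hFne
        exact ⟨k • c, by rw [hF]; exact hfix⟩
      · exact ⟨x, x.2, hc⟩

end Cfsg.Agent.Lib.H18.PermPStab
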