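import Mathlib

set_option autoImplicit false

/-!
Helper library (helper18): transport of permutation groups `H ≤ Perm Ω` along a bijection
`e : Ω ≃ Ω'` (typically `Ω' = Fin n`), with the usual permutation-group properties.
-/

namespace Cfsg.Agent.Lib.H18

open MulAction

section
variable {Ω Ω' : Type*} (e : Ω ≃ Ω')

/-- The image of a permutation group under relabelling of the points. -/
def mapPerm (H : Subgroup (Equiv.Perm Ω)) : Subgroup (Equiv.Perm Ω') :=
  H.map e.permCongrHom.toMonoidHom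

theorem permCongrHom_apply_apply (σ : Equiv.Perm Ω) (a : Ω') :
    e.permCongrHom σ a = e (σ (e.symm a)) := rfl

theorem permCongrHom_apply_map (σ : Equiv.Perm Ω) (a : Ω) :
    e.permCongrHom σ (e a) = e (σ a) := by
  rw [permCongrHom_apply_apply, Equiv.symm_apply_apply]

theorem mem_mapPerm {H : Subgroup (Equiv.Perm Ω)} {τ : Equiv.Perm Ω'} :
    τ ∈ mapPerm e H ↔ ∃ σ ∈ H, e.permCongrHom σ = τ := by
  unfold mapPerm
  rw [Subgroup.mem_map]
  rfl

theorem mapPerm_mono {H K : Subgroup (Equiv.Perm Ω)} (h : H ≤ K) : mapPerm e H ≤ mapPerm e K :=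
  Subgroup.map_mono h

/-- `mapPerm e H ≃* H`. -/
noncomputable def mapPermEquiv (H : Subgroup (Equiv.Perm Ω)) : ↥(mapPerm e H) ≃* ↥H :=
  (Subgroup.equivMapOfInjective H e.permCongrHom.toMonoidHom e.permCongrHom.injective).symm

theorem mapPerm_isPretransitive {H : Subgroup (Equiv.Perm Ω)} (h : IsPretransitive ↥H Ω) :
    IsPretransitive ↥(mapPerm e H) Ω' := by
  refine ⟨fun a b => ?_⟩
  obtain ⟨σ, hσ⟩ := h.exists_smul_eq (e.symm a) (e.symm b)
  refine ⟨⟨e.permCongrHom σ.1, (mem_mapPerm e).2 ⟨σ.1, σ.2, rfl⟩⟩, ?_⟩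
  change e.permCongrHom σ.1 a = b
  rw [permCongrHom_apply_apply]
  have : σ.1 (e.symm a) = e.symm b := hσ
  rw [this, Equiv.apply_symm_apply]

theorem mapPerm_stabilizer_eq_bot {H : Subgroup (Equiv.Perm Ω)}
    (h : ∀ a : Ω, stabilizer ↥H a = ⊥) (a : Ω') : stabilizer ↥(mapPerm e H) a = ⊥ := by
  rw [eq_bot_iff]
  rintro ⟨τ, hτ⟩ hfix
  obtain ⟨σ, hσ, rfl⟩ := (mem_mapPerm e).1 hτ
  have hfix' : e.permCongrHom σ a = a := hfix
  rw [permCongrHom_apply_apply] at hfix'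
  have h1 : (⟨σ, hσ⟩ : ↥H) ∈ stabilizer ↥H (e.symm a) := by
    rw [mem_stabilizer_iff]
    change σ (e.symm a) = e.symm a
    apply e.injective
    rw [hfix', Equiv.apply_symm_apply]
  rw [h] at h1
  have h2 : σ = 1 := by
    have := Subgroup.mem_bot.1 h1
    exact congrArg Subtype.val this
  rw [Subgroup.mem_bot]
  apply Subtype.ext
  change e.permCongrHom σ = 1
  rw [h2, map_one]

theorem mapPerm_isPreprimitive {H : Subgroup (Equiv.Perm Ω)} (h : IsPreprimitive ↥H Ω) :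
    IsPreprimitive ↥(mapPerm e H) Ω' := by
  let φ : ↥H → ↥(mapPerm e H) := fun σ => ⟨e.permCongrHom σ.1, (mem_mapPerm e).2 ⟨σ.1, σ.2, rfl⟩⟩
  let f : Ω →ₑ[φ] Ω' :=
    { toFun := e
      map_smul' := fun σ a => by
        change e (σ.1 a) = e.permCongrHom σ.1 (e a)
        rw [permCongrHom_apply_map] }
  exact IsPreprimitive.of_surjective (f := f) e.surjective

theorem mapPerm_two_pretransitive {H : Subgroup (Equiv.Perm Ω)}
    (h : IsMultiplyPretransitive ↥(mapPerm e H) Ω' 2) : IsMultiplyPretransitive ↥H Ω 2 := by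
  rw [is_two_pretransitive_iff] at h ⊢
  intro a b c d hab hcd
  obtain ⟨⟨τ, hτ⟩, h1, h2⟩ := h (a := e a) (b := e b) (c := e c) (d := e d)
    (fun hh => hab (e.injective hh)) (fun hh => hcd (e.injective hh))
  obtain ⟨σ, hσ, rfl⟩ := (mem_mapPerm e).1 hτ
  refine ⟨⟨σ, hσ⟩, ?_, ?_⟩
  · have h1' : e.permCongrHom σ (e a) = e c := h1
    rw [permCongrHom_apply_map] at h1'
    exact e.injective h1'
  · have h2' : e.permCongrHom σ (e b) = e d := h2
    rw [permCongrHom_apply_map] at h2'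
    exact e.injective h2'

end

/-- Packaged transport to `Fin n`. -/
theorem exists_fin_perm_groups {Ω : Type*} [Finite Ω] (G R : Subgroup (Equiv.Perm Ω)) (hRG : R ≤ G)
    (htr : IsPretransitive ↥R Ω) (hreg : ∀ a : Ω, stabilizer ↥R a = ⊥)
    (hprim : IsPreprimitive ↥G Ω) (h2 : ¬ IsMultiplyPretransitive ↥G Ω 2) :
    ∃ (n : ℕ) (G' R' : Subgroup (Equiv.Perm (Fin n))), R' ≤ G' ∧ Nonempty (↥R' ≃* ↥R) ∧
      IsPretransitive ↥R' (Fin n) ∧ (∀ a : Fin n, stabilizer ↥R' a = ⊥) ∧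
      IsPreprimitive ↥G' (Fin n) ∧ ¬ IsMultiplyPretransitive ↥G' (Fin n) 2 := by
  obtain ⟨n, ⟨e⟩⟩ := Finite.exists_equiv_fin Ω
  exact ⟨n, mapPerm e G, mapPerm e R, mapPerm_mono e hRG, ⟨mapPermEquiv e R⟩,
    mapPerm_isPretransitive e htr, mapPerm_stabilizer_eq_bot e hreg,
    mapPerm_isPreprimitive e hprim, fun h => h2 (mapPerm_two_pretransitive e h)⟩

end Cfsg.Agent.Lib.H18
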