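import Mathlib
import Cfsg.Prelude.Def_Characters
import Cfsg.Agent.Lib.L0.CharBasic
import Cfsg.Agent.Lib.L0.CharOps
import Cfsg.Agent.Lib.L0.CharDecomp
import Cfsg.Agent.Lib.H23.CentralChar
import Cfsg.Agent.Lib.H23.DegreeDvd
import Cfsg.Agent.Lib.H23.CharGalois
import Cfsg.Agent.Lib.H24.CharKer
import Cfsg.Agent.Lib.H24.DegreesOneP

/-!
# Faithful irreducible characters of prime degree (helper18)

Burnside's lemma on class sizes prime to the degree, and: a finite group with a faithful
irreducible character of prime degree `p` and order divisible by `p²` has a nontrivial centre.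
-/

set_option autoImplicit false

namespace Cfsg.Agent.Lib.H18

open Cfsg Cfsg.Agent.Lib.L0 Cfsg.Agent.Lib.H23 Cfsg.Agent.Lib.H24 Module

section Burnside

variable {G : Type*} [Group G] [Finite G] {V : Type*} [AddCommGroup V] [Module ℂ V]
  [FiniteDimensional ℂ V]

/-- Burnside: if the class size of `x` is prime to the degree of the irreducible representation
`ρ`, then `χ(x) = 0` or `ρ(x)` is a scalar. -/
theorem char_eq_zero_or_scalar_of_coprime (ρ : Representation ℂ G V) [ρ.IsIrreducible] (x : G)
    (hcop : Nat.Coprime (Subgroup.centralizer ({x} : Set G)).index (finrank ℂ V)) :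
    ρ.character x = 0 ∨ ∃ c : ℂ, ρ x = c • 1 := by
  by_cases h0 : ρ.character x = 0
  · exact Or.inl h0
  right
  rw [← norm_char_eq_finrank_iff]
  apply norm_char_eq_finrank_of_isIntegral_div ρ x _ h0
  haveI := Fintype.ofFinite G
  have h1 := isIntegral_centralChar_rep ρ x
  rw [Representation.char_one] at h1
  have hd0 : (finrank ℂ V : ℂ) ≠ 0 :=
    Nat.cast_ne_zero.mpr (finrank_pos_of_isIrreducible ρ).ne'
  have hint : ∀ n : ℤ, IsIntegral ℤ (n : ℂ) := fun n => by
    have := isIntegral_algebraMap (R := ℤ) (A := ℂ) (x := n)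
    simpa using this
  have hc : IsCoprime (((Subgroup.centralizer ({x} : Set G)).index : ℕ) : ℤ)
      ((finrank ℂ V : ℕ) : ℤ) := Nat.isCoprime_iff_coprime.mpr hcop
  obtain ⟨u, v, huv⟩ := hc
  have h5 : (u : ℂ) * ((Subgroup.centralizer ({x} : Set G)).index : ℂ) +
      v * (finrank ℂ V : ℂ) = 1 := by exact_mod_cast huv
  have h4 : ρ.character x / (finrank ℂ V : ℂ) =
      (u : ℂ) * (((Subgroup.centralizer ({x} : Set G)).index : ℂ) * ρ.character x /
        (finrank ℂ V : ℂ)) + (v : ℂ) * ρ.character x := by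
    have : (v : ℂ) * ρ.character x =
        v * (finrank ℂ V : ℂ) * (ρ.character x / (finrank ℂ V : ℂ)) := by
      field_simp
    rw [this, mul_div_assoc, ← mul_assoc, ← add_mul, h5, one_mul]
  rw [h4]
  exact IsIntegral.add (IsIntegral.mul (hint u) h1) (IsIntegral.mul (hint v) (isIntegral_char ρ x))

end Burnside


section Main

open scoped commutatorElement

/-- A finite group with a faithful irreducible character of prime degree `p` whose order is
divisible by `p²` has a nontrivial centre. -/
theorem center_ne_bot_of_faithful_prime_degree {G : Type*} [Group G] [Finite G] (p : ℕ)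
    (hp : p.Prime) (χ : IrrCharacter G) (hdeg : χ.1 1 = p)
    (hfaith : ∀ g : G, χ.1 g = χ.1 1 → g = 1) (hdiv : p ^ 2 ∣ Nat.card G) :
    Subgroup.center G ≠ ⊥ := by
  classical
  intro hZ
  haveI : Fact p.Prime := ⟨hp⟩
  obtain ⟨n, ρ, hρ, hχ⟩ := χ.2
  haveI := hρ
  have hχ' : ∀ g, ρ.character g = χ.1 g := fun g => congrFun hχ g
  have hn : finrank ℂ (Fin n → ℂ) = p := by
    have h1 := hχ' 1
    rw [Representation.char_one, hdeg] at h1
    exact_mod_cast h1
  -- Step 1: elements of class size prime to `p` have character value `0`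
  have hstep1 : ∀ x : G, x ≠ 1 →
      Nat.Coprime (Subgroup.centralizer ({x} : Set G)).index p → χ.1 x = 0 := by
    intro x hx hcop
    rw [← hn] at hcop
    rcases char_eq_zero_or_scalar_of_coprime ρ x hcop with h | ⟨c, hc⟩
    · rw [← hχ']; exact h
    · exfalso
      apply hx
      have hxc : x ∈ Subgroup.center G := by
        rw [Subgroup.mem_center_iff]
        intro g
        have h1 : ρ (g * x * (x * g)⁻¹) = 1 := by
          have h2 : ρ (g * x) = ρ (x * g) := by
            rw [map_mul, map_mul, hc, smul_mul_assoc, mul_smul_comm, one_mul, mul_one]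
          rw [map_mul, h2, ← map_mul, mul_inv_cancel, map_one]
        have h3 : χ.1 (g * x * (x * g)⁻¹) = χ.1 1 := by
          rw [← hχ', ← hχ', char_eq_char_one_iff]
          exact h1
        have h4 := hfaith _ h3
        exact mul_inv_eq_one.mp h4
      rw [hZ, Subgroup.mem_bot] at hxc
      exact hxc
  -- Step 2: a Sylow `p`-subgroup
  obtain ⟨P⟩ : Nonempty (Sylow p G) := inferInstance
  have hPcard : p ^ 2 ∣ Nat.card P := P.pow_dvd_card_of_pow_dvd_card hdiv
  obtain ⟨a, ha⟩ := IsPGroup.iff_card.mp P.isPGroup'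
  have hstep2 : ∀ x : G, x ∈ P → x ≠ 1 → (∀ y ∈ P, y * x = x * y) → χ.1 x = 0 := by
    intro x _ hx hcomm
    apply hstep1 x hx
    have hle : (P : Subgroup G) ≤ Subgroup.centralizer ({x} : Set G) := by
      intro y hy
      rw [Subgroup.mem_centralizer_iff]
      intro h hh
      rw [Set.mem_singleton_iff] at hh
      rw [hh]
      exact (hcomm y hy).symm
    have hdvd := Subgroup.index_dvd_of_le hle
    have hnd : ¬ p ∣ (Subgroup.centralizer ({x} : Set G)).index :=
      fun h => P.not_dvd_index (h.trans hdvd)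
    exact ((Nat.Prime.coprime_iff_not_dvd hp).mpr hnd).symm
  -- Step 3: restrict to `P` and decompose
  haveI : Fintype P := Fintype.ofFinite P
  let ψ : P → ℂ := fun y => χ.1 (y : G)
  have hψ : IsCharacter P ψ := isCharacter_restrict (P : Subgroup G) (isCharacter_of_irr χ.2)
  obtain ⟨l, hl, hψl⟩ := isCharacter_exists_irr_decomp hψ
  have hψ1 : ψ 1 = p := hdeg
  obtain ⟨d, hd, hle⟩ := list_degree_le l hl
  have hdp : d = p := by
    rw [← hψl, hψ1] at hd
    exact_mod_cast hd.symm
  -- degrees are powers of `p`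
  have hpow : ∀ θ ∈ l, ∃ j : ℕ, θ 1 = ((p ^ j : ℕ) : ℂ) := by
    intro θ hθ
    obtain ⟨m, σ, hσ, hθσ⟩ := hl θ hθ
    haveI := hσ
    have h1 : finrank ℂ (Fin m → ℂ) ∣ Nat.card P := finrank_dvd_card σ
    rw [ha] at h1
    obtain ⟨j, _, hj⟩ := (Nat.dvd_prime_pow hp).mp h1
    refine ⟨j, ?_⟩
    rw [← hθσ, Representation.char_one, hj]
  by_cases hall : ∀ θ ∈ l, θ 1 = 1
  · -- all constituents linear: `P` is abelian
    have hcomm1 : ∀ y : P, y ∈ commutator P → y = 1 := by
      intro y hy
      have h1 : ψ y = ψ 1 := by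
        rw [hψl, list_sum_apply, list_sum_apply]
        congr 1
        apply List.map_congr_left
        intro θ hθ
        rw [linear_apply_of_mem_commutator (isCharacter_of_irr (hl θ hθ)) (hall θ hθ) hy,
          hall θ hθ]
      have h2 := hfaith (y : G) h1
      exact Subtype.ext h2
    have hcomm : ∀ x ∈ (P : Subgroup G), ∀ y ∈ (P : Subgroup G), y * x = x * y := by
      intro x hx y hy
      have h1 : ⁅(⟨y, hy⟩ : P), (⟨x, hx⟩ : P)⁆ = 1 :=
        hcomm1 _ (Subgroup.commutator_mem_commutator (Subgroup.mem_top _) (Subgroup.mem_top _))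
      have h2 := commutatorElement_eq_one_iff_commute.mp h1
      exact congrArg Subtype.val h2.eq
    have hvan : ∀ y : P, y ≠ 1 → ψ y = 0 := by
      intro y hy
      apply hstep2 (y : G) y.2 (fun h => hy (Subtype.ext h)) (fun z hz => hcomm (y : G) y.2 z hz)
    obtain ⟨k, hk⟩ := classInner_char_irr_nat hψ (L0.isIrrCharacter_one (G := P))
    unfold classInner at hk
    have hsum : ∑ g : P, ψ g * (starRingEnd ℂ) ((1 : P → ℂ) g) = p := by
      refine (Finset.sum_eq_single (1 : P) ?_ ?_).trans ?_
      · intro y _ hy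
        rw [hvan y hy, zero_mul]
      · intro h; exact absurd (Finset.mem_univ _) h
      · rw [hψ1, Pi.one_apply, map_one, mul_one]
    rw [hsum] at hk
    have hP0 : (Nat.card P : ℂ) ≠ 0 := by exact_mod_cast (Nat.card_pos (α := P)).ne'
    have h3 : (p : ℂ) = (Nat.card P : ℂ) * k := by
      rw [← hk, ← mul_assoc, mul_inv_cancel₀ hP0, one_mul]
    have h4 : p = Nat.card P * k := by exact_mod_cast h3
    have h5 : p ^ 2 ∣ p := hPcard.trans ⟨k, h4⟩
    have h6 : p ^ 2 ≤ p := Nat.le_of_dvd hp.pos h5
    have h7 : p < p ^ 2 := by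
      have := hp.two_le
      nlinarith
    omega
  · -- a constituent of degree `p`
    push Not at hall
    obtain ⟨θ₀, hθ₀, hθ₀1⟩ := hall
    obtain ⟨j, hj⟩ := hpow θ₀ hθ₀
    obtain ⟨n₀, hn₀, hn₀le⟩ := hle θ₀ hθ₀
    rw [hdp] at hn₀le
    have hn₀j : n₀ = p ^ j := by
      rw [hn₀] at hj
      exact_mod_cast hj
    have hj1 : j = 1 := by
      have hj0 : j ≠ 0 := by
        rintro rfl
        apply hθ₀1
        rw [hj, pow_zero, Nat.cast_one]
      have hj2 : j ≤ 1 := by
        by_contra hcon
        push Not at hcon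
        have h1 : p ^ 2 ≤ p ^ j := Nat.pow_le_pow_right hp.pos hcon
        have h2 : p < p ^ 2 := by
          have := hp.two_le
          nlinarith
        omega
      omega
    have hθ₀p : θ₀ 1 = p := by rw [hj, hj1, pow_one]
    -- the other constituents vanish
    have hsplit : θ₀ + (l.erase θ₀).sum = ψ := by
      rw [hψl]
      exact List.sum_erase hθ₀
    have hrest : IsCharacter P (l.erase θ₀).sum :=
      isCharacter_list_sum (fun θ hθ => isCharacter_of_irr (hl θ (List.mem_of_mem_erase hθ)))
    have hrest1 : (l.erase θ₀).sum 1 = 0 := by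
      have h1 := congrFun hsplit 1
      rw [Pi.add_apply, hθ₀p, hψ1] at h1
      exact left_eq_add.mp h1.symm
    have hrest0 : ∀ z : P, (l.erase θ₀).sum z = 0 := by
      intro z
      have h1 := isCharacter_norm_le hrest z
      rw [hrest1, norm_zero] at h1
      exact norm_eq_zero.mp (le_antisymm h1 (norm_nonneg _))
    -- a nontrivial central element of `P`
    haveI : Nontrivial P := by
      rw [← Finite.one_lt_card_iff_nontrivial]
      have h1 : p ^ 2 ≤ Nat.card P := Nat.le_of_dvd Nat.card_pos hPcard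
      have h2 : 1 < p ^ 2 := by
        have := hp.two_le
        nlinarith
      omega
    haveI := IsPGroup.center_nontrivial (G := P) P.isPGroup'
    obtain ⟨z, hz⟩ := exists_ne (1 : Subgroup.center P)
    have hz1 : (z : P) ≠ 1 := fun h => hz (Subtype.ext h)
    have hzc : ∀ y : P, y * (z : P) = (z : P) * y := fun y =>
      Subgroup.mem_center_iff.mp z.2 y
    -- `χ z = 0`
    have hχz : ψ (z : P) = 0 := by
      apply hstep2 ((z : P) : G) (z : P).2 (fun h => hz1 (Subtype.ext h))
      intro y hy
      exact congrArg Subtype.val (hzc ⟨y, hy⟩)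
    -- but `‖θ₀ z‖ = p`
    obtain ⟨m, σ, hσ, hθσ⟩ := hl θ₀ hθ₀
    haveI := hσ
    have hm : (finrank ℂ (Fin m → ℂ) : ℂ) = p := by
      rw [← hθ₀p, ← hθσ, Representation.char_one]
    obtain ⟨c, hc⟩ := exists_scalar_of_commute σ (σ (z : P)) (fun g => by
      rw [← Module.End.mul_eq_comp, ← Module.End.mul_eq_comp, ← map_mul, ← map_mul, hzc g])
    have hnorm : ‖σ.character (z : P)‖ = finrank ℂ (Fin m → ℂ) := by
      rw [norm_char_eq_finrank_iff]
      exact ⟨c, hc⟩
    have h1 : ψ (z : P) = θ₀ (z : P) := by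
      rw [← hsplit, Pi.add_apply, hrest0, add_zero]
    rw [hθσ, ← h1, hχz, norm_zero] at hnorm
    have h2 : (finrank ℂ (Fin m → ℂ) : ℂ) = 0 := by exact_mod_cast hnorm.symm
    rw [hm] at h2
    exact hp.ne_zero (by exact_mod_cast h2)

end Main

end Cfsg.Agent.Lib.H18
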