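import Mathlib
import Cfsg.Prelude.Def_KGroupFacts
import Cfsg.Agent.Lib.H18.SchurCover2

/-!
# Lifting projective representations to Schur covers (helper18)
-/

set_option autoImplicit false

namespace Cfsg.Agent.Lib.H18

open scoped commutatorElement

universe u v w

section Divisible

/-- `ℂˣ` has all roots. -/
theorem exists_zpow_eq_units_complex (a : ℂˣ) {n : ℤ} (hn : n ≠ 0) : ∃ b : ℂˣ, b ^ n = a := by
  have hn' : n.natAbs ≠ 0 := Int.natAbs_ne_zero.mpr hn
  obtain ⟨z, hz⟩ := IsAlgClosed.exists_pow_nat_eq (a : ℂ) (Nat.pos_of_ne_zero hn')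
  have hz0 : z ≠ 0 := by
    rintro rfl
    rw [zero_pow hn'] at hz
    exact a.ne_zero hz.symm
  have hu : (Units.mk0 z hz0) ^ n.natAbs = a := Units.ext (by simpa using hz)
  rcases Int.natAbs_eq n with h | h
  · exact ⟨Units.mk0 z hz0, by rw [h, zpow_natCast]; exact hu⟩
  · exact ⟨(Units.mk0 z hz0)⁻¹, by rw [h, zpow_neg, zpow_natCast, inv_pow, inv_inv]; exact hu⟩

/-- `ℂˣ` is divisible. -/
noncomputable def divisibleAdditiveUnitsComplex : DivisibleBy (Additive ℂˣ) ℤ where
  div a n := if hn : n = 0 then 0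
    else Additive.ofMul (exists_zpow_eq_units_complex (Additive.toMul a) hn).choose
  div_zero a := dif_pos rfl
  div_cancel := by
    intro n a hn
    rw [dif_neg hn]
    have := (exists_zpow_eq_units_complex (Additive.toMul a) hn).choose_spec
    rw [← ofMul_zpow, this]
    rfl

/-- `ℂˣ` is an injective abelian group. -/
theorem baer_units_complex : Module.Baer ℤ (Additive ℂˣ) := by
  letI := divisibleAdditiveUnitsComplex
  exact Module.Baer.of_divisible _

/-- Characters of a subgroup of an abelian group extend. -/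
theorem exists_extend_hom_units_complex {E : Type*} [CommGroup E] (S : Subgroup E)
    (l : S →* ℂˣ) : ∃ μ : E →* ℂˣ, ∀ s : S, μ s = l s := by
  obtain ⟨h, hh⟩ := baer_units_complex.extension_property_addMonoidHom
    (MonoidHom.toAdditive S.subtype) (fun a b hab => by
      apply Additive.toMul.injective
      apply Subtype.ext
      exact congrArg Additive.toMul hab) (MonoidHom.toAdditive l)
  refine ⟨MonoidHom.toAdditive.symm h, ?_⟩
  intro s
  have := DFunLike.congr_fun hh (Additive.ofMul s)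
  exact congrArg Additive.toMul this

/-- Characters of a subgroup meeting the commutator subgroup trivially extend to the group. -/
theorem exists_extend_hom_of_disjoint_commutator {E : Type*} [Group E] (S : Subgroup E)
    (hS : ∀ s ∈ S, s ∈ commutator E → s = 1) (l : S →* ℂˣ) :
    ∃ μ : E →* ℂˣ, ∀ s : S, μ s = l s := by
  let ι : S →* Abelianization E := Abelianization.of.comp S.subtype
  have hι : Function.Injective ι := by
    rw [injective_iff_map_eq_one]
    intro s hs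
    have : (s : E) ∈ (Abelianization.of (G := E)).ker := hs
    rw [Abelianization.ker_of] at this
    exact Subtype.ext (hS s.1 s.2 this)
  let ε : S ≃* ι.range := MonoidHom.ofInjective hι
  obtain ⟨μ, hμ⟩ := exists_extend_hom_units_complex ι.range (l.comp ε.symm.toMonoidHom)
  refine ⟨μ.comp Abelianization.of, ?_⟩
  intro s
  have := hμ (ε s)
  simp only [MonoidHom.coe_comp, MulEquiv.coe_toMonoidHom, Function.comp_apply,
    MulEquiv.symm_apply_apply] at this
  rw [← this]
  rfl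

end Divisible

section Pullback

variable (Q : Type u) [Group Q]

/-- Any homomorphism from `Q` to a central quotient `P = H/Z` lifts to `E → H`. -/
theorem exists_scE_lift_of_central {H : Type v} {P : Type w} [Group H] [Group P] (κ : H →* P)
    (hκ : Function.Surjective κ) (hker : κ.ker ≤ Subgroup.center H) (γ : Q →* P) :
    ∃ ρ₀ : scE Q →* H, κ.comp ρ₀ = γ.comp (scπ Q) := by
  let X : Subgroup (Q × H) :=
    (γ.comp (MonoidHom.fst Q H)).eqLocus (κ.comp (MonoidHom.snd Q H))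
  have hX : ∀ x : X, γ x.1.1 = κ x.1.2 := fun x => x.2
  let ξ : X →* Q := (MonoidHom.fst Q H).comp X.subtype
  have hξ : ∀ x : X, ξ x = x.1.1 := fun _ => rfl
  have hξs : Function.Surjective ξ := by
    intro q
    obtain ⟨h, hh⟩ := hκ (γ q)
    exact ⟨⟨(q, h), hh.symm⟩, rfl⟩
  have hξk : ξ.ker ≤ Subgroup.center X := by
    intro x hx
    rw [MonoidHom.mem_ker, hξ] at hx
    have h2 : x.1.2 ∈ Subgroup.center H := by
      apply hker
      rw [MonoidHom.mem_ker, ← hX, hx, map_one]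
    rw [Subgroup.mem_center_iff]
    intro y
    apply Subtype.ext
    apply Prod.ext
    · change y.1.1 * x.1.1 = x.1.1 * y.1.1
      rw [hx, mul_one, one_mul]
    · exact Subgroup.mem_center_iff.mp h2 y.1.2
  obtain ⟨φ, hφ⟩ := sc_lift Q ξ hξs hξk
  refine ⟨(MonoidHom.snd Q H).comp (X.subtype.comp φ), MonoidHom.ext fun e => ?_⟩
  have h1 : ξ (φ e) = scπ Q e := DFunLike.congr_fun hφ e
  change κ (φ e).1.2 = γ (scπ Q e)
  rw [← hX, ← h1, hξ]

end Pullback

section CoverIso

/-- A stem extension whose kernel has the order of the multiplier is isomorphic (over `Q`) to one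
of the covers `E/S`. -/
theorem exists_scCover_equiv (Q : Type u) [Group Q] [Finite Q] {A : Type v} [CommGroup A]
    (hA : Cfsg.HasSchurMultiplier Q A) {Γ : Type w} [Group Γ] [Finite Γ] (σ : Γ →* Q)
    (hσ : Cfsg.IsStemExtension σ) (hk : Nonempty (σ.ker ≃* A)) :
    ∃ (S : Subgroup (scE Q)) (hS : IsScComplement Q S) (_ : S.Normal) (β : scE Q ⧸ S ≃* Γ),
      σ.comp β.toMonoidHom = scσ S hS.le := by
  obtain ⟨S, hS, hSn, β₀, hβs, hβ⟩ := sc_cover_over Q σ hσ
  have hβ' : ∀ x, σ (β₀ x) = scσ S hS.le x := fun x => DFunLike.congr_fun hβ x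
  obtain ⟨eA⟩ := mulEquiv_schurT_of_hasSchurMultiplier Q hA
  obtain ⟨ek⟩ := hk
  haveI := scσ_finite hS
  have hcard : Nat.card (scσ S hS.le).ker = Nat.card σ.ker := by
    rw [← Nat.card_congr (scσ_kerEquiv hS).toEquiv, Nat.card_congr (schurTEquiv Q).toEquiv,
      ← Nat.card_congr eA.toEquiv, Nat.card_congr ek.toEquiv]
  let r : (scσ S hS.le).ker → σ.ker := fun x =>
    ⟨β₀ x.1, by rw [MonoidHom.mem_ker, hβ']; exact x.2⟩
  have hr : Function.Surjective r := by
    rintro ⟨k, hk⟩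
    obtain ⟨y, rfl⟩ := hβs k
    refine ⟨⟨y, ?_⟩, rfl⟩
    rw [MonoidHom.mem_ker, ← hβ']
    exact hk
  have hrb : Function.Bijective r := hr.bijective_of_nat_card_le hcard.le
  have hinj : Function.Injective β₀ := by
    rw [injective_iff_map_eq_one]
    intro x hx
    have hxk : x ∈ (scσ S hS.le).ker := by
      rw [MonoidHom.mem_ker, ← hβ', hx, map_one]
    have : r ⟨x, hxk⟩ = r 1 := by
      apply Subtype.ext
      change β₀ x = β₀ 1
      rw [hx, map_one]
    exact congrArg Subtype.val (hrb.1 this)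
  refine ⟨S, hS, hSn, MulEquiv.ofBijective β₀ ⟨hinj, hβs⟩, ?_⟩
  rw [← hβ]
  rfl

end CoverIso

section Main

open Matrix

/-- The scalar embedding `ℂˣ → GL n ℂ` is injective for `n ≠ 0`. -/
theorem scalar_injective_of_ne_zero (n : ℕ) (hn : n ≠ 0) :
    Function.Injective (Matrix.GeneralLinearGroup.scalar (Fin n) (R := ℂ)) := by
  intro a b hab
  have := congrArg (fun g : GL (Fin n) ℂ =>
    (g : Matrix (Fin n) (Fin n) ℂ) ⟨0, Nat.pos_of_ne_zero hn⟩ ⟨0, Nat.pos_of_ne_zero hn⟩) hab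
  simp at this
  exact Units.ext this

/-- **Schur**: every projective representation of `Q` lifts to a linear representation of any
Schur covering group. -/
theorem exists_lift_projective {Q : Type u} [Group Q] [Finite Q] {A : Type v} [CommGroup A]
    (hA : Cfsg.HasSchurMultiplier Q A) {Γ : Type w} [Group Γ] [Finite Γ] (σ : Γ →* Q)
    (hσ : Cfsg.IsStemExtension σ) (hk : Nonempty (σ.ker ≃* A)) (n : ℕ)
    (γ : Q →* (GL (Fin n) ℂ ⧸ Subgroup.center (GL (Fin n) ℂ))) :
    ∃ ρ : Γ →* GL (Fin n) ℂ,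
      (QuotientGroup.mk' (Subgroup.center (GL (Fin n) ℂ))).comp ρ = γ.comp σ := by
  classical
  by_cases hn : n = 0
  · subst hn
    exact ⟨1, MonoidHom.ext fun x => Subsingleton.elim _ _⟩
  set κ := QuotientGroup.mk' (Subgroup.center (GL (Fin n) ℂ)) with hκdef
  have hκs : Function.Surjective κ := QuotientGroup.mk'_surjective _
  have hκk : κ.ker = Subgroup.center (GL (Fin n) ℂ) := QuotientGroup.ker_mk' _
  obtain ⟨ρ₀, hρ₀⟩ := exists_scE_lift_of_central Q κ hκs hκk.le γ
  have hρ₀' : ∀ e, κ (ρ₀ e) = γ (scπ Q e) := fun e => DFunLike.congr_fun hρ₀ e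
  obtain ⟨S, hS, hSn, β, hβ⟩ := exists_scCover_equiv Q hA σ hσ hk
  have hβ' : ∀ y, σ (β y) = scσ S hS.le y := fun y => DFunLike.congr_fun hβ y
  let sc : ℂˣ →* GL (Fin n) ℂ := Matrix.GeneralLinearGroup.scalar (Fin n)
  have hsc_inj : Function.Injective sc := scalar_injective_of_ne_zero n hn
  have hsc_range : sc.range = Subgroup.center (GL (Fin n) ℂ) :=
    Matrix.GeneralLinearGroup.center_eq_range_scalar.symm
  have hsc_cen : ∀ c, sc c ∈ Subgroup.center (GL (Fin n) ℂ) := fun c => by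
    rw [← hsc_range]; exact ⟨c, rfl⟩
  have hκsc : ∀ c, κ (sc c) = 1 := fun c => by
    have : sc c ∈ κ.ker := by rw [hκk]; exact hsc_cen c
    exact this
  have hmem : ∀ s : S, (ρ₀.comp S.subtype) s ∈ sc.range := by
    intro s
    rw [hsc_range, ← hκk, MonoidHom.mem_ker]
    change κ (ρ₀ s.1) = 1
    rw [hρ₀', (mem_scZ Q).mp (hS.le s.2), map_one]
  let ε : ℂˣ ≃* sc.range := MonoidHom.ofInjective hsc_inj
  let l : S →* ℂˣ := ε.symm.toMonoidHom.comp ((ρ₀.comp S.subtype).codRestrict sc.range hmem)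
  have hl : ∀ s : S, sc (l s) = ρ₀ s.1 := by
    intro s
    have h1 : ε (l s) = (ρ₀.comp S.subtype).codRestrict sc.range hmem s := by
      simp only [l, MonoidHom.coe_comp, MulEquiv.coe_toMonoidHom, Function.comp_apply,
        MulEquiv.apply_symm_apply]
    have h2 := congrArg Subtype.val h1
    rw [MonoidHom.ofInjective_apply] at h2
    exact h2
  obtain ⟨μ, hμ⟩ := exists_extend_hom_of_disjoint_commutator S
    (fun s hs hsc => hS.inf s hs ⟨hS.le hs, hsc⟩) l
  -- twist
  let ρ₁ : scE Q →* GL (Fin n) ℂ := MonoidHom.mk' (fun e => sc (μ e)⁻¹ * ρ₀ e) (by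
    intro a b
    have hc := Subgroup.mem_center_iff.mp (hsc_cen (μ b)⁻¹) (ρ₀ a)
    rw [map_mul, map_mul, mul_inv, map_mul]
    calc sc (μ a)⁻¹ * sc (μ b)⁻¹ * (ρ₀ a * ρ₀ b)
        = sc (μ a)⁻¹ * (sc (μ b)⁻¹ * ρ₀ a) * ρ₀ b := by group
      _ = sc (μ a)⁻¹ * (ρ₀ a * sc (μ b)⁻¹) * ρ₀ b := by rw [hc]
      _ = sc (μ a)⁻¹ * ρ₀ a * (sc (μ b)⁻¹ * ρ₀ b) := by group)
  have hρ₁ : ∀ e, ρ₁ e = sc (μ e)⁻¹ * ρ₀ e := fun _ => rfl
  have hρ₁S : ∀ s ∈ S, ρ₁ s = 1 := by
    intro s hs
    rw [hρ₁, hμ ⟨s, hs⟩, map_inv, ← hl ⟨s, hs⟩, inv_mul_cancel]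
  have hρ₁κ : ∀ e, κ (ρ₁ e) = γ (scπ Q e) := by
    intro e
    rw [hρ₁, map_mul, hκsc, one_mul, hρ₀']
  let ρ₂ : scE Q ⧸ S →* GL (Fin n) ℂ := QuotientGroup.lift S ρ₁ hρ₁S
  refine ⟨ρ₂.comp β.symm.toMonoidHom, MonoidHom.ext fun x => ?_⟩
  obtain ⟨y, rfl⟩ := β.surjective x
  obtain ⟨e, rfl⟩ := QuotientGroup.mk_surjective y
  simp only [MonoidHom.coe_comp, MulEquiv.coe_toMonoidHom, Function.comp_apply,
    MulEquiv.symm_apply_apply]
  change κ (ρ₁ e) = γ (σ (β (QuotientGroup.mk e)))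
  rw [hρ₁κ, hβ', scσ_mk]

end Main

end Cfsg.Agent.Lib.H18
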