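import Mathlib
import Cfsg.Prelude.Def_KGroupFacts
import Cfsg.Agent.Lib.H18.ProjLift

/-!
# Groups to which all projective representations lift are Schur covers (helper18)
-/

set_option autoImplicit false

namespace Cfsg.Agent.Lib.H18

open scoped commutatorElement

universe u v w

section Monomial

open Matrix

/-- The representation of `Δ` induced from a character `l` of the central subgroup `ker τ`, written
with monomial matrices; `ker τ` acts through the scalars `l`. -/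
theorem exists_monomial_rep {Δ : Type v} [Group Δ] {Q : Type u} [Group Q] [Finite Q] (τ : Δ →* Q)
    (hτ : Function.Surjective τ) (hc : τ.ker ≤ Subgroup.center Δ) (l : τ.ker →* ℂˣ) :
    ∃ (n : ℕ) (_ : n ≠ 0) (ρ : Δ →* GL (Fin n) ℂ),
      ∀ w : τ.ker, ρ w = Matrix.GeneralLinearGroup.scalar (Fin n) (l w) := by
  classical
  let n := Nat.card Q
  have hn : n ≠ 0 := Nat.card_pos.ne'
  let e : Q ≃ Fin n := Finite.equivFin Q
  choose s hs using hτ
  let c : Δ → Q → Δ := fun x q => (s (τ x * q))⁻¹ * x * s q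
  have hcmem : ∀ x q, c x q ∈ τ.ker := by
    intro x q
    rw [MonoidHom.mem_ker, map_mul, map_mul, map_inv, hs, hs, mul_assoc, inv_mul_cancel]
  let lc : Δ → Q → ℂˣ := fun x q => l ⟨c x q, hcmem x q⟩
  have hlc_mul : ∀ x y q, lc (x * y) q = lc x (τ y * q) * lc y q := by
    intro x y q
    change l ⟨c (x * y) q, hcmem (x * y) q⟩
      = l ⟨c x (τ y * q), hcmem x (τ y * q)⟩ * l ⟨c y q, hcmem y q⟩
    rw [← map_mul]
    congr 1
    apply Subtype.ext
    change (s (τ (x * y) * q))⁻¹ * (x * y) * s q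
      = ((s (τ x * (τ y * q)))⁻¹ * x * s (τ y * q)) * ((s (τ y * q))⁻¹ * y * s q)
    rw [τ.map_mul, mul_assoc (τ x)]
    group
  have hlc_one : ∀ q, lc 1 q = 1 := by
    intro q
    have : (⟨c 1 q, hcmem 1 q⟩ : τ.ker) = 1 := by
      apply Subtype.ext
      change (s (τ 1 * q))⁻¹ * 1 * s q = 1
      rw [map_one, one_mul, mul_one, inv_mul_cancel]
    change l ⟨c 1 q, hcmem 1 q⟩ = 1
    rw [this, map_one]
  have hlc_ker : ∀ (w : τ.ker) q, lc w q = l w := by
    intro w q
    change l ⟨c w q, hcmem w q⟩ = l w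
    congr 1
    apply Subtype.ext
    change (s (τ w * q))⁻¹ * w * s q = w
    have hw : τ (w : Δ) = 1 := w.2
    rw [hw, one_mul, mul_assoc, ← Subgroup.mem_center_iff.mp (hc w.2) (s q), inv_mul_cancel_left]
  let M : Δ → Matrix (Fin n) (Fin n) ℂ := fun x =>
    Matrix.of fun i j => if i = e (τ x * e.symm j) then ((lc x (e.symm j) : ℂˣ) : ℂ) else 0
  have hM : ∀ x i j, M x i j = if i = e (τ x * e.symm j) then ((lc x (e.symm j) : ℂˣ) : ℂ) else 0 :=
    fun _ _ _ => rfl
  have hM_one : M 1 = 1 := by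
    ext i j
    rw [hM, τ.map_one, one_mul, Equiv.apply_symm_apply, hlc_one, Matrix.one_apply]
    rfl
  have hM_mul : ∀ x y, M (x * y) = M x * M y := by
    intro x y
    ext i j
    rw [Matrix.mul_apply, Finset.sum_eq_single (e (τ y * e.symm j))]
    · rw [hM, hM, hM, Equiv.symm_apply_apply, if_pos rfl, τ.map_mul, mul_assoc (τ x), hlc_mul]
      by_cases h : i = e (τ x * (τ y * e.symm j))
      · rw [if_pos h, if_pos h, Units.val_mul]
      · rw [if_neg h, if_neg h, zero_mul]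
    · intro k _ hk
      rw [hM _ k j, if_neg hk, mul_zero]
    · intro h
      exact absurd (Finset.mem_univ _) h
  let Mhom : Δ →* Matrix (Fin n) (Fin n) ℂ :=
    { toFun := M
      map_one' := hM_one
      map_mul' := hM_mul }
  refine ⟨n, hn, Mhom.toHomUnits, ?_⟩
  intro w
  apply Units.ext
  rw [MonoidHom.coe_toHomUnits, Matrix.GeneralLinearGroup.coe_scalar]
  ext i j
  change M w i j = _
  have hw : τ (w : Δ) = 1 := w.2
  rw [hM, hw, one_mul, Equiv.apply_symm_apply, hlc_ker, Matrix.scalar_apply, Matrix.diagonal_apply]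

end Monomial

section Graph

/-- A subgroup of `Z × W` projecting onto both factors and meeting `1 × W` trivially is the graph
of a surjective homomorphism. -/
theorem exists_surjective_of_graph {Z : Type*} {W : Type*} [Group Z] [Group W]
    (D : Subgroup (Z × W)) (h1 : ∀ z, ∃ w, (z, w) ∈ D) (h2 : ∀ w, ∃ z, (z, w) ∈ D)
    (h3 : ∀ w, ((1 : Z), w) ∈ D → w = 1) : ∃ π : Z →* W, Function.Surjective π := by
  have huniq : ∀ z w w', (z, w) ∈ D → (z, w') ∈ D → w = w' := by
    intro z w w' hw hw'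
    have : ((z, w)⁻¹ * (z, w') : Z × W) ∈ D := D.mul_mem (D.inv_mem hw) hw'
    have h : ((z, w)⁻¹ * (z, w') : Z × W) = (1, w⁻¹ * w') := by
      ext <;> simp
    rw [h] at this
    exact inv_mul_eq_one.mp (h3 _ this)
  choose f hf using h1
  refine ⟨MonoidHom.mk' f ?_, ?_⟩
  · intro a b
    have : ((a, f a) * (b, f b) : Z × W) ∈ D := D.mul_mem (hf a) (hf b)
    exact huniq (a * b) _ _ (hf (a * b)) this
  · intro w
    obtain ⟨z, hz⟩ := h2 w
    exact ⟨z, huniq z _ _ (hf z) hz⟩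

/-- Commutator subgroups map onto commutator subgroups under surjections. -/
theorem commutator_le_map_of_surjective {G : Type*} {H : Type*} [Group G] [Group H] (f : G →* H)
    (hf : Function.Surjective f) : commutator H ≤ (commutator G).map f := by
  rw [commutator_def G, Subgroup.map_commutator]
  have : (⊤ : Subgroup G).map f = ⊤ := by
    rw [← MonoidHom.range_eq_map, MonoidHom.range_eq_top]
    exact hf
  rw [this, ← commutator_def]

end Graph

section Converse

open Matrix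

open scoped IsMulCommutative in
/-- If every projective representation of `Q` lifts along the stem extension `σ`, then the kernel
of `σ` maps onto the kernel of every finite stem extension of `Q`. -/
theorem exists_surjective_ker_of_lifting {Q : Type u} [Group Q] [Finite Q] {Γ : Type v} [Group Γ]
    (σ : Γ →* Q) (hσ : Cfsg.IsStemExtension σ)
    (hlift : ∀ (n : ℕ) (γ : Q →* (GL (Fin n) ℂ ⧸ Subgroup.center (GL (Fin n) ℂ))),
      ∃ ρ : Γ →* GL (Fin n) ℂ,
        (QuotientGroup.mk' (Subgroup.center (GL (Fin n) ℂ))).comp ρ = γ.comp σ)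
    {Δ : Type w} [Group Δ] [Finite Δ] (τ : Δ →* Q) (hτ : Cfsg.IsStemExtension τ) :
    ∃ π : σ.ker →* τ.ker, Function.Surjective π := by
  classical
  obtain ⟨hσs, hσc, hσd⟩ := hσ
  obtain ⟨hτs, hτc, hτd⟩ := hτ
  let P : Subgroup (Γ × Δ) := (σ.comp (MonoidHom.fst Γ Δ)).eqLocus (τ.comp (MonoidHom.snd Γ Δ))
  have hP : ∀ p : P, σ p.1.1 = τ p.1.2 := fun p => p.2
  let pr₁ : P →* Γ := (MonoidHom.fst Γ Δ).comp P.subtype
  let pr₂ : P →* Δ := (MonoidHom.snd Γ Δ).comp P.subtype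
  have hpr₁ : Function.Surjective pr₁ := by
    intro x
    obtain ⟨y, hy⟩ := hτs (σ x)
    exact ⟨⟨(x, y), hy.symm⟩, rfl⟩
  have hpr₂ : Function.Surjective pr₂ := by
    intro y
    obtain ⟨x, hx⟩ := hσs (τ y)
    exact ⟨⟨(x, y), hx⟩, rfl⟩
  let D : Subgroup (σ.ker × τ.ker) :=
    ((commutator P).map P.subtype).comap (MonoidHom.prodMap σ.ker.subtype τ.ker.subtype)
  have hD : ∀ (z : σ.ker) (w : τ.ker),
      (z, w) ∈ D ↔ ∃ d ∈ commutator P, (d : Γ × Δ) = ((z : Γ), (w : Δ)) := by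
    intro z w
    rfl
  apply exists_surjective_of_graph D
  · intro z
    have hz : (z : Γ) ∈ (commutator P).map pr₁ :=
      commutator_le_map_of_surjective pr₁ hpr₁ (hσd z.2)
    obtain ⟨d, hd, hdz⟩ := hz
    have hdz' : d.1.1 = z := hdz
    have hw : d.1.2 ∈ τ.ker := by
      rw [MonoidHom.mem_ker, ← hP d, hdz']
      exact z.2
    exact ⟨⟨d.1.2, hw⟩, (hD _ _).mpr ⟨d, hd, Prod.ext hdz' rfl⟩⟩
  · intro w
    have hw : (w : Δ) ∈ (commutator P).map pr₂ :=
      commutator_le_map_of_surjective pr₂ hpr₂ (hτd w.2)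
    obtain ⟨d, hd, hdw⟩ := hw
    have hdw' : d.1.2 = w := hdw
    have hz : d.1.1 ∈ σ.ker := by
      rw [MonoidHom.mem_ker, hP d, hdw']
      exact w.2
    exact ⟨⟨d.1.1, hz⟩, (hD _ _).mpr ⟨d, hd, Prod.ext rfl hdw'⟩⟩
  · intro w hw
    obtain ⟨d, hd, hdw⟩ := (hD _ _).mp hw
    have hd1 : d.1.1 = 1 := congrArg Prod.fst hdw
    have hd2 : d.1.2 = w := congrArg Prod.snd hdw
    by_contra hne
    haveI : IsMulCommutative τ.ker :=
      ⟨⟨fun a b => Subtype.ext (Subgroup.mem_center_iff.mp (hτc b.2) a.1)⟩⟩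
    haveI : NeZero (Monoid.exponent τ.ker) := ⟨Monoid.exponent_ne_zero_of_finite⟩
    obtain ⟨l, hl⟩ := CommGroup.exists_apply_ne_one_of_hasEnoughRootsOfUnity τ.ker ℂ hne
    obtain ⟨n, hn, ρl, hρl⟩ := exists_monomial_rep τ hτs hτc l
    set κ := QuotientGroup.mk' (Subgroup.center (GL (Fin n) ℂ)) with hκdef
    have hκk : κ.ker = Subgroup.center (GL (Fin n) ℂ) := QuotientGroup.ker_mk' _
    let sc : ℂˣ →* GL (Fin n) ℂ := Matrix.GeneralLinearGroup.scalar (Fin n)
    have hsc_cen : ∀ c, sc c ∈ Subgroup.center (GL (Fin n) ℂ) := fun c => by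
      rw [Matrix.GeneralLinearGroup.center_eq_range_scalar]; exact ⟨c, rfl⟩
    let f : Δ →* (GL (Fin n) ℂ ⧸ Subgroup.center (GL (Fin n) ℂ)) := κ.comp ρl
    have hf : τ.ker ≤ f.ker := by
      intro y hy
      rw [MonoidHom.mem_ker]
      change κ (ρl y) = 1
      have := hρl ⟨y, hy⟩
      change ρl y = sc (l ⟨y, hy⟩) at this
      rw [this]
      have : sc (l ⟨y, hy⟩) ∈ κ.ker := by rw [hκk]; exact hsc_cen _
      exact this
    let γ : Q →* (GL (Fin n) ℂ ⧸ Subgroup.center (GL (Fin n) ℂ)) :=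
      τ.liftOfSurjective hτs ⟨f, hf⟩
    have hγ : ∀ y, γ (τ y) = κ (ρl y) := by
      intro y
      exact MonoidHom.liftOfRightInverse_comp_apply τ _ _ ⟨f, hf⟩ y
    obtain ⟨ρ', hρ'⟩ := hlift n γ
    have hρ'' : ∀ x, κ (ρ' x) = γ (σ x) := fun x => DFunLike.congr_fun hρ' x
    have hμmem : ∀ p : P, ρl p.1.2 * (ρ' p.1.1)⁻¹ ∈ Subgroup.center (GL (Fin n) ℂ) := by
      intro p
      rw [← hκk, MonoidHom.mem_ker, map_mul, map_inv, hρ'', ← hγ, hP p, mul_inv_cancel]
    let μ : P →* Subgroup.center (GL (Fin n) ℂ) :=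
      MonoidHom.mk' (fun p => ⟨ρl p.1.2 * (ρ' p.1.1)⁻¹, hμmem p⟩) (by
        intro p p'
        apply Subtype.ext
        change ρl (p.1.2 * p'.1.2) * (ρ' (p.1.1 * p'.1.1))⁻¹
          = (ρl p.1.2 * (ρ' p.1.1)⁻¹) * (ρl p'.1.2 * (ρ' p'.1.1)⁻¹)
        have hc := Subgroup.mem_center_iff.mp (hμmem p') (ρ' p.1.1)⁻¹
        rw [map_mul, map_mul, _root_.mul_inv_rev]
        calc ρl p.1.2 * ρl p'.1.2 * ((ρ' p'.1.1)⁻¹ * (ρ' p.1.1)⁻¹)
            = ρl p.1.2 * ((ρl p'.1.2 * (ρ' p'.1.1)⁻¹) * (ρ' p.1.1)⁻¹) := by group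
          _ = ρl p.1.2 * ((ρ' p.1.1)⁻¹ * (ρl p'.1.2 * (ρ' p'.1.1)⁻¹)) := by rw [hc]
          _ = _ := by group)
    have hμd : μ d = 1 := by
      have : d ∈ μ.ker := Abelianization.commutator_subset_ker μ hd
      exact this
    have h1 : ρl d.1.2 * (ρ' d.1.1)⁻¹ = 1 := congrArg Subtype.val hμd
    rw [hd1, map_one, inv_one, mul_one, hd2] at h1
    have h2 := hρl w
    rw [h1] at h2
    have h3 : sc (l w) = sc 1 := by rw [map_one]; exact h2.symm
    exact hl (scalar_injective_of_ne_zero n hn h3)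

end Converse

end Cfsg.Agent.Lib.H18
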