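import Mathlib

/-!
# `SL₂` over a commutative ring: elementary matrices and entries (helper18, for S5064)
-/

set_option autoImplicit false

namespace Cfsg.Agent.Lib.H18.QP

open Matrix

section

variable {R : Type*} [CommRing R]

local notation "SL2" => Matrix.SpecialLinearGroup (Fin 2) R
local notation "M2" => Matrix (Fin 2) (Fin 2) R

/-- upper unitriangular -/
def uR (a : R) : SL2 := ⟨!![1, a; 0, 1], by simp [Matrix.det_fin_two_of]⟩

/-- lower unitriangular -/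
def lR (b : R) : SL2 := ⟨!![1, 0; b, 1], by simp [Matrix.det_fin_two_of]⟩

theorem sl2_extR {g h : SL2} (h00 : (g : M2) 0 0 = (h : M2) 0 0) (h01 : (g : M2) 0 1 = (h : M2) 0 1)
    (h10 : (g : M2) 1 0 = (h : M2) 1 0) (h11 : (g : M2) 1 1 = (h : M2) 1 1) : g = h := by
  apply Subtype.ext
  refine Matrix.ext fun i j => ?_
  fin_cases i <;> fin_cases j <;> assumption

theorem mulR_00 (g h : SL2) :
    ((g * h : SL2) : M2) 0 0 = (g : M2) 0 0 * (h : M2) 0 0 + (g : M2) 0 1 * (h : M2) 1 0 := by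
  rw [Matrix.SpecialLinearGroup.coe_mul, Matrix.mul_apply, Fin.sum_univ_two]
theorem mulR_01 (g h : SL2) :
    ((g * h : SL2) : M2) 0 1 = (g : M2) 0 0 * (h : M2) 0 1 + (g : M2) 0 1 * (h : M2) 1 1 := by
  rw [Matrix.SpecialLinearGroup.coe_mul, Matrix.mul_apply, Fin.sum_univ_two]
theorem mulR_10 (g h : SL2) :
    ((g * h : SL2) : M2) 1 0 = (g : M2) 1 0 * (h : M2) 0 0 + (g : M2) 1 1 * (h : M2) 1 0 := by
  rw [Matrix.SpecialLinearGroup.coe_mul, Matrix.mul_apply, Fin.sum_univ_two]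
theorem mulR_11 (g h : SL2) :
    ((g * h : SL2) : M2) 1 1 = (g : M2) 1 0 * (h : M2) 0 1 + (g : M2) 1 1 * (h : M2) 1 1 := by
  rw [Matrix.SpecialLinearGroup.coe_mul, Matrix.mul_apply, Fin.sum_univ_two]

theorem invR_00 (g : SL2) : ((g⁻¹ : SL2) : M2) 0 0 = (g : M2) 1 1 := by
  rw [Matrix.SpecialLinearGroup.coe_inv, Matrix.adjugate_fin_two]; simp
theorem invR_01 (g : SL2) : ((g⁻¹ : SL2) : M2) 0 1 = -(g : M2) 0 1 := by
  rw [Matrix.SpecialLinearGroup.coe_inv, Matrix.adjugate_fin_two]; simp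
theorem invR_10 (g : SL2) : ((g⁻¹ : SL2) : M2) 1 0 = -(g : M2) 1 0 := by
  rw [Matrix.SpecialLinearGroup.coe_inv, Matrix.adjugate_fin_two]; simp
theorem invR_11 (g : SL2) : ((g⁻¹ : SL2) : M2) 1 1 = (g : M2) 0 0 := by
  rw [Matrix.SpecialLinearGroup.coe_inv, Matrix.adjugate_fin_two]; simp

theorem oneR_00 : ((1 : SL2) : M2) 0 0 = 1 := by simp
theorem oneR_01 : ((1 : SL2) : M2) 0 1 = 0 := by simp
theorem oneR_10 : ((1 : SL2) : M2) 1 0 = 0 := by simp
theorem oneR_11 : ((1 : SL2) : M2) 1 1 = 1 := by simp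

theorem detR (g : SL2) : (g : M2) 0 0 * (g : M2) 1 1 - (g : M2) 0 1 * (g : M2) 1 0 = 1 := by
  have := g.det_coe
  rwa [Matrix.det_fin_two] at this

@[simp] theorem uR_00 (a : R) : ((uR a : SL2) : M2) 0 0 = 1 := rfl
@[simp] theorem uR_01 (a : R) : ((uR a : SL2) : M2) 0 1 = a := rfl
@[simp] theorem uR_10 (a : R) : ((uR a : SL2) : M2) 1 0 = 0 := rfl
@[simp] theorem uR_11 (a : R) : ((uR a : SL2) : M2) 1 1 = 1 := rfl
@[simp] theorem lR_00 (a : R) : ((lR a : SL2) : M2) 0 0 = 1 := rfl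
@[simp] theorem lR_01 (a : R) : ((lR a : SL2) : M2) 0 1 = 0 := rfl
@[simp] theorem lR_10 (a : R) : ((lR a : SL2) : M2) 1 0 = a := rfl
@[simp] theorem lR_11 (a : R) : ((lR a : SL2) : M2) 1 1 = 1 := rfl

theorem uR_add (a b : R) : uR (a + b) = uR a * uR b := by
  apply sl2_extR <;> simp [mulR_00, mulR_01, mulR_10, mulR_11, add_comm]

theorem uR_zero : (uR (0 : R) : SL2) = 1 := by
  apply sl2_extR <;> simp

theorem uR_neg (a : R) : uR (-a) = (uR a)⁻¹ := by
  apply sl2_extR <;> simp [invR_00, invR_01, invR_10, invR_11]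

theorem lR_add (a b : R) : lR (a + b) = lR a * lR b := by
  apply sl2_extR <;> simp [mulR_00, mulR_01, mulR_10, mulR_11]

theorem lR_zero : (lR (0 : R) : SL2) = 1 := by
  apply sl2_extR <;> simp

theorem lR_neg (a : R) : lR (-a) = (lR a)⁻¹ := by
  apply sl2_extR <;> simp [invR_00, invR_01, invR_10, invR_11]

theorem conjU_00 (g : SL2) (c : R) :
    ((g * uR c * g⁻¹ : SL2) : M2) 0 0 = 1 - c * (g : M2) 0 0 * (g : M2) 1 0 := by
  rw [mulR_00, mulR_00, mulR_01, invR_00, invR_10, uR_00, uR_10, uR_01, uR_11]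
  linear_combination detR g
theorem conjU_01 (g : SL2) (c : R) :
    ((g * uR c * g⁻¹ : SL2) : M2) 0 1 = c * (g : M2) 0 0 * (g : M2) 0 0 := by
  rw [mulR_01, mulR_00, mulR_01, invR_01, invR_11, uR_00, uR_10, uR_01, uR_11]
  ring
theorem conjU_10 (g : SL2) (c : R) :
    ((g * uR c * g⁻¹ : SL2) : M2) 1 0 = -(c * (g : M2) 1 0 * (g : M2) 1 0) := by
  rw [mulR_10, mulR_10, mulR_11, invR_00, invR_10, uR_00, uR_10, uR_01, uR_11]
  ring
theorem conjU_11 (g : SL2) (c : R) :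
    ((g * uR c * g⁻¹ : SL2) : M2) 1 1 = 1 + c * (g : M2) 0 0 * (g : M2) 1 0 := by
  rw [mulR_11, mulR_10, mulR_11, invR_01, invR_11, uR_00, uR_10, uR_01, uR_11]
  linear_combination detR g

theorem conjL_00 (g : SL2) (c : R) :
    ((g * lR c * g⁻¹ : SL2) : M2) 0 0 = 1 + c * (g : M2) 0 1 * (g : M2) 1 1 := by
  rw [mulR_00, mulR_00, mulR_01, invR_00, invR_10, lR_00, lR_10, lR_01, lR_11]
  linear_combination detR g
theorem conjL_01 (g : SL2) (c : R) :
    ((g * lR c * g⁻¹ : SL2) : M2) 0 1 = -(c * (g : M2) 0 1 * (g : M2) 0 1) := by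
  rw [mulR_01, mulR_00, mulR_01, invR_01, invR_11, lR_00, lR_10, lR_01, lR_11]
  ring
theorem conjL_10 (g : SL2) (c : R) :
    ((g * lR c * g⁻¹ : SL2) : M2) 1 0 = c * (g : M2) 1 1 * (g : M2) 1 1 := by
  rw [mulR_10, mulR_10, mulR_11, invR_00, invR_10, lR_00, lR_10, lR_01, lR_11]
  ring
theorem conjL_11 (g : SL2) (c : R) :
    ((g * lR c * g⁻¹ : SL2) : M2) 1 1 = 1 - c * (g : M2) 0 1 * (g : M2) 1 1 := by
  rw [mulR_11, mulR_10, mulR_11, invR_01, invR_11, lR_00, lR_10, lR_01, lR_11]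
  linear_combination detR g

end

section map

variable {R S : Type*} [CommRing R] [CommRing S] (f : R →+* S)

theorem map_entry (g : Matrix.SpecialLinearGroup (Fin 2) R) (i j : Fin 2) :
    ((Matrix.SpecialLinearGroup.map f g : Matrix.SpecialLinearGroup (Fin 2) S) :
      Matrix (Fin 2) (Fin 2) S) i j = f ((g : Matrix (Fin 2) (Fin 2) R) i j) := rfl

theorem map_uR (a : R) : Matrix.SpecialLinearGroup.map f (uR a) = uR (f a) := by
  apply sl2_extR <;> simp [map_entry]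

theorem map_lR (a : R) : Matrix.SpecialLinearGroup.map f (lR a) = lR (f a) := by
  apply sl2_extR <;> simp [map_entry]

end map

end Cfsg.Agent.Lib.H18.QP
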