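import Mathlib

/-!
# Pairs of square-zero endomorphisms and the order `Λ ⊆ M₂(k[X])` (helper18, for S5064)

For endomorphisms `n, m` of a `k`-module `M` with `n² = m² = 0`, the element `z = nm + mn` commutes with `n`
and `m`, and the algebra generated by `n, m` is spanned over `k[z]` by `1, nm, n, m`.  We model it by
quadruples `(d, e, b, c)` of polynomials, standing for the matrix `[[d + X e, b], [X c, d]]`, acting on `M`
by `d(z) + e(z) nm + b(z) n + c(z) m`.
-/

set_option autoImplicit false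

namespace Cfsg.Agent.Lib.H18.QP

open Polynomial

noncomputable section

/-- A pair of square-zero endomorphisms. -/
structure SqPair (k M : Type*) [Field k] [AddCommGroup M] [Module k M] where
  n : Module.End k M
  m : Module.End k M
  hn : n * n = 0
  hm : m * m = 0

/-- Quadruples of polynomials. -/
@[ext] structure Lam (k : Type*) [Field k] where
  d : k[X]
  e : k[X]
  b : k[X]
  c : k[X]

namespace Lam

variable {k : Type*} [Field k]

instance : Add (Lam k) := ⟨fun x y => ⟨x.d + y.d, x.e + y.e, x.b + y.b, x.c + y.c⟩⟩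

/-- scalar multiplication by a polynomial -/
def sm (g : k[X]) (x : Lam k) : Lam k := ⟨g * x.d, g * x.e, g * x.b, g * x.c⟩

/-- right multiplication by `P = nm` -/
def rP (x : Lam k) : Lam k := ⟨0, x.d + X * x.e, 0, X * x.c⟩

/-- right multiplication by `n` -/
def rn (x : Lam k) : Lam k := ⟨X * x.c, -x.c, x.d + X * x.e, 0⟩

/-- right multiplication by `m` -/
def rm (x : Lam k) : Lam k := ⟨0, x.b, 0, x.d⟩

instance : Mul (Lam k) := ⟨fun x y => sm y.d x + rP (sm y.e x) + rn (sm y.b x) + rm (sm y.c x)⟩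

instance : One (Lam k) := ⟨⟨1, 0, 0, 0⟩⟩

@[simp] theorem add_d (x y : Lam k) : (x + y).d = x.d + y.d := rfl
@[simp] theorem add_e (x y : Lam k) : (x + y).e = x.e + y.e := rfl
@[simp] theorem add_b (x y : Lam k) : (x + y).b = x.b + y.b := rfl
@[simp] theorem add_c (x y : Lam k) : (x + y).c = x.c + y.c := rfl
@[simp] theorem one_d : (1 : Lam k).d = 1 := rfl
@[simp] theorem one_e : (1 : Lam k).e = 0 := rfl
@[simp] theorem one_b : (1 : Lam k).b = 0 := rfl
@[simp] theorem one_c : (1 : Lam k).c = 0 := rfl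

theorem mul_def (x y : Lam k) : x * y = sm y.d x + rP (sm y.e x) + rn (sm y.b x) + rm (sm y.c x) := rfl

theorem mul_d (x y : Lam k) : (x * y).d = x.d * y.d + X * x.c * y.b := by
  simp only [mul_def, add_d, sm, rP, rn, rm]; ring

theorem mul_e (x y : Lam k) :
    (x * y).e = x.d * y.e + x.e * y.d + X * x.e * y.e + x.b * y.c - x.c * y.b := by
  simp only [mul_def, add_e, sm, rP, rn, rm]; ring

theorem mul_b (x y : Lam k) : (x * y).b = (x.d + X * x.e) * y.b + x.b * y.d := by
  simp only [mul_def, add_b, sm, rP, rn, rm]; ring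

theorem mul_c (x y : Lam k) : (x * y).c = x.c * (y.d + X * y.e) + x.d * y.c := by
  simp only [mul_def, add_c, sm, rP, rn, rm]; ring

/-- The matrix of a quadruple. -/
def toMat (x : Lam k) : Matrix (Fin 2) (Fin 2) k[X] := !![x.d + X * x.e, x.b; X * x.c, x.d]

@[simp] theorem toMat_00 (x : Lam k) : x.toMat 0 0 = x.d + X * x.e := rfl
@[simp] theorem toMat_01 (x : Lam k) : x.toMat 0 1 = x.b := rfl
@[simp] theorem toMat_10 (x : Lam k) : x.toMat 1 0 = X * x.c := rfl
@[simp] theorem toMat_11 (x : Lam k) : x.toMat 1 1 = x.d := rfl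

theorem toMat_one : (1 : Lam k).toMat = 1 := by
  refine Matrix.ext fun i j => ?_
  fin_cases i <;> fin_cases j <;> simp [toMat]

theorem mat_congr {a b c d a' b' c' d' : k[X]} (h1 : a = a') (h2 : b = b') (h3 : c = c') (h4 : d = d') :
    (!![a, b; c, d] : Matrix (Fin 2) (Fin 2) k[X]) = !![a', b'; c', d'] := by
  rw [h1, h2, h3, h4]

theorem toMat_mul (x y : Lam k) : (x * y).toMat = x.toMat * y.toMat := by
  unfold toMat
  rw [Matrix.mul_fin_two, mul_d, mul_e, mul_b, mul_c]
  apply mat_congr <;> ring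

theorem toMat_injective : Function.Injective (toMat : Lam k → Matrix (Fin 2) (Fin 2) k[X]) := by
  intro x y h
  have h00 : x.d + X * x.e = y.d + X * y.e := by
    have := congrFun (congrFun h 0) 0; simpa using this
  have h01 : x.b = y.b := by
    have := congrFun (congrFun h 0) 1; simpa using this
  have h10 : X * x.c = X * y.c := by
    have := congrFun (congrFun h 1) 0; simpa using this
  have h11 : x.d = y.d := by
    have := congrFun (congrFun h 1) 1; simpa using this
  have hc : x.c = y.c := mul_left_cancel₀ X_ne_zero h10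
  have he : x.e = y.e := by
    rw [h11] at h00
    exact mul_left_cancel₀ X_ne_zero (add_left_cancel h00)
  exact Lam.ext h11 he h01 hc

/-- The quadruple of a matrix (meaningful for good matrices). -/
def ofMat (A : Matrix (Fin 2) (Fin 2) k[X]) : Lam k :=
  ⟨A 1 1, divX (A 0 0 - A 1 1), A 0 1, divX (A 1 0)⟩

/-- A matrix lies in the order `Λ`. -/
def Good (A : Matrix (Fin 2) (Fin 2) k[X]) : Prop :=
  (A 0 0 - A 1 1).coeff 0 = 0 ∧ (A 1 0).coeff 0 = 0

theorem X_mul_divX_of {f : k[X]} (h : f.coeff 0 = 0) : X * divX f = f := by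
  have := X_mul_divX_add f
  rw [h, map_zero, add_zero] at this
  exact this

theorem toMat_ofMat {A : Matrix (Fin 2) (Fin 2) k[X]} (h : Good A) : (ofMat A).toMat = A := by
  refine Matrix.ext fun i j => ?_
  fin_cases i <;> fin_cases j
  · show A 1 1 + X * divX (A 0 0 - A 1 1) = A 0 0
    rw [X_mul_divX_of h.1]; ring
  · rfl
  · show X * divX (A 1 0) = A 1 0
    rw [X_mul_divX_of h.2]
  · rfl

theorem good_toMat (x : Lam k) : Good x.toMat := by
  constructor
  · simp [mul_coeff_zero]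
  · simp [mul_coeff_zero]

theorem ofMat_toMat (x : Lam k) : ofMat x.toMat = x := toMat_injective (toMat_ofMat (good_toMat x))

theorem good_one : Good (1 : Matrix (Fin 2) (Fin 2) k[X]) := by
  rw [← toMat_one]; exact good_toMat 1

theorem good_mul {A B : Matrix (Fin 2) (Fin 2) k[X]} (hA : Good A) (hB : Good B) : Good (A * B) := by
  rw [← toMat_ofMat hA, ← toMat_ofMat hB, ← toMat_mul]
  exact good_toMat _

theorem ofMat_mul {A B : Matrix (Fin 2) (Fin 2) k[X]} (hA : Good A) (hB : Good B) :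
    ofMat (A * B) = ofMat A * ofMat B := by
  apply toMat_injective
  rw [toMat_ofMat (good_mul hA hB), toMat_mul, toMat_ofMat hA, toMat_ofMat hB]

theorem ofMat_one : ofMat (1 : Matrix (Fin 2) (Fin 2) k[X]) = 1 := by
  apply toMat_injective
  rw [toMat_ofMat good_one, toMat_one]

end Lam

namespace SqPair

variable {k M : Type*} [Field k] [AddCommGroup M] [Module k M] (p : SqPair k M)

/-- `z = nm + mn`. -/
def z : Module.End k M := p.n * p.m + p.m * p.n

/-- `P = nm`. -/
def P : Module.End k M := p.n * p.m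

theorem z_n : p.z * p.n = p.n * p.z := by
  simp only [z, add_mul, mul_add, mul_assoc, p.hn, mul_zero]
  rw [← mul_assoc p.n p.n, p.hn, zero_mul, add_zero, zero_add]

theorem z_m : p.z * p.m = p.m * p.z := by
  simp only [z, add_mul, mul_add, mul_assoc, p.hm, mul_zero]
  rw [← mul_assoc p.m p.m, p.hm, zero_mul, add_zero, zero_add]

/-- evaluation of a polynomial at `z` -/
noncomputable def ev (f : k[X]) : Module.End k M := aeval p.z f

@[simp] theorem ev_X : p.ev X = p.z := aeval_X _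
@[simp] theorem ev_one : p.ev 1 = 1 := map_one _
@[simp] theorem ev_zero : p.ev 0 = 0 := map_zero _
theorem ev_add (f g : k[X]) : p.ev (f + g) = p.ev f + p.ev g := map_add _ _ _
theorem ev_mul (f g : k[X]) : p.ev (f * g) = p.ev f * p.ev g := map_mul _ _ _
theorem ev_neg (f : k[X]) : p.ev (-f) = -p.ev f := map_neg _ _
theorem ev_sub (f g : k[X]) : p.ev (f - g) = p.ev f - p.ev g := map_sub _ _ _
theorem ev_C (c : k) : p.ev (C c) = c • (1 : Module.End k M) := by
  rw [ev, aeval_C, Algebra.algebraMap_eq_smul_one]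

theorem ev_comm (f g : k[X]) : p.ev f * p.ev g = p.ev g * p.ev f := by
  rw [← ev_mul, ← ev_mul, mul_comm]

theorem ev_commute {w : Module.End k M} (h : Commute p.z w) (f : k[X]) : Commute (p.ev f) w := by
  induction f using Polynomial.induction_on' with
  | add f g hf hg => rw [ev_add]; exact hf.add_left hg
  | monomial n a =>
    rw [ev, aeval_monomial]
    exact (Algebra.commute_algebraMap_left a w).mul_left (h.pow_left n)

theorem ev_n (f : k[X]) : p.ev f * p.n = p.n * p.ev f := p.ev_commute p.z_n f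

theorem ev_m (f : k[X]) : p.ev f * p.m = p.m * p.ev f := p.ev_commute p.z_m f

theorem ev_P (f : k[X]) : p.ev f * p.P = p.P * p.ev f := by
  rw [P, ← mul_assoc, ev_n, mul_assoc, ev_m, ← mul_assoc]

/-! ### The multiplication table -/

theorem n_P : p.n * p.P = 0 := by rw [P, ← mul_assoc, p.hn, zero_mul]
theorem P_m : p.P * p.m = 0 := by rw [P, mul_assoc, p.hm, mul_zero]
theorem m_n : p.m * p.n = p.z - p.P := by rw [z, P]; abel
theorem P_n : p.P * p.n = p.z * p.n := by
  rw [z, add_mul, P, mul_assoc p.m, p.hn, mul_zero, add_zero]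
theorem m_P : p.m * p.P = p.z * p.m := by
  rw [z, add_mul, P, mul_assoc p.n, p.hm, mul_zero, zero_add, mul_assoc]
theorem P_P : p.P * p.P = p.z * p.P := by
  rw [z, add_mul, P, mul_assoc p.m p.n, ← mul_assoc p.n p.n, p.hn, zero_mul, mul_zero, add_zero]

/-- The action of a quadruple. -/
noncomputable def Th (x : Lam k) : Module.End k M :=
  p.ev x.d + p.ev x.e * p.P + p.ev x.b * p.n + p.ev x.c * p.m

theorem Th_add (x y : Lam k) : p.Th (x + y) = p.Th x + p.Th y := by
  simp only [Th, Lam.add_d, Lam.add_e, Lam.add_b, Lam.add_c, ev_add, add_mul]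
  abel

theorem ev_z (f : k[X]) : p.ev f * p.z = p.z * p.ev f := by
  have := p.ev_comm f X
  rwa [ev_X] at this

theorem Th_sm (g : k[X]) (x : Lam k) : p.Th (Lam.sm g x) = p.Th x * p.ev g := by
  show p.ev (g * x.d) + p.ev (g * x.e) * p.P + p.ev (g * x.b) * p.n + p.ev (g * x.c) * p.m =
    (p.ev x.d + p.ev x.e * p.P + p.ev x.b * p.n + p.ev x.c * p.m) * p.ev g
  rw [add_mul, add_mul, add_mul, ev_mul, ev_mul, ev_mul, ev_mul, p.ev_comm g x.d,
    mul_assoc (p.ev x.e), ← p.ev_P g, ← mul_assoc (p.ev x.e), p.ev_comm x.e g,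
    mul_assoc (p.ev x.b), ← p.ev_n g, ← mul_assoc (p.ev x.b), p.ev_comm x.b g,
    mul_assoc (p.ev x.c), ← p.ev_m g, ← mul_assoc (p.ev x.c), p.ev_comm x.c g]

theorem Th_rP (x : Lam k) : p.Th (Lam.rP x) = p.Th x * p.P := by
  show p.ev 0 + p.ev (x.d + X * x.e) * p.P + p.ev 0 * p.n + p.ev (X * x.c) * p.m =
    (p.ev x.d + p.ev x.e * p.P + p.ev x.b * p.n + p.ev x.c * p.m) * p.P
  rw [add_mul, add_mul, add_mul, ev_zero, zero_add, zero_mul, add_zero, ev_add, ev_mul, ev_mul, ev_X, add_mul,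
    mul_assoc (p.ev x.e) p.P p.P, p.P_P, mul_assoc (p.ev x.b) p.n p.P, p.n_P, mul_zero, add_zero,
    mul_assoc (p.ev x.c) p.m p.P, p.m_P, ← mul_assoc (p.ev x.e) p.z, p.ev_z,
    ← mul_assoc (p.ev x.c) p.z, p.ev_z]

theorem Th_rn (x : Lam k) : p.Th (Lam.rn x) = p.Th x * p.n := by
  show p.ev (X * x.c) + p.ev (-x.c) * p.P + p.ev (x.d + X * x.e) * p.n + p.ev 0 * p.m =
    (p.ev x.d + p.ev x.e * p.P + p.ev x.b * p.n + p.ev x.c * p.m) * p.n
  rw [add_mul, add_mul, add_mul, ev_zero, zero_mul, add_zero, ev_add, ev_mul, ev_mul, ev_X, ev_neg, add_mul,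
    mul_assoc (p.ev x.e) p.P p.n, p.P_n, mul_assoc (p.ev x.b) p.n p.n, p.hn, mul_zero, add_zero,
    mul_assoc (p.ev x.c) p.m p.n, p.m_n, mul_sub, ← mul_assoc (p.ev x.e) p.z, p.ev_z, p.ev_z, neg_mul]
  abel

theorem Th_rm (x : Lam k) : p.Th (Lam.rm x) = p.Th x * p.m := by
  show p.ev 0 + p.ev x.b * p.P + p.ev 0 * p.n + p.ev x.d * p.m =
    (p.ev x.d + p.ev x.e * p.P + p.ev x.b * p.n + p.ev x.c * p.m) * p.m
  rw [add_mul, add_mul, add_mul, ev_zero, zero_add, zero_mul, add_zero,
    mul_assoc (p.ev x.e) p.P p.m, p.P_m, mul_zero, add_zero, mul_assoc (p.ev x.b) p.n p.m,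
    mul_assoc (p.ev x.c) p.m p.m, p.hm, mul_zero, add_zero, P]
  abel

theorem Th_mul (x y : Lam k) : p.Th (x * y) = p.Th x * p.Th y := by
  rw [Lam.mul_def, Th_add, Th_add, Th_add, Th_rP, Th_rn, Th_rm, Th_sm, Th_sm, Th_sm, Th_sm,
    show p.Th y = p.ev y.d + p.ev y.e * p.P + p.ev y.b * p.n + p.ev y.c * p.m from rfl,
    mul_add, mul_add, mul_add]
  simp only [mul_assoc]

theorem Th_one : p.Th 1 = 1 := by
  simp [Th]

end SqPair

end

end Cfsg.Agent.Lib.H18.QP
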