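import Cfsg.Agent.Lib.H18.QP9
import Cfsg.Prelude.Def_RootSubgroups

/-!
# Unipotence, and the isomorphism with `SL₂` (helper18, for S5064)
-/

set_option autoImplicit false

namespace Cfsg.Agent.Lib.H18.QP

open Polynomial

noncomputable section

universe u

section flag

variable {k M : Type*} [Field k] [AddCommGroup M] [Module k M]

/-- the socle-type filtration of a pair -/
def flag (p : SqPair k M) : ℕ → Submodule k M
  | 0 => ⊥
  | i + 1 => (flag p i).comap p.n ⊓ (flag p i).comap p.m

variable (p : SqPair k M)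

theorem mem_flag_succ (i : ℕ) (v : M) : v ∈ flag p (i + 1) ↔ p.n v ∈ flag p i ∧ p.m v ∈ flag p i := by
  show v ∈ (flag p i).comap p.n ⊓ (flag p i).comap p.m ↔ _
  rw [Submodule.mem_inf, Submodule.mem_comap, Submodule.mem_comap]

theorem flag_mono (i : ℕ) : flag p i ≤ flag p (i + 1) := by
  induction i with
  | zero => exact bot_le
  | succ i ih =>
    intro v hv
    rw [mem_flag_succ] at hv ⊢
    exact ⟨ih hv.1, ih hv.2⟩

theorem ker_le_flag (j : ℕ) : LinearMap.ker (p.z ^ j) ≤ flag p (3 * j) := by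
  induction j with
  | zero =>
    intro v hv
    rw [pow_zero, LinearMap.mem_ker, Module.End.one_apply] at hv
    rw [hv]; exact Submodule.zero_mem _
  | succ j ih =>
    intro v hv
    rw [LinearMap.mem_ker] at hv
    have cn : Commute (p.z ^ (j + 1)) p.n := (show Commute p.z p.n from p.z_n).pow_left _
    have cm : Commute (p.z ^ (j + 1)) p.m := (show Commute p.z p.m from p.z_m).pow_left _
    have hzn : p.z (p.n v) ∈ flag p (3 * j) := by
      apply ih
      rw [LinearMap.mem_ker]
      have h1 : (p.z ^ j) (p.z (p.n v)) = (p.z ^ (j + 1) * p.n) v := by rw [pow_succ]; rfl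
      rw [h1, cn.eq, Module.End.mul_apply, hv, map_zero]
    have hzm : p.z (p.m v) ∈ flag p (3 * j) := by
      apply ih
      rw [LinearMap.mem_ker]
      have h1 : (p.z ^ j) (p.z (p.m v)) = (p.z ^ (j + 1) * p.m) v := by rw [pow_succ]; rfl
      rw [h1, cm.eq, Module.End.mul_apply, hv, map_zero]
    have hnmn : p.n (p.m (p.n v)) = p.z (p.n v) := LinearMap.congr_fun p.P_n v
    have hmnm : p.m (p.n (p.m v)) = p.z (p.m v) := LinearMap.congr_fun p.m_P v
    have e : 3 * (j + 1) = 3 * j + 1 + 1 + 1 := by ring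
    rw [e]
    simp only [mem_flag_succ, p.n_n_apply, p.m_m_apply, map_zero, hnmn, hmnm, Submodule.zero_mem, true_and,
      and_true, hzn, hzm, and_self]

theorem flag_top (e : ℕ) (hz : p.z ^ e = 0) : flag p (3 * e) = ⊤ := by
  rw [eq_top_iff]
  refine le_trans ?_ (ker_le_flag p e)
  rw [hz, LinearMap.ker_zero]

/-- the elements acting trivially on the factors of the flag -/
def FlagQ (g : (Module.End k M)ˣ) : Prop :=
  ∀ i : ℕ, ∀ v ∈ flag p (i + 1), ((g : Module.End k M) - 1) v ∈ flag p i

theorem FlagQ.pres {g : (Module.End k M)ˣ} (h : FlagQ p g) (i : ℕ) :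
    ∀ v ∈ flag p i, (g : Module.End k M) v ∈ flag p i := by
  intro v hv
  cases i with
  | zero =>
    have hv0 : v = 0 := (Submodule.mem_bot k).mp hv
    rw [hv0, map_zero]; exact Submodule.zero_mem _
  | succ i =>
    have h1 := h i v hv
    have e : (g : Module.End k M) v = ((g : Module.End k M) - 1) v + v := by
      rw [LinearMap.sub_apply, Module.End.one_apply, sub_add_cancel]
    rw [e]
    exact add_mem (flag_mono p i h1) hv

theorem FlagQ.one : FlagQ p 1 := by
  intro i v _
  rw [Units.val_one, sub_self, LinearMap.zero_apply]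
  exact Submodule.zero_mem _

theorem FlagQ.mul {g h : (Module.End k M)ˣ} (hg : FlagQ p g) (hh : FlagQ p h) : FlagQ p (g * h) := by
  intro i v hv
  have e : ((g * h : (Module.End k M)ˣ) : Module.End k M) - 1 =
      ((g : Module.End k M) - 1) * (h : Module.End k M) + ((h : Module.End k M) - 1) := by
    rw [Units.val_mul]; noncomm_ring
  rw [e, LinearMap.add_apply, Module.End.mul_apply]
  exact add_mem (hg i _ (hh.pres p (i + 1) v hv)) (hh i v hv)

theorem FlagQ.inv {g : (Module.End k M)ˣ} (hg : FlagQ p g) : FlagQ p g⁻¹ := by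
  have hpres : ∀ i : ℕ, ∀ v ∈ flag p i, ((g⁻¹ : (Module.End k M)ˣ) : Module.End k M) v ∈ flag p i := by
    intro i
    induction i with
    | zero =>
      intro v hv
      have hv0 : v = 0 := (Submodule.mem_bot k).mp hv
      rw [hv0, map_zero]; exact Submodule.zero_mem _
    | succ i ih =>
      intro v hv
      have e : ((g⁻¹ : (Module.End k M)ˣ) : Module.End k M) v =
          v - ((g⁻¹ : (Module.End k M)ˣ) : Module.End k M) (((g : Module.End k M) - 1) v) := by
        have h1 : ((g⁻¹ : (Module.End k M)ˣ) : Module.End k M) ((g : Module.End k M) v) = v := by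
          rw [← Module.End.mul_apply, Units.inv_mul, Module.End.one_apply]
        rw [LinearMap.sub_apply, Module.End.one_apply, map_sub, h1]
        abel
      rw [e]
      exact sub_mem hv (flag_mono p i (ih _ (hg i v hv)))
  intro i v hv
  have e : (((g⁻¹ : (Module.End k M)ˣ) : Module.End k M) - 1) v =
      -(((g⁻¹ : (Module.End k M)ˣ) : Module.End k M) (((g : Module.End k M) - 1) v)) := by
    have h1 : ((g⁻¹ : (Module.End k M)ˣ) : Module.End k M) ((g : Module.End k M) v) = v := by
      rw [← Module.End.mul_apply, Units.inv_mul, Module.End.one_apply]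
    rw [LinearMap.sub_apply, Module.End.one_apply, LinearMap.sub_apply, Module.End.one_apply, map_sub, h1]
    abel
  rw [e]
  exact neg_mem (hpres i _ (hg i v hv))

theorem FlagQ.of_mem_HH {g : (Module.End k M)ˣ} (hg : g ∈ HH p) : FlagQ p g := by
  unfold HH at hg
  induction hg using Subgroup.closure_induction with
  | mem x hx =>
    intro i v hv
    rw [mem_flag_succ] at hv
    rcases hx with ⟨c, hc⟩ | ⟨c, hc⟩
    · rw [hc, add_sub_cancel_left, LinearMap.smul_apply]
      exact Submodule.smul_mem _ _ hv.1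
    · rw [hc, add_sub_cancel_left, LinearMap.smul_apply]
      exact Submodule.smul_mem _ _ hv.2
  | one => exact FlagQ.one p
  | mul x y _ _ hx hy => exact hx.mul p hy
  | inv x _ hx => exact hx.inv p

theorem prod_flag (l : List (Module.End k M)ˣ) (hl : ∀ g ∈ l, g ∈ HH p) :
    ∀ i : ℕ, ∀ v ∈ flag p (i + l.length),
      (l.map fun g => ((g : (Module.End k M)ˣ) : Module.End k M) - 1).prod v ∈ flag p i := by
  induction l with
  | nil =>
    intro i v hv
    simpa using hv
  | cons g l ih =>
    intro i v hv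
    rw [List.map_cons, List.prod_cons, Module.End.mul_apply]
    have hg : g ∈ HH p := hl g (List.mem_cons_self ..)
    have hl' : ∀ g ∈ l, g ∈ HH p := fun x hx => hl x (List.mem_cons_of_mem _ hx)
    have e : i + (g :: l).length = (i + 1) + l.length := by rw [List.length_cons]; ring
    rw [e] at hv
    exact FlagQ.of_mem_HH p hg i _ (ih hl' (i + 1) v hv)

theorem coe_list_eq (l : List (LinearMap.GeneralLinearGroup k M)) :
    (l.map fun g => (g : M →ₗ[k] M) - 1) =
      (l.map fun g => ((g : (M →ₗ[k] M)ˣ) : M →ₗ[k] M) - 1) := by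
  simp only [List.bind_eq_flatMap, List.pure_def, ← List.map_eq_flatMap, List.map_map]
  rfl

theorem unipotent_of_nil (e : ℕ) (hz : p.z ^ e = 0) : Cfsg.IsUnipotentOn (HH p) := by
  refine ⟨3 * e, ?_⟩
  intro l hl hlen
  rw [coe_list_eq]
  refine LinearMap.ext fun v => ?_
  have h1 := prod_flag p l hl 0 v (by rw [zero_add, hlen, flag_top p e hz]; exact Submodule.mem_top)
  exact (Submodule.mem_bot k).mp h1

end flag

section final

variable {k : Type u} [Field k] {M : Type u} [AddCommGroup M] [Module k M]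

theorem annN_gen [FiniteDimensional k M] (p : SqPair k M) :
    ∃ F : k[X], F ≠ 0 ∧ ∀ f, f ∈ annN p ↔ F ∣ f := by
  obtain ⟨F, hF⟩ : ∃ F, F = Submodule.IsPrincipal.generator (annN p) := ⟨_, rfl⟩
  have hmem : ∀ f, f ∈ annN p ↔ F ∣ f := by
    intro f; rw [hF]; exact Submodule.IsPrincipal.mem_iff_generator_dvd (annN p)
  refine ⟨F, ?_, hmem⟩
  intro h0
  have h1 : minpoly k p.z ∈ annN p := by
    show p.ev (minpoly k p.z) * p.n = 0
    rw [SqPair.ev, minpoly.aeval, zero_mul]
  rw [hmem, h0, zero_dvd_iff] at h1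
  exact minpoly.ne_zero (Algebra.IsIntegral.isIntegral p.z) h1

theorem final [FiniteDimensional k M] (hk2 : ringChar k ≠ 2) (hk3 : Nat.card k ≠ 3)
    {G : Subgroup (Module.End k M)ˣ} {d : ℕ} (hMin : MinP G d) (p : SqPair k M) (hq : QPair G d p)
    (hnil : ¬ IsNilpotent (p.n * p.m)) :
    ∃ (K : Type u) (_ : Field K) (_ : Algebra k K) (lam : K), IsAlgebraic k lam ∧
      IntermediateField.adjoin k ({lam} : Set K) = ⊤ ∧
      Nonempty (↥(HH p) ≃* Matrix.SpecialLinearGroup (Fin 2) K) := by
  have hP := theoremP hk2 hk3 hMin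
  have hNN := NonNil.of_PP hP hq hnil
  obtain ⟨pp, hirr, hppX, v, hv, hv0, hppv⟩ := exists_pp_v p hnil
  obtain ⟨F, hF0, hmem⟩ := annN_gen p
  have hFpp := lemmaZ hk2 hk3 hMin hP hq hNN hmem hF0 hirr hppX hv hv0 hppv
  have hmem' : ∀ f, f ∈ annN p ↔ pp ∣ f := by
    intro f
    constructor
    · intro hf
      by_contra hnd
      have hcop : IsCoprime pp f := hirr.coprime_iff_not_dvd.mpr hnd
      obtain ⟨w, hw⟩ := hv
      have h1 : p.ev f v = 0 := by rw [← hw]; exact LinearMap.congr_fun hf w
      exact hv0 (p.eq_zero_of_coprime hcop hppv h1)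
    · intro hf
      exact (hmem f).mpr (hFpp.trans hf)
  haveI : Fact (Irreducible pp) := ⟨hirr⟩
  refine ⟨AdjoinRoot pp, inferInstance, inferInstance, AdjoinRoot.root pp,
    AdjoinRoot.isAlgebraic_root hirr.ne_zero,
    IntermediateField.adjoin_eq_top_of_algebra k _ AdjoinRoot.adjoinRoot_eq_top, ?_⟩
  -- the two homomorphisms
  obtain ⟨φ, hφ⟩ : ∃ φ : ↥(Gam k) →* Matrix.SpecialLinearGroup (Fin 2) (AdjoinRoot pp),
      φ = (Matrix.SpecialLinearGroup.map (AdjoinRoot.mk pp)).comp (Gam k).subtype := ⟨_, rfl⟩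
  have hφsurj : Function.Surjective φ := by
    intro y
    have h1 : y ∈ (Gam k).map (Matrix.SpecialLinearGroup.map (AdjoinRoot.mk pp)) := by
      rw [red_surj hk2 hk3 hppX]; exact Subgroup.mem_top _
    obtain ⟨g, hg, rfl⟩ := h1
    exact ⟨⟨g, hg⟩, by rw [hφ]; rfl⟩
  have hker : (thetaG p).ker = φ.ker := by
    ext g
    rw [MonoidHom.mem_ker, MonoidHom.mem_ker, Units.ext_iff, thetaG_val, Units.val_one,
      hNN.theta_eq_one_iff hmem' ⟨g.1, Gam_le_GG g.2⟩ (Gam_X_dvd g.2), hφ]
    rfl
  have e1 := QuotientGroup.quotientKerEquivRange (thetaG p)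
  have e2 := QuotientGroup.quotientKerEquivOfSurjective φ hφsurj
  have e3 := QuotientGroup.quotientMulEquivOfEq hker
  have e4 := MulEquiv.subgroupCongr (thetaG_range p)
  exact ⟨e4.symm.trans (e1.symm.trans (e3.trans e2))⟩

end final

end

end Cfsg.Agent.Lib.H18.QP
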