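import Cfsg.Agent.Lib.H18.QP10

/-!
# The groups `E(σ)` of a quadratic pair (helper18, for S5073, S5065)
-/

set_option autoImplicit false

namespace Cfsg.Agent.Lib.H18.QP

open Polynomial

noncomputable section

variable {k M : Type*} [Field k] [AddCommGroup M] [Module k M]

/-- `g − 1` -/
def nu (g : (Module.End k M)ˣ) : Module.End k M := (g : Module.End k M) - 1

theorem val_eq_nu (g : (Module.End k M)ˣ) : (g : Module.End k M) = 1 + nu g := by
  unfold nu; abel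

theorem nu_one : nu (1 : (Module.End k M)ˣ) = 0 := by
  unfold nu; rw [Units.val_one, sub_self]

theorem nu_eq_zero {g : (Module.End k M)ˣ} : nu g = 0 ↔ g = 1 := by
  unfold nu
  rw [sub_eq_zero]
  exact ⟨fun h => Units.ext h, fun h => by rw [h, Units.val_one]⟩

theorem nu_mul (g h : (Module.End k M)ˣ) : nu (g * h) = nu g + nu h + nu g * nu h := by
  unfold nu; rw [Units.val_mul]; noncomm_ring

theorem nu_conj (g h : (Module.End k M)ˣ) :
    nu (g * h * g⁻¹) = (g : Module.End k M) * nu h * ((g⁻¹ : (Module.End k M)ˣ) : Module.End k M) := by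
  unfold nu
  rw [Units.val_mul, Units.val_mul, mul_sub, sub_mul, mul_one, Units.mul_inv]

theorem nu_inv_of_sq {g : (Module.End k M)ˣ} (h : nu g * nu g = 0) : nu g⁻¹ = -nu g := by
  have h1 : (g : Module.End k M) * (1 - nu g) = 1 := by
    rw [val_eq_nu g, mul_sub, mul_one, add_mul, one_mul, h]; abel
  have h2 : ((g⁻¹ : (Module.End k M)ˣ) : Module.End k M) = 1 - nu g := by
    calc ((g⁻¹ : (Module.End k M)ˣ) : Module.End k M)
        = ((g⁻¹ : (Module.End k M)ˣ) : Module.End k M) * ((g : Module.End k M) * (1 - nu g)) := by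
          rw [h1, mul_one]
      _ = 1 - nu g := by rw [← mul_assoc, Units.inv_mul, one_mul]
  unfold nu at h2 ⊢
  rw [h2]; abel

variable {G : Subgroup (Module.End k M)ˣ}

theorem fam_of {ρ : (Module.End k M)ˣ} (hρ : ρ ∈ Cfsg.quadraticElements G) : Fam G (nu ρ) := by
  intro c
  have hsq : nu ρ * nu ρ = 0 := hρ.2.1.1
  have h0 : (c • nu ρ) * (c • nu ρ) = 0 := by rw [smul_mul_smul_comm, hsq, smul_zero]
  have h1 : (1 + c • nu ρ) * (1 - c • nu ρ) = 1 := by
    rw [mul_sub, mul_one, add_mul, one_mul, h0]; abel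
  have h2 : (1 - c • nu ρ) * (1 + c • nu ρ) = 1 := by
    rw [mul_add, mul_one, sub_mul, one_mul, h0]; abel
  exact ⟨⟨_, _, h1, h2⟩, hρ.2.2 ⟨c, rfl⟩, rfl⟩

theorem minP_of {σ₀ : (Module.End k M)ˣ} (hσ₀ : σ₀ ∈ Cfsg.minimalQuadraticElements G) :
    MinP G (Cfsg.commutatorRank σ₀) := by
  intro ν hsq hne hFam
  obtain ⟨u, huG, hu⟩ := hFam 1
  rw [one_smul] at hu
  have huν : (u : Module.End k M) - 1 = ν := by rw [hu, add_sub_cancel_left]
  have huq : u ∈ Cfsg.quadraticElements G := by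
    refine ⟨huG, ⟨by rw [huν]; exact hsq, by rw [huν]; exact hne⟩, ?_⟩
    rintro w ⟨c, hc⟩
    rw [huν] at hc
    obtain ⟨u', hu'G, hu'⟩ := hFam c
    have : w = u' := Units.ext (hc.trans hu'.symm)
    rw [SetLike.mem_coe, this]; exact hu'G
  have := hσ₀.2 u huq
  unfold Cfsg.commutatorRank at this ⊢
  rw [huν] at this
  exact this

theorem rank_of {σ₀ ρ : (Module.End k M)ˣ} (hσ₀ : σ₀ ∈ Cfsg.minimalQuadraticElements G)
    (hρ : ρ ∈ Cfsg.minimalQuadraticElements G) :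
    Module.finrank k (LinearMap.range (nu ρ)) = Cfsg.commutatorRank σ₀ :=
  le_antisymm (hρ.2 σ₀ hσ₀.1) (hσ₀.2 ρ hρ.1)

theorem mem_minimal_of {σ₀ e : (Module.End k M)ˣ} (hσ₀ : σ₀ ∈ Cfsg.minimalQuadraticElements G)
    (heG : e ∈ G) (hF : Fam G (nu e)) (hsq : nu e * nu e = 0) (hne : nu e ≠ 0)
    (hr : Module.finrank k (LinearMap.range (nu e)) ≤ Cfsg.commutatorRank σ₀) :
    e ∈ Cfsg.minimalQuadraticElements G := by
  refine ⟨⟨heG, ⟨hsq, hne⟩, ?_⟩, fun τ hτ => hr.trans (hσ₀.2 τ hτ)⟩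
  rintro w ⟨c, hc⟩
  obtain ⟨u, hu, hue⟩ := hF c
  have : w = u := Units.ext (hc.trans hue.symm)
  rw [SetLike.mem_coe, this]; exact hu

/-- the pair of two quadratic elements -/
def pairOf (ρ₁ ρ₂ : (Module.End k M)ˣ) (h₁ : nu ρ₁ * nu ρ₁ = 0) (h₂ : nu ρ₂ * nu ρ₂ = 0) : SqPair k M :=
  ⟨nu ρ₁, nu ρ₂, h₁, h₂⟩

theorem qpair_of {σ₀ ρ₁ ρ₂ : (Module.End k M)ˣ} (hσ₀ : σ₀ ∈ Cfsg.minimalQuadraticElements G)
    (h₁ : ρ₁ ∈ Cfsg.minimalQuadraticElements G) (h₂ : ρ₂ ∈ Cfsg.minimalQuadraticElements G) :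
    QPair G (Cfsg.commutatorRank σ₀) (pairOf ρ₁ ρ₂ h₁.1.2.1.1 h₂.1.2.1.1) :=
  ⟨fam_of h₁.1, fam_of h₂.1, le_of_eq (rank_of hσ₀ h₁), le_of_eq (rank_of hσ₀ h₂)⟩

theorem full_of_min [FiniteDimensional k M] {d : ℕ} (hMin : MinP G d) {n ν : Module.End k M}
    (hn : Module.finrank k (LinearMap.range n) ≤ d) (hsq : ν * ν = 0) (hne : ν ≠ 0) (hF : Fam G ν)
    (hr : LinearMap.range ν ≤ LinearMap.range n) (hk : LinearMap.ker n ≤ LinearMap.ker ν) :
    LinearMap.range ν = LinearMap.range n ∧ LinearMap.ker ν = LinearMap.ker n := by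
  have h1 := hMin ν hsq hne hF
  have h2 : LinearMap.range ν = LinearMap.range n := Submodule.eq_of_le_of_finrank_le hr (hn.trans h1)
  refine ⟨h2, ?_⟩
  have h3 := LinearMap.finrank_range_add_finrank_ker ν
  have h4 := LinearMap.finrank_range_add_finrank_ker n
  rw [h2] at h3
  exact (Submodule.eq_of_le_of_finrank_le hk (by omega)).symm

/-- membership in the "line" of `n`: the data preserved by products in `E(σ)` -/
def InE (G : Subgroup (Module.End k M)ˣ) (n : Module.End k M) (e : (Module.End k M)ˣ) : Prop :=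
  e ∈ G ∧ Fam G (nu e) ∧ LinearMap.range (nu e) ≤ LinearMap.range n ∧ LinearMap.ker n ≤ LinearMap.ker (nu e)

theorem InE.mul_zero {n : Module.End k M} (hn : n * n = 0) {e e' : (Module.End k M)ˣ} (h : InE G n e)
    (h' : InE G n e') : nu e * nu e' = 0 := by
  refine LinearMap.ext fun x => ?_
  have h1 : nu e' x ∈ LinearMap.range n := h'.2.2.1 ⟨x, rfl⟩
  obtain ⟨y, hy⟩ := h1
  have h2 : n y ∈ LinearMap.ker n := by
    rw [LinearMap.mem_ker, ← Module.End.mul_apply, hn]; rfl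
  have h3 := h.2.2.2 h2
  rw [LinearMap.mem_ker, hy] at h3
  exact h3

theorem InE.one {n : Module.End k M} : InE G n 1 := by
  refine ⟨G.one_mem, ?_, ?_, ?_⟩
  · intro c
    exact ⟨1, G.one_mem, by rw [nu_one, smul_zero, add_zero, Units.val_one]⟩
  · rw [nu_one, LinearMap.range_zero]; exact bot_le
  · rw [nu_one, LinearMap.ker_zero]; exact le_top

theorem InE.mul {n : Module.End k M} (hn : n * n = 0) {e e' : (Module.End k M)ˣ} (h : InE G n e)
    (h' : InE G n e') : InE G n (e * e') := by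
  have h0 := h.mul_zero hn h'
  have hnu : nu (e * e') = nu e + nu e' := by rw [nu_mul, h0, add_zero]
  refine ⟨G.mul_mem h.1 h'.1, ?_, ?_, ?_⟩
  · intro c
    obtain ⟨u, hu, hue⟩ := h.2.1 c
    obtain ⟨u', hu', hue'⟩ := h'.2.1 c
    refine ⟨u * u', G.mul_mem hu hu', ?_⟩
    rw [Units.val_mul, hue, hue', hnu, mul_add, mul_one, add_mul, one_mul, smul_mul_smul_comm, h0, smul_zero,
      add_zero, smul_add]
    abel
  · rw [hnu]
    rintro _ ⟨x, rfl⟩
    rw [LinearMap.add_apply]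
    exact add_mem (h.2.2.1 ⟨x, rfl⟩) (h'.2.2.1 ⟨x, rfl⟩)
  · rw [hnu]
    intro x hx
    have h1 := h.2.2.2 hx
    have h2 := h'.2.2.2 hx
    rw [LinearMap.mem_ker] at h1 h2 ⊢
    rw [LinearMap.add_apply, h1, h2, add_zero]

theorem InE.inv {n : Module.End k M} (hn : n * n = 0) {e : (Module.End k M)ˣ} (h : InE G n e) :
    InE G n e⁻¹ := by
  have hnu : nu e⁻¹ = -nu e := nu_inv_of_sq (h.mul_zero hn h)
  refine ⟨G.inv_mem h.1, ?_, ?_, ?_⟩
  · rw [hnu]
    have := h.2.1.smul (-1)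
    rwa [neg_smul, one_smul] at this
  · rw [hnu, LinearMap.range_neg]; exact h.2.2.1
  · rw [hnu, LinearMap.ker_neg]; exact h.2.2.2

theorem InE.of_class {σ e : (Module.End k M)ˣ} (he : e ∈ Cfsg.sameActionClass G σ) : InE G (nu σ) e :=
  ⟨he.1.1.1, fam_of he.1.1, le_of_eq he.2.2, le_of_eq he.2.1.symm⟩

theorem InE.of_mem {σ e : (Module.End k M)ˣ} (hσ : nu σ * nu σ = 0) (he : e ∈ Cfsg.sameActionSubgroup G σ) :
    InE G (nu σ) e := by
  unfold Cfsg.sameActionSubgroup at he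
  induction he using Subgroup.closure_induction with
  | mem x hx => exact InE.of_class hx
  | one => exact InE.one
  | mul x y _ _ hx hy => exact hx.mul hσ hy
  | inv x _ hx => exact hx.inv hσ

theorem mem_class_of_InE [FiniteDimensional k M] {σ e : (Module.End k M)ˣ}
    (hσ : σ ∈ Cfsg.minimalQuadraticElements G) (h : InE G (nu σ) e) (hne : e ≠ 1) :
    e ∈ Cfsg.sameActionClass G σ := by
  have hsqσ : nu σ * nu σ = 0 := hσ.1.2.1.1
  have hsq : nu e * nu e = 0 := h.mul_zero hsqσ h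
  have hne' : nu e ≠ 0 := fun h0 => hne (nu_eq_zero.mp h0)
  obtain ⟨h1, h2⟩ := full_of_min (minP_of hσ) (le_refl _) hsq hne' h.2.1 h.2.2.1 h.2.2.2
  refine ⟨mem_minimal_of hσ h.1 h.2.1 hsq hne' ?_, h2, h1⟩
  rw [h1]; exact le_refl _

theorem mem_class_of_mem [FiniteDimensional k M] {σ e : (Module.End k M)ˣ}
    (hσ : σ ∈ Cfsg.minimalQuadraticElements G) (he : e ∈ Cfsg.sameActionSubgroup G σ) (hne : e ≠ 1) :
    e ∈ Cfsg.sameActionClass G σ :=
  mem_class_of_InE hσ (InE.of_mem hσ.1.2.1.1 he) hne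

theorem class_eq_of_mem {σ e : (Module.End k M)ˣ} (he : e ∈ Cfsg.sameActionClass G σ) :
    Cfsg.sameActionClass G e = Cfsg.sameActionClass G σ := by
  ext x
  constructor
  · rintro ⟨h1, h2, h3⟩
    exact ⟨h1, h2.trans he.2.1, h3.trans he.2.2⟩
  · rintro ⟨h1, h2, h3⟩
    exact ⟨h1, h2.trans he.2.1.symm, h3.trans he.2.2.symm⟩

theorem subgroup_eq_of_mem {σ e : (Module.End k M)ˣ} (he : e ∈ Cfsg.sameActionClass G σ) :
    Cfsg.sameActionSubgroup G e = Cfsg.sameActionSubgroup G σ := by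
  unfold Cfsg.sameActionSubgroup
  rw [class_eq_of_mem he]

end

end Cfsg.Agent.Lib.H18.QP
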