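import Cfsg.Agent.Lib.H18.QP11

/-!
# Normalizing and centralizing the groups `E(σ)` (helper18, for S5073)
-/

set_option autoImplicit false

namespace Cfsg.Agent.Lib.H18.QP

open Polynomial

noncomputable section

variable {k M : Type*} [Field k] [AddCommGroup M] [Module k M]

/-- a unit stabilizes a submodule -/
def Stab (ρ : (Module.End k M)ˣ) (S : Submodule k M) : Prop :=
  ∀ x, (ρ : Module.End k M) x ∈ S ↔ x ∈ S

theorem unit_inv_apply (ρ : (Module.End k M)ˣ) (x : M) :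
    ((ρ⁻¹ : (Module.End k M)ˣ) : Module.End k M) ((ρ : Module.End k M) x) = x := by
  rw [← Module.End.mul_apply, Units.inv_mul, Module.End.one_apply]

theorem unit_apply_inv (ρ : (Module.End k M)ˣ) (x : M) :
    (ρ : Module.End k M) (((ρ⁻¹ : (Module.End k M)ˣ) : Module.End k M) x) = x := by
  rw [← Module.End.mul_apply, Units.mul_inv, Module.End.one_apply]

theorem Stab.inv {ρ : (Module.End k M)ˣ} {S : Submodule k M} (h : Stab ρ S) : Stab ρ⁻¹ S := by
  intro x
  have := h (((ρ⁻¹ : (Module.End k M)ˣ) : Module.End k M) x)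
  rw [unit_apply_inv] at this
  exact this.symm

theorem stab_of_commute {u : (Module.End k M)ˣ} {m : Module.End k M}
    (h : (u : Module.End k M) * m = m * (u : Module.End k M)) :
    Stab u (LinearMap.range m) ∧ Stab u (LinearMap.ker m) := by
  have h' : ((u⁻¹ : (Module.End k M)ˣ) : Module.End k M) * m = m * ((u⁻¹ : (Module.End k M)ˣ) : Module.End k M) := by
    calc ((u⁻¹ : (Module.End k M)ˣ) : Module.End k M) * m
        = ((u⁻¹ : (Module.End k M)ˣ) : Module.End k M) * (m * (u : Module.End k M)) *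
            ((u⁻¹ : (Module.End k M)ˣ) : Module.End k M) := by
          rw [mul_assoc, mul_assoc, Units.mul_inv, mul_one]
      _ = m * ((u⁻¹ : (Module.End k M)ˣ) : Module.End k M) := by
          rw [← h, ← mul_assoc, Units.inv_mul, one_mul]
  constructor
  · intro x
    constructor
    · rintro ⟨y, hy⟩
      refine ⟨((u⁻¹ : (Module.End k M)ˣ) : Module.End k M) y, ?_⟩
      have h1 := LinearMap.congr_fun h' y
      rw [Module.End.mul_apply, Module.End.mul_apply] at h1
      rw [← h1, hy, unit_inv_apply]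
    · rintro ⟨y, rfl⟩
      refine ⟨(u : Module.End k M) y, ?_⟩
      have h1 := LinearMap.congr_fun h y
      rw [Module.End.mul_apply, Module.End.mul_apply] at h1
      exact h1.symm
  · intro x
    have h1 := LinearMap.congr_fun h x
    rw [Module.End.mul_apply, Module.End.mul_apply] at h1
    rw [LinearMap.mem_ker, LinearMap.mem_ker, ← h1]
    constructor
    · intro h2
      have := congrArg (((u⁻¹ : (Module.End k M)ˣ) : Module.End k M)) h2
      rwa [unit_inv_apply, map_zero] at this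
    · intro h2
      rw [h2, map_zero]

variable {G : Subgroup (Module.End k M)ˣ}

theorem conj_mem_minimal [FiniteDimensional k M] {ρ τ' : (Module.End k M)ˣ} (hρ : ρ ∈ G)
    (hτ' : τ' ∈ Cfsg.minimalQuadraticElements G) : ρ * τ' * ρ⁻¹ ∈ Cfsg.minimalQuadraticElements G := by
  have hsq : nu τ' * nu τ' = 0 := hτ'.1.2.1.1
  apply mem_minimal_of hτ' (G.mul_mem (G.mul_mem hρ hτ'.1.1) (G.inv_mem hρ))
  · rw [nu_conj]; exact (fam_of hτ'.1).conj hρ
  · rw [nu_conj]
    have h1 : (ρ : Module.End k M) * nu τ' * ((ρ⁻¹ : (Module.End k M)ˣ) : Module.End k M) *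
        ((ρ : Module.End k M) * nu τ' * ((ρ⁻¹ : (Module.End k M)ˣ) : Module.End k M)) =
        (ρ : Module.End k M) * (nu τ' * (((ρ⁻¹ : (Module.End k M)ˣ) : Module.End k M) * (ρ : Module.End k M)) * nu τ') *
          ((ρ⁻¹ : (Module.End k M)ˣ) : Module.End k M) := by
      simp only [mul_assoc]
    rw [h1, Units.inv_mul, mul_one, hsq, mul_zero, zero_mul]
  · rw [nu_conj]
    intro h0
    apply hτ'.1.2.1.2
    have h1 : nu τ' = ((ρ⁻¹ : (Module.End k M)ˣ) : Module.End k M) *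
        ((ρ : Module.End k M) * nu τ' * ((ρ⁻¹ : (Module.End k M)ˣ) : Module.End k M)) * (ρ : Module.End k M) := by
      rw [← mul_assoc, ← mul_assoc, Units.inv_mul, one_mul, mul_assoc, Units.inv_mul, mul_one]
    have h2 : nu τ' = 0 := by rw [h1, h0, mul_zero, zero_mul]
    exact h2
  · rw [nu_conj]
    show _ ≤ Module.finrank k (LinearMap.range (nu τ'))
    rw [mul_assoc, Module.End.mul_eq_comp, LinearMap.range_comp]
    refine (Submodule.finrank_map_le _ _).trans ?_
    apply Submodule.finrank_mono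
    rw [Module.End.mul_eq_comp]
    exact LinearMap.range_comp_le_range _ _

theorem conj_mem_class [FiniteDimensional k M] {ρ τ τ' : (Module.End k M)ˣ} (hρ : ρ ∈ G)
    (h1 : Stab ρ (LinearMap.range (nu τ))) (h2 : Stab ρ (LinearMap.ker (nu τ)))
    (hτ' : τ' ∈ Cfsg.sameActionClass G τ) : ρ * τ' * ρ⁻¹ ∈ Cfsg.sameActionClass G τ := by
  refine ⟨conj_mem_minimal hρ hτ'.1, ?_, ?_⟩
  · show LinearMap.ker (nu (ρ * τ' * ρ⁻¹)) = LinearMap.ker (nu τ)
    have hk : LinearMap.ker (nu τ') = LinearMap.ker (nu τ) := hτ'.2.1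
    ext x
    rw [nu_conj, LinearMap.mem_ker, Module.End.mul_apply, Module.End.mul_apply]
    constructor
    · intro h
      have h3 := congrArg (((ρ⁻¹ : (Module.End k M)ˣ) : Module.End k M)) h
      rw [unit_inv_apply, map_zero] at h3
      have h4 : ((ρ⁻¹ : (Module.End k M)ˣ) : Module.End k M) x ∈ LinearMap.ker (nu τ) := by
        rw [← hk, LinearMap.mem_ker]; exact h3
      exact (h2.inv x).mp h4
    · intro h
      have h4 : ((ρ⁻¹ : (Module.End k M)ˣ) : Module.End k M) x ∈ LinearMap.ker (nu τ') := by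
        rw [hk]; exact (h2.inv x).mpr h
      rw [LinearMap.mem_ker] at h4
      rw [h4, map_zero]
  · show LinearMap.range (nu (ρ * τ' * ρ⁻¹)) = LinearMap.range (nu τ)
    have hr : LinearMap.range (nu τ') = LinearMap.range (nu τ) := hτ'.2.2
    ext x
    rw [nu_conj]
    constructor
    · rintro ⟨y, rfl⟩
      rw [Module.End.mul_apply, Module.End.mul_apply]
      apply (h1 _).mpr
      rw [← hr]
      exact ⟨_, rfl⟩
    · intro h
      have h3 : ((ρ⁻¹ : (Module.End k M)ˣ) : Module.End k M) x ∈ LinearMap.range (nu τ') := by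
        rw [hr]; exact (h1.inv x).mpr h
      obtain ⟨y, hy⟩ := h3
      refine ⟨(ρ : Module.End k M) y, ?_⟩
      rw [Module.End.mul_apply, Module.End.mul_apply, unit_inv_apply, hy, unit_apply_inv]

theorem conj_mem_subgroup [FiniteDimensional k M] {ρ τ : (Module.End k M)ˣ} (hρ : ρ ∈ G)
    (h1 : Stab ρ (LinearMap.range (nu τ))) (h2 : Stab ρ (LinearMap.ker (nu τ)))
    {h : (Module.End k M)ˣ} (hh : h ∈ Cfsg.sameActionSubgroup G τ) :
    ρ * h * ρ⁻¹ ∈ Cfsg.sameActionSubgroup G τ := by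
  unfold Cfsg.sameActionSubgroup at hh ⊢
  induction hh using Subgroup.closure_induction with
  | mem x hx => exact Subgroup.subset_closure (conj_mem_class hρ h1 h2 hx)
  | one => rw [mul_one, mul_inv_cancel]; exact Subgroup.one_mem _
  | mul x y _ _ hx hy =>
    have e : ρ * (x * y) * ρ⁻¹ = (ρ * x * ρ⁻¹) * (ρ * y * ρ⁻¹) := by group
    rw [e]; exact Subgroup.mul_mem _ hx hy
  | inv x _ hx =>
    have e : ρ * x⁻¹ * ρ⁻¹ = (ρ * x * ρ⁻¹)⁻¹ := by group
    rw [e]; exact Subgroup.inv_mem _ hx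

theorem mem_normalizer_of_stab [FiniteDimensional k M] {ρ τ : (Module.End k M)ˣ} (hρ : ρ ∈ G)
    (h1 : Stab ρ (LinearMap.range (nu τ))) (h2 : Stab ρ (LinearMap.ker (nu τ))) :
    ρ ∈ Subgroup.normalizer ((Cfsg.sameActionSubgroup G τ : Subgroup (Module.End k M)ˣ) : Set (Module.End k M)ˣ) := by
  rw [Subgroup.mem_normalizer_iff]
  intro h
  constructor
  · exact conj_mem_subgroup hρ h1 h2
  · intro hh
    have := conj_mem_subgroup (G.inv_mem hρ) h1.inv h2.inv hh
    have e : ρ⁻¹ * (ρ * h * ρ⁻¹) * ρ⁻¹⁻¹ = h := by group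
    rwa [e] at this

/-- an element of `𝒬_d` normalizing `E(σ)` centralizes it -/
theorem centralizes_of_normalizes [FiniteDimensional k M] (hk2 : ringChar k ≠ 2) (hk3 : Nat.card k ≠ 3)
    {σ τ : (Module.End k M)ˣ} (hσ : σ ∈ Cfsg.minimalQuadraticElements G)
    (hτ : τ ∈ Cfsg.minimalQuadraticElements G)
    (hnorm : τ ∈ Subgroup.normalizer ((Cfsg.sameActionSubgroup G σ : Subgroup (Module.End k M)ˣ) : Set (Module.End k M)ˣ)) :
    ∀ σ' ∈ Cfsg.sameActionClass G σ, σ' * τ = τ * σ' := by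
  intro σ' hσ'
  have h2 : (2 : k) ≠ 0 := Ring.two_ne_zero hk2
  have hMin := minP_of hσ
  have hsq' : nu σ' * nu σ' = 0 := hσ'.1.1.2.1.1
  have hsqm : nu τ * nu τ = 0 := hτ.1.2.1.1
  have hne' : nu σ' ≠ 0 := hσ'.1.1.2.1.2
  have hN : LinearMap.range (nu σ') = LinearMap.range (nu σ) := hσ'.2.2
  have hK : LinearMap.ker (nu σ') = LinearMap.ker (nu σ) := hσ'.2.1
  -- the conjugate
  have hc : τ * σ' * τ⁻¹ ∈ Cfsg.sameActionSubgroup G σ :=
    (Subgroup.mem_normalizer_iff.mp hnorm σ').mp (Subgroup.subset_closure hσ')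
  have hc1 : τ * σ' * τ⁻¹ ≠ 1 := by
    intro h
    apply hne'
    rw [nu_eq_zero]
    have e : σ' = τ⁻¹ * (τ * σ' * τ⁻¹) * τ := by group
    rw [e, h]; group
  have hcc := mem_class_of_mem hσ hc hc1
  have hcN : LinearMap.range (nu (τ * σ' * τ⁻¹)) = LinearMap.range (nu σ) := hcc.2.2
  have hcK : LinearMap.ker (nu (τ * σ' * τ⁻¹)) = LinearMap.ker (nu σ) := hcc.2.1
  -- m N ⊆ N
  have hmN : ∀ x ∈ LinearMap.range (nu σ'), nu τ x ∈ LinearMap.range (nu σ') := by
    rintro _ ⟨y, rfl⟩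
    have h3 : (τ : Module.End k M) (nu σ' y) ∈ LinearMap.range (nu σ') := by
      rw [hN, ← hcN, nu_conj]
      refine ⟨(τ : Module.End k M) y, ?_⟩
      rw [Module.End.mul_apply, Module.End.mul_apply, unit_inv_apply]
    have e : nu τ (nu σ' y) = (τ : Module.End k M) (nu σ' y) - nu σ' y := by
      unfold nu
      rw [LinearMap.sub_apply, Module.End.one_apply]
    rw [e]
    exact sub_mem h3 ⟨y, rfl⟩
  -- a vector of N killed by m
  obtain ⟨v, hvN, hv0, hmv⟩ : ∃ v ∈ LinearMap.range (nu σ'), v ≠ 0 ∧ nu τ v = 0 := by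
    obtain ⟨y, hy⟩ : ∃ y, nu σ' y ≠ 0 := by
      by_contra hcon
      push_neg at hcon
      exact hne' (LinearMap.ext hcon)
    by_cases hmy : nu τ (nu σ' y) = 0
    · exact ⟨_, ⟨y, rfl⟩, hy, hmy⟩
    · refine ⟨_, hmN _ ⟨y, rfl⟩, hmy, ?_⟩
      have := LinearMap.congr_fun hsqm (nu σ' y)
      exact this
  -- the pair is unipotent
  obtain ⟨p, hp⟩ : ∃ p : SqPair k M, p = pairOf σ' τ hsq' hsqm := ⟨_, rfl⟩
  have hpn : p.n = nu σ' := by rw [hp]; rfl
  have hpm : p.m = nu τ := by rw [hp]; rfl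
  have hq : QPair G (Cfsg.commutatorRank σ) p := by rw [hp]; exact qpair_of hσ hσ'.1 hτ
  have hPP := theoremP hk2 hk3 hMin p hq
  have hnil : IsNilpotent (p.n * p.m) := by
    by_contra hn
    exact hv0 (hPP hn v (by rw [hpn]; exact hvN) (by rw [hpm]; exact hmv))
  obtain ⟨e, he⟩ := p.z_nilpotent_of hnil
  obtain ⟨h3, h4⟩ := lemmaU hMin h2 e p hq he
  rw [hpn, hpm] at h3 h4
  -- the commutator
  obtain ⟨ω, hω⟩ : ∃ ω, ω = nu σ' * nu τ - nu τ * nu σ' := ⟨_, rfl⟩
  have hFω : Fam G ω := by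
    rw [hω]; exact Fam.comm2 (fam_of hσ'.1.1) (fam_of hτ.1) hsq' hsqm h3 h4
  have hτinv : ((τ⁻¹ : (Module.End k M)ˣ) : Module.End k M) = 1 - nu τ := by
    have := nu_inv_of_sq hsqm
    rw [val_eq_nu τ⁻¹, this]; abel
  have hconj : nu (τ * σ' * τ⁻¹) = nu σ' - ω := by
    rw [nu_conj, hτinv, val_eq_nu τ, hω]
    have e1 : (1 + nu τ) * nu σ' * (1 - nu τ) =
        nu σ' - (nu σ' * nu τ - nu τ * nu σ') - nu τ * nu σ' * nu τ := by noncomm_ring
    rw [e1, h4, sub_zero]
  have hωeq : ω = nu σ' - nu (τ * σ' * τ⁻¹) := by rw [hconj]; abel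
  have hωr : LinearMap.range ω ≤ LinearMap.range (nu σ) := by
    rintro _ ⟨x, rfl⟩
    rw [hωeq, LinearMap.sub_apply]
    exact sub_mem (hN ▸ ⟨x, rfl⟩) (hcN ▸ ⟨x, rfl⟩)
  have hωk : LinearMap.ker (nu σ) ≤ LinearMap.ker ω := by
    intro x hx
    have h5 : nu σ' x = 0 := by rw [← LinearMap.mem_ker, hK]; exact hx
    have h6 : nu (τ * σ' * τ⁻¹) x = 0 := by rw [← LinearMap.mem_ker, hcK]; exact hx
    rw [LinearMap.mem_ker, hωeq, LinearMap.sub_apply, h5, h6, sub_zero]
  have hNK : LinearMap.range (nu σ) ≤ LinearMap.ker (nu σ) := by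
    rintro _ ⟨x, rfl⟩
    rw [LinearMap.mem_ker]
    exact LinearMap.congr_fun hσ.1.2.1.1 x
  have hωsq : ω * ω = 0 := by
    refine LinearMap.ext fun x => ?_
    have := hωk (hNK (hωr ⟨x, rfl⟩))
    exact this
  have hω0 : ω = 0 := by
    by_contra hne
    obtain ⟨hr, hk⟩ := full_of_min (n := nu σ) hMin (le_refl _) hωsq hne hFω hωr hωk
    have hωm : ω * nu τ = 0 := by
      rw [hω, sub_mul, mul_assoc, hsqm, mul_zero, h4, sub_zero]
    have hmω : nu τ * ω = 0 := by
      rw [hω, mul_sub, ← mul_assoc, ← mul_assoc, hsqm, zero_mul, h4, sub_zero]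
    have hnm : nu σ' * nu τ = 0 := by
      refine LinearMap.ext fun x => ?_
      have h5 : nu τ x ∈ LinearMap.ker ω := by
        rw [LinearMap.mem_ker]; exact LinearMap.congr_fun hωm x
      rw [hk, ← hK, LinearMap.mem_ker] at h5
      exact h5
    have hmn : nu τ * nu σ' = 0 := by
      refine LinearMap.ext fun x => ?_
      have h5 : nu σ' x ∈ LinearMap.range ω := by rw [hr, ← hN]; exact ⟨x, rfl⟩
      obtain ⟨y, hy⟩ := h5
      rw [Module.End.mul_apply, ← hy]
      exact LinearMap.congr_fun hmω y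
    apply hne
    rw [hω, hnm, hmn, sub_zero]
  -- conclusion
  apply Units.ext
  rw [Units.val_mul, Units.val_mul, val_eq_nu σ', val_eq_nu τ]
  have h7 : nu σ' * nu τ = nu τ * nu σ' := by
    rw [hω] at hω0; exact sub_eq_zero.mp hω0
  simp only [add_mul, mul_add, one_mul, mul_one, h7]
  abel

end

end Cfsg.Agent.Lib.H18.QP
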