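import Cfsg.Agent.Lib.H18.QP12

/-!
# Generic flags; the unipotent case for two groups `E(σ)`, `E(τ)` (helper18, for S5065)
-/

set_option autoImplicit false

namespace Cfsg.Agent.Lib.H18.QP

open Polynomial

noncomputable section

section gflag

variable {k M : Type*} [Field k] [AddCommGroup M] [Module k M]

/-- the socle-type filtration of a set of endomorphisms -/
def gflag (S : Set (Module.End k M)) : ℕ → Submodule k M
  | 0 => ⊥
  | i + 1 => ⨅ s ∈ S, (gflag S i).comap s

variable (S : Set (Module.End k M))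

theorem mem_gflag_succ (i : ℕ) (v : M) : v ∈ gflag S (i + 1) ↔ ∀ s ∈ S, s v ∈ gflag S i := by
  show v ∈ ⨅ s ∈ S, (gflag S i).comap s ↔ _
  simp only [Submodule.mem_iInf, Submodule.mem_comap]

theorem gflag_mono (i : ℕ) : gflag S i ≤ gflag S (i + 1) := by
  induction i with
  | zero => exact bot_le
  | succ i ih =>
    intro v hv
    rw [mem_gflag_succ] at hv ⊢
    exact fun s hs => ih (hv s hs)

/-- the elements acting trivially on the factors of the flag -/
def GFlagQ (g : (Module.End k M)ˣ) : Prop :=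
  ∀ i : ℕ, ∀ v ∈ gflag S (i + 1), ((g : Module.End k M) - 1) v ∈ gflag S i

theorem GFlagQ.pres {g : (Module.End k M)ˣ} (h : GFlagQ S g) (i : ℕ) :
    ∀ v ∈ gflag S i, (g : Module.End k M) v ∈ gflag S i := by
  intro v hv
  cases i with
  | zero =>
    have hv0 : v = 0 := (Submodule.mem_bot k).mp hv
    rw [hv0, map_zero]; exact Submodule.zero_mem _
  | succ i =>
    have h1 := h i v hv
    have e : (g : Module.End k M) v = ((g : Module.End k M) - 1) v + v := by
      rw [LinearMap.sub_apply, Module.End.one_apply, sub_add_cancel]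
    rw [e]
    exact add_mem (gflag_mono S i h1) hv

theorem GFlagQ.one : GFlagQ S 1 := by
  intro i v _
  rw [Units.val_one, sub_self, LinearMap.zero_apply]
  exact Submodule.zero_mem _

theorem GFlagQ.mul {g h : (Module.End k M)ˣ} (hg : GFlagQ S g) (hh : GFlagQ S h) : GFlagQ S (g * h) := by
  intro i v hv
  have e : ((g * h : (Module.End k M)ˣ) : Module.End k M) - 1 =
      ((g : Module.End k M) - 1) * (h : Module.End k M) + ((h : Module.End k M) - 1) := by
    rw [Units.val_mul]; noncomm_ring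
  rw [e, LinearMap.add_apply, Module.End.mul_apply]
  exact add_mem (hg i _ (hh.pres S (i + 1) v hv)) (hh i v hv)

theorem GFlagQ.inv {g : (Module.End k M)ˣ} (hg : GFlagQ S g) : GFlagQ S g⁻¹ := by
  have hpres : ∀ i : ℕ, ∀ v ∈ gflag S i, ((g⁻¹ : (Module.End k M)ˣ) : Module.End k M) v ∈ gflag S i := by
    intro i
    induction i with
    | zero =>
      intro v hv
      have hv0 : v = 0 := (Submodule.mem_bot k).mp hv
      rw [hv0, map_zero]; exact Submodule.zero_mem _
    | succ i ih =>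
      intro v hv
      have e : ((g⁻¹ : (Module.End k M)ˣ) : Module.End k M) v =
          v - ((g⁻¹ : (Module.End k M)ˣ) : Module.End k M) (((g : Module.End k M) - 1) v) := by
        have h1 : ((g⁻¹ : (Module.End k M)ˣ) : Module.End k M) ((g : Module.End k M) v) = v := by
          rw [← Module.End.mul_apply, Units.inv_mul, Module.End.one_apply]
        rw [LinearMap.sub_apply, Module.End.one_apply, map_sub, h1]
        abel
      rw [e]
      exact sub_mem hv (gflag_mono S i (ih _ (hg i v hv)))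
  intro i v hv
  have e : (((g⁻¹ : (Module.End k M)ˣ) : Module.End k M) - 1) v =
      -(((g⁻¹ : (Module.End k M)ˣ) : Module.End k M) (((g : Module.End k M) - 1) v)) := by
    have h1 : ((g⁻¹ : (Module.End k M)ˣ) : Module.End k M) ((g : Module.End k M) v) = v := by
      rw [← Module.End.mul_apply, Units.inv_mul, Module.End.one_apply]
    rw [LinearMap.sub_apply, Module.End.one_apply, LinearMap.sub_apply, Module.End.one_apply, map_sub, h1]
    abel
  rw [e]
  exact neg_mem (hpres i _ (hg i v hv))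

variable {S}

theorem GFlagQ.of_mem_closure {T : Set (Module.End k M)ˣ} (hT : ∀ g ∈ T, nu g ∈ S)
    {g : (Module.End k M)ˣ} (hg : g ∈ Subgroup.closure T) : GFlagQ S g := by
  induction hg using Subgroup.closure_induction with
  | mem x hx =>
    intro i v hv
    rw [mem_gflag_succ] at hv
    exact hv _ (hT x hx)
  | one => exact GFlagQ.one S
  | mul x y _ _ hx hy => exact hx.mul S hy
  | inv x _ hx => exact hx.inv S

theorem gprod_flag {T : Set (Module.End k M)ˣ} (hT : ∀ g ∈ T, nu g ∈ S)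
    (l : List (Module.End k M)ˣ) (hl : ∀ g ∈ l, g ∈ Subgroup.closure T) :
    ∀ i : ℕ, ∀ v ∈ gflag S (i + l.length),
      (l.map fun g => ((g : (Module.End k M)ˣ) : Module.End k M) - 1).prod v ∈ gflag S i := by
  induction l with
  | nil =>
    intro i v hv
    simpa using hv
  | cons g l ih =>
    intro i v hv
    rw [List.map_cons, List.prod_cons, Module.End.mul_apply]
    have hg : g ∈ Subgroup.closure T := hl g (List.mem_cons_self ..)
    have hl' : ∀ g ∈ l, g ∈ Subgroup.closure T := fun x hx => hl x (List.mem_cons_of_mem _ hx)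
    have e : i + (g :: l).length = (i + 1) + l.length := by rw [List.length_cons]; ring
    rw [e] at hv
    exact GFlagQ.of_mem_closure hT hg i _ (ih hl' (i + 1) v hv)

theorem unipotent_of_gflag {T : Set (Module.End k M)ˣ} (hT : ∀ g ∈ T, nu g ∈ S) (n : ℕ)
    (htop : gflag S n = ⊤) : Cfsg.IsUnipotentOn (Subgroup.closure T) := by
  refine ⟨n, ?_⟩
  intro l hl hlen
  rw [coe_list_eq]
  refine LinearMap.ext fun v => ?_
  have h1 := gprod_flag hT l hl 0 v (by rw [zero_add, hlen, htop]; exact Submodule.mem_top)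
  exact (Submodule.mem_bot k).mp h1

end gflag

section caseU

variable {k M : Type*} [Field k] [AddCommGroup M] [Module k M] {G : Subgroup (Module.End k M)ˣ}

/-- the class-two relation for a nilpotent pair of the two classes -/
theorem class2_of_nil [FiniteDimensional k M] (hk2 : ringChar k ≠ 2) {σ a b : (Module.End k M)ˣ}
    (hσ : σ ∈ Cfsg.minimalQuadraticElements G) (ha : a ∈ Cfsg.minimalQuadraticElements G)
    (hb : b ∈ Cfsg.minimalQuadraticElements G) (hnil : IsNilpotent (nu a * nu b)) :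
    nu a * nu b * nu a = 0 ∧ nu b * nu a * nu b = 0 := by
  have h2 : (2 : k) ≠ 0 := Ring.two_ne_zero hk2
  obtain ⟨p, hp⟩ : ∃ p : SqPair k M, p = pairOf a b ha.1.2.1.1 hb.1.2.1.1 := ⟨_, rfl⟩
  have hpn : p.n = nu a := by rw [hp]; rfl
  have hpm : p.m = nu b := by rw [hp]; rfl
  have hq : QPair G (Cfsg.commutatorRank σ) p := by rw [hp]; exact qpair_of hσ ha hb
  have hnil' : IsNilpotent (p.n * p.m) := by rw [hpn, hpm]; exact hnil
  obtain ⟨e, he⟩ := p.z_nilpotent_of hnil'
  have := lemmaU (minP_of hσ) h2 e p hq he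
  rwa [hpn, hpm] at this

theorem mul_mul_eq_zero_of_range {n m n' : Module.End k M} (h : n * m * n = 0)
    (hr : LinearMap.range n' ≤ LinearMap.range n) : n * m * n' = 0 := by
  refine LinearMap.ext fun x => ?_
  obtain ⟨y, hy⟩ := hr ⟨x, rfl⟩
  rw [Module.End.mul_apply, ← hy]
  exact LinearMap.congr_fun h y

theorem caseU [FiniteDimensional k M] (hk2 : ringChar k ≠ 2) {σ τ : (Module.End k M)ˣ}
    (hσ : σ ∈ Cfsg.minimalQuadraticElements G) (hτ : τ ∈ Cfsg.minimalQuadraticElements G)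
    (hall : ∀ a ∈ Cfsg.sameActionClass G σ, ∀ b ∈ Cfsg.sameActionClass G τ, IsNilpotent (nu a * nu b)) :
    Cfsg.IsUnipotentOn (Cfsg.sameActionSubgroup G σ ⊔ Cfsg.sameActionSubgroup G τ) := by
  have hsqσ : nu σ * nu σ = 0 := hσ.1.2.1.1
  have hsqτ : nu τ * nu τ = 0 := hτ.1.2.1.1
  unfold Cfsg.sameActionSubgroup
  rw [← Subgroup.closure_union]
  obtain ⟨S, hS⟩ : ∃ S : Set (Module.End k M), S = {ρ | ∃ g ∈ Cfsg.sameActionClass G σ ∪ Cfsg.sameActionClass G τ,
    ρ = nu g} := ⟨_, rfl⟩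
  have hT : ∀ g ∈ Cfsg.sameActionClass G σ ∪ Cfsg.sameActionClass G τ, nu g ∈ S := by
    intro g hg; rw [hS]; exact ⟨g, hg, rfl⟩
  apply unipotent_of_gflag hT 3
  -- the products of two
  have Fσ : ∀ a ∈ Cfsg.sameActionClass G σ, ∀ a' ∈ Cfsg.sameActionClass G σ, nu a * nu a' = 0 :=
    fun a ha a' ha' => (InE.of_class ha).mul_zero hsqσ (InE.of_class ha')
  have Fτ : ∀ b ∈ Cfsg.sameActionClass G τ, ∀ b' ∈ Cfsg.sameActionClass G τ, nu b * nu b' = 0 :=
    fun b hb b' hb' => (InE.of_class hb).mul_zero hsqτ (InE.of_class hb')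
  have Fστσ : ∀ a ∈ Cfsg.sameActionClass G σ, ∀ b ∈ Cfsg.sameActionClass G τ,
      ∀ a' ∈ Cfsg.sameActionClass G σ, nu a * nu b * nu a' = 0 := by
    intro a ha b hb a' ha'
    apply mul_mul_eq_zero_of_range (class2_of_nil hk2 hσ ha.1 hb.1 (hall a ha b hb)).1
    have h1 : LinearMap.range (nu a') = LinearMap.range (nu σ) := ha'.2.2
    have h2 : LinearMap.range (nu a) = LinearMap.range (nu σ) := ha.2.2
    rw [h1, h2]
  have Fτστ : ∀ b ∈ Cfsg.sameActionClass G τ, ∀ a ∈ Cfsg.sameActionClass G σ,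
      ∀ b' ∈ Cfsg.sameActionClass G τ, nu b * nu a * nu b' = 0 := by
    intro b hb a ha b' hb'
    apply mul_mul_eq_zero_of_range (class2_of_nil hk2 hσ ha.1 hb.1 (hall a ha b hb)).2
    have h1 : LinearMap.range (nu b') = LinearMap.range (nu τ) := hb'.2.2
    have h2 : LinearMap.range (nu b) = LinearMap.range (nu τ) := hb.2.2
    rw [h1, h2]
  have triple : ∀ s₁ ∈ S, ∀ s₂ ∈ S, ∀ s₃ ∈ S, s₁ * s₂ * s₃ = 0 := by
    intro s₁ h₁ s₂ h₂ s₃ h₃
    rw [hS] at h₁ h₂ h₃
    obtain ⟨g₁, hg₁, rfl⟩ := h₁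
    obtain ⟨g₂, hg₂, rfl⟩ := h₂
    obtain ⟨g₃, hg₃, rfl⟩ := h₃
    rcases hg₁ with hg₁ | hg₁ <;> rcases hg₂ with hg₂ | hg₂ <;> rcases hg₃ with hg₃ | hg₃
    · rw [Fσ _ hg₁ _ hg₂, zero_mul]
    · rw [Fσ _ hg₁ _ hg₂, zero_mul]
    · exact Fστσ _ hg₁ _ hg₂ _ hg₃
    · rw [mul_assoc, Fτ _ hg₂ _ hg₃, mul_zero]
    · rw [mul_assoc, Fσ _ hg₂ _ hg₃, mul_zero]
    · exact Fτστ _ hg₁ _ hg₂ _ hg₃
    · rw [Fτ _ hg₁ _ hg₂, zero_mul]
    · rw [Fτ _ hg₁ _ hg₂, zero_mul]
  rw [eq_top_iff]
  intro v _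
  rw [mem_gflag_succ]
  intro s₃ h₃
  rw [mem_gflag_succ]
  intro s₂ h₂
  rw [mem_gflag_succ]
  intro s₁ h₁
  show s₁ (s₂ (s₃ v)) ∈ (⊥ : Submodule k M)
  rw [Submodule.mem_bot]
  exact LinearMap.congr_fun (triple s₁ h₁ s₂ h₂ s₃ h₃) v

end caseU

end

end Cfsg.Agent.Lib.H18.QP
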