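import Cfsg.Agent.Lib.H18.QP13

/-!
# Opposite pairs and rank one partners (helper18, for S5065)
-/

set_option autoImplicit false

namespace Cfsg.Agent.Lib.H18.QP

open Polynomial

noncomputable section

universe u

section opp

variable {k M : Type*} [Field k] [AddCommGroup M] [Module k M]

/-- the two commutator spaces meet the other fixed spaces trivially -/
def Opp (n m : Module.End k M) : Prop :=
  (∀ v ∈ LinearMap.range n, m v = 0 → v = 0) ∧ (∀ v ∈ LinearMap.range m, n v = 0 → v = 0)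

theorem Opp.symm {n m : Module.End k M} (h : Opp n m) : Opp m n := ⟨h.2, h.1⟩

theorem Opp.congr {n m n' m' : Module.End k M} (h : Opp n m)
    (hn : LinearMap.range n' = LinearMap.range n) (hkn : LinearMap.ker n' = LinearMap.ker n)
    (hm : LinearMap.range m' = LinearMap.range m) (hkm : LinearMap.ker m' = LinearMap.ker m) : Opp n' m' := by
  constructor
  · intro v hv hmv
    rw [hn] at hv
    have : v ∈ LinearMap.ker m := by rw [← hkm, LinearMap.mem_ker]; exact hmv
    exact h.1 v hv this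
  · intro v hv hnv
    rw [hm] at hv
    have : v ∈ LinearMap.ker n := by rw [← hkn, LinearMap.mem_ker]; exact hnv
    exact h.2 v hv this

theorem Opp.inter {n m : Module.End k M} (h : Opp n m) (hm : m * m = 0) :
    ∀ x, x ∈ LinearMap.range n → x ∈ LinearMap.range m → x = 0 := by
  rintro x hx ⟨u, rfl⟩
  exact h.1 _ hx (LinearMap.congr_fun hm u)

variable {p : SqPair k M}

theorem NonNil.pow_z_inj (h : NonNil p) (j : ℕ) :
    ∀ w ∈ LinearMap.range p.n, (p.z ^ j) w = 0 → w = 0 := by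
  induction j with
  | zero =>
    intro w _ hw
    rwa [pow_zero, Module.End.one_apply] at hw
  | succ j ih =>
    intro w hw hz
    have h1 : (p.z ^ j) (p.z w) = 0 := by rw [pow_succ] at hz; exact hz
    have h2 : p.z w ∈ LinearMap.range p.n := by
      obtain ⟨y, rfl⟩ := hw
      exact ⟨p.z y, (p.z_n_apply y).symm⟩
    exact h.z_inj_n w hw (ih _ h2 h1)

theorem NonNil.not_nil (h : NonNil p) (hne : p.n ≠ 0) : ¬ IsNilpotent (p.n * p.m) := by
  rintro ⟨e, he⟩
  apply hne
  have h1 : p.z ^ e * (p.z * p.n) = 0 := by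
    have := p.P_pow e
    rw [pow_succ, he, zero_mul] at this
    rw [← p.P_n, SqPair.P, ← mul_assoc, ← this, zero_mul]
  refine LinearMap.ext fun x => ?_
  apply h.pow_z_inj (e + 1) _ ⟨x, rfl⟩
  rw [pow_succ]
  exact LinearMap.congr_fun h1 x

end opp

section partner

variable {k : Type u} [Field k] {M : Type u} [AddCommGroup M] [Module k M]
variable {G : Subgroup (Module.End k M)ˣ} {d : ℕ}

theorem irr_gen [FiniteDimensional k M] (hk2 : ringChar k ≠ 2) (hk3 : Nat.card k ≠ 3)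
    (hMin : MinP G d) (p : SqPair k M) (hq : QPair G d p) (hnil : ¬ IsNilpotent (p.n * p.m)) :
    ∃ pp : k[X], Irreducible pp ∧ ¬ pp ∣ X ∧ NonNil p ∧ ∀ f, f ∈ annN p ↔ pp ∣ f := by
  have hP := theoremP hk2 hk3 hMin
  have hNN := NonNil.of_PP hP hq hnil
  obtain ⟨pp, hirr, hppX, v, hv, hv0, hppv⟩ := exists_pp_v p hnil
  obtain ⟨F, hF0, hmem⟩ := annN_gen p
  have hFpp := lemmaZ hk2 hk3 hMin hP hq hNN hmem hF0 hirr hppX hv hv0 hppv
  refine ⟨pp, hirr, hppX, hNN, ?_⟩
  intro f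
  constructor
  · intro hf
    by_contra hnd
    have hcop : IsCoprime pp f := hirr.coprime_iff_not_dvd.mpr hnd
    obtain ⟨w, hw⟩ := hv
    have h1 : p.ev f v = 0 := by rw [← hw]; exact LinearMap.congr_fun hf w
    exact hv0 (p.eq_zero_of_coprime hcop hppv h1)
  · intro hf
    exact (hmem f).mpr (hFpp.trans hf)

/-- the partner of `m` in the family of `n` -/
theorem partner_alg [FiniteDimensional k M] (hk2 : ringChar k ≠ 2) (hk3 : Nat.card k ≠ 3)
    (hMin : MinP G d) (p : SqPair k M) (hq : QPair G d p) (hnil : ¬ IsNilpotent (p.n * p.m)) :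
    ∃ μ : Module.End k M, Fam G μ ∧ μ * μ = 0 ∧ LinearMap.range μ ≤ LinearMap.range p.n ∧
      LinearMap.ker p.n ≤ LinearMap.ker μ ∧ p.m * μ * p.m = p.m ∧ μ * p.m * μ = μ := by
  obtain ⟨pp, hirr, hppX, hNN, hmem⟩ := irr_gen hk2 hk3 hMin p hq hnil
  haveI : Fact (Irreducible pp) := ⟨hirr⟩
  have hcop : IsCoprime pp X := hirr.coprime_iff_not_dvd.mpr hppX
  obtain ⟨u, v, huv⟩ := hcop
  have hPn : p.ev pp * p.n = 0 := (hmem pp).mpr dvd_rfl
  have hPm : p.ev pp * p.m = 0 := hNN.annN_m ((hmem pp).mpr dvd_rfl)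
  have h1 : p.ev u * p.ev pp + p.ev v * p.z = 1 := by
    have := congrArg p.ev huv
    rwa [p.ev_add, p.ev_mul, p.ev_mul, p.ev_X, p.ev_one] at this
  have hEz : p.ev v * p.z = 1 - p.ev u * p.ev pp := eq_sub_of_add_eq' h1
  refine ⟨p.ev v * p.n, ?_, p.ev_n_sq v, ?_, ?_, ?_, ?_⟩
  · intro c
    have hy : uR (AdjoinRoot.mk pp (C c * v)) ∈
        (Gam k).map (Matrix.SpecialLinearGroup.map (AdjoinRoot.mk pp)) := by
      rw [red_surj hk2 hk3 hppX]; exact Subgroup.mem_top _
    obtain ⟨g, hg, hΦ⟩ := hy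
    refine ⟨thetaG p ⟨g, hg⟩, hq.thetaG_mem _, ?_⟩
    rw [thetaG_val]
    exact hNN.theta_of_uR hmem ⟨g, Gam_le_GG hg⟩ (Gam_X_dvd hg) c v hΦ
  · rw [p.ev_n]
    rintro _ ⟨x, rfl⟩
    exact ⟨_, rfl⟩
  · intro x hx
    rw [LinearMap.mem_ker] at hx ⊢
    rw [Module.End.mul_apply, hx, map_zero]
  · calc p.m * (p.ev v * p.n) * p.m = p.ev v * (p.m * p.P) := by
          rw [SqPair.P, ← mul_assoc p.m (p.ev v), ← p.ev_m]; simp only [mul_assoc]
      _ = p.m := by
          rw [p.m_P, ← mul_assoc, hEz, sub_mul, one_mul, mul_assoc, hPm, mul_zero, sub_zero]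
  · calc p.ev v * p.n * p.m * (p.ev v * p.n) = p.ev v * (p.P * p.ev v) * p.n := by
          rw [SqPair.P]; simp only [mul_assoc]
      _ = p.ev v * (p.ev v * (p.P * p.n)) := by
          rw [← p.ev_P]; simp only [mul_assoc]
      _ = p.ev v * p.n := by
          rw [p.P_n, ← mul_assoc (p.ev v) p.z, hEz, sub_mul, one_mul, mul_assoc, hPn, mul_zero, sub_zero]

end partner

end

end Cfsg.Agent.Lib.H18.QP
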