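import Cfsg.Agent.Lib.H18.QP14

/-!
# The rank one conditions for `E(σ)`, `E(τ)` (helper18, for S5065)
-/

set_option autoImplicit false

namespace Cfsg.Agent.Lib.H18.QP

open Polynomial

noncomputable section

universe u

section grp

variable {Γ : Type*} [Group Γ]

theorem mem_conjBy (A : Subgroup Γ) (g x : Γ) : x ∈ Cfsg.conjBy A g ↔ g⁻¹ * x * g ∈ A := by
  show x ∈ A.map (MulAut.conj g).toMonoidHom ↔ _
  rw [Subgroup.mem_map]
  constructor
  · rintro ⟨y, hy, rfl⟩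
    have e : g⁻¹ * ((MulAut.conj g).toMonoidHom y) * g = y := by
      simp only [MulEquiv.coe_toMonoidHom, MulAut.conj_apply]; group
    rw [e]; exact hy
  · intro h
    refine ⟨g⁻¹ * x * g, h, ?_⟩
    simp only [MulEquiv.coe_toMonoidHom, MulAut.conj_apply]; group

theorem conjBy_eq_of_iff {A B : Subgroup Γ} {a b : Γ}
    (h : ∀ y, y ∈ A ↔ (a * b⁻¹) * y * (a * b⁻¹)⁻¹ ∈ B) : Cfsg.conjBy A b⁻¹ = Cfsg.conjBy B a⁻¹ := by
  ext x
  rw [mem_conjBy, mem_conjBy, h]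
  have e : (a * b⁻¹) * (b⁻¹⁻¹ * x * b⁻¹) * (a * b⁻¹)⁻¹ = a⁻¹⁻¹ * x * a⁻¹ := by group
  rw [e]

theorem iff_of_conjBy_eq {A B : Subgroup Γ} {a b : Γ} (h : Cfsg.conjBy A b⁻¹ = Cfsg.conjBy B a⁻¹) :
    ∀ y, y ∈ A ↔ (a * b⁻¹) * y * (a * b⁻¹)⁻¹ ∈ B := by
  intro y
  have h1 : b⁻¹ * y * b ∈ Cfsg.conjBy A b⁻¹ ↔ y ∈ A := by
    rw [mem_conjBy]
    have e : b⁻¹⁻¹ * (b⁻¹ * y * b) * b⁻¹ = y := by group
    rw [e]
  have h2 : b⁻¹ * y * b ∈ Cfsg.conjBy B a⁻¹ ↔ (a * b⁻¹) * y * (a * b⁻¹)⁻¹ ∈ B := by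
    rw [mem_conjBy]
    have e : a⁻¹⁻¹ * (b⁻¹ * y * b) * a⁻¹ = (a * b⁻¹) * y * (a * b⁻¹)⁻¹ := by group
    rw [e]
  rw [← h1, h, h2]

theorem isNilpotent_of_comm (A : Subgroup Γ) (h : ∀ x ∈ A, ∀ y ∈ A, x * y = y * x) :
    Group.IsNilpotent A := by
  letI : CommGroup A :=
    { (inferInstance : Group A) with mul_comm := fun x y => Subtype.ext (h x x.2 y y.2) }
  exact CommGroup.isNilpotent

end grp

section ringlemmas

variable {R : Type*} [Ring R]

theorem ring_w_nu (ν μ : R) (hν : ν * ν = 0) (h1 : ν * μ * ν = ν) :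
    (1 + ν) * (1 - μ) * ν = -(μ * ν) := by
  have : (1 + ν) * (1 - μ) * ν = ν - μ * ν + ν * ν - ν * μ * ν := by noncomm_ring
  rw [this, hν, h1]; abel

theorem ring_w_nu' (ν μ : R) (hν : ν * ν = 0) :
    (1 + ν) * (1 - μ) * ν = ν - ν * μ * ν - μ * ν := by
  have : (1 + ν) * (1 - μ) * ν = ν - μ * ν + ν * ν - ν * μ * ν := by noncomm_ring
  rw [this, hν]; abel

theorem ring_mu_w (ν μ : R) (hμ : μ * μ = 0) (h2 : μ * ν * μ = μ) :
    μ * ((1 + ν) * (1 - μ)) = μ * ν := by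
  have : μ * ((1 + ν) * (1 - μ)) = μ + μ * ν - μ * μ - μ * ν * μ := by noncomm_ring
  rw [this, hμ, h2]; abel

theorem ring_special (ν μ : R) (hν : ν * ν = 0) (hμ : μ * μ = 0) (h1 : ν * μ * ν = ν)
    (h2 : μ * ν * μ = μ) : (1 - μ) * (1 + ν) * (1 + μ) = (1 - ν) * (1 - μ) * (1 + ν) := by
  have e1 : (1 - μ) * (1 + ν) * (1 + μ) = 1 + ν - μ * ν + ν * μ - μ * μ - μ * ν * μ := by noncomm_ring
  have e2 : (1 - ν) * (1 - μ) * (1 + ν) = 1 - μ + ν * μ - μ * ν - ν * ν + ν * μ * ν := by noncomm_ring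
  rw [e1, e2, hν, hμ, h1, h2]; abel

theorem ring_e (ν μ : R) (hν : ν * ν = 0) (hμ : μ * μ = 0) (h1 : ν * μ * ν = ν) (h2 : μ * ν * μ = μ) :
    ν * (ν * μ + μ * ν) = ν ∧ (ν * μ + μ * ν) * ν = ν ∧ μ * (ν * μ + μ * ν) = μ ∧
      (ν * μ + μ * ν) * μ = μ ∧ (ν * μ + μ * ν) * (ν * μ + μ * ν) = ν * μ + μ * ν := by
  have a1 : ν * (ν * μ + μ * ν) = ν := by
    rw [mul_add, ← mul_assoc, ← mul_assoc, hν, zero_mul, zero_add, h1]
  have a2 : (ν * μ + μ * ν) * ν = ν := by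
    rw [add_mul, h1, mul_assoc μ ν ν, hν, mul_zero, add_zero]
  have a3 : μ * (ν * μ + μ * ν) = μ := by
    rw [mul_add, ← mul_assoc, ← mul_assoc, h2, hμ, zero_mul, add_zero]
  have a4 : (ν * μ + μ * ν) * μ = μ := by
    rw [add_mul, mul_assoc ν μ μ, hμ, mul_zero, zero_add, h2]
  refine ⟨a1, a2, a3, a4, ?_⟩
  calc (ν * μ + μ * ν) * (ν * μ + μ * ν)
      = (ν * μ + μ * ν) * ν * μ + (ν * μ + μ * ν) * μ * ν := by rw [mul_add, ← mul_assoc, ← mul_assoc]
    _ = ν * μ + μ * ν := by rw [a2, a4]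

theorem ring_invol (ν μ e : R) (hν : ν * ν = 0) (hμ : μ * μ = 0) (h1 : ν * μ * ν = ν)
    (he : e = ν * μ + μ * ν) (hνe : ν * e = ν) (heν : e * ν = ν) (hμe : μ * e = μ) (heμ : e * μ = μ)
    (hee : e * e = e) :
    ((1 + ν) * (1 - μ) * (1 + ν)) * ((1 + ν) * (1 - μ) * (1 + ν)) = 1 - (e + e) := by
  have ht : (1 + ν) * (1 - μ) * (1 + ν) = 1 + ν - μ - e := by
    have : (1 + ν) * (1 - μ) * (1 + ν) = 1 + ν + ν - μ - ν * μ - μ * ν + ν * ν - ν * μ * ν := by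
      noncomm_ring
    rw [this, hν, h1, he]; abel
  have hq : (1 + ν - μ - e) * (1 + ν - μ - e) = 1 + (ν - μ - e) + (ν - μ - e) +
      (ν * ν - ν * μ - ν * e - μ * ν + μ * μ + μ * e - e * ν + e * μ + e * e) := by noncomm_ring
  rw [ht, hq, hν, hμ, hνe, hμe, heν, heμ, hee]
  subst he
  abel

end ringlemmas

section carry

variable {k M : Type*} [Field k] [AddCommGroup M] [Module k M]

theorem carry_of_le [FiniteDimensional k M] {w : (Module.End k M)ˣ} {S T : Submodule k M}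
    (h : ∀ x ∈ S, (w : Module.End k M) x ∈ T) (hd : Module.finrank k T ≤ Module.finrank k S) :
    ∀ x, (w : Module.End k M) x ∈ T ↔ x ∈ S := by
  have hle : S.map (w : Module.End k M) ≤ T := by
    rintro _ ⟨x, hx, rfl⟩; exact h x hx
  have hback : (S.map (w : Module.End k M)).map ((w⁻¹ : (Module.End k M)ˣ) : Module.End k M) = S := by
    rw [← Submodule.map_comp, ← Module.End.mul_eq_comp, Units.inv_mul, Module.End.one_eq_id, Submodule.map_id]
  have h1 : Module.finrank k S ≤ Module.finrank k (S.map (w : Module.End k M)) := by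
    have := Submodule.finrank_map_le ((w⁻¹ : (Module.End k M)ˣ) : Module.End k M) (S.map (w : Module.End k M))
    rwa [hback] at this
  have heq : S.map (w : Module.End k M) = T := Submodule.eq_of_le_of_finrank_le hle (hd.trans h1)
  intro x
  constructor
  · intro hx
    rw [← heq] at hx
    obtain ⟨y, hy, hxy⟩ := hx
    have := congrArg (((w⁻¹ : (Module.End k M)ˣ) : Module.End k M)) hxy
    rw [unit_inv_apply, unit_inv_apply] at this
    rw [← this]; exact hy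
  · exact h x

theorem carry_inv {w : (Module.End k M)ˣ} {S T : Submodule k M}
    (h : ∀ x, (w : Module.End k M) x ∈ T ↔ x ∈ S) :
    ∀ x, ((w⁻¹ : (Module.End k M)ˣ) : Module.End k M) x ∈ S ↔ x ∈ T := by
  intro x
  have := h (((w⁻¹ : (Module.End k M)ˣ) : Module.End k M) x)
  rw [unit_apply_inv] at this
  exact this.symm

variable {G : Subgroup (Module.End k M)ˣ}

theorem conj_mem_class' [FiniteDimensional k M] {ρ σ τ τ' : (Module.End k M)ˣ} (hρ : ρ ∈ G)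
    (h1 : ∀ x, (ρ : Module.End k M) x ∈ LinearMap.range (nu τ) ↔ x ∈ LinearMap.range (nu σ))
    (h2 : ∀ x, (ρ : Module.End k M) x ∈ LinearMap.ker (nu τ) ↔ x ∈ LinearMap.ker (nu σ))
    (hτ' : τ' ∈ Cfsg.sameActionClass G σ) : ρ * τ' * ρ⁻¹ ∈ Cfsg.sameActionClass G τ := by
  have h1' := carry_inv h1
  have h2' := carry_inv h2
  refine ⟨conj_mem_minimal hρ hτ'.1, ?_, ?_⟩
  · show LinearMap.ker (nu (ρ * τ' * ρ⁻¹)) = LinearMap.ker (nu τ)
    have hk : LinearMap.ker (nu τ') = LinearMap.ker (nu σ) := hτ'.2.1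
    ext x
    rw [nu_conj, LinearMap.mem_ker, Module.End.mul_apply, Module.End.mul_apply]
    constructor
    · intro h
      have h3 := congrArg (((ρ⁻¹ : (Module.End k M)ˣ) : Module.End k M)) h
      rw [unit_inv_apply, map_zero] at h3
      have h4 : ((ρ⁻¹ : (Module.End k M)ˣ) : Module.End k M) x ∈ LinearMap.ker (nu σ) := by
        rw [← hk, LinearMap.mem_ker]; exact h3
      exact (h2' x).mp h4
    · intro h
      have h4 : ((ρ⁻¹ : (Module.End k M)ˣ) : Module.End k M) x ∈ LinearMap.ker (nu τ') := by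
        rw [hk]; exact (h2' x).mpr h
      rw [LinearMap.mem_ker] at h4
      rw [h4, map_zero]
  · show LinearMap.range (nu (ρ * τ' * ρ⁻¹)) = LinearMap.range (nu τ)
    have hr : LinearMap.range (nu τ') = LinearMap.range (nu σ) := hτ'.2.2
    ext x
    rw [nu_conj]
    constructor
    · rintro ⟨y, rfl⟩
      rw [Module.End.mul_apply, Module.End.mul_apply]
      apply (h1 _).mpr
      rw [← hr]
      exact ⟨_, rfl⟩
    · intro h
      have h3 : ((ρ⁻¹ : (Module.End k M)ˣ) : Module.End k M) x ∈ LinearMap.range (nu τ') := by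
        rw [hr]; exact (h1' x).mpr h
      obtain ⟨y, hy⟩ := h3
      refine ⟨(ρ : Module.End k M) y, ?_⟩
      rw [Module.End.mul_apply, Module.End.mul_apply, unit_inv_apply, hy, unit_apply_inv]

theorem conj_mem_subgroup' [FiniteDimensional k M] {ρ σ τ : (Module.End k M)ˣ} (hρ : ρ ∈ G)
    (h1 : ∀ x, (ρ : Module.End k M) x ∈ LinearMap.range (nu τ) ↔ x ∈ LinearMap.range (nu σ))
    (h2 : ∀ x, (ρ : Module.End k M) x ∈ LinearMap.ker (nu τ) ↔ x ∈ LinearMap.ker (nu σ))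
    {h : (Module.End k M)ˣ} (hh : h ∈ Cfsg.sameActionSubgroup G σ) :
    ρ * h * ρ⁻¹ ∈ Cfsg.sameActionSubgroup G τ := by
  unfold Cfsg.sameActionSubgroup at hh ⊢
  induction hh using Subgroup.closure_induction with
  | mem x hx => exact Subgroup.subset_closure (conj_mem_class' hρ h1 h2 hx)
  | one => rw [mul_one, mul_inv_cancel]; exact Subgroup.one_mem _
  | mul x y _ _ hx hy =>
    have e : ρ * (x * y) * ρ⁻¹ = (ρ * x * ρ⁻¹) * (ρ * y * ρ⁻¹) := by group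
    rw [e]; exact Subgroup.mul_mem _ hx hy
  | inv x _ hx =>
    have e : ρ * x⁻¹ * ρ⁻¹ = (ρ * x * ρ⁻¹)⁻¹ := by group
    rw [e]; exact Subgroup.inv_mem _ hx

theorem conj_iff [FiniteDimensional k M] {ρ σ τ : (Module.End k M)ˣ} (hρ : ρ ∈ G)
    (h1 : ∀ x, (ρ : Module.End k M) x ∈ LinearMap.range (nu τ) ↔ x ∈ LinearMap.range (nu σ))
    (h2 : ∀ x, (ρ : Module.End k M) x ∈ LinearMap.ker (nu τ) ↔ x ∈ LinearMap.ker (nu σ))
    (y : (Module.End k M)ˣ) :
    y ∈ Cfsg.sameActionSubgroup G σ ↔ ρ * y * ρ⁻¹ ∈ Cfsg.sameActionSubgroup G τ := by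
  constructor
  · exact conj_mem_subgroup' hρ h1 h2
  · intro h
    have := conj_mem_subgroup' (G.inv_mem hρ) (carry_inv h1) (carry_inv h2) h
    have e : ρ⁻¹ * (ρ * y * ρ⁻¹) * ρ⁻¹⁻¹ = y := by group
    rwa [e] at this

end carry

end

end Cfsg.Agent.Lib.H18.QP
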