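import Cfsg.Agent.Lib.H18.QP15

/-!
# The special rank one case for `E(σ)`, `E(τ)` (helper18, for S5065)
-/

set_option autoImplicit false

namespace Cfsg.Agent.Lib.H18.QP

open Polynomial

noncomputable section

universe u

section basics

variable {k M : Type*} [Field k] [AddCommGroup M] [Module k M]

theorem val_inv_of_sq {g : (Module.End k M)ˣ} (h : nu g * nu g = 0) :
    ((g⁻¹ : (Module.End k M)ˣ) : Module.End k M) = 1 - nu g := by
  rw [val_eq_nu g⁻¹, nu_inv_of_sq h]; abel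

theorem nu_inv_left (g : (Module.End k M)ˣ) :
    nu g⁻¹ = -(((g⁻¹ : (Module.End k M)ˣ) : Module.End k M) * nu g) := by
  unfold nu
  rw [mul_sub, Units.inv_mul, mul_one, neg_sub]

theorem nu_inv_right (g : (Module.End k M)ˣ) :
    nu g⁻¹ = -(nu g * ((g⁻¹ : (Module.End k M)ˣ) : Module.End k M)) := by
  unfold nu
  rw [sub_mul, Units.mul_inv, one_mul, neg_sub]

end basics

section rankone

variable {k : Type u} [Field k] {M : Type u} [AddCommGroup M] [Module k M]
variable {G : Subgroup (Module.End k M)ˣ}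

theorem exists_partner [FiniteDimensional k M] (hk2 : ringChar k ≠ 2) (hk3 : Nat.card k ≠ 3)
    {σ τ a : (Module.End k M)ˣ} (hσ : σ ∈ Cfsg.minimalQuadraticElements G)
    (hτ : τ ∈ Cfsg.minimalQuadraticElements G) (hopp : Opp (nu σ) (nu τ))
    (ha : a ∈ Cfsg.sameActionClass G σ) :
    ∃ b ∈ Cfsg.sameActionClass G τ, nu a * nu b * nu a = nu a ∧ nu b * nu a * nu b = nu b := by
  obtain ⟨p, hp⟩ : ∃ p : SqPair k M, p = pairOf τ a hτ.1.2.1.1 ha.1.1.2.1.1 := ⟨_, rfl⟩
  have hpn : p.n = nu τ := by rw [hp]; rfl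
  have hpm : p.m = nu a := by rw [hp]; rfl
  have hq : QPair G (Cfsg.commutatorRank σ) p := by rw [hp]; exact qpair_of hσ hτ ha.1
  have hNN : NonNil p := by
    have := hopp.symm.congr (n' := nu τ) (m' := nu a) rfl rfl ha.2.2 ha.2.1
    rw [← hpn, ← hpm] at this
    exact ⟨this.1, this.2⟩
  have hne : p.n ≠ 0 := by rw [hpn]; exact hτ.1.2.1.2
  have hnil := hNN.not_nil hne
  obtain ⟨μ, hF, hsq, hr, hk, h1, h2⟩ := partner_alg hk2 hk3 (minP_of hσ) p hq hnil
  rw [hpn] at hr hk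
  rw [hpm] at h1 h2
  obtain ⟨b, hbG, hb⟩ := hF 1
  rw [one_smul] at hb
  have hnub : nu b = μ := by unfold nu; rw [hb, add_sub_cancel_left]
  have hμ0 : μ ≠ 0 := by
    intro h0
    rw [h0, mul_zero, zero_mul] at h1
    exact ha.1.1.2.1.2 h1.symm
  refine ⟨b, ?_, by rw [hnub]; exact h1, by rw [hnub]; exact h2⟩
  apply mem_class_of_InE hτ ⟨hbG, by rw [hnub]; exact hF, by rw [hnub]; exact hr, by rw [hnub]; exact hk⟩
  intro hb1
  rw [hb1, nu_one] at hnub
  exact hμ0 hnub.symm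

theorem conj_of_partner [FiniteDimensional k M] {σ τ a b : (Module.End k M)ˣ}
    (hσ : σ ∈ Cfsg.minimalQuadraticElements G) (hτ : τ ∈ Cfsg.minimalQuadraticElements G)
    (ha : a ∈ Cfsg.sameActionClass G σ) (hb : b ∈ Cfsg.sameActionClass G τ)
    (h1 : nu a * nu b * nu a = nu a) (h2 : nu b * nu a * nu b = nu b) :
    ∀ y, y ∈ Cfsg.sameActionSubgroup G σ ↔ (a * b⁻¹) * y * (a * b⁻¹)⁻¹ ∈ Cfsg.sameActionSubgroup G τ := by
  have hsqa : nu a * nu a = 0 := ha.1.1.2.1.1
  have hsqb : nu b * nu b = 0 := hb.1.1.2.1.1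
  have hw : ((a * b⁻¹ : (Module.End k M)ˣ) : Module.End k M) = (1 + nu a) * (1 - nu b) := by
    rw [Units.val_mul, val_inv_of_sq hsqb, val_eq_nu a]
  have hra : LinearMap.range (nu a) = LinearMap.range (nu σ) := ha.2.2
  have hka : LinearMap.ker (nu a) = LinearMap.ker (nu σ) := ha.2.1
  have hrb : LinearMap.range (nu b) = LinearMap.range (nu τ) := hb.2.2
  have hkb : LinearMap.ker (nu b) = LinearMap.ker (nu τ) := hb.2.1
  apply conj_iff (G.mul_mem ha.1.1.1 (G.inv_mem hb.1.1.1))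
  · apply carry_of_le
    · intro x hx
      rw [← hra] at hx
      obtain ⟨y, rfl⟩ := hx
      rw [← hrb]
      have h3 : ((a * b⁻¹ : (Module.End k M)ˣ) : Module.End k M) (nu a y) = -(nu b (nu a y)) := by
        calc ((a * b⁻¹ : (Module.End k M)ˣ) : Module.End k M) (nu a y)
            = (((a * b⁻¹ : (Module.End k M)ˣ) : Module.End k M) * nu a) y := rfl
          _ = (-(nu b * nu a)) y := by rw [hw, ring_w_nu _ _ hsqa h1]
          _ = -(nu b (nu a y)) := rfl
      rw [h3]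
      exact ⟨-(nu a y), by rw [map_neg]⟩
    · exact le_of_eq ((rank_of hσ hτ).trans (rank_of hσ hσ).symm)
  · apply carry_of_le
    · intro x hx
      rw [← hka, LinearMap.mem_ker] at hx
      rw [← hkb, LinearMap.mem_ker]
      calc nu b (((a * b⁻¹ : (Module.End k M)ˣ) : Module.End k M) x)
          = (nu b * ((a * b⁻¹ : (Module.End k M)ˣ) : Module.End k M)) x := rfl
        _ = (nu b * nu a) x := by rw [hw, ring_mu_w _ _ hsqb h2]
        _ = nu b (nu a x) := rfl
        _ = 0 := by rw [hx, map_zero]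
    · have e1 := LinearMap.finrank_range_add_finrank_ker (nu σ)
      have e2 := LinearMap.finrank_range_add_finrank_ker (nu τ)
      have e3 := (rank_of hσ hτ).trans (rank_of hσ hσ).symm
      omega

theorem rankOneCond [FiniteDimensional k M] (hk2 : ringChar k ≠ 2) (hk3 : Nat.card k ≠ 3)
    {σ τ : (Module.End k M)ˣ} (hσ : σ ∈ Cfsg.minimalQuadraticElements G)
    (hτ : τ ∈ Cfsg.minimalQuadraticElements G) (hopp : Opp (nu σ) (nu τ)) :
    Cfsg.RankOneCondition (Cfsg.sameActionSubgroup G σ) (Cfsg.sameActionSubgroup G τ) := by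
  intro a haA ha1
  have ha := mem_class_of_mem hσ haA ha1
  obtain ⟨b, hb, h1, h2⟩ := exists_partner hk2 hk3 hσ hτ hopp ha
  refine ⟨b, Subgroup.subset_closure hb, ?_, conjBy_eq_of_iff (conj_of_partner hσ hτ ha hb h1 h2)⟩
  intro hb1
  exact hb.1.1.2.1.2 (by rw [hb1, Units.val_one, sub_self])

theorem partner_of_conj [FiniteDimensional k M] {σ τ a b : (Module.End k M)ˣ}
    (hτ : τ ∈ Cfsg.minimalQuadraticElements G) (hopp : Opp (nu σ) (nu τ))
    (ha : a ∈ Cfsg.sameActionClass G σ) (hb : b ∈ Cfsg.sameActionClass G τ)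
    (hc : Cfsg.conjBy (Cfsg.sameActionSubgroup G σ) b⁻¹ = Cfsg.conjBy (Cfsg.sameActionSubgroup G τ) a⁻¹) :
    nu a * nu b * nu a = nu a ∧ nu b * nu a * nu b = nu b := by
  have hsqa : nu a * nu a = 0 := ha.1.1.2.1.1
  have hsqb : nu b * nu b = 0 := hb.1.1.2.1.1
  have hw : ((a * b⁻¹ : (Module.End k M)ˣ) : Module.End k M) = (1 + nu a) * (1 - nu b) := by
    rw [Units.val_mul, val_inv_of_sq hsqb, val_eq_nu a]
  have hoppab : Opp (nu a) (nu b) := hopp.congr ha.2.2 ha.2.1 hb.2.2 hb.2.1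
  have hiff := iff_of_conjBy_eq hc
  have hmem : (a * b⁻¹) * a * (a * b⁻¹)⁻¹ ∈ Cfsg.sameActionSubgroup G τ :=
    (hiff a).mp (Subgroup.subset_closure ha)
  have hne1 : (a * b⁻¹) * a * (a * b⁻¹)⁻¹ ≠ 1 := by
    intro h
    have h3 : a = 1 := by
      have e : a = (a * b⁻¹)⁻¹ * ((a * b⁻¹) * a * (a * b⁻¹)⁻¹) * (a * b⁻¹) := by group
      rw [e, h]; group
    exact ha.1.1.2.1.2 (by rw [h3, Units.val_one, sub_self])
  have hcl := mem_class_of_mem hτ hmem hne1
  have hr : LinearMap.range (nu ((a * b⁻¹) * a * (a * b⁻¹)⁻¹)) = LinearMap.range (nu b) :=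
    hcl.2.2.trans hb.2.2.symm
  have hwν : ∀ y, ((a * b⁻¹ : (Module.End k M)ˣ) : Module.End k M) (nu a y) ∈ LinearMap.range (nu b) := by
    intro y
    rw [← hr, nu_conj]
    refine ⟨((a * b⁻¹ : (Module.End k M)ˣ) : Module.End k M) y, ?_⟩
    rw [Module.End.mul_apply, Module.End.mul_apply, unit_inv_apply]
  have h1 : nu a * nu b * nu a = nu a := by
    refine LinearMap.ext fun y => ?_
    have h3 : ((a * b⁻¹ : (Module.End k M)ˣ) : Module.End k M) (nu a y) =
        nu a y - (nu a * nu b * nu a) y - nu b (nu a y) := by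
      calc ((a * b⁻¹ : (Module.End k M)ˣ) : Module.End k M) (nu a y)
          = (((a * b⁻¹ : (Module.End k M)ˣ) : Module.End k M) * nu a) y := rfl
        _ = (nu a - nu a * nu b * nu a - nu b * nu a) y := by rw [hw, ring_w_nu' _ _ hsqa]
        _ = nu a y - (nu a * nu b * nu a) y - nu b (nu a y) := rfl
    have h4 : nu a y - (nu a * nu b * nu a) y ∈ LinearMap.range (nu b) := by
      have e : nu a y - (nu a * nu b * nu a) y =
          ((a * b⁻¹ : (Module.End k M)ˣ) : Module.End k M) (nu a y) + nu b (nu a y) := by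
        rw [h3]; abel
      rw [e]
      exact add_mem (hwν y) ⟨_, rfl⟩
    have h5 : nu a y - (nu a * nu b * nu a) y ∈ LinearMap.range (nu a) := by
      refine ⟨y - nu b (nu a y), ?_⟩
      rw [map_sub]; rfl
    have := hoppab.inter hsqb _ h5 h4
    exact (sub_eq_zero.mp this).symm
  refine ⟨h1, ?_⟩
  refine LinearMap.ext fun x => ?_
  have h6 : (nu b * nu a * nu b) x - nu b x ∈ LinearMap.range (nu b) :=
    ⟨nu a (nu b x) - x, by rw [map_sub]; rfl⟩
  have h7 : nu a ((nu b * nu a * nu b) x - nu b x) = 0 := by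
    rw [map_sub]
    have e : nu a ((nu b * nu a * nu b) x) = (nu a * nu b * nu a) (nu b x) := rfl
    rw [e, h1, sub_self]
  exact sub_eq_zero.mp (hoppab.2 _ h6 h7)

theorem special_eq {a b : (Module.End k M)ˣ} (hsqa : nu a * nu a = 0) (hsqb : nu b * nu b = 0)
    (h1 : nu a * nu b * nu a = nu a) (h2 : nu b * nu a * nu b = nu b) :
    b⁻¹ * a * b = a⁻¹ * b⁻¹ * a := by
  apply Units.ext
  rw [Units.val_mul, Units.val_mul, Units.val_mul, Units.val_mul, val_inv_of_sq hsqb, val_inv_of_sq hsqa,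
    val_eq_nu a, val_eq_nu b]
  exact ring_special _ _ hsqa hsqb h1 h2

end rankone

end

end Cfsg.Agent.Lib.H18.QP
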