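import Cfsg.Agent.Lib.H18.QP16

/-!
# The central involution of `⟨E(σ), E(τ)⟩`; the special rank one case (helper18, for S5065)
-/

set_option autoImplicit false

namespace Cfsg.Agent.Lib.H18.QP

open Polynomial

noncomputable section

universe u

section invol

variable {k M : Type*} [Field k] [AddCommGroup M] [Module k M]

theorem eabs_left {ν μ ν' : Module.End k M} (hν : ν * ν = 0) (h1 : ν * μ * ν = ν)
    (hr : LinearMap.range ν' ≤ LinearMap.range ν) (hk : LinearMap.ker ν ≤ LinearMap.ker ν') :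
    ν' * (ν * μ + μ * ν) = ν' ∧ (ν * μ + μ * ν) * ν' = ν' := by
  constructor
  · refine LinearMap.ext fun x => ?_
    have e : (ν' * (ν * μ + μ * ν)) x = ν' (ν (μ x)) + ν' (μ (ν x)) := by
      rw [Module.End.mul_apply, LinearMap.add_apply, map_add]; rfl
    rw [e]
    have a1 : ν' (ν (μ x)) = 0 := by
      have : ν (μ x) ∈ LinearMap.ker ν := by
        rw [LinearMap.mem_ker]; exact LinearMap.congr_fun hν (μ x)
      exact LinearMap.mem_ker.mp (hk this)
    have a2 : ν' (μ (ν x)) = ν' x := by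
      have h3 : μ (ν x) - x ∈ LinearMap.ker ν := by
        rw [LinearMap.mem_ker, map_sub]
        have : ν (μ (ν x)) = (ν * μ * ν) x := rfl
        rw [this, h1, sub_self]
      have h4 := hk h3
      rw [LinearMap.mem_ker, map_sub] at h4
      exact sub_eq_zero.mp h4
    rw [a1, a2, zero_add]
  · refine LinearMap.ext fun x => ?_
    obtain ⟨y, hy⟩ := hr ⟨x, rfl⟩
    have e : ((ν * μ + μ * ν) * ν') x = ν (μ (ν' x)) + μ (ν (ν' x)) := rfl
    rw [e, ← hy]
    have a1 : ν (μ (ν y)) = ν y := LinearMap.congr_fun h1 y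
    have a2 : ν (ν y) = 0 := LinearMap.congr_fun hν y
    rw [a1, a2, map_zero, add_zero]

theorem invol_main (h2k : (2 : k) ≠ 0) {X : Subgroup (Module.End k M)ˣ} {T : Set (Module.End k M)ˣ}
    (hX : X = Subgroup.closure T) {s b : (Module.End k M)ˣ} (hsX : s ∈ X) (hbX : b ∈ X)
    (hsqs : nu s * nu s = 0) (hsqb : nu b * nu b = 0)
    (h1 : nu s * nu b * nu s = nu s) (h2 : nu b * nu s * nu b = nu b) (hs0 : nu s ≠ 0)
    (hgen : ∀ g ∈ T, nu g * (nu s * nu b + nu b * nu s) = nu g ∧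
      (nu s * nu b + nu b * nu s) * nu g = nu g) :
    (∃! i : (Module.End k M)ˣ, i ∈ X ∧ i ≠ 1 ∧ i * i = 1 ∧ (∀ x ∈ X, i * x = x * i) ∧
        (∀ m ∈ Cfsg.commutatorSubmodule X, (i : Module.End k M) m = -m) ∧
        (∀ m ∈ Cfsg.fixedSubmodule X, (i : Module.End k M) m = m)) ∧
      IsCompl (Cfsg.fixedSubmodule X) (Cfsg.commutatorSubmodule X) := by
  obtain ⟨hνe, heν, hμe, heμ, hee⟩ := ring_e (nu s) (nu b) hsqs hsqb h1 h2
  obtain ⟨e, he⟩ : ∃ e, e = nu s * nu b + nu b * nu s := ⟨_, rfl⟩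
  rw [← he] at hνe heν hμe heμ hee hgen
  have hall : ∀ g ∈ X, nu g * e = nu g ∧ e * nu g = nu g := by
    intro g hg
    rw [hX] at hg
    induction hg using Subgroup.closure_induction with
    | mem x hx => exact hgen x hx
    | one => rw [nu_one]; exact ⟨zero_mul _, mul_zero _⟩
    | mul x y _ _ hx hy =>
      rw [nu_mul]
      constructor
      · rw [add_mul, add_mul, mul_assoc, hx.1, hy.1]
      · rw [mul_add, mul_add, ← mul_assoc, hx.2, hy.2]
    | inv x _ hx =>
      constructor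
      · rw [nu_inv_left, neg_mul, mul_assoc, hx.1]
      · rw [nu_inv_right, mul_neg, ← mul_assoc, hx.2]
  have hfix : ∀ v, v ∈ Cfsg.fixedSubmodule X ↔ e v = 0 := by
    intro v
    simp only [Cfsg.fixedSubmodule, Submodule.mem_iInf, LinearMap.mem_ker]
    constructor
    · intro h
      have hs : nu s v = 0 := h s hsX
      have hb : nu b v = 0 := h b hbX
      rw [he]
      show nu s (nu b v) + nu b (nu s v) = 0
      rw [hs, hb, map_zero, map_zero, add_zero]
    · intro hev g hg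
      show nu g v = 0
      rw [← (hall g hg).1]
      show nu g (e v) = 0
      rw [hev, map_zero]
  have hcomm : Cfsg.commutatorSubmodule X = LinearMap.range e := by
    apply le_antisymm
    · unfold Cfsg.commutatorSubmodule
      apply iSup₂_le
      intro g hg
      rintro _ ⟨x, rfl⟩
      refine ⟨nu g x, ?_⟩
      show (e * nu g) x = nu g x
      rw [(hall g hg).2]
    · rintro _ ⟨x, rfl⟩
      rw [he]
      show nu s (nu b x) + nu b (nu s x) ∈ _
      unfold Cfsg.commutatorSubmodule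
      exact add_mem (Submodule.mem_iSup_of_mem s (Submodule.mem_iSup_of_mem hsX ⟨_, rfl⟩))
        (Submodule.mem_iSup_of_mem b (Submodule.mem_iSup_of_mem hbX ⟨_, rfl⟩))
  have hker : Cfsg.fixedSubmodule X = LinearMap.ker e := by
    ext v; rw [hfix, LinearMap.mem_ker]
  have hcompl : IsCompl (Cfsg.fixedSubmodule X) (Cfsg.commutatorSubmodule X) := by
    rw [hker, hcomm]
    exact (LinearMap.IsIdempotentElem.isCompl hee).symm
  refine ⟨?_, hcompl⟩
  -- the involution
  obtain ⟨i, hi⟩ : ∃ i : (Module.End k M)ˣ, i = (s * b⁻¹ * s) * (s * b⁻¹ * s) := ⟨_, rfl⟩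
  have hival : (i : Module.End k M) = 1 - (e + e) := by
    rw [hi, Units.val_mul, Units.val_mul, Units.val_mul, val_inv_of_sq hsqb, val_eq_nu s]
    exact ring_invol (nu s) (nu b) e hsqs hsqb h1 he hνe heν hμe heμ hee
  have hiX : i ∈ X := by
    rw [hi]
    have ht : s * b⁻¹ * s ∈ X := X.mul_mem (X.mul_mem hsX (X.inv_mem hbX)) hsX
    exact X.mul_mem ht ht
  have hee2 : (e + e) * (e + e) = (e + e) + (e + e) := by
    rw [add_mul, mul_add, hee]
  have hi1 : i ≠ 1 := by
    intro h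
    have h3 : e + e = 0 := by
      have h4 := hival
      rw [h, Units.val_one] at h4
      exact sub_eq_self.mp h4.symm
    have h5 : e = 0 := by
      have h6 : (2 : k) • e = 0 := by rw [two_smul]; exact h3
      exact (smul_eq_zero.mp h6).resolve_left h2k
    apply hs0
    rw [← heν, h5, zero_mul]
  have hii : i * i = 1 := by
    apply Units.ext
    rw [Units.val_mul, hival, Units.val_one]
    have h3 : (1 - (e + e)) * (1 - (e + e)) = 1 - (e + e) - (e + e) + (e + e) * (e + e) := by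
      noncomm_ring
    rw [h3, hee2]; abel
  have hcentral : ∀ x ∈ X, i * x = x * i := by
    intro x hx
    apply Units.ext
    rw [Units.val_mul, Units.val_mul, hival, val_eq_nu x]
    have c : Commute (e + e) (nu x) := by
      show (e + e) * nu x = nu x * (e + e)
      rw [add_mul, mul_add, (hall x hx).1, (hall x hx).2]
    exact ((Commute.one_left _).sub_left ((Commute.one_right _).add_right c)).eq
  have hneg : ∀ m ∈ Cfsg.commutatorSubmodule X, (i : Module.End k M) m = -m := by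
    intro m hm
    rw [hcomm] at hm
    obtain ⟨x, rfl⟩ := hm
    have h3 : e (e x) = e x := LinearMap.congr_fun hee x
    rw [hival, LinearMap.sub_apply, Module.End.one_apply, LinearMap.add_apply, h3]; abel
  have hpos : ∀ m ∈ Cfsg.fixedSubmodule X, (i : Module.End k M) m = m := by
    intro m hm
    have h3 := (hfix m).mp hm
    rw [hival, LinearMap.sub_apply, Module.End.one_apply, LinearMap.add_apply, h3, add_zero, sub_zero]
  refine ⟨i, ⟨hiX, hi1, hii, hcentral, hneg, hpos⟩, ?_⟩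
  rintro j ⟨_, _, _, _, hjneg, hjpos⟩
  apply Units.ext
  refine LinearMap.ext fun v => ?_
  have h3 : v - e v ∈ Cfsg.fixedSubmodule X := by
    rw [hfix, map_sub]
    have : e (e v) = e v := LinearMap.congr_fun hee v
    rw [this, sub_self]
  have h4 : e v ∈ Cfsg.commutatorSubmodule X := by rw [hcomm]; exact ⟨v, rfl⟩
  calc (j : Module.End k M) v = (j : Module.End k M) ((v - e v) + e v) := by rw [sub_add_cancel]
    _ = (v - e v) - e v := by rw [map_add, hjpos _ h3, hjneg _ h4]; abel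
    _ = (i : Module.End k M) ((v - e v) + e v) := by rw [map_add, hpos _ h3, hneg _ h4]; abel
    _ = (i : Module.End k M) v := by rw [sub_add_cancel]

end invol

section caseR

variable {k : Type u} [Field k] {M : Type u} [AddCommGroup M] [Module k M]
variable {G : Subgroup (Module.End k M)ˣ}

theorem comm_of_mem {ρ x y : (Module.End k M)ˣ} (hρ : ρ ∈ Cfsg.minimalQuadraticElements G)
    (hx : x ∈ Cfsg.sameActionSubgroup G ρ) (hy : y ∈ Cfsg.sameActionSubgroup G ρ) : x * y = y * x := by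
  have hx' := InE.of_mem hρ.1.2.1.1 hx
  have hy' := InE.of_mem hρ.1.2.1.1 hy
  apply Units.ext
  rw [Units.val_mul, Units.val_mul, val_eq_nu x, val_eq_nu y]
  have a1 := hx'.mul_zero hρ.1.2.1.1 hy'
  have a2 := hy'.mul_zero hρ.1.2.1.1 hx'
  simp only [add_mul, mul_add, one_mul, mul_one, a1, a2]
  abel

theorem caseR [FiniteDimensional k M] (hk2 : ringChar k ≠ 2) (hk3 : Nat.card k ≠ 3)
    {σ τ : (Module.End k M)ˣ} (hσ : σ ∈ Cfsg.minimalQuadraticElements G)
    (hτ : τ ∈ Cfsg.minimalQuadraticElements G) (hnil : ¬ IsNilpotent (nu σ * nu τ)) :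
    Cfsg.IsSpecialRankOnePair (Cfsg.sameActionSubgroup G σ) (Cfsg.sameActionSubgroup G τ) ∧
    (∃! i : (Module.End k M)ˣ, i ∈ Cfsg.sameActionSubgroup G σ ⊔ Cfsg.sameActionSubgroup G τ ∧ i ≠ 1 ∧
        i * i = 1 ∧
        (∀ x ∈ Cfsg.sameActionSubgroup G σ ⊔ Cfsg.sameActionSubgroup G τ, i * x = x * i) ∧
        (∀ m ∈ Cfsg.commutatorSubmodule (Cfsg.sameActionSubgroup G σ ⊔ Cfsg.sameActionSubgroup G τ),
          (i : Module.End k M) m = -m) ∧
        (∀ m ∈ Cfsg.fixedSubmodule (Cfsg.sameActionSubgroup G σ ⊔ Cfsg.sameActionSubgroup G τ),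
          (i : Module.End k M) m = m)) ∧
      IsCompl (Cfsg.fixedSubmodule (Cfsg.sameActionSubgroup G σ ⊔ Cfsg.sameActionSubgroup G τ))
        (Cfsg.commutatorSubmodule (Cfsg.sameActionSubgroup G σ ⊔ Cfsg.sameActionSubgroup G τ)) := by
  have h2k : (2 : k) ≠ 0 := Ring.two_ne_zero hk2
  have hsqσ : nu σ * nu σ = 0 := hσ.1.2.1.1
  have hsqτ : nu τ * nu τ = 0 := hτ.1.2.1.1
  obtain ⟨p, hp⟩ : ∃ p : SqPair k M, p = pairOf σ τ hsqσ hsqτ := ⟨_, rfl⟩
  have hpn : p.n = nu σ := by rw [hp]; rfl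
  have hpm : p.m = nu τ := by rw [hp]; rfl
  have hq : QPair G (Cfsg.commutatorRank σ) p := by rw [hp]; exact qpair_of hσ hσ hτ
  have hNN : NonNil p :=
    NonNil.of_PP (theoremP hk2 hk3 (minP_of hσ)) hq (by rw [hpn, hpm]; exact hnil)
  have hopp : Opp (nu σ) (nu τ) := by
    rw [← hpn, ← hpm]; exact ⟨hNN.hn, hNN.hm⟩
  have hσc : σ ∈ Cfsg.sameActionClass G σ := ⟨hσ, rfl, rfl⟩
  have hτc : τ ∈ Cfsg.sameActionClass G τ := ⟨hτ, rfl, rfl⟩
  refine ⟨⟨⟨?_, isNilpotent_of_comm _ (fun x hx y hy => comm_of_mem hσ hx hy),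
    isNilpotent_of_comm _ (fun x hx y hy => comm_of_mem hτ hx hy),
    rankOneCond hk2 hk3 hσ hτ hopp, rankOneCond hk2 hk3 hτ hσ hopp.symm⟩, ?_⟩, ?_⟩
  · intro hAB
    have hτA : τ ∈ Cfsg.sameActionSubgroup G σ := by rw [hAB]; exact Subgroup.subset_closure hτc
    have hτ1 : τ ≠ 1 := fun h => hτ.1.2.1.2 (by rw [h, Units.val_one, sub_self])
    have hcl := mem_class_of_mem hσ hτA hτ1
    apply hσ.1.2.1.2
    show nu σ = 0
    refine LinearMap.ext fun x => ?_
    apply hopp.1 (nu σ x) ⟨x, rfl⟩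
    have h3 : nu σ x ∈ LinearMap.range (nu τ) := by
      have : LinearMap.range (nu τ) = LinearMap.range (nu σ) := hcl.2.2
      rw [this]; exact ⟨x, rfl⟩
    obtain ⟨y, hy⟩ := h3
    rw [← hy]; exact LinearMap.congr_fun hsqτ y
  · intro a haA ha1 b hbB hb1 hc
    have ha := mem_class_of_mem hσ haA ha1
    have hb := mem_class_of_mem hτ hbB hb1
    obtain ⟨h1, h2⟩ := partner_of_conj hτ hopp ha hb hc
    exact special_eq ha.1.1.2.1.1 hb.1.1.2.1.1 h1 h2
  · obtain ⟨b, hb, h1, h2⟩ := exists_partner hk2 hk3 hσ hτ hopp hσc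
    have hX : Cfsg.sameActionSubgroup G σ ⊔ Cfsg.sameActionSubgroup G τ =
        Subgroup.closure (Cfsg.sameActionClass G σ ∪ Cfsg.sameActionClass G τ) := by
      unfold Cfsg.sameActionSubgroup; rw [Subgroup.closure_union]
    apply invol_main h2k hX (s := σ) (b := b) (Subgroup.mem_sup_left (Subgroup.subset_closure hσc))
      (Subgroup.mem_sup_right (Subgroup.subset_closure hb)) hsqσ hb.1.1.2.1.1 h1 h2 hσ.1.2.1.2
    intro g hg
    rcases hg with hg | hg
    · exact eabs_left hsqσ h1 (le_of_eq hg.2.2) (le_of_eq hg.2.1.symm)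
    · have := eabs_left (ν := nu b) (μ := nu σ) (ν' := nu g) hb.1.1.2.1.1 h2
        (le_of_eq (hg.2.2.trans hb.2.2.symm)) (le_of_eq (hb.2.1.trans hg.2.1.symm))
      rwa [add_comm (nu b * nu σ)] at this

end caseR

end

end Cfsg.Agent.Lib.H18.QP
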