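import Cfsg.Agent.Lib.H18.QP17
import Cfsg.Agent.S5061

/-!
# The k-space of `E(σ)`, conjugation, existence of opposites (helper18, for S5066, S5068)
-/

set_option autoImplicit false

namespace Cfsg.Agent.Lib.H18.QP

open Polynomial

noncomputable section

universe u

section rank

variable {k M : Type*} [Field k] [AddCommGroup M] [Module k M]

theorem finrank_map_add_inf_ker [FiniteDimensional k M] (f : Module.End k M) (S : Submodule k M) :
    Module.finrank k (S.map f) + Module.finrank k (S ⊓ LinearMap.ker f : Submodule k M) =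
      Module.finrank k S := by
  have h := LinearMap.finrank_range_add_finrank_ker (f.domRestrict S)
  rw [LinearMap.range_domRestrict, LinearMap.ker_domRestrict] at h
  have e : (LinearMap.ker f).comap S.subtype = (S ⊓ LinearMap.ker f).comap S.subtype := by
    ext x
    simp only [Submodule.mem_comap, Submodule.subtype_apply, Submodule.mem_inf, x.2, true_and]
  rw [e, (Submodule.comapSubtypeEquivOfLe (inf_le_left : S ⊓ LinearMap.ker f ≤ S)).finrank_eq] at h
  exact h

theorem range_comm_le (ν μ : Module.End k M) :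
    LinearMap.range (ν * μ - μ * ν) ≤ LinearMap.range (ν * μ) ⊔ LinearMap.range (μ * ν) := by
  rintro _ ⟨x, rfl⟩
  rw [LinearMap.sub_apply]
  exact Submodule.sub_mem _ (Submodule.mem_sup_left ⟨x, rfl⟩) (Submodule.mem_sup_right ⟨x, rfl⟩)

theorem range_mul_le_inf {ν μ : Module.End k M} (h : μ * ν * μ = 0) :
    LinearMap.range (ν * μ) ≤ LinearMap.range ν ⊓ LinearMap.ker μ := by
  rintro _ ⟨x, rfl⟩
  refine ⟨⟨μ x, rfl⟩, ?_⟩
  rw [SetLike.mem_coe, LinearMap.mem_ker]
  exact LinearMap.congr_fun h x

theorem range_mul_eq_map (ν μ : Module.End k M) :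
    LinearMap.range (μ * ν) = (LinearMap.range ν).map μ := by
  rw [Module.End.mul_eq_comp, LinearMap.range_comp]

/-- the rank of a commutator of a class two pair -/
theorem rank_comm_le [FiniteDimensional k M] {ν μ : Module.End k M} (h : μ * ν * μ = 0) :
    Module.finrank k (LinearMap.range (ν * μ - μ * ν)) ≤ Module.finrank k (LinearMap.range ν) := by
  have h4 := finrank_map_add_inf_ker μ (LinearMap.range ν)
  calc Module.finrank k (LinearMap.range (ν * μ - μ * ν))
      ≤ Module.finrank k (LinearMap.range (ν * μ) ⊔ LinearMap.range (μ * ν) : Submodule k M) :=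
        Submodule.finrank_mono (range_comm_le ν μ)
    _ ≤ Module.finrank k (LinearMap.range (ν * μ)) + Module.finrank k (LinearMap.range (μ * ν)) :=
        Submodule.finrank_add_le_finrank_add_finrank _ _
    _ ≤ Module.finrank k (LinearMap.range ν ⊓ LinearMap.ker μ : Submodule k M) +
          Module.finrank k ((LinearMap.range ν).map μ) := by
        rw [range_mul_eq_map ν μ]
        exact Nat.add_le_add_right (Submodule.finrank_mono (range_mul_le_inf h)) _
    _ = Module.finrank k (LinearMap.range ν) := by omega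

end rank

section vsp

variable {k M : Type*} [Field k] [AddCommGroup M] [Module k M] {G : Subgroup (Module.End k M)ˣ}

/-- the "line" of `n`: families with commutator space inside that of `n`, killing its fixed space -/
def Vset (G : Subgroup (Module.End k M)ˣ) (n : Module.End k M) : Set (Module.End k M) :=
  {ν | Fam G ν ∧ LinearMap.range ν ≤ LinearMap.range n ∧ LinearMap.ker n ≤ LinearMap.ker ν}

theorem Vset_mul_zero {n ν ν' : Module.End k M} (hn : n * n = 0) (h : ν ∈ Vset G n) (h' : ν' ∈ Vset G n) :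
    ν * ν' = 0 := by
  refine LinearMap.ext fun x => ?_
  obtain ⟨y, hy⟩ := h'.2.1 ⟨x, rfl⟩
  have h2 : n y ∈ LinearMap.ker n := by
    rw [LinearMap.mem_ker]; exact LinearMap.congr_fun hn y
  have h3 := h.2.2 h2
  rw [LinearMap.mem_ker, hy] at h3
  exact h3

/-- the line as a subspace -/
def Vsp (G : Subgroup (Module.End k M)ˣ) (n : Module.End k M) (hn : n * n = 0) :
    Submodule k (Module.End k M) where
  carrier := Vset G n
  zero_mem' := by
    refine ⟨fun c => ⟨1, G.one_mem, by rw [smul_zero, add_zero, Units.val_one]⟩, ?_, ?_⟩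
    · rw [LinearMap.range_zero]; exact bot_le
    · rw [LinearMap.ker_zero]; exact le_top
  add_mem' := by
    intro ν ν' h h'
    have h0 := Vset_mul_zero hn h h'
    refine ⟨?_, ?_, ?_⟩
    · intro c
      obtain ⟨u, hu, hue⟩ := h.1 c
      obtain ⟨u', hu', hue'⟩ := h'.1 c
      refine ⟨u * u', G.mul_mem hu hu', ?_⟩
      rw [Units.val_mul, hue, hue', mul_add, mul_one, add_mul, one_mul, smul_mul_smul_comm, h0, smul_zero,
        add_zero, smul_add]
      abel
    · rintro _ ⟨x, rfl⟩
      rw [LinearMap.add_apply]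
      exact add_mem (h.2.1 ⟨x, rfl⟩) (h'.2.1 ⟨x, rfl⟩)
    · intro x hx
      have h1 := h.2.2 hx
      have h2 := h'.2.2 hx
      rw [LinearMap.mem_ker] at h1 h2 ⊢
      rw [LinearMap.add_apply, h1, h2, add_zero]
  smul_mem' := by
    intro c ν h
    refine ⟨h.1.smul c, ?_, ?_⟩
    · rintro _ ⟨x, rfl⟩
      rw [LinearMap.smul_apply]
      exact Submodule.smul_mem _ _ (h.2.1 ⟨x, rfl⟩)
    · intro x hx
      have h1 := h.2.2 hx
      rw [LinearMap.mem_ker] at h1 ⊢
      rw [LinearMap.smul_apply, h1, smul_zero]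

theorem mem_Vsp {n : Module.End k M} (hn : n * n = 0) (ν : Module.End k M) :
    ν ∈ Vsp G n hn ↔ ν ∈ Vset G n := Iff.rfl

theorem nu_mem_Vset {σ a : (Module.End k M)ˣ} (hσ : nu σ * nu σ = 0)
    (ha : a ∈ Cfsg.sameActionSubgroup G σ) : nu a ∈ Vset G (nu σ) :=
  (InE.of_mem hσ ha).2

theorem exists_of_mem_Vset [FiniteDimensional k M] {σ : (Module.End k M)ˣ}
    (hσ : σ ∈ Cfsg.minimalQuadraticElements G) {ν : Module.End k M} (hν : ν ∈ Vset G (nu σ)) :
    ∃ a ∈ Cfsg.sameActionSubgroup G σ, nu a = ν := by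
  obtain ⟨u, huG, hu⟩ := hν.1 1
  rw [one_smul] at hu
  have hnu : nu u = ν := by unfold nu; rw [hu, add_sub_cancel_left]
  refine ⟨u, ?_, hnu⟩
  by_cases h1 : u = 1
  · rw [h1]; exact Subgroup.one_mem _
  · apply Subgroup.subset_closure
    exact mem_class_of_InE hσ ⟨huG, by rw [hnu]; exact hν.1, by rw [hnu]; exact hν.2.1,
      by rw [hnu]; exact hν.2.2⟩ h1

/-- conjugation by a unit, as a linear map -/
def conjL (g : (Module.End k M)ˣ) : Module.End k M →ₗ[k] Module.End k M where
  toFun x := (g : Module.End k M) * x * ((g⁻¹ : (Module.End k M)ˣ) : Module.End k M)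
  map_add' x y := by rw [mul_add, add_mul]
  map_smul' c x := by rw [mul_smul_comm, smul_mul_assoc, RingHom.id_apply]

theorem conjL_apply (g : (Module.End k M)ˣ) (x : Module.End k M) :
    conjL g x = (g : Module.End k M) * x * ((g⁻¹ : (Module.End k M)ˣ) : Module.End k M) := rfl

theorem conjL_injective (g : (Module.End k M)ˣ) : Function.Injective (conjL g) := by
  intro x y h
  rw [conjL_apply, conjL_apply] at h
  have h1 := congrArg (fun z => ((g⁻¹ : (Module.End k M)ˣ) : Module.End k M) * z * (g : Module.End k M)) h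
  simp only [← mul_assoc, Units.inv_mul, one_mul] at h1
  simp only [mul_assoc, Units.inv_mul, mul_one] at h1
  exact h1

theorem conjL_mem_Vset {g : (Module.End k M)ˣ} (hg : g ∈ G) {n n' ν : Module.End k M}
    (h1 : ∀ x, (g : Module.End k M) x ∈ LinearMap.range n' ↔ x ∈ LinearMap.range n)
    (h2 : ∀ x, (g : Module.End k M) x ∈ LinearMap.ker n' ↔ x ∈ LinearMap.ker n)
    (hν : ν ∈ Vset G n) : conjL g ν ∈ Vset G n' := by
  have h2' := carry_inv h2
  refine ⟨hν.1.conj hg, ?_, ?_⟩
  · rintro _ ⟨x, rfl⟩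
    rw [conjL_apply, Module.End.mul_apply, Module.End.mul_apply]
    exact (h1 _).mpr (hν.2.1 ⟨_, rfl⟩)
  · intro x hx
    have h3 := hν.2.2 ((h2' x).mpr hx)
    rw [LinearMap.mem_ker] at h3 ⊢
    rw [conjL_apply, Module.End.mul_apply, Module.End.mul_apply, h3, map_zero]

theorem finrank_Vsp_le_of_carry [FiniteDimensional k M] {g : (Module.End k M)ˣ} (hg : g ∈ G)
    {n n' : Module.End k M} (hn : n * n = 0) (hn' : n' * n' = 0)
    (h1 : ∀ x, (g : Module.End k M) x ∈ LinearMap.range n' ↔ x ∈ LinearMap.range n)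
    (h2 : ∀ x, (g : Module.End k M) x ∈ LinearMap.ker n' ↔ x ∈ LinearMap.ker n) :
    Module.finrank k (Vsp G n hn) ≤ Module.finrank k (Vsp G n' hn') := by
  have hmap : ∀ x ∈ Vsp G n hn, conjL g x ∈ Vsp G n' hn' := fun x hx => conjL_mem_Vset hg h1 h2 hx
  apply LinearMap.finrank_le_finrank_of_injective (f := (conjL g).restrict hmap)
  intro x y hxy
  apply Subtype.ext
  apply conjL_injective g
  have := congrArg Subtype.val hxy
  exact this

theorem finrank_Vsp_le_of_eq [FiniteDimensional k M] {n n' : Module.End k M} (hn : n * n = 0)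
    (hn' : n' * n' = 0) (h1 : LinearMap.range n = LinearMap.range n')
    (h2 : LinearMap.ker n = LinearMap.ker n') :
    Module.finrank k (Vsp G n hn) ≤ Module.finrank k (Vsp G n' hn') := by
  apply finrank_Vsp_le_of_carry (g := 1) G.one_mem hn hn'
  · intro x; rw [Units.val_one, Module.End.one_apply, h1]
  · intro x; rw [Units.val_one, Module.End.one_apply, h2]

end vsp

end

end Cfsg.Agent.Lib.H18.QP
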