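import Cfsg.Agent.Lib.H18.QP18

/-!
# Conjugates of `E(σ)`, existence of opposites (helper18, for S5066, S5068)
-/

set_option autoImplicit false

namespace Cfsg.Agent.Lib.H18.QP

open Polynomial

noncomputable section

universe u

section conjE

variable {k M : Type*} [Field k] [AddCommGroup M] [Module k M] {G : Subgroup (Module.End k M)ˣ}

theorem carry_conj_range (g σ : (Module.End k M)ˣ) :
    ∀ x, (g : Module.End k M) x ∈ LinearMap.range (nu (g * σ * g⁻¹)) ↔ x ∈ LinearMap.range (nu σ) := by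
  intro x
  rw [nu_conj]
  constructor
  · rintro ⟨y, hy⟩
    refine ⟨((g⁻¹ : (Module.End k M)ˣ) : Module.End k M) y, ?_⟩
    have h1 := congrArg (((g⁻¹ : (Module.End k M)ˣ) : Module.End k M)) hy
    rw [Module.End.mul_apply, Module.End.mul_apply, unit_inv_apply, unit_inv_apply] at h1
    exact h1
  · rintro ⟨y, rfl⟩
    refine ⟨(g : Module.End k M) y, ?_⟩
    rw [Module.End.mul_apply, Module.End.mul_apply, unit_inv_apply]

theorem carry_conj_ker (g σ : (Module.End k M)ˣ) :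
    ∀ x, (g : Module.End k M) x ∈ LinearMap.ker (nu (g * σ * g⁻¹)) ↔ x ∈ LinearMap.ker (nu σ) := by
  intro x
  rw [nu_conj, LinearMap.mem_ker, LinearMap.mem_ker, Module.End.mul_apply, Module.End.mul_apply,
    unit_inv_apply]
  constructor
  · intro h
    have h1 := congrArg (((g⁻¹ : (Module.End k M)ˣ) : Module.End k M)) h
    rwa [unit_inv_apply, map_zero] at h1
  · intro h; rw [h, map_zero]

theorem conjBy_E [FiniteDimensional k M] {g σ : (Module.End k M)ˣ} (hg : g ∈ G) :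
    Cfsg.conjBy (Cfsg.sameActionSubgroup G σ) g = Cfsg.sameActionSubgroup G (g * σ * g⁻¹) := by
  ext y
  rw [mem_conjBy, conj_iff hg (carry_conj_range g σ) (carry_conj_ker g σ)]
  have e : g * (g⁻¹ * y * g) * g⁻¹ = y := by group
  rw [e]

theorem E_le (σ : (Module.End k M)ˣ) : Cfsg.sameActionSubgroup G σ ≤ G := by
  unfold Cfsg.sameActionSubgroup
  rw [Subgroup.closure_le]
  intro x hx
  exact hx.1.1.1

theorem nil_swap {x y : Module.End k M} (h : IsNilpotent (x * y)) : IsNilpotent (y * x) := by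
  obtain ⟨e, he⟩ := h
  exact ⟨e + 1, by rw [mul_pow_succ_swap, he, mul_zero, zero_mul]⟩

theorem nil_conj (g : (Module.End k M)ˣ) {x : Module.End k M} (h : IsNilpotent x) :
    IsNilpotent ((g : Module.End k M) * x * ((g⁻¹ : (Module.End k M)ˣ) : Module.End k M)) := by
  obtain ⟨e, he⟩ := h
  exact ⟨e, by rw [Units.conj_pow, he, mul_zero, zero_mul]⟩

theorem not_nil_of_opp {σ τ : (Module.End k M)ˣ} (hsqσ : nu σ * nu σ = 0) (hsqτ : nu τ * nu τ = 0)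
    (hopp : Opp (nu σ) (nu τ)) (hne : nu σ ≠ 0) : ¬ IsNilpotent (nu σ * nu τ) :=
  NonNil.not_nil (p := pairOf σ τ hsqσ hsqτ) ⟨hopp.1, hopp.2⟩ hne

end conjE

section opposite

variable {k : Type u} [Field k] {M : Type u} [AddCommGroup M] [Module k M]
variable {G : Subgroup (Module.End k M)ˣ}

theorem opp_of_not_nil [FiniteDimensional k M] (hk2 : ringChar k ≠ 2) (hk3 : Nat.card k ≠ 3)
    {σ τ : (Module.End k M)ˣ} (hσ : σ ∈ Cfsg.minimalQuadraticElements G)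
    (hτ : τ ∈ Cfsg.minimalQuadraticElements G) (hnil : ¬ IsNilpotent (nu σ * nu τ)) :
    Opp (nu σ) (nu τ) := by
  have hsqσ : nu σ * nu σ = 0 := hσ.1.2.1.1
  have hsqτ : nu τ * nu τ = 0 := hτ.1.2.1.1
  obtain ⟨p, hp⟩ : ∃ p : SqPair k M, p = pairOf σ τ hsqσ hsqτ := ⟨_, rfl⟩
  have hpn : p.n = nu σ := by rw [hp]; rfl
  have hpm : p.m = nu τ := by rw [hp]; rfl
  have hq : QPair G (Cfsg.commutatorRank σ) p := by rw [hp]; exact qpair_of hσ hσ hτ
  have hNN : NonNil p :=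
    NonNil.of_PP (theoremP hk2 hk3 (minP_of hσ)) hq (by rw [hpn, hpm]; exact hnil)
  rw [← hpn, ← hpm]; exact ⟨hNN.hn, hNN.hm⟩

/-- every member of `𝒬_d` has an opposite -/
theorem exists_opposite [FiniteDimensional k M] (hk2 : ringChar k ≠ 2) (hk3 : Nat.card k ≠ 3)
    (hG : Cfsg.IsQuadraticPair G) {ρ : (Module.End k M)ˣ} (hρ : ρ ∈ Cfsg.minimalQuadraticElements G) :
    ∃ δ ∈ Cfsg.minimalQuadraticElements G, ¬ IsNilpotent (nu ρ * nu δ) := by
  by_contra hcon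
  push_neg at hcon
  obtain ⟨W, hW⟩ : ∃ W : Set (Subgroup (Module.End k M)ˣ),
      W = {A | ∃ g ∈ G, A = Cfsg.sameActionSubgroup G (g * ρ * g⁻¹)} := ⟨_, rfl⟩
  have hWG : ∀ A ∈ W, A ≤ G := by
    intro A hA
    rw [hW] at hA
    obtain ⟨g, _, rfl⟩ := hA
    exact E_le _
  have hWconj : ∀ A ∈ W, ∀ g ∈ G, Cfsg.conjBy A g ∈ W := by
    intro A hA g hg
    rw [hW] at hA ⊢
    obtain ⟨g', hg', rfl⟩ := hA
    refine ⟨g * g', G.mul_mem hg hg', ?_⟩
    rw [conjBy_E hg]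
    have e : g * (g' * ρ * g'⁻¹) * g⁻¹ = (g * g') * ρ * (g * g')⁻¹ := by group
    rw [e]
  have hWW : ∀ A ∈ W, ∀ B ∈ W, Cfsg.IsUnipotentOn (A ⊔ B) := by
    intro A hA B hB
    rw [hW] at hA hB
    obtain ⟨g₁, hg₁, rfl⟩ := hA
    obtain ⟨g₂, hg₂, rfl⟩ := hB
    have h₁ := conj_mem_minimal hg₁ hρ
    have h₂ := conj_mem_minimal hg₂ hρ
    apply caseU hk2 h₁ h₂
    intro a ha b hb
    by_contra hnil
    have hopp := opp_of_not_nil hk2 hk3 ha.1 hb.1 hnil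
    have hopp' : Opp (nu (g₁ * ρ * g₁⁻¹)) (nu (g₂ * ρ * g₂⁻¹)) :=
      hopp.congr ha.2.2.symm ha.2.1.symm hb.2.2.symm hb.2.1.symm
    have hnn := not_nil_of_opp h₁.1.2.1.1 h₂.1.2.1.1 hopp' h₁.1.2.1.2
    apply hnn
    have hδ := conj_mem_minimal (G.mul_mem (G.inv_mem hg₁) hg₂) hρ
    have h3 := hcon _ hδ
    have e : nu (g₁ * ρ * g₁⁻¹) * nu (g₂ * ρ * g₂⁻¹) =
        (g₁ : Module.End k M) * (nu ρ * nu ((g₁⁻¹ * g₂) * ρ * (g₁⁻¹ * g₂)⁻¹)) *
          ((g₁⁻¹ : (Module.End k M)ˣ) : Module.End k M) := by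
      rw [nu_conj, nu_conj, nu_conj]
      simp only [mul_inv_rev, inv_inv, Units.val_mul, mul_assoc, Units.mul_inv, mul_one]
    rw [e]
    exact nil_conj g₁ h3
  obtain ⟨hU, hnorm⟩ := Cfsg.Agent.S5061.result hWG hWW hWconj
  have hρU : ρ ∈ ⨆ A ∈ W, A := by
    have hA : Cfsg.sameActionSubgroup G ρ ∈ W := by
      rw [hW]; exact ⟨1, G.one_mem, by rw [one_mul, inv_one, mul_one]⟩
    exact (le_iSup₂ (f := fun A _ => A) (Cfsg.sameActionSubgroup G ρ) hA)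
      (Subgroup.subset_closure ⟨hρ, rfl, rfl⟩)
  obtain ⟨n, hn⟩ := Cfsg.Agent.Lib.H6.Unip.isUnipotentOn_iff.mp hU
  obtain ⟨C, hC⟩ : ∃ C : Submodule k M, C = Cfsg.Agent.Lib.H6.Unip.Fl (⨆ A ∈ W, A) (0 + 1) := ⟨_, rfl⟩
  have hC0 : C ≠ ⊥ := by
    intro h0
    have hst := Cfsg.Agent.Lib.H6.Unip.Fl_stable (H := ⨆ A ∈ W, A) (j := 0)
      (by rw [← hC, h0, Cfsg.Agent.Lib.H6.Unip.Fl_zero]) n
    rw [zero_add, hn, Cfsg.Agent.Lib.H6.Unip.Fl_zero] at hst
    obtain ⟨m, hm⟩ := hG.1.1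
    have h1 : m ∈ (⊤ : Submodule k M) := Submodule.mem_top
    rw [hst] at h1
    exact hm ((Submodule.mem_bot k).mp h1)
  have hCinv : ∀ g ∈ G, ∀ w ∈ C, (g : Module.End k M) w ∈ C := by
    intro g hg w hw
    rw [hC, Cfsg.Agent.Lib.H6.Unip.mem_Fl_succ] at hw ⊢
    intro x hx
    have hx' : g⁻¹ * x * g ∈ ⨆ A ∈ W, A := by
      have h1 := hnorm g⁻¹ (G.inv_mem hg)
      rw [← h1, mem_conjBy]
      have e : g⁻¹⁻¹ * (g⁻¹ * x * g) * g⁻¹ = x := by group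
      rw [e]; exact hx
    have h1 := hw _ hx'
    rw [Cfsg.Agent.Lib.H6.Unip.Fl_zero, Submodule.mem_bot] at h1 ⊢
    have e : Cfsg.Agent.Lib.H6.Unip.dl x ((g : Module.End k M) w) =
        (g : Module.End k M) (Cfsg.Agent.Lib.H6.Unip.dl (g⁻¹ * x * g) w) := by
      simp only [Cfsg.Agent.Lib.H6.Unip.dl_def, LinearMap.sub_apply, Module.End.one_apply, map_sub,
        Units.val_mul, Module.End.mul_apply, unit_apply_inv]
    rw [e, h1, map_zero]
  rcases hG.1.2 C hCinv with h | h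
  · exact hC0 h
  · apply hρ.1.2.1.2
    refine LinearMap.ext fun v => ?_
    have hv : v ∈ C := by rw [h]; exact Submodule.mem_top
    rw [hC, Cfsg.Agent.Lib.H6.Unip.mem_Fl_succ] at hv
    have h1 := hv ρ hρU
    rw [Cfsg.Agent.Lib.H6.Unip.Fl_zero, Submodule.mem_bot] at h1
    exact h1

end opposite

end

end Cfsg.Agent.Lib.H18.QP
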