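import Cfsg.Agent.Lib.H18.QP0
import Cfsg.Agent.Lib.H18.QP1

/-!
# The universal group `Γ ≤ SL₂(k[X])` and its action (helper18, for S5064)
-/

set_option autoImplicit false

namespace Cfsg.Agent.Lib.H18.QP

open Polynomial Matrix

noncomputable section

variable {k : Type*} [Field k]

local notation "SLX" => Matrix.SpecialLinearGroup (Fin 2) (Polynomial k)

variable (k) in
/-- The subgroup of `SL₂(k[X])` of matrices lying in the order `Λ`. -/
def GG : Subgroup SLX where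
  carrier := {g | Lam.Good (g : Matrix (Fin 2) (Fin 2) k[X])}
  mul_mem' := by
    intro a b ha hb
    exact Lam.good_mul ha hb
  one_mem' := Lam.good_one
  inv_mem' := by
    intro a ha
    refine ⟨?_, ?_⟩
    · rw [invR_00, invR_11]
      have h1 := ha.1
      rw [← neg_sub, coeff_neg, h1, neg_zero]
    · rw [invR_10, coeff_neg, ha.2, neg_zero]

theorem mem_GG {g : SLX} : g ∈ GG k ↔ Lam.Good (g : Matrix (Fin 2) (Fin 2) k[X]) := Iff.rfl

theorem uR_mem_GG (a : k[X]) : uR a ∈ GG k := by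
  refine ⟨?_, ?_⟩
  · rw [uR_00, uR_11, sub_self, coeff_zero]
  · rw [uR_10, coeff_zero]

theorem lR_mem_GG {b : k[X]} (hb : b.coeff 0 = 0) : lR b ∈ GG k := by
  refine ⟨?_, ?_⟩
  · rw [lR_00, lR_11, sub_self, coeff_zero]
  · rw [lR_10, hb]

variable {M : Type*} [AddCommGroup M] [Module k M] (p : SqPair k M)

/-- The action of `GG` on `M`. -/
def theta : ↥(GG k) →* Module.End k M where
  toFun g := p.Th (Lam.ofMat ((g : SLX) : Matrix (Fin 2) (Fin 2) k[X]))
  map_one' := by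
    show p.Th (Lam.ofMat (1 : Matrix (Fin 2) (Fin 2) k[X])) = 1
    rw [Lam.ofMat_one, SqPair.Th_one]
  map_mul' g h := by
    show p.Th (Lam.ofMat (((g : SLX) : Matrix (Fin 2) (Fin 2) k[X]) * ((h : SLX) : Matrix (Fin 2) (Fin 2) k[X]))) = _
    rw [Lam.ofMat_mul g.2 h.2, SqPair.Th_mul]

theorem theta_def (g : ↥(GG k)) :
    theta p g = p.Th (Lam.ofMat ((g : SLX) : Matrix (Fin 2) (Fin 2) k[X])) := rfl

theorem theta_of_toMat (g : ↥(GG k)) (x : Lam k)
    (h : ((g : SLX) : Matrix (Fin 2) (Fin 2) k[X]) = x.toMat) : theta p g = p.Th x := by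
  rw [theta_def, h, Lam.ofMat_toMat]

/-- The action as a homomorphism to the units. -/
def thetaU : ↥(GG k) →* (Module.End k M)ˣ := (theta p).toHomUnits

theorem thetaU_val (g : ↥(GG k)) : ((thetaU p g : (Module.End k M)ˣ) : Module.End k M) = theta p g := rfl

theorem theta_uR (c : k) : theta p ⟨uR (C c), uR_mem_GG _⟩ = 1 + c • p.n := by
  rw [theta_of_toMat p _ ⟨1, 0, C c, 0⟩]
  · simp only [SqPair.Th, SqPair.ev_one, SqPair.ev_zero, zero_mul, add_zero, SqPair.ev_C, smul_mul_assoc, one_mul]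
  · show (!![1, C c; 0, 1] : Matrix (Fin 2) (Fin 2) k[X]) = !![1 + X * 0, C c; X * 0, 1]
    apply Lam.mat_congr <;> ring

theorem lgen_coeff (c : k) : (C c * X : k[X]).coeff 0 = 0 := by simp

theorem theta_lR (c : k) : theta p ⟨lR (C c * X), lR_mem_GG (lgen_coeff c)⟩ = 1 + c • p.m := by
  rw [theta_of_toMat p _ ⟨1, 0, 0, C c⟩]
  · simp only [SqPair.Th, SqPair.ev_one, SqPair.ev_zero, zero_mul, add_zero, SqPair.ev_C, smul_mul_assoc, one_mul]
  · show (!![1, 0; C c * X, 1] : Matrix (Fin 2) (Fin 2) k[X]) = !![1 + X * 0, 0; X * C c, 1]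
    apply Lam.mat_congr <;> ring

variable (k) in
/-- The generators of `Γ`. -/
def gens : Set SLX :=
  {g | ∃ c : k, g = uR (C c)} ∪ {g | ∃ c : k, g = lR (C c * X)}

variable (k) in
/-- The universal group `Γ`. -/
def Gam : Subgroup SLX := Subgroup.closure (gens k)

theorem Gam_le_GG : Gam k ≤ GG k := by
  rw [Gam, Subgroup.closure_le]
  rintro g (⟨c, rfl⟩ | ⟨c, rfl⟩)
  · exact uR_mem_GG _
  · exact lR_mem_GG (lgen_coeff c)

theorem uR_mem_Gam (c : k) : uR (C c) ∈ Gam k := Subgroup.subset_closure (Or.inl ⟨c, rfl⟩)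
theorem lR_mem_Gam (c : k) : lR (C c * X) ∈ Gam k := Subgroup.subset_closure (Or.inr ⟨c, rfl⟩)

/-- The group generated by the two scalar families. -/
def HH : Subgroup (Module.End k M)ˣ :=
  Subgroup.closure ({u | ∃ c : k, (u : Module.End k M) = 1 + c • p.n} ∪
    {u | ∃ c : k, (u : Module.End k M) = 1 + c • p.m})

/-- The action of `Γ`. -/
def thetaG : ↥(Gam k) →* (Module.End k M)ˣ := (thetaU p).comp (Subgroup.inclusion Gam_le_GG)

theorem thetaG_val (g : ↥(Gam k)) :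
    ((thetaG p g : (Module.End k M)ˣ) : Module.End k M) = theta p ⟨g.1, Gam_le_GG g.2⟩ := rfl

theorem thetaG_mem_HH (g : ↥(Gam k)) : thetaG p g ∈ HH p := by
  obtain ⟨g, hg⟩ := g
  induction hg using Subgroup.closure_induction with
  | mem x hx =>
    rcases hx with ⟨c, rfl⟩ | ⟨c, rfl⟩
    · exact Subgroup.subset_closure (Or.inl ⟨c, by rw [thetaG_val]; exact theta_uR p c⟩)
    · exact Subgroup.subset_closure (Or.inr ⟨c, by rw [thetaG_val]; exact theta_lR p c⟩)
  | one => 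
    have : (⟨1, Subgroup.one_mem _⟩ : ↥(Gam k)) = 1 := rfl
    rw [this, map_one]; exact Subgroup.one_mem _
  | mul x y hx hy ihx ihy =>
    have : (⟨x * y, Subgroup.mul_mem _ hx hy⟩ : ↥(Gam k)) = ⟨x, hx⟩ * ⟨y, hy⟩ := rfl
    rw [this, map_mul]; exact Subgroup.mul_mem _ ihx ihy
  | inv x hx ihx =>
    have : (⟨x⁻¹, Subgroup.inv_mem _ hx⟩ : ↥(Gam k)) = ⟨x, hx⟩⁻¹ := rfl
    rw [this, map_inv]; exact Subgroup.inv_mem _ ihx

theorem thetaG_range : (thetaG p).range = HH p := by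
  apply le_antisymm
  · rintro _ ⟨g, rfl⟩
    exact thetaG_mem_HH p g
  · rw [HH, Subgroup.closure_le]
    rintro u (⟨c, hc⟩ | ⟨c, hc⟩)
    · refine ⟨⟨uR (C c), uR_mem_Gam c⟩, ?_⟩
      apply Units.ext
      rw [thetaG_val, hc]; exact theta_uR p c
    · refine ⟨⟨lR (C c * X), lR_mem_Gam c⟩, ?_⟩
      apply Units.ext
      rw [thetaG_val, hc]; exact theta_lR p c

end

end Cfsg.Agent.Lib.H18.QP
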