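import Cfsg.Agent.Lib.H18.QP19

/-!
# The spaces of a commutator of a class two pair (helper18, for S5066, S5068)
-/

set_option autoImplicit false

namespace Cfsg.Agent.Lib.H18.QP

open Polynomial

noncomputable section

universe u

section ringlemmas2

variable {R : Type*} [Ring R]

theorem ring_comm (ν μ : R) (hν : ν * ν = 0) (hμ : μ * μ = 0) (h1 : ν * μ * ν = 0) (h2 : μ * ν * μ = 0) :
    (1 + ν) * (1 + μ) * (1 - ν) * (1 - μ) = 1 + (ν * μ - μ * ν) := by
  have e : (1 + ν) * (1 + μ) * (1 - ν) * (1 - μ) = 1 + (ν * μ - μ * ν) - ν * ν - μ * μ + ν * ν * μ +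
      μ * ν * μ - ν * μ * ν - ν * (μ * μ) + ν * μ * ν * μ := by noncomm_ring
  rw [e, hν, hμ, h1, h2]
  simp only [zero_mul, mul_zero, sub_zero, add_zero]

theorem ring_conj_plus (ν μ : R) (h2 : μ * ν * μ = 0) : (1 - μ) * ν * (1 + μ) = ν + (ν * μ - μ * ν) := by
  have e : (1 - μ) * ν * (1 + μ) = ν + (ν * μ - μ * ν) - μ * ν * μ := by noncomm_ring
  rw [e, h2, sub_zero]

theorem ring_conj_minus (ν μ : R) (h2 : μ * ν * μ = 0) : (1 + μ) * ν * (1 - μ) = ν - (ν * μ - μ * ν) := by
  have e : (1 + μ) * ν * (1 - μ) = ν - (ν * μ - μ * ν) - μ * ν * μ := by noncomm_ring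
  rw [e, h2, sub_zero]

theorem ring_three (ν ω δ : R) (h0 : ν * δ * ν = 0) (hp : (ν + ω) * δ * (ν + ω) = 0)
    (hm : (ν - ω) * δ * (ν - ω) = 0) : ω * δ * ω + ω * δ * ω = 0 := by
  have e : ω * δ * ω + ω * δ * ω =
      (ν + ω) * δ * (ν + ω) + (ν - ω) * δ * (ν - ω) - (ν * δ * ν + ν * δ * ν) := by noncomm_ring
  rw [e, h0, hp, hm]; simp

theorem ring_omega_sq (ν μ : R) (hν : ν * ν = 0) (hμ : μ * μ = 0) (h1 : ν * μ * ν = 0) (h2 : μ * ν * μ = 0) :
    (ν * μ - μ * ν) * (ν * μ - μ * ν) = 0 := by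
  have e : (ν * μ - μ * ν) * (ν * μ - μ * ν) =
      ν * μ * ν * μ - ν * (μ * μ) * ν - μ * (ν * ν) * μ + μ * ν * μ * ν := by noncomm_ring
  rw [e, hν, hμ, h1, h2]
  simp only [zero_mul, mul_zero, sub_zero, add_zero]

end ringlemmas2

section spaces

variable {k M : Type*} [Field k] [AddCommGroup M] [Module k M]

/-- the commutator space of the commutator -/
def Rsp (n m : Module.End k M) : Submodule k M :=
  (LinearMap.range n ⊓ LinearMap.ker m) ⊔ (LinearMap.range m ⊓ LinearMap.ker n)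

/-- the fixed space of the commutator -/
def Ksp (n m : Module.End k M) : Submodule k M :=
  (LinearMap.ker m ⊔ LinearMap.range n) ⊓ (LinearMap.ker n ⊔ LinearMap.range m)

theorem Rsp_comm (n m : Module.End k M) : Rsp n m = Rsp m n := sup_comm _ _

theorem Ksp_comm (n m : Module.End k M) : Ksp n m = Ksp m n := inf_comm _ _

theorem Rsp_congr {n m n' m' : Module.End k M} (h1 : LinearMap.range n = LinearMap.range n')
    (h2 : LinearMap.ker n = LinearMap.ker n') (h3 : LinearMap.range m = LinearMap.range m')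
    (h4 : LinearMap.ker m = LinearMap.ker m') : Rsp n m = Rsp n' m' := by
  unfold Rsp; rw [h1, h2, h3, h4]

theorem Ksp_congr {n m n' m' : Module.End k M} (h1 : LinearMap.range n = LinearMap.range n')
    (h2 : LinearMap.ker n = LinearMap.ker n') (h3 : LinearMap.range m = LinearMap.range m')
    (h4 : LinearMap.ker m = LinearMap.ker m') : Ksp n m = Ksp n' m' := by
  unfold Ksp; rw [h1, h2, h3, h4]

theorem Rsp_le_ker_left {n m : Module.End k M} (hn : n * n = 0) : Rsp n m ≤ LinearMap.ker n := by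
  apply sup_le
  · rintro _ ⟨⟨y, rfl⟩, _⟩
    rw [LinearMap.mem_ker]; exact LinearMap.congr_fun hn y
  · exact inf_le_right

theorem range_le_Ksp_left {n m : Module.End k M} (hn : n * n = 0) : LinearMap.range n ≤ Ksp n m := by
  apply le_inf
  · exact le_sup_right
  · refine le_trans ?_ le_sup_left
    rintro _ ⟨y, rfl⟩
    rw [LinearMap.mem_ker]; exact LinearMap.congr_fun hn y

theorem range_comm_le_Rsp {ν μ : Module.End k M} (h1 : ν * μ * ν = 0) (h2 : μ * ν * μ = 0) :
    LinearMap.range (ν * μ - μ * ν) ≤ Rsp ν μ := by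
  refine le_trans (range_comm_le ν μ) (sup_le_sup (range_mul_le_inf h2) (range_mul_le_inf h1))

theorem Ksp_le_ker_comm {ν μ : Module.End k M} (h1 : ν * μ * ν = 0) (h2 : μ * ν * μ = 0) :
    Ksp ν μ ≤ LinearMap.ker (ν * μ - μ * ν) := by
  rintro x ⟨hx1, hx2⟩
  obtain ⟨k', hk', _, ⟨y, rfl⟩, e1⟩ := Submodule.mem_sup.mp hx1
  obtain ⟨k₂, hk₂, _, ⟨y', rfl⟩, e2⟩ := Submodule.mem_sup.mp hx2
  rw [LinearMap.mem_ker] at hk' hk₂
  rw [LinearMap.mem_ker, LinearMap.sub_apply]
  have a1 : (ν * μ) x = 0 := by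
    rw [← e1, map_add, Module.End.mul_apply, hk', map_zero, zero_add]
    exact LinearMap.congr_fun h1 y
  have a2 : (μ * ν) x = 0 := by
    rw [← e2, map_add, Module.End.mul_apply, hk₂, map_zero, zero_add]
    exact LinearMap.congr_fun h2 y'
  rw [a1, a2, sub_zero]

/-- the exact spaces of a commutator of maximal rank -/
theorem comm_spaces [FiniteDimensional k M] {ν μ : Module.End k M} {d : ℕ}
    (h1 : ν * μ * ν = 0) (h2 : μ * ν * μ = 0)
    (hν : Module.finrank k (LinearMap.range ν) = d) (hμ : Module.finrank k (LinearMap.range μ) = d)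
    (hω : d ≤ Module.finrank k (LinearMap.range (ν * μ - μ * ν))) :
    LinearMap.range (ν * μ - μ * ν) = Rsp ν μ ∧ LinearMap.ker (ν * μ - μ * ν) = Ksp ν μ := by
  have r1 := Submodule.finrank_mono (range_mul_le_inf h2)
  have r2 := Submodule.finrank_mono (range_mul_le_inf h1)
  have e1 := finrank_map_add_inf_ker μ (LinearMap.range ν)
  have e2 := finrank_map_add_inf_ker ν (LinearMap.range μ)
  rw [← range_mul_eq_map ν μ] at e1
  rw [← range_mul_eq_map μ ν] at e2
  have r3 : Module.finrank k (LinearMap.range (ν * μ - μ * ν)) ≤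
      Module.finrank k (LinearMap.range (ν * μ)) + Module.finrank k (LinearMap.range (μ * ν)) :=
    (Submodule.finrank_mono (range_comm_le ν μ)).trans (Submodule.finrank_add_le_finrank_add_finrank _ _)
  have r4 : Module.finrank k (Rsp ν μ) ≤
      Module.finrank k (LinearMap.range ν ⊓ LinearMap.ker μ : Submodule k M) +
        Module.finrank k (LinearMap.range μ ⊓ LinearMap.ker ν : Submodule k M) :=
    Submodule.finrank_add_le_finrank_add_finrank _ _
  have n1 := LinearMap.finrank_range_add_finrank_ker ν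
  have n2 := LinearMap.finrank_range_add_finrank_ker μ
  have n3 := LinearMap.finrank_range_add_finrank_ker (ν * μ - μ * ν)
  have s1 := Submodule.finrank_sup_add_finrank_inf_eq (LinearMap.ker μ) (LinearMap.range ν)
  have s2 := Submodule.finrank_sup_add_finrank_inf_eq (LinearMap.ker ν) (LinearMap.range μ)
  rw [inf_comm] at s1 s2
  have s3 := Submodule.finrank_sup_add_finrank_inf_eq (LinearMap.ker μ ⊔ LinearMap.range ν)
    (LinearMap.ker ν ⊔ LinearMap.range μ)
  have s4 : Module.finrank k ((LinearMap.ker μ ⊔ LinearMap.range ν) ⊔ (LinearMap.ker ν ⊔ LinearMap.range μ) :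
      Submodule k M) ≤ Module.finrank k M := Submodule.finrank_le _
  have s5 : Module.finrank k ((LinearMap.ker μ ⊔ LinearMap.range ν) ⊓ (LinearMap.ker ν ⊔ LinearMap.range μ) :
      Submodule k M) = Module.finrank k (Ksp ν μ) := rfl
  constructor
  · apply Submodule.eq_of_le_of_finrank_le (range_comm_le_Rsp h1 h2)
    omega
  · symm
    apply Submodule.eq_of_le_of_finrank_le (Ksp_le_ker_comm h1 h2)
    omega

end spaces

end

end Cfsg.Agent.Lib.H18.QP
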