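import Cfsg.Agent.Lib.H18.QP20
import Cfsg.Agent.S5073

/-!
# The commutator case for `E(σ)`, `E(τ)` (helper18, for S5066, S5068)
-/

set_option autoImplicit false

namespace Cfsg.Agent.Lib.H18.QP

open Polynomial

noncomputable section

universe u

section core

variable {k : Type u} [Field k] {M : Type u} [AddCommGroup M] [Module k M]
variable {G : Subgroup (Module.End k M)ˣ}

theorem carry_of_partner [FiniteDimensional k M] {σ τ a b : (Module.End k M)ˣ}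
    (hσ : σ ∈ Cfsg.minimalQuadraticElements G) (hτ : τ ∈ Cfsg.minimalQuadraticElements G)
    (ha : a ∈ Cfsg.sameActionClass G σ) (hb : b ∈ Cfsg.sameActionClass G τ)
    (h1 : nu a * nu b * nu a = nu a) (h2 : nu b * nu a * nu b = nu b) :
    (∀ x, ((a * b⁻¹ : (Module.End k M)ˣ) : Module.End k M) x ∈ LinearMap.range (nu τ) ↔
      x ∈ LinearMap.range (nu σ)) ∧
    (∀ x, ((a * b⁻¹ : (Module.End k M)ˣ) : Module.End k M) x ∈ LinearMap.ker (nu τ) ↔
      x ∈ LinearMap.ker (nu σ)) := by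
  have hsqa : nu a * nu a = 0 := ha.1.1.2.1.1
  have hsqb : nu b * nu b = 0 := hb.1.1.2.1.1
  have hw : ((a * b⁻¹ : (Module.End k M)ˣ) : Module.End k M) = (1 + nu a) * (1 - nu b) := by
    rw [Units.val_mul, val_inv_of_sq hsqb, val_eq_nu a]
  have hra : LinearMap.range (nu a) = LinearMap.range (nu σ) := ha.2.2
  have hka : LinearMap.ker (nu a) = LinearMap.ker (nu σ) := ha.2.1
  have hrb : LinearMap.range (nu b) = LinearMap.range (nu τ) := hb.2.2
  have hkb : LinearMap.ker (nu b) = LinearMap.ker (nu τ) := hb.2.1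
  constructor
  · apply carry_of_le
    · intro x hx
      rw [← hra] at hx
      obtain ⟨y, rfl⟩ := hx
      rw [← hrb]
      have h3 : ((a * b⁻¹ : (Module.End k M)ˣ) : Module.End k M) (nu a y) = -(nu b (nu a y)) := by
        calc ((a * b⁻¹ : (Module.End k M)ˣ) : Module.End k M) (nu a y)
            = (((a * b⁻¹ : (Module.End k M)ˣ) : Module.End k M) * nu a) y := rfl
          _ = (-(nu b * nu a)) y := by rw [hw, ring_w_nu _ _ hsqa h1]
          _ = -(nu b (nu a y)) := rfl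
      rw [h3]
      exact ⟨-(nu a y), by rw [map_neg]⟩
    · exact le_of_eq ((rank_of hσ hτ).trans (rank_of hσ hσ).symm)
  · apply carry_of_le
    · intro x hx
      rw [← hka, LinearMap.mem_ker] at hx
      rw [← hkb, LinearMap.mem_ker]
      calc nu b (((a * b⁻¹ : (Module.End k M)ˣ) : Module.End k M) x)
          = (nu b * ((a * b⁻¹ : (Module.End k M)ˣ) : Module.End k M)) x := rfl
        _ = (nu b * nu a) x := by rw [hw, ring_mu_w _ _ hsqb h2]
        _ = nu b (nu a x) := rfl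
        _ = 0 := by rw [hx, map_zero]
    · have e1 := LinearMap.finrank_range_add_finrank_ker (nu σ)
      have e2 := LinearMap.finrank_range_add_finrank_ker (nu τ)
      have e3 := (rank_of hσ hτ).trans (rank_of hσ hσ).symm
      omega

theorem finrank_Vsp_le_of_opp [FiniteDimensional k M] (hk2 : ringChar k ≠ 2) (hk3 : Nat.card k ≠ 3)
    {σ τ : (Module.End k M)ˣ} (hσ : σ ∈ Cfsg.minimalQuadraticElements G)
    (hτ : τ ∈ Cfsg.minimalQuadraticElements G) (hnil : ¬ IsNilpotent (nu σ * nu τ)) :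
    Module.finrank k (Vsp G (nu σ) hσ.1.2.1.1) ≤ Module.finrank k (Vsp G (nu τ) hτ.1.2.1.1) := by
  have hopp := opp_of_not_nil hk2 hk3 hσ hτ hnil
  have hσc : σ ∈ Cfsg.sameActionClass G σ := ⟨hσ, rfl, rfl⟩
  obtain ⟨b, hb, h1, h2⟩ := exists_partner hk2 hk3 hσ hτ hopp hσc
  obtain ⟨c1, c2⟩ := carry_of_partner hσ hτ hσc hb h1 h2
  exact finrank_Vsp_le_of_carry (G.mul_mem hσ.1.1 (G.inv_mem hb.1.1.1)) _ _ c1 c2

theorem finrank_Vsp_conj_le [FiniteDimensional k M] {g x : (Module.End k M)ˣ} (hg : g ∈ G)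
    (hsq : nu x * nu x = 0) (hsq' : nu (g * x * g⁻¹) * nu (g * x * g⁻¹) = 0) :
    Module.finrank k (Vsp G (nu (g * x * g⁻¹)) hsq') ≤ Module.finrank k (Vsp G (nu x) hsq) := by
  have c1 := carry_inv (carry_conj_range g x)
  have c2 := carry_inv (carry_conj_ker g x)
  exact finrank_Vsp_le_of_carry (G.inv_mem hg) _ _ c1 c2

/-- the commutator case -/
theorem comm_core [FiniteDimensional k M] (hk2 : ringChar k ≠ 2) (hk3 : Nat.card k ≠ 3)
    (hG : Cfsg.IsQuadraticPair G) {σ τ : (Module.End k M)ˣ}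
    (hσ : σ ∈ Cfsg.minimalQuadraticElements G) (hτ : τ ∈ Cfsg.minimalQuadraticElements G)
    (hall : ∀ a ∈ Cfsg.sameActionClass G σ, ∀ b ∈ Cfsg.sameActionClass G τ, IsNilpotent (nu a * nu b))
    (hne : ⁅Cfsg.sameActionSubgroup G σ, Cfsg.sameActionSubgroup G τ⁆ ≠ ⊥) :
    ∃ ρ ∈ Cfsg.minimalQuadraticElements G, LinearMap.range (nu ρ) = Rsp (nu σ) (nu τ) ∧
      LinearMap.ker (nu ρ) = Ksp (nu σ) (nu τ) ∧
      (∀ a ∈ Cfsg.sameActionSubgroup G σ, ∀ b ∈ Cfsg.sameActionSubgroup G τ,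
        a * b * a⁻¹ * b⁻¹ ∈ Cfsg.sameActionSubgroup G ρ) ∧
      (∀ b ∈ Cfsg.sameActionSubgroup G τ, b ≠ 1 → ∀ r ∈ Cfsg.sameActionSubgroup G ρ,
        ∃ a ∈ Cfsg.sameActionSubgroup G σ, a * b * a⁻¹ * b⁻¹ = r) := by
  have h2k : (2 : k) ≠ 0 := Ring.two_ne_zero hk2
  have hsqσ : nu σ * nu σ = 0 := hσ.1.2.1.1
  have hsqτ : nu τ * nu τ = 0 := hτ.1.2.1.1
  -- the class two relations
  have rel : ∀ a ∈ Cfsg.sameActionClass G σ, ∀ b ∈ Cfsg.sameActionClass G τ,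
      nu a * nu b * nu a = 0 ∧ nu b * nu a * nu b = 0 :=
    fun a ha b hb => class2_of_nil hk2 hσ ha.1 hb.1 (hall a ha b hb)
  -- the commutator
  have comm_val : ∀ a ∈ Cfsg.sameActionClass G σ, ∀ b ∈ Cfsg.sameActionClass G τ,
      nu (a * b * a⁻¹ * b⁻¹) = nu a * nu b - nu b * nu a := by
    intro a ha b hb
    obtain ⟨r1, r2⟩ := rel a ha b hb
    have hsa : nu a * nu a = 0 := ha.1.1.2.1.1
    have hsb : nu b * nu b = 0 := hb.1.1.2.1.1
    have h3 : ((a * b * a⁻¹ * b⁻¹ : (Module.End k M)ˣ) : Module.End k M) =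
        1 + (nu a * nu b - nu b * nu a) := by
      rw [Units.val_mul, Units.val_mul, Units.val_mul, val_inv_of_sq hsa, val_inv_of_sq hsb, val_eq_nu a,
        val_eq_nu b]
      exact ring_comm _ _ hsa hsb r1 r2
    show ((a * b * a⁻¹ * b⁻¹ : (Module.End k M)ˣ) : Module.End k M) - 1 = _
    rw [h3, add_sub_cancel_left]
  -- the spaces
  have sp : ∀ a ∈ Cfsg.sameActionClass G σ, ∀ b ∈ Cfsg.sameActionClass G τ,
      Rsp (nu a) (nu b) = Rsp (nu σ) (nu τ) ∧ Ksp (nu a) (nu b) = Ksp (nu σ) (nu τ) := by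
    intro a ha b hb
    have hra : LinearMap.range (nu a) = LinearMap.range (nu σ) := ha.2.2
    have hka : LinearMap.ker (nu a) = LinearMap.ker (nu σ) := ha.2.1
    have hrb : LinearMap.range (nu b) = LinearMap.range (nu τ) := hb.2.2
    have hkb : LinearMap.ker (nu b) = LinearMap.ker (nu τ) := hb.2.1
    exact ⟨Rsp_congr hra hka hrb hkb, Ksp_congr hra hka hrb hkb⟩
  -- a non-commuting pair
  obtain ⟨a₀, ha₀E, b₀, hb₀F, hc₀⟩ : ∃ a ∈ Cfsg.sameActionSubgroup G σ,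
      ∃ b ∈ Cfsg.sameActionSubgroup G τ, a * b * a⁻¹ * b⁻¹ ≠ 1 := by
    by_contra hcon
    push_neg at hcon
    apply hne
    rw [Subgroup.commutator_eq_bot_iff_le_centralizer]
    intro a ha
    rw [Subgroup.mem_centralizer_iff]
    intro b hb
    have h3 := hcon a ha b hb
    calc b * a = (a * b * a⁻¹ * b⁻¹)⁻¹ * (a * b) := by group
      _ = a * b := by rw [h3, inv_one, one_mul]
  have ha₀1 : a₀ ≠ 1 := by
    intro h; apply hc₀; rw [h]; group
  have hb₀1 : b₀ ≠ 1 := by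
    intro h; apply hc₀; rw [h]; group
  have ha₀ := mem_class_of_mem hσ ha₀E ha₀1
  have hb₀ := mem_class_of_mem hτ hb₀F hb₀1
  obtain ⟨ρ₀, hρ₀def⟩ : ∃ ρ₀ : (Module.End k M)ˣ, ρ₀ = a₀ * b₀ * a₀⁻¹ * b₀⁻¹ := ⟨_, rfl⟩
  have hωval : nu ρ₀ = nu a₀ * nu b₀ - nu b₀ * nu a₀ := by rw [hρ₀def]; exact comm_val a₀ ha₀ b₀ hb₀
  have hω0 : nu ρ₀ ≠ 0 := by
    intro h; apply hc₀; rw [← hρ₀def]; exact nu_eq_zero.mp h
  obtain ⟨r1, r2⟩ := rel a₀ ha₀ b₀ hb₀
  have hsa₀ : nu a₀ * nu a₀ = 0 := ha₀.1.1.2.1.1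
  have hsb₀ : nu b₀ * nu b₀ = 0 := hb₀.1.1.2.1.1
  have hρ₀G : ρ₀ ∈ G := by
    rw [hρ₀def]
    exact G.mul_mem (G.mul_mem (G.mul_mem ha₀.1.1.1 hb₀.1.1.1) (G.inv_mem ha₀.1.1.1)) (G.inv_mem hb₀.1.1.1)
  have hFρ₀ : Fam G (nu ρ₀) := by
    rw [hωval]; exact Fam.comm2 (fam_of ha₀.1.1) (fam_of hb₀.1.1) hsa₀ hsb₀ r1 r2
  have hsqρ₀ : nu ρ₀ * nu ρ₀ = 0 := by
    rw [hωval]; exact ring_omega_sq _ _ hsa₀ hsb₀ r1 r2
  have hrkρ₀ : Module.finrank k (LinearMap.range (nu ρ₀)) ≤ Cfsg.commutatorRank σ := by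
    rw [hωval, ← rank_of hσ ha₀.1]
    exact rank_comm_le r2
  have hρ₀ : ρ₀ ∈ Cfsg.minimalQuadraticElements G := mem_minimal_of hσ hρ₀G hFρ₀ hsqρ₀ hω0 hrkρ₀
  have hrkρ₀' : Cfsg.commutatorRank σ ≤ Module.finrank k (LinearMap.range (nu a₀ * nu b₀ - nu b₀ * nu a₀)) := by
    rw [← hωval]; exact minP_of hσ _ hsqρ₀ hω0 hFρ₀
  obtain ⟨hR, hK⟩ := comm_spaces r1 r2 (rank_of hσ ha₀.1) (rank_of hσ hb₀.1) hrkρ₀'
  rw [← hωval, (sp a₀ ha₀ b₀ hb₀).1] at hR
  rw [← hωval, (sp a₀ ha₀ b₀ hb₀).2] at hK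
  -- membership of commutators
  have hmem : ∀ a ∈ Cfsg.sameActionClass G σ, ∀ b ∈ Cfsg.sameActionClass G τ,
      nu a * nu b - nu b * nu a ∈ Vset G (nu ρ₀) := by
    intro a ha b hb
    obtain ⟨q1, q2⟩ := rel a ha b hb
    refine ⟨Fam.comm2 (fam_of ha.1.1) (fam_of hb.1.1) ha.1.1.2.1.1 hb.1.1.2.1.1 q1 q2, ?_, ?_⟩
    · rw [hR, ← (sp a ha b hb).1]; exact range_comm_le_Rsp q1 q2
    · rw [hK, ← (sp a ha b hb).2]; exact Ksp_le_ker_comm q1 q2
  -- the dimension inequality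
  have hdim : Module.finrank k (Vsp G (nu ρ₀) hsqρ₀) ≤ Module.finrank k (Vsp G (nu σ) hsqσ) := by
    obtain ⟨δ, hδ, hδnil⟩ := exists_opposite hk2 hk3 hG hρ₀
    have hb₀G : b₀ ∈ G := hb₀.1.1.1
    have hap : b₀⁻¹ * a₀ * b₀⁻¹⁻¹ ∈ Cfsg.minimalQuadraticElements G :=
      conj_mem_minimal (G.inv_mem hb₀G) ha₀.1
    have ham : b₀ * a₀ * b₀⁻¹ ∈ Cfsg.minimalQuadraticElements G := conj_mem_minimal hb₀G ha₀.1
    have hnup : nu (b₀⁻¹ * a₀ * b₀⁻¹⁻¹) = nu a₀ + nu ρ₀ := by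
      rw [nu_conj, inv_inv, val_inv_of_sq hsb₀, val_eq_nu b₀, hωval]
      exact ring_conj_plus _ _ r2
    have hnum : nu (b₀ * a₀ * b₀⁻¹) = nu a₀ - nu ρ₀ := by
      rw [nu_conj, val_inv_of_sq hsb₀, val_eq_nu b₀, hωval]
      exact ring_conj_minus _ _ r2
    have hex : ∃ a' ∈ Cfsg.minimalQuadraticElements G, ∃ hsq' : nu a' * nu a' = 0,
        ¬ IsNilpotent (nu a' * nu δ) ∧
        Module.finrank k (Vsp G (nu a') hsq') ≤ Module.finrank k (Vsp G (nu σ) hsqσ) := by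
      have hle0 : Module.finrank k (Vsp G (nu a₀) hsa₀) ≤ Module.finrank k (Vsp G (nu σ) hsqσ) :=
        finrank_Vsp_le_of_eq hsa₀ hsqσ ha₀.2.2 ha₀.2.1
      by_cases n0 : IsNilpotent (nu a₀ * nu δ)
      · by_cases np : IsNilpotent (nu (b₀⁻¹ * a₀ * b₀⁻¹⁻¹) * nu δ)
        · by_cases nm : IsNilpotent (nu (b₀ * a₀ * b₀⁻¹) * nu δ)
          · exfalso
            have c0 := (class2_of_nil hk2 hσ ha₀.1 hδ n0).1
            have cp := (class2_of_nil hk2 hσ hap hδ np).1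
            have cm := (class2_of_nil hk2 hσ ham hδ nm).1
            rw [hnup] at cp
            rw [hnum] at cm
            have h3 := ring_three _ _ _ c0 cp cm
            have h4 : nu ρ₀ * nu δ * nu ρ₀ = 0 := by
              have h5 : (2 : k) • (nu ρ₀ * nu δ * nu ρ₀) = 0 := by rw [two_smul]; exact h3
              exact (smul_eq_zero.mp h5).resolve_left h2k
            apply hδnil
            exact ⟨2, by rw [pow_two, ← mul_assoc, h4, zero_mul]⟩
          · exact ⟨_, ham, ham.1.2.1.1, nm, (finrank_Vsp_conj_le hb₀G hsa₀ _).trans hle0⟩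
        · exact ⟨_, hap, hap.1.2.1.1, np, (finrank_Vsp_conj_le (G.inv_mem hb₀G) hsa₀ _).trans hle0⟩
      · exact ⟨a₀, ha₀.1, hsa₀, n0, hle0⟩
    obtain ⟨a', ha', hsq', hnil', hle'⟩ := hex
    have l1 := finrank_Vsp_le_of_opp hk2 hk3 hρ₀ hδ hδnil
    have l2 := finrank_Vsp_le_of_opp hk2 hk3 hδ ha' (fun h => hnil' (nil_swap h))
    exact l1.trans (l2.trans hle')
  refine ⟨ρ₀, hρ₀, hR, hK, ?_, ?_⟩
  · intro a haE b hbF
    by_cases ha1 : a = 1
    · rw [ha1]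
      have e : (1 : (Module.End k M)ˣ) * b * 1⁻¹ * b⁻¹ = 1 := by group
      rw [e]; exact Subgroup.one_mem _
    by_cases hb1 : b = 1
    · rw [hb1]
      have e : a * (1 : (Module.End k M)ˣ) * a⁻¹ * 1⁻¹ = 1 := by group
      rw [e]; exact Subgroup.one_mem _
    have ha := mem_class_of_mem hσ haE ha1
    have hb := mem_class_of_mem hτ hbF hb1
    by_cases hc1 : a * b * a⁻¹ * b⁻¹ = 1
    · rw [hc1]; exact Subgroup.one_mem _
    apply Subgroup.subset_closure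
    have hcG : a * b * a⁻¹ * b⁻¹ ∈ G :=
      G.mul_mem (G.mul_mem (G.mul_mem ha.1.1.1 hb.1.1.1) (G.inv_mem ha.1.1.1)) (G.inv_mem hb.1.1.1)
    have h3 := hmem a ha b hb
    rw [← comm_val a ha b hb] at h3
    exact mem_class_of_InE hρ₀ ⟨hcG, h3.1, h3.2.1, h3.2.2⟩ hc1
  · intro b hbF hb1 r hr
    have hb := mem_class_of_mem hτ hbF hb1
    obtain ⟨adL, hadL⟩ : ∃ adL : Module.End k M →ₗ[k] Module.End k M,
        adL = LinearMap.mulRight k (nu b) - LinearMap.mulLeft k (nu b) := ⟨_, rfl⟩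
    have hadL_apply : ∀ ν, adL ν = ν * nu b - nu b * ν := by
      intro ν; rw [hadL]; rfl
    have hmap : ∀ ν ∈ Vsp G (nu σ) hsqσ, adL ν ∈ Vsp G (nu ρ₀) hsqρ₀ := by
      intro ν hν
      by_cases hν0 : ν = 0
      · rw [hν0, map_zero]; exact Submodule.zero_mem _
      obtain ⟨a, haE, hνa⟩ := exists_of_mem_Vset hσ hν
      have ha1 : a ≠ 1 := by
        intro h; apply hν0; rw [← hνa, h, nu_one]
      have ha := mem_class_of_mem hσ haE ha1
      rw [hadL_apply, ← hνa]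
      exact hmem a ha b hb
    have hinj : Function.Injective (adL.restrict hmap) := by
      rw [injective_iff_map_eq_zero]
      rintro ⟨ν, hν⟩ h0
      have h1 : adL ν = 0 := congrArg Subtype.val h0
      apply Subtype.ext
      show ν = 0
      by_contra hν0
      obtain ⟨a, haE, hνa⟩ := exists_of_mem_Vset hσ hν
      have ha1 : a ≠ 1 := by
        intro h; apply hν0; rw [← hνa, h, nu_one]
      have ha := mem_class_of_mem hσ haE ha1
      rw [hadL_apply, ← hνa, sub_eq_zero] at h1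
      have hab : a * b = b * a := by
        apply Units.ext
        rw [Units.val_mul, Units.val_mul, val_eq_nu a, val_eq_nu b]
        simp only [add_mul, mul_add, one_mul, mul_one, h1]
        abel
      exact hne (Cfsg.Agent.S5073.key_a hk2 hk3 hσ hτ ha hb hab)
    have hle1 : Module.finrank k (Vsp G (nu σ) hsqσ) ≤ Module.finrank k (Vsp G (nu ρ₀) hsqρ₀) :=
      LinearMap.finrank_le_finrank_of_injective hinj
    have hsurj : Function.Surjective (adL.restrict hmap) :=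
      (LinearMap.injective_iff_surjective_of_finrank_eq_finrank (le_antisymm hle1 hdim)).mp hinj
    obtain ⟨⟨ν, hν⟩, hνr⟩ := hsurj ⟨nu r, nu_mem_Vset hsqρ₀ hr⟩
    have hνr' : adL ν = nu r := congrArg Subtype.val hνr
    obtain ⟨a, haE, hνa⟩ := exists_of_mem_Vset hσ hν
    refine ⟨a, haE, ?_⟩
    rw [hadL_apply, ← hνa] at hνr'
    by_cases ha1 : a = 1
    · rw [ha1, nu_one, zero_mul, mul_zero, sub_zero] at hνr'
      have hr1 : r = 1 := nu_eq_zero.mp hνr'.symm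
      rw [ha1, hr1]; group
    · have ha := mem_class_of_mem hσ haE ha1
      have h3 := comm_val a ha b hb
      rw [hνr'] at h3
      apply Units.ext
      rw [val_eq_nu (a * b * a⁻¹ * b⁻¹), h3, ← val_eq_nu r]

end core

end

end Cfsg.Agent.Lib.H18.QP
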