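import Cfsg.Agent.Lib.H18.QP21

/-!
# The commutator case: group theoretic conclusions (helper18, for S5066, S5068)
-/

set_option autoImplicit false

namespace Cfsg.Agent.Lib.H18.QP

open Polynomial

noncomputable section

universe u

section grp2

variable {Γ : Type*} [Group Γ]

/-- the commutator subgroup of the join of two abelian subgroups whose commutator is central -/
theorem commutator_sup_le {E F : Subgroup Γ} (hE : ∀ x ∈ E, ∀ y ∈ E, x * y = y * x)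
    (hF : ∀ x ∈ F, ∀ y ∈ F, x * y = y * x)
    (hc : ∀ c ∈ ⁅E, F⁆, ∀ x ∈ E ⊔ F, c * x = x * c) : ⁅E ⊔ F, E ⊔ F⁆ ≤ ⁅E, F⁆ := by
  have hconj : ∀ c ∈ ⁅E, F⁆, ∀ x ∈ E ⊔ F, x * c * x⁻¹ = c := by
    intro c hcL x hx
    rw [← hc c hcL x hx, mul_assoc, mul_inv_cancel, mul_one]
  have hX : E ⊔ F = Subgroup.closure ((E : Set Γ) ∪ (F : Set Γ)) := by
    rw [Subgroup.closure_union, Subgroup.closure_eq, Subgroup.closure_eq]
  -- generators against the group
  have hA : ∀ e ∈ ((E : Set Γ) ∪ (F : Set Γ)), ∀ y ∈ E ⊔ F, e * y * e⁻¹ * y⁻¹ ∈ ⁅E, F⁆ := by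
    intro e he y hy
    have hy' := hy
    rw [hX] at hy'
    induction hy' using Subgroup.closure_induction with
    | mem y hyg =>
      rcases he with he | he <;> rcases hyg with hyg | hyg
      · have e1 : e * y * e⁻¹ * y⁻¹ = 1 := by
          rw [hE e he y hyg]; group
        rw [e1]; exact Subgroup.one_mem _
      · rw [← commutatorElement_def]; exact Subgroup.commutator_mem_commutator he hyg
      · have e1 : e * y * e⁻¹ * y⁻¹ = (y * e * y⁻¹ * e⁻¹)⁻¹ := by group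
        rw [e1, ← commutatorElement_def]
        exact Subgroup.inv_mem _ (Subgroup.commutator_mem_commutator hyg he)
      · have e1 : e * y * e⁻¹ * y⁻¹ = 1 := by
          rw [hF e he y hyg]; group
        rw [e1]; exact Subgroup.one_mem _
    | one =>
      have e1 : e * 1 * e⁻¹ * (1 : Γ)⁻¹ = 1 := by group
      rw [e1]; exact Subgroup.one_mem _
    | mul y₁ y₂ h₁ h₂ ih₁ ih₂ =>
      have h₁' : y₁ ∈ E ⊔ F := by rw [hX]; exact h₁
      have h₂' : y₂ ∈ E ⊔ F := by rw [hX]; exact h₂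
      have e1 : e * (y₁ * y₂) * e⁻¹ * (y₁ * y₂)⁻¹ =
          (e * y₁ * e⁻¹ * y₁⁻¹) * (y₁ * (e * y₂ * e⁻¹ * y₂⁻¹) * y₁⁻¹) := by group
      rw [e1, hconj _ (ih₂ h₂') y₁ h₁']
      exact Subgroup.mul_mem _ (ih₁ h₁') (ih₂ h₂')
    | inv y₁ h₁ ih₁ =>
      have h₁' : y₁ ∈ E ⊔ F := by rw [hX]; exact h₁
      have e1 : e * y₁⁻¹ * e⁻¹ * y₁⁻¹⁻¹ = y₁⁻¹ * (e * y₁ * e⁻¹ * y₁⁻¹)⁻¹ * y₁⁻¹⁻¹ := by group
      rw [e1, hconj _ (Subgroup.inv_mem _ (ih₁ h₁')) y₁⁻¹ (Subgroup.inv_mem _ h₁')]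
      exact Subgroup.inv_mem _ (ih₁ h₁')
  have hB : ∀ x ∈ E ⊔ F, ∀ y ∈ E ⊔ F, x * y * x⁻¹ * y⁻¹ ∈ ⁅E, F⁆ := by
    intro x hx y hy
    have hx' := hx
    rw [hX] at hx'
    induction hx' using Subgroup.closure_induction with
    | mem x hxg => exact hA x hxg y hy
    | one =>
      have e1 : (1 : Γ) * y * 1⁻¹ * y⁻¹ = 1 := by group
      rw [e1]; exact Subgroup.one_mem _
    | mul x₁ x₂ h₁ h₂ ih₁ ih₂ =>
      have h₁' : x₁ ∈ E ⊔ F := by rw [hX]; exact h₁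
      have h₂' : x₂ ∈ E ⊔ F := by rw [hX]; exact h₂
      have e1 : (x₁ * x₂) * y * (x₁ * x₂)⁻¹ * y⁻¹ =
          (x₁ * (x₂ * y * x₂⁻¹ * y⁻¹) * x₁⁻¹) * (x₁ * y * x₁⁻¹ * y⁻¹) := by group
      rw [e1, hconj _ (ih₂ h₂') x₁ h₁']
      exact Subgroup.mul_mem _ (ih₂ h₂') (ih₁ h₁')
    | inv x₁ h₁ ih₁ =>
      have h₁' : x₁ ∈ E ⊔ F := by rw [hX]; exact h₁
      have e1 : x₁⁻¹ * y * x₁⁻¹⁻¹ * y⁻¹ = x₁⁻¹ * (x₁ * y * x₁⁻¹ * y⁻¹)⁻¹ * x₁⁻¹⁻¹ := by group
      rw [e1, hconj _ (Subgroup.inv_mem _ (ih₁ h₁')) x₁⁻¹ (Subgroup.inv_mem _ h₁')]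
      exact Subgroup.inv_mem _ (ih₁ h₁')
  rw [Subgroup.commutator_le]
  intro x hx y hy
  rw [commutatorElement_def]
  exact hB x hx y hy

/-- two abelian subgroups whose commutator is central generate a group of class at most two -/
theorem class_two_of_central {E F : Subgroup Γ} (hE : ∀ x ∈ E, ∀ y ∈ E, x * y = y * x)
    (hF : ∀ x ∈ F, ∀ y ∈ F, x * y = y * x)
    (hc : ∀ c ∈ ⁅E, F⁆, ∀ x ∈ E ⊔ F, c * x = x * c) : ⁅⁅E ⊔ F, E ⊔ F⁆, E ⊔ F⁆ = ⊥ := by
  have h1 := commutator_sup_le hE hF hc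
  have h2 : ⁅⁅E, F⁆, E ⊔ F⁆ = ⊥ := by
    rw [Subgroup.commutator_eq_bot_iff_le_centralizer]
    intro c hcL
    rw [Subgroup.mem_centralizer_iff]
    intro x hx
    exact (hc c hcL x hx).symm
  rw [eq_bot_iff, ← h2]
  exact Subgroup.commutator_mono h1 le_rfl

end grp2

section UL

variable {k M : Type*} [Field k] [AddCommGroup M] [Module k M]

/-- the action pattern of the elements of `U(L)` -/
def UL (Ks Rs : Submodule k M) (g : (Module.End k M)ˣ) : Prop :=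
  (∀ m, nu g m ∈ Ks) ∧ (∀ m ∈ Ks, nu g m ∈ Rs) ∧ (∀ m ∈ Rs, nu g m = 0)

theorem UL.one {Ks Rs : Submodule k M} : UL Ks Rs 1 := by
  refine ⟨?_, ?_, ?_⟩
  · intro m; rw [nu_one]; exact Submodule.zero_mem _
  · intro m _; rw [nu_one]; exact Submodule.zero_mem _
  · intro m _; rw [nu_one]; rfl

theorem UL.mul {Ks Rs : Submodule k M} {g h : (Module.End k M)ˣ}
    (hg : UL Ks Rs g) (hh : UL Ks Rs h) : UL Ks Rs (g * h) := by
  have e : ∀ m, nu (g * h) m = nu g m + nu h m + nu g (nu h m) := by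
    intro m; rw [nu_mul]; rfl
  refine ⟨?_, ?_, ?_⟩
  · intro m
    rw [e]
    exact add_mem (add_mem (hg.1 m) (hh.1 m)) (hg.1 _)
  · intro m hm
    rw [e]
    have h1 := hh.2.1 m hm
    rw [hg.2.2 _ h1, add_zero]
    exact add_mem (hg.2.1 m hm) h1
  · intro m hm
    rw [e, hg.2.2 m hm, hh.2.2 m hm, map_zero, add_zero, add_zero]

theorem UL.inv {Ks Rs : Submodule k M} (hRK : Rs ≤ Ks) {g : (Module.End k M)ˣ}
    (hg : UL Ks Rs g) : UL Ks Rs g⁻¹ := by
  have h3 : nu g * nu g * nu g = 0 := by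
    refine LinearMap.ext fun m => ?_
    exact hg.2.2 _ (hg.2.1 _ (hg.1 m))
  have hinv : ((g⁻¹ : (Module.End k M)ˣ) : Module.End k M) = 1 - nu g + nu g * nu g := by
    have h4 : (g : Module.End k M) * (1 - nu g + nu g * nu g) = 1 := by
      rw [val_eq_nu g]
      have : (1 + nu g) * (1 - nu g + nu g * nu g) = 1 + nu g * nu g * nu g := by noncomm_ring
      rw [this, h3, add_zero]
    calc ((g⁻¹ : (Module.End k M)ˣ) : Module.End k M)
        = ((g⁻¹ : (Module.End k M)ˣ) : Module.End k M) * ((g : Module.End k M) * (1 - nu g + nu g * nu g)) := by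
          rw [h4, mul_one]
      _ = 1 - nu g + nu g * nu g := by rw [← mul_assoc, Units.inv_mul, one_mul]
  have e : ∀ m, nu g⁻¹ m = -(nu g m) + nu g (nu g m) := by
    intro m
    have : nu g⁻¹ = -nu g + nu g * nu g := by
      unfold nu at hinv ⊢
      rw [hinv]; abel
    rw [this]; rfl
  refine ⟨?_, ?_, ?_⟩
  · intro m
    rw [e]
    exact add_mem (neg_mem (hg.1 m)) (hg.1 _)
  · intro m hm
    rw [e]
    exact add_mem (neg_mem (hg.2.1 m hm)) (hg.2.1 _ (hg.1 m))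
  · intro m hm
    rw [e, hg.2.2 m hm, map_zero, neg_zero, add_zero]

theorem UL.of_closure {Ks Rs : Submodule k M} (hRK : Rs ≤ Ks) {T : Set (Module.End k M)ˣ}
    (hT : ∀ g ∈ T, UL Ks Rs g) {g : (Module.End k M)ˣ} (hg : g ∈ Subgroup.closure T) : UL Ks Rs g := by
  induction hg using Subgroup.closure_induction with
  | mem x hx => exact hT x hx
  | one => exact UL.one
  | mul x y _ _ hx hy => exact hx.mul hy
  | inv x _ hx => exact hx.inv hRK

variable {G : Subgroup (Module.End k M)ˣ}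

theorem fixed_E {ρ : (Module.End k M)ˣ} (hρ : ρ ∈ Cfsg.minimalQuadraticElements G) :
    Cfsg.fixedSubmodule (Cfsg.sameActionSubgroup G ρ) = LinearMap.ker (nu ρ) := by
  ext v
  simp only [Cfsg.fixedSubmodule, Submodule.mem_iInf, LinearMap.mem_ker]
  constructor
  · intro h
    exact h ρ (Subgroup.subset_closure ⟨hρ, rfl, rfl⟩)
  · intro hv g hg
    have h1 := (InE.of_mem hρ.1.2.1.1 hg).2.2.2
    exact LinearMap.mem_ker.mp (h1 (LinearMap.mem_ker.mpr hv))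

theorem comm_E {ρ : (Module.End k M)ˣ} (hρ : ρ ∈ Cfsg.minimalQuadraticElements G) :
    Cfsg.commutatorSubmodule (Cfsg.sameActionSubgroup G ρ) = LinearMap.range (nu ρ) := by
  apply le_antisymm
  · unfold Cfsg.commutatorSubmodule
    apply iSup₂_le
    intro g hg
    exact (InE.of_mem hρ.1.2.1.1 hg).2.2.1
  · unfold Cfsg.commutatorSubmodule
    exact le_iSup₂ (f := fun g (_ : g ∈ Cfsg.sameActionSubgroup G ρ) =>
      LinearMap.range ((g : Module.End k M) - 1)) ρ (Subgroup.subset_closure ⟨hρ, rfl, rfl⟩)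

theorem mul_eq_zero_of_range_le_ker {x y : Module.End k M} (h : LinearMap.range y ≤ LinearMap.ker x) :
    x * y = 0 := by
  refine LinearMap.ext fun m => ?_
  exact LinearMap.mem_ker.mp (h ⟨m, rfl⟩)

/-- the generators of `E(σ)` act as in `U(L)` -/
theorem UL_of_class {σ τ a : (Module.End k M)ˣ} (hsqσ : nu σ * nu σ = 0)
    (ha : a ∈ Cfsg.sameActionClass G σ) (hrel : nu τ * nu a * nu τ = 0) :
    UL (Ksp (nu σ) (nu τ)) (Rsp (nu σ) (nu τ)) a := by
  have hra : LinearMap.range (nu a) = LinearMap.range (nu σ) := ha.2.2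
  have hka : LinearMap.ker (nu a) = LinearMap.ker (nu σ) := ha.2.1
  refine ⟨?_, ?_, ?_⟩
  · intro m
    apply range_le_Ksp_left hsqσ
    rw [← hra]; exact ⟨m, rfl⟩
  · rintro m ⟨_, hm2⟩
    obtain ⟨k₂, hk₂, _, ⟨y, rfl⟩, e2⟩ := Submodule.mem_sup.mp hm2
    rw [← hka, LinearMap.mem_ker] at hk₂
    rw [← e2, map_add, hk₂, zero_add]
    apply Submodule.mem_sup_left
    refine ⟨?_, ?_⟩
    · rw [SetLike.mem_coe, ← hra]; exact ⟨_, rfl⟩
    · rw [SetLike.mem_coe, LinearMap.mem_ker]; exact LinearMap.congr_fun hrel y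
  · intro m hm
    have h1 := Rsp_le_ker_left (m := nu τ) hsqσ hm
    rw [← hka, LinearMap.mem_ker] at h1
    exact h1

end UL

end

end Cfsg.Agent.Lib.H18.QP
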