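import Cfsg.Agent.Lib.H18.QP22

/-!
# The commutator case: the final statement (helper18, for S5066, S5068)
-/

set_option autoImplicit false

namespace Cfsg.Agent.Lib.H18.QP

open Polynomial
open scoped commutatorElement

noncomputable section

universe u

section prelim

variable {k M : Type*} [Field k] [AddCommGroup M] [Module k M]

theorem commute_of_mul_zero {c a : (Module.End k M)ˣ} (h1 : nu c * nu a = 0) (h2 : nu a * nu c = 0) :
    c * a = a * c := by
  apply Units.ext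
  rw [Units.val_mul, Units.val_mul, val_eq_nu c, val_eq_nu a]
  simp only [add_mul, mul_add, one_mul, mul_one, h1, h2]
  abel

theorem Rsp_le_Ksp {n m : Module.End k M} (hn : n * n = 0) (hm : m * m = 0) : Rsp n m ≤ Ksp n m := by
  apply sup_le
  · exact le_trans inf_le_left (range_le_Ksp_left hn)
  · refine le_trans inf_le_left ?_
    rw [Ksp_comm]
    exact range_le_Ksp_left hm

/-- in a unipotent group the products `(a-1)(b-1)` are nilpotent -/
theorem nil_of_unipotent {H : Subgroup (Module.End k M)ˣ} (hu : Cfsg.IsUnipotentOn H)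
    {a b : (Module.End k M)ˣ} (ha : a ∈ H) (hb : b ∈ H) : IsNilpotent (nu a * nu b) := by
  obtain ⟨n, hn⟩ := Cfsg.Agent.Lib.H6.Unip.isUnipotentOn_iff.mp hu
  have key : ∀ j : ℕ, ∀ m ∈ Cfsg.Agent.Lib.H6.Unip.Fl H j, ((nu a * nu b) ^ j) m = 0 := by
    intro j
    induction j with
    | zero =>
      intro m hm
      rw [Cfsg.Agent.Lib.H6.Unip.Fl_zero, Submodule.mem_bot] at hm
      rw [hm, map_zero]
    | succ j ih =>
      intro m hm
      have h1 : nu b m ∈ Cfsg.Agent.Lib.H6.Unip.Fl H j :=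
        Cfsg.Agent.Lib.H6.Unip.mem_Fl_succ.mp hm b hb
      have h2 : nu a (nu b m) ∈ Cfsg.Agent.Lib.H6.Unip.Fl H j :=
        Cfsg.Agent.Lib.H6.Unip.dl_mem_self ha h1
      have e : ((nu a * nu b) ^ (j + 1)) m = ((nu a * nu b) ^ j) (nu a (nu b m)) := by
        rw [pow_succ]; rfl
      rw [e]
      exact ih _ h2
  refine ⟨n, LinearMap.ext fun m => ?_⟩
  exact key n m (by rw [hn]; exact Submodule.mem_top)

end prelim

section ringlemma3

variable {R : Type*} [Ring R]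

theorem ring_not_class_two (ν μ : R) (hν : ν * ν = 0) (hμ : μ * μ = 0) (h1 : ν * μ * ν = ν)
    (hcomm : ((1 + ν) * (1 + μ) * (1 - ν) * (1 - μ)) * (1 + ν) =
      (1 + ν) * ((1 + ν) * (1 + μ) * (1 - ν) * (1 - μ))) : ν = 0 := by
  have s1 : ν * (1 + ν) = ν := by rw [mul_add, mul_one, hν, add_zero]
  have s2 : (1 - μ) * ν = ν - μ * ν := by rw [sub_mul, one_mul]
  have s3 : (1 - ν) * (ν - μ * ν) = ν + ν - μ * ν := by
    rw [sub_mul, one_mul, mul_sub, hν, ← mul_assoc, h1]; abel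
  have s4 : (1 + μ) * (ν + ν - μ * ν) = ν + ν + μ * ν := by
    rw [add_mul, one_mul, mul_sub, mul_add, ← mul_assoc, hμ, zero_mul]; abel
  have s5 : ν * (ν + ν + μ * ν) = ν := by
    rw [mul_add, mul_add, hν, ← mul_assoc, h1]; abel
  have key : ν * ((1 + ν) * (1 + μ) * (1 - ν) * (1 - μ)) * ν = ν := by
    calc ν * ((1 + ν) * (1 + μ) * (1 - ν) * (1 - μ)) * ν
        = ν * (1 + ν) * ((1 + μ) * ((1 - ν) * ((1 - μ) * ν))) := by simp only [mul_assoc]
      _ = ν := by rw [s1, s2, s3, s4, s5]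
  have h3 : ν * (((1 + ν) * (1 + μ) * (1 - ν) * (1 - μ)) * (1 + ν)) =
      ν * ((1 + ν) * ((1 + ν) * (1 + μ) * (1 - ν) * (1 - μ))) := by rw [hcomm]
  have h4 : ν * ((1 + ν) * ((1 + ν) * (1 + μ) * (1 - ν) * (1 - μ))) =
      ν * ((1 + ν) * (1 + μ) * (1 - ν) * (1 - μ)) := by
    rw [← mul_assoc ν (1 + ν), s1]
  rw [h4, ← mul_assoc, mul_add, mul_one, key] at h3
  -- h3 : ν * c + ν = ν * c
  have h5 := add_left_cancel (a := ν * ((1 + ν) * (1 + μ) * (1 - ν) * (1 - μ))) (b := ν) (c := 0)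
    (by rw [add_zero]; exact h3)
  exact h5

end ringlemma3

section final

variable {k : Type u} [Field k] {M : Type u} [AddCommGroup M] [Module k M]
variable {G : Subgroup (Module.End k M)ˣ}

/-- a rank one pair of the two classes is not of class two -/
theorem not_class_two [FiniteDimensional k M] (hk2 : ringChar k ≠ 2) (hk3 : Nat.card k ≠ 3)
    {σ τ : (Module.End k M)ˣ} (hσ : σ ∈ Cfsg.minimalQuadraticElements G)
    (hτ : τ ∈ Cfsg.minimalQuadraticElements G)
    (h2 : ⁅⁅Cfsg.sameActionSubgroup G σ ⊔ Cfsg.sameActionSubgroup G τ,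
      Cfsg.sameActionSubgroup G σ ⊔ Cfsg.sameActionSubgroup G τ⁆,
      Cfsg.sameActionSubgroup G σ ⊔ Cfsg.sameActionSubgroup G τ⁆ = ⊥) :
    ∀ a ∈ Cfsg.sameActionClass G σ, ∀ b ∈ Cfsg.sameActionClass G τ, IsNilpotent (nu a * nu b) := by
  intro a ha b hb
  by_contra hnil
  have hopp := opp_of_not_nil hk2 hk3 ha.1 hb.1 hnil
  obtain ⟨b', hb', h1, _⟩ := exists_partner hk2 hk3 ha.1 hb.1 hopp ⟨ha.1, rfl, rfl⟩
  have hb'F : b' ∈ Cfsg.sameActionSubgroup G τ := by
    rw [← subgroup_eq_of_mem hb]; exact Subgroup.subset_closure hb'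
  have haE : a ∈ Cfsg.sameActionSubgroup G σ := Subgroup.subset_closure ha
  have haX : a ∈ Cfsg.sameActionSubgroup G σ ⊔ Cfsg.sameActionSubgroup G τ := Subgroup.mem_sup_left haE
  have hbX : b' ∈ Cfsg.sameActionSubgroup G σ ⊔ Cfsg.sameActionSubgroup G τ := Subgroup.mem_sup_right hb'F
  have h3 : ⁅⁅a, b'⁆, a⁆ ∈ (⊥ : Subgroup (Module.End k M)ˣ) := by
    rw [← h2]
    exact Subgroup.commutator_mem_commutator (Subgroup.commutator_mem_commutator haX hbX) haX
  rw [Subgroup.mem_bot, commutatorElement_eq_one_iff_mul_comm, commutatorElement_def] at h3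
  have hsa : nu a * nu a = 0 := ha.1.1.2.1.1
  have hsb : nu b' * nu b' = 0 := hb'.1.1.2.1.1
  have h4 := congrArg (fun x : (Module.End k M)ˣ => (x : Module.End k M)) h3
  simp only [Units.val_mul] at h4
  rw [val_inv_of_sq hsa, val_inv_of_sq hsb, val_eq_nu a, val_eq_nu b'] at h4
  exact ha.1.1.2.1.2 (ring_not_class_two _ _ hsa hsb h1 h4)

theorem comm_case [FiniteDimensional k M] (hk2 : ringChar k ≠ 2) (hk3 : Nat.card k ≠ 3)
    (hG : Cfsg.IsQuadraticPair G) {σ τ : (Module.End k M)ˣ}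
    (hσ : σ ∈ Cfsg.minimalQuadraticElements G) (hτ : τ ∈ Cfsg.minimalQuadraticElements G)
    (hall : ∀ a ∈ Cfsg.sameActionClass G σ, ∀ b ∈ Cfsg.sameActionClass G τ, IsNilpotent (nu a * nu b))
    (hne : ⁅Cfsg.sameActionSubgroup G σ, Cfsg.sameActionSubgroup G τ⁆ ≠ ⊥) :
    ⁅Cfsg.sameActionSubgroup G σ, Cfsg.sameActionSubgroup G τ⁆ ∈ Cfsg.quadraticRootSubgroups G ∧
    (∀ e ∈ Cfsg.sameActionSubgroup G σ, e ≠ 1 →
      Subgroup.closure ((fun f : (Module.End k M)ˣ => e * f * e⁻¹ * f⁻¹) ''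
        (Cfsg.sameActionSubgroup G τ : Set (Module.End k M)ˣ)) =
        ⁅Cfsg.sameActionSubgroup G σ, Cfsg.sameActionSubgroup G τ⁆) ∧
    (∀ f ∈ Cfsg.sameActionSubgroup G τ, f ≠ 1 →
      Subgroup.closure ((fun e : (Module.End k M)ˣ => e * f * e⁻¹ * f⁻¹) ''
        (Cfsg.sameActionSubgroup G σ : Set (Module.End k M)ˣ)) =
        ⁅Cfsg.sameActionSubgroup G σ, Cfsg.sameActionSubgroup G τ⁆) ∧
    ⁅Cfsg.sameActionSubgroup G σ ⊔ Cfsg.sameActionSubgroup G τ,
      Cfsg.sameActionSubgroup G σ ⊔ Cfsg.sameActionSubgroup G τ⁆ ≠ ⊥ ∧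
    ⁅⁅Cfsg.sameActionSubgroup G σ ⊔ Cfsg.sameActionSubgroup G τ,
      Cfsg.sameActionSubgroup G σ ⊔ Cfsg.sameActionSubgroup G τ⁆,
      Cfsg.sameActionSubgroup G σ ⊔ Cfsg.sameActionSubgroup G τ⁆ = ⊥ ∧
    ((Cfsg.sameActionSubgroup G σ ⊔ Cfsg.sameActionSubgroup G τ : Subgroup (Module.End k M)ˣ) :
      Set (Module.End k M)ˣ) ⊆
      Cfsg.quadraticUnipotentCore G ⁅Cfsg.sameActionSubgroup G σ, Cfsg.sameActionSubgroup G τ⁆ := by
  have hsqσ : nu σ * nu σ = 0 := hσ.1.2.1.1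
  have hsqτ : nu τ * nu τ = 0 := hτ.1.2.1.1
  obtain ⟨ρ, hρ, hR, hK, hc1, hc2⟩ := comm_core hk2 hk3 hG hσ hτ hall hne
  have hall' : ∀ b ∈ Cfsg.sameActionClass G τ, ∀ a ∈ Cfsg.sameActionClass G σ,
      IsNilpotent (nu b * nu a) := fun b hb a ha => nil_swap (hall a ha b hb)
  have hne' : ⁅Cfsg.sameActionSubgroup G τ, Cfsg.sameActionSubgroup G σ⁆ ≠ ⊥ := by
    rw [Subgroup.commutator_comm]; exact hne
  obtain ⟨ρ', hρ', hR', hK', _, hc2'⟩ := comm_core hk2 hk3 hG hτ hσ hall' hne'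
  have hEρ : Cfsg.sameActionSubgroup G ρ' = Cfsg.sameActionSubgroup G ρ := by
    apply subgroup_eq_of_mem
    refine ⟨hρ', ?_, ?_⟩
    · show LinearMap.ker (nu ρ') = LinearMap.ker (nu ρ)
      rw [hK', hK, Ksp_comm]
    · show LinearMap.range (nu ρ') = LinearMap.range (nu ρ)
      rw [hR', hR, Rsp_comm]
  have hσc : σ ∈ Cfsg.sameActionClass G σ := ⟨hσ, rfl, rfl⟩
  have hτc : τ ∈ Cfsg.sameActionClass G τ := ⟨hτ, rfl, rfl⟩
  have hτE : τ ∈ Cfsg.sameActionSubgroup G τ := Subgroup.subset_closure hτc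
  have hτ1 : τ ≠ 1 := fun h => hτ.1.2.1.2 (by rw [h, Units.val_one, sub_self])
  have hL : ⁅Cfsg.sameActionSubgroup G σ, Cfsg.sameActionSubgroup G τ⁆ = Cfsg.sameActionSubgroup G ρ := by
    apply le_antisymm
    · rw [Subgroup.commutator_le]
      intro a ha b hb
      rw [commutatorElement_def]
      exact hc1 a ha b hb
    · intro r hr
      obtain ⟨a, ha, hab⟩ := hc2 τ hτE hτ1 r hr
      rw [← hab, ← commutatorElement_def]
      exact Subgroup.commutator_mem_commutator ha hτE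
  -- centrality
  have hcσ : ∀ c ∈ Cfsg.sameActionSubgroup G ρ, ∀ a ∈ Cfsg.sameActionSubgroup G σ, c * a = a * c := by
    intro c hc a ha
    have hc' := InE.of_mem hρ.1.2.1.1 hc
    have ha' := InE.of_mem hsqσ ha
    apply commute_of_mul_zero
    · apply mul_eq_zero_of_range_le_ker
      refine le_trans ha'.2.2.1 (le_trans (range_le_Ksp_left (m := nu τ) hsqσ) ?_)
      rw [← hK]; exact hc'.2.2.2
    · apply mul_eq_zero_of_range_le_ker
      refine le_trans hc'.2.2.1 ?_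
      rw [hR]
      exact le_trans (Rsp_le_ker_left (m := nu τ) hsqσ) ha'.2.2.2
  have hcτ : ∀ c ∈ Cfsg.sameActionSubgroup G ρ, ∀ b ∈ Cfsg.sameActionSubgroup G τ, c * b = b * c := by
    intro c hc b hb
    have hc' := InE.of_mem hρ.1.2.1.1 hc
    have hb' := InE.of_mem hsqτ hb
    apply commute_of_mul_zero
    · apply mul_eq_zero_of_range_le_ker
      refine le_trans hb'.2.2.1 (le_trans (range_le_Ksp_left (m := nu σ) hsqτ) ?_)
      rw [Ksp_comm, ← hK]; exact hc'.2.2.2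
    · apply mul_eq_zero_of_range_le_ker
      refine le_trans hc'.2.2.1 ?_
      rw [hR, Rsp_comm]
      exact le_trans (Rsp_le_ker_left (m := nu σ) hsqτ) hb'.2.2.2
  have hcent : ∀ c ∈ ⁅Cfsg.sameActionSubgroup G σ, Cfsg.sameActionSubgroup G τ⁆,
      ∀ x ∈ Cfsg.sameActionSubgroup G σ ⊔ Cfsg.sameActionSubgroup G τ, c * x = x * c := by
    intro c hc x hx
    rw [hL] at hc
    have hle : Cfsg.sameActionSubgroup G σ ⊔ Cfsg.sameActionSubgroup G τ ≤
        Subgroup.centralizer ({c} : Set (Module.End k M)ˣ) := by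
      apply sup_le
      · intro a ha
        rw [Subgroup.mem_centralizer_iff]
        intro h hh
        rw [Set.mem_singleton_iff] at hh
        rw [hh]; exact hcσ c hc a ha
      · intro b hb
        rw [Subgroup.mem_centralizer_iff]
        intro h hh
        rw [Set.mem_singleton_iff] at hh
        rw [hh]; exact hcτ c hc b hb
    exact (Subgroup.mem_centralizer_iff.mp (hle hx)) c rfl
  have hcommE : ∀ x ∈ Cfsg.sameActionSubgroup G σ, ∀ y ∈ Cfsg.sameActionSubgroup G σ, x * y = y * x :=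
    fun x hx y hy => comm_of_mem hσ hx hy
  have hcommF : ∀ x ∈ Cfsg.sameActionSubgroup G τ, ∀ y ∈ Cfsg.sameActionSubgroup G τ, x * y = y * x :=
    fun x hx y hy => comm_of_mem hτ hx hy
  -- the action pattern
  have hX : Cfsg.sameActionSubgroup G σ ⊔ Cfsg.sameActionSubgroup G τ =
      Subgroup.closure (Cfsg.sameActionClass G σ ∪ Cfsg.sameActionClass G τ) := by
    unfold Cfsg.sameActionSubgroup; rw [Subgroup.closure_union]
  have hUL : ∀ g ∈ Cfsg.sameActionSubgroup G σ ⊔ Cfsg.sameActionSubgroup G τ,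
      UL (Ksp (nu σ) (nu τ)) (Rsp (nu σ) (nu τ)) g := by
    intro g hg
    rw [hX] at hg
    apply UL.of_closure (Rsp_le_Ksp hsqσ hsqτ) _ hg
    intro x hx
    rcases hx with hx | hx
    · exact UL_of_class hsqσ hx (class2_of_nil hk2 hσ hx.1 hτ (hall x hx τ hτc)).2
    · have := UL_of_class (τ := σ) hsqτ hx (class2_of_nil hk2 hσ hσ hx.1 (hall σ hσc x hx)).1
      rwa [Ksp_comm, Rsp_comm] at this
  refine ⟨⟨ρ, hρ, hL⟩, ?_, ?_, ?_, class_two_of_central hcommE hcommF hcent, ?_⟩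
  · intro e heE he1
    rw [hL]
    apply le_antisymm
    · rw [Subgroup.closure_le]
      rintro _ ⟨f, hf, rfl⟩
      exact hc1 e heE f hf
    · intro r hr
      have hr' : r⁻¹ ∈ Cfsg.sameActionSubgroup G ρ' := by rw [hEρ]; exact Subgroup.inv_mem _ hr
      obtain ⟨f, hf, hfe⟩ := hc2' e heE he1 r⁻¹ hr'
      apply Subgroup.subset_closure
      refine ⟨f, hf, ?_⟩
      show e * f * e⁻¹ * f⁻¹ = r
      have e1 : e * f * e⁻¹ * f⁻¹ = (f * e * f⁻¹ * e⁻¹)⁻¹ := by group
      rw [e1, hfe, inv_inv]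
  · intro f hfF hf1
    rw [hL]
    apply le_antisymm
    · rw [Subgroup.closure_le]
      rintro _ ⟨e, he, rfl⟩
      exact hc1 e he f hfF
    · intro r hr
      obtain ⟨a, ha, hab⟩ := hc2 f hfF hf1 r hr
      exact Subgroup.subset_closure ⟨a, ha, hab⟩
  · intro h
    apply hne
    rw [eq_bot_iff, ← h]
    exact Subgroup.commutator_mono le_sup_left le_sup_right
  · intro g hg
    rw [SetLike.mem_coe] at hg
    have hUg := hUL g hg
    have e : ∀ m, (g : Module.End k M) m - m = nu g m := by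
      intro m; unfold nu; rw [LinearMap.sub_apply, Module.End.one_apply]
    refine ⟨sup_le (E_le σ) (E_le τ) hg, ?_, ?_, ?_, ?_⟩
    · rw [Subgroup.mem_normalizer_iff]
      intro h
      constructor
      · intro hh
        have h1 := hcent h hh g hg
        have e1 : g * h * g⁻¹ = h := by rw [← h1, mul_assoc, mul_inv_cancel, mul_one]
        rw [e1]; exact hh
      · intro hh
        have h1 := hcent _ hh g⁻¹ (Subgroup.inv_mem _ hg)
        have e1 : h = g * h * g⁻¹ := by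
          calc h = g⁻¹ * (g * h * g⁻¹) * g := by group
            _ = (g * h * g⁻¹) * g⁻¹ * g := by rw [h1]
            _ = g * h * g⁻¹ := by group
        rw [e1]; exact hh
    · intro m
      rw [hL, fixed_E hρ, hK, e]
      exact hUg.1 m
    · intro m hm
      rw [hL, fixed_E hρ, hK] at hm
      rw [hL, comm_E hρ, hR, e]
      exact hUg.2.1 m hm
    · intro m hm
      rw [hL, comm_E hρ, hR] at hm
      have h1 := hUg.2.2 m hm
      rw [← e] at h1
      exact sub_eq_zero.mp h1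

end final

end

end Cfsg.Agent.Lib.H18.QP
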