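import Cfsg.Agent.Lib.H18.QP23
import Cfsg.Agent.S5016

/-!
# The `SL₂` inside a rank one pair `E(σ), E(τ)` (helper18, for S5062)
-/

set_option autoImplicit false

namespace Cfsg.Agent.Lib.H18.QP

open Polynomial

noncomputable section

universe u

section lower

variable {k M : Type*} [Field k] [AddCommGroup M] [Module k M]

local notation "SLX" => Matrix.SpecialLinearGroup (Fin 2) (Polynomial k)
local notation "MX" => Matrix (Fin 2) (Fin 2) (Polynomial k)

variable {p : SqPair k M}

theorem lcoeff (c : k) (f : k[X]) : (C c * (X * f)).coeff 0 = 0 := by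
  simp [mul_coeff_zero]

/-- the action of an element congruent to `l(c X f)` -/
theorem NonNil.theta_of_lR (h : NonNil p) {F : k[X]} (hmem : ∀ f, f ∈ annN p ↔ F ∣ f)
    (g : ↥(GG k)) (hX : X ∣ ((g : SLX) : MX) 1 1 - 1) (c : k) (f : k[X])
    (hΦ : Matrix.SpecialLinearGroup.map (AdjoinRoot.mk F) (g : SLX) =
      lR (AdjoinRoot.mk F (C c * (X * f)))) :
    theta p g = 1 + c • (p.ev f * p.m) := by
  have h2 := h.theta_congr hmem g ⟨lR (C c * (X * f)), lR_mem_GG (lcoeff c f)⟩ (by rw [hΦ, map_lR]) (by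
    show X ∣ ((g : SLX) : MX) 1 1 - ((lR (C c * (X * f)) : SLX) : MX) 1 1
    rw [lR_11]; exact hX)
  rw [h2, theta_of_toMat p _ ⟨1, 0, 0, C c * f⟩]
  · simp only [SqPair.Th, SqPair.ev_one, SqPair.ev_zero, zero_mul, add_zero, SqPair.ev_mul, SqPair.ev_C,
      smul_mul_assoc, one_mul]
  · show (!![1, 0; C c * (X * f), 1] : Matrix (Fin 2) (Fin 2) k[X]) = !![1 + X * 0, 0; X * (C c * f), 1]
    apply Lam.mat_congr <;> ring

end lower

section sl2

variable {k : Type u} [Field k] {M : Type u} [AddCommGroup M] [Module k M]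
variable {G : Subgroup (Module.End k M)ˣ} {d : ℕ}

theorem card_gt_three (hk2 : ringChar k ≠ 2) (hk3 : Nat.card k ≠ 3) (K : Type*) [Field K] [Algebra k K] :
    3 < ENat.card K := by
  obtain ⟨s, hs0, hs1⟩ := exists_s hk2 hk3
  have h2 : (2 : k) ≠ 0 := Ring.two_ne_zero hk2
  have h1n : (1 : k) ≠ -1 := by
    intro h
    apply h2
    have : (1 : k) + 1 = 0 := by nth_rewrite 1 [h]; ring
    rw [← this]; ring
  have hs1' : s ≠ 1 := by intro h; apply hs1; rw [h]; ring
  have hs2' : s ≠ -1 := by intro h; apply hs1; rw [h]; ring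
  obtain ⟨g, hg⟩ : ∃ g : Fin 4 → k, g = ![0, 1, -1, s] := ⟨_, rfl⟩
  have hinj : Function.Injective (algebraMap k K) := (algebraMap k K).injective
  have hgi : Function.Injective g := by
    intro i j hij
    rw [hg] at hij
    fin_cases i <;> fin_cases j <;>
      simp [hs0, hs0.symm, hs1', hs1'.symm, hs2', hs2'.symm, h1n, h1n.symm] at hij ⊢
  have hfi : Function.Injective (algebraMap k K ∘ g) := hinj.comp hgi
  have h4 := ENat.card_le_card_of_injective hfi
  rw [ENat.card_eq_coe_fintype_card, Fintype.card_fin] at h4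
  refine lt_of_lt_of_le ?_ h4
  norm_num

end sl2

end

end Cfsg.Agent.Lib.H18.QP
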