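import Cfsg.Agent.Lib.H18.QP24

/-!
# The `SL₂`-pair inside a rank one pair `E(σ), E(τ)` (helper18, for S5062)
-/

set_option autoImplicit false

namespace Cfsg.Agent.Lib.H18.QP

open Polynomial

noncomputable section

universe u

section sl2

variable {k : Type u} [Field k] {M : Type u} [AddCommGroup M] [Module k M]
variable {G : Subgroup (Module.End k M)ˣ} {d : ℕ}

local notation "SLX" => Matrix.SpecialLinearGroup (Fin 2) (Polynomial k)
local notation "MX" => Matrix (Fin 2) (Fin 2) (Polynomial k)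

/-- the homomorphism from `SL₂(K)` attached to a non-nilpotent pair -/
theorem exists_sl2_hom [FiniteDimensional k M] (hk2 : ringChar k ≠ 2) (hk3 : Nat.card k ≠ 3)
    (hMin : MinP G d) (p : SqPair k M) (hq : QPair G d p) (hnil : ¬ IsNilpotent (p.n * p.m)) :
    ∃ (K : Type u) (_ : Field K) (_ : Algebra k K)
      (ψ : Matrix.SpecialLinearGroup (Fin 2) K →* (Module.End k M)ˣ), Function.Injective ψ ∧
      (∀ t : K, ∃ f : k[X], ((ψ (uR t) : (Module.End k M)ˣ) : Module.End k M) = 1 + p.ev f * p.n ∧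
        Fam G (p.ev f * p.n) ∧ ψ (uR t) ∈ G) ∧
      (∀ t : K, ∃ f : k[X], ((ψ (lR t) : (Module.End k M)ˣ) : Module.End k M) = 1 + p.ev f * p.m ∧
        Fam G (p.ev f * p.m) ∧ ψ (lR t) ∈ G) := by
  obtain ⟨pp, hirr, hppX, hNN, hmem⟩ := irr_gen hk2 hk3 hMin p hq hnil
  haveI : Fact (Irreducible pp) := ⟨hirr⟩
  obtain ⟨red, hred⟩ : ∃ red : ↥(Gam k) →* Matrix.SpecialLinearGroup (Fin 2) (AdjoinRoot pp),
      red = (Matrix.SpecialLinearGroup.map (AdjoinRoot.mk pp)).comp (Gam k).subtype := ⟨_, rfl⟩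
  have hred_apply : ∀ g : ↥(Gam k), red g = Matrix.SpecialLinearGroup.map (AdjoinRoot.mk pp) (g : SLX) := by
    intro g; rw [hred]; rfl
  have hsurj : Function.Surjective red := by
    intro y
    have h1 : y ∈ (Gam k).map (Matrix.SpecialLinearGroup.map (AdjoinRoot.mk pp)) := by
      rw [red_surj hk2 hk3 hppX]; exact Subgroup.mem_top _
    obtain ⟨g, hg, rfl⟩ := h1
    exact ⟨⟨g, hg⟩, hred_apply _⟩
  have hker : (thetaG p).ker = red.ker := by
    ext g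
    rw [MonoidHom.mem_ker, MonoidHom.mem_ker, Units.ext_iff, thetaG_val, Units.val_one,
      hNN.theta_eq_one_iff hmem ⟨g.1, Gam_le_GG g.2⟩ (Gam_X_dvd g.2), hred]
    rfl
  obtain ⟨ψ, hψdef⟩ : ∃ ψ : Matrix.SpecialLinearGroup (Fin 2) (AdjoinRoot pp) →* (Module.End k M)ˣ,
      ψ = red.liftOfRightInverse (Function.surjInv hsurj) (Function.rightInverse_surjInv hsurj)
        ⟨thetaG p, le_of_eq hker.symm⟩ := ⟨_, rfl⟩
  have hψ : ∀ g : ↥(Gam k), ψ (red g) = thetaG p g := by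
    intro g
    rw [hψdef]
    exact MonoidHom.liftOfRightInverse_comp_apply red _ _ ⟨thetaG p, le_of_eq hker.symm⟩ g
  have hcop : IsCoprime pp X := hirr.coprime_iff_not_dvd.mpr hppX
  obtain ⟨u, v, huv⟩ := hcop
  refine ⟨AdjoinRoot pp, inferInstance, inferInstance, ψ, ?_, ?_, ?_⟩
  · rw [injective_iff_map_eq_one]
    intro y hy
    obtain ⟨g, rfl⟩ := hsurj y
    rw [hψ] at hy
    have h1 : g ∈ (thetaG p).ker := hy
    rw [hker] at h1
    exact h1
  · intro t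
    obtain ⟨f, rfl⟩ := AdjoinRoot.mk_surjective t
    have key : ∀ c : k, ∃ w ∈ G, ∃ g : ↥(Gam k), red g = uR (AdjoinRoot.mk pp (C c * f)) ∧
        thetaG p g = w ∧ (w : Module.End k M) = 1 + c • (p.ev f * p.n) := by
      intro c
      obtain ⟨g, hg⟩ := hsurj (uR (AdjoinRoot.mk pp (C c * f)))
      refine ⟨thetaG p g, hq.thetaG_mem g, g, hg, rfl, ?_⟩
      rw [thetaG_val]
      apply hNN.theta_of_uR hmem ⟨g.1, Gam_le_GG g.2⟩ (Gam_X_dvd g.2) c f
      rw [← hg, hred_apply]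
    refine ⟨f, ?_, ?_, ?_⟩
    · obtain ⟨w, _, g, hg, hgw, hw⟩ := key 1
      rw [C_1, one_mul] at hg
      rw [← hg, hψ, hgw, hw, one_smul]
    · intro c
      obtain ⟨w, hwG, _, _, _, hw⟩ := key c
      exact ⟨w, hwG, hw⟩
    · obtain ⟨w, hwG, g, hg, hgw, _⟩ := key 1
      rw [C_1, one_mul] at hg
      rw [← hg, hψ, hgw]
      exact hwG
  · intro t
    obtain ⟨f₀, rfl⟩ := AdjoinRoot.mk_surjective t
    obtain ⟨f, hf⟩ : ∃ f : k[X], f = v * f₀ := ⟨_, rfl⟩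
    have hXf : AdjoinRoot.mk pp (X * f) = AdjoinRoot.mk pp f₀ := by
      have e1 : X * f = f₀ - pp * (u * f₀) := by
        rw [hf]
        have : f₀ = (u * pp + v * X) * f₀ := by rw [huv, one_mul]
        nth_rewrite 2 [this]
        ring
      rw [e1, map_sub, map_mul, AdjoinRoot.mk_self, zero_mul, sub_zero]
    have key : ∀ c : k, ∃ w ∈ G, ∃ g : ↥(Gam k), red g = lR (AdjoinRoot.mk pp (C c * (X * f))) ∧
        thetaG p g = w ∧ (w : Module.End k M) = 1 + c • (p.ev f * p.m) := by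
      intro c
      obtain ⟨g, hg⟩ := hsurj (lR (AdjoinRoot.mk pp (C c * (X * f))))
      refine ⟨thetaG p g, hq.thetaG_mem g, g, hg, rfl, ?_⟩
      rw [thetaG_val]
      apply hNN.theta_of_lR hmem ⟨g.1, Gam_le_GG g.2⟩ (Gam_X_dvd g.2) c f
      rw [← hg, hred_apply]
    refine ⟨f, ?_, ?_, ?_⟩
    · obtain ⟨w, _, g, hg, hgw, hw⟩ := key 1
      rw [C_1, one_mul, hXf] at hg
      rw [← hg, hψ, hgw, hw, one_smul]
    · intro c
      obtain ⟨w, hwG, _, _, _, hw⟩ := key c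
      exact ⟨w, hwG, hw⟩
    · obtain ⟨w, hwG, g, hg, hgw, _⟩ := key 1
      rw [C_1, one_mul, hXf] at hg
      rw [← hg, hψ, hgw]
      exact hwG

theorem mem_E_of_val [FiniteDimensional k M] {a w : (Module.End k M)ˣ} {ν : Module.End k M}
    (ha : a ∈ Cfsg.minimalQuadraticElements G) (hw : (w : Module.End k M) = 1 + ν) (hwG : w ∈ G)
    (hF : Fam G ν) (hr : LinearMap.range ν ≤ LinearMap.range (nu a))
    (hk : LinearMap.ker (nu a) ≤ LinearMap.ker ν) : w ∈ Cfsg.sameActionSubgroup G a := by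
  have hnu : nu w = ν := by unfold nu; rw [hw, add_sub_cancel_left]
  by_cases h1 : w = 1
  · rw [h1]; exact Subgroup.one_mem _
  · apply Subgroup.subset_closure
    exact mem_class_of_InE ha ⟨hwG, by rw [hnu]; exact hF, by rw [hnu]; exact hr, by rw [hnu]; exact hk⟩ h1

/-- a non-nilpotent pair contains an `SL₂`-pair -/
theorem psl2_of_not_nil [FiniteDimensional k M] (hk2 : ringChar k ≠ 2) (hk3 : Nat.card k ≠ 3)
    {σ a b : (Module.End k M)ˣ} (hσ : σ ∈ Cfsg.minimalQuadraticElements G)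
    (ha : a ∈ Cfsg.minimalQuadraticElements G) (hb : b ∈ Cfsg.minimalQuadraticElements G)
    (hnil : ¬ IsNilpotent (nu a * nu b)) :
    ∃ A₀ B₀ : Subgroup (Module.End k M)ˣ, A₀ ≤ Cfsg.sameActionSubgroup G a ∧
      B₀ ≤ Cfsg.sameActionSubgroup G b ∧
      ∃ (k₁ : Type u) (_ : Field k₁), 3 < ENat.card k₁ ∧ Cfsg.IsPSL2PairOver k₁ A₀ B₀ := by
  obtain ⟨p, hp⟩ : ∃ p : SqPair k M, p = pairOf a b ha.1.2.1.1 hb.1.2.1.1 := ⟨_, rfl⟩
  have hpn : p.n = nu a := by rw [hp]; rfl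
  have hpm : p.m = nu b := by rw [hp]; rfl
  have hq : QPair G (Cfsg.commutatorRank σ) p := by rw [hp]; exact qpair_of hσ ha hb
  have hnil' : ¬ IsNilpotent (p.n * p.m) := by rw [hpn, hpm]; exact hnil
  obtain ⟨K, hKf, hKa, ψ, hinj, hup, hlo⟩ := exists_sl2_hom hk2 hk3 (minP_of hσ) p hq hnil'
  refine ⟨(Cfsg.upperUnipotentSL2 K).map ψ, (Cfsg.lowerUnipotentSL2 K).map ψ, ?_, ?_, K, hKf,
    card_gt_three hk2 hk3 K, ψ, ?_, ?_, rfl, rfl⟩
  · rintro _ ⟨g, hg, rfl⟩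
    have e1 := Cfsg.Agent.Lib.H25.SL2.eq_up_of_mem hg
    have e2 : g = uR ((g : Matrix (Fin 2) (Fin 2) K) 0 1) := e1
    rw [e2]
    obtain ⟨f, hval, hF, hG⟩ := hup ((g : Matrix (Fin 2) (Fin 2) K) 0 1)
    apply mem_E_of_val ha hval hG hF
    · rw [← hpn, p.ev_n]
      rintro _ ⟨x, rfl⟩
      exact ⟨_, rfl⟩
    · rw [← hpn]
      intro x hx
      rw [LinearMap.mem_ker] at hx ⊢
      rw [Module.End.mul_apply, hx, map_zero]
  · rintro _ ⟨g, hg, rfl⟩
    have e1 := Cfsg.Agent.Lib.H25.SL2.eq_lo_of_mem hg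
    have e2 : g = lR ((g : Matrix (Fin 2) (Fin 2) K) 1 0) := e1
    rw [e2]
    obtain ⟨f, hval, hF, hG⟩ := hlo ((g : Matrix (Fin 2) (Fin 2) K) 1 0)
    apply mem_E_of_val hb hval hG hF
    · rw [← hpm, p.ev_m]
      rintro _ ⟨x, rfl⟩
      exact ⟨_, rfl⟩
    · rw [← hpm]
      intro x hx
      rw [LinearMap.mem_ker] at hx ⊢
      rw [Module.End.mul_apply, hx, map_zero]
  · rw [MonoidHom.range_eq_map, ← Cfsg.Agent.S5016.sup_eq_top, Subgroup.map_sup, sup_comm]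
  · rw [(MonoidHom.ker_eq_bot_iff ψ).mpr hinj]
    exact bot_le

end sl2

end

end Cfsg.Agent.Lib.H18.QP
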