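import Cfsg.Agent.Lib.H18.QP25
import Cfsg.Agent.Lib.H6.RootMap

/-!
# `Σ` is a set of abstract root subgroups of `G₀` (helper18, for S5062)
-/

set_option autoImplicit false

namespace Cfsg.Agent.Lib.H18.QP

open Polynomial
open scoped commutatorElement

noncomputable section

universe u

section family

variable {H : Type*} [Group H] {S : Set (Subgroup H)}

/-- a variant of helper6's `isRootSubgroupSet_img'` asking for invariance under `G0 S` only -/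
theorem isRootSubgroupSet_img_of_G0
    (hcomm : ∀ A ∈ S, IsMulCommutative A) (hne : ∀ A ∈ S, A ≠ ⊥)
    (hconj : ∀ A ∈ S, ∀ g ∈ Cfsg.Agent.Lib.H6.RootSub.G0 S, Cfsg.conjBy A g ∈ S)
    (hpair : ∀ A ∈ S, ∀ B ∈ S, ⁅A, B⁆ = ⊥ ∨ Cfsg.IsRankOnePair A B ∨ Cfsg.RootCommutatorCase S A B) :
    Cfsg.IsRootSubgroupSet (Cfsg.Agent.Lib.H6.RootSub.img S) := by
  refine ⟨?_, ?_, Cfsg.Agent.Lib.H6.RootSub.iSup_img, ?_, ?_⟩
  · rintro _ ⟨A, hA, rfl⟩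
    exact Cfsg.Agent.Lib.H6.RootSub.isMulCommutative_subgroupOf _ (hcomm A hA)
  · rintro _ ⟨A, hA, rfl⟩
    exact Cfsg.Agent.Lib.H6.RootSub.subgroupOf_ne_bot _ (Cfsg.Agent.Lib.H6.RootSub.le_G0 hA) (hne A hA)
  · rintro _ ⟨A, hA, rfl⟩ g
    show Cfsg.conjBy (A.subgroupOf (Cfsg.Agent.Lib.H6.RootSub.G0 S)) g ∈ Cfsg.Agent.Lib.H6.RootSub.img S
    rw [Cfsg.Agent.Lib.H6.RootSub.conjBy_subgroupOf]
    exact Cfsg.Agent.Lib.H6.RootSub.mem_img (hconj A hA _ g.2)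
  · rintro _ ⟨A, hA, rfl⟩ _ ⟨B, hB, rfl⟩
    rcases hpair A hA B hB with h | h | h
    · left; exact Cfsg.Agent.Lib.H6.RootSub.commutator_subgroupOf_eq_bot _ h
    · right; left
      exact Cfsg.Agent.Lib.H6.RootSub.isRankOnePair_subgroupOf _ (Cfsg.Agent.Lib.H6.RootSub.le_G0 hA)
        (Cfsg.Agent.Lib.H6.RootSub.le_G0 hB) h
    · right; right
      exact Cfsg.Agent.Lib.H6.RootSub.rootCommutatorCase_subgroupOf _ (Cfsg.Agent.Lib.H6.RootSub.le_G0 hA)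
        (Cfsg.Agent.Lib.H6.RootSub.le_G0 hB) h

end family

section main

variable {k : Type u} [Field k] {M : Type u} [AddCommGroup M] [Module k M]
variable {G : Subgroup (Module.End k M)ˣ}

theorem E_ne_bot {σ : (Module.End k M)ˣ} (hσ : σ ∈ Cfsg.minimalQuadraticElements G) :
    Cfsg.sameActionSubgroup G σ ≠ ⊥ := by
  intro h
  have h1 : σ ∈ Cfsg.sameActionSubgroup G σ := Subgroup.subset_closure ⟨hσ, rfl, rfl⟩
  rw [h, Subgroup.mem_bot] at h1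
  exact hσ.1.2.1.2 (by rw [h1, Units.val_one, sub_self])

theorem commCase_of_nil [FiniteDimensional k M] (hk2 : ringChar k ≠ 2) (hk3 : Nat.card k ≠ 3)
    (hG : Cfsg.IsQuadraticPair G) {σ τ : (Module.End k M)ˣ}
    (hσ : σ ∈ Cfsg.minimalQuadraticElements G) (hτ : τ ∈ Cfsg.minimalQuadraticElements G)
    (hall : ∀ a ∈ Cfsg.sameActionClass G σ, ∀ b ∈ Cfsg.sameActionClass G τ, IsNilpotent (nu a * nu b))
    (hne : ⁅Cfsg.sameActionSubgroup G σ, Cfsg.sameActionSubgroup G τ⁆ ≠ ⊥) :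
    Cfsg.RootCommutatorCase (Cfsg.quadraticRootSubgroups G) (Cfsg.sameActionSubgroup G σ)
      (Cfsg.sameActionSubgroup G τ) := by
  obtain ⟨c1, c2, c3, _, c5, _⟩ := comm_case hk2 hk3 hG hσ hτ hall hne
  refine ⟨c1, ?_, c2, c3⟩
  intro c hc x hx
  have h3 : ⁅c, x⁆ ∈ (⊥ : Subgroup (Module.End k M)ˣ) := by
    rw [← c5]
    exact Subgroup.commutator_mem_commutator (Subgroup.commutator_mono le_sup_left le_sup_right hc) hx
  rw [Subgroup.mem_bot, commutatorElement_eq_one_iff_mul_comm] at h3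
  exact h3

theorem pair_trichotomy [FiniteDimensional k M] (hk2 : ringChar k ≠ 2) (hk3 : Nat.card k ≠ 3)
    (hG : Cfsg.IsQuadraticPair G) {σ τ : (Module.End k M)ˣ}
    (hσ : σ ∈ Cfsg.minimalQuadraticElements G) (hτ : τ ∈ Cfsg.minimalQuadraticElements G) :
    ⁅Cfsg.sameActionSubgroup G σ, Cfsg.sameActionSubgroup G τ⁆ = ⊥ ∨
      Cfsg.IsRankOnePair (Cfsg.sameActionSubgroup G σ) (Cfsg.sameActionSubgroup G τ) ∨
      Cfsg.RootCommutatorCase (Cfsg.quadraticRootSubgroups G) (Cfsg.sameActionSubgroup G σ)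
        (Cfsg.sameActionSubgroup G τ) := by
  by_cases hex : ∃ a ∈ Cfsg.sameActionClass G σ, ∃ b ∈ Cfsg.sameActionClass G τ,
      ¬ IsNilpotent (nu a * nu b)
  · right; left
    obtain ⟨a, ha, b, hb, hnil⟩ := hex
    rw [← subgroup_eq_of_mem ha, ← subgroup_eq_of_mem hb]
    exact (caseR hk2 hk3 ha.1 hb.1 hnil).1.1
  · push_neg at hex
    by_cases hne : ⁅Cfsg.sameActionSubgroup G σ, Cfsg.sameActionSubgroup G τ⁆ = ⊥
    · left; exact hne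
    · right; right
      exact commCase_of_nil hk2 hk3 hG hσ hτ hex hne

theorem exists_not_nil_of_rankOne [FiniteDimensional k M] (hk2 : ringChar k ≠ 2) (hk3 : Nat.card k ≠ 3)
    (hG : Cfsg.IsQuadraticPair G) {σ τ : (Module.End k M)ˣ}
    (hσ : σ ∈ Cfsg.minimalQuadraticElements G) (hτ : τ ∈ Cfsg.minimalQuadraticElements G)
    (hR : Cfsg.IsRankOnePair (Cfsg.sameActionSubgroup G σ) (Cfsg.sameActionSubgroup G τ)) :
    ∃ a ∈ Cfsg.sameActionClass G σ, ∃ b ∈ Cfsg.sameActionClass G τ, ¬ IsNilpotent (nu a * nu b) := by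
  by_contra hex
  push_neg at hex
  by_cases hne : ⁅Cfsg.sameActionSubgroup G σ, Cfsg.sameActionSubgroup G τ⁆ = ⊥
  · exact Cfsg.Agent.Lib.H6.RootSub.commutator_ne_bot_of_rankOne hR hne
  · have hcc := commCase_of_nil hk2 hk3 hG hσ hτ hex hne
    refine Cfsg.Agent.Lib.H6.SpRoot.not_commutatorCase (S := Cfsg.quadraticRootSubgroups G) ?_ (Or.inr hR) hcc
    rintro C ⟨ρ, hρ, rfl⟩
    exact E_ne_bot hρ

theorem s5062_main [FiniteDimensional k M] (hk2 : ringChar k ≠ 2) (hk3 : Nat.card k ≠ 3)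
    (hG : Cfsg.IsQuadraticPair G) :
    Cfsg.IsRootSubgroupSet (Cfsg.Agent.Lib.H6.RootSub.img (Cfsg.quadraticRootSubgroups G)) ∧
    (∀ A ∈ Cfsg.quadraticRootSubgroups G,
      ¬ Cfsg.IsIsolatedIn (Cfsg.FAdj (Cfsg.quadraticRootSubgroups G)) (Cfsg.quadraticRootSubgroups G) A) ∧
    (∀ A ∈ Cfsg.quadraticRootSubgroups G, ∀ B ∈ Cfsg.rankOnePartners (Cfsg.quadraticRootSubgroups G) A,
      ∃ A₀ B₀ : Subgroup (Module.End k M)ˣ, A₀ ≤ A ∧ B₀ ≤ B ∧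
        ∃ (k₁ : Type u) (_ : Field k₁), 3 < ENat.card k₁ ∧ Cfsg.IsPSL2PairOver k₁ A₀ B₀) := by
  refine ⟨?_, ?_, ?_⟩
  · apply isRootSubgroupSet_img_of_G0
    · rintro _ ⟨σ, hσ, rfl⟩
      exact ⟨⟨fun a b => Subtype.ext (comm_of_mem hσ a.2 b.2)⟩⟩
    · rintro _ ⟨σ, hσ, rfl⟩
      exact E_ne_bot hσ
    · rintro _ ⟨σ, hσ, rfl⟩ g hg
      have hgG : g ∈ G := by
        have hle : Cfsg.Agent.Lib.H6.RootSub.G0 (Cfsg.quadraticRootSubgroups G) ≤ G := by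
          apply iSup₂_le
          rintro _ ⟨ρ, _, rfl⟩
          exact E_le ρ
        exact hle hg
      rw [conjBy_E hgG]
      exact ⟨_, conj_mem_minimal hgG hσ, rfl⟩
    · rintro _ ⟨σ, hσ, rfl⟩ _ ⟨τ, hτ, rfl⟩
      exact pair_trichotomy hk2 hk3 hG hσ hτ
  · rintro _ ⟨σ, hσ, rfl⟩ ⟨_, hiso⟩
    obtain ⟨δ, hδ, hnil⟩ := exists_opposite hk2 hk3 hG hσ
    exact (hiso (Cfsg.sameActionSubgroup G δ)).1
      ⟨⟨σ, hσ, rfl⟩, ⟨δ, hδ, rfl⟩, (caseR hk2 hk3 hσ hδ hnil).1.1⟩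
  · rintro _ ⟨σ, hσ, rfl⟩ _ ⟨⟨τ, hτ, rfl⟩, hR⟩
    obtain ⟨a, ha, b, hb, hnil⟩ := exists_not_nil_of_rankOne hk2 hk3 hG hσ hτ hR
    rw [← subgroup_eq_of_mem ha, ← subgroup_eq_of_mem hb]
    exact psl2_of_not_nil hk2 hk3 hσ ha.1 hb.1 hnil

end main

end

end Cfsg.Agent.Lib.H18.QP
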