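import Cfsg.Agent.Lib.H18.QP26
import Cfsg.Agent.Lib.H6.FConnClass
import Cfsg.Agent.Lib.H6.Tim2P

/-!
# Abstract root subgroup facts for a family inside the subgroup it generates (helper18, for S5069)

A family `S` of subgroups of `H` whose image in `G0 S = ⟨S⟩` is a set of abstract root subgroups.
We transfer helper6's abstract results (symmetry of the centralizer preorder, components commute,
components are invariant) back to the level of `H`.
-/

set_option autoImplicit false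

namespace Cfsg.Agent.Lib.H18.QP

open scoped commutatorElement
open Cfsg.Agent.Lib.H6.RootSub

section absroot

variable {H : Type*} [Group H]

theorem isRankOnePair_of_subgroupOf {K : Subgroup H} {A B : Subgroup H} (hA : A ≤ K) (hB : B ≤ K)
    (h : Cfsg.IsRankOnePair (A.subgroupOf K) (B.subgroupOf K)) : Cfsg.IsRankOnePair A B := by
  have h1 := isRankOnePair_map (φ := K.subtype) K.subtype_injective h
  rwa [Subgroup.map_subgroupOf_eq_of_le hA, Subgroup.map_subgroupOf_eq_of_le hB] at h1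

variable {S : Set (Subgroup H)}

/-- the hypotheses making `img S` a set of abstract root subgroups of `G0 S` -/
structure RS (S : Set (Subgroup H)) : Prop where
  hcomm : ∀ A ∈ S, IsMulCommutative A
  hne : ∀ A ∈ S, A ≠ ⊥
  hconj : ∀ A ∈ S, ∀ g ∈ G0 S, Cfsg.conjBy A g ∈ S
  hpair : ∀ A ∈ S, ∀ B ∈ S, ⁅A, B⁆ = ⊥ ∨ Cfsg.IsRankOnePair A B ∨ Cfsg.RootCommutatorCase S A B

theorem RS.isRoot (h : RS S) : Cfsg.IsRootSubgroupSet (Cfsg.Agent.Lib.H6.RootSub.img S) :=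
  isRootSubgroupSet_img_of_G0 h.hcomm h.hne h.hconj h.hpair

theorem fadj_img_of_fadj {A B : Subgroup H} (h : Cfsg.FAdj S A B) :
    Cfsg.FAdj (img S) (A.subgroupOf (G0 S)) (B.subgroupOf (G0 S)) :=
  ⟨mem_img h.1, mem_img h.2.1, isRankOnePair_subgroupOf _ (le_G0 h.1) (le_G0 h.2.1) h.2.2⟩

theorem fadj_of_fadj_img {X Y : Subgroup (G0 S)} (h : Cfsg.FAdj (img S) X Y) :
    Cfsg.FAdj S (X.map (G0 S).subtype) (Y.map (G0 S).subtype) := by
  obtain ⟨⟨A, hA, rfl⟩, ⟨B, hB, rfl⟩, hR⟩ := h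
  have e1 : (A.subgroupOf (G0 S)).map (G0 S).subtype = A := Subgroup.map_subgroupOf_eq_of_le (le_G0 hA)
  have e2 : (B.subgroupOf (G0 S)).map (G0 S).subtype = B := Subgroup.map_subgroupOf_eq_of_le (le_G0 hB)
  change Cfsg.FAdj S ((A.subgroupOf (G0 S)).map (G0 S).subtype) ((B.subgroupOf (G0 S)).map (G0 S).subtype)
  rw [e1, e2]
  exact ⟨hA, hB, isRankOnePair_of_subgroupOf (le_G0 hA) (le_G0 hB) hR⟩

theorem rtg_img_of_rtg {A B : Subgroup H} (h : Relation.ReflTransGen (Cfsg.FAdj S) A B) :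
    Relation.ReflTransGen (Cfsg.FAdj (img S)) (A.subgroupOf (G0 S)) (B.subgroupOf (G0 S)) :=
  Relation.ReflTransGen.lift (fun A : Subgroup H => A.subgroupOf (G0 S)) (fun _ _ h => fadj_img_of_fadj h) _ _ h

theorem rtg_of_rtg_img {A B : Subgroup H} (hA : A ∈ S) (hB : B ∈ S)
    (h : Relation.ReflTransGen (Cfsg.FAdj (img S)) (A.subgroupOf (G0 S)) (B.subgroupOf (G0 S))) :
    Relation.ReflTransGen (Cfsg.FAdj S) A B := by
  have h1 := Relation.ReflTransGen.lift (fun X : Subgroup (G0 S) => X.map (G0 S).subtype)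
    (fun _ _ h => fadj_of_fadj_img h) _ _ h
  have e1 : (A.subgroupOf (G0 S)).map (G0 S).subtype = A := Subgroup.map_subgroupOf_eq_of_le (le_G0 hA)
  have e2 : (B.subgroupOf (G0 S)).map (G0 S).subtype = B := Subgroup.map_subgroupOf_eq_of_le (le_G0 hB)
  change Relation.ReflTransGen (Cfsg.FAdj S) ((A.subgroupOf (G0 S)).map (G0 S).subtype)
    ((B.subgroupOf (G0 S)).map (G0 S).subtype) at h1
  rwa [e1, e2] at h1

/-- the centralizer preorder at the level of `H` -/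
def LeS (S : Set (Subgroup H)) (A C : Subgroup H) : Prop := ∀ K ∈ S, ⁅K, A⁆ = ⊥ → ⁅K, C⁆ = ⊥

theorem LeS.img {A C : Subgroup H} (hA : A ∈ S) (_hC : C ∈ S) (h : LeS S A C) :
    Cfsg.Agent.Lib.H6.Tim2P.Le (Cfsg.Agent.Lib.H6.RootSub.img S) (A.subgroupOf (G0 S)) (C.subgroupOf (G0 S)) := by
  rintro _ ⟨K, hK, rfl⟩ hKA
  rw [Cfsg.Agent.Lib.H6.Tim211.Cm_iff_commutator] at hKA ⊢
  exact commutator_subgroupOf_eq_bot _ (h K hK (commutator_eq_bot_of_subgroupOf _ (le_G0 hK) (le_G0 hA) hKA))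

theorem LeS.of_img {A C : Subgroup H} (_hA : A ∈ S) (hC : C ∈ S)
    (h : Cfsg.Agent.Lib.H6.Tim2P.Le (Cfsg.Agent.Lib.H6.RootSub.img S) (A.subgroupOf (G0 S)) (C.subgroupOf (G0 S))) :
    LeS S A C := by
  intro K hK hKA
  have h1 := h _ (mem_img hK) (Cfsg.Agent.Lib.H6.Tim211.Cm_iff_commutator.mpr (commutator_subgroupOf_eq_bot _ hKA))
  rw [Cfsg.Agent.Lib.H6.Tim211.Cm_iff_commutator] at h1
  exact commutator_eq_bot_of_subgroupOf _ (le_G0 hK) (le_G0 hC) h1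

/-- symmetry of the preorder, given a rank one partner -/
theorem LeS.symm_of_partner (hRS : RS S) {A C D : Subgroup H} (hA : A ∈ S) (hC : C ∈ S) (hD : D ∈ S)
    (h : LeS S A C) (hCD : Cfsg.IsRankOnePair C D) : LeS S C A :=
  LeS.of_img hC hA (Cfsg.Agent.Lib.H6.Tim2P.le_symm_of_partner hRS.isRoot (mem_img hA) (mem_img hC) (mem_img hD)
    (h.img hA hC) (isRankOnePair_subgroupOf _ (le_G0 hC) (le_G0 hD) hCD))

/-- a rank one partner of the larger member is a rank one partner of the smaller one -/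
theorem LeS.rankOne (hRS : RS S) {A C D : Subgroup H} (hA : A ∈ S) (hC : C ∈ S) (hD : D ∈ S)
    (h : LeS S A C) (hCD : Cfsg.IsRankOnePair C D) : Cfsg.IsRankOnePair A D := by
  have hS := hRS.isRoot
  have hle := h.img hA hC
  have hCD' := isRankOnePair_subgroupOf (G0 S) (le_G0 hC) (le_G0 hD) hCD
  have hcmAC : Cfsg.Agent.Lib.H6.Tim211.Cm (A.subgroupOf (G0 S)) (C.subgroupOf (G0 S)) :=
    hle.cm hS (mem_img hA)
  apply isRankOnePair_of_subgroupOf (le_G0 hA) (le_G0 hD)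
  rcases hS.pair _ (mem_img hA) _ (mem_img hD) with h0 | h1 | h2
  · exact absurd (hle _ (mem_img hD) (Cfsg.Agent.Lib.H6.Tim211.Cm_iff_commutator.2 h0).symm).symm
      (Cfsg.Agent.Lib.H6.Tim2L.rankOne_not_cm hCD')
  · exact h1
  · exfalso
    have hF : Cfsg.Agent.Lib.H6.Tim211.Cm ⁅A.subgroupOf (G0 S), D.subgroupOf (G0 S)⁆ (A.subgroupOf (G0 S)) :=
      fun f hf a ha => h2.2.1 f hf a (Subgroup.mem_sup_left ha)
    exact Cfsg.Agent.Lib.H6.Tim2P.nm_false hS h2 hCD' hcmAC.symm (hle _ h2.1 hF).symm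

/-- members in different components commute -/
theorem RS.commute_of_not_rtg (hRS : RS S) (hall : ∀ A ∈ S, ∃ B ∈ S, Cfsg.IsRankOnePair A B)
    {A B : Subgroup H} (hA : A ∈ S) (hB : B ∈ S)
    (hn : ¬ Relation.ReflTransGen (Cfsg.FAdj S) A B) : ⁅A, B⁆ = ⊥ := by
  have hall' : ∀ X ∈ Cfsg.Agent.Lib.H6.RootSub.img S, ∃ Y ∈ Cfsg.Agent.Lib.H6.RootSub.img S,
      Cfsg.IsRankOnePair X Y := by
    rintro _ ⟨A', hA', rfl⟩
    obtain ⟨B', hB', hR⟩ := hall A' hA'
    exact ⟨_, mem_img hB', isRankOnePair_subgroupOf _ (le_G0 hA') (le_G0 hB') hR⟩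
  apply commutator_eq_bot_of_subgroupOf (G0 S) (le_G0 hA) (le_G0 hB)
  apply Cfsg.Agent.Lib.H6.FConn.commute_of_not_rtg hRS.isRoot hall' (mem_img hA) (mem_img hB)
  intro h
  exact hn (rtg_of_rtg_img hA hB h)

/-- the component of a member is invariant under conjugation by `G0 S` -/
theorem RS.rtg_conj_self (hRS : RS S) (hall : ∀ A ∈ S, ∃ B ∈ S, Cfsg.IsRankOnePair A B)
    {A : Subgroup H} (hA : A ∈ S) {g : H} (hg : g ∈ G0 S) :
    Relation.ReflTransGen (Cfsg.FAdj S) A (Cfsg.conjBy A g) := by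
  have hall' : ∀ X ∈ Cfsg.Agent.Lib.H6.RootSub.img S, ∃ Y ∈ Cfsg.Agent.Lib.H6.RootSub.img S,
      Cfsg.IsRankOnePair X Y := by
    rintro _ ⟨A', hA', rfl⟩
    obtain ⟨B', hB', hR⟩ := hall A' hA'
    exact ⟨_, mem_img hB', isRankOnePair_subgroupOf _ (le_G0 hA') (le_G0 hB') hR⟩
  have h1 := Cfsg.Agent.Lib.H6.FConn.rtg_conj_self hRS.isRoot hall' (mem_img hA) (⟨g, hg⟩ : G0 S)
  rw [conjBy_subgroupOf] at h1
  exact rtg_of_rtg_img hA (hRS.hconj A hA g hg) h1

end absroot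

end Cfsg.Agent.Lib.H18.QP
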