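import Cfsg.Agent.Lib.H18.QP27

/-!
# The family `Σ` of a quadratic pair satisfies the hypotheses `RS` (helper18, for S5069)
-/

set_option autoImplicit false

namespace Cfsg.Agent.Lib.H18.QP

open scoped commutatorElement

noncomputable section

universe u

variable {k : Type u} [Field k] {M : Type u} [AddCommGroup M] [Module k M]
variable {G : Subgroup (Module.End k M)ˣ}

theorem G0_sigma_le : Cfsg.Agent.Lib.H6.RootSub.G0 (Cfsg.quadraticRootSubgroups G) ≤ G := by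
  apply iSup₂_le
  rintro _ ⟨ρ, _, rfl⟩
  exact E_le ρ

theorem rs_sigma [FiniteDimensional k M] (hk2 : ringChar k ≠ 2) (hk3 : Nat.card k ≠ 3)
    (hG : Cfsg.IsQuadraticPair G) : RS (Cfsg.quadraticRootSubgroups G) where
  hcomm := by
    rintro _ ⟨σ, hσ, rfl⟩
    exact ⟨⟨fun a b => Subtype.ext (comm_of_mem hσ a.2 b.2)⟩⟩
  hne := by
    rintro _ ⟨σ, hσ, rfl⟩
    exact E_ne_bot hσ
  hconj := by
    rintro _ ⟨σ, hσ, rfl⟩ g hg
    have hgG : g ∈ G := G0_sigma_le hg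
    rw [conjBy_E hgG]
    exact ⟨_, conj_mem_minimal hgG hσ, rfl⟩
  hpair := by
    rintro _ ⟨σ, hσ, rfl⟩ _ ⟨τ, hτ, rfl⟩
    exact pair_trichotomy hk2 hk3 hG hσ hτ

theorem hall_sigma [FiniteDimensional k M] (hk2 : ringChar k ≠ 2) (hk3 : Nat.card k ≠ 3)
    (hG : Cfsg.IsQuadraticPair G) :
    ∀ A ∈ Cfsg.quadraticRootSubgroups G, ∃ B ∈ Cfsg.quadraticRootSubgroups G, Cfsg.IsRankOnePair A B := by
  rintro _ ⟨σ, hσ, rfl⟩
  obtain ⟨δ, hδ, hnil⟩ := exists_opposite hk2 hk3 hG hσ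
  exact ⟨_, ⟨δ, hδ, rfl⟩, (caseR hk2 hk3 hσ hδ hnil).1.1⟩

end

end Cfsg.Agent.Lib.H18.QP
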