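import Mathlib

/-!
# Ring identities for three square-zero elements (helper18, for S5069)

`n, m` is a "hyperbolic pair" (`nmn = n`, `mnm = m`), `c` is a second partner of `m`
(`cmc = c`, `mcm = m`) commuting with `n`.  We decompose `c` along the idempotents
`p = nm`, `q = mn`, `f = 1 - p - q`.
-/

set_option autoImplicit false

namespace Cfsg.Agent.Lib.H18.QP

section blocks

variable {R : Type*} [Ring R]

/-- the idempotent `nm` -/
def bp (n m : R) : R := n * m
/-- the idempotent `mn` -/
def bq (n m : R) : R := m * n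
/-- the complementary idempotent -/
def bf (n m : R) : R := 1 - bp n m - bq n m
/-- the even part of `c` -/
def bC0 (n m c : R) : R := bp n m * c * bp n m + bq n m * c * bq n m + bf n m * c * bf n m
/-- the odd part of `c` -/
def bC1 (n m c : R) : R := bp n m * c * bf n m + bf n m * c * bq n m

/-- the relations -/
structure Rel (n m c : R) : Prop where
  hn : n * n = 0
  hm : m * m = 0
  hc : c * c = 0
  h1 : n * m * n = n
  h2 : m * n * m = m
  h3 : c * m * c = c
  h4 : m * c * m = m
  hnc : n * c = c * n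

namespace Rel

variable {n m c : R} (h : Rel n m c)

include h

theorem pn : bp n m * n = n := h.h1
theorem nq : n * bq n m = n := by rw [bq, ← mul_assoc]; exact h.h1
theorem np : n * bp n m = 0 := by rw [bp, ← mul_assoc, h.hn, zero_mul]
theorem qn : bq n m * n = 0 := by rw [bq, mul_assoc, h.hn, mul_zero]
theorem pm : bp n m * m = 0 := by rw [bp, mul_assoc, h.hm, mul_zero]
theorem mq : m * bq n m = 0 := by rw [bq, ← mul_assoc, h.hm, zero_mul]
theorem mp : m * bp n m = m := by rw [bp, ← mul_assoc]; exact h.h2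
theorem qm : bq n m * m = m := h.h2
theorem pp : bp n m * bp n m = bp n m := by
  show n * m * (n * m) = n * m
  rw [← mul_assoc, h.h1]
theorem qq : bq n m * bq n m = bq n m := by
  show m * n * (m * n) = m * n
  rw [← mul_assoc, h.h2]
theorem pq : bp n m * bq n m = 0 := by
  show n * m * (m * n) = 0
  rw [mul_assoc, ← mul_assoc m, h.hm, zero_mul, mul_zero]
theorem qp : bq n m * bp n m = 0 := by
  show m * n * (n * m) = 0
  rw [mul_assoc, ← mul_assoc n, h.hn, zero_mul, mul_zero]
theorem fn : bf n m * n = 0 := by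
  rw [bf, sub_mul, sub_mul, one_mul, h.pn, h.qn, sub_self, sub_zero]
theorem nf : n * bf n m = 0 := by
  rw [bf, mul_sub, mul_sub, mul_one, h.np, h.nq, sub_zero, sub_self]
theorem fm : bf n m * m = 0 := by
  rw [bf, sub_mul, sub_mul, one_mul, h.pm, h.qm, sub_zero, sub_self]
theorem mf : m * bf n m = 0 := by
  rw [bf, mul_sub, mul_sub, mul_one, h.mp, h.mq, sub_self, sub_zero]
theorem fp : bf n m * bp n m = 0 := by
  rw [bf, sub_mul, sub_mul, one_mul, h.pp, h.qp, sub_self, sub_zero]
theorem pf : bp n m * bf n m = 0 := by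
  rw [bf, mul_sub, mul_sub, mul_one, h.pp, h.pq, sub_self, sub_zero]
theorem fq : bf n m * bq n m = 0 := by
  rw [bf, sub_mul, sub_mul, one_mul, h.pq, h.qq, sub_zero, sub_self]
theorem qf : bq n m * bf n m = 0 := by
  rw [bf, mul_sub, mul_sub, mul_one, h.qp, h.qq, sub_zero, sub_self]
theorem ff : bf n m * bf n m = bf n m := by
  nth_rewrite 1 [bf]
  rw [sub_mul, sub_mul, one_mul, h.pf, h.qf, sub_zero, sub_zero]

omit h in
theorem pqf (n m : R) : bp n m + bq n m + bf n m = 1 := by rw [bf]; abel

/-! the element `π = nc = cn` -/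

theorem p_pi : bp n m * (n * c) = n * c := by rw [← mul_assoc, h.pn]
theorem pi_q : n * c * bq n m = n * c := by rw [h.hnc, mul_assoc, h.nq]
theorem pi_p : n * c * bp n m = 0 := by rw [h.hnc, mul_assoc, h.np, mul_zero]
theorem q_pi : bq n m * (n * c) = 0 := by rw [← mul_assoc, h.qn, zero_mul]
theorem f_pi : bf n m * (n * c) = 0 := by rw [← mul_assoc, h.fn, zero_mul]
theorem pi_f : n * c * bf n m = 0 := by rw [h.hnc, mul_assoc, h.nf, mul_zero]
theorem n_pi : n * (n * c) = 0 := by rw [← mul_assoc, h.hn, zero_mul]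
theorem pi_n : n * c * n = 0 := by rw [h.hnc, mul_assoc, h.hn, mul_zero]

theorem cpc : c * bp n m * c = n * c := by
  show c * (n * m) * c = n * c
  linear_combination (norm := noncomm_ring) -(h.hnc * (m * c)) + n * h.h3
theorem cqc : c * bq n m * c = n * c := by
  show c * (m * n) * c = n * c
  linear_combination (norm := noncomm_ring) (c * m) * h.hnc + h.h3 * n - h.hnc
theorem cfc : c * bf n m * c = -(n * c + n * c) := by
  have e : c * bf n m * c = c * c - c * bp n m * c - c * bq n m * c := by
    rw [bf]; noncomm_ring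
  rw [e, h.hc, h.cpc, h.cqc]; abel

/-! the blocks of `c` -/

theorem qcp : bq n m * c * bp n m = 0 := by
  show m * n * c * (n * m) = 0
  linear_combination (norm := noncomm_ring) m * h.hnc * (n * m) + (m * c) * h.hn * m
theorem qcf : bq n m * c * bf n m = 0 := by
  have e : bq n m * c * bf n m = m * (n * c) * bf n m := by rw [bq]; noncomm_ring
  rw [e, mul_assoc, h.pi_f, mul_zero]
theorem fcp : bf n m * c * bp n m = 0 := by
  have e : bf n m * c * bp n m = bf n m * (c * n) * m := by rw [bp]; noncomm_ring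
  rw [e, ← h.hnc, h.f_pi, zero_mul]
theorem pcq : bp n m * c * bq n m = n := by
  show n * m * c * (m * n) = n
  linear_combination (norm := noncomm_ring) n * h.h4 * n + h.h1

theorem decomp : c = bC0 n m c + n + bC1 n m c := by
  have e : c = (bp n m + bq n m + bf n m) * c * (bp n m + bq n m + bf n m) := by
    rw [pqf, one_mul, mul_one]
  have e2 : (bp n m + bq n m + bf n m) * c * (bp n m + bq n m + bf n m) =
      bp n m * c * bp n m + bp n m * c * bq n m + bp n m * c * bf n m +
      bq n m * c * bp n m + bq n m * c * bq n m + bq n m * c * bf n m +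
      bf n m * c * bp n m + bf n m * c * bq n m + bf n m * c * bf n m := by noncomm_ring
  rw [e2, h.pcq, h.qcp, h.qcf, h.fcp] at e
  rw [bC0, bC1]
  conv_lhs => rw [e]
  abel

/-- conjugating by the involution `f - p - q` changes the sign of the odd part -/
theorem conj_invol : (bf n m - bp n m - bq n m) * c * (bf n m - bp n m - bq n m) =
    bC0 n m c + n - bC1 n m c := by
  have e2 : (bf n m - bp n m - bq n m) * c * (bf n m - bp n m - bq n m) =
      bp n m * c * bp n m + bp n m * c * bq n m - bp n m * c * bf n m +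
      bq n m * c * bp n m + bq n m * c * bq n m - bq n m * c * bf n m -
      bf n m * c * bp n m - bf n m * c * bq n m + bf n m * c * bf n m := by noncomm_ring
  rw [e2, h.pcq, h.qcp, h.qcf, h.fcp, bC0, bC1]
  abel

theorem invol_sq : (bf n m - bp n m - bq n m) * (bf n m - bp n m - bq n m) = 1 := by
  have e2 : (bf n m - bp n m - bq n m) * (bf n m - bp n m - bq n m) =
      bf n m * bf n m - bf n m * bp n m - bf n m * bq n m - bp n m * bf n m + bp n m * bp n m +
      bp n m * bq n m - bq n m * bf n m + bq n m * bp n m + bq n m * bq n m := by noncomm_ring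
  rw [e2, h.ff, h.fp, h.fq, h.pf, h.pp, h.pq, h.qf, h.qp, h.qq, ← pqf n m]
  abel

theorem invol_n : (bf n m - bp n m - bq n m) * n * (bf n m - bp n m - bq n m) = n := by
  have e1 : (bf n m - bp n m - bq n m) * n = -n := by
    rw [sub_mul, sub_mul, h.fn, h.pn, h.qn]; abel
  rw [e1, neg_mul, mul_sub, mul_sub, h.nf, h.np, h.nq]; abel

/-! products of blocks -/

omit h in
theorem mul_blk_zero {x1 e e' y2 : R} (c : R) (hee : e * e' = 0) : (x1 * c * e) * (e' * c * y2) = 0 := by
  have e0 : (x1 * c * e) * (e' * c * y2) = x1 * c * (e * e') * (c * y2) := by noncomm_ring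
  rw [e0, hee, mul_zero, zero_mul]

omit h in
theorem mul_blk_diag {x1 e y2 : R} (c : R) (hee : e * e = e) :
    (x1 * c * e) * (e * c * y2) = x1 * (c * e * c) * y2 := by
  have e0 : (x1 * c * e) * (e * c * y2) = x1 * (c * (e * e) * c) * y2 := by noncomm_ring
  rw [e0, hee]

theorem UU : (bp n m * c * bp n m) * (bp n m * c * bp n m) = 0 := by
  rw [mul_blk_diag c h.pp, h.cpc, h.p_pi, h.pi_p]
theorem VV : (bq n m * c * bq n m) * (bq n m * c * bq n m) = 0 := by
  rw [mul_blk_diag c h.qq, h.cqc, h.q_pi, zero_mul]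
theorem GG : (bf n m * c * bf n m) * (bf n m * c * bf n m) = 0 := by
  rw [mul_blk_diag c h.ff, h.cfc, mul_neg, neg_mul, mul_add, h.f_pi, add_zero, zero_mul, neg_zero]
theorem UA : (bp n m * c * bp n m) * (bp n m * c * bf n m) = 0 := by
  rw [mul_blk_diag c h.pp, h.cpc, h.p_pi, h.pi_f]
theorem GB : (bf n m * c * bf n m) * (bf n m * c * bq n m) = 0 := by
  rw [mul_blk_diag c h.ff, h.cfc, mul_neg, neg_mul, mul_add, h.f_pi, add_zero, zero_mul, neg_zero]
theorem AG : (bp n m * c * bf n m) * (bf n m * c * bf n m) = 0 := by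
  rw [mul_blk_diag c h.ff, h.cfc, mul_neg, neg_mul, mul_add, h.p_pi, add_mul, h.pi_f, add_zero, neg_zero]
theorem BV : (bf n m * c * bq n m) * (bq n m * c * bq n m) = 0 := by
  rw [mul_blk_diag c h.qq, h.cqc, h.f_pi, zero_mul]
theorem AB : (bp n m * c * bf n m) * (bf n m * c * bq n m) = -(n * c + n * c) := by
  rw [mul_blk_diag c h.ff, h.cfc, mul_neg, neg_mul, mul_add, h.p_pi, add_mul, h.pi_q]

theorem C0_sq : bC0 n m c * bC0 n m c = 0 := by
  rw [bC0]
  simp only [add_mul, mul_add, h.UU, h.VV, h.GG, mul_blk_zero c h.pq, mul_blk_zero c h.pf,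
    mul_blk_zero c h.qp, mul_blk_zero c h.qf, mul_blk_zero c h.fp, mul_blk_zero c h.fq, add_zero]

theorem C0_C1 : bC0 n m c * bC1 n m c = 0 := by
  rw [bC0, bC1]
  simp only [add_mul, mul_add, h.UA, h.GB, mul_blk_zero c h.pq, mul_blk_zero c h.pf,
    mul_blk_zero c h.qp, mul_blk_zero c h.qf, mul_blk_zero c h.fp, mul_blk_zero c h.fq, add_zero]

theorem C1_C0 : bC1 n m c * bC0 n m c = 0 := by
  rw [bC0, bC1]
  simp only [add_mul, mul_add, h.AG, h.BV, mul_blk_zero c h.pq, mul_blk_zero c h.pf,
    mul_blk_zero c h.qp, mul_blk_zero c h.qf, mul_blk_zero c h.fp, mul_blk_zero c h.fq, add_zero]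

theorem C1_sq : bC1 n m c * bC1 n m c = -(n * c + n * c) := by
  rw [bC1]
  simp only [add_mul, mul_add, h.AB, mul_blk_zero c h.pq, mul_blk_zero c h.pf,
    mul_blk_zero c h.qp, mul_blk_zero c h.qf, mul_blk_zero c h.fp, mul_blk_zero c h.fq, add_zero, zero_add]

theorem n_C0 : n * bC0 n m c = n * c := by
  have e : n * bC0 n m c = (n * bp n m) * c * bp n m + (n * bq n m) * c * bq n m +
      (n * bf n m) * c * bf n m := by rw [bC0]; noncomm_ring
  rw [e, h.np, h.nq, h.nf, h.pi_q]
  simp only [zero_mul, mul_zero, add_zero, zero_add]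

theorem C0_n : bC0 n m c * n = n * c := by
  have e : bC0 n m c * n = bp n m * c * (bp n m * n) + bq n m * c * (bq n m * n) +
      bf n m * c * (bf n m * n) := by rw [bC0]; noncomm_ring
  rw [e, h.pn, h.qn, h.fn, mul_zero, mul_zero, add_zero, add_zero, mul_assoc, ← h.hnc, h.p_pi]

theorem n_C1 : n * bC1 n m c = 0 := by
  have e : n * bC1 n m c = (n * bp n m) * c * bf n m + (n * bf n m) * c * bq n m := by
    rw [bC1]; noncomm_ring
  rw [e, h.np, h.nf]
  simp only [zero_mul, mul_zero, add_zero, zero_add]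

theorem C1_n : bC1 n m c * n = 0 := by
  have e : bC1 n m c * n = bp n m * c * (bf n m * n) + bf n m * c * (bq n m * n) := by
    rw [bC1]; noncomm_ring
  rw [e, h.fn, h.qn]
  simp only [zero_mul, mul_zero, add_zero, zero_add]

theorem m_C0 : m * bC0 n m c = bC0 n m c * m := by
  have e1 : m * bC0 n m c = (m * bp n m) * c * bp n m + (m * bq n m) * c * bq n m +
      (m * bf n m) * c * bf n m := by rw [bC0]; noncomm_ring
  have e2 : bC0 n m c * m = bp n m * c * (bp n m * m) + bq n m * c * (bq n m * m) +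
      bf n m * c * (bf n m * m) := by rw [bC0]; noncomm_ring
  rw [e1, e2, h.mp, h.mq, h.mf, h.pm, h.qm, h.fm]
  show m * c * (n * m) + 0 * c * bq n m + 0 * c * bf n m =
    bp n m * c * 0 + m * n * c * m + bf n m * c * 0
  linear_combination (norm := noncomm_ring) -(m * h.hnc * m)

theorem m_C1_m : m * bC1 n m c * m = 0 := by
  have e : m * bC1 n m c * m = (m * bp n m) * c * (bf n m * m) + (m * bf n m) * c * (bq n m * m) := by
    rw [bC1]; noncomm_ring
  rw [e, h.fm, h.mf]
  simp only [zero_mul, mul_zero, add_zero, zero_add]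

/-- the "sandwich" relation from `cmc = c` -/
theorem sandwich (x y : R) : (x * c * bq n m) * m * (bp n m * c * y) = x * c * y := by
  have e : (x * c * bq n m) * m * (bp n m * c * y) = x * (c * (bq n m * m * bp n m) * c) * y := by
    noncomm_ring
  rw [e, h.qm, h.mp, h.h3]

theorem C0_eq_zero_blocks (h0 : bC0 n m c = 0) :
    bp n m * c * bp n m = 0 ∧ bq n m * c * bq n m = 0 ∧ bf n m * c * bf n m = 0 := by
  have e1 : bp n m * bC0 n m c * bp n m = bp n m * c * bp n m := by
    have e : bp n m * bC0 n m c * bp n m = (bp n m * bp n m) * c * (bp n m * bp n m) +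
        (bp n m * bq n m) * c * (bq n m * bp n m) + (bp n m * bf n m) * c * (bf n m * bp n m) := by
      rw [bC0]; noncomm_ring
    rw [e, h.pp, h.pq, h.pf]
    simp only [zero_mul, mul_zero, add_zero, zero_add]
  have e2 : bq n m * bC0 n m c * bq n m = bq n m * c * bq n m := by
    have e : bq n m * bC0 n m c * bq n m = (bq n m * bp n m) * c * (bp n m * bq n m) +
        (bq n m * bq n m) * c * (bq n m * bq n m) + (bq n m * bf n m) * c * (bf n m * bq n m) := by
      rw [bC0]; noncomm_ring
    rw [e, h.qq, h.qp, h.qf]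
    simp only [zero_mul, mul_zero, add_zero, zero_add]
  have e3 : bf n m * bC0 n m c * bf n m = bf n m * c * bf n m := by
    have e : bf n m * bC0 n m c * bf n m = (bf n m * bp n m) * c * (bp n m * bf n m) +
        (bf n m * bq n m) * c * (bq n m * bf n m) + (bf n m * bf n m) * c * (bf n m * bf n m) := by
      rw [bC0]; noncomm_ring
    rw [e, h.ff, h.fp, h.fq]
    simp only [zero_mul, mul_zero, add_zero, zero_add]
  rw [h0, mul_zero, zero_mul] at e1 e2 e3
  exact ⟨e1.symm, e2.symm, e3.symm⟩

end Rel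

/-! the value identities -/

theorem val_id {N X Y P : R} (hXX : X * X = 0) (hXY : X * Y = 0) (hYX : Y * X = 0)
    (hYY : Y * Y = -(P + P)) (hNX : N * X = P) (hXN : X * N = P) (hNY : N * Y = 0) (hYN : Y * N = 0)
    (hNN : N * N = 0) (hNP : N * P = 0) :
    (1 - (N + N)) * (1 + (X + N + Y)) * (1 + (X + N - Y)) = 1 + (X + X) := by
  have e1 : (1 + (X + N + Y)) * (1 + (X + N - Y)) = 1 + (X + X) + (N + N) +
      (X * X + X * N - X * Y + N * X + N * N - N * Y + Y * X + Y * N - Y * Y) := by noncomm_ring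
  rw [hXX, hXN, hXY, hNX, hNN, hNY, hYX, hYN, hYY] at e1
  have e1' : (1 + (X + N + Y)) * (1 + (X + N - Y)) = 1 + (X + X) + (N + N) + (P + P + P + P) := by
    rw [e1]; abel
  have e2 : (1 - (N + N)) * (1 + (X + X) + (N + N) + (P + P + P + P)) =
      1 + (X + X) + (P + P + P + P) - (N * X + N * X + N * X + N * X) -
      (N * N + N * N + N * N + N * N) -
      (N * P + N * P + N * P + N * P + N * P + N * P + N * P + N * P) := by noncomm_ring
  rw [mul_assoc, e1', e2, hNX, hNN, hNP]
  abel

theorem val_id' {N Y : R} (hNN : N * N = 0) (hNY : N * Y = 0) :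
    (1 - N) * (1 + (N + Y)) = 1 + Y := by
  have e : (1 - N) * (1 + (N + Y)) = 1 + Y - N * N - N * Y := by noncomm_ring
  rw [e, hNN, hNY, sub_zero, sub_zero]

end blocks

end Cfsg.Agent.Lib.H18.QP
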