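import Cfsg.Agent.Lib.H18.QP2

/-!
# Scalar families, minimality, and conjugated pairs (helper18, for S5064)
-/

set_option autoImplicit false

namespace Cfsg.Agent.Lib.H18.QP

open Polynomial

noncomputable section

namespace Lam

variable {k : Type*} [Field k]

instance : Zero (Lam k) := ⟨⟨0, 0, 0, 0⟩⟩
instance : Neg (Lam k) := ⟨fun x => ⟨-x.d, -x.e, -x.b, -x.c⟩⟩
instance : Sub (Lam k) := ⟨fun x y => ⟨x.d - y.d, x.e - y.e, x.b - y.b, x.c - y.c⟩⟩

@[simp] theorem zero_d : (0 : Lam k).d = 0 := rfl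
@[simp] theorem zero_e : (0 : Lam k).e = 0 := rfl
@[simp] theorem zero_b : (0 : Lam k).b = 0 := rfl
@[simp] theorem zero_c : (0 : Lam k).c = 0 := rfl
@[simp] theorem neg_d (x : Lam k) : (-x).d = -x.d := rfl
@[simp] theorem neg_e (x : Lam k) : (-x).e = -x.e := rfl
@[simp] theorem neg_b (x : Lam k) : (-x).b = -x.b := rfl
@[simp] theorem neg_c (x : Lam k) : (-x).c = -x.c := rfl
@[simp] theorem sub_d (x y : Lam k) : (x - y).d = x.d - y.d := rfl
@[simp] theorem sub_e (x y : Lam k) : (x - y).e = x.e - y.e := rfl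
@[simp] theorem sub_b (x y : Lam k) : (x - y).b = x.b - y.b := rfl
@[simp] theorem sub_c (x y : Lam k) : (x - y).c = x.c - y.c := rfl

/-- the quadruple of `n` -/
def qn : Lam k := ⟨0, 0, 1, 0⟩
/-- the quadruple of `m` -/
def qm : Lam k := ⟨0, 0, 0, 1⟩
/-- the quadruple of `P = nm` -/
def qP : Lam k := ⟨0, 1, 0, 0⟩
/-- the quadruple of `f(z)` -/
def qf (f : k[X]) : Lam k := ⟨f, 0, 0, 0⟩

@[simp] theorem qn_d : (qn : Lam k).d = 0 := rfl
@[simp] theorem qn_e : (qn : Lam k).e = 0 := rfl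
@[simp] theorem qn_b : (qn : Lam k).b = 1 := rfl
@[simp] theorem qn_c : (qn : Lam k).c = 0 := rfl
@[simp] theorem qm_d : (qm : Lam k).d = 0 := rfl
@[simp] theorem qm_e : (qm : Lam k).e = 0 := rfl
@[simp] theorem qm_b : (qm : Lam k).b = 0 := rfl
@[simp] theorem qm_c : (qm : Lam k).c = 1 := rfl
@[simp] theorem qP_d : (qP : Lam k).d = 0 := rfl
@[simp] theorem qP_e : (qP : Lam k).e = 1 := rfl
@[simp] theorem qP_b : (qP : Lam k).b = 0 := rfl
@[simp] theorem qP_c : (qP : Lam k).c = 0 := rfl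
@[simp] theorem qf_d (f : k[X]) : (qf f).d = f := rfl
@[simp] theorem qf_e (f : k[X]) : (qf f).e = 0 := rfl
@[simp] theorem qf_b (f : k[X]) : (qf f).b = 0 := rfl
@[simp] theorem qf_c (f : k[X]) : (qf f).c = 0 := rfl

end Lam

namespace SqPair

variable {k M : Type*} [Field k] [AddCommGroup M] [Module k M] (p : SqPair k M)

theorem Th_zero : p.Th 0 = 0 := by
  simp only [Th, Lam.zero_d, Lam.zero_e, Lam.zero_b, Lam.zero_c, ev_zero, zero_mul, add_zero]

theorem Th_neg (x : Lam k) : p.Th (-x) = -p.Th x := by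
  simp only [Th, Lam.neg_d, Lam.neg_e, Lam.neg_b, Lam.neg_c, ev_neg, neg_mul]
  abel

theorem Th_sub (x y : Lam k) : p.Th (x - y) = p.Th x - p.Th y := by
  simp only [Th, Lam.sub_d, Lam.sub_e, Lam.sub_b, Lam.sub_c, ev_sub, sub_mul]
  abel

theorem Th_qn : p.Th Lam.qn = p.n := by
  simp only [Th, Lam.qn, ev_zero, ev_one, zero_mul, one_mul, add_zero, zero_add]

theorem Th_qm : p.Th Lam.qm = p.m := by
  simp only [Th, Lam.qm, ev_zero, ev_one, zero_mul, one_mul, add_zero, zero_add]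

theorem Th_qP : p.Th Lam.qP = p.P := by
  simp only [Th, Lam.qP, ev_zero, ev_one, zero_mul, one_mul, add_zero, zero_add]

theorem Th_qf (f : k[X]) : p.Th (Lam.qf f) = p.ev f := by
  simp only [Th, Lam.qf, ev_zero, zero_mul, add_zero]

theorem Th_mk (d e b c : k[X]) :
    p.Th ⟨d, e, b, c⟩ = p.ev d + p.ev e * p.P + p.ev b * p.n + p.ev c * p.m := rfl

/-- the swapped pair -/
def swap : SqPair k M := ⟨p.m, p.n, p.hm, p.hn⟩

@[simp] theorem swap_n : p.swap.n = p.m := rfl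
@[simp] theorem swap_m : p.swap.m = p.n := rfl

theorem swap_z : p.swap.z = p.z := by
  simp only [z, swap_n, swap_m]
  exact add_comm _ _

theorem swap_ev (f : k[X]) : p.swap.ev f = p.ev f := by
  rw [ev, ev, swap_z]

theorem ev_mul_apply (f g : k[X]) (v : M) : p.ev (f * g) v = p.ev f (p.ev g v) := by
  rw [ev_mul]; rfl

theorem ev_n_apply (f : k[X]) (v : M) : p.ev f (p.n v) = p.n (p.ev f v) :=
  LinearMap.congr_fun (p.ev_n f) v

theorem ev_m_apply (f : k[X]) (v : M) : p.ev f (p.m v) = p.m (p.ev f v) :=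
  LinearMap.congr_fun (p.ev_m f) v

theorem ev_z_apply (f : k[X]) (v : M) : p.ev f (p.z v) = p.z (p.ev f v) :=
  LinearMap.congr_fun (p.ev_z f) v

theorem ev_X_apply (v : M) : p.ev X v = p.z v := by rw [ev_X]

theorem z_apply (v : M) : p.z v = p.n (p.m v) + p.m (p.n v) := rfl

theorem P_apply (v : M) : p.P v = p.n (p.m v) := rfl

theorem n_n_apply (v : M) : p.n (p.n v) = 0 := by
  have := LinearMap.congr_fun p.hn v
  exact this

theorem m_m_apply (v : M) : p.m (p.m v) = 0 := by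
  have := LinearMap.congr_fun p.hm v
  exact this

theorem Th_apply (x : Lam k) (v : M) :
    p.Th x v = p.ev x.d v + p.ev x.e (p.P v) + p.ev x.b (p.n v) + p.ev x.c (p.m v) := rfl

theorem eq_zero_of_coprime {f g : k[X]} (h : IsCoprime f g) {v : M} (hf : p.ev f v = 0)
    (hg : p.ev g v = 0) : v = 0 := by
  obtain ⟨a, b, hab⟩ := h
  have h1 : p.ev (a * f + b * g) v = v := by rw [hab, ev_one]; rfl
  rw [ev_add, LinearMap.add_apply, ev_mul_apply, ev_mul_apply, hf, hg, map_zero, map_zero, add_zero] at h1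
  exact h1.symm

theorem eq_zero_of_S {S : Submodule k M} (hS1 : ∀ w ∈ S, p.z w = 0 → w = 0) {B : Module.End k M}
    (hz : p.z * B = 0) (hB : ∀ w, B w ∈ S) : B = 0 := by
  refine LinearMap.ext fun w => ?_
  refine hS1 _ (hB w) ?_
  have := LinearMap.congr_fun hz w
  exact this

end SqPair

section Fam

variable {k M : Type*} [Field k] [AddCommGroup M] [Module k M]

/-- `1 + c ν` is (the value of) an element of `G` for every scalar `c`. -/
def Fam (G : Subgroup (Module.End k M)ˣ) (ν : Module.End k M) : Prop :=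
  ∀ c : k, ∃ u ∈ G, ((u : (Module.End k M)ˣ) : Module.End k M) = 1 + c • ν

variable {G : Subgroup (Module.End k M)ˣ}

theorem Fam.smul {ν : Module.End k M} (h : Fam G ν) (a : k) : Fam G (a • ν) := by
  intro c
  obtain ⟨u, hu, he⟩ := h (c * a)
  exact ⟨u, hu, by rw [he, mul_smul]⟩

theorem Fam.of_smul {ν : Module.End k M} {a : k} (ha : a ≠ 0) (h : Fam G (a • ν)) : Fam G ν := by
  have := h.smul a⁻¹
  rwa [smul_smul, inv_mul_cancel₀ ha, one_smul] at this

theorem Fam.conj {ν : Module.End k M} (h : Fam G ν) {g : (Module.End k M)ˣ} (hg : g ∈ G) :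
    Fam G ((g : Module.End k M) * ν * ((g⁻¹ : (Module.End k M)ˣ) : Module.End k M)) := by
  intro c
  obtain ⟨u, hu, he⟩ := h c
  refine ⟨g * u * g⁻¹, G.mul_mem (G.mul_mem hg hu) (G.inv_mem hg), ?_⟩
  rw [Units.val_mul, Units.val_mul, he, mul_add, add_mul, mul_one, Units.mul_inv, mul_smul_comm,
    smul_mul_assoc]

theorem Fam.mul_neg {ν μ : Module.End k M} (hν : Fam G ν) (hμ : Fam G μ) (h0 : ν * μ = 0) :
    Fam G (ν - μ) := by
  intro c
  obtain ⟨u, hu, he⟩ := hν c
  obtain ⟨w, hw, hf⟩ := hμ (-c)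
  refine ⟨u * w, G.mul_mem hu hw, ?_⟩
  have h1 : (c • ν) * ((-c) • μ) = 0 := by rw [smul_mul_smul_comm, h0, smul_zero]
  rw [Units.val_mul, he, hf, mul_add, mul_one, add_mul, one_mul, h1, add_zero, neg_smul, smul_sub]
  abel

theorem comm2_ring {A : Type*} [Ring A] {a b : A} (haa : a * a = 0) (hbb : b * b = 0)
    (haba : a * b * a = 0) (hbab : b * a * b = 0) :
    (1 + a) * (1 + b) * (1 - a) * (1 - b) = 1 + (a * b - b * a) := by
  have e1 : (1 + a) * (1 + b) * (1 - a) = 1 + b + a * b - b * a := by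
    calc (1 + a) * (1 + b) * (1 - a) = 1 + b + a * b - b * a - a * a - a * b * a := by noncomm_ring
    _ = _ := by rw [haa, haba, sub_zero, sub_zero]
  rw [e1]
  calc (1 + b + a * b - b * a) * (1 - b)
      = 1 + (a * b - b * a) - b * b - a * (b * b) + b * a * b := by noncomm_ring
  _ = _ := by rw [hbb, hbab, mul_zero, sub_zero, sub_zero, add_zero]

theorem Fam.comm2 {n m : Module.End k M} (hn : Fam G n) (hm : Fam G m) (h1 : n * n = 0)
    (h2 : m * m = 0) (h3 : n * m * n = 0) (h4 : m * n * m = 0) : Fam G (n * m - m * n) := by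
  intro c
  obtain ⟨u1, hu1, e1⟩ := hn c
  obtain ⟨u2, hu2, e2⟩ := hm 1
  obtain ⟨u3, hu3, e3⟩ := hn (-c)
  obtain ⟨u4, hu4, e4⟩ := hm (-1)
  refine ⟨u1 * u2 * u3 * u4, G.mul_mem (G.mul_mem (G.mul_mem hu1 hu2) hu3) hu4, ?_⟩
  rw [Units.val_mul, Units.val_mul, Units.val_mul, e1, e2, e3, e4, one_smul, neg_smul, neg_smul,
    one_smul, ← sub_eq_add_neg, ← sub_eq_add_neg]
  have ha : (c • n) * (c • n) = 0 := by rw [smul_mul_smul_comm, h1, smul_zero]
  have hb : (c • n) * m * (c • n) = 0 := by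
    simp only [smul_mul_assoc, mul_smul_comm, h3, smul_zero]
  have hc : m * (c • n) * m = 0 := by
    simp only [smul_mul_assoc, mul_smul_comm, h4, smul_zero]
  rw [comm2_ring ha h2 hb hc, smul_mul_assoc, mul_smul_comm, smul_sub]

theorem inj_of_rank [FiniteDimensional k M] (n B : Module.End k M)
    (h : Module.finrank k (LinearMap.range n) ≤ Module.finrank k (LinearMap.range (B * n))) :
    ∀ v ∈ LinearMap.range n, B v = 0 → v = 0 := by
  have h1 : LinearMap.range (B * n) = Submodule.map B (LinearMap.range n) := by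
    rw [Module.End.mul_eq_comp, LinearMap.range_comp]
  have h2 := LinearMap.finrank_range_add_finrank_ker (B.domRestrict (LinearMap.range n))
  rw [LinearMap.range_domRestrict, ← h1] at h2
  have h3 : Module.finrank k (LinearMap.ker (B.domRestrict (LinearMap.range n))) = 0 := by omega
  have h4 : LinearMap.ker (B.domRestrict (LinearMap.range n)) = ⊥ := Submodule.finrank_eq_zero.mp h3
  intro v hv hBv
  have h5 : (⟨v, hv⟩ : LinearMap.range n) ∈ LinearMap.ker (B.domRestrict (LinearMap.range n)) := by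
    rw [LinearMap.mem_ker]; exact hBv
  rw [h4, Submodule.mem_bot] at h5
  exact congrArg Subtype.val h5

/-- Minimality: a non-zero square-zero family has rank at least `d`. -/
def MinP (G : Subgroup (Module.End k M)ˣ) (d : ℕ) : Prop :=
  ∀ ν : Module.End k M, ν * ν = 0 → ν ≠ 0 → Fam G ν → d ≤ Module.finrank k (LinearMap.range ν)

theorem MinP.inj [FiniteDimensional k M] {d : ℕ} (hMin : MinP G d) {n B : Module.End k M}
    (hr : Module.finrank k (LinearMap.range n) ≤ d) (hsq : (B * n) * (B * n) = 0)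
    (hF : Fam G (B * n)) (hne : B * n ≠ 0) : ∀ v ∈ LinearMap.range n, B v = 0 → v = 0 :=
  inj_of_rank n B (hr.trans (hMin _ hsq hne hF))

theorem MinP.eq_zero [FiniteDimensional k M] {d : ℕ} (hMin : MinP G d) {n B : Module.End k M}
    (hr : Module.finrank k (LinearMap.range n) ≤ d) (hsq : (B * n) * (B * n) = 0)
    (hF : Fam G (B * n)) {v : M} (hv : v ∈ LinearMap.range n) (hv0 : v ≠ 0) (hBv : B v = 0) :
    B * n = 0 := by
  by_contra hne
  exact hv0 (hMin.inj hr hsq hF hne v hv hBv)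

/-- A pair of families of rank at most `d`. -/
structure QPair (G : Subgroup (Module.End k M)ˣ) (d : ℕ) (p : SqPair k M) : Prop where
  fn : Fam G p.n
  fm : Fam G p.m
  rn : Module.finrank k (LinearMap.range p.n) ≤ d
  rm : Module.finrank k (LinearMap.range p.m) ≤ d

theorem QPair.swap {d : ℕ} {p : SqPair k M} (h : QPair G d p) : QPair G d p.swap :=
  ⟨h.fm, h.fn, h.rm, h.rn⟩

theorem QPair.HH_le {d : ℕ} {p : SqPair k M} (h : QPair G d p) : HH p ≤ G := by
  rw [HH, Subgroup.closure_le]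
  rintro u (⟨c, hc⟩ | ⟨c, hc⟩)
  · obtain ⟨w, hw, he⟩ := h.fn c
    have : u = w := Units.ext (hc.trans he.symm)
    rw [SetLike.mem_coe, this]; exact hw
  · obtain ⟨w, hw, he⟩ := h.fm c
    have : u = w := Units.ext (hc.trans he.symm)
    rw [SetLike.mem_coe, this]; exact hw

theorem QPair.thetaG_mem {d : ℕ} {p : SqPair k M} (h : QPair G d p) (g : ↥(Gam k)) :
    thetaG p g ∈ G := h.HH_le (thetaG_mem_HH p g)

end Fam

section Conj

variable {k M : Type*} [Field k] [AddCommGroup M] [Module k M] (p : SqPair k M)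

local notation "SLX" => Matrix.SpecialLinearGroup (Fin 2) (Polynomial k)

/-- the `(0,0)` entry -/
def ga (g : ↥(GG k)) : k[X] := ((g : SLX) : Matrix (Fin 2) (Fin 2) k[X]) 0 0

/-- the `(1,0)` entry divided by `X` -/
def gc (g : ↥(GG k)) : k[X] := divX (((g : SLX) : Matrix (Fin 2) (Fin 2) k[X]) 1 0)

theorem g10_eq (g : ↥(GG k)) : ((g : SLX) : Matrix (Fin 2) (Fin 2) k[X]) 1 0 = X * gc g :=
  (Lam.X_mul_divX_of g.2.2).symm

theorem theta_inv_mul (g : ↥(GG k)) : theta p g⁻¹ * theta p g = 1 := by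
  rw [← map_mul, inv_mul_cancel, map_one]

theorem theta_mul_inv (g : ↥(GG k)) : theta p g * theta p g⁻¹ = 1 := by
  rw [← map_mul, mul_inv_cancel, map_one]

/-- the conjugate of `n` by `θ(g)` -/
def mh (g : ↥(GG k)) : Module.End k M := theta p g * p.n * theta p g⁻¹

/-- the quadruple of `mh` -/
def Ymh (g : ↥(GG k)) : Lam k :=
  ⟨ga g * (X * gc g), -(2 * ga g * gc g), ga g ^ 2, -(X * gc g ^ 2)⟩

theorem eq_toMat {A : Matrix (Fin 2) (Fin 2) k[X]} {x : Lam k} (h00 : A 0 0 = x.d + X * x.e)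
    (h01 : A 0 1 = x.b) (h10 : A 1 0 = X * x.c) (h11 : A 1 1 = x.d) : A = x.toMat := by
  refine Matrix.ext fun i j => ?_
  fin_cases i <;> fin_cases j
  · exact h00
  · exact h01
  · exact h10
  · exact h11

theorem mh_eq (g : ↥(GG k)) : mh p g = p.Th (Ymh g) := by
  have hU : theta p (g * ⟨uR (C 1), uR_mem_GG _⟩ * g⁻¹) = 1 + mh p g := by
    rw [map_mul, map_mul, theta_uR, one_smul, mul_add, add_mul, mul_one, theta_mul_inv]
    rfl
  have hT : theta p (g * ⟨uR (C 1), uR_mem_GG _⟩ * g⁻¹) =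
      p.Th ⟨1 + ga g * (X * gc g), -(2 * ga g * gc g), ga g ^ 2, -(X * gc g ^ 2)⟩ := by
    apply theta_of_toMat
    have hc : ((g * ⟨uR (C 1), uR_mem_GG _⟩ * g⁻¹ : ↥(GG k)) : SLX) =
        (g : SLX) * uR (C 1) * (g : SLX)⁻¹ := rfl
    rw [hc]
    apply eq_toMat
    · rw [conjU_00, g10_eq]
      simp only [ga, map_one]
      ring
    · rw [conjU_01]
      simp only [ga, map_one]
      ring
    · rw [conjU_10, g10_eq]
      simp only [map_one]
      ring
    · rw [conjU_11, g10_eq]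
      simp only [ga, map_one]
      ring
  have h3 : p.Th ⟨1 + ga g * (X * gc g), -(2 * ga g * gc g), ga g ^ 2, -(X * gc g ^ 2)⟩ =
      1 + p.Th (Ymh g) := by
    simp only [SqPair.Th, Ymh, SqPair.ev_add, SqPair.ev_one]
    abel
  rw [hU, h3] at hT
  exact add_left_cancel hT

theorem n_mh_n (g : ↥(GG k)) : p.n * mh p g * p.n = -(p.ev ((X * gc g) ^ 2) * p.n) := by
  rw [mh_eq, ← p.Th_qn, ← SqPair.Th_mul, ← SqPair.Th_mul, ← p.Th_qf ((X * gc g) ^ 2), ← SqPair.Th_mul,
    ← SqPair.Th_neg]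
  congr 1
  refine Lam.ext ?_ ?_ ?_ ?_ <;> simp [Lam.mul_d, Lam.mul_e, Lam.mul_b, Lam.mul_c, Ymh] <;> ring

theorem n_mh_comm (g : ↥(GG k)) : p.n * mh p g - mh p g * p.n =
    p.ev (2 * ga g * (X * gc g)) * p.n + p.ev (X * gc g ^ 2) * (p.m * p.n - p.n * p.m) := by
  rw [mh_eq, ← p.Th_qn, ← p.Th_qm, ← p.Th_qf (2 * ga g * (X * gc g)), ← p.Th_qf (X * gc g ^ 2)]
  simp only [← SqPair.Th_mul, ← SqPair.Th_sub, ← SqPair.Th_add]
  congr 1
  refine Lam.ext ?_ ?_ ?_ ?_ <;> simp [Lam.mul_d, Lam.mul_e, Lam.mul_b, Lam.mul_c, Ymh] <;> ring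

theorem n_mh_z (g : ↥(GG k)) : p.n * mh p g + mh p g * p.n = -p.ev ((X * gc g) ^ 2) := by
  rw [mh_eq, ← p.Th_qn, ← p.Th_qf ((X * gc g) ^ 2)]
  simp only [← SqPair.Th_mul, ← SqPair.Th_neg, ← SqPair.Th_add]
  congr 1
  refine Lam.ext ?_ ?_ ?_ ?_ <;> simp [Lam.mul_d, Lam.mul_e, Lam.mul_b, Lam.mul_c, Ymh] <;> ring

theorem mh_sq (g : ↥(GG k)) : mh p g * mh p g = 0 := by
  unfold mh
  have h1 : theta p g * p.n * theta p g⁻¹ * (theta p g * p.n * theta p g⁻¹) =
      theta p g * (p.n * (theta p g⁻¹ * theta p g) * p.n) * theta p g⁻¹ := by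
    simp only [mul_assoc]
  rw [h1, theta_inv_mul, mul_one, p.hn, mul_zero, zero_mul]

/-- the pair `(n, θ(g) n θ(g)⁻¹)` -/
def cpair (g : ↥(GG k)) : SqPair k M := ⟨p.n, mh p g, p.hn, mh_sq p g⟩

@[simp] theorem cpair_n (g : ↥(GG k)) : (cpair p g).n = p.n := rfl
@[simp] theorem cpair_m (g : ↥(GG k)) : (cpair p g).m = mh p g := rfl

theorem cpair_z (g : ↥(GG k)) : (cpair p g).z = -p.ev ((X * gc g) ^ 2) := n_mh_z p g

theorem mh_val (g : ↥(GG k)) : mh p g = ((thetaU p g : (Module.End k M)ˣ) : Module.End k M) * p.n *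
    (((thetaU p g)⁻¹ : (Module.End k M)ˣ) : Module.End k M) := by
  rw [← map_inv, thetaU_val, thetaU_val]; rfl

theorem QPair.cpair [FiniteDimensional k M] {G : Subgroup (Module.End k M)ˣ} {d : ℕ}
    (h : QPair G d p) (g : ↥(GG k)) (hg : thetaU p g ∈ G) : QPair G d (cpair p g) where
  fn := h.fn
  fm := by rw [cpair_m, mh_val]; exact h.fn.conj hg
  rn := h.rn
  rm := by
    refine le_trans ?_ h.rn
    show Module.finrank k (LinearMap.range (mh p g)) ≤ Module.finrank k (LinearMap.range p.n)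
    unfold mh
    rw [mul_assoc, Module.End.mul_eq_comp, LinearMap.range_comp]
    refine (Submodule.finrank_map_le _ _).trans ?_
    apply Submodule.finrank_mono
    rw [Module.End.mul_eq_comp]
    exact LinearMap.range_comp_le_range _ _

/-- `mh` kills the vectors of `im n` killed by `(g₁₀)(z)`. -/
theorem mh_apply_eq_zero (g : ↥(GG k)) {v : M} (hv : v ∈ LinearMap.range p.n)
    (h0 : p.ev (X * gc g) v = 0) : mh p g v = 0 := by
  obtain ⟨w, rfl⟩ := hv
  have hz : p.z (p.ev (gc g) (p.n w)) = 0 := by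
    rw [← p.ev_X_apply, ← p.ev_mul_apply]; exact h0
  rw [mh_eq, SqPair.Th_apply]
  have e1 : p.ev (Ymh g).d (p.n w) = 0 := by
    show p.ev (ga g * (X * gc g)) (p.n w) = 0
    rw [p.ev_mul_apply, h0, map_zero]
  have e2 : p.ev (Ymh g).e (p.P (p.n w)) = 0 := by
    show p.ev (-(2 * ga g * gc g)) (p.P (p.n w)) = 0
    have hP : p.P (p.n w) = p.z (p.n w) := by
      rw [p.z_apply, p.P_apply, p.n_n_apply, map_zero, add_zero]
    rw [hP, SqPair.ev_neg, LinearMap.neg_apply, p.ev_mul_apply, p.ev_z_apply, hz, map_zero, neg_zero]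
  have e3 : p.ev (Ymh g).b (p.n (p.n w)) = 0 := by
    rw [p.n_n_apply, map_zero]
  have e4 : p.ev (Ymh g).c (p.m (p.n w)) = 0 := by
    show p.ev (-(X * gc g ^ 2)) (p.m (p.n w)) = 0
    have h5 : X * gc g ^ 2 = gc g * (X * gc g) := by ring
    rw [SqPair.ev_neg, LinearMap.neg_apply, p.ev_m_apply, h5, p.ev_mul_apply, h0, map_zero, map_zero,
      neg_zero]
  rw [e1, e2, e3, e4]
  simp

end Conj

end

end Cfsg.Agent.Lib.H18.QP
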