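import Cfsg.Agent.Lib.H18.QP28
import Cfsg.Agent.Lib.H18.QP29

/-!
# Rank bounds for the even and odd parts (helper18, for S5069)
-/

set_option autoImplicit false

namespace Cfsg.Agent.Lib.H18.QP

noncomputable section

section rank

variable {k M : Type*} [Field k] [AddCommGroup M] [Module k M]

theorem rank_three_le [FiniteDimensional k M] {d : ℕ} {n m x v β γ : Module.End k M}
    (hn : Module.finrank k (LinearMap.range n) ≤ d)
    (hx : ∀ w ∈ LinearMap.range x, n (m w) = w)
    (hv : LinearMap.ker n ≤ LinearMap.ker v) (hβ : LinearMap.ker n ≤ LinearMap.ker β)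
    (hvx : v * m * x = 0) (hβx : β * m * x = 0)
    (hγ : LinearMap.range γ ≤ (LinearMap.ker v).map β) :
    Module.finrank k (LinearMap.range x) + Module.finrank k (LinearMap.range v) +
      Module.finrank k (LinearMap.range γ) ≤ d := by
  have h1 := finrank_map_add_inf_ker m (LinearMap.range x)
  have h1' : (LinearMap.range x ⊓ LinearMap.ker m : Submodule k M) = ⊥ := by
    rw [eq_bot_iff]
    rintro w ⟨hw1, hw2⟩
    rw [SetLike.mem_coe, LinearMap.mem_ker] at hw2
    have := hx w hw1
    rw [hw2, map_zero] at this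
    rw [Submodule.mem_bot]; exact this.symm
  rw [h1', finrank_bot, add_zero] at h1
  have h2 : (LinearMap.ker n ⊓ (LinearMap.range x).map m : Submodule k M) = ⊥ := by
    rw [eq_bot_iff]
    rintro z ⟨hz1, hz2⟩
    rw [SetLike.mem_coe, LinearMap.mem_ker] at hz1
    obtain ⟨w, hw, rfl⟩ := hz2
    have := hx w hw
    rw [hz1] at this
    rw [Submodule.mem_bot, ← this, map_zero]
  have h3 : LinearMap.ker n ⊔ (LinearMap.range x).map m ≤ LinearMap.ker v ⊓ LinearMap.ker β := by
    apply sup_le (le_inf hv hβ)
    rintro _ ⟨_, ⟨y, rfl⟩, rfl⟩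
    refine ⟨?_, ?_⟩
    · rw [SetLike.mem_coe, LinearMap.mem_ker]
      exact LinearMap.congr_fun hvx y
    · rw [SetLike.mem_coe, LinearMap.mem_ker]
      exact LinearMap.congr_fun hβx y
  have h4 := Submodule.finrank_sup_add_finrank_inf_eq (LinearMap.ker n) ((LinearMap.range x).map m)
  rw [h2, finrank_bot, add_zero] at h4
  have h5 := Submodule.finrank_mono h3
  have h6 := finrank_map_add_inf_ker β (LinearMap.ker v)
  have h7 := Submodule.finrank_mono hγ
  have h8 := LinearMap.finrank_range_add_finrank_ker v
  have h9 := LinearMap.finrank_range_add_finrank_ker n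
  omega

theorem finrank_range_add_le [FiniteDimensional k M] (a b : Module.End k M) :
    Module.finrank k (LinearMap.range (a + b)) ≤
      Module.finrank k (LinearMap.range a) + Module.finrank k (LinearMap.range b) :=
  (Submodule.finrank_mono (LinearMap.range_add_le a b)).trans
    (Submodule.finrank_add_le_finrank_add_finrank _ _)

variable {n m c : Module.End k M}

theorem Rel.nm_apply_of_p (h : Rel n m c) (y : Module.End k M) :
    ∀ w ∈ LinearMap.range (bp n m * y), n (m w) = w := by
  rintro _ ⟨z, rfl⟩
  show (n * m * (bp n m * y)) z = (bp n m * y) z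
  have : n * m * (bp n m * y) = bp n m * y := by
    rw [← mul_assoc]
    show bp n m * bp n m * y = bp n m * y
    rw [h.pp]
  rw [this]

theorem Rel.ker_n_le (_h : Rel n m c) (y : Module.End k M) :
    LinearMap.ker n ≤ LinearMap.ker (y * bq n m) := by
  intro w hw
  rw [LinearMap.mem_ker] at hw ⊢
  show y (m (n w)) = 0
  rw [hw, map_zero, map_zero]

theorem Rel.rank_C0 [FiniteDimensional k M] (h : Rel n m c) {d : ℕ}
    (hn : Module.finrank k (LinearMap.range n) ≤ d) :
    Module.finrank k (LinearMap.range (bC0 n m c)) ≤ d := by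
  have key := rank_three_le (n := n) (m := m) (x := bp n m * c * bp n m) (v := bq n m * c * bq n m)
    (β := bf n m * c * bq n m) (γ := bf n m * c * bf n m) hn
    (by rw [mul_assoc]; exact h.nm_apply_of_p _)
    (h.ker_n_le _) (h.ker_n_le _)
    (by rw [h.sandwich, h.qcp]) (by rw [h.sandwich, h.fcp])
    (by
      rintro _ ⟨y, rfl⟩
      refine ⟨m ((bp n m * c * bf n m) y), ?_, ?_⟩
      · rw [SetLike.mem_coe, LinearMap.mem_ker]
        have := h.sandwich (bq n m) (bf n m)
        rw [h.qcf] at this
        exact LinearMap.congr_fun this y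
      · exact LinearMap.congr_fun (h.sandwich (bf n m) (bf n m)) y)
  have e1 := finrank_range_add_le (bp n m * c * bp n m + bq n m * c * bq n m) (bf n m * c * bf n m)
  have e2 := finrank_range_add_le (bp n m * c * bp n m) (bq n m * c * bq n m)
  rw [bC0]
  omega

theorem Rel.rank_C1 [FiniteDimensional k M] (h : Rel n m c) {d : ℕ}
    (hn : Module.finrank k (LinearMap.range n) ≤ d) (h0 : bC0 n m c = 0) :
    Module.finrank k (LinearMap.range (bC1 n m c)) ≤ d := by
  obtain ⟨_, _, hG⟩ := h.C0_eq_zero_blocks h0
  have key := rank_three_le (n := n) (m := m) (x := bp n m * c * bf n m) (v := 0)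
    (β := bf n m * c * bq n m) (γ := bf n m * c * bq n m) hn
    (by rw [mul_assoc]; exact h.nm_apply_of_p _)
    (by rw [LinearMap.ker_zero]; exact le_top) (h.ker_n_le _)
    (by rw [zero_mul, zero_mul]) (by rw [h.sandwich, hG])
    (by rw [LinearMap.ker_zero, Submodule.map_top])
  have e1 := finrank_range_add_le (bp n m * c * bf n m) (bf n m * c * bq n m)
  have e2 : Module.finrank k (LinearMap.range (0 : Module.End k M)) = 0 := by
    rw [LinearMap.range_zero, finrank_bot]
  rw [bC1]
  omega

end rank

end

end Cfsg.Agent.Lib.H18.QP
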