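import Cfsg.Agent.Lib.H18.QP30
import Cfsg.Agent.S5073

/-!
# Members of `Σ` with the same centralizer in `Σ` coincide (helper18, for S5069)
-/

set_option autoImplicit false

namespace Cfsg.Agent.Lib.H18.QP

open scoped commutatorElement
open Cfsg.Agent.Lib.H6.RootSub

noncomputable section

universe u

section grp

variable {Γ : Type*} [Group Γ]

theorem conjBy_comm_bot {X Y : Subgroup Γ} (g : Γ) (h : ⁅X, Y⁆ = ⊥) :
    ⁅Cfsg.conjBy X g, Cfsg.conjBy Y g⁆ = ⊥ := by
  show ⁅X.map (MulAut.conj g).toMonoidHom, Y.map (MulAut.conj g).toMonoidHom⁆ = ⊥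
  rw [← Subgroup.map_commutator, h, Subgroup.map_bot]

end grp

variable {k : Type u} [Field k] {M : Type u} [AddCommGroup M] [Module k M]
variable {G : Subgroup (Module.End k M)ˣ}

theorem mem_sigma_conj [FiniteDimensional k M] {D : Subgroup (Module.End k M)ˣ}
    (hD : D ∈ Cfsg.quadraticRootSubgroups G) {g : (Module.End k M)ˣ} (hg : g ∈ G) :
    Cfsg.conjBy D g ∈ Cfsg.quadraticRootSubgroups G := by
  obtain ⟨ρ, hρ, rfl⟩ := hD
  rw [conjBy_E hg]
  exact ⟨_, conj_mem_minimal hg hρ, rfl⟩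

theorem exists_mem_E_smul [FiniteDimensional k M] {a : (Module.End k M)ˣ}
    (ha : a ∈ Cfsg.minimalQuadraticElements G) (t : k) :
    ∃ u ∈ Cfsg.sameActionSubgroup G a, ((u : (Module.End k M)ˣ) : Module.End k M) = 1 + t • nu a := by
  obtain ⟨u, huG, hu⟩ := fam_of ha.1 t
  refine ⟨u, mem_E_of_val ha hu huG ((fam_of ha.1).smul t) ?_ ?_, hu⟩
  · rintro _ ⟨y, rfl⟩
    exact ⟨t • y, by rw [map_smul]; rfl⟩
  · intro w hw
    rw [LinearMap.mem_ker] at hw ⊢
    show t • nu a w = 0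
    rw [hw, smul_zero]

theorem commute_of_comm_bot {D E : Subgroup (Module.End k M)ˣ} (h : ⁅D, E⁆ = ⊥)
    {d x : (Module.End k M)ˣ} (hd : d ∈ D) (hx : x ∈ E) : Commute x d :=
  ((commutator_eq_bot_iff_forall.mp h) d hd x hx).symm

/-- the setting: a hyperbolic pair `a, b` and a second partner `c'` of `b`, with `E(a) ≤ E(c')` in
the centralizer preorder -/
structure Setting (G : Subgroup (Module.End k M)ˣ) (a b c' : (Module.End k M)ˣ) : Prop where
  ha : a ∈ Cfsg.minimalQuadraticElements G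
  hb : b ∈ Cfsg.minimalQuadraticElements G
  hc : c' ∈ Cfsg.minimalQuadraticElements G
  rel : Rel (nu a) (nu b) (nu c')
  le : LeS (Cfsg.quadraticRootSubgroups G) (Cfsg.sameActionSubgroup G a) (Cfsg.sameActionSubgroup G c')

/-- the property of a family `1 + tν` of elements of `G` centralizing all of `C_Σ(A)` -/
def CFam (G : Subgroup (Module.End k M)ˣ) (a : (Module.End k M)ˣ) (ν : Module.End k M) : Prop :=
  ∀ t : k, ∃ u ∈ G, ((u : (Module.End k M)ˣ) : Module.End k M) = 1 + t • ν ∧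
    ∀ D ∈ Cfsg.quadraticRootSubgroups G, ⁅D, Cfsg.sameActionSubgroup G a⁆ = ⊥ → ∀ d ∈ D, Commute u d

theorem Setting.cfam_even [FiniteDimensional k M] (hk2 : ringChar k ≠ 2) {a b c' : (Module.End k M)ˣ}
    (S : Setting G a b c') : CFam G a (bC0 (nu a) (nu b) (nu c')) := by
  have h2k : (2 : k) ≠ 0 := Ring.two_ne_zero hk2
  have h := S.rel
  intro t
  obtain ⟨s, hs⟩ : ∃ s : k, s + s = t := ⟨t * 2⁻¹, by rw [← mul_two, mul_assoc, inv_mul_cancel₀ h2k, mul_one]⟩
  obtain ⟨x1, hx1, hv1⟩ := exists_mem_E_smul S.ha (-(s + s))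
  obtain ⟨x2, hx2, hv2⟩ := exists_mem_E_smul S.hc s
  -- the involution
  obtain ⟨w, hw⟩ : ∃ w : (Module.End k M)ˣ, w = a * b⁻¹ * a := ⟨_, rfl⟩
  obtain ⟨i, hi⟩ : ∃ i : (Module.End k M)ˣ, i = w * w := ⟨_, rfl⟩
  have hiG : i ∈ G := by
    rw [hi, hw]
    have haG : a ∈ G := S.ha.1.1
    have hbG : b ∈ G := S.hb.1.1
    exact G.mul_mem (G.mul_mem (G.mul_mem haG (G.inv_mem hbG)) haG)
      (G.mul_mem (G.mul_mem haG (G.inv_mem hbG)) haG)
  have hvw : (w : Module.End k M) = (1 + nu a) * (1 - nu b) * (1 + nu a) := by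
    rw [hw, Units.val_mul, Units.val_mul, val_inv_of_sq h.hm, val_eq_nu a]
  have hvi : (i : Module.End k M) = bf (nu a) (nu b) - bp (nu a) (nu b) - bq (nu a) (nu b) := by
    obtain ⟨e1, e2, e3, e4, e5⟩ := ring_e (nu a) (nu b) h.hn h.hm h.h1 h.h2
    rw [hi, Units.val_mul, hvw, ring_invol (nu a) (nu b) _ h.hn h.hm h.h1 rfl e1 e2 e3 e4 e5, bf, bp, bq]
    abel
  have hii : i * i = 1 := by
    apply Units.ext
    rw [Units.val_mul, hvi, h.invol_sq, Units.val_one]
  have hinv : i⁻¹ = i := inv_eq_of_mul_eq_one_left hii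
  -- `i` centralizes `a`
  have hia : i * a * i⁻¹ = a := by
    rw [hinv]
    apply Units.ext
    rw [Units.val_mul, Units.val_mul, hvi, val_eq_nu a, mul_add, add_mul, mul_one, h.invol_sq, h.invol_n]
  have hnorm : Cfsg.conjBy (Cfsg.sameActionSubgroup G a) i = Cfsg.sameActionSubgroup G a := by
    rw [conjBy_E hiG, hia]
  obtain ⟨x3, hx3⟩ : ∃ x3 : (Module.End k M)ˣ, x3 = i⁻¹ * x2 * i := ⟨_, rfl⟩
  have hv3 : (x3 : Module.End k M) = 1 + s • (bC0 (nu a) (nu b) (nu c') + nu a - bC1 (nu a) (nu b) (nu c')) := by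
    rw [hx3, hinv, Units.val_mul, Units.val_mul, hv2, hvi, mul_add, add_mul, mul_one, h.invol_sq,
      mul_smul_comm, smul_mul_assoc, h.conj_invol]
  have hx1G : x1 ∈ G := E_le _ hx1
  have hx2G : x2 ∈ G := E_le _ hx2
  refine ⟨x1 * x2 * x3, G.mul_mem (G.mul_mem hx1G hx2G) ?_, ?_, ?_⟩
  · rw [hx3]; exact G.mul_mem (G.mul_mem (G.inv_mem hiG) hx2G) hiG
  · rw [Units.val_mul, Units.val_mul, hv1, hv2, hv3]
    have hdec : s • nu c' = s • bC0 (nu a) (nu b) (nu c') + s • nu a + s • bC1 (nu a) (nu b) (nu c') := by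
      conv_lhs => rw [h.decomp]
      rw [smul_add, smul_add]
    have key := val_id (N := s • nu a) (X := s • bC0 (nu a) (nu b) (nu c'))
      (Y := s • bC1 (nu a) (nu b) (nu c')) (P := (s * s) • (nu a * nu c'))
      (by rw [smul_mul_smul_comm, h.C0_sq, smul_zero])
      (by rw [smul_mul_smul_comm, h.C0_C1, smul_zero])
      (by rw [smul_mul_smul_comm, h.C1_C0, smul_zero])
      (by rw [smul_mul_smul_comm, h.C1_sq, smul_neg, smul_add])
      (by rw [smul_mul_smul_comm, h.n_C0])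
      (by rw [smul_mul_smul_comm, h.C0_n])
      (by rw [smul_mul_smul_comm, h.n_C1, smul_zero])
      (by rw [smul_mul_smul_comm, h.C1_n, smul_zero])
      (by rw [smul_mul_smul_comm, h.hn, smul_zero])
      (by rw [smul_mul_smul_comm, h.n_pi, smul_zero])
    rw [hdec, smul_sub, smul_add, ← hs, add_smul, neg_smul, add_smul, ← sub_eq_add_neg]
    exact key
  · intro D hD hDA d hd
    have c1 : Commute x1 d := commute_of_comm_bot hDA hd hx1
    have hDC := S.le D hD hDA
    have c2 : Commute x2 d := commute_of_comm_bot hDC hd hx2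
    have c3 : Commute x3 d := by
      have hD' := mem_sigma_conj hD hiG
      have hD'A : ⁅Cfsg.conjBy D i, Cfsg.sameActionSubgroup G a⁆ = ⊥ := by
        have := conjBy_comm_bot i hDA
        rwa [hnorm] at this
      have hD'C := S.le _ hD' hD'A
      have hmem : i * d * i⁻¹ ∈ Cfsg.conjBy D i := by
        rw [mem_conjBy]
        have e : i⁻¹ * (i * d * i⁻¹) * i = d := by group
        rw [e]; exact hd
      have hc : x2 * (i * d * i⁻¹) = (i * d * i⁻¹) * x2 := commute_of_comm_bot hD'C hmem hx2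
      show x3 * d = d * x3
      calc x3 * d = i⁻¹ * (x2 * (i * d * i⁻¹)) * i := by rw [hx3]; group
        _ = i⁻¹ * ((i * d * i⁻¹) * x2) * i := by rw [hc]
        _ = d * x3 := by rw [hx3]; group
    exact (c1.mul_left c2).mul_left c3

theorem Setting.cfam_odd [FiniteDimensional k M] {a b c' : (Module.End k M)ˣ}
    (S : Setting G a b c') (h0 : bC0 (nu a) (nu b) (nu c') = 0) :
    CFam G a (bC1 (nu a) (nu b) (nu c')) := by
  have h := S.rel
  intro t
  obtain ⟨x1, hx1, hv1⟩ := exists_mem_E_smul S.ha (-t)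
  obtain ⟨x2, hx2, hv2⟩ := exists_mem_E_smul S.hc t
  have hx1G : x1 ∈ G := E_le _ hx1
  have hx2G : x2 ∈ G := E_le _ hx2
  refine ⟨x1 * x2, G.mul_mem hx1G hx2G, ?_, ?_⟩
  · rw [Units.val_mul, hv1, hv2]
    have hdec : t • nu c' = t • nu a + t • bC1 (nu a) (nu b) (nu c') := by
      conv_lhs => rw [h.decomp, h0, zero_add]
      rw [smul_add]
    have key := val_id' (N := t • nu a) (Y := t • bC1 (nu a) (nu b) (nu c'))
      (by rw [smul_mul_smul_comm, h.hn, smul_zero])
      (by rw [smul_mul_smul_comm, h.n_C1, smul_zero])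
    rw [hdec, neg_smul, ← sub_eq_add_neg]
    exact key
  · intro D hD hDA d hd
    have c1 : Commute x1 d := commute_of_comm_bot hDA hd hx1
    have hDC := S.le D hD hDA
    have c2 : Commute x2 d := commute_of_comm_bot hDC hd hx2
    exact c1.mul_left c2

end

end Cfsg.Agent.Lib.H18.QP
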