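import Cfsg.Agent.Lib.H18.QP31

/-!
# Members of `Σ` with the same centralizer in `Σ` coincide, II (helper18, for S5069)
-/

set_option autoImplicit false

namespace Cfsg.Agent.Lib.H18.QP

open scoped commutatorElement
open Cfsg.Agent.Lib.H6.RootSub

noncomputable section

universe u

variable {k : Type u} [Field k] {M : Type u} [AddCommGroup M] [Module k M]
variable {G : Subgroup (Module.End k M)ˣ}

theorem mem_sigma {ρ : (Module.End k M)ˣ} (hρ : ρ ∈ Cfsg.minimalQuadraticElements G) :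
    Cfsg.sameActionSubgroup G ρ ∈ Cfsg.quadraticRootSubgroups G := ⟨ρ, hρ, rfl⟩

theorem mem_class_self {ρ : (Module.End k M)ˣ} (hρ : ρ ∈ Cfsg.minimalQuadraticElements G) :
    ρ ∈ Cfsg.sameActionClass G ρ := ⟨hρ, rfl, rfl⟩

theorem mem_E_self {ρ : (Module.End k M)ˣ} (hρ : ρ ∈ Cfsg.minimalQuadraticElements G) :
    ρ ∈ Cfsg.sameActionSubgroup G ρ := Subgroup.subset_closure (mem_class_self hρ)

/-- a non-zero square-zero centralizing family of minimal rank gives a member of `Σ` equivalent to `A` -/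
theorem exists_of_cfam [FiniteDimensional k M] (hk2 : ringChar k ≠ 2) (hk3 : Nat.card k ≠ 3)
    (hG : Cfsg.IsQuadraticPair G) {a : (Module.End k M)ˣ} (ha : a ∈ Cfsg.minimalQuadraticElements G)
    {ν : Module.End k M} (hsq : ν * ν = 0) (hne : ν ≠ 0)
    (hr : Module.finrank k (LinearMap.range ν) ≤ Cfsg.commutatorRank a) (hF : CFam G a ν) :
    ∃ g ∈ Cfsg.minimalQuadraticElements G, nu g = ν ∧
      LeS (Cfsg.quadraticRootSubgroups G) (Cfsg.sameActionSubgroup G g) (Cfsg.sameActionSubgroup G a) := by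
  obtain ⟨g, hgG, hg, hcomm⟩ := hF 1
  rw [one_smul] at hg
  have hnu : nu g = ν := by unfold nu; rw [hg, add_sub_cancel_left]
  have hFam : Fam G (nu g) := by
    intro t
    obtain ⟨u, hu, hv, _⟩ := hF t
    exact ⟨u, hu, by rw [hnu]; exact hv⟩
  have hgmin : g ∈ Cfsg.minimalQuadraticElements G :=
    mem_minimal_of ha hgG hFam (by rw [hnu]; exact hsq) (by rw [hnu]; exact hne) (by rw [hnu]; exact hr)
  refine ⟨g, hgmin, hnu, ?_⟩
  have hle : LeS (Cfsg.quadraticRootSubgroups G) (Cfsg.sameActionSubgroup G a)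
      (Cfsg.sameActionSubgroup G g) := by
    rintro _ ⟨ρ, hρ, rfl⟩ hKA
    have hc : g * ρ = ρ * g := hcomm _ (mem_sigma hρ) hKA ρ (mem_E_self hρ)
    have := Cfsg.Agent.S5073.key_a hk2 hk3 hgmin hρ (mem_class_self hgmin) (mem_class_self hρ) hc
    rw [Subgroup.commutator_comm]; exact this
  obtain ⟨D, hD, hR⟩ := hall_sigma hk2 hk3 hG _ (mem_sigma hgmin)
  exact hle.symm_of_partner (rs_sigma hk2 hk3 hG) (mem_sigma ha) (mem_sigma hgmin) hD hR

theorem opp_of_rankOne [FiniteDimensional k M] (hk2 : ringChar k ≠ 2) (hk3 : Nat.card k ≠ 3)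
    (hG : Cfsg.IsQuadraticPair G) {σ τ : (Module.End k M)ˣ}
    (hσ : σ ∈ Cfsg.minimalQuadraticElements G) (hτ : τ ∈ Cfsg.minimalQuadraticElements G)
    (hR : Cfsg.IsRankOnePair (Cfsg.sameActionSubgroup G σ) (Cfsg.sameActionSubgroup G τ)) :
    Opp (nu σ) (nu τ) := by
  obtain ⟨x, hx, y, hy, hnil⟩ := exists_not_nil_of_rankOne hk2 hk3 hG hσ hτ hR
  exact (opp_of_not_nil hk2 hk3 hx.1 hy.1 hnil).congr hx.2.2.symm hx.2.1.symm hy.2.2.symm hy.2.1.symm

theorem units_comm_of_nu {x y : (Module.End k M)ˣ} (h : nu x * nu y = nu y * nu x) : x * y = y * x := by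
  apply Units.ext
  rw [Units.val_mul, Units.val_mul, val_eq_nu x, val_eq_nu y]
  simp only [add_mul, mul_add, one_mul, mul_one, h]
  abel

theorem nu_comm_of_units {x y : (Module.End k M)ˣ} (h : x * y = y * x) : nu x * nu y = nu y * nu x := by
  have h1 : (x : Module.End k M) * (y : Module.End k M) = (y : Module.End k M) * (x : Module.End k M) := by
    rw [← Units.val_mul, ← Units.val_mul, h]
  unfold nu
  simp only [sub_mul, mul_sub, one_mul, mul_one, h1]
  abel

theorem Setting.eq [FiniteDimensional k M] (hk2 : ringChar k ≠ 2) (hk3 : Nat.card k ≠ 3)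
    (hG : Cfsg.IsQuadraticPair G) {a b c' : (Module.End k M)ˣ} (S : Setting G a b c')
    (hR : Cfsg.IsRankOnePair (Cfsg.sameActionSubgroup G a) (Cfsg.sameActionSubgroup G b)) : a = c' := by
  have h := S.rel
  have hRS := rs_sigma hk2 hk3 hG
  have hrn : Module.finrank k (LinearMap.range (nu a)) ≤ Cfsg.commutatorRank a := le_of_eq (rank_of S.ha S.ha)
  -- the even part vanishes
  have h0 : bC0 (nu a) (nu b) (nu c') = 0 := by
    by_contra hne
    obtain ⟨g, hg, hnu, hle⟩ := exists_of_cfam hk2 hk3 hG S.ha h.C0_sq hne (h.rank_C0 hrn) (S.cfam_even hk2)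
    have hc : g * b = b * g := by
      apply units_comm_of_nu
      rw [hnu]; exact h.m_C0.symm
    have h1 := Cfsg.Agent.S5073.key_a hk2 hk3 hg S.hb (mem_class_self hg) (mem_class_self S.hb) hc
    rw [Subgroup.commutator_comm] at h1
    have h2 := hle _ (mem_sigma S.hb) h1
    rw [Subgroup.commutator_comm] at h2
    exact commutator_ne_bot_of_rankOne hR h2
  have hpi : nu a * nu c' = 0 := by rw [← h.n_C0, h0, mul_zero]
  -- the odd part vanishes
  have h1 : bC1 (nu a) (nu b) (nu c') = 0 := by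
    by_contra hne
    have hsq : bC1 (nu a) (nu b) (nu c') * bC1 (nu a) (nu b) (nu c') = 0 := by
      rw [h.C1_sq, hpi, add_zero, neg_zero]
    obtain ⟨g, hg, hnu, hle⟩ := exists_of_cfam hk2 hk3 hG S.ha hsq hne (h.rank_C1 hrn h0) (S.cfam_odd h0)
    have hR' := hle.rankOne hRS (mem_sigma hg) (mem_sigma S.ha) (mem_sigma S.hb) hR
    have hopp := opp_of_rankOne hk2 hk3 hG hg S.hb hR'
    have hnn := not_nil_of_opp hg.1.2.1.1 S.hb.1.2.1.1 hopp hg.1.2.1.2
    apply hnn
    rw [hnu]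
    refine ⟨2, ?_⟩
    rw [pow_two]
    have e : bC1 (nu a) (nu b) (nu c') * nu b * (bC1 (nu a) (nu b) (nu c') * nu b) =
        bC1 (nu a) (nu b) (nu c') * (nu b * bC1 (nu a) (nu b) (nu c') * nu b) := by noncomm_ring
    rw [e, h.m_C1_m, mul_zero]
  have hnu : nu c' = nu a := by
    conv_lhs => rw [h.decomp, h0, h1, zero_add, add_zero]
  apply Units.ext
  rw [val_eq_nu a, val_eq_nu c', hnu]

/-- **Members of `Σ` with the same commuting members coincide.** -/
theorem sigma_eq_of_les [FiniteDimensional k M] (hk2 : ringChar k ≠ 2) (hk3 : Nat.card k ≠ 3)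
    (hG : Cfsg.IsQuadraticPair G) {σ δ : (Module.End k M)ˣ}
    (hσ : σ ∈ Cfsg.minimalQuadraticElements G) (hδ : δ ∈ Cfsg.minimalQuadraticElements G)
    (h1 : LeS (Cfsg.quadraticRootSubgroups G) (Cfsg.sameActionSubgroup G σ) (Cfsg.sameActionSubgroup G δ))
    (h2 : LeS (Cfsg.quadraticRootSubgroups G) (Cfsg.sameActionSubgroup G δ) (Cfsg.sameActionSubgroup G σ)) :
    Cfsg.sameActionSubgroup G σ = Cfsg.sameActionSubgroup G δ := by
  have hRS := rs_sigma hk2 hk3 hG
  obtain ⟨τ, hτ, hnil⟩ := exists_opposite hk2 hk3 hG hσ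
  have hopp : Opp (nu σ) (nu τ) := opp_of_not_nil hk2 hk3 hσ hτ hnil
  have hR : Cfsg.IsRankOnePair (Cfsg.sameActionSubgroup G σ) (Cfsg.sameActionSubgroup G τ) :=
    (caseR hk2 hk3 hσ hτ hnil).1.1
  have hR' : Cfsg.IsRankOnePair (Cfsg.sameActionSubgroup G δ) (Cfsg.sameActionSubgroup G τ) :=
    h2.rankOne hRS (mem_sigma hδ) (mem_sigma hσ) (mem_sigma hτ) hR
  have hopp' : Opp (nu δ) (nu τ) := opp_of_rankOne hk2 hk3 hG hδ hτ hR'
  obtain ⟨a, ha, ha1, ha2⟩ := exists_partner hk2 hk3 hτ hσ hopp.symm (mem_class_self hτ)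
  obtain ⟨c', hc', hc1, hc2⟩ := exists_partner hk2 hk3 hτ hδ hopp'.symm (mem_class_self hτ)
  have eA := subgroup_eq_of_mem ha
  have eC := subgroup_eq_of_mem hc'
  rw [← eA, ← eC] at h1 ⊢
  rw [← eA] at hR
  have hAA : ⁅Cfsg.sameActionSubgroup G a, Cfsg.sameActionSubgroup G a⁆ = ⊥ := by
    rw [commutator_eq_bot_iff_forall]
    intro x hx y hy
    exact comm_of_mem ha.1 hx hy
  have hAC := h1 _ (mem_sigma ha.1) hAA
  have hac : a * c' = c' * a :=
    (commutator_eq_bot_iff_forall.mp hAC) a (mem_E_self ha.1) c' (mem_E_self hc'.1)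
  have S : Setting G a τ c' :=
    ⟨ha.1, hτ, hc'.1, ⟨ha.1.1.2.1.1, hτ.1.2.1.1, hc'.1.1.2.1.1, ha2, ha1, hc2, hc1, nu_comm_of_units hac⟩, h1⟩
  rw [S.eq hk2 hk3 hG hR]

end

end Cfsg.Agent.Lib.H18.QP
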