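import Cfsg.Agent.Lib.H18.QP27
import Cfsg.Agent.S5033
import Cfsg.Agent.Lib.H7.Quasisimple

/-!
# Components of a family of abstract root subgroups (helper18, for S5069)
-/

set_option autoImplicit false

namespace Cfsg.Agent.Lib.H18.QP

open scoped commutatorElement
open Cfsg.Agent.Lib.H6.RootSub

section comp

variable {H : Type*} [Group H] {S : Set (Subgroup H)} {A₀ : Subgroup H}

theorem fadj_symm {A B : Subgroup H} (h : Cfsg.FAdj S A B) : Cfsg.FAdj S B A :=
  ⟨h.2.1, h.1, Cfsg.RankOnePair_symm h.2.2⟩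

theorem rtg_symm {A B : Subgroup H} (h : Relation.ReflTransGen (Cfsg.FAdj S) A B) :
    Relation.ReflTransGen (Cfsg.FAdj S) B A := by
  induction h with
  | refl => exact .refl
  | tail _ hstep ih => exact Relation.ReflTransGen.head (fadj_symm hstep) ih

/-- the connected component of `A₀` -/
def comp (S : Set (Subgroup H)) (A₀ : Subgroup H) : Set (Subgroup H) :=
  {B | B ∈ S ∧ Relation.ReflTransGen (Cfsg.FAdj S) A₀ B}

theorem self_mem_comp (hA : A₀ ∈ S) : A₀ ∈ comp S A₀ := ⟨hA, .refl⟩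

theorem comp_closed {B C : Subgroup H} (hB : B ∈ comp S A₀) (h : Cfsg.FAdj S B C) : C ∈ comp S A₀ :=
  ⟨h.2.1, hB.2.tail h⟩

theorem comp_closed_rtg {B C : Subgroup H} (hB : B ∈ comp S A₀)
    (h : Relation.ReflTransGen (Cfsg.FAdj S) B C) : C ∈ comp S A₀ := by
  induction h with
  | refl => exact hB
  | tail _ hstep ih => exact comp_closed ih hstep

theorem rtg_comp {B C : Subgroup H} (hB : B ∈ comp S A₀)
    (h : Relation.ReflTransGen (Cfsg.FAdj S) B C) :
    Relation.ReflTransGen (Cfsg.FAdj (comp S A₀)) B C := by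
  induction h with
  | refl => exact .refl
  | tail hBD hstep ih =>
    exact ih.tail ⟨comp_closed_rtg hB hBD, comp_closed (comp_closed_rtg hB hBD) hstep, hstep.2.2⟩

theorem comp_connected : Cfsg.IsConnectedFamily (Cfsg.FAdj (comp S A₀)) (comp S A₀) := by
  intro B hB C hC
  exact rtg_comp hB ((rtg_symm hB.2).trans hC.2)

theorem comp_eq_of_mem {B : Subgroup H} (hB : B ∈ comp S A₀) : comp S B = comp S A₀ := by
  ext C
  constructor
  · rintro ⟨hC, h⟩; exact ⟨hC, hB.2.trans h⟩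
  · rintro ⟨hC, h⟩; exact ⟨hC, (rtg_symm hB.2).trans h⟩

theorem G0_comp_le : G0 (comp S A₀) ≤ G0 S := by
  apply iSup₂_le
  intro B hB
  exact le_G0 hB.1

theorem commutator_commutator_eq_bot {A B D : Subgroup H} (hA : ⁅A, D⁆ = ⊥) (hB : ⁅B, D⁆ = ⊥) :
    ⁅⁅A, B⁆, D⁆ = ⊥ := by
  rw [Subgroup.commutator_eq_bot_iff_le_centralizer] at hA hB ⊢
  rw [Subgroup.commutator_le]
  intro a ha b hb
  rw [commutatorElement_def]
  exact Subgroup.mul_mem _ (Subgroup.mul_mem _ (Subgroup.mul_mem _ (hA ha) (hB hb))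
    (Subgroup.inv_mem _ (hA ha))) (Subgroup.inv_mem _ (hB hb))

theorem rs_comp (hRS : RS S) (hall : ∀ A ∈ S, ∃ B ∈ S, Cfsg.IsRankOnePair A B) (A₀ : Subgroup H) :
    RS (comp S A₀) where
  hcomm := fun A hA => hRS.hcomm A hA.1
  hne := fun A hA => hRS.hne A hA.1
  hconj := by
    intro A hA g hg
    have hg' := G0_comp_le hg
    exact ⟨hRS.hconj A hA.1 g hg', hA.2.trans (hRS.rtg_conj_self hall hA.1 hg')⟩
  hpair := by
    intro A hA B hB
    rcases hRS.hpair A hA.1 B hB.1 with h | h | h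
    · left; exact h
    · right; left; exact h
    · right; right
      refine ⟨⟨h.1, ?_⟩, h.2⟩
      by_contra hn
      obtain ⟨D, hD, hR⟩ := hall _ h.1
      have hnD : ∀ X ∈ comp S A₀, ¬ Relation.ReflTransGen (Cfsg.FAdj S) X D := by
        intro X hX hXD
        apply hn
        exact (hX.2.trans hXD).tail (fadj_symm ⟨h.1, hD, hR⟩)
      have cA := hRS.commute_of_not_rtg hall hA.1 hD (hnD A hA)
      have cB := hRS.commute_of_not_rtg hall hB.1 hD (hnD B hB)
      exact commutator_ne_bot_of_rankOne hR (commutator_commutator_eq_bot cA cB)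

/-- different components commute -/
theorem comp_commute (hRS : RS S) (hall : ∀ A ∈ S, ∃ B ∈ S, Cfsg.IsRankOnePair A B)
    {A₁ : Subgroup H} (hne : comp S A₀ ≠ comp S A₁) :
    ⁅G0 (comp S A₀), G0 (comp S A₁)⁆ = ⊥ := by
  rw [Subgroup.commutator_eq_bot_iff_le_centralizer]
  apply iSup₂_le
  intro A hA
  rw [← Subgroup.commutator_eq_bot_iff_le_centralizer, Subgroup.commutator_comm,
    Subgroup.commutator_eq_bot_iff_le_centralizer]
  apply iSup₂_le
  intro B hB
  rw [← Subgroup.commutator_eq_bot_iff_le_centralizer, Subgroup.commutator_comm]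
  apply hRS.commute_of_not_rtg hall hA.1 hB.1
  intro hAB
  apply hne
  have : A₁ ∈ comp S A₀ := comp_closed_rtg hA (hAB.trans (rtg_symm hB.2))
  exact (comp_eq_of_mem this).symm

theorem les_of_centralizing (hRS : RS S) (hall : ∀ A ∈ S, ∃ B ∈ S, Cfsg.IsRankOnePair A B)
    {A C : Subgroup H} (hC : C ∈ comp S A₀)
    (h : Cfsg.centralizingMembers (img (comp S A₀)) (A.subgroupOf (G0 (comp S A₀))) ⊆
      Cfsg.centralizingMembers (img (comp S A₀)) (C.subgroupOf (G0 (comp S A₀)))) : LeS S A C := by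
  intro K' hK' hK'A
  by_cases hK'P : K' ∈ comp S A₀
  · have h1 : K'.subgroupOf (G0 (comp S A₀)) ∈
        Cfsg.centralizingMembers (img (comp S A₀)) (A.subgroupOf (G0 (comp S A₀))) := by
      refine ⟨mem_img hK'P, ?_⟩
      rw [← Subgroup.commutator_eq_bot_iff_le_centralizer]
      exact commutator_subgroupOf_eq_bot _ hK'A
    have h2 := (h h1).2
    rw [← Subgroup.commutator_eq_bot_iff_le_centralizer] at h2
    exact commutator_eq_bot_of_subgroupOf _ (le_G0 hK'P) (le_G0 hC) h2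
  · rw [Subgroup.commutator_comm]
    apply hRS.commute_of_not_rtg hall hC.1 hK'
    intro hCK
    exact hK'P (comp_closed_rtg hC hCK)

theorem comp_main (hRS : RS S) (hall : ∀ A ∈ S, ∃ B ∈ S, Cfsg.IsRankOnePair A B)
    (hanti : ∀ A ∈ S, ∀ C ∈ S, LeS S A C → LeS S C A → A = C)
    (hcard : ∀ A ∈ S, 3 < ENat.card A)
    (hspec : ∀ A ∈ S, ∀ B ∈ S, Cfsg.IsRankOnePair A B → Cfsg.IsSpecialRankOnePair A B)
    (hperf : ∀ A ∈ S, ∀ B ∈ S, Cfsg.IsRankOnePair A B → A ≤ ⁅A ⊔ B, A ⊔ B⁆)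
    (hA₀ : A₀ ∈ S) :
    Cfsg.IsQuasisimple ↥(G0 (comp S A₀)) ∧ Cfsg.IsRootSubgroupClass (img (comp S A₀)) := by
  have hRSP := rs_comp hRS hall A₀
  have hroot := hRSP.isRoot
  have hconn : Cfsg.IsConnectedFamily (Cfsg.FAdj (img (comp S A₀))) (img (comp S A₀)) :=
    isConnected_img comp_connected
  have hclass : Cfsg.IsConjClassOfSubgroups (img (comp S A₀)) :=
    isConjClass_img ⟨A₀, self_mem_comp hA₀⟩ comp_connected
  refine ⟨?_, hroot, hclass⟩
  have partner : ∀ A ∈ comp S A₀, ∃ B ∈ comp S A₀, Cfsg.IsRankOnePair A B := by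
    intro A hA
    obtain ⟨B, hB, hR⟩ := hall A hA.1
    exact ⟨B, comp_closed hA ⟨hA.1, hB, hR⟩, hR⟩
  have key := Cfsg.Agent.S5033.result hroot ?_ hconn ?_ ?_ ?_
  · obtain ⟨_, hQ, _, _⟩ := key
    have hKle : G0 (comp S A₀) ≤ ⁅G0 (comp S A₀), G0 (comp S A₀)⁆ := by
      apply iSup₂_le
      intro A hA
      obtain ⟨B, hB, hR⟩ := partner A hA
      exact (hperf A hA.1 B hB.1 hR).trans
        (Subgroup.commutator_mono (sup_le (le_G0 hA) (le_G0 hB)) (sup_le (le_G0 hA) (le_G0 hB)))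
    have htop : commutator ↥(G0 (comp S A₀)) = ⊤ := by
      rw [eq_top_iff]
      intro x _
      have h1 := hKle x.2
      rw [← Subgroup.map_subtype_commutator] at h1
      obtain ⟨y, hy, hyx⟩ := h1
      have : y = x := Subtype.ext hyx
      rwa [← this]
    exact Cfsg.Agent.Lib.H7.quasisimple_of_mulEquiv
      ((MulEquiv.subgroupCongr htop).trans Subgroup.topEquiv) hQ
  · obtain ⟨B, hB, hR⟩ := partner A₀ (self_mem_comp hA₀)
    refine ⟨_, mem_img (self_mem_comp hA₀), _, mem_img hB, ?_⟩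
    intro e
    exact hR.ne ((subgroupOf_eq_iff _ (le_G0 (self_mem_comp hA₀)) (le_G0 hB)).mp e)
  · rintro _ ⟨A, hA, rfl⟩ _ ⟨C, hC, rfl⟩ hne heq
    apply hne
    have : A = C := hanti A hA.1 C hC.1 (les_of_centralizing hRS hall hC (le_of_eq heq))
      (les_of_centralizing hRS hall hA (le_of_eq heq.symm))
    rw [this]
  · rintro - _ ⟨A, hA, rfl⟩
    rw [ENat.card_congr (Subgroup.subgroupOfEquivOfLe (le_G0 hA)).toEquiv]
    exact hcard A hA.1
  · rintro _ ⟨A, hA, rfl⟩ Y ⟨⟨B, hB, rfl⟩, hR⟩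
    have hR' := isRankOnePair_of_subgroupOf (le_G0 hA) (le_G0 hB) hR
    have hsp := hspec A hA.1 B hB.1 hR'
    refine ⟨hR, ?_⟩
    intro x hx hx1 y hy hy1 hc
    apply Subtype.ext
    have hx' : (x : H) ∈ A := Subgroup.mem_subgroupOf.mp hx
    have hy' : (y : H) ∈ B := Subgroup.mem_subgroupOf.mp hy
    have hx1' : (x : H) ≠ 1 := fun h => hx1 (Subtype.ext h)
    have hy1' : (y : H) ≠ 1 := fun h => hy1 (Subtype.ext h)
    have hc' : Cfsg.conjBy A ((y : H))⁻¹ = Cfsg.conjBy B ((x : H))⁻¹ := by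
      rw [conjBy_subgroupOf, conjBy_subgroupOf] at hc
      have hle : ∀ (X : Subgroup H) (g : ↥(G0 (comp S A₀))), X ≤ G0 (comp S A₀) →
          Cfsg.conjBy X (g : H) ≤ G0 (comp S A₀) := by
        rintro X g hX _ ⟨z, hz, rfl⟩
        exact Subgroup.mul_mem _ (Subgroup.mul_mem _ g.2 (hX hz)) (Subgroup.inv_mem _ g.2)
      exact (subgroupOf_eq_iff _ (hle A y⁻¹ (le_G0 hA)) (hle B x⁻¹ (le_G0 hB))).mp hc
    exact hsp.2 (x : H) hx' hx1' (y : H) hy' hy1' hc'

end comp

end Cfsg.Agent.Lib.H18.QP
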