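import Cfsg.Agent.Lib.H18.QP32

/-!
# Perfectness, cardinality and special pairs for `Σ` (helper18, for S5069)
-/

set_option autoImplicit false

namespace Cfsg.Agent.Lib.H18.QP

open scoped commutatorElement
open Cfsg.Agent.Lib.H6.RootSub

noncomputable section

universe u

section ringpart

variable {k M : Type*} [Field k] [AddCommGroup M] [Module k M]

/-- a hyperbolic pair satisfies `Rel n m n` -/
theorem rel_self {n m : Module.End k M} (hn : n * n = 0) (hm : m * m = 0) (h1 : n * m * n = n)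
    (h2 : m * n * m = m) : Rel n m n := ⟨hn, hm, hn, h1, h2, h1, h2, rfl⟩

theorem one_add_mul_one_sub {R : Type*} [Ring R] (X Y : R) :
    (1 + X) * (1 - Y) = 1 + (X - Y) - X * Y := by noncomm_ring

theorem weyl_ring {R : Type*} [Ring R] (N M' : R) (hN : N * N = 0) (hNM : N * M' * N = N) :
    (1 + N) * (1 - M') * (1 + N) = 1 - N * M' - M' * N + N - M' := by
  have e : (1 + N) * (1 - M') * (1 + N) = 1 + N + N - M' - N * M' - M' * N + N * N - N * M' * N := by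
    noncomm_ring
  rw [e, hN, hNM]; abel

theorem weyl_val {n m : Module.End k M} (hn : n * n = 0) (h1 : n * m * n = n) {t : k} (ht : t ≠ 0) :
    (1 + t • n) * (1 + (-t⁻¹) • m) * (1 + t • n) = bf n m + t • n - t⁻¹ • m := by
  have hN : (t • n) * (t • n) = 0 := by rw [smul_mul_smul_comm, hn, smul_zero]
  have hNM' : (t • n) * (t⁻¹ • m) = n * m := by
    rw [smul_mul_smul_comm, mul_inv_cancel₀ ht, one_smul]
  have hM'N : (t⁻¹ • m) * (t • n) = m * n := by
    rw [smul_mul_smul_comm, inv_mul_cancel₀ ht, one_smul]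
  have hNM : (t • n) * (t⁻¹ • m) * (t • n) = t • n := by
    rw [hNM', mul_smul_comm, h1]
  rw [neg_smul, ← sub_eq_add_neg, weyl_ring _ _ hN hNM, hNM', hM'N]
  rfl

theorem torus_val {n m : Module.End k M} (h : Rel n m n) (t : k) :
    (bf n m + t • n - t⁻¹ • m) * (bf n m - n + m) = bf n m + t • bp n m + t⁻¹ • bq n m := by
  have e : (bf n m + t • n - t⁻¹ • m) * (bf n m - n + m) =
      bf n m * bf n m - bf n m * n + bf n m * m + t • (n * bf n m) - t • (n * n) + t • (n * m) -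
        t⁻¹ • (m * bf n m) + t⁻¹ • (m * n) - t⁻¹ • (m * m) := by
    simp only [add_mul, sub_mul, mul_add, mul_sub, smul_mul_assoc]
    abel
  rw [e, h.ff, h.fn, h.fm, h.nf, h.mf, h.hn, h.hm, bp, bq]
  simp only [smul_zero, sub_zero, add_zero]

end ringpart

variable {k : Type u} [Field k] {M : Type u} [AddCommGroup M] [Module k M]
variable {G : Subgroup (Module.End k M)ˣ}

/-- the torus element of a hyperbolic pair -/
theorem torus_exists [FiniteDimensional k M] {σ b : (Module.End k M)ˣ}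
    (hσ : σ ∈ Cfsg.minimalQuadraticElements G) (hb : b ∈ Cfsg.minimalQuadraticElements G)
    (h1 : nu σ * nu b * nu σ = nu σ) (h2 : nu b * nu σ * nu b = nu b) {t : k} (ht : t ≠ 0) :
    ∃ h ∈ Cfsg.sameActionSubgroup G σ ⊔ Cfsg.sameActionSubgroup G b,
      ((h : (Module.End k M)ˣ) : Module.End k M) =
        bf (nu σ) (nu b) + t • bp (nu σ) (nu b) + t⁻¹ • bq (nu σ) (nu b) := by
  have hn : nu σ * nu σ = 0 := hσ.1.2.1.1
  have hm : nu b * nu b = 0 := hb.1.2.1.1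
  have hrel := rel_self hn hm h1 h2
  obtain ⟨u1, hu1, hv1⟩ := exists_mem_E_smul hσ t
  obtain ⟨l1, hl1, hw1⟩ := exists_mem_E_smul hb (-t⁻¹)
  obtain ⟨u2, hu2, hv2⟩ := exists_mem_E_smul hσ (-1 : k)
  obtain ⟨l2, hl2, hw2⟩ := exists_mem_E_smul hb (1 : k)
  refine ⟨(u1 * l1 * u1) * (u2 * l2 * u2), ?_, ?_⟩
  · have a1 : u1 ∈ Cfsg.sameActionSubgroup G σ ⊔ Cfsg.sameActionSubgroup G b := Subgroup.mem_sup_left hu1
    have a2 : l1 ∈ Cfsg.sameActionSubgroup G σ ⊔ Cfsg.sameActionSubgroup G b := Subgroup.mem_sup_right hl1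
    have a3 : u2 ∈ Cfsg.sameActionSubgroup G σ ⊔ Cfsg.sameActionSubgroup G b := Subgroup.mem_sup_left hu2
    have a4 : l2 ∈ Cfsg.sameActionSubgroup G σ ⊔ Cfsg.sameActionSubgroup G b := Subgroup.mem_sup_right hl2
    exact Subgroup.mul_mem _ (Subgroup.mul_mem _ (Subgroup.mul_mem _ a1 a2) a1)
      (Subgroup.mul_mem _ (Subgroup.mul_mem _ a3 a4) a3)
  · have hm1 : (-1 : k) ≠ 0 := neg_ne_zero.mpr one_ne_zero
    have e2 : (1 : k) = -(-1 : k)⁻¹ := by rw [inv_neg, inv_one, neg_neg]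
    rw [Units.val_mul, Units.val_mul, Units.val_mul, Units.val_mul, Units.val_mul, hv1, hw1, hv2, hw2]
    nth_rewrite 2 [e2]
    rw [weyl_val hn h1 ht, weyl_val hn h1 hm1, ← torus_val hrel t]
    congr 1
    rw [inv_neg, inv_one, neg_smul, neg_smul, one_smul, one_smul]
    abel

/-- each member of a hyperbolic pair lies in the commutator subgroup of the rank one group -/
theorem le_commutator_of_hyp [FiniteDimensional k M] (hk2 : ringChar k ≠ 2) (hk3 : Nat.card k ≠ 3)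
    {σ b : (Module.End k M)ˣ}
    (hσ : σ ∈ Cfsg.minimalQuadraticElements G) (hb : b ∈ Cfsg.minimalQuadraticElements G)
    (h1 : nu σ * nu b * nu σ = nu σ) (h2 : nu b * nu σ * nu b = nu b) :
    Cfsg.sameActionSubgroup G σ ≤
      ⁅Cfsg.sameActionSubgroup G σ ⊔ Cfsg.sameActionSubgroup G b,
        Cfsg.sameActionSubgroup G σ ⊔ Cfsg.sameActionSubgroup G b⁆ := by
  have hn : nu σ * nu σ = 0 := hσ.1.2.1.1
  have hm : nu b * nu b = 0 := hb.1.2.1.1
  have hrel := rel_self hn hm h1 h2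
  obtain ⟨μ, hμ0, hμ1⟩ := exists_s (k := k) hk2 hk3
  obtain ⟨h, hh, hvh⟩ := torus_exists hσ hb h1 h2 hμ0
  intro x₀ hx₀
  by_cases hx1 : x₀ = 1
  · rw [hx1]; exact Subgroup.one_mem _
  have hx₀c := mem_class_of_mem hσ hx₀ hx1
  have hEx : Cfsg.sameActionSubgroup G x₀ = Cfsg.sameActionSubgroup G σ := subgroup_eq_of_mem hx₀c
  have hr : LinearMap.range (nu x₀) = LinearMap.range (nu σ) := hx₀c.2.2
  have hk : LinearMap.ker (nu x₀) = LinearMap.ker (nu σ) := hx₀c.2.1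
  have hsq0 : nu x₀ * nu x₀ = 0 := hx₀c.1.1.2.1.1
  -- absorption
  obtain ⟨ea, eb⟩ := eabs_left (ν := nu σ) (μ := nu b) (ν' := nu x₀) hn h1 (le_of_eq hr) (le_of_eq hk.symm)
  have hnν : nu σ * nu x₀ = 0 := by
    refine LinearMap.ext fun y => ?_
    obtain ⟨z, hz⟩ := (le_of_eq hr) ⟨y, rfl⟩
    show nu σ (nu x₀ y) = 0
    rw [← hz]; exact LinearMap.congr_fun hn z
  have hνn : nu x₀ * nu σ = 0 := by
    refine LinearMap.ext fun y => ?_
    have : nu σ y ∈ LinearMap.ker (nu σ) := by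
      rw [LinearMap.mem_ker]; exact LinearMap.congr_fun hn y
    rw [← hk] at this
    exact LinearMap.mem_ker.mp this
  have hqν : bq (nu σ) (nu b) * nu x₀ = 0 := by rw [bq, mul_assoc, hnν, mul_zero]
  have hνp : nu x₀ * bp (nu σ) (nu b) = 0 := by rw [bp, ← mul_assoc, hνn, zero_mul]
  have hpν : bp (nu σ) (nu b) * nu x₀ = nu x₀ := by
    have : (bp (nu σ) (nu b) + bq (nu σ) (nu b)) * nu x₀ = nu x₀ := eb
    rwa [add_mul, hqν, add_zero] at this
  have hνq : nu x₀ * bq (nu σ) (nu b) = nu x₀ := by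
    have : nu x₀ * (bp (nu σ) (nu b) + bq (nu σ) (nu b)) = nu x₀ := ea
    rwa [mul_add, hνp, zero_add] at this
  have hfν : bf (nu σ) (nu b) * nu x₀ = 0 := by
    rw [bf, sub_mul, sub_mul, one_mul, hpν, hqν, sub_self, sub_zero]
  have hνf : nu x₀ * bf (nu σ) (nu b) = 0 := by
    rw [bf, mul_sub, mul_sub, mul_one, hνp, hνq, sub_zero, sub_self]
  have hHν : (h : Module.End k M) * nu x₀ = μ • nu x₀ := by
    rw [hvh, add_mul, add_mul, smul_mul_assoc, smul_mul_assoc, hfν, hpν, hqν, smul_zero, zero_add, add_zero]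
  have hνH : nu x₀ * (h : Module.End k M) = μ⁻¹ • nu x₀ := by
    rw [hvh, mul_add, mul_add, mul_smul_comm, mul_smul_comm, hνf, hνp, hνq, smul_zero, zero_add, zero_add]
  -- the scalars
  have hd : μ ^ 2 - 1 ≠ 0 := sub_ne_zero.mpr hμ1
  obtain ⟨s₁, hs₁⟩ : ∃ s₁ : k, s₁ = (μ ^ 2 - 1)⁻¹ := ⟨_, rfl⟩
  obtain ⟨s₂, hs₂⟩ : ∃ s₂ : k, s₂ = μ ^ 2 * s₁ := ⟨_, rfl⟩
  have hs12 : s₂ - s₁ = 1 := by
    rw [hs₂, hs₁]; field_simp
  have hsμ : s₁ * μ = s₂ * μ⁻¹ := by
    rw [hs₂]; field_simp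
  obtain ⟨x, hx, hvx⟩ := exists_mem_E_smul hx₀c.1 s₁
  obtain ⟨x', hx', hvx'⟩ := exists_mem_E_smul hx₀c.1 s₂
  rw [hEx] at hx hx'
  have hnux : nu x = s₁ • nu x₀ := by
    show (x : Module.End k M) - 1 = s₁ • nu x₀
    rw [hvx, add_sub_cancel_left]
  have hsqx : nu x * nu x = 0 := by rw [hnux, smul_mul_smul_comm, hsq0, smul_zero]
  have hcomm : h * x = x' * h := by
    apply Units.ext
    rw [Units.val_mul, Units.val_mul, hvx, hvx', mul_add, add_mul, mul_one, one_mul, mul_smul_comm,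
      smul_mul_assoc, hHν, hνH, smul_smul, smul_smul, hsμ]
  have hx0 : x₀ = x' * x⁻¹ := by
    apply Units.ext
    rw [Units.val_mul, val_inv_of_sq hsqx, hvx', hnux, val_eq_nu x₀]
    rw [one_add_mul_one_sub, ← sub_smul, hs12, smul_mul_smul_comm, hsq0, one_smul, smul_zero, sub_zero]
  have hcm : ⁅h, x⁆ = x₀ := by
    rw [commutatorElement_def, hcomm, hx0]; group
  rw [← hcm]
  exact Subgroup.commutator_mem_commutator hh (Subgroup.mem_sup_left hx)

/-- a rank one pair in `Σ` comes from a hyperbolic pair -/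
theorem exists_hyp_of_rankOne [FiniteDimensional k M] (hk2 : ringChar k ≠ 2) (hk3 : Nat.card k ≠ 3)
    (hG : Cfsg.IsQuadraticPair G) {σ τ : (Module.End k M)ˣ}
    (hσ : σ ∈ Cfsg.minimalQuadraticElements G) (hτ : τ ∈ Cfsg.minimalQuadraticElements G)
    (hR : Cfsg.IsRankOnePair (Cfsg.sameActionSubgroup G σ) (Cfsg.sameActionSubgroup G τ)) :
    ∃ b ∈ Cfsg.sameActionClass G τ, nu σ * nu b * nu σ = nu σ ∧ nu b * nu σ * nu b = nu b :=
  exists_partner hk2 hk3 hσ hτ (opp_of_rankOne hk2 hk3 hG hσ hτ hR) (mem_class_self hσ)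

theorem perf_sigma [FiniteDimensional k M] (hk2 : ringChar k ≠ 2) (hk3 : Nat.card k ≠ 3)
    (hG : Cfsg.IsQuadraticPair G) :
    ∀ A ∈ Cfsg.quadraticRootSubgroups G, ∀ B ∈ Cfsg.quadraticRootSubgroups G,
      Cfsg.IsRankOnePair A B → A ≤ ⁅A ⊔ B, A ⊔ B⁆ := by
  rintro _ ⟨σ, hσ, rfl⟩ _ ⟨τ, hτ, rfl⟩ hR
  obtain ⟨b, hb, h1, h2⟩ := exists_hyp_of_rankOne hk2 hk3 hG hσ hτ hR
  rw [← subgroup_eq_of_mem hb]
  exact le_commutator_of_hyp hk2 hk3 hσ hb.1 h1 h2

theorem spec_sigma [FiniteDimensional k M] (hk2 : ringChar k ≠ 2) (hk3 : Nat.card k ≠ 3)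
    (hG : Cfsg.IsQuadraticPair G) :
    ∀ A ∈ Cfsg.quadraticRootSubgroups G, ∀ B ∈ Cfsg.quadraticRootSubgroups G,
      Cfsg.IsRankOnePair A B → Cfsg.IsSpecialRankOnePair A B := by
  rintro _ ⟨σ, hσ, rfl⟩ _ ⟨τ, hτ, rfl⟩ hR
  obtain ⟨a, ha, b, hb, hnil⟩ := exists_not_nil_of_rankOne hk2 hk3 hG hσ hτ hR
  rw [← subgroup_eq_of_mem ha, ← subgroup_eq_of_mem hb]
  exact (caseR hk2 hk3 ha.1 hb.1 hnil).1

theorem card_sigma [FiniteDimensional k M] (hk2 : ringChar k ≠ 2) (hk3 : Nat.card k ≠ 3) :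
    ∀ A ∈ Cfsg.quadraticRootSubgroups G, 3 < ENat.card A := by
  rintro _ ⟨σ, hσ, rfl⟩
  have h3 : 3 < ENat.card k := card_gt_three hk2 hk3 k
  have hex : ∀ t : k, ∃ u : ↥(Cfsg.sameActionSubgroup G σ),
      ((u : (Module.End k M)ˣ) : Module.End k M) = 1 + t • nu σ := by
    intro t
    obtain ⟨u, hu, hv⟩ := exists_mem_E_smul hσ t
    exact ⟨⟨u, hu⟩, hv⟩
  choose f hf using hex
  have hinj : Function.Injective f := by
    intro t t' htt
    have e : (1 : Module.End k M) + t • nu σ = 1 + t' • nu σ := by rw [← hf t, ← hf t', htt]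
    have e2 : (t - t') • nu σ = 0 := by
      rw [sub_smul, sub_eq_zero]; exact add_left_cancel e
    rcases smul_eq_zero.mp e2 with h | h
    · exact sub_eq_zero.mp h
    · exact absurd h hσ.1.2.1.2
  exact lt_of_lt_of_le h3 (ENat.card_le_card_of_injective hinj)

end

end Cfsg.Agent.Lib.H18.QP
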