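import Cfsg.Agent.Lib.H18.QP33
import Cfsg.Agent.Lib.H18.QP34

/-!
# Finiteness of the set of components and the final assembly (helper18, for S5069)
-/

set_option autoImplicit false

namespace Cfsg.Agent.Lib.H18.QP

open scoped commutatorElement
open Cfsg.Agent.Lib.H6.RootSub

noncomputable section

universe u

section fin

variable {k M : Type*} [Field k] [AddCommGroup M] [Module k M]

/-- a family of endomorphisms each detected by a "dual" endomorphism is finite -/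
theorem finite_of_dual_family [FiniteDimensional k M] {ι : Type*} (v w : ι → Module.End k M)
    (hcomm : ∀ i j, i ≠ j → w i * v j = v j * w i) (hne : ∀ i, w i * v i ≠ v i * w i) : Finite ι := by
  have hli : LinearIndependent k v := by
    rw [linearIndependent_iff']
    intro s g hsum i₀ hi₀
    have h0 : w i₀ * (∑ i ∈ s, g i • v i) - (∑ i ∈ s, g i • v i) * w i₀ = 0 := by
      rw [hsum, mul_zero, zero_mul, sub_zero]
    rw [Finset.mul_sum, Finset.sum_mul, ← Finset.sum_sub_distrib] at h0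
    rw [Finset.sum_eq_single i₀] at h0
    · rw [mul_smul_comm, smul_mul_assoc, ← smul_sub] at h0
      rcases smul_eq_zero.mp h0 with h | h
      · exact h
      · exact absurd (sub_eq_zero.mp h) (hne i₀)
    · intro j _ hj
      rw [mul_smul_comm, smul_mul_assoc, hcomm i₀ j (Ne.symm hj), sub_self]
    · intro h; exact absurd hi₀ h
  exact hli.finite_of_isNoetherian

end fin

variable {k : Type u} [Field k] {M : Type u} [AddCommGroup M] [Module k M]
variable {G : Subgroup (Module.End k M)ˣ}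

/-- the set of components of `Σ` -/
def Comps (G : Subgroup (Module.End k M)ˣ) : Set (Set (Subgroup (Module.End k M)ˣ)) :=
  {P | ∃ A ∈ Cfsg.quadraticRootSubgroups G, P = comp (Cfsg.quadraticRootSubgroups G) A}

theorem finite_comps [FiniteDimensional k M] (hk2 : ringChar k ≠ 2) (hk3 : Nat.card k ≠ 3)
    (hG : Cfsg.IsQuadraticPair G) : Finite ↥(Comps G) := by
  have hRS := rs_sigma hk2 hk3 hG
  have hall := hall_sigma hk2 hk3 hG
  have hex : ∀ P : ↥(Comps G), ∃ σ b : (Module.End k M)ˣ,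
      σ ∈ Cfsg.minimalQuadraticElements G ∧ b ∈ Cfsg.minimalQuadraticElements G ∧
      Cfsg.sameActionSubgroup G σ ∈ P.1 ∧ Cfsg.sameActionSubgroup G b ∈ P.1 ∧
      nu σ * nu b * nu σ = nu σ ∧ nu b * nu σ * nu b = nu b := by
    rintro ⟨P, A, ⟨σ, hσ, rfl⟩, rfl⟩
    obtain ⟨τ, hτ, hnil⟩ := exists_opposite hk2 hk3 hG hσ
    have hR : Cfsg.IsRankOnePair (Cfsg.sameActionSubgroup G σ) (Cfsg.sameActionSubgroup G τ) :=
      (caseR hk2 hk3 hσ hτ hnil).1.1
    obtain ⟨b, hb, h1, h2⟩ := exists_hyp_of_rankOne hk2 hk3 hG hσ hτ hR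
    refine ⟨σ, b, hσ, hb.1, self_mem_comp (mem_sigma hσ), ?_, h1, h2⟩
    rw [subgroup_eq_of_mem hb]
    exact comp_closed (self_mem_comp (mem_sigma hσ)) ⟨mem_sigma hσ, mem_sigma hτ, hR⟩
  choose σ b hσ hb hσP hbP h1 h2 using hex
  apply finite_of_dual_family (fun P => nu (σ P)) (fun P => nu (b P))
  · intro P Q hPQ
    apply nu_comm_of_units
    have hn : ¬ Relation.ReflTransGen (Cfsg.FAdj (Cfsg.quadraticRootSubgroups G))
        (Cfsg.sameActionSubgroup G (b P)) (Cfsg.sameActionSubgroup G (σ Q)) := by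
      intro hrtg
      apply hPQ
      obtain ⟨A, hA, hPA⟩ := P.2
      obtain ⟨A', hA', hQA⟩ := Q.2
      have m1 : Cfsg.sameActionSubgroup G (b P) ∈ comp (Cfsg.quadraticRootSubgroups G) A := by
        rw [← hPA]; exact hbP P
      have m2 : Cfsg.sameActionSubgroup G (σ Q) ∈ comp (Cfsg.quadraticRootSubgroups G) A' := by
        rw [← hQA]; exact hσP Q
      have m3 : Cfsg.sameActionSubgroup G (σ Q) ∈ comp (Cfsg.quadraticRootSubgroups G) A :=
        comp_closed_rtg m1 hrtg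
      apply Subtype.ext
      rw [hPA, hQA, ← comp_eq_of_mem m3, ← comp_eq_of_mem m2]
    have hc := hRS.commute_of_not_rtg hall (mem_sigma (hb P)) (mem_sigma (hσ Q)) hn
    exact (commutator_eq_bot_iff_forall.mp hc) (b P) (mem_E_self (hb P)) (σ Q) (mem_E_self (hσ Q))
  · intro P hc
    have hn : nu (σ P) * nu (σ P) = 0 := (hσ P).1.2.1.1
    apply (hσ P).1.2.1.2
    show nu (σ P) = 0
    rw [← h1 P, mul_assoc, hc, ← mul_assoc, hn, zero_mul]

/-- the properties of one component -/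
theorem comp_props [FiniteDimensional k M] (hk2 : ringChar k ≠ 2) (hk3 : Nat.card k ≠ 3)
    (hG : Cfsg.IsQuadraticPair G) {P : Set (Subgroup (Module.End k M)ˣ)} {A₀ : Subgroup (Module.End k M)ˣ}
    (hA₀ : A₀ ∈ Cfsg.quadraticRootSubgroups G) (hP : P = comp (Cfsg.quadraticRootSubgroups G) A₀) :
    Cfsg.IsQuasisimple ↥(⨆ A ∈ P, A) ∧
      Cfsg.IsRootSubgroupClass ((fun A : Subgroup (Module.End k M)ˣ => A.subgroupOf (⨆ B ∈ P, B)) '' P) ∧
      ∀ A ∈ P, ∀ B ∈ Cfsg.rankOnePartners P A, ∃ A₀ B₀ : Subgroup (Module.End k M)ˣ, A₀ ≤ A ∧ B₀ ≤ B ∧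
        ∃ (k₁ : Type u) (_ : Field k₁), 3 < ENat.card k₁ ∧ Cfsg.IsPSL2PairOver k₁ A₀ B₀ := by
  subst hP
  have hmain := comp_main (rs_sigma hk2 hk3 hG) (hall_sigma hk2 hk3 hG)
    (by
      rintro _ ⟨σ, hσ, rfl⟩ _ ⟨δ, hδ, rfl⟩ h1 h2
      exact sigma_eq_of_les hk2 hk3 hG hσ hδ h1 h2)
    (card_sigma hk2 hk3) (spec_sigma hk2 hk3 hG) (perf_sigma hk2 hk3 hG) hA₀
  refine ⟨hmain.1, hmain.2, ?_⟩
  intro A hA B hB
  exact (s5062_main hk2 hk3 hG).2.2 A hA.1 B ⟨hB.1.1, hB.2⟩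

end

end Cfsg.Agent.Lib.H18.QP
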