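import Cfsg.Agent.Lib.H18.QP3

/-!
# Unipotent pairs have class two (helper18, for S5064)
-/

set_option autoImplicit false

namespace Cfsg.Agent.Lib.H18.QP

open Polynomial

noncomputable section

variable {k M : Type*} [Field k] [AddCommGroup M] [Module k M]

local notation "SLX" => Matrix.SpecialLinearGroup (Fin 2) (Polynomial k)

theorem SqPair.ev_pow (p : SqPair k M) (f : k[X]) (n : ℕ) : p.ev (f ^ n) = p.ev f ^ n := map_pow _ _ _

variable (k) in
/-- the generator `l(cX)` as an element of `GG` -/
def lel (c : k) : ↥(GG k) := ⟨lR (C c * X), lR_mem_GG (lgen_coeff c)⟩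

variable (k) in
/-- the generator `u(c)` as an element of `GG` -/
def uel (c : k) : ↥(GG k) := ⟨uR (C c), uR_mem_GG _⟩

theorem ga_lel (c : k) : ga (lel k c) = 1 := rfl

theorem gc_lel (c : k) : gc (lel k c) = C c := by
  have h := g10_eq (lel k c)
  have h2 : ((lel k c : ↥(GG k)) : SLX) = lR (C c * X) := rfl
  rw [h2, lR_10] at h
  have h3 : X * gc (lel k c) = X * C c := by rw [← h]; ring
  exact mul_left_cancel₀ X_ne_zero h3

theorem theta_lel (p : SqPair k M) (c : k) : theta p (lel k c) = 1 + c • p.m := theta_lR p c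

theorem theta_uel (p : SqPair k M) (c : k) : theta p (uel k c) = 1 + c • p.n := theta_uR p c

variable {G : Subgroup (Module.End k M)ˣ} {d : ℕ}

theorem QPair.lel_mem {p : SqPair k M} (hq : QPair G d p) (c : k) : thetaU p (lel k c) ∈ G := by
  obtain ⟨u, hu, he⟩ := hq.fm c
  have : thetaU p (lel k c) = u := Units.ext (by rw [thetaU_val, he]; exact theta_lel p c)
  rw [this]; exact hu

theorem QPair.uel_mem {p : SqPair k M} (hq : QPair G d p) (c : k) : thetaU p (uel k c) ∈ G := by
  obtain ⟨u, hu, he⟩ := hq.fn c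
  have : thetaU p (uel k c) = u := Units.ext (by rw [thetaU_val, he]; exact theta_uel p c)
  rw [this]; exact hu

/-- the commutator `[n, mh]` for `g = l(cX)` -/
theorem lel_comm (p : SqPair k M) (c : k) :
    p.n * mh p (lel k c) - mh p (lel k c) * p.n =
      (2 * c) • (p.z * p.n) + (c ^ 2) • (p.z * (p.m * p.n - p.n * p.m)) := by
  rw [n_mh_comm, ga_lel, gc_lel]
  have h1 : (2 * 1 * (X * C c) : k[X]) = C (2 * c) * X := by
    rw [map_mul]; simp only [map_ofNat]; ring
  have h2 : (X * C c ^ 2 : k[X]) = C (c ^ 2) * X := by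
    rw [map_pow]; ring
  rw [h1, h2, SqPair.ev_mul, SqPair.ev_mul, SqPair.ev_C, SqPair.ev_C, SqPair.ev_X]
  simp only [smul_mul_assoc, one_mul]

theorem lel_nmn (p : SqPair k M) (c : k) :
    p.n * mh p (lel k c) * p.n = -((c ^ 2) • (p.z ^ 2 * p.n)) := by
  rw [n_mh_n, gc_lel]
  have h1 : ((X * C c) ^ 2 : k[X]) = C (c ^ 2) * X ^ 2 := by
    rw [map_pow]; ring
  rw [h1, SqPair.ev_mul, SqPair.ev_C, SqPair.ev_pow, SqPair.ev_X, smul_mul_assoc, one_mul, smul_mul_assoc]

theorem lel_z (p : SqPair k M) (c : k) :
    (cpair p (lel k c)).z = -((c ^ 2) • p.z ^ 2) := by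
  rw [cpair_z, gc_lel]
  have h1 : ((X * C c) ^ 2 : k[X]) = C (c ^ 2) * X ^ 2 := by
    rw [map_pow]; ring
  rw [h1, SqPair.ev_mul, SqPair.ev_C, SqPair.ev_pow, SqPair.ev_X, smul_mul_assoc, one_mul]

theorem lemmaU [FiniteDimensional k M] (hMin : MinP G d) (h2 : (2 : k) ≠ 0) :
    ∀ e : ℕ, ∀ p : SqPair k M, QPair G d p → p.z ^ e = 0 →
      p.n * p.m * p.n = 0 ∧ p.m * p.n * p.m = 0 := by
  intro e
  induction e using Nat.strong_induction_on with
  | _ e ih =>
    have key : ∀ p : SqPair k M, QPair G d p → p.z ^ e = 0 → p.n * p.m * p.n = 0 := by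
      intro p hq hz
      have hnmn : p.n * p.m * p.n = p.z * p.n := p.P_n
      rcases Nat.lt_or_ge e 2 with he | he
      · obtain rfl | rfl : e = 0 ∨ e = 1 := by omega
        · rw [pow_zero] at hz
          rw [← mul_one (p.n * p.m * p.n), hz, mul_zero]
        · rw [pow_one] at hz
          rw [hnmn, hz, zero_mul]
      · obtain ⟨e', he'lt, he'2⟩ : ∃ e', e' < e ∧ e ≤ 2 * e' := ⟨(e + 1) / 2, by omega, by omega⟩
        -- the sub-pairs
        have sub : ∀ (q : SqPair k M), QPair G d q → q.z ^ e = 0 → ∀ c : k,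
            (q.n * mh q (lel k c) * q.n = 0 ∧ mh q (lel k c) * q.n * mh q (lel k c) = 0) := by
          intro q hq hz c
          have hqc := hq.cpair q (lel k c) (hq.lel_mem c)
          have hz2 : q.z ^ (2 * e') = 0 := by
            obtain ⟨t, ht⟩ := Nat.exists_eq_add_of_le he'2
            rw [ht, pow_add, hz, zero_mul]
          have hzc : (cpair q (lel k c)).z ^ e' = 0 := by
            rw [lel_z, neg_pow, _root_.smul_pow, ← pow_mul, ← pow_mul, hz2, smul_zero, mul_zero]
          exact ih e' he'lt _ hqc hzc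
        have hz2n : ∀ (q : SqPair k M), QPair G d q → q.z ^ e = 0 → q.z ^ 2 * q.n = 0 := by
          intro q hq hz
          have h1 := (sub q hq hz 1).1
          rw [lel_nmn, one_pow, one_smul, neg_eq_zero] at h1
          exact h1
        have hn2 : p.z ^ 2 * p.n = 0 := hz2n p hq hz
        have hm2 : p.z ^ 2 * p.m = 0 := by
          have := hz2n p.swap hq.swap (by rw [p.swap_z]; exact hz)
          rwa [p.swap_z] at this
        -- notation
        obtain ⟨W, hW⟩ : ∃ W, W = p.m * p.n - p.n * p.m := ⟨_, rfl⟩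
        have cZN : Commute p.z p.n := p.z_n
        have cZM : Commute p.z p.m := p.z_m
        have cZW : Commute p.z W := by
          rw [hW]; exact (cZM.mul_right cZN).sub_right (cZN.mul_right cZM)
        have hZ2W : p.z ^ 2 * W = 0 := by
          rw [hW, mul_sub, ← mul_assoc, hm2, zero_mul, ← mul_assoc, hn2, zero_mul, sub_zero]
        have t1 : (p.z * p.n) * (p.z * p.n) = 0 := by
          have h0 : p.n * (p.z * p.n) = 0 := by rw [cZN.eq, ← mul_assoc, p.hn, zero_mul]
          rw [mul_assoc, h0, mul_zero]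
        have t2 : (p.z * p.n) * (p.z * W) = 0 := by
          have h0 : (p.z * p.n) * (p.z * W) = p.n * (p.z ^ 2 * W) := by
            rw [cZN.eq, pow_two]; simp only [mul_assoc]
          rw [h0, hZ2W, mul_zero]
        have t3 : (p.z * W) * (p.z * p.n) = 0 := by
          have h0 : (p.z * W) * (p.z * p.n) = W * (p.z ^ 2 * p.n) := by
            rw [cZW.eq, pow_two]; simp only [mul_assoc]
          rw [h0, hn2, mul_zero]
        have t4 : (p.z * W) * (p.z * W) = 0 := by
          calc (p.z * W) * (p.z * W) = p.z * (W * p.z) * W := by simp only [mul_assoc]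
            _ = p.z * (p.z * W) * W := by rw [← cZW.eq]
            _ = (p.z ^ 2 * W) * W := by rw [pow_two]; simp only [mul_assoc]
            _ = 0 := by rw [hZ2W, zero_mul]
        -- the families
        have hω : ∀ c : k, Fam G ((2 * c) • (p.z * p.n) + (c ^ 2) • (p.z * W)) := by
          intro c
          have hqc := hq.cpair p (lel k c) (hq.lel_mem c)
          have hs := sub p hq hz c
          have := Fam.comm2 hq.fn hqc.fm p.hn (mh_sq p (lel k c)) hs.1 hs.2
          rw [cpair_m, lel_comm, ← hW] at this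
          exact this
        have hdiff : Fam G (((2 * 1 : k) • (p.z * p.n) + ((1 : k) ^ 2) • (p.z * W)) -
            ((2 * (-1) : k) • (p.z * p.n) + ((-1 : k) ^ 2) • (p.z * W))) := by
          apply Fam.mul_neg (hω 1) (hω (-1))
          simp only [add_mul, mul_add, smul_mul_smul_comm, t1, t2, t3, t4, smul_zero, add_zero]
        have h4 : ((2 * 1 : k) • (p.z * p.n) + ((1 : k) ^ 2) • (p.z * W)) -
            ((2 * (-1) : k) • (p.z * p.n) + ((-1 : k) ^ 2) • (p.z * W)) = (4 : k) • (p.z * p.n) := by
          module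
        rw [h4] at hdiff
        have h4ne : (4 : k) ≠ 0 := by
          have : (4 : k) = 2 * 2 := by norm_num
          rw [this]; exact mul_ne_zero h2 h2
        have hF : Fam G (p.z * p.n) := Fam.of_smul h4ne hdiff
        -- minimality
        rw [hnmn]
        by_contra hne
        have hinj := hMin.inj hq.rn t1 hF hne
        apply hne
        have hN : p.n = 0 := by
          refine LinearMap.ext fun w => ?_
          have h5 : p.z (p.n w) = 0 := by
            apply hinj (p.z (p.n w))
            · exact ⟨p.z w, by rw [← Module.End.mul_apply, ← cZN.eq]; rfl⟩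
            · have := LinearMap.congr_fun hn2 w
              rw [pow_two] at this
              exact this
          exact hinj (p.n w) ⟨w, rfl⟩ h5
        rw [hN, mul_zero]
    intro p hq hz
    refine ⟨key p hq hz, ?_⟩
    have := key p.swap hq.swap (by rw [p.swap_z]; exact hz)
    exact this

end

end Cfsg.Agent.Lib.H18.QP
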