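import Cfsg.Agent.Lib.H18.QP4

/-!
# The rigidity lemma (helper18, for S5064)
-/

set_option autoImplicit false

namespace Cfsg.Agent.Lib.H18.QP

open Polynomial

noncomputable section

variable {k M : Type*} [Field k] [AddCommGroup M] [Module k M]

local notation "SLX" => Matrix.SpecialLinearGroup (Fin 2) (Polynomial k)

theorem add_pow_of_mul_zero {A : Type*} [Ring A] (a b : A) (hab : a * b = 0) (hba : b * a = 0) (j : ℕ) :
    (a + b) ^ (j + 1) = a ^ (j + 1) + b ^ (j + 1) := by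
  induction j with
  | zero => simp
  | succ j ih =>
    rw [pow_succ, ih, add_mul, mul_add, mul_add, ← pow_succ, ← pow_succ, pow_succ a j, mul_assoc, hab,
      mul_zero, pow_succ b j, mul_assoc (b ^ j), hba, mul_zero, add_zero, zero_add]

theorem mul_pow_succ_swap {A : Type*} [Ring A] (a b : A) (e : ℕ) : (a * b) ^ (e + 1) = a * (b * a) ^ e * b := by
  induction e with
  | zero => simp
  | succ e ih =>
    rw [pow_succ, ih, pow_succ (b * a)]
    simp only [mul_assoc]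

theorem SqPair.z_nilpotent_of (p : SqPair k M) (h : IsNilpotent (p.n * p.m)) : IsNilpotent p.z := by
  obtain ⟨e, he⟩ := h
  refine ⟨e + 1 + 1, ?_⟩
  have h1 : (p.n * p.m) * (p.m * p.n) = 0 := by
    rw [mul_assoc, ← mul_assoc p.m, p.hm, zero_mul, mul_zero]
  have h2 : (p.m * p.n) * (p.n * p.m) = 0 := by
    rw [mul_assoc, ← mul_assoc p.n, p.hn, zero_mul, mul_zero]
  rw [SqPair.z, add_pow_of_mul_zero _ _ h1 h2, pow_succ, pow_succ, he, zero_mul, zero_mul, zero_add,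
    mul_pow_succ_swap, pow_succ, he, zero_mul, mul_zero, zero_mul]

theorem SqPair.P_nilpotent_swap (p : SqPair k M) (h : IsNilpotent (p.n * p.m)) : IsNilpotent (p.m * p.n) := by
  obtain ⟨e, he⟩ := h
  exact ⟨e + 1, by rw [mul_pow_succ_swap, he, mul_zero, zero_mul]⟩

theorem SqPair.ev_n_sq (p : SqPair k M) (f : k[X]) : (p.ev f * p.n) * (p.ev f * p.n) = 0 := by
  rw [mul_assoc, ← mul_assoc p.n, ← p.ev_n, mul_assoc (p.ev f) p.n p.n, p.hn, mul_zero, mul_zero]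

/-- The property to be proved for all pairs. -/
def PP (p : SqPair k M) : Prop :=
  ¬ IsNilpotent (p.n * p.m) → ∀ v ∈ LinearMap.range p.n, p.m v = 0 → v = 0

variable {G : Subgroup (Module.End k M)ˣ} {d : ℕ}

theorem class2_of_PP [FiniteDimensional k M] (hMin : MinP G d) (h2 : (2 : k) ≠ 0) {p : SqPair k M}
    (hq : QPair G d p) (g : ↥(GG k)) (hgG : thetaU p g ∈ G) (hPP : PP (cpair p g)) {v : M}
    (hv : v ∈ LinearMap.range p.n) (hv0 : v ≠ 0) (h0 : p.ev (X * gc g) v = 0) :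
    p.n * mh p g * p.n = 0 ∧ mh p g * p.n * mh p g = 0 := by
  have hmv := mh_apply_eq_zero p g hv h0
  have hnil : IsNilpotent ((cpair p g).n * (cpair p g).m) := by
    by_contra hn
    exact hv0 (hPP hn v hv hmv)
  obtain ⟨e, he⟩ := (cpair p g).z_nilpotent_of hnil
  exact lemmaU hMin h2 e (cpair p g) (hq.cpair p g hgG) he

theorem rigidity [FiniteDimensional k M] (hMin : MinP G d) (h2 : (2 : k) ≠ 0) {p : SqPair k M}
    (hq : QPair G d p) (g : ↥(GG k)) (hgG : thetaU p g ∈ G)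
    (hcl : p.n * mh p g * p.n = 0 ∧ mh p g * p.n * mh p g = 0)
    {v : M} (hv : v ∈ LinearMap.range p.n) (hv0 : v ≠ 0) (h0 : p.ev (X * gc g) v = 0)
    (S : Submodule k M) (hS1 : ∀ w ∈ S, p.z w = 0 → w = 0)
    (hS2 : ∀ (f : k[X]), ∀ w ∈ S, p.ev f w ∈ S)
    (hS3 : ∀ w, p.ev (gc g) (p.n w) ∈ S ∧ p.ev (gc g) (p.m w) ∈ S) :
    p.ev (X * gc g) * p.n = 0 ∧ mh p g = p.ev (ga g ^ 2) * p.n := by
  set a := ga g with ha
  set γ := gc g with hγ
  set ξ := X * γ with hξ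
  -- E1
  have E1 : p.ev (ξ ^ 2) * p.n = 0 := by
    have := n_mh_n p g
    rw [hcl.1, ← hγ, ← hξ] at this
    exact neg_eq_zero.mp this.symm
  obtain ⟨Wm, hWm⟩ : ∃ Wm, Wm = p.m * p.n - p.n * p.m := ⟨_, rfl⟩
  have hξS : ∀ w, p.ev ξ w ∈ S := by
    intro w
    have e : ξ = γ * X := by rw [hξ]; ring
    rw [e, p.ev_mul_apply, p.ev_X_apply, p.z_apply, map_add]
    exact S.add_mem (hS3 _).1 (hS3 _).2
  -- T = 0
  have hT0 : p.ev (X * γ ^ 2) * Wm = 0 := by
    apply p.eq_zero_of_S hS1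
    · have e : p.z * p.ev (X * γ ^ 2) = p.ev (ξ ^ 2) := by
        rw [← p.ev_X, ← p.ev_mul, hξ]; congr 1; ring
      rw [← mul_assoc, e, hWm, mul_sub, ← mul_assoc, p.ev_m, mul_assoc, E1, mul_zero, ← mul_assoc, E1,
        zero_mul, sub_zero]
    · intro w
      have e : (X * γ ^ 2 : k[X]) = ξ * γ := by rw [hξ]; ring
      rw [e, hWm, Module.End.mul_apply, LinearMap.sub_apply, map_sub, p.ev_mul_apply ξ γ, p.ev_mul_apply ξ γ]
      exact S.sub_mem (hS2 _ _ (hS3 (p.n w)).2) (hS2 _ _ (hS3 (p.m w)).1)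
  -- the commutator family
  have hω : Fam G (p.ev (2 * a * ξ) * p.n) := by
    have := Fam.comm2 hq.fn (hq.cpair p g hgG).fm p.hn (mh_sq p g) hcl.1 hcl.2
    rw [cpair_m, n_mh_comm, ← ha, ← hγ, ← hξ, ← hWm, hT0, add_zero] at this
    exact this
  have hBv : p.ev (2 * a * ξ) v = 0 := by
    rw [p.ev_mul_apply, h0, map_zero]
  have E2 : p.ev (2 * a * ξ) * p.n = 0 := hMin.eq_zero hq.rn (p.ev_n_sq _) hω hv hv0 hBv
  have E2' : p.ev (a * ξ) * p.n = 0 := by
    have e : (2 * a * ξ : k[X]) = C (2 : k) * (a * ξ) := by rw [map_ofNat]; ring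
    rw [e, p.ev_mul, p.ev_C] at E2
    simp only [smul_mul_assoc, one_mul] at E2
    exact (smul_eq_zero.mp E2).resolve_left h2
  -- E3
  have E3 : p.ev ξ * p.n = 0 := by
    have hdet := detR (g : SLX)
    rw [g10_eq, ← hγ, ← hξ] at hdet
    have ha' : a = ((g : SLX) : Matrix (Fin 2) (Fin 2) k[X]) 0 0 := ha
    rw [← ha'] at hdet
    have e : ξ = ((g : SLX) : Matrix (Fin 2) (Fin 2) k[X]) 1 1 * (a * ξ) -
        ((g : SLX) : Matrix (Fin 2) (Fin 2) k[X]) 0 1 * ξ ^ 2 := by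
      linear_combination (-ξ) * hdet
    calc p.ev ξ * p.n = p.ev (((g : SLX) : Matrix (Fin 2) (Fin 2) k[X]) 1 1 * (a * ξ) -
        ((g : SLX) : Matrix (Fin 2) (Fin 2) k[X]) 0 1 * ξ ^ 2) * p.n := by rw [← e]
      _ = 0 := by
        rw [p.ev_sub, sub_mul, p.ev_mul, mul_assoc, E2', mul_zero, p.ev_mul, mul_assoc, E1, mul_zero,
          sub_zero]
  refine ⟨E3, ?_⟩
  -- E4
  have E4 : p.z * p.ev ξ = 0 := by
    rw [← p.ev_z, SqPair.z, mul_add, ← mul_assoc, E3, zero_mul, zero_add, ← mul_assoc, p.ev_m, mul_assoc,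
      E3, mul_zero]
  have hA0 : p.ev (a * ξ) = 0 := by
    apply p.eq_zero_of_S hS1
    · rw [p.ev_mul, ← mul_assoc, ← p.ev_z, mul_assoc, E4, mul_zero]
    · intro w
      rw [p.ev_mul_apply]
      exact hS2 _ _ (hξS w)
  have hA1 : p.ev (2 * a * γ) * p.P = 0 := by
    apply p.eq_zero_of_S hS1
    · have e : p.z * p.ev (2 * a * γ) = p.ev (2 * a) * p.ev ξ := by
        rw [← p.ev_X, ← p.ev_mul, ← p.ev_mul, hξ]; congr 1; ring
      rw [← mul_assoc, e, SqPair.P, mul_assoc, ← mul_assoc (p.ev ξ), E3, zero_mul, mul_zero]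
    · intro w
      rw [Module.End.mul_apply, p.P_apply, p.ev_mul_apply]
      exact hS2 _ _ (hS3 _).1
  have hA3 : p.ev (X * γ ^ 2) * p.m = 0 := by
    apply p.eq_zero_of_S hS1
    · have e : (X * γ ^ 2 : k[X]) = ξ * γ := by rw [hξ]; ring
      rw [← mul_assoc, e, p.ev_mul, ← mul_assoc, E4, zero_mul, zero_mul]
    · intro w
      have e : (X * γ ^ 2 : k[X]) = ξ * γ := by rw [hξ]; ring
      rw [e, Module.End.mul_apply, p.ev_mul_apply]
      exact hS2 _ _ (hS3 _).2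
  rw [mh_eq, Ymh, SqPair.Th_mk, ← ha, ← hγ, ← hξ, p.ev_neg, p.ev_neg, neg_mul, neg_mul, hA0, hA1, hA3]
  simp

end

end Cfsg.Agent.Lib.H18.QP
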