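import Mathlib
import Cfsg.Agent.Lib.H4.Dickson.NonExc2

/-!
# The finite case of S5060, via helper4's class-equation analysis of subgroups of `SL₂(q)` (helper18)
-/

set_option autoImplicit false

namespace Cfsg.Agent.Lib.H18.SL2Alg

open Matrix Cfsg.Agent.Lib.H4.Dickson

variable {k E : Type*} [Field k] [Field E] [Algebra k E]

local notation "SL2" => Matrix.SpecialLinearGroup (Fin 2) E
local notation "M2" => Matrix (Fin 2) (Fin 2) E

/-- A field with at most three elements has characteristic two or exactly three elements. -/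
theorem card_ge_of_field (hk2 : ringChar k ≠ 2) (hk3 : Nat.card k ≠ 3) [Finite k] : 3 < Nat.card k := by
  by_contra hcon
  push_neg at hcon
  have h1 : 1 < Nat.card k := Finite.one_lt_card
  have h2 : Nat.card k = 2 := by omega
  have h3 : (Nat.card k) • (1 : k) = 0 := card_nsmul_eq_zero'
  rw [h2] at h3
  have h4 : ((2 : ℕ) : k) = 0 := by
    rw [← h3]; simp
  exact hk2 (CharP.ringChar_of_prime_eq_zero Nat.prime_two h4)

/-- **The finite case.** -/
theorem eq_top_of_finite [Finite E] (hk2 : ringChar k ≠ 2) (hk3 : Nat.card k ≠ 3) {g : E}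
    (hg : g ≠ 0) (hgen : Algebra.adjoin k {g} = ⊤) {L : Subgroup SL2}
    (hU : ∀ c : k, uu (algebraMap k E c) ∈ L)
    (hLo : ∀ c : k, ll (algebraMap k E c * g) ∈ L) : L = ⊤ := by
  classical
  haveI : Finite k := Finite.of_injective (algebraMap k E) (algebraMap k E).injective
  obtain ⟨p, hpc⟩ : ∃ p : ℕ, CharP E p := ⟨ringChar E, inferInstance⟩
  haveI := hpc
  have hpp : p.Prime := CharP.char_is_prime E p
  haveI : Fact p.Prime := ⟨hpp⟩
  have h2k : (2 : k) ≠ 0 := Ring.two_ne_zero hk2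
  have hp2 : p ≠ 2 := by
    rintro rfl
    have h : ((2 : ℕ) : E) = 0 := CharP.cast_eq_zero E 2
    have h' : algebraMap k E 2 = 0 := by
      rw [map_ofNat]; exact_mod_cast h
    exact h2k ((map_eq_zero _).1 h')
  have hu1 : uu (1 : E) ∈ L := by
    have := hU 1
    rwa [map_one] at this
  have hlg : ll g ∈ L := by
    have := hLo 1
    rwa [map_one, one_mul] at this
  have hA1 : (1 : E) ∈ AA L := hu1
  rcases dichotomy p hp2 (one_ne_zero (α := E)) hu1 hg hlg with hidx | ⟨hq, -, -⟩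
  swap
  · -- the exceptional case is impossible: `|A| ≥ |k| > 3`
    exfalso
    have hinj : Function.Injective (fun c : k => (⟨algebraMap k E c, hU c⟩ : AA L)) := by
      intro c d h
      have := congrArg Subtype.val h
      exact (algebraMap k E).injective this
    have hfin : Finite (AA L) := Finite.of_injective (fun a : AA L => (a : E)) Subtype.val_injective
    have := Nat.card_le_card_of_injective _ hinj
    have := card_ge_of_field hk2 hk3
    omega
  -- the generic case
  have hinvA : ∀ b : E, b ≠ 0 → ll b ∈ L → b⁻¹ ∈ AA L := fun b hb hB => inv_mem_AA p hp2 hidx hb hB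
  have hgi : g⁻¹ ∈ AA L := hinvA g hg hlg
  have hw : nn g ∈ L := by
    unfold nn
    exact L.mul_mem (L.mul_mem hlg ((mem_AA L).1 ((AA L).neg_mem hgi))) hlg
  have hAB : ∀ a : E, a ∈ AA L → a * g ^ 2 ∈ BB L := by
    intro a ha
    have h2 : nn g * uu a * (nn g)⁻¹ ∈ L := L.mul_mem (L.mul_mem hw ha) (L.inv_mem hw)
    rw [nn_conj_uu hg] at h2
    have h3 : -(a * g ^ 2) ∈ BB L := by
      rw [mem_BB]
      convert h2 using 2
      ring
    have := (BB L).neg_mem h3
    rwa [neg_neg] at this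
  have hBA : ∀ b : E, b ∈ BB L → b / g ^ 2 ∈ AA L := by
    intro b hb
    have h2 : nn g * ll b * (nn g)⁻¹ ∈ L := L.mul_mem (L.mul_mem hw hb) (L.inv_mem hw)
    rw [nn_conj_ll hg] at h2
    have h3 : -(b / g ^ 2) ∈ AA L := by
      rw [mem_AA]
      convert h2 using 2
      ring
    have := (AA L).neg_mem h3
    rwa [neg_neg] at this
  have hg2 : g ^ 2 ≠ 0 := pow_ne_zero 2 hg
  -- `1 ∈ B`
  have hB1 : (1 : E) ∈ BB L := by
    have h1 : g ^ 2 ∈ BB L := by
      have := hAB 1 hA1
      rwa [one_mul] at this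
    have h2 : (g ^ 2)⁻¹ ∈ AA L := hinvA _ hg2 h1
    have h3 := hAB _ h2
    rwa [inv_mul_cancel₀ hg2] at h3
  have hl1 : ll (1 : E) ∈ L := hB1
  have hln1 : ll (-1 : E) ∈ L := (mem_BB L).1 ((BB L).neg_mem hB1)
  -- inverses of elements of `A` lie in `B`
  have hinvB : ∀ a : E, a ∈ AA L → a ≠ 0 → a⁻¹ ∈ BB L := by
    intro a ha ha0
    have h1 := hAB a ha
    have h2 : (a * g ^ 2)⁻¹ ∈ AA L := hinvA _ (mul_ne_zero ha0 hg2) h1
    have h3 := hAB _ h2
    have e : (a * g ^ 2)⁻¹ * g ^ 2 = a⁻¹ := by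
      field_simp
    rwa [e] at h3
  have hsq : ∀ a c : E, a ∈ AA L → c ∈ AA L → a ^ 2 * c ∈ AA L := by
    intro a c ha hc
    by_cases h0 : a = 0
    · rw [h0]; simp [(AA L).zero_mem]
    · have hai : ll (-a⁻¹) ∈ L := (mem_BB L).1 ((BB L).neg_mem (hinvB a ha h0))
      obtain ⟨D, hD⟩ : ∃ D : SL2, D = uu a * ll (-a⁻¹) * uu a * (uu 1 * ll (-1) * uu 1)⁻¹ :=
        ⟨_, rfl⟩
      have hDL : D ∈ L := by
        rw [hD]
        exact L.mul_mem (L.mul_mem (L.mul_mem ha hai) ha)
          (L.inv_mem (L.mul_mem (L.mul_mem hu1 hln1) hu1))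
      obtain ⟨hD10, hD00⟩ := diag_word h0
      rw [← hD] at hD10 hD00
      have h2 : D * uu c * D⁻¹ ∈ L := L.mul_mem (L.mul_mem hDL hc) (L.inv_mem hDL)
      rw [conj_uu_of_upper hD10, hD00] at h2
      exact h2
  have hmul : ∀ a c : E, a ∈ AA L → c ∈ AA L → a * c ∈ AA L := by
    intro a c ha hc
    apply mem_of_two_mul_mem p hp2
    have h2 := hsq (a + 1) c ((AA L).add_mem ha hA1) hc
    have h3 := hsq a c ha hc
    have h4 := (AA L).sub_mem ((AA L).sub_mem h2 h3) hc
    convert h4 using 1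
    ring
  -- `A` is a subalgebra
  let S : Subalgebra k E :=
    { carrier := AA L
      mul_mem' := fun {a b} ha hb => hmul a b ha hb
      one_mem' := hA1
      add_mem' := fun {a b} ha hb => (AA L).add_mem ha hb
      zero_mem' := (AA L).zero_mem
      algebraMap_mem' := fun c => hU c }
  have hpow : ∀ (a : E) (n : ℕ), a ∈ AA L → a ^ n ∈ AA L := fun a n ha => S.pow_mem ha n
  -- `g ∈ A`
  have hgA : g ∈ AA L := by
    haveI : Fintype E := Fintype.ofFinite E
    have hgi0 : g⁻¹ ≠ 0 := inv_ne_zero hg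
    have h1 : (g⁻¹) ^ (Fintype.card E - 1) = 1 := FiniteField.pow_card_sub_one_eq_one _ hgi0
    have hcard : 2 ≤ Fintype.card E := Fintype.one_lt_card
    have h2 : g = (g⁻¹) ^ (Fintype.card E - 2) := by
      have e : Fintype.card E - 1 = (Fintype.card E - 2) + 1 := by omega
      rw [e, pow_succ] at h1
      calc g = (g⁻¹ ^ (Fintype.card E - 2) * g⁻¹) * g := by rw [h1, one_mul]
        _ = g⁻¹ ^ (Fintype.card E - 2) := by rw [mul_assoc, inv_mul_cancel₀ hg, mul_one]
    rw [h2]
    exact hpow _ _ hgi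
  have hS : Algebra.adjoin k {g} ≤ S := by
    apply Algebra.adjoin_le
    intro x hx
    rw [Set.mem_singleton_iff] at hx
    rw [hx]
    exact hgA
  rw [hgen] at hS
  have hall : ∀ a : E, a ∈ AA L := fun a => hS Algebra.mem_top
  apply eq_top_of_all hall
  intro b
  have := hAB (b / g ^ 2) (hall _)
  rwa [div_mul_cancel₀ b hg2] at this

end Cfsg.Agent.Lib.H18.SL2Alg
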