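import Cfsg.Agent.Lib.H18.QP2
import Cfsg.Agent.Lib.H18.SL2Alg5
import Cfsg.Agent.Lib.H4.Dickson.SL2Gen

/-!
# Congruence subgroups of `Γ` and lifting from `SL₂(K)` (helper18, for S5064)
-/

set_option autoImplicit false

namespace Cfsg.Agent.Lib.H18.QP

open Polynomial Matrix
open scoped commutatorElement

noncomputable section

section general

variable {R : Type*} [CommRing R]

local notation "SL2" => Matrix.SpecialLinearGroup (Fin 2) R
local notation "M2" => Matrix (Fin 2) (Fin 2) R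

/-- diagonal matrices -/
def hR (s t : R) (h : s * t = 1) : SL2 := ⟨!![s, 0; 0, t], by simp [Matrix.det_fin_two_of, h]⟩

@[simp] theorem hR_00 (s t : R) (h : s * t = 1) : ((hR s t h : SL2) : M2) 0 0 = s := rfl
@[simp] theorem hR_01 (s t : R) (h : s * t = 1) : ((hR s t h : SL2) : M2) 0 1 = 0 := rfl
@[simp] theorem hR_10 (s t : R) (h : s * t = 1) : ((hR s t h : SL2) : M2) 1 0 = 0 := rfl
@[simp] theorem hR_11 (s t : R) (h : s * t = 1) : ((hR s t h : SL2) : M2) 1 1 = t := rfl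

theorem hR_conj_uR (s t : R) (h : s * t = 1) (c : R) :
    hR s t h * uR c * (hR s t h)⁻¹ = uR (c * s * s) := by
  apply sl2_extR
  · rw [conjU_00]; simp
  · rw [conjU_01]; simp
  · rw [conjU_10]; simp
  · rw [conjU_11]; simp

theorem hR_conj_lR (s t : R) (h : s * t = 1) (c : R) :
    hR s t h * lR c * (hR s t h)⁻¹ = lR (c * t * t) := by
  apply sl2_extR
  · rw [conjL_00]; simp
  · rw [conjL_01]; simp
  · rw [conjL_10]; simp
  · rw [conjL_11]; simp

theorem hR_comm_uR (s t : R) (h : s * t = 1) (c : R) :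
    ⁅hR s t h, uR c⁆ = uR (c * s * s - c) := by
  rw [commutatorElement_def, hR_conj_uR, ← uR_neg, ← uR_add, sub_eq_add_neg]

theorem hR_comm_lR (s t : R) (h : s * t = 1) (c : R) :
    ⁅hR s t h, lR c⁆ = lR (c * t * t - c) := by
  rw [commutatorElement_def, hR_conj_lR, ← lR_neg, ← lR_add, sub_eq_add_neg]

end general

section perfect

variable {K : Type*} [Field K]

theorem perfect_SL2 (s : K) (hs0 : s ≠ 0) (hs1 : s ^ 2 ≠ 1) :
    ⁅(⊤ : Subgroup (Matrix.SpecialLinearGroup (Fin 2) K)), (⊤ : Subgroup (Matrix.SpecialLinearGroup (Fin 2) K))⁆ = ⊤ := by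
  apply Cfsg.Agent.Lib.H4.Dickson.eq_top_of_all
  · intro a
    have h1 : s * s - 1 ≠ 0 := by
      intro h; apply hs1; rw [pow_two]; exact sub_eq_zero.mp h
    have e : Cfsg.Agent.Lib.H4.Dickson.uu a = ⁅hR s s⁻¹ (mul_inv_cancel₀ hs0), uR (a / (s * s - 1))⁆ := by
      rw [hR_comm_uR]
      have : a / (s * s - 1) * s * s - a / (s * s - 1) = a := by field_simp
      rw [this]; rfl
    rw [e]
    exact Subgroup.commutator_mem_commutator (Subgroup.mem_top _) (Subgroup.mem_top _)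
  · intro b
    have h1 : s⁻¹ * s⁻¹ - 1 ≠ 0 := by
      intro h; apply hs1
      have h2 : s⁻¹ * s⁻¹ = 1 := sub_eq_zero.mp h
      have h3 : s ^ 2 * (s⁻¹ * s⁻¹) = 1 := by field_simp
      rw [h2, mul_one] at h3; exact h3
    have e : Cfsg.Agent.Lib.H4.Dickson.ll b =
        ⁅hR s s⁻¹ (mul_inv_cancel₀ hs0), lR (b / (s⁻¹ * s⁻¹ - 1))⁆ := by
      rw [hR_comm_lR]
      have : b / (s⁻¹ * s⁻¹ - 1) * s⁻¹ * s⁻¹ - b / (s⁻¹ * s⁻¹ - 1) = b := by
        field_simp
      rw [this]; rfl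
    rw [e]
    exact Subgroup.commutator_mem_commutator (Subgroup.mem_top _) (Subgroup.mem_top _)

theorem exists_s {k : Type*} [Field k] (hk2 : ringChar k ≠ 2) (hk3 : Nat.card k ≠ 3) :
    ∃ s : k, s ≠ 0 ∧ s ^ 2 ≠ 1 := by
  classical
  by_contra hcon
  push_neg at hcon
  have hall : ∀ s : k, s ∈ ({0, 1, -1} : Finset k) := by
    intro s
    by_cases hs : s = 0
    · simp [hs]
    · have h1 := hcon s hs
      have h2 : (s - 1) * (s + 1) = 0 := by linear_combination h1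
      rcases mul_eq_zero.mp h2 with h | h
      · simp [sub_eq_zero.mp h]
      · simp [eq_neg_of_add_eq_zero_left h]
  haveI : Fintype k := ⟨{0, 1, -1}, hall⟩
  haveI : Finite k := Finite.of_fintype k
  have h3 := Cfsg.Agent.Lib.H18.SL2Alg.card_ge_of_field hk2 hk3
  have h4 : Nat.card k ≤ 3 := by
    rw [Nat.card_eq_fintype_card, ← Finset.card_univ]
    exact (Finset.card_le_card (fun x _ => hall x)).trans Finset.card_le_three
  omega

end perfect

section cong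

variable {k : Type*} [Field k]

local notation "SLX" => Matrix.SpecialLinearGroup (Fin 2) (Polynomial k)
local notation "MX" => Matrix (Fin 2) (Fin 2) (Polynomial k)

/-- the principal congruence subgroup modulo `q` -/
def cong (q : k[X]) : Subgroup SLX := (Matrix.SpecialLinearGroup.map (AdjoinRoot.mk q)).ker

theorem mem_cong {q : k[X]} {g : SLX} : g ∈ cong q ↔
    q ∣ (g : MX) 0 0 - 1 ∧ q ∣ (g : MX) 0 1 ∧ q ∣ (g : MX) 1 0 ∧ q ∣ (g : MX) 1 1 - 1 := by
  rw [cong, MonoidHom.mem_ker]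
  constructor
  · intro h
    have e : ∀ i j, AdjoinRoot.mk q ((g : MX) i j) =
        ((1 : Matrix.SpecialLinearGroup (Fin 2) (AdjoinRoot q)) : Matrix (Fin 2) (Fin 2) (AdjoinRoot q)) i j := by
      intro i j
      rw [← h]; rfl
    refine ⟨?_, ?_, ?_, ?_⟩
    · have := e 0 0
      rw [oneR_00] at this
      exact AdjoinRoot.mk_eq_mk.mp (this.trans (map_one _).symm)
    · have := e 0 1
      rw [oneR_01] at this
      exact AdjoinRoot.mk_eq_zero.mp this
    · have := e 1 0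
      rw [oneR_10] at this
      exact AdjoinRoot.mk_eq_zero.mp this
    · have := e 1 1
      rw [oneR_11] at this
      exact AdjoinRoot.mk_eq_mk.mp (this.trans (map_one _).symm)
  · rintro ⟨h00, h01, h10, h11⟩
    apply sl2_extR
    · rw [map_entry, oneR_00]
      exact (AdjoinRoot.mk_eq_mk.mpr h00).trans (map_one _)
    · rw [map_entry, oneR_01]
      exact AdjoinRoot.mk_eq_zero.mpr h01
    · rw [map_entry, oneR_10]
      exact AdjoinRoot.mk_eq_zero.mpr h10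
    · rw [map_entry, oneR_11]
      exact (AdjoinRoot.mk_eq_mk.mpr h11).trans (map_one _)

theorem comm_cong {i : ℕ} {g h : SLX} (hg : g ∈ cong (X ^ i)) (hh : h ∈ cong (X : k[X])) :
    ⁅g, h⁆ ∈ cong (X ^ (i + 1)) := by
  rw [cong, MonoidHom.mem_ker, map_commutatorElement, commutatorElement_eq_one_iff_commute]
  show Matrix.SpecialLinearGroup.map (AdjoinRoot.mk (X ^ (i + 1))) g *
    Matrix.SpecialLinearGroup.map (AdjoinRoot.mk (X ^ (i + 1))) h =
    Matrix.SpecialLinearGroup.map (AdjoinRoot.mk (X ^ (i + 1))) h *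
    Matrix.SpecialLinearGroup.map (AdjoinRoot.mk (X ^ (i + 1))) g
  rw [← map_mul, ← map_mul]
  obtain ⟨⟨a00, e00⟩, ⟨a01, e01⟩, ⟨a10, e10⟩, ⟨a11, e11⟩⟩ := mem_cong.mp hg
  obtain ⟨⟨b00, f00⟩, ⟨b01, f01⟩, ⟨b10, f10⟩, ⟨b11, f11⟩⟩ := mem_cong.mp hh
  have e00' : (g : MX) 0 0 = 1 + X ^ i * a00 := by linear_combination e00
  have e11' : (g : MX) 1 1 = 1 + X ^ i * a11 := by linear_combination e11
  have f00' : (h : MX) 0 0 = 1 + X * b00 := by linear_combination f00
  have f11' : (h : MX) 1 1 = 1 + X * b11 := by linear_combination f11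
  apply sl2_extR
  · rw [map_entry, map_entry, AdjoinRoot.mk_eq_mk, mulR_00, mulR_00, e00', e01, e10, f00', f01, f10]
    exact ⟨a01 * b10 - b01 * a10, by ring⟩
  · rw [map_entry, map_entry, AdjoinRoot.mk_eq_mk, mulR_01, mulR_01, e00', e01, e11', f00', f01, f11']
    exact ⟨a00 * b01 + a01 * b11 - b00 * a01 - b01 * a11, by ring⟩
  · rw [map_entry, map_entry, AdjoinRoot.mk_eq_mk, mulR_10, mulR_10, e00', e10, e11', f00', f10, f11']
    exact ⟨a10 * b00 + a11 * b10 - b10 * a00 - b11 * a10, by ring⟩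
  · rw [map_entry, map_entry, AdjoinRoot.mk_eq_mk, mulR_11, mulR_11, e01, e10, e11', f01, f10, f11']
    exact ⟨a10 * b01 - b10 * a01, by ring⟩

theorem Gam_map_X (g : SLX) (hg : g ∈ Gam k) :
    ∃ a, Matrix.SpecialLinearGroup.map (AdjoinRoot.mk (X : k[X])) g = uR a := by
  induction hg using Subgroup.closure_induction with
  | mem x hx =>
    rcases hx with ⟨c, rfl⟩ | ⟨c, rfl⟩
    · exact ⟨_, map_uR _ _⟩
    · refine ⟨0, ?_⟩
      rw [map_lR, uR_zero]
      have : AdjoinRoot.mk (X : k[X]) (C c * X) = 0 := AdjoinRoot.mk_eq_zero.mpr (dvd_mul_left _ _)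
      rw [this, lR_zero]
  | one => exact ⟨0, by rw [map_one, uR_zero]⟩
  | mul x y _ _ ihx ihy =>
    obtain ⟨a, ha⟩ := ihx
    obtain ⟨b, hb⟩ := ihy
    exact ⟨a + b, by rw [map_mul, ha, hb, uR_add]⟩
  | inv x _ ihx =>
    obtain ⟨a, ha⟩ := ihx
    exact ⟨-a, by rw [map_inv, ha, uR_neg]⟩

theorem Gam_comm_le : ⁅Gam k, Gam k⁆ ≤ Gam k ⊓ cong (X ^ 1 : k[X]) := by
  rw [Subgroup.commutator_le]
  intro g₁ h₁ g₂ h₂
  refine Subgroup.mem_inf.mpr ⟨?_, ?_⟩
  · rw [commutatorElement_def]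
    exact (Gam k).mul_mem ((Gam k).mul_mem ((Gam k).mul_mem h₁ h₂) ((Gam k).inv_mem h₁))
      ((Gam k).inv_mem h₂)
  · rw [pow_one, cong, MonoidHom.mem_ker, map_commutatorElement,
      commutatorElement_eq_one_iff_commute]
    obtain ⟨a, ha⟩ := Gam_map_X g₁ h₁
    obtain ⟨b, hb⟩ := Gam_map_X g₂ h₂
    rw [ha, hb]
    show uR a * uR b = uR b * uR a
    rw [← uR_add, ← uR_add, add_comm]

theorem lift_cong {K : Type*} [Field K] (φ : SLX →* Matrix.SpecialLinearGroup (Fin 2) K)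
    (hsurj : (Gam k).map φ = ⊤)
    (hperf : ⁅(⊤ : Subgroup (Matrix.SpecialLinearGroup (Fin 2) K)), (⊤ : Subgroup (Matrix.SpecialLinearGroup (Fin 2) K))⁆ = ⊤) :
    ∀ i : ℕ, 1 ≤ i → (Gam k ⊓ cong (X ^ i : k[X])).map φ = ⊤ := by
  have base : (Gam k ⊓ cong (X ^ 1 : k[X])).map φ = ⊤ := by
    rw [eq_top_iff]
    calc (⊤ : Subgroup (Matrix.SpecialLinearGroup (Fin 2) K)) = ⁅(⊤ : Subgroup (Matrix.SpecialLinearGroup (Fin 2) K)), (⊤ : Subgroup (Matrix.SpecialLinearGroup (Fin 2) K))⁆ := hperf.symm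
      _ = ⁅(Gam k).map φ, (Gam k).map φ⁆ := by rw [hsurj]
      _ = (⁅Gam k, Gam k⁆).map φ := (Subgroup.map_commutator _ _ _).symm
      _ ≤ _ := Subgroup.map_mono Gam_comm_le
  intro i hi
  induction i, hi using Nat.le_induction with
  | base => exact base
  | succ i hi ih =>
    have hstep : ⁅Gam k ⊓ cong (X ^ i : k[X]), Gam k ⊓ cong (X ^ 1 : k[X])⁆ ≤
        Gam k ⊓ cong (X ^ (i + 1) : k[X]) := by
      rw [Subgroup.commutator_le]
      intro g₁ h₁ g₂ h₂
      rw [Subgroup.mem_inf] at h₁ h₂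
      refine Subgroup.mem_inf.mpr ⟨?_, ?_⟩
      · rw [commutatorElement_def]
        exact (Gam k).mul_mem ((Gam k).mul_mem ((Gam k).mul_mem h₁.1 h₂.1) ((Gam k).inv_mem h₁.1))
          ((Gam k).inv_mem h₂.1)
      · have h2' : g₂ ∈ cong (X : k[X]) := by
          have := h₂.2
          rwa [pow_one] at this
        exact comm_cong h₁.2 h2'
    rw [eq_top_iff]
    calc (⊤ : Subgroup (Matrix.SpecialLinearGroup (Fin 2) K)) = ⁅(⊤ : Subgroup (Matrix.SpecialLinearGroup (Fin 2) K)), (⊤ : Subgroup (Matrix.SpecialLinearGroup (Fin 2) K))⁆ := hperf.symm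
      _ = ⁅(Gam k ⊓ cong (X ^ i : k[X])).map φ, (Gam k ⊓ cong (X ^ 1 : k[X])).map φ⁆ := by rw [ih, base]
      _ = (⁅Gam k ⊓ cong (X ^ i : k[X]), Gam k ⊓ cong (X ^ 1 : k[X])⁆).map φ :=
          (Subgroup.map_commutator _ _ _).symm
      _ ≤ _ := Subgroup.map_mono hstep

theorem exists_lift {K : Type*} [Field K] (φ : SLX →* Matrix.SpecialLinearGroup (Fin 2) K)
    (hsurj : (Gam k).map φ = ⊤)
    (hperf : ⁅(⊤ : Subgroup (Matrix.SpecialLinearGroup (Fin 2) K)), (⊤ : Subgroup (Matrix.SpecialLinearGroup (Fin 2) K))⁆ = ⊤) (i : ℕ) (hi : 1 ≤ i)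
    (y : Matrix.SpecialLinearGroup (Fin 2) K) : ∃ g ∈ Gam k, g ∈ cong (X ^ i : k[X]) ∧ φ g = y := by
  have h : y ∈ (Gam k ⊓ cong (X ^ i : k[X])).map φ := by
    rw [lift_cong φ hsurj hperf i hi]; exact Subgroup.mem_top _
  obtain ⟨g, hg, rfl⟩ := h
  rw [SetLike.mem_coe, Subgroup.mem_inf] at hg
  exact ⟨g, hg.1, hg.2, rfl⟩

end cong

end

end Cfsg.Agent.Lib.H18.QP
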