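import Mathlib

/-!
# The degree filtration of a field with a power basis (helper18, for S5060)

`Fl pb j` is the span of `1, g, …, g^(j-1)` for the generator `g` of a power basis.
-/

set_option autoImplicit false

namespace Cfsg.Agent.Lib.H18.SL2Alg

variable {k E : Type*} [Field k] [Field E] [Algebra k E] (pb : PowerBasis k E)

/-- The span of the powers `g^i`, `i < j`. -/
def Fl (j : ℕ) : Submodule k E := Submodule.span k ((fun i : ℕ => pb.gen ^ i) '' Set.Iio j)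

theorem pow_mem_Fl {i j : ℕ} (h : i < j) : pb.gen ^ i ∈ Fl pb j :=
  Submodule.subset_span ⟨i, h, rfl⟩

theorem Fl_mono {j j' : ℕ} (h : j ≤ j') : Fl pb j ≤ Fl pb j' := by
  apply Submodule.span_mono
  apply Set.image_mono
  intro i hi
  exact lt_of_lt_of_le hi h

theorem Fl_zero : Fl pb 0 = ⊥ := by
  unfold Fl
  rw [show Set.Iio (0 : ℕ) = ∅ from Set.eq_empty_of_forall_notMem (fun x hx => Nat.not_lt_zero x hx)]
  simp

theorem mem_Fl_zero {x : E} (h : x ∈ Fl pb 0) : x = 0 := by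
  rw [Fl_zero] at h
  exact (Submodule.mem_bot k).1 h

theorem Fl_top {j : ℕ} (h : pb.dim ≤ j) : Fl pb j = ⊤ := by
  rw [eq_top_iff, ← pb.basis.span_eq]
  apply Submodule.span_mono
  rintro x ⟨i, rfl⟩
  refine ⟨i, lt_of_lt_of_le i.2 h, ?_⟩
  rw [pb.basis_eq_pow]

theorem one_mem_Fl_one : (1 : E) ∈ Fl pb 1 := by
  have := pow_mem_Fl pb (i := 0) (j := 1) Nat.zero_lt_one
  rwa [pow_zero] at this

theorem gen_mul_mem {j : ℕ} {x : E} (hx : x ∈ Fl pb j) : pb.gen * x ∈ Fl pb (j + 1) := by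
  have h : Fl pb j ≤ (Fl pb (j + 1)).comap (LinearMap.mulLeft k pb.gen) := by
    apply Submodule.span_le.2
    rintro y ⟨i, hi, rfl⟩
    show pb.gen * pb.gen ^ i ∈ Fl pb (j + 1)
    rw [← pow_succ']
    exact pow_mem_Fl pb (Nat.succ_lt_succ hi)
  exact h hx

/-- Elements of `Fl (j+1)` are a multiple of `g^j` plus an element of `Fl j`. -/
theorem Fl_succ_decomp {j : ℕ} {x : E} (hx : x ∈ Fl pb (j + 1)) :
    ∃ c : k, x - c • pb.gen ^ j ∈ Fl pb j := by
  have e : (fun i : ℕ => pb.gen ^ i) '' Set.Iio (j + 1) =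
      insert (pb.gen ^ j) ((fun i : ℕ => pb.gen ^ i) '' Set.Iio j) := by
    rw [← Set.image_insert_eq]
    congr 1
    ext i
    simp only [Set.mem_Iio, Set.mem_insert_iff]
    omega
  unfold Fl at hx
  rw [e, Submodule.mem_span_insert] at hx
  obtain ⟨c, z, hz, rfl⟩ := hx
  refine ⟨c, ?_⟩
  have e2 : c • pb.gen ^ j + z - c • pb.gen ^ j = z := by abel
  rw [e2]
  exact hz

/-- The coordinate functional of the power basis. -/
theorem coord_pow (i : Fin pb.dim) (l : ℕ) (hl : l < pb.dim) :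
    pb.basis.coord i (pb.gen ^ l) = if (i : ℕ) = l then 1 else 0 := by
  have : pb.gen ^ l = pb.basis ⟨l, hl⟩ := by rw [pb.basis_eq_pow]
  rw [this, Module.Basis.coord_apply, Module.Basis.repr_self, Finsupp.single_apply]
  by_cases h : (i : ℕ) = l
  · have : (⟨l, hl⟩ : Fin pb.dim) = i := Fin.ext h.symm
    simp [this, h]
  · have : (⟨l, hl⟩ : Fin pb.dim) ≠ i := fun hh => h (by rw [← hh])
    simp [this, h]

theorem coord_eq_zero_of_mem {j : ℕ} (hj : j < pb.dim) {x : E} (hx : x ∈ Fl pb j) :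
    pb.basis.coord ⟨j, hj⟩ x = 0 := by
  have h : Fl pb j ≤ LinearMap.ker (pb.basis.coord ⟨j, hj⟩) := by
    apply Submodule.span_le.2
    rintro y ⟨i, hi, rfl⟩
    rw [SetLike.mem_coe, LinearMap.mem_ker, coord_pow pb _ i (lt_trans hi hj)]
    have : ¬ j = i := fun h => absurd hi (by rw [h]; exact lt_irrefl i)
    simp [this]
  exact LinearMap.mem_ker.1 (h hx)

theorem pow_notMem_Fl {j : ℕ} (hj : j < pb.dim) : pb.gen ^ j ∉ Fl pb j := by
  intro h
  have h1 := coord_eq_zero_of_mem pb hj h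
  rw [coord_pow pb _ j hj] at h1
  simp at h1

/-- Killing the top coefficient. -/
theorem kill {j : ℕ} {x y : E} (hx : x ∈ Fl pb (j + 1)) (hy : y ∈ Fl pb (j + 1))
    (hy' : y ∉ Fl pb j) : ∃ a : k, x + a • y ∈ Fl pb j := by
  obtain ⟨c, hc⟩ := Fl_succ_decomp pb hx
  obtain ⟨d, hd⟩ := Fl_succ_decomp pb hy
  have hd0 : d ≠ 0 := by
    intro h0
    rw [h0, zero_smul, sub_zero] at hd
    exact hy' hd
  refine ⟨-(c / d), ?_⟩
  have e : x + (-(c / d)) • y = (x - c • pb.gen ^ j) - (c / d) • (y - d • pb.gen ^ j) := by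
    rw [smul_sub, smul_smul, div_mul_cancel₀ c hd0, neg_smul]
    abel
  rw [e]
  exact Submodule.sub_mem _ hc (Submodule.smul_mem _ _ hd)

/-- Cancellation: if `z` and `g z` both lie in `Fl (j+1)` with `j + 1 < dim`, then `z ∈ Fl j`. -/
theorem cancel {j : ℕ} (hj : j + 1 < pb.dim) {z : E} (hz : z ∈ Fl pb (j + 1))
    (hgz : pb.gen * z ∈ Fl pb (j + 1)) : z ∈ Fl pb j := by
  obtain ⟨c, hc⟩ := Fl_succ_decomp pb hz
  by_cases h0 : c = 0
  · rw [h0, zero_smul, sub_zero] at hc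
    exact hc
  exfalso
  have h1 : pb.gen * (z - c • pb.gen ^ j) ∈ Fl pb (j + 1) := gen_mul_mem pb hc
  have h2 : c • pb.gen ^ (j + 1) ∈ Fl pb (j + 1) := by
    have e : c • pb.gen ^ (j + 1) = pb.gen * z - pb.gen * (z - c • pb.gen ^ j) := by
      rw [mul_sub, mul_smul_comm, ← pow_succ']
      abel
    rw [e]
    exact Submodule.sub_mem _ hgz h1
  have h3 : pb.gen ^ (j + 1) ∈ Fl pb (j + 1) := by
    have := Submodule.smul_mem (Fl pb (j + 1)) c⁻¹ h2
    rwa [smul_smul, inv_mul_cancel₀ h0, one_smul] at this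
  exact pow_notMem_Fl pb hj h3

/-- `1` is not `g` times an element of `Fl j` for `j < dim`. -/
theorem one_ne_gen_mul {j : ℕ} (hj : j < pb.dim) {x : E} (hx : x ∈ Fl pb j) :
    pb.gen * x ≠ 1 := by
  have hpos : 0 < pb.dim := lt_of_le_of_lt (Nat.zero_le _) hj
  have h : Fl pb j ≤ LinearMap.ker ((pb.basis.coord ⟨0, hpos⟩).comp (LinearMap.mulLeft k pb.gen)) := by
    apply Submodule.span_le.2
    rintro y ⟨i, hi, rfl⟩
    rw [SetLike.mem_coe, LinearMap.mem_ker, LinearMap.comp_apply, LinearMap.mulLeft_apply,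
      ← pow_succ', coord_pow pb _ (i + 1) (lt_of_le_of_lt (Nat.succ_le_of_lt hi) hj)]
    simp
  intro h1
  have h2 := LinearMap.mem_ker.1 (h hx)
  rw [LinearMap.comp_apply, LinearMap.mulLeft_apply, h1] at h2
  have h3 := coord_pow pb ⟨0, hpos⟩ 0 hpos
  rw [pow_zero] at h3
  rw [h3] at h2
  simp at h2

/-- Elements of `Fl 1` are scalars. -/
theorem mem_Fl_one {x : E} (hx : x ∈ Fl pb 1) : ∃ c : k, x = algebraMap k E c := by
  obtain ⟨c, hc⟩ := Fl_succ_decomp pb hx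
  refine ⟨c, ?_⟩
  have := mem_Fl_zero pb hc
  rw [pow_zero, sub_eq_zero] at this
  rw [this, Algebra.smul_def, mul_one]

end Cfsg.Agent.Lib.H18.SL2Alg
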