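import Mathlib
import Cfsg.Agent.Lib.H4.Dickson.SL2Mat
import Cfsg.Agent.Lib.H18.SL2Alg1

/-!
# The restricted Euclidean chain (helper18, for S5060)

For a subgroup `L` of `SL₂(E)` containing the upper unitriangular matrices with entries in `k` and the
lower unitriangular matrices with entries in `k g` (`g` the generator of a power basis of `E / k`), and a
"good" element `lam` of `E`, we construct an element of `L` with second row `(c / lam, 0)`, `c ∈ kˣ`.
-/

set_option autoImplicit false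

namespace Cfsg.Agent.Lib.H18.SL2Alg

open Matrix Cfsg.Agent.Lib.H4.Dickson

variable {k E : Type*} [Field k] [Field E] [Algebra k E] (pb : PowerBasis k E)

local notation "SL2" => Matrix.SpecialLinearGroup (Fin 2) E
local notation "M2" => Matrix (Fin 2) (Fin 2) E

/-- `(s, t)` is the second row of an element of `L`. -/
def Row (L : Subgroup SL2) (s t : E) : Prop := ∃ W ∈ L, (W : M2) 1 0 = s ∧ (W : M2) 1 1 = t

theorem row_one {L : Subgroup SL2} : Row L (0 : E) (1 : E) := ⟨1, L.one_mem, by simp, by simp⟩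

theorem row_u {L : Subgroup SL2} (hU : ∀ c : k, uu (algebraMap k E c) ∈ L) {s t : E} (h : Row L s t) (a : k) :
    Row L s (t + a • s) := by
  obtain ⟨W, hW, h10, h11⟩ := h
  refine ⟨W * uu (algebraMap k E a), L.mul_mem hW (hU a), ?_, ?_⟩
  · rw [mul_apply_10, uu_00, uu_10, h10]; ring
  · rw [mul_apply_11, uu_01, uu_11, h10, h11, Algebra.smul_def]; ring

theorem row_l {L : Subgroup SL2} (hLo : ∀ c : k, ll (algebraMap k E c * pb.gen) ∈ L) {s t : E} (h : Row L s t) (c : k) :
    Row L (s + c • (pb.gen * t)) t := by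
  obtain ⟨W, hW, h10, h11⟩ := h
  refine ⟨W * ll (algebraMap k E c * pb.gen), L.mul_mem hW (hLo c), ?_, ?_⟩
  · rw [mul_apply_10, ll_00, ll_10, h10, h11, Algebra.smul_def]; ring
  · rw [mul_apply_11, ll_01, ll_11, h11]; ring

/-- The transversality conditions on `lam`. -/
def Good (lam : E) : Prop :=
  lam ≠ 0 ∧ ∀ i M : ℕ, 1 ≤ i → 1 ≤ M → i + M = pb.dim →
    (∀ t ∈ Fl pb i, lam * t ∈ Fl pb M → t = 0) ∧ (∀ s ∈ Fl pb i, pb.gen * lam * s ∈ Fl pb M → s = 0)

theorem Good.nd {lam : E} (h : Good pb lam) {i M : ℕ} (hi : 1 ≤ i) (hiM : i + M = pb.dim)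
    {t : E} (ht : t ∈ Fl pb i) (hlt : lam * t ∈ Fl pb M) : t = 0 := by
  rcases Nat.eq_zero_or_pos M with hM | hM
  · subst hM
    have := mem_Fl_zero pb hlt
    exact (mul_eq_zero.1 this).resolve_left h.1
  · exact (h.2 i M hi hM hiM).1 t ht hlt

theorem Good.nd' (hg : pb.gen ≠ 0) {lam : E} (h : Good pb lam) {i M : ℕ} (hi : 1 ≤ i)
    (hiM : i + M = pb.dim) {s : E} (hs : s ∈ Fl pb i) (hls : pb.gen * lam * s ∈ Fl pb M) : s = 0 := by
  rcases Nat.eq_zero_or_pos M with hM | hM
  · subst hM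
    have := mem_Fl_zero pb hls
    exact (mul_eq_zero.1 this).resolve_left (mul_ne_zero hg h.1)
  · exact (h.2 i M hi hM hiM).2 s hs hls

/-- The invariant of the chain at stage `i`, with `M = dim - i`. -/
def Inv (L : Subgroup SL2) (lam : E) (i M : ℕ) : Prop :=
  ∃ s t : E, Row L s t ∧ (∃ x ∈ Fl pb i, t - 1 = pb.gen * x) ∧ lam * t ∈ Fl pb M ∧
    (∃ y ∈ Fl pb i, s = pb.gen * y) ∧ lam * s ∈ Fl pb (M + 1) ∧ (1 ≤ i → s ≠ 0)

theorem inv_zero {L : Subgroup SL2} (lam : E) : Inv pb L lam 0 pb.dim := by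
  refine ⟨0, 1, row_one, ⟨0, Submodule.zero_mem _, by simp⟩, ?_, ⟨0, Submodule.zero_mem _, by simp⟩, ?_, ?_⟩
  · rw [Fl_top pb le_rfl]; exact Submodule.mem_top
  · rw [mul_zero]; exact Submodule.zero_mem _
  · intro h; omega

theorem inv_step {L : Subgroup SL2} (hg : pb.gen ≠ 0) (hU : ∀ c : k, uu (algebraMap k E c) ∈ L)
    (hLo : ∀ c : k, ll (algebraMap k E c * pb.gen) ∈ L) {lam : E} (hlam : Good pb lam)
    {i N : ℕ} (hiN : i + 1 + N = pb.dim) (h : Inv pb L lam i (N + 1)) : Inv pb L lam (i + 1) N := by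
  obtain ⟨s, t, hrow, ⟨x, hx, htx⟩, hlt, ⟨y, hy, hsy⟩, hls, hs0⟩ := h
  have hidim : i < pb.dim := by omega
  -- `t ≠ 0`
  have ht0 : t ≠ 0 := by
    intro h0
    have h1 : pb.gen * (-x) = 1 := by
      rw [mul_neg, ← htx, h0]; ring
    exact one_ne_gen_mul pb hidim (Submodule.neg_mem _ hx) h1
  -- `t ∈ Fl (i+1)`
  have htF : t ∈ Fl pb (i + 1) := by
    have e : t = 1 + pb.gen * x := by rw [← htx]; ring
    rw [e]
    exact Submodule.add_mem _ (Fl_mono pb (by omega) (one_mem_Fl_one pb)) (gen_mul_mem pb hx)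
  -- Step B
  obtain ⟨c, hc, hs'0⟩ : ∃ c : k, lam * (s + c • (pb.gen * t)) ∈ Fl pb (N + 1) ∧
      s + c • (pb.gen * t) ≠ 0 := by
    rcases Nat.eq_zero_or_pos i with hi0 | hipos
    · subst hi0
      refine ⟨1, ?_, ?_⟩
      · have : N + 1 = pb.dim := by omega
        rw [Fl_top pb (le_of_eq this.symm)]
        exact Submodule.mem_top
      · have hy0 := mem_Fl_zero pb hy
        rw [hsy, hy0, mul_zero, zero_add, one_smul]
        exact mul_ne_zero hg ht0
    · -- `i ≥ 1`
      have hgl : pb.gen * (lam * t) ∈ Fl pb (N + 1 + 1) := gen_mul_mem pb hlt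
      have hnot : pb.gen * (lam * t) ∉ Fl pb (N + 1) := by
        intro hmem
        have hz : lam * t ∈ Fl pb N := cancel pb (by omega) hlt hmem
        exact ht0 (hlam.nd pb (by omega) (by omega) htF hz)
      obtain ⟨c, hc⟩ := kill pb hls hgl hnot
      refine ⟨c, ?_, ?_⟩
      · have e : lam * (s + c • (pb.gen * t)) = lam * s + c • (pb.gen * (lam * t)) := by
          rw [mul_add, mul_smul_comm]
          congr 2
          ring
        rw [e]
        exact hc
      · intro hzero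
        by_cases hc0 : c = 0
        · rw [hc0, zero_smul, add_zero] at hzero
          exact hs0 hipos hzero
        · have h1 : pb.gen * t = pb.gen * ((-c⁻¹) • y) := by
            have h2 : c • (pb.gen * t) = -s := by
              rw [eq_neg_iff_add_eq_zero, add_comm]; exact hzero
            have h3 : pb.gen * t = c⁻¹ • (-s) := by
              rw [← h2, smul_smul, inv_mul_cancel₀ hc0, one_smul]
            rw [h3, hsy, mul_smul_comm, neg_smul, smul_neg]
          have h4 : t = (-c⁻¹) • y := mul_left_cancel₀ hg h1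
          have h5 : t ∈ Fl pb i := by rw [h4]; exact Submodule.smul_mem _ _ hy
          exact ht0 (hlam.nd pb hipos (by omega) h5 hlt)
  obtain ⟨s', hs'def⟩ : ∃ s', s' = s + c • (pb.gen * t) := ⟨_, rfl⟩
  rw [← hs'def] at hc hs'0
  have hrow' : Row L s' t := by rw [hs'def]; exact row_l pb hLo hrow c
  obtain ⟨y', hy', hs'y'⟩ : ∃ y' ∈ Fl pb (i + 1), s' = pb.gen * y' := by
    refine ⟨y + c • t, Submodule.add_mem _ (Fl_mono pb (by omega) hy) (Submodule.smul_mem _ _ htF), ?_⟩
    rw [hs'def, hsy, mul_add, mul_smul_comm]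
  have hy'0 : y' ≠ 0 := by
    intro h0
    rw [h0, mul_zero] at hs'y'
    exact hs'0 hs'y'
  -- Step A
  have hnot' : lam * s' ∉ Fl pb N := by
    intro hmem
    have e : pb.gen * lam * y' = lam * s' := by rw [hs'y']; ring
    rw [← e] at hmem
    exact hy'0 (hlam.nd' pb hg (by omega) (by omega) hy' hmem)
  obtain ⟨a, ha⟩ := kill pb hlt hc hnot'
  refine ⟨s', t + a • s', row_u hU hrow' a, ⟨x + a • y', ?_, ?_⟩, ?_, ⟨y', hy', hs'y'⟩, ?_, fun _ => hs'0⟩
  · exact Submodule.add_mem _ (Fl_mono pb (by omega) hx) (Submodule.smul_mem _ _ hy')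
  · rw [mul_add, mul_smul_comm, ← htx, ← hs'y']; ring
  · have e : lam * (t + a • s') = lam * t + a • (lam * s') := by
      rw [mul_add, mul_smul_comm]
    rw [e]
    exact ha
  · exact hc

theorem inv_all {L : Subgroup SL2} (hg : pb.gen ≠ 0) (hU : ∀ c : k, uu (algebraMap k E c) ∈ L)
    (hLo : ∀ c : k, ll (algebraMap k E c * pb.gen) ∈ L) {lam : E} (hlam : Good pb lam) :
    ∀ i N : ℕ, i + N = pb.dim → Inv pb L lam i N := by
  intro i
  induction i with
  | zero =>
    intro N hN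
    rw [zero_add] at hN
    rw [hN]
    exact inv_zero pb lam
  | succ i ih =>
    intro N hN
    exact inv_step pb hg hU hLo hlam hN (ih (N + 1) (by omega))

/-- **The chain theorem**: for good `lam`, some element of `L` has second row `(c / lam, 0)`. -/
theorem exists_row {L : Subgroup SL2} (hg : pb.gen ≠ 0) (hU : ∀ c : k, uu (algebraMap k E c) ∈ L)
    (hLo : ∀ c : k, ll (algebraMap k E c * pb.gen) ∈ L) {lam : E} (hlam : Good pb lam) :
    ∃ c : k, c ≠ 0 ∧ Row L (algebraMap k E c / lam) (0 : E) := by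
  obtain ⟨s, t, hrow, -, hlt, -, hls, hs0⟩ := inv_all pb hg hU hLo hlam pb.dim 0 (by omega)
  have ht : t = 0 := (mul_eq_zero.1 (mem_Fl_zero pb hlt)).resolve_left hlam.1
  rw [zero_add] at hls
  obtain ⟨c, hc⟩ := mem_Fl_one pb hls
  have hs : s ≠ 0 := hs0 (Nat.succ_le_of_lt pb.dim_pos)
  refine ⟨c, ?_, ?_⟩
  · intro h0
    rw [h0, map_zero] at hc
    exact hs ((mul_eq_zero.1 hc).resolve_left hlam.1)
  · rw [← hc, mul_div_cancel_left₀ s hlam.1, ← ht]
    exact hrow

end Cfsg.Agent.Lib.H18.SL2Alg
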