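import Mathlib
import Cfsg.Agent.Lib.H18.SL2Alg2

/-!
# Existence of good elements and openness along lines (helper18, for S5060)
-/

set_option autoImplicit false

namespace Cfsg.Agent.Lib.H18.SL2Alg

open Matrix Polynomial

variable {k E : Type*} [Field k] [Field E] [Algebra k E] (pb : PowerBasis k E)

/-- The family `lam, lam g, …, lam g^(i-1), 1, g, …`. -/
noncomputable def fam (i : ℕ) (lam : E) : Fin pb.dim → E :=
  fun j => if (j : ℕ) < i then lam * pb.gen ^ (j : ℕ) else pb.gen ^ ((j : ℕ) - i)

/-- The linear part of `fam`. -/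
noncomputable def fam0 (i : ℕ) (mu : E) : Fin pb.dim → E :=
  fun j => if (j : ℕ) < i then mu * pb.gen ^ (j : ℕ) else 0

theorem fam_add_smul (i : ℕ) (lam mu : E) (c : k) :
    fam pb i (lam + c • mu) = fam pb i lam + c • fam0 pb i mu := by
  funext j
  simp only [fam, fam0, Pi.add_apply, Pi.smul_apply]
  split_ifs
  · rw [add_mul, smul_mul_assoc]
  · rw [smul_zero, add_zero]

/-- The determinant of the family. -/
noncomputable def DD (i : ℕ) (lam : E) : k := pb.basis.det (fam pb i lam)

theorem nd_of_DD {i M : ℕ} (hiM : i + M = pb.dim) {lam : E} (hlam : lam ≠ 0)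
    (h : DD pb i lam ≠ 0) : ∀ t ∈ Fl pb i, lam * t ∈ Fl pb M → t = 0 := by
  intro t ht hlt
  have hli : LinearIndependent k (fam pb i lam) :=
    ((pb.basis.is_basis_iff_det).2 (isUnit_iff_ne_zero.2 h)).1
  have hdisj := hli.disjoint_span_image (s := {j : Fin pb.dim | (j : ℕ) < i})
    (t := {j : Fin pb.dim | i ≤ (j : ℕ)}) (by
      rw [Set.disjoint_left]
      intro j hj hj'
      simp only [Set.mem_setOf_eq] at hj hj'
      omega)
  have h1 : lam * t ∈ Submodule.span k (fam pb i lam '' {j : Fin pb.dim | (j : ℕ) < i}) := by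
    have hle : Fl pb i ≤ (Submodule.span k (fam pb i lam '' {j : Fin pb.dim | (j : ℕ) < i})).comap
        (LinearMap.mulLeft k lam) := by
      apply Submodule.span_le.2
      rintro y ⟨l, hl, rfl⟩
      show lam * pb.gen ^ l ∈ Submodule.span k (fam pb i lam '' {j : Fin pb.dim | (j : ℕ) < i})
      apply Submodule.subset_span
      have hl' : l < i := hl
      refine ⟨⟨l, by omega⟩, hl', ?_⟩
      simp only [fam]
      rw [if_pos hl']
    exact hle ht
  have h2 : lam * t ∈ Submodule.span k (fam pb i lam '' {j : Fin pb.dim | i ≤ (j : ℕ)}) := by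
    have hle : Fl pb M ≤ Submodule.span k (fam pb i lam '' {j : Fin pb.dim | i ≤ (j : ℕ)}) := by
      apply Submodule.span_le.2
      rintro y ⟨l, hl, rfl⟩
      apply Submodule.subset_span
      have hl' : l < M := hl
      refine ⟨⟨i + l, by omega⟩, by simp, ?_⟩
      simp only [fam]
      rw [if_neg (by omega)]
      congr 1
      omega
    exact hle hlt
  have h3 := (Submodule.disjoint_def.1 hdisj) _ h1 h2
  exact (mul_eq_zero.1 h3).resolve_left hlam

theorem det_line_finite {n : ℕ} (P Q : Matrix (Fin n) (Fin n) k) (h : P.det ≠ 0) :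
    {c : k | (P + c • Q).det = 0}.Finite := by
  obtain ⟨N, hN⟩ : ∃ N : Matrix (Fin n) (Fin n) k[X], N = P.map C + (X : k[X]) • Q.map C := ⟨_, rfl⟩
  have key : ∀ c : k, (N.det).eval c = (P + c • Q).det := by
    intro c
    have h1 : (N.det).eval c = Polynomial.evalRingHom c N.det := rfl
    rw [h1, RingHom.map_det]
    congr 1
    ext a b
    simp [hN]
    ring
  have hp : N.det ≠ 0 := by
    intro h0
    have := key 0
    rw [h0, eval_zero, zero_smul, add_zero] at this
    exact h this.symm
  apply (Polynomial.finite_setOfPred_isRoot hp).subset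
  intro c hc
  show (N.det).IsRoot c
  rw [Polynomial.IsRoot, key c]
  exact hc

theorem DD_line_finite {i : ℕ} {lam : E} (h : DD pb i lam ≠ 0) (mu : E) :
    {c : k | DD pb i (lam + c • mu) = 0}.Finite := by
  have := det_line_finite (pb.basis.toMatrix (fam pb i lam)) (pb.basis.toMatrix (fam0 pb i mu)) h
  apply this.subset
  intro c hc
  have hc' : DD pb i (lam + c • mu) = 0 := hc
  show (pb.basis.toMatrix (fam pb i lam) + c • pb.basis.toMatrix (fam0 pb i mu)).det = 0
  rw [← hc', DD, Module.Basis.det_apply, fam_add_smul]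
  congr 1
  ext a b
  simp [Module.Basis.toMatrix_apply]

theorem DD_witness {i M : ℕ} (hiM : i + M = pb.dim) : DD pb i (pb.gen ^ M) ≠ 0 := by
  obtain ⟨σ, hσ⟩ : ∃ σ : Fin pb.dim → Fin pb.dim, ∀ j : Fin pb.dim,
      ((σ j : Fin pb.dim) : ℕ) = if (j : ℕ) < i then M + (j : ℕ) else (j : ℕ) - i := by
    refine ⟨fun j => ⟨if (j : ℕ) < i then M + (j : ℕ) else (j : ℕ) - i, ?_⟩, fun j => rfl⟩
    have := j.2
    split_ifs <;> omega
  have hinj : Function.Injective σ := by
    intro a b hab
    have h1 := hσ a
    have h2 := hσ b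
    rw [hab] at h1
    rw [h1] at h2
    apply Fin.ext
    have ha := a.2
    have hb := b.2
    split_ifs at h2 <;> omega
  have hfam : fam pb i (pb.gen ^ M) = pb.basis ∘ σ := by
    funext j
    simp only [fam, Function.comp_apply, pb.basis_eq_pow, hσ j]
    split_ifs
    · rw [← pow_add]
    · rfl
  have hli : LinearIndependent k (fam pb i (pb.gen ^ M)) := by
    rw [hfam]
    exact pb.basis.linearIndependent.comp σ hinj
  have : FiniteDimensional k E := pb.finite
  have hspan : Submodule.span k (Set.range (fam pb i (pb.gen ^ M))) = ⊤ := by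
    apply hli.span_eq_top_of_card_eq_finrank'
    rw [Fintype.card_fin, pb.finrank]
  exact ((pb.basis.is_basis_iff_det).1 ⟨hli, hspan⟩).ne_zero

end Cfsg.Agent.Lib.H18.SL2Alg
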