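import Mathlib
import Cfsg.Agent.Lib.H4.Dickson.SL2Gen
import Cfsg.Agent.Lib.H18.SL2Alg3

/-!
# The infinite case of S5060 (helper18)
-/

set_option autoImplicit false

namespace Cfsg.Agent.Lib.H18.SL2Alg

open Matrix Cfsg.Agent.Lib.H4.Dickson

variable {k E : Type*} [Field k] [Field E] [Algebra k E] (pb : PowerBasis k E)

local notation "SL2" => Matrix.SpecialLinearGroup (Fin 2) E
local notation "M2" => Matrix (Fin 2) (Fin 2) E

/-- A set is open along lines: a line through a point of the set leaves it at finitely many parameters. -/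
def LineOpen (k : Type*) {E : Type*} [Field k] [Field E] [Algebra k E] (Z : Set E) : Prop :=
  ∀ lam ∈ Z, ∀ mu : E, {c : k | lam + c • mu ∉ Z}.Finite

theorem lineOpen_ne_zero : LineOpen k {lam : E | lam ≠ 0} := by
  intro lam hlam mu
  apply Set.Subsingleton.finite
  intro c hc d hd
  simp only [Set.mem_setOf_eq, not_not] at hc hd
  by_contra hne
  have h1 : (c - d) • mu = 0 := by
    rw [sub_smul]
    have e : c • mu - d • mu = (lam + c • mu) - (lam + d • mu) := by abel
    rw [e, hc, hd, sub_zero]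
  rcases smul_eq_zero.1 h1 with h | h
  · exact hne (sub_eq_zero.1 h)
  · rw [h, smul_zero, add_zero] at hc
    exact hlam hc

theorem lineOpen_DD (i : ℕ) : LineOpen k {lam : E | DD pb i lam ≠ 0} := by
  intro lam hlam mu
  apply (DD_line_finite pb hlam mu).subset
  intro c hc
  simpa using hc

theorem lineOpen_DD' (i : ℕ) : LineOpen k {lam : E | DD pb i (pb.gen * lam) ≠ 0} := by
  intro lam hlam mu
  apply (DD_line_finite pb hlam (pb.gen * mu)).subset
  intro c hc
  simp only [Set.mem_setOf_eq, not_not] at hc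
  show DD pb i (pb.gen * lam + c • (pb.gen * mu)) = 0
  rw [← hc, mul_add, mul_smul_comm]

theorem LineOpen.inter {Z Z' : Set E} (h : LineOpen k Z) (h' : LineOpen k Z') :
    LineOpen k (Z ∩ Z') := by
  intro lam hlam mu
  apply ((h lam hlam.1 mu).union (h' lam hlam.2 mu)).subset
  intro c hc
  simp only [Set.mem_setOf_eq, Set.mem_inter_iff, not_and_or] at hc
  exact hc

theorem lineOpen_univ : LineOpen k (Set.univ : Set E) := by
  intro lam _ mu
  simp

theorem LineOpen.inter_nonempty [Infinite k] {Z Z' : Set E} (h : LineOpen k Z) (h' : LineOpen k Z')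
    (hn : Z.Nonempty) (hn' : Z'.Nonempty) : (Z ∩ Z').Nonempty := by
  obtain ⟨lam, hlam⟩ := hn
  obtain ⟨w, hw⟩ := hn'
  have f1 := h lam hlam (w - lam)
  have f2 := h' w hw (lam - w)
  have f2' : {c : k | lam + c • (w - lam) ∉ Z'}.Finite := by
    have : {c : k | lam + c • (w - lam) ∉ Z'} ⊆ (fun c' : k => 1 - c') '' {c' : k | w + c' • (lam - w) ∉ Z'} := by
      intro c hc
      refine ⟨1 - c, ?_, by ring⟩
      simp only [Set.mem_setOf_eq] at hc ⊢
      have e : w + (1 - c) • (lam - w) = lam + c • (w - lam) := by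
        rw [sub_smul, one_smul, smul_sub, smul_sub]; abel
      rw [e]; exact hc
    exact (f2.image _).subset this
  obtain ⟨c, hc⟩ := (f1.union f2').infinite_compl.nonempty
  simp only [Set.mem_compl_iff, Set.mem_union, Set.mem_setOf_eq, not_or, not_not] at hc
  exact ⟨_, hc.1, hc.2⟩

/-- The determinantal goodness conditions up to index `m`. -/
def Zset (m : ℕ) : Set E :=
  {lam | lam ≠ 0 ∧ ∀ i, i < m → 1 ≤ i → DD pb i lam ≠ 0 ∧ DD pb i (pb.gen * lam) ≠ 0}

theorem Zset_succ (m : ℕ) : Zset pb (m + 1) = Zset pb m ∩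
    ({lam : E | 1 ≤ m → DD pb m lam ≠ 0} ∩ {lam : E | 1 ≤ m → DD pb m (pb.gen * lam) ≠ 0}) := by
  ext lam
  simp only [Zset, Set.mem_setOf_eq, Set.mem_inter_iff]
  constructor
  · rintro ⟨h0, h⟩
    exact ⟨⟨h0, fun i hi => h i (by omega)⟩, fun hm => (h m (by omega) hm).1,
      fun hm => (h m (by omega) hm).2⟩
  · rintro ⟨⟨h0, h⟩, h1, h2⟩
    refine ⟨h0, fun i hi hi1 => ?_⟩
    rcases Nat.lt_succ_iff_lt_or_eq.1 hi with hlt | rfl
    · exact h i hlt hi1
    · exact ⟨h1 hi1, h2 hi1⟩

theorem lineOpen_imp {Z : Set E} (p : Prop) (h : LineOpen k Z) : LineOpen k {lam : E | p → lam ∈ Z} := by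
  by_cases hp : p
  · have : {lam : E | p → lam ∈ Z} = Z := by ext; simp [hp]
    rw [this]; exact h
  · have : {lam : E | p → lam ∈ Z} = Set.univ := by ext; simp [hp]
    rw [this]; exact lineOpen_univ

theorem Zset_lineOpen (m : ℕ) : LineOpen k (Zset pb m) := by
  induction m with
  | zero =>
    have : Zset pb 0 = {lam : E | lam ≠ 0} := by
      ext lam
      simp [Zset]
    rw [this]
    exact lineOpen_ne_zero
  | succ m ih =>
    rw [Zset_succ]
    exact ih.inter ((lineOpen_imp (1 ≤ m) (lineOpen_DD pb m)).inter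
      (lineOpen_imp (1 ≤ m) (lineOpen_DD' pb m)))

theorem Zset_nonempty [Infinite k] (hg : pb.gen ≠ 0) (m : ℕ) (hm : m ≤ pb.dim) :
    (Zset pb m).Nonempty := by
  induction m with
  | zero => exact ⟨1, one_ne_zero, fun i hi => absurd hi (Nat.not_lt_zero i)⟩
  | succ m ih =>
    rw [Zset_succ]
    have hm' : m < pb.dim := hm
    apply (Zset_lineOpen pb m).inter_nonempty
      ((lineOpen_imp (1 ≤ m) (lineOpen_DD pb m)).inter (lineOpen_imp (1 ≤ m) (lineOpen_DD' pb m)))
      (ih (le_of_lt hm'))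
    apply (lineOpen_imp (1 ≤ m) (lineOpen_DD pb m)).inter_nonempty
      (lineOpen_imp (1 ≤ m) (lineOpen_DD' pb m))
    · exact ⟨pb.gen ^ (pb.dim - m), fun _ => DD_witness pb (by omega)⟩
    · refine ⟨pb.gen ^ (pb.dim - m - 1), fun _ => ?_⟩
      show DD pb m (pb.gen * pb.gen ^ (pb.dim - m - 1)) ≠ 0
      rw [← pow_succ']
      exact DD_witness pb (by omega)

theorem good_of_mem_Zset (hg : pb.gen ≠ 0) {lam : E} (h : lam ∈ Zset pb pb.dim) : Good pb lam := by
  refine ⟨h.1, fun i M hi hM hiM => ?_⟩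
  obtain ⟨h1, h2⟩ := h.2 i (by omega) hi
  refine ⟨nd_of_DD pb hiM h.1 h1, fun s hs hls => ?_⟩
  exact nd_of_DD pb hiM (mul_ne_zero hg h.1) h2 s hs hls

/-- Conjugating `ll b` by a matrix with vanishing `(1,1)` entry. -/
theorem conj_ll_of_row {W : SL2} (hW : (W : M2) 1 1 = 0) (b : E) :
    W * ll b * W⁻¹ = uu (-b * (W : M2) 0 1 ^ 2) := by
  have hd := det_eq W
  rw [hW, mul_zero, zero_sub] at hd
  apply sl2_ext <;>
    simp only [mul_apply_00, mul_apply_01, mul_apply_10, mul_apply_11, inv_apply_00, inv_apply_01,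
      inv_apply_10, inv_apply_11, uu_00, uu_01, uu_10, uu_11, ll_00, ll_01, ll_10, ll_11, hW]
  · linear_combination hd
  · ring
  · ring
  · linear_combination hd

theorem conj_uu_of_row {W : SL2} (hW : (W : M2) 1 1 = 0) (a : E) :
    W⁻¹ * uu a * W = ll (-a * (W : M2) 1 0 ^ 2) := by
  have hd := det_eq W
  rw [hW, mul_zero, zero_sub] at hd
  apply sl2_ext <;>
    simp only [mul_apply_00, mul_apply_01, mul_apply_10, mul_apply_11, inv_apply_00, inv_apply_01,
      inv_apply_10, inv_apply_11, uu_00, uu_01, uu_10, uu_11, ll_00, ll_01, ll_10, ll_11, hW]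
  · linear_combination hd
  · ring
  · ring
  · linear_combination hd

theorem entry01_of_row {W : SL2} (hW : (W : M2) 1 1 = 0) : (W : M2) 0 1 * (W : M2) 1 0 = -1 := by
  have hd := det_eq W
  rw [hW, mul_zero, zero_sub] at hd
  linear_combination -hd

/-- For good `lam`, `uu (d g lam²) ∈ L` for all `d ∈ k`. -/
theorem uu_mem_of_good {L : Subgroup SL2} (hg : pb.gen ≠ 0)
    (hU : ∀ c : k, uu (algebraMap k E c) ∈ L)
    (hLo : ∀ c : k, ll (algebraMap k E c * pb.gen) ∈ L) {lam : E} (hlam : Good pb lam) (d : k) :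
    uu (algebraMap k E d * pb.gen * lam ^ 2) ∈ L := by
  obtain ⟨c, hc0, W, hW, h10, h11⟩ := exists_row pb hg hU hLo hlam
  have h1 := L.mul_mem (L.mul_mem hW (hLo (-(c ^ 2 * d)))) (L.inv_mem hW)
  rw [conj_ll_of_row h11] at h1
  have hc0' : algebraMap k E c ≠ 0 := by
    rw [Ne, map_eq_zero]; exact hc0
  have hl0 := hlam.1
  have h01 : (W : M2) 0 1 = -(lam / algebraMap k E c) := by
    have := entry01_of_row h11
    rw [h10] at this
    calc (W : M2) 0 1 = (W : M2) 0 1 * (algebraMap k E c / lam) * (lam / algebraMap k E c) := by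
          field_simp
      _ = -(lam / algebraMap k E c) := by rw [this]; ring
  convert h1 using 2
  rw [h01, map_neg, map_mul, map_pow]
  field_simp

/-- For good `lam`, the lower unitriangular group of `L` contains `lam⁻² A`. -/
theorem ll_mem_of_good {L : Subgroup SL2} (hg : pb.gen ≠ 0)
    (hU : ∀ c : k, uu (algebraMap k E c) ∈ L)
    (hLo : ∀ c : k, ll (algebraMap k E c * pb.gen) ∈ L) {lam : E} (hlam : Good pb lam)
    (hall : ∀ a : E, uu a ∈ L) (x : E) : ll x ∈ L := by
  obtain ⟨c, hc0, W, hW, h10, h11⟩ := exists_row pb hg hU hLo hlam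
  have hc0' : algebraMap k E c ≠ 0 := by
    rw [Ne, map_eq_zero]; exact hc0
  have h1 := L.mul_mem (L.mul_mem (L.inv_mem hW) (hall (-x * (lam / algebraMap k E c) ^ 2))) hW
  rw [conj_uu_of_row h11, h10] at h1
  convert h1 using 2
  have := hlam.1
  field_simp

/-- **The infinite case.** -/
theorem eq_top_of_infinite [Infinite k] (h2 : (2 : k) ≠ 0) {L : Subgroup SL2} (hg : pb.gen ≠ 0)
    (hU : ∀ c : k, uu (algebraMap k E c) ∈ L)
    (hLo : ∀ c : k, ll (algebraMap k E c * pb.gen) ∈ L) : L = ⊤ := by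
  obtain ⟨lam, hlamZ⟩ := Zset_nonempty pb hg pb.dim le_rfl
  have hlam := good_of_mem_Zset pb hg hlamZ
  have h2E : (2 : E) ≠ 0 := by
    have : (2 : E) = algebraMap k E 2 := (map_ofNat (algebraMap k E) 2).symm
    rw [this, Ne, map_eq_zero]; exact h2
  -- all `d g mu²`
  have key2 : ∀ (mu : E) (d : k), uu (algebraMap k E d * pb.gen * mu ^ 2) ∈ L := by
    intro mu d
    have fbad := Zset_lineOpen (k := k) pb pb.dim lam hlamZ mu
    obtain ⟨c1, hc1⟩ := (fbad.union (Set.finite_singleton (0 : k))).infinite_compl.nonempty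
    obtain ⟨c2, hc2⟩ := ((fbad.union (Set.finite_singleton (0 : k))).union
      (Set.finite_singleton c1)).infinite_compl.nonempty
    simp only [Set.mem_compl_iff, Set.mem_union, Set.mem_setOf_eq, Set.mem_singleton_iff, not_or,
      not_not] at hc1 hc2
    obtain ⟨hc1g, hc10⟩ := hc1
    obtain ⟨⟨hc2g, hc20⟩, hc21⟩ := hc2
    have g1 := good_of_mem_Zset pb hg hc1g
    have g2 := good_of_mem_Zset pb hg hc2g
    have hne : c1 - c2 ≠ 0 := fun h => hc21 (sub_eq_zero.1 h).symm
    obtain ⟨κ, hκ⟩ : ∃ κ : k, κ = d / (c1 * c2 * (c1 - c2)) := ⟨_, rfl⟩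
    have m1 := uu_mem_of_good pb hg hU hLo g1 (κ * c2)
    have m2 := uu_mem_of_good pb hg hU hLo g2 (-(κ * c1))
    have m0 := uu_mem_of_good pb hg hU hLo hlam (κ * (c1 - c2))
    have hsum := L.mul_mem (L.mul_mem m1 m2) m0
    rw [← uu_add, ← uu_add] at hsum
    convert hsum using 2
    rw [hκ]
    simp only [Algebra.smul_def, map_mul, map_neg, map_sub, map_div₀]
    have e1 : algebraMap k E c1 ≠ 0 := by rw [Ne, map_eq_zero]; exact hc10
    have e2 : algebraMap k E c2 ≠ 0 := by rw [Ne, map_eq_zero]; exact hc20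
    have e3 : algebraMap k E c1 - algebraMap k E c2 ≠ 0 := by
      rw [← map_sub, Ne, map_eq_zero]; exact hne
    field_simp
    ring
  have hall : ∀ x : E, uu x ∈ L := by
    intro x
    have m1 := key2 ((x / pb.gen + 1) / 2) 1
    have m2 := key2 ((x / pb.gen - 1) / 2) (-1)
    have hsum := L.mul_mem m1 m2
    rw [← uu_add] at hsum
    convert hsum using 2
    rw [map_neg, map_one]
    field_simp
    ring
  exact eq_top_of_all hall (fun x => ll_mem_of_good pb hg hU hLo hlam hall x)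

end Cfsg.Agent.Lib.H18.SL2Alg
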