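import Cfsg.Agent.Lib.H18.QP5
import Cfsg.Agent.Lib.H18.QP6
import Cfsg.Agent.S5060

/-!
# The non-unipotent case: `im n ∩ ker m = 0` (helper18, for S5064)
-/

set_option autoImplicit false

namespace Cfsg.Agent.Lib.H18.QP

open Polynomial
open scoped commutatorElement

noncomputable section

variable {k M : Type*} [Field k] [AddCommGroup M] [Module k M]

local notation "SLX" => Matrix.SpecialLinearGroup (Fin 2) (Polynomial k)
local notation "MX" => Matrix (Fin 2) (Fin 2) (Polynomial k)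

/-- the annihilator of `im n` in `k[z]` -/
def annN (p : SqPair k M) : Ideal k[X] where
  carrier := {f | p.ev f * p.n = 0}
  add_mem' := by
    intro a b ha hb
    show p.ev (a + b) * p.n = 0
    rw [p.ev_add, add_mul, (ha : p.ev a * p.n = 0), (hb : p.ev b * p.n = 0), add_zero]
  zero_mem' := by
    show p.ev 0 * p.n = 0
    rw [p.ev_zero, zero_mul]
  smul_mem' := by
    intro c f hf
    show p.ev (c • f) * p.n = 0
    rw [smul_eq_mul, p.ev_mul, mul_assoc, (hf : p.ev f * p.n = 0), mul_zero]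

theorem mem_annN (p : SqPair k M) (f : k[X]) : f ∈ annN p ↔ p.ev f * p.n = 0 := Iff.rfl

theorem SqPair.P_pow (p : SqPair k M) (e : ℕ) : (p.n * p.m) ^ (e + 1) = p.z ^ e * (p.n * p.m) := by
  induction e with
  | zero => simp
  | succ e ih =>
    rw [pow_succ, ih, mul_assoc, show p.n * p.m * (p.n * p.m) = p.z * (p.n * p.m) from p.P_P,
      ← mul_assoc, ← pow_succ]

theorem exists_pp_v [FiniteDimensional k M] (p : SqPair k M) (hnil : ¬ IsNilpotent (p.n * p.m)) :
    ∃ pp : k[X], Irreducible pp ∧ ¬ pp ∣ X ∧ ∃ v ∈ LinearMap.range p.n, v ≠ 0 ∧ p.ev pp v = 0 := by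
  have hXe : ∀ e : ℕ, (X : k[X]) ^ e ∉ annN p := by
    intro e he
    apply hnil
    refine ⟨e + 1, ?_⟩
    have he' : p.z ^ e * p.n = 0 := by
      have : p.ev (X ^ e) * p.n = 0 := he
      rwa [p.ev_pow, p.ev_X] at this
    rw [p.P_pow, ← mul_assoc, he', zero_mul]
  obtain ⟨F, hF⟩ : ∃ F, F = Submodule.IsPrincipal.generator (annN p) := ⟨_, rfl⟩
  have hmem : ∀ f, f ∈ annN p ↔ F ∣ f := by
    intro f; rw [hF]; exact Submodule.IsPrincipal.mem_iff_generator_dvd (annN p)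
  have hF0 : F ≠ 0 := by
    intro h0
    have h1 : minpoly k p.z ∈ annN p := by
      show p.ev (minpoly k p.z) * p.n = 0
      rw [SqPair.ev, minpoly.aeval, zero_mul]
    rw [hmem, h0, zero_dvd_iff] at h1
    exact minpoly.ne_zero (Algebra.IsIntegral.isIntegral p.z) h1
  obtain ⟨F', hFF', hXF'⟩ := exists_eq_pow_rootMultiplicity_mul_and_not_dvd F hF0 0
  rw [C_0, sub_zero] at hFF' hXF'
  obtain ⟨t, ht⟩ : ∃ t, t = rootMultiplicity 0 F := ⟨_, rfl⟩
  rw [← ht] at hFF'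
  have hF'0 : F' ≠ 0 := by
    rintro rfl
    rw [mul_zero] at hFF'
    exact hF0 hFF'
  have hF'u : ¬ IsUnit F' := by
    intro hu
    apply hXe t
    rw [hmem]
    obtain ⟨u, hu⟩ := hu
    exact ⟨↑u⁻¹, by rw [hFF', ← hu, mul_assoc, Units.mul_inv, mul_one]⟩
  obtain ⟨pp, hirr, hppF'⟩ := WfDvdMonoid.exists_irreducible_factor hF'u hF'0
  have hppX : ¬ pp ∣ X := by
    intro h
    exact hXF' ((hirr.dvd_symm irreducible_X h).trans hppF')
  refine ⟨pp, hirr, hppX, ?_⟩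
  obtain ⟨F₁, hF₁⟩ : pp ∣ F := hppF'.trans ⟨X ^ t, by rw [hFF', mul_comm]⟩
  have hF₁0 : F₁ ≠ 0 := by
    rintro rfl
    rw [mul_zero] at hF₁
    exact hF0 hF₁
  have hF₁n : F₁ ∉ annN p := by
    rw [hmem]
    rintro ⟨r, hr⟩
    apply hirr.not_isUnit
    have h1 : F₁ * 1 = F₁ * (pp * r) := by
      rw [mul_one]
      conv_lhs => rw [hr, hF₁]
      ring
    have h2 := mul_left_cancel₀ hF₁0 h1
    exact IsUnit.of_mul_eq_one r h2.symm
  have hex : ∃ w, p.ev F₁ (p.n w) ≠ 0 := by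
    by_contra hcon
    push_neg at hcon
    apply hF₁n
    show p.ev F₁ * p.n = 0
    exact LinearMap.ext fun w => hcon w
  obtain ⟨w, hw⟩ := hex
  refine ⟨p.ev F₁ (p.n w), ⟨p.ev F₁ w, (p.ev_n_apply F₁ w).symm⟩, hw, ?_⟩
  rw [← p.ev_mul_apply, ← hF₁]
  have h3 : F ∈ annN p := by rw [hmem]
  exact LinearMap.congr_fun h3 w

theorem fitting [FiniteDimensional k M] (p : SqPair k M) :
    ∃ j : ℕ, 1 ≤ j ∧ ∀ w ∈ LinearMap.range (p.z ^ j), p.z w = 0 → w = 0 := by
  obtain ⟨a, ha⟩ := (LinearMap.eventually_isCompl_ker_pow_range_pow p.z).exists_forall_of_atTop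
  refine ⟨a + 1, by omega, ?_⟩
  intro w hw hzw
  have hc := ha (a + 1) (by omega)
  have hk : w ∈ LinearMap.ker (p.z ^ (a + 1)) := by
    rw [LinearMap.mem_ker, pow_succ, Module.End.mul_apply, hzw, map_zero]
  have h1 : w ∈ LinearMap.ker (p.z ^ (a + 1)) ⊓ LinearMap.range (p.z ^ (a + 1)) :=
    Submodule.mem_inf.mpr ⟨hk, hw⟩
  rw [hc.disjoint.eq_bot] at h1
  exact (Submodule.mem_bot k).mp h1

/-- the stabilizer of a line -/
def lineStab (v : M) : Subalgebra k (Module.End k M) where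
  carrier := {x | ∃ c : k, x v = c • v}
  mul_mem' := by
    rintro x y ⟨a, ha⟩ ⟨b, hb⟩
    exact ⟨b * a, by rw [Module.End.mul_apply, hb, map_smul, ha, smul_smul]⟩
  add_mem' := by
    rintro x y ⟨a, ha⟩ ⟨b, hb⟩
    exact ⟨a + b, by rw [LinearMap.add_apply, ha, hb, add_smul]⟩
  algebraMap_mem' := by
    intro c
    exact ⟨c, by rw [Module.algebraMap_end_apply]⟩

/-- the dimension of the algebra generated by the pair -/
def mu (p : SqPair k M) : ℕ :=
  Module.finrank k (Algebra.adjoin k ({p.n, p.m} : Set (Module.End k M)))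

theorem SqPair.n_mem_adjoin (p : SqPair k M) :
    p.n ∈ Algebra.adjoin k ({p.n, p.m} : Set (Module.End k M)) :=
  Algebra.subset_adjoin (Set.mem_insert _ _)

theorem SqPair.m_mem_adjoin (p : SqPair k M) :
    p.m ∈ Algebra.adjoin k ({p.n, p.m} : Set (Module.End k M)) :=
  Algebra.subset_adjoin (Set.mem_insert_of_mem _ rfl)

theorem SqPair.ev_mem_adjoin (p : SqPair k M) (f : k[X]) :
    p.ev f ∈ Algebra.adjoin k ({p.n, p.m} : Set (Module.End k M)) := by
  have hz : p.z ∈ Algebra.adjoin k ({p.n, p.m} : Set (Module.End k M)) :=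
    add_mem (mul_mem p.n_mem_adjoin p.m_mem_adjoin) (mul_mem p.m_mem_adjoin p.n_mem_adjoin)
  induction f using Polynomial.induction_on' with
  | add f g hf hg => rw [p.ev_add]; exact add_mem hf hg
  | monomial n a =>
    rw [SqPair.ev, aeval_monomial]
    exact mul_mem (Subalgebra.algebraMap_mem _ a) (pow_mem hz n)

theorem SqPair.Th_mem_adjoin (p : SqPair k M) (x : Lam k) :
    p.Th x ∈ Algebra.adjoin k ({p.n, p.m} : Set (Module.End k M)) := by
  unfold SqPair.Th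
  exact add_mem (add_mem (add_mem (p.ev_mem_adjoin _)
    (mul_mem (p.ev_mem_adjoin _) (mul_mem p.n_mem_adjoin p.m_mem_adjoin)))
    (mul_mem (p.ev_mem_adjoin _) p.n_mem_adjoin)) (mul_mem (p.ev_mem_adjoin _) p.m_mem_adjoin)

theorem mu_cpair_lt [FiniteDimensional k M] (p : SqPair k M) (g : ↥(GG k)) {v : M} (hnv : p.n v = 0)
    (hmhv : mh p g v = 0) (hmv : ∀ c : k, p.m v ≠ c • v) : mu (cpair p g) < mu p := by
  unfold mu
  rw [← Subalgebra.finrank_toSubmodule, ← Subalgebra.finrank_toSubmodule]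
  apply Submodule.finrank_lt_finrank_of_lt
  rw [Subalgebra.toSubmodule.lt_iff_lt, SetLike.lt_iff_le_and_exists]
  refine ⟨?_, p.m, p.m_mem_adjoin, ?_⟩
  · apply Algebra.adjoin_le
    rintro x (rfl | rfl)
    · exact p.n_mem_adjoin
    · rw [cpair_m, mh_eq]; exact p.Th_mem_adjoin _
  · intro hm
    have hle : Algebra.adjoin k ({(cpair p g).n, (cpair p g).m} : Set (Module.End k M)) ≤ lineStab v := by
      apply Algebra.adjoin_le
      rintro x (rfl | rfl)
      · exact ⟨0, by rw [cpair_n, hnv, zero_smul]⟩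
      · exact ⟨0, by rw [cpair_m, hmhv, zero_smul]⟩
    obtain ⟨c, hc⟩ := hle hm
    exact hmv c hc

theorem red_surj (hk2 : ringChar k ≠ 2) (hk3 : Nat.card k ≠ 3) {pp : k[X]} [Fact (Irreducible pp)]
    (hppX : ¬ pp ∣ X) :
    (Gam k).map (Matrix.SpecialLinearGroup.map (AdjoinRoot.mk pp)) = ⊤ := by
  have hpp0 : pp ≠ 0 := (Fact.out : Irreducible pp).ne_zero
  apply Cfsg.Agent.S5060.core hk2 hk3 (AdjoinRoot.powerBasis hpp0)
  · rw [AdjoinRoot.powerBasis_gen]
    intro h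
    apply hppX
    rw [← AdjoinRoot.mk_X] at h
    exact AdjoinRoot.mk_eq_zero.mp h
  · intro c
    refine ⟨uR (C c), uR_mem_Gam c, ?_⟩
    rw [map_uR, AdjoinRoot.mk_C, AdjoinRoot.algebraMap_eq]
    rfl
  · intro c
    refine ⟨lR (C c * X), lR_mem_Gam c, ?_⟩
    rw [map_lR, map_mul, AdjoinRoot.mk_C, AdjoinRoot.mk_X, AdjoinRoot.powerBasis_gen,
      AdjoinRoot.algebraMap_eq]
    rfl

variable {G : Subgroup (Module.End k M)ˣ} {d : ℕ}

theorem claimB [FiniteDimensional k M] (hk2 : ringChar k ≠ 2) (hk3 : Nat.card k ≠ 3) (hMin : MinP G d)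
    {p : SqPair k M} (hq : QPair G d p)
    (IH : ∀ p' : SqPair k M, QPair G d p' → mu p' < mu p → PP p') : PP p := by
  have h2 : (2 : k) ≠ 0 := Ring.two_ne_zero hk2
  intro hnil v₁ hv₁ hmv₁
  obtain ⟨pp, hirr, hppX, v, hv, hv0, hppv⟩ := exists_pp_v p hnil
  haveI : Fact (Irreducible pp) := ⟨hirr⟩
  obtain ⟨s, hs0, hs1⟩ := exists_s hk2 hk3
  obtain ⟨j, hj1, hjS⟩ := fitting p
  have hsurj := red_surj hk2 hk3 hppX
  have hperf : ⁅(⊤ : Subgroup (Matrix.SpecialLinearGroup (Fin 2) (AdjoinRoot pp))),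
      (⊤ : Subgroup (Matrix.SpecialLinearGroup (Fin 2) (AdjoinRoot pp)))⁆ = ⊤ := by
    apply perfect_SL2 (algebraMap k (AdjoinRoot pp) s)
    · intro h
      apply hs0
      exact (algebraMap k (AdjoinRoot pp)).injective (by rw [h, map_zero])
    · rw [← map_pow]
      intro h
      apply hs1
      exact (algebraMap k (AdjoinRoot pp)).injective (by rw [h, map_one])
  obtain ⟨g, hgΓ, hgc, hgy⟩ := exists_lift _ hsurj hperf (j + 1) (by omega)
    (hR (algebraMap k (AdjoinRoot pp) s) (algebraMap k (AdjoinRoot pp) s⁻¹)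
      (by rw [← map_mul, mul_inv_cancel₀ hs0, map_one]))
  obtain ⟨gG, hgG⟩ : ∃ gG : ↥(GG k), gG = ⟨g, Gam_le_GG hgΓ⟩ := ⟨_, rfl⟩
  have hval : ((gG : ↥(GG k)) : SLX) = g := by rw [hgG]
  have hgGG : thetaU p gG ∈ G := by
    have := hq.thetaG_mem ⟨g, hgΓ⟩
    rw [hgG]; exact this
  obtain ⟨hc00, -, hc10, -⟩ := mem_cong.mp hgc
  have h10 : (g : MX) 1 0 = X * gc gG := by rw [← hval]; exact g10_eq gG
  have h00 : (g : MX) 0 0 = ga gG := by rw [← hval]; rfl
  have hpp10 : pp ∣ X * gc gG := by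
    have h1 := congrArg (fun x : Matrix.SpecialLinearGroup (Fin 2) (AdjoinRoot pp) =>
      (x : Matrix (Fin 2) (Fin 2) (AdjoinRoot pp)) 1 0) hgy
    simp only [map_entry, hR_10] at h1
    rw [← h10]
    exact AdjoinRoot.mk_eq_zero.mp h1
  have hpp00 : pp ∣ ga gG - C s := by
    have h1 := congrArg (fun x : Matrix.SpecialLinearGroup (Fin 2) (AdjoinRoot pp) =>
      (x : Matrix (Fin 2) (Fin 2) (AdjoinRoot pp)) 0 0) hgy
    simp only [map_entry, hR_00] at h1
    rw [← h00]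
    apply AdjoinRoot.mk_eq_mk.mp
    rw [h1, AdjoinRoot.mk_C, AdjoinRoot.algebraMap_eq]
  have h0 : p.ev (X * gc gG) v = 0 := by
    obtain ⟨r, hr⟩ := hpp10
    rw [hr, mul_comm, p.ev_mul_apply, hppv, map_zero]
  have hXj : X ^ j ∣ gc gG := by
    rw [h10, pow_succ'] at hc10
    exact (mul_dvd_mul_iff_left X_ne_zero).mp hc10
  -- the subspace
  have hS2 : ∀ (f : k[X]), ∀ w ∈ LinearMap.range (p.z ^ j), p.ev f w ∈ LinearMap.range (p.z ^ j) := by
    rintro f _ ⟨u, rfl⟩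
    have cz : Commute (p.ev f) (p.z ^ j) := (show Commute (p.ev f) p.z from p.ev_z f).pow_right j
    exact ⟨p.ev f u, (LinearMap.congr_fun cz.eq u).symm⟩
  have hS3 : ∀ w, p.ev (gc gG) (p.n w) ∈ LinearMap.range (p.z ^ j) ∧
      p.ev (gc gG) (p.m w) ∈ LinearMap.range (p.z ^ j) := by
    obtain ⟨γ', hγ'⟩ := hXj
    have hx : ∀ x, p.ev (gc gG) x = (p.z ^ j) (p.ev γ' x) := by
      intro x
      rw [hγ', p.ev_mul_apply, p.ev_pow, p.ev_X]
    intro w
    exact ⟨⟨_, (hx _).symm⟩, ⟨_, (hx _).symm⟩⟩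
  -- the algebra gets smaller
  have hnv : p.n v = 0 := by
    obtain ⟨w0, hw0⟩ := hv
    rw [← hw0, p.n_n_apply]
  have hcop : IsCoprime pp X := hirr.coprime_iff_not_dvd.mpr hppX
  have hmvne : ∀ c : k, p.m v ≠ c • v := by
    intro c hc
    have h1 : p.m (p.m v) = 0 := p.m_m_apply v
    rw [hc, map_smul, hc] at h1
    have hc0 : c = 0 := by
      rcases smul_eq_zero.mp h1 with h | h
      · exact h
      · rcases smul_eq_zero.mp h with h | h
        · exact h
        · exact absurd h hv0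
    have hmv : p.m v = 0 := by rw [hc, hc0, zero_smul]
    have hzv : p.ev X v = 0 := by
      rw [p.ev_X_apply, p.z_apply, hmv, hnv, map_zero, map_zero, add_zero]
    exact hv0 (p.eq_zero_of_coprime hcop hppv hzv)
  have hmu : mu (cpair p gG) < mu p := mu_cpair_lt p gG hnv (mh_apply_eq_zero p gG hv h0) hmvne
  have hPP := IH _ (hq.cpair p gG hgGG) hmu
  have hcl := class2_of_PP hMin h2 hq gG hgGG hPP hv hv0 h0
  obtain ⟨-, hmh⟩ := rigidity hMin h2 hq gG hgGG hcl hv hv0 h0 _ hjS hS2 hS3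
  -- the new family
  obtain ⟨a, ha⟩ : ∃ a, a = ga gG := ⟨_, rfl⟩
  rw [← ha] at hmh hpp00
  have hν : Fam G (p.ev (a ^ 2 - 1) * p.n) := by
    have h1 : mh p gG * p.n = 0 := by rw [hmh, mul_assoc, p.hn, mul_zero]
    have h3 := Fam.mul_neg (hq.cpair p gG hgGG).fm hq.fn h1
    rw [cpair_m, hmh] at h3
    rwa [p.ev_sub, p.ev_one, sub_mul, one_mul]
  have hνne : p.ev (a ^ 2 - 1) * p.n ≠ 0 := by
    intro hzero
    obtain ⟨w₀, hw₀⟩ := hv
    have h1 := LinearMap.congr_fun hzero w₀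
    rw [Module.End.mul_apply, hw₀, LinearMap.zero_apply] at h1
    obtain ⟨r, hr⟩ := hpp00
    have e : a ^ 2 - 1 = C (s ^ 2 - 1) + (r * (2 * C s + pp * r)) * pp := by
      rw [map_sub, map_pow, map_one]
      linear_combination (a + C s + pp * r) * hr
    rw [e, p.ev_add, LinearMap.add_apply, p.ev_mul_apply, hppv, map_zero, add_zero, p.ev_C,
      LinearMap.smul_apply, Module.End.one_apply] at h1
    rcases smul_eq_zero.mp h1 with h | h
    · exact hs1 (sub_eq_zero.mp h)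
    · exact hv0 h
  have hinj := hMin.inj hq.rn (p.ev_n_sq _) hν hνne
  apply hinj v₁ hv₁
  have hX1 : X ∣ a - 1 := by
    rw [ha, ← h00]
    exact (dvd_pow_self X (by omega : j + 1 ≠ 0)).trans hc00
  obtain ⟨q₁, hq₁⟩ := hX1
  have e : a ^ 2 - 1 = (q₁ * (a + 1)) * X := by linear_combination (a + 1) * hq₁
  have hnv₁ : p.n v₁ = 0 := by
    obtain ⟨w0, hw0⟩ := hv₁
    rw [← hw0, p.n_n_apply]
  rw [e, p.ev_mul_apply, p.ev_X_apply, p.z_apply, hmv₁, hnv₁, map_zero, map_zero, add_zero, map_zero]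

theorem theoremP [FiniteDimensional k M] (hk2 : ringChar k ≠ 2) (hk3 : Nat.card k ≠ 3) (hMin : MinP G d) :
    ∀ p : SqPair k M, QPair G d p → PP p := by
  intro p
  induction h : mu p using Nat.strong_induction_on generalizing p with
  | _ N ih =>
    intro hq
    exact claimB hk2 hk3 hMin hq (fun p' hq' hlt => ih (mu p') (h ▸ hlt) p' rfl hq')

end

end Cfsg.Agent.Lib.H18.QP
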