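import Cfsg.Agent.Lib.H18.QP7

/-!
# After Theorem P: the kernel of the action (helper18, for S5064)
-/

set_option autoImplicit false

namespace Cfsg.Agent.Lib.H18.QP

open Polynomial

noncomputable section

variable {k M : Type*} [Field k] [AddCommGroup M] [Module k M]

local notation "SLX" => Matrix.SpecialLinearGroup (Fin 2) (Polynomial k)
local notation "MX" => Matrix (Fin 2) (Fin 2) (Polynomial k)

/-- The conclusion of Theorem P for a pair and its swap. -/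
structure NonNil (p : SqPair k M) : Prop where
  hn : ∀ v ∈ LinearMap.range p.n, p.m v = 0 → v = 0
  hm : ∀ v ∈ LinearMap.range p.m, p.n v = 0 → v = 0

variable {p : SqPair k M}

theorem NonNil.swap (h : NonNil p) : NonNil p.swap := ⟨h.hm, h.hn⟩

variable {G : Subgroup (Module.End k M)ˣ} {d : ℕ}

theorem NonNil.of_PP (hP : ∀ p : SqPair k M, QPair G d p → PP p) (hq : QPair G d p)
    (hnil : ¬ IsNilpotent (p.n * p.m)) : NonNil p :=
  ⟨hP p hq hnil, hP p.swap hq.swap (fun h => hnil (p.swap.P_nilpotent_swap h))⟩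

theorem NonNil.z_inj_n (h : NonNil p) : ∀ v ∈ LinearMap.range p.n, p.z v = 0 → v = 0 := by
  rintro _ ⟨w, rfl⟩ hz
  rw [p.z_apply, p.n_n_apply, map_zero, add_zero] at hz
  have h1 : p.m (p.n w) = 0 := h.hm _ ⟨_, rfl⟩ hz
  exact h.hn _ ⟨w, rfl⟩ h1

theorem NonNil.z_inj_m (h : NonNil p) : ∀ v ∈ LinearMap.range p.m, p.z v = 0 → v = 0 := by
  intro v hv hz
  have := h.swap.z_inj_n v hv
  rw [p.swap_z] at this
  exact this hz

theorem NonNil.inter (h : NonNil p) : ∀ x, x ∈ LinearMap.range p.n → x ∈ LinearMap.range p.m → x = 0 := by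
  rintro x hx ⟨u, rfl⟩
  exact h.hn _ hx (p.m_m_apply u)

theorem SqPair.z_n_apply (p : SqPair k M) (u : M) : p.z (p.n u) = p.n (p.z u) :=
  LinearMap.congr_fun p.z_n u

theorem SqPair.z_m_apply (p : SqPair k M) (u : M) : p.z (p.m u) = p.m (p.z u) :=
  LinearMap.congr_fun p.z_m u

/-- the sum of the two commutator spaces -/
def SqPair.SS (p : SqPair k M) : Submodule k M := LinearMap.range p.n ⊔ LinearMap.range p.m

theorem NonNil.SS1 (h : NonNil p) : ∀ w ∈ p.SS, p.z w = 0 → w = 0 := by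
  intro w hw hz
  obtain ⟨w₁, hw₁, w₂, hw₂, rfl⟩ := Submodule.mem_sup.mp hw
  rw [map_add] at hz
  have hz1 : p.z w₁ ∈ LinearMap.range p.n := by
    obtain ⟨u, rfl⟩ := hw₁
    exact ⟨p.z u, (p.z_n_apply u).symm⟩
  have hz2 : p.z w₂ ∈ LinearMap.range p.m := by
    obtain ⟨u, rfl⟩ := hw₂
    exact ⟨p.z u, (p.z_m_apply u).symm⟩
  have e1 : p.z w₁ = -p.z w₂ := eq_neg_of_add_eq_zero_left hz
  have h1 : p.z w₁ = 0 := h.inter _ hz1 (by rw [e1]; exact neg_mem hz2)
  have h2 : p.z w₂ = 0 := by rw [h1, zero_add] at hz; exact hz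
  rw [h.z_inj_n w₁ hw₁ h1, h.z_inj_m w₂ hw₂ h2, add_zero]

theorem SqPair.SS2 (p : SqPair k M) : ∀ (f : k[X]), ∀ w ∈ p.SS, p.ev f w ∈ p.SS := by
  intro f w hw
  obtain ⟨w₁, hw₁, w₂, hw₂, rfl⟩ := Submodule.mem_sup.mp hw
  rw [map_add]
  refine add_mem (Submodule.mem_sup_left ?_) (Submodule.mem_sup_right ?_)
  · obtain ⟨u, rfl⟩ := hw₁
    exact ⟨p.ev f u, (p.ev_n_apply f u).symm⟩
  · obtain ⟨u, rfl⟩ := hw₂
    exact ⟨p.ev f u, (p.ev_m_apply f u).symm⟩

theorem SqPair.SS3 (p : SqPair k M) (f : k[X]) :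
    ∀ w, p.ev f (p.n w) ∈ p.SS ∧ p.ev f (p.m w) ∈ p.SS := by
  intro w
  exact ⟨Submodule.mem_sup_left ⟨p.ev f w, (p.ev_n_apply f w).symm⟩,
    Submodule.mem_sup_right ⟨p.ev f w, (p.ev_m_apply f w).symm⟩⟩

theorem rigid1 [FiniteDimensional k M] (hMin : MinP G d) (h2 : (2 : k) ≠ 0)
    (hP : ∀ p : SqPair k M, QPair G d p → PP p) (hq : QPair G d p) (hNN : NonNil p)
    (g : ↥(GG k)) (hgG : thetaU p g ∈ G) {v : M} (hv : v ∈ LinearMap.range p.n) (hv0 : v ≠ 0)
    (h0 : p.ev (X * gc g) v = 0) :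
    p.ev (X * gc g) * p.n = 0 ∧ mh p g = p.ev (ga g ^ 2) * p.n := by
  have hcl := class2_of_PP hMin h2 hq g hgG (hP _ (hq.cpair p g hgG)) hv hv0 h0
  exact rigidity hMin h2 hq g hgG hcl hv hv0 h0 p.SS hNN.SS1 p.SS2 (p.SS3 _)

theorem NonNil.annN_cancel (h : NonNil p) {f : k[X]} (hf : X * f ∈ annN p) : f ∈ annN p := by
  show p.ev f * p.n = 0
  refine LinearMap.ext fun w => ?_
  apply h.z_inj_n _ ⟨p.ev f w, (p.ev_n_apply f w).symm⟩
  have h1 := LinearMap.congr_fun ((mem_annN p _).mp hf) w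
  rw [Module.End.mul_apply, p.ev_mul_apply, p.ev_X_apply] at h1
  exact h1

theorem NonNil.annN_m (h : NonNil p) {f : k[X]} (hf : f ∈ annN p) : p.ev f * p.m = 0 := by
  refine LinearMap.ext fun w => ?_
  apply h.z_inj_m _ ⟨p.ev f w, (p.ev_m_apply f w).symm⟩
  show p.z (p.ev f (p.m w)) = 0
  have h1 : p.ev f (p.n (p.m w)) = 0 := LinearMap.congr_fun ((mem_annN p _).mp hf) (p.m w)
  rw [← p.ev_z_apply, p.z_apply, p.m_m_apply, map_zero, zero_add, p.ev_m_apply, h1, map_zero]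

theorem NonNil.annN_of_m (h : NonNil p) {f : k[X]} (hf : p.ev f * p.m = 0) : f ∈ annN p := by
  have h1 : f ∈ annN p.swap := by
    show p.swap.ev f * p.swap.n = 0
    rw [p.swap_ev]; exact hf
  have h2 := h.swap.annN_m h1
  rw [p.swap_ev] at h2
  exact h2

theorem NonNil.Th_eq_zero (h : NonNil p) {x : Lam k} (hd : x.d ∈ annN p) (hdX : X ∣ x.d)
    (he : x.e ∈ annN p) (hb : x.b ∈ annN p) (hc : x.c ∈ annN p) : p.Th x = 0 := by
  obtain ⟨d', hd'⟩ := hdX
  have hd'a : d' ∈ annN p := h.annN_cancel (by rw [← hd']; exact hd)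
  have h1 : p.ev x.d = 0 := by
    rw [hd', mul_comm, p.ev_mul, p.ev_X, SqPair.z, mul_add, ← mul_assoc, (mem_annN p _).mp hd'a, zero_mul,
      ← mul_assoc, h.annN_m hd'a, zero_mul, add_zero]
  rw [SqPair.Th, h1, SqPair.P, ← mul_assoc, (mem_annN p _).mp he, zero_mul, (mem_annN p _).mp hb,
    h.annN_m hc, add_zero, add_zero, add_zero]

theorem NonNil.mem_of_Th_eq_zero (h : NonNil p) {x : Lam k} (hx : p.Th x = 0) :
    x.d ∈ annN p ∧ x.e ∈ annN p ∧ x.b ∈ annN p ∧ x.c ∈ annN p := by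
  have key1 : ∀ w, p.ev (x.d + X * x.e) (p.n w) = 0 ∧ p.ev x.c (p.m (p.n w)) = 0 := by
    intro w
    have h1 := LinearMap.congr_fun hx (p.n w)
    have hP : p.P (p.n w) = p.z (p.n w) := by
      rw [p.z_apply, p.P_apply, p.n_n_apply, map_zero, add_zero]
    rw [p.Th_apply, p.n_n_apply, map_zero, add_zero, hP, LinearMap.zero_apply] at h1
    have hA : p.ev x.d (p.n w) + p.ev x.e (p.z (p.n w)) ∈ LinearMap.range p.n := by
      refine add_mem ⟨p.ev x.d w, (p.ev_n_apply _ w).symm⟩ ⟨p.ev x.e (p.z w), ?_⟩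
      rw [p.z_n_apply, p.ev_n_apply]
    have hB : p.ev x.c (p.m (p.n w)) ∈ LinearMap.range p.m := ⟨_, (p.ev_m_apply _ _).symm⟩
    have e1 : p.ev x.d (p.n w) + p.ev x.e (p.z (p.n w)) = -p.ev x.c (p.m (p.n w)) :=
      eq_neg_of_add_eq_zero_left h1
    have hA0 : p.ev x.d (p.n w) + p.ev x.e (p.z (p.n w)) = 0 :=
      h.inter _ hA (by rw [e1]; exact neg_mem hB)
    refine ⟨?_, ?_⟩
    · rw [p.ev_add, LinearMap.add_apply, mul_comm X, p.ev_mul_apply, p.ev_X_apply]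
      exact hA0
    · rw [hA0, zero_add] at h1; exact h1
  have key2 : ∀ w, p.ev x.d (p.m w) = 0 ∧ p.ev x.b (p.n (p.m w)) = 0 := by
    intro w
    have h1 := LinearMap.congr_fun hx (p.m w)
    rw [p.Th_apply, p.P_apply, p.m_m_apply, map_zero, map_zero, map_zero, add_zero, add_zero,
      LinearMap.zero_apply] at h1
    have hA : p.ev x.d (p.m w) ∈ LinearMap.range p.m := ⟨_, (p.ev_m_apply _ _).symm⟩
    have hB : p.ev x.b (p.n (p.m w)) ∈ LinearMap.range p.n := ⟨_, (p.ev_n_apply _ _).symm⟩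
    have e1 : p.ev x.b (p.n (p.m w)) = -p.ev x.d (p.m w) := eq_neg_of_add_eq_zero_right h1
    have hB0 : p.ev x.b (p.n (p.m w)) = 0 := h.inter _ hB (by rw [e1]; exact neg_mem hA)
    refine ⟨?_, hB0⟩
    rw [hB0, add_zero] at h1; exact h1
  have hde : x.d + X * x.e ∈ annN p := LinearMap.ext fun w => (key1 w).1
  have hd : x.d ∈ annN p := h.annN_of_m (LinearMap.ext fun w => (key2 w).1)
  have hc : x.c ∈ annN p := by
    apply h.annN_cancel
    show p.ev (X * x.c) * p.n = 0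
    refine LinearMap.ext fun w => ?_
    show p.ev (X * x.c) (p.n w) = 0
    rw [mul_comm, p.ev_mul_apply, p.ev_X_apply, p.z_apply, p.n_n_apply, map_zero, add_zero, p.ev_n_apply,
      (key1 w).2, map_zero]
  have hb : x.b ∈ annN p := by
    have h1 : X * x.b ∈ annN p.swap := by
      show p.swap.ev (X * x.b) * p.swap.n = 0
      rw [p.swap_ev]
      refine LinearMap.ext fun w => ?_
      show p.ev (X * x.b) (p.m w) = 0
      rw [mul_comm, p.ev_mul_apply, p.ev_X_apply, p.z_apply, p.m_m_apply, map_zero, zero_add,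
        p.ev_m_apply, (key2 w).2, map_zero]
    have h2 := h.swap.annN_m (h.swap.annN_cancel h1)
    rw [p.swap_ev] at h2
    exact h2
  have he : x.e ∈ annN p := by
    apply h.annN_cancel
    have : X * x.e = (x.d + X * x.e) - x.d := by ring
    rw [this]
    exact (annN p).sub_mem hde hd
  exact ⟨hd, he, hb, hc⟩

theorem Gam_X_dvd {g : SLX} (hg : g ∈ Gam k) : X ∣ (g : MX) 1 1 - 1 := by
  obtain ⟨a, ha⟩ := Gam_map_X g hg
  have h1 := congrArg (fun x : Matrix.SpecialLinearGroup (Fin 2) (AdjoinRoot (X : k[X])) =>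
    (x : Matrix (Fin 2) (Fin 2) (AdjoinRoot (X : k[X]))) 1 1) ha
  simp only [map_entry, uR_11] at h1
  exact AdjoinRoot.mk_eq_mk.mp (h1.trans (map_one _).symm)

theorem NonNil.theta_congr (h : NonNil p) {F : k[X]} (hmem : ∀ f, f ∈ annN p ↔ F ∣ f)
    (g g' : ↥(GG k))
    (hΦ : Matrix.SpecialLinearGroup.map (AdjoinRoot.mk F) (g : SLX) =
      Matrix.SpecialLinearGroup.map (AdjoinRoot.mk F) (g' : SLX))
    (hX : X ∣ ((g : SLX) : MX) 1 1 - ((g' : SLX) : MX) 1 1) : theta p g = theta p g' := by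
  have hent : ∀ i j, F ∣ ((g : SLX) : MX) i j - ((g' : SLX) : MX) i j := by
    intro i j
    have h1 := congrArg (fun x : Matrix.SpecialLinearGroup (Fin 2) (AdjoinRoot F) =>
      (x : Matrix (Fin 2) (Fin 2) (AdjoinRoot F)) i j) hΦ
    simp only [map_entry] at h1
    exact AdjoinRoot.mk_eq_mk.mp h1
  rw [← sub_eq_zero, theta_def, theta_def, ← SqPair.Th_sub]
  apply h.Th_eq_zero
  · exact (hmem _).mpr (hent 1 1)
  · exact hX
  · apply h.annN_cancel
    have e : X * (Lam.ofMat ((g : SLX) : MX) - Lam.ofMat ((g' : SLX) : MX)).e =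
        (((g : SLX) : MX) 0 0 - ((g' : SLX) : MX) 0 0) - (((g : SLX) : MX) 1 1 - ((g' : SLX) : MX) 1 1) := by
      show X * (divX (((g : SLX) : MX) 0 0 - ((g : SLX) : MX) 1 1) -
        divX (((g' : SLX) : MX) 0 0 - ((g' : SLX) : MX) 1 1)) = _
      rw [mul_sub, Lam.X_mul_divX_of g.2.1, Lam.X_mul_divX_of g'.2.1]
      ring
    rw [e]
    exact (annN p).sub_mem ((hmem _).mpr (hent 0 0)) ((hmem _).mpr (hent 1 1))
  · exact (hmem _).mpr (hent 0 1)
  · apply h.annN_cancel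
    have e : X * (Lam.ofMat ((g : SLX) : MX) - Lam.ofMat ((g' : SLX) : MX)).c =
        ((g : SLX) : MX) 1 0 - ((g' : SLX) : MX) 1 0 := by
      show X * (divX (((g : SLX) : MX) 1 0) - divX (((g' : SLX) : MX) 1 0)) = _
      rw [mul_sub, Lam.X_mul_divX_of g.2.2, Lam.X_mul_divX_of g'.2.2]
    rw [e]
    exact (hmem _).mpr (hent 1 0)

theorem NonNil.theta_eq_one_iff (h : NonNil p) {F : k[X]} (hmem : ∀ f, f ∈ annN p ↔ F ∣ f)
    (g : ↥(GG k)) (hX : X ∣ ((g : SLX) : MX) 1 1 - 1) : theta p g = 1 ↔ (g : SLX) ∈ cong F := by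
  constructor
  · intro h1
    have h2 : p.Th (Lam.ofMat ((g : SLX) : MX) - 1) = 0 := by
      rw [SqPair.Th_sub, SqPair.Th_one, ← theta_def, h1, sub_self]
    obtain ⟨hd, he, hb, hc⟩ := h.mem_of_Th_eq_zero h2
    have hd' : ((g : SLX) : MX) 1 1 - 1 ∈ annN p := hd
    have he' : ((g : SLX) : MX) 0 0 - ((g : SLX) : MX) 1 1 ∈ annN p := by
      have e : ((g : SLX) : MX) 0 0 - ((g : SLX) : MX) 1 1 =
          X * (Lam.ofMat ((g : SLX) : MX) - 1).e := by
        show _ = X * (divX (((g : SLX) : MX) 0 0 - ((g : SLX) : MX) 1 1) - 0)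
        rw [sub_zero, Lam.X_mul_divX_of g.2.1]
      rw [e]
      exact (annN p).mul_mem_left _ he
    have hb' : ((g : SLX) : MX) 0 1 ∈ annN p := by
      have e : ((g : SLX) : MX) 0 1 = (Lam.ofMat ((g : SLX) : MX) - 1).b := by
        show _ = ((g : SLX) : MX) 0 1 - 0
        rw [sub_zero]
      rw [e]; exact hb
    have hc' : ((g : SLX) : MX) 1 0 ∈ annN p := by
      have e : ((g : SLX) : MX) 1 0 = X * (Lam.ofMat ((g : SLX) : MX) - 1).c := by
        show _ = X * (divX (((g : SLX) : MX) 1 0) - 0)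
        rw [sub_zero, Lam.X_mul_divX_of g.2.2]
      rw [e]
      exact (annN p).mul_mem_left _ hc
    refine mem_cong.mpr ⟨?_, (hmem _).mp hb', (hmem _).mp hc', (hmem _).mp hd'⟩
    have e : ((g : SLX) : MX) 0 0 - 1 =
        (((g : SLX) : MX) 0 0 - ((g : SLX) : MX) 1 1) + (((g : SLX) : MX) 1 1 - 1) := by ring
    rw [e]
    exact (hmem _).mp ((annN p).add_mem he' hd')
  · intro h1
    have h2 := h.theta_congr hmem g 1 (by
      have : (g : SLX) ∈ (Matrix.SpecialLinearGroup.map (AdjoinRoot.mk F)).ker := h1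
      rw [MonoidHom.mem_ker] at this
      rw [this, OneMemClass.coe_one, map_one]) (by
      rw [OneMemClass.coe_one, oneR_11]; exact hX)
    rw [h2, map_one]

/-- the action of an element congruent to `u(c f)` -/
theorem NonNil.theta_of_uR (h : NonNil p) {F : k[X]} (hmem : ∀ f, f ∈ annN p ↔ F ∣ f)
    (g : ↥(GG k)) (hX : X ∣ ((g : SLX) : MX) 1 1 - 1) (c : k) (f : k[X])
    (hΦ : Matrix.SpecialLinearGroup.map (AdjoinRoot.mk F) (g : SLX) = uR (AdjoinRoot.mk F (C c * f))) :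
    theta p g = 1 + c • (p.ev f * p.n) := by
  have h2 := h.theta_congr hmem g ⟨uR (C c * f), uR_mem_GG _⟩ (by rw [hΦ, map_uR]) (by
    show X ∣ ((g : SLX) : MX) 1 1 - ((uR (C c * f) : SLX) : MX) 1 1
    rw [uR_11]; exact hX)
  rw [h2, theta_of_toMat p _ ⟨1, 0, C c * f, 0⟩]
  · simp only [SqPair.Th, SqPair.ev_one, SqPair.ev_zero, zero_mul, add_zero, SqPair.ev_mul, SqPair.ev_C,
      smul_mul_assoc, one_mul]
  · show (!![1, C c * f; 0, 1] : Matrix (Fin 2) (Fin 2) k[X]) = !![1 + X * 0, C c * f; X * 0, 1]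
    apply Lam.mat_congr <;> ring

end

end Cfsg.Agent.Lib.H18.QP
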