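import Cfsg.Agent.Lib.H18.QP8

/-!
# The annihilator of `im n` is generated by an irreducible polynomial (helper18, for S5064)
-/

set_option autoImplicit false

namespace Cfsg.Agent.Lib.H18.QP

open Polynomial

noncomputable section

variable {k M : Type*} [Field k] [AddCommGroup M] [Module k M]

local notation "SLX" => Matrix.SpecialLinearGroup (Fin 2) (Polynomial k)
local notation "MX" => Matrix (Fin 2) (Fin 2) (Polynomial k)

variable {G : Subgroup (Module.End k M)ˣ} {d : ℕ}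

theorem lemmaZ [FiniteDimensional k M] (hk2 : ringChar k ≠ 2) (hk3 : Nat.card k ≠ 3) (hMin : MinP G d)
    (hP : ∀ p : SqPair k M, QPair G d p → PP p) {p : SqPair k M} (hq : QPair G d p) (hNN : NonNil p)
    {F : k[X]} (hmem : ∀ f, f ∈ annN p ↔ F ∣ f) (hF0 : F ≠ 0)
    {pp : k[X]} (hirr : Irreducible pp) (hppX : ¬ pp ∣ X) {v : M} (hv : v ∈ LinearMap.range p.n)
    (hv0 : v ≠ 0) (hppv : p.ev pp v = 0) : F ∣ pp := by
  have h2 : (2 : k) ≠ 0 := Ring.two_ne_zero hk2
  haveI : Fact (Irreducible pp) := ⟨hirr⟩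
  have hFann : F ∈ annN p := (hmem F).mpr dvd_rfl
  -- pp ∣ F
  have hppF : pp ∣ F := by
    by_contra hnd
    have hcop : IsCoprime pp F := hirr.coprime_iff_not_dvd.mpr hnd
    obtain ⟨w, hw⟩ := hv
    have h1 : p.ev F v = 0 := by rw [← hw]; exact LinearMap.congr_fun hFann w
    exact hv0 (p.eq_zero_of_coprime hcop hppv h1)
  -- X coprime to F
  have hXF : IsCoprime X F := by
    apply irreducible_X.coprime_iff_not_dvd.mpr
    rintro ⟨F₁, hF₁⟩
    have h1 : F₁ ∈ annN p := hNN.annN_cancel (by rw [← hF₁]; exact hFann)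
    obtain ⟨r, hr⟩ := (hmem _).mp h1
    have hF₁0 : F₁ ≠ 0 := by
      rintro rfl
      rw [mul_zero] at hF₁
      exact hF0 hF₁
    have h3 : F₁ * 1 = F₁ * (X * r) := by
      rw [mul_one]
      conv_lhs => rw [hr, hF₁]
      ring
    have h4 := mul_left_cancel₀ hF₁0 h3
    exact not_isUnit_X (IsUnit.of_mul_eq_one r h4.symm)
  haveI : Module.Finite k (AdjoinRoot F) := (AdjoinRoot.powerBasis hF0).finite
  obtain ⟨L, hL⟩ : ∃ L : Subgroup (Matrix.SpecialLinearGroup (Fin 2) (AdjoinRoot F)),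
      L = (Gam k).map (Matrix.SpecialLinearGroup.map (AdjoinRoot.mk F)) := ⟨_, rfl⟩
  -- rigidity
  have hR1 : ∀ g : SLX, g ∈ Gam k → pp ∣ (g : MX) 1 0 → F ∣ (g : MX) 1 0 := by
    intro g hg hpp
    have hgG : thetaU p ⟨g, Gam_le_GG hg⟩ ∈ G := hq.thetaG_mem ⟨g, hg⟩
    have h10 : (g : MX) 1 0 = X * gc ⟨g, Gam_le_GG hg⟩ := g10_eq ⟨g, Gam_le_GG hg⟩
    have h0 : p.ev (X * gc ⟨g, Gam_le_GG hg⟩) v = 0 := by
      rw [← h10]
      obtain ⟨r, hr⟩ := hpp
      rw [hr, mul_comm, p.ev_mul_apply, hppv, map_zero]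
    have h3 := (rigid1 hMin h2 hP hq hNN ⟨g, Gam_le_GG hg⟩ hgG hv hv0 h0).1
    rw [h10]
    exact (hmem _).mp h3
  -- the space D
  obtain ⟨D, hD⟩ : ∃ D : Submodule k (AdjoinRoot F), ∀ r, r ∈ D ↔ ∀ c : k, uR (c • r) ∈ L := by
    refine ⟨{ carrier := {r | ∀ c : k, uR (c • r) ∈ L}, add_mem' := ?_, zero_mem' := ?_, smul_mem' := ?_ },
      fun r => Iff.rfl⟩
    · intro a b ha hb c
      rw [smul_add, uR_add]
      exact L.mul_mem (ha c) (hb c)
    · intro c
      rw [smul_zero, uR_zero]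
      exact L.one_mem
    · intro a r hr c
      rw [smul_smul]
      exact hr (c * a)
  have hD1 : (1 : AdjoinRoot F) ∈ D := by
    rw [hD]
    intro c
    rw [hL]
    refine ⟨uR (C c), uR_mem_Gam c, ?_⟩
    rw [map_uR, AdjoinRoot.mk_C, ← AdjoinRoot.algebraMap_eq, Algebra.algebraMap_eq_smul_one]
  have hT : ∀ g ∈ L, (g : Matrix (Fin 2) (Fin 2) (AdjoinRoot F)) 1 0 = 0 → ∀ r ∈ D,
      (g : Matrix (Fin 2) (Fin 2) (AdjoinRoot F)) 0 0 * (g : Matrix (Fin 2) (Fin 2) (AdjoinRoot F)) 0 0 * r ∈ D := by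
    intro g hg h10 r hr
    rw [hD]
    intro c
    have e : g * uR (c • r) * g⁻¹ = uR (c • ((g : Matrix (Fin 2) (Fin 2) (AdjoinRoot F)) 0 0 *
        (g : Matrix (Fin 2) (Fin 2) (AdjoinRoot F)) 0 0 * r)) := by
      apply sl2_extR
      · rw [conjU_00, h10]; simp
      · rw [conjU_01, uR_01]
        simp only [smul_mul_assoc]
        congr 1
        ring
      · rw [conjU_10, h10]; simp
      · rw [conjU_11, h10]; simp
    rw [← e]
    exact L.mul_mem (L.mul_mem hg ((hD r).mp hr c)) (L.inv_mem hg)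
  obtain ⟨gens, hgens⟩ : ∃ gens : Set (AdjoinRoot F), gens = {x | ∃ g ∈ L,
      (g : Matrix (Fin 2) (Fin 2) (AdjoinRoot F)) 1 0 = 0 ∧
      x = (g : Matrix (Fin 2) (Fin 2) (AdjoinRoot F)) 0 0 * (g : Matrix (Fin 2) (Fin 2) (AdjoinRoot F)) 0 0} :=
    ⟨_, rfl⟩
  have hK0D : ∀ x ∈ Algebra.adjoin k gens, ∀ r ∈ D, x * r ∈ D := by
    intro x hx
    induction hx using Algebra.adjoin_induction with
    | mem x hx =>
      rw [hgens] at hx
      obtain ⟨g, hg, h10, rfl⟩ := hx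
      exact hT g hg h10
    | algebraMap a =>
      intro r hr
      rw [Algebra.algebraMap_eq_smul_one, smul_mul_assoc, one_mul]
      exact D.smul_mem a hr
    | add x y _ _ hx hy =>
      intro r hr
      rw [add_mul]
      exact D.add_mem (hx r hr) (hy r hr)
    | mul x y _ _ hx hy =>
      intro r hr
      rw [mul_assoc]
      exact hx _ (hy r hr)
  have hK0D' : ∀ x ∈ Algebra.adjoin k gens, x ∈ D := by
    intro x hx
    have := hK0D x hx 1 hD1
    rwa [mul_one] at this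
  -- non-zero elements of D are units
  have hunit : ∀ r ∈ D, r ≠ 0 → IsUnit r := by
    intro r hr hr0
    obtain ⟨f, rfl⟩ := AdjoinRoot.mk_surjective r
    have hfann : f ∉ annN p := fun h => hr0 (AdjoinRoot.mk_eq_zero.mpr ((hmem f).mp h))
    have hFam : Fam G (p.ev f * p.n) := by
      intro c
      have h1 := (hD _).mp hr c
      rw [hL] at h1
      obtain ⟨g, hg, hgΦ⟩ := h1
      refine ⟨thetaG p ⟨g, hg⟩, hq.thetaG_mem _, ?_⟩
      rw [thetaG_val]
      apply hNN.theta_of_uR hmem ⟨g, Gam_le_GG hg⟩ (Gam_X_dvd hg) c f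
      show Matrix.SpecialLinearGroup.map (AdjoinRoot.mk F) g = _
      rw [hgΦ, map_mul, AdjoinRoot.mk_C, ← AdjoinRoot.algebraMap_eq, Algebra.smul_def]
    have hinj := hMin.inj hq.rn (p.ev_n_sq f) hFam hfann
    have hmulinj : Function.Injective (LinearMap.mulLeft k (AdjoinRoot.mk F f)) := by
      rw [← LinearMap.ker_eq_bot, LinearMap.ker_eq_bot']
      intro y hy
      obtain ⟨h, rfl⟩ := AdjoinRoot.mk_surjective y
      rw [LinearMap.mulLeft_apply, ← map_mul, AdjoinRoot.mk_eq_zero, ← hmem] at hy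
      rw [AdjoinRoot.mk_eq_zero, ← hmem]
      show p.ev h * p.n = 0
      refine LinearMap.ext fun w => ?_
      apply hinj _ ⟨p.ev h w, (p.ev_n_apply h w).symm⟩
      have h5 := LinearMap.congr_fun hy w
      rw [Module.End.mul_apply, p.ev_mul_apply] at h5
      exact h5
    obtain ⟨y, hy⟩ := LinearMap.surjective_of_injective hmulinj 1
    exact IsUnit.of_mul_eq_one y hy
  -- inverses in K₀
  have hinv : ∀ x ∈ Algebra.adjoin k gens, x ≠ 0 → ∃ y ∈ Algebra.adjoin k gens, x * y = 1 := by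
    intro x hx hx0
    have hxu := hunit x (hK0D' x hx) hx0
    obtain ⟨ℓ, hℓ⟩ : ∃ ℓ : ↥(Subalgebra.toSubmodule (Algebra.adjoin k gens)) →ₗ[k]
        ↥(Subalgebra.toSubmodule (Algebra.adjoin k gens)), ∀ y, ((ℓ y : ↥(Subalgebra.toSubmodule (Algebra.adjoin k gens))) : AdjoinRoot F) = x * y :=
      ⟨(LinearMap.mulLeft k x).restrict (p := Subalgebra.toSubmodule (Algebra.adjoin k gens))
        (fun y hy => (Algebra.adjoin k gens).mul_mem hx hy), fun y => rfl⟩
    have hℓinj : Function.Injective ℓ := by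
      intro y y' hyy'
      have h1 := congrArg Subtype.val hyy'
      rw [hℓ, hℓ] at h1
      exact Subtype.ext (hxu.mul_left_cancel h1)
    obtain ⟨y, hy⟩ := LinearMap.surjective_of_injective hℓinj ⟨1, (Algebra.adjoin k gens).one_mem⟩
    refine ⟨y.1, y.2, ?_⟩
    have h1 := congrArg Subtype.val hy
    rw [hℓ] at h1
    exact h1
  -- the map to K
  obtain ⟨ρ, hρ⟩ : ∃ ρ : AdjoinRoot F →ₐ[k] AdjoinRoot pp,
      ∀ f, ρ (AdjoinRoot.mk F f) = AdjoinRoot.mk pp f := by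
    refine ⟨AdjoinRoot.algHomOfDvd k F pp hppF, fun f => ?_⟩
    calc AdjoinRoot.algHomOfDvd k F pp hppF (AdjoinRoot.mk F f)
        = AdjoinRoot.algHomOfDvd k F pp hppF (aeval (AdjoinRoot.root F) f) := by rw [AdjoinRoot.aeval_eq]
      _ = aeval (AdjoinRoot.algHomOfDvd k F pp hppF (AdjoinRoot.root F)) f :=
          (Polynomial.aeval_algHom_apply _ _ _).symm
      _ = aeval (AdjoinRoot.root pp) f := by rw [AdjoinRoot.algHomOfDvd_root]
      _ = AdjoinRoot.mk pp f := AdjoinRoot.aeval_eq f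
  have hsurj := red_surj hk2 hk3 hppX
  have hTsurj : ∀ s : AdjoinRoot pp, s ≠ 0 → ∃ x ∈ gens, ρ x = s * s := by
    intro s hs
    have h1 : hR s s⁻¹ (mul_inv_cancel₀ hs) ∈
        (Gam k).map (Matrix.SpecialLinearGroup.map (AdjoinRoot.mk pp)) := by
      rw [hsurj]; exact Subgroup.mem_top _
    obtain ⟨g, hg, hgy⟩ := h1
    have h10 : pp ∣ (g : MX) 1 0 := by
      have h3 := congrArg (fun x : Matrix.SpecialLinearGroup (Fin 2) (AdjoinRoot pp) =>
        (x : Matrix (Fin 2) (Fin 2) (AdjoinRoot pp)) 1 0) hgy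
      simp only [map_entry, hR_10] at h3
      exact AdjoinRoot.mk_eq_zero.mp h3
    have h00 : AdjoinRoot.mk pp ((g : MX) 0 0) = s := by
      have h3 := congrArg (fun x : Matrix.SpecialLinearGroup (Fin 2) (AdjoinRoot pp) =>
        (x : Matrix (Fin 2) (Fin 2) (AdjoinRoot pp)) 0 0) hgy
      simp only [map_entry, hR_00] at h3
      exact h3
    have hF10 := hR1 g hg h10
    refine ⟨AdjoinRoot.mk F ((g : MX) 0 0) * AdjoinRoot.mk F ((g : MX) 0 0), ?_, ?_⟩
    · rw [hgens]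
      refine ⟨Matrix.SpecialLinearGroup.map (AdjoinRoot.mk F) g, ?_, ?_, rfl⟩
      · rw [hL]; exact ⟨g, hg, rfl⟩
      · rw [map_entry]; exact AdjoinRoot.mk_eq_zero.mpr hF10
    · rw [map_mul, hρ, h00]
  have h2K : (2 : AdjoinRoot pp) ≠ 0 := by
    have e : (2 : AdjoinRoot pp) = algebraMap k (AdjoinRoot pp) 2 := by rw [map_ofNat]
    rw [e]
    intro h
    exact h2 ((algebraMap k (AdjoinRoot pp)).injective (by rw [h, map_zero]))
  have hsq : ∀ s : AdjoinRoot pp, s * s ∈ (Algebra.adjoin k gens).map ρ := by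
    intro s
    by_cases hs : s = 0
    · rw [hs, mul_zero]; exact Subalgebra.zero_mem _
    · obtain ⟨x, hx, hxs⟩ := hTsurj s hs
      exact Subalgebra.mem_map.mpr ⟨x, Algebra.subset_adjoin hx, hxs⟩
  have hρtop : ∀ y : AdjoinRoot pp, ∃ x ∈ Algebra.adjoin k gens, ρ x = y := by
    intro y
    have e : y = ((y + 1) / 2) * ((y + 1) / 2) - ((y - 1) / 2) * ((y - 1) / 2) := by
      field_simp
      ring
    have h1 : y ∈ (Algebra.adjoin k gens).map ρ := by
      rw [e]; exact Subalgebra.sub_mem _ (hsq _) (hsq _)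
    exact Subalgebra.mem_map.mp h1
  -- the decisive element
  obtain ⟨lam, hlam⟩ : ∃ lam : AdjoinRoot pp, lam = AdjoinRoot.root pp := ⟨_, rfl⟩
  have hlam0 : lam ≠ 0 := by
    rw [hlam, ← AdjoinRoot.mk_X]
    intro h
    exact hppX (AdjoinRoot.mk_eq_zero.mp h)
  have hρroot : ρ (AdjoinRoot.root F) = lam := by
    rw [← AdjoinRoot.mk_X, hρ, AdjoinRoot.mk_X, hlam]
  obtain ⟨x', hx'K, hx'ρ⟩ := hρtop (-2 / lam)
  have hx'D := hK0D' x' hx'K
  have hlL : lR (AdjoinRoot.root F) ∈ L := by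
    rw [hL]
    refine ⟨lR (C 1 * X), lR_mem_Gam 1, ?_⟩
    rw [map_lR, C_1, one_mul, AdjoinRoot.mk_X]
  have huL : uR x' ∈ L := by
    have h1 := (hD x').mp hx'D 1
    rwa [one_smul] at h1
  have hyL : lR (AdjoinRoot.root F) * uR x' * lR (AdjoinRoot.root F) ∈ L :=
    L.mul_mem (L.mul_mem hlL huL) hlL
  rw [hL] at hyL
  obtain ⟨g, hg, hgy⟩ := hyL
  have hy10 : AdjoinRoot.mk F ((g : MX) 1 0) =
      AdjoinRoot.root F * (2 + AdjoinRoot.root F * x') := by
    have h3 := congrArg (fun x : Matrix.SpecialLinearGroup (Fin 2) (AdjoinRoot F) =>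
      (x : Matrix (Fin 2) (Fin 2) (AdjoinRoot F)) 1 0) hgy
    simp only [map_entry, mulR_10, mulR_11, mulR_00, mulR_01, lR_00, lR_01, lR_10, lR_11, uR_00, uR_01,
      uR_10, uR_11] at h3
    rw [h3]
    ring
  have hpp10 : pp ∣ (g : MX) 1 0 := by
    apply AdjoinRoot.mk_eq_zero.mp
    rw [← hρ, hy10, map_mul, map_add, map_mul, hρroot, hx'ρ, map_ofNat]
    field_simp
    ring
  have hF10 := hR1 g hg hpp10
  have hrootU : IsUnit (AdjoinRoot.root F) := by
    obtain ⟨a, b, hab⟩ := hXF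
    have h1 := congrArg (AdjoinRoot.mk F) hab
    rw [map_add, map_mul, map_mul, AdjoinRoot.mk_self, mul_zero, add_zero, map_one, AdjoinRoot.mk_X,
      mul_comm] at h1
    exact IsUnit.of_mul_eq_one _ h1
  have hrx : AdjoinRoot.root F * x' = -2 := by
    have h1 : AdjoinRoot.root F * (2 + AdjoinRoot.root F * x') = AdjoinRoot.root F * 0 := by
      rw [← hy10, mul_zero]; exact AdjoinRoot.mk_eq_zero.mpr hF10
    have h3 := hrootU.mul_left_cancel h1
    exact eq_neg_of_add_eq_zero_right h3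
  have hx'0 : x' ≠ 0 := by
    rintro rfl
    rw [map_zero] at hx'ρ
    have h1 : (-2 : AdjoinRoot pp) / lam ≠ 0 := div_ne_zero (neg_ne_zero.mpr h2K) hlam0
    exact h1 hx'ρ.symm
  obtain ⟨y, hyK, hxy⟩ := hinv x' hx'K hx'0
  have h2K0 : (2 : AdjoinRoot F) ∈ Algebra.adjoin k gens := by
    have e : (2 : AdjoinRoot F) = 1 + 1 := by norm_num
    rw [e]
    exact add_mem (one_mem _) (one_mem _)
  have hrootK : AdjoinRoot.root F ∈ Algebra.adjoin k gens := by
    have e : AdjoinRoot.root F = -2 * y := by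
      calc AdjoinRoot.root F = AdjoinRoot.root F * (x' * y) := by rw [hxy, mul_one]
        _ = (AdjoinRoot.root F * x') * y := by rw [mul_assoc]
        _ = -2 * y := by rw [hrx]
    rw [e]
    exact mul_mem (neg_mem h2K0) hyK
  have hK0top : Algebra.adjoin k gens = ⊤ := by
    rw [eq_top_iff, ← AdjoinRoot.adjoinRoot_eq_top]
    apply Algebra.adjoin_le
    rintro x rfl
    exact hrootK
  -- conclusion
  by_contra hnd
  have hne : AdjoinRoot.mk F pp ≠ 0 := fun h => hnd (AdjoinRoot.mk_eq_zero.mp h)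
  have hu := hunit _ (hK0D' _ (by rw [hK0top]; exact Algebra.mem_top)) hne
  obtain ⟨y', hy'⟩ := hu.exists_right_inv
  obtain ⟨q, rfl⟩ := AdjoinRoot.mk_surjective y'
  rw [← map_mul, ← map_one (AdjoinRoot.mk F), AdjoinRoot.mk_eq_mk] at hy'
  have h1 : pp ∣ pp * q - 1 := hppF.trans hy'
  have h3 : pp ∣ 1 := by
    have := dvd_sub (dvd_mul_right pp q) h1
    rwa [sub_sub_cancel] at this
  exact hirr.not_isUnit (isUnit_of_dvd_one h3)

end

end Cfsg.Agent.Lib.H18.QP
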