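import Mathlib
import Cfsg.Prelude.Def_Blocks

/-!
helper18 library (S4443, piece (IDX)): the class size of an element whose centralizer has Sylow `p`-subgroup `D`:
`|G : C_G(x)| = p^(a-d) u`, `p ∤ u`.  Exact signature of `tools/blueprints/S4443_sigs.lean`.
-/

set_option autoImplicit false
open Cfsg

namespace Cfsg.Agent.Lib.H18.RB

variable {G : Type*} [Group G] [Fintype G] {p : ℕ} [Fact p.Prime]

/-- `|D| = p ^ ν_p |C_G(x)|` and `ν_p |D| = ν_p |C_G(x)|` when `D` is (the image of) a Sylow `p`-subgroup of `C_G(x)`. -/
theorem card_eq_of_sylow_map (D : Subgroup G) (x : G)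
    (hx : ∃ Q : Sylow p (Subgroup.centralizer ({x} : Set G)),
      (Q : Subgroup (Subgroup.centralizer ({x} : Set G))).map
        (Subgroup.centralizer ({x} : Set G)).subtype = D) :
    Nat.card D = p ^ (Nat.card (Subgroup.centralizer ({x} : Set G))).factorization p ∧
      (Nat.card D).factorization p =
        (Nat.card (Subgroup.centralizer ({x} : Set G))).factorization p := by
  have hp : p.Prime := Fact.out
  obtain ⟨Q, hQ⟩ := hx
  have h1 : Nat.card D = Nat.card (Q : Subgroup (Subgroup.centralizer ({x} : Set G))) := by
    rw [← hQ]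
    exact Subgroup.card_map_of_injective (Subgroup.subtype_injective _)
  have h2 : Nat.card D = p ^ (Nat.card (Subgroup.centralizer ({x} : Set G))).factorization p := by
    rw [h1]
    exact Q.card_eq_multiplicity
  refine ⟨h2, ?_⟩
  rw [h2, hp.factorization_pow, Finsupp.single_eq_same]

/-- (IDX) -/
theorem index_centralizer_eq (D : Subgroup G) (x : G)
    (hx : ∃ Q : Sylow p (Subgroup.centralizer ({x} : Set G)),
      (Q : Subgroup (Subgroup.centralizer ({x} : Set G))).map
        (Subgroup.centralizer ({x} : Set G)).subtype = D) :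
    ∃ u : ℕ, ¬ p ∣ u ∧ (Subgroup.centralizer ({x} : Set G)).index =
      p ^ ((Nat.card G).factorization p - (Nat.card D).factorization p) * u := by
  have hp : p.Prime := Fact.out
  obtain ⟨-, hfac⟩ := card_eq_of_sylow_map D x hx
  set C := Subgroup.centralizer ({x} : Set G) with hC
  have hmul : C.index * Nat.card C = Nat.card G := C.index_mul_card
  have hi0 : C.index ≠ 0 := Subgroup.index_ne_zero_of_finite
  have hc0 : Nat.card C ≠ 0 := Nat.card_pos.ne'
  have hfG : (Nat.card G).factorization p =
      C.index.factorization p + (Nat.card C).factorization p := by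
    rw [← hmul, Nat.factorization_mul hi0 hc0]
    rfl
  have hexp : (Nat.card G).factorization p - (Nat.card D).factorization p =
      C.index.factorization p := by
    rw [hfac, hfG]
    omega
  refine ⟨C.index / p ^ C.index.factorization p, Nat.not_dvd_ordCompl hp hi0, ?_⟩
  rw [hexp]
  exact (Nat.ordProj_mul_ordCompl_eq_self C.index p).symm

end Cfsg.Agent.Lib.H18.RB
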