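import Mathlib
import Cfsg.Prelude.Def_Blocks
import Cfsg.Agent.S0957
import Cfsg.Agent.Lib.H18.RBIDX

/-!
helper18 library (S4443, piece (DIV)): `p^(a-d)` divides the pair count (landed S0957).
Exact signature of `tools/blueprints/S4443_sigs.lean`.
-/

set_option autoImplicit false
open Cfsg

namespace Cfsg.Agent.Lib.H18.RB

variable {G : Type*} [Group G] [Fintype G] {p : ℕ} [Fact p.Prime]

/-- (DIV) -/
theorem pow_dvd_pair_count (D : Subgroup G) (hD : IsPGroup p D) (S : Sylow p G) (g h : G)
    (hg : ∃ Q : Sylow p (Subgroup.centralizer ({g} : Set G)),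
      (Q : Subgroup (Subgroup.centralizer ({g} : Set G))).map
        (Subgroup.centralizer ({g} : Set G)).subtype = D) :
    p ^ ((Nat.card G).factorization p - (Nat.card D).factorization p) ∣
      Nat.card {yz : G × G // IsConj g yz.1 ∧ IsConj h yz.2 ∧ yz.2 * yz.1⁻¹ ∈ (S : Subgroup G)} := by
  have hp : p.Prime := Fact.out
  obtain ⟨hcard, hfac⟩ := card_eq_of_sylow_map D g hg
  obtain ⟨Q, hQ⟩ := hg
  have key := Cfsg.Agent.S0957.result p S g h Q
  have hS : Nat.card (S : Subgroup G) = p ^ (Nat.card G).factorization p := S.card_eq_multiplicity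
  have hQc : Nat.card (Q : Subgroup (Subgroup.centralizer ({g} : Set G))) =
      p ^ (Nat.card (Subgroup.centralizer ({g} : Set G))).factorization p :=
    Q.card_eq_multiplicity
  have hle : (Nat.card (Subgroup.centralizer ({g} : Set G))).factorization p ≤
      (Nat.card G).factorization p := by
    have hdvd : Nat.card (Subgroup.centralizer ({g} : Set G)) ∣ Nat.card G :=
      Subgroup.card_subgroup_dvd_card _
    exact (Nat.factorization_le_iff_dvd Nat.card_pos.ne' Nat.card_pos.ne').2 hdvd p
  have hdiv : Nat.card (S : Subgroup G) /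
      Nat.card (Q : Subgroup (Subgroup.centralizer ({g} : Set G))) =
      p ^ ((Nat.card G).factorization p - (Nat.card D).factorization p) := by
    rw [hS, hQc, hfac, Nat.pow_div hle hp.pos]
  rw [← hdiv]
  exact key

end Cfsg.Agent.Lib.H18.RB
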