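import Mathlib
import Cfsg.Prelude.Def_Blocks
import Cfsg.Agent.Lib.L0.BlockSeparated
import Cfsg.Agent.Lib.L0.BlockMinMax
import Cfsg.Agent.Lib.H23.BlockMinMax
import Cfsg.Agent.Lib.H23.BlockDefect
import Cfsg.Agent.Lib.H23.BlockDefectGroups
import Cfsg.Agent.Lib.H24.CharPermLemma
import Cfsg.Agent.Lib.H18.RBIDX

/-!
helper18 library (S4443, piece (DUAL)): duality of `β_B` and `ω_{B'}` on the classes of defect group `D`, for blocks with
the NORMAL defect group `D`.  Exact signature of `tools/blueprints/S4443_sigs.lean`.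
-/

set_option autoImplicit false
open Cfsg
open scoped ComplexConjugate

namespace Cfsg.Agent.Lib.H18.RB

variable {G : Type*} [Group G] [Fintype G] {p : ℕ} [Fact p.Prime] {M : Ideal Cfsg.AlgInt}

/-- `D` is (the image of) a Sylow `p`-subgroup of `C_G(g)` iff `D ≤ C_G(g)` and `|D| = |C_G(g)|_p`. -/
theorem sylow_map_iff (D : Subgroup G) (g : G) :
    (∃ Q : Sylow p (Subgroup.centralizer ({g} : Set G)),
      (Q : Subgroup (Subgroup.centralizer ({g} : Set G))).map
        (Subgroup.centralizer ({g} : Set G)).subtype = D) ↔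
    (D ≤ Subgroup.centralizer ({g} : Set G) ∧
      Nat.card D = p ^ (Nat.card (Subgroup.centralizer ({g} : Set G))).factorization p) := by
  constructor
  · intro h
    refine ⟨?_, (card_eq_of_sylow_map D g h).1⟩
    obtain ⟨Q, rfl⟩ := h
    exact Subgroup.map_subtype_le _
  · rintro ⟨hle, hcard⟩
    have hc : Nat.card (D.subgroupOf (Subgroup.centralizer ({g} : Set G))) =
        p ^ (Nat.card (Subgroup.centralizer ({g} : Set G))).factorization p := by
      rw [Nat.card_congr (Subgroup.subgroupOfEquivOfLe hle).toEquiv, hcard]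
    refine ⟨Sylow.ofCard (D.subgroupOf (Subgroup.centralizer ({g} : Set G))) hc, ?_⟩
    rw [Sylow.coe_ofCard]
    exact Subgroup.map_subgroupOf_eq_of_le hle

/-- for NORMAL `D` the property only depends on the class of `g`. -/
theorem sylow_map_of_isConj (D : Subgroup G) [hn : D.Normal] {g g' : G} (h : IsConj g g')
    (hg : ∃ Q : Sylow p (Subgroup.centralizer ({g} : Set G)),
      (Q : Subgroup (Subgroup.centralizer ({g} : Set G))).map
        (Subgroup.centralizer ({g} : Set G)).subtype = D) :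
    ∃ Q : Sylow p (Subgroup.centralizer ({g'} : Set G)),
      (Q : Subgroup (Subgroup.centralizer ({g'} : Set G))).map
        (Subgroup.centralizer ({g'} : Set G)).subtype = D := by
  rw [sylow_map_iff] at hg ⊢
  obtain ⟨hle, hcard⟩ := hg
  refine ⟨?_, ?_⟩
  · obtain ⟨c, rfl⟩ := isConj_iff.1 h
    intro u hu
    have hu' : c⁻¹ * u * c ∈ D := by
      have := hn.conj_mem u hu c⁻¹
      rwa [inv_inv] at this
    have h1 := Subgroup.mem_centralizer_singleton_iff.1 (hle hu')
    rw [Subgroup.mem_centralizer_singleton_iff]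
    calc u * (c * g * c⁻¹) = c * ((c⁻¹ * u * c) * g) * c⁻¹ := by group
      _ = c * (g * (c⁻¹ * u * c)) * c⁻¹ := by rw [h1]
      _ = c * g * c⁻¹ * u := by group
  · rw [← Cfsg.Agent.Lib.H24.card_centralizer_eq_of_isConj h]
    exact hcard

/-- (DUAL) -/
theorem dual_blockCoeff [Fintype (ConjClasses G)] (hM : Cfsg.IsPModular p M) (D : Subgroup G)
    [D.Normal] (hD : IsPGroup p D) {ι : Type*} [Fintype ι] (x : ι → G)
    (hreg : ∀ i, ¬ p ∣ orderOf (x i))
    (hsyl : ∀ i, ∃ Q : Sylow p (Subgroup.centralizer ({x i} : Set G)),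
      (Q : Subgroup (Subgroup.centralizer ({x i} : Set G))).map
        (Subgroup.centralizer ({x i} : Set G)).subtype = D)
    (hinj : ∀ i j, IsConj (x i) (x j) → i = j)
    (hall : ∀ g : G, ¬ p ∣ orderOf g →
      (∃ Q : Sylow p (Subgroup.centralizer ({g} : Set G)),
        (Q : Subgroup (Subgroup.centralizer ({g} : Set G))).map
          (Subgroup.centralizer ({g} : Set G)).subtype = D) → ∃ i, IsConj (x i) g)
    (χ₀ ψ₀ : IrrCharacter G) (hχ₀ : IsDefectGroup p M (blockOf M (χ₀ : G → ℂ)) D)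
    (hψ₀ : IsDefectGroup p M (blockOf M (ψ₀ : G → ℂ)) D) :
    (ψ₀ ∈ blockOf M (χ₀ : G → ℂ) → MemLocalIdeal M ((1 : ℂ) -
      ∑ i, blockCoeff (blockOf M (χ₀ : G → ℂ)) (x i) * centralChar (ψ₀ : G → ℂ) (x i))) ∧
    (ψ₀ ∉ blockOf M (χ₀ : G → ℂ) → MemLocalIdeal M
      (∑ i, blockCoeff (blockOf M (χ₀ : G → ℂ)) (x i) * centralChar (ψ₀ : G → ℂ) (x i))) := by
  classical
  haveI hP := Cfsg.Agent.Lib.H23.isPrime_of_isPModular hM
  have hp : p.Prime := Fact.out
  have hd1 := Cfsg.Agent.Lib.H23.card_defectGroup hM χ₀ D hχ₀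
  have hd2 := Cfsg.Agent.Lib.H23.card_defectGroup hM ψ₀ D hψ₀
  obtain ⟨d, hd⟩ : ∃ d, blockDefect p (blockOf M (χ₀ : G → ℂ)) = d := ⟨_, rfl⟩
  have hd' : blockDefect p (blockOf M (ψ₀ : G → ℂ)) = d := by
    rw [← hd]
    exact Nat.pow_right_injective hp.two_le (hd2.symm.trans hd1)
  rw [hd] at hd1
  have key := Cfsg.Agent.Lib.L0.BlockMinMax.omega_blockIdem_sub_sum_mem hM χ₀ ψ₀ d hd hd'
  set F : G → ℂ := fun g =>
    blockCoeff (blockOf M (χ₀ : G → ℂ)) g * centralChar (ψ₀ : G → ℂ) g with hF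
  have hFconj : ∀ g y : G, IsConj g y → F g = F y := by
    intro g y h
    simp only [hF]
    rw [Cfsg.Agent.Lib.H23.blockCoeff_eq_of_isConj _ h,
      Cfsg.Agent.Lib.H23.centralChar_eq_of_isConj ψ₀ h]
  -- the classes of the `x i`
  set cl : ι → ConjClasses G := fun i => ConjClasses.mk (x i) with hcl
  have hclinj : Function.Injective cl := by
    intro i j hij
    exact hinj i j (ConjClasses.mk_eq_mk_iff_isConj.1 hij)
  have hrepconj : ∀ i, IsConj (Cfsg.Agent.Lib.H23.classRep (cl i)) (x i) := by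
    intro i
    exact ConjClasses.mk_eq_mk_iff_isConj.1 (Cfsg.Agent.Lib.H23.mk_classRep (cl i))
  have hsub : Finset.univ.image cl ⊆
      Finset.univ.filter (Cfsg.Agent.Lib.L0.BlockMinMax.IsRegDefect (G := G) p d) := by
    intro c hc
    obtain ⟨i, -, rfl⟩ := Finset.mem_image.1 hc
    rw [Finset.mem_filter]
    refine ⟨Finset.mem_univ _, ?_, ?_⟩
    · obtain ⟨e, he⟩ := isConj_iff.1 (hrepconj i)
      have : orderOf (Cfsg.Agent.Lib.H23.classRep (cl i)) = orderOf (x i) := by
        rw [← he]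
        exact (MulEquiv.orderOf_eq (MulAut.conj e) _).symm
      rw [this]
      exact hreg i
    · have h1 := (card_eq_of_sylow_map D (x i) (hsyl i)).1
      rw [hd1] at h1
      have h2 := Nat.pow_right_injective hp.two_le h1
      rw [Cfsg.Agent.Lib.H24.card_centralizer_eq_of_isConj (hrepconj i)]
      exact h2.symm
  have hsum1 : ∑ i, F (x i) = ∑ c ∈ Finset.univ.image cl, F (Cfsg.Agent.Lib.H23.classRep c) := by
    rw [Finset.sum_image (fun i _ j _ h => hclinj h)]
    exact Finset.sum_congr rfl fun i _ => (hFconj _ _ (hrepconj i)).symm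
  have hsum2 : (∑ c : ConjClasses G, if Cfsg.Agent.Lib.L0.BlockMinMax.IsRegDefect p d c then
        blockCoeff (blockOf M (χ₀ : G → ℂ)) (Cfsg.Agent.Lib.H23.classRep c) *
          centralChar (ψ₀ : G → ℂ) (Cfsg.Agent.Lib.H23.classRep c) else 0) =
      ∑ c ∈ Finset.univ.filter (Cfsg.Agent.Lib.L0.BlockMinMax.IsRegDefect (G := G) p d),
        F (Cfsg.Agent.Lib.H23.classRep c) := by
    rw [Finset.sum_filter]
  have hrest : MemLocalIdeal M
      (∑ c ∈ Finset.univ.filter (Cfsg.Agent.Lib.L0.BlockMinMax.IsRegDefect (G := G) p d) \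
        Finset.univ.image cl, F (Cfsg.Agent.Lib.H23.classRep c)) := by
    refine Cfsg.Agent.Lib.H23.memLocalIdeal_sum _ _ fun c hc => ?_
    rw [Finset.mem_sdiff, Finset.mem_filter] at hc
    obtain ⟨⟨-, hcreg, hcd⟩, hcim⟩ := hc
    set g := Cfsg.Agent.Lib.H23.classRep c with hg
    have hβR : MemLocalRing M (blockCoeff (blockOf M (χ₀ : G → ℂ)) g) :=
      Cfsg.Agent.Lib.H23.memLocalRing_blockCoeff hM χ₀ g
    by_contra hne
    have hω : ¬ MemLocalIdeal M (centralChar (ψ₀ : G → ℂ) g) := by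
      intro h
      exact hne (Cfsg.Agent.Lib.H23.memLocalIdeal_mul_left hβR h)
    -- the defect class of `bl(ψ₀)`
    obtain ⟨k, hk, P, hPD⟩ := hψ₀
    have hDk : D ≤ Subgroup.centralizer ({k} : Set G) := by
      rw [hPD]
      exact Subgroup.map_subtype_le _
    obtain ⟨y, hy, hDy⟩ := Cfsg.Agent.Lib.H23.exists_conj_centralized hM ψ₀ k g hk.2.1 ψ₀
      (Cfsg.Agent.Lib.H23.mem_blockOf_self ψ₀) hω D hD hDk
    -- `D` is a Sylow subgroup of `C(y)`
    have hcy : Nat.card (Subgroup.centralizer ({y} : Set G)) =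
        Nat.card (Subgroup.centralizer ({g} : Set G)) :=
      (Cfsg.Agent.Lib.H24.card_centralizer_eq_of_isConj hy).symm
    have hsy : ∃ Q : Sylow p (Subgroup.centralizer ({y} : Set G)),
        (Q : Subgroup (Subgroup.centralizer ({y} : Set G))).map
          (Subgroup.centralizer ({y} : Set G)).subtype = D := by
      rw [sylow_map_iff]
      refine ⟨hDy, ?_⟩
      rw [hcy, hcd, hd1]
    have hsg := sylow_map_of_isConj D hy.symm hsy
    obtain ⟨i, hi⟩ := hall g hcreg hsg
    apply hcim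
    rw [Finset.mem_image]
    refine ⟨i, Finset.mem_univ _, ?_⟩
    rw [← Cfsg.Agent.Lib.H23.mk_classRep c]
    exact ConjClasses.mk_eq_mk_iff_isConj.2 hi
  have hmain : MemLocalIdeal M (Cfsg.Agent.Lib.H23.omega (ψ₀ : G → ℂ)
      (Cfsg.Agent.Lib.H23.blockIdem (blockOf M (χ₀ : G → ℂ))) -
      ∑ i, F (x i)) := by
    rw [hsum2, ← Finset.sum_sdiff hsub] at key
    rw [hsum1]
    have h2 := Cfsg.Agent.Lib.H23.memLocalIdeal_add key hrest
    convert h2 using 1
    ring
  rw [Cfsg.Agent.Lib.H23.omega_blockIdem] at hmain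
  constructor
  · intro h
    rw [if_pos h] at hmain
    exact hmain
  · intro h
    rw [if_neg h, zero_sub] at hmain
    have := Cfsg.Agent.Lib.H23.memLocalIdeal_neg hmain
    rwa [neg_neg] at this

end Cfsg.Agent.Lib.H18.RB
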