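import Mathlib
import Cfsg.Agent.Lib.H11.RK2Defs
import Cfsg.Agent.Lib.H18.R2C1B2

/-!
# S5289 piece T3POW (helper18): the `p`-th power map of a group of Blackburn type `T3` (`p ≥ 5`) is
multiplicative.

Normal form `g = y^r z^s w^t x⁻ⁱ` (`w = z^(s₀ p^(n-3))`), and
`(y^r z^s w^t x⁻ⁱ)^m = y^(mr + i C(m,2) s) z^(ms) w^(mt + i C(m,2) r + (∑_{l<m} C(il,2)) s) x^(-im)`;
for `m = p ≥ 5` this is `z^(ps)`.
-/

set_option autoImplicit false

namespace Cfsg.Agent.Lib.H18.RK2

open Cfsg.Agent.Lib.H11.RK2 Cfsg.Agent.Lib.H18.R2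

section arith

theorem two_mul_choose_two_add (k : ℕ) : 2 * k.choose 2 + k = k * k := by
  induction k with
  | zero => simp
  | succ k ih =>
    have e : (k + 1).choose 2 = k.choose 2 + k := by
      rw [Nat.choose_succ_succ', Nat.choose_one_right, add_comm]
    rw [e]
    nlinarith [ih]

theorem six_mul_sum_sq (q : ℕ) : 6 * ∑ l ∈ Finset.range (q + 1), l * l = q * (q + 1) * (2 * q + 1) := by
  induction q with
  | zero => simp
  | succ q ih =>
    rw [Finset.sum_range_succ, mul_add, ih]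
    ring

theorem two_mul_sum_id (q : ℕ) : 2 * ∑ l ∈ Finset.range (q + 1), l = q * (q + 1) := by
  induction q with
  | zero => simp
  | succ q ih =>
    rw [Finset.sum_range_succ, mul_add, ih]
    ring

/-- `p ∣ ∑_{l<p} C(il, 2)` for a prime `p ≥ 5`. -/
theorem dvd_sum_choose_two {p : ℕ} (hp : p.Prime) (h5 : 5 ≤ p) (i : ℕ) :
    p ∣ ∑ l ∈ Finset.range p, (i * l).choose 2 := by
  obtain ⟨q, rfl⟩ : ∃ q, p = q + 1 := ⟨p - 1, by omega⟩
  have h1 : ∀ l ∈ Finset.range (q + 1), 2 * (i * l).choose 2 + i * l = i * i * (l * l) := by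
    intro l _
    rw [two_mul_choose_two_add]; ring
  have h2 := Finset.sum_congr rfl h1
  rw [Finset.sum_add_distrib, ← Finset.mul_sum, ← Finset.mul_sum, ← Finset.mul_sum] at h2
  have h3 : 12 * ∑ l ∈ Finset.range (q + 1), (i * l).choose 2 + 3 * i * (q * (q + 1)) =
      i * i * (q * (q + 1) * (2 * q + 1)) := by
    rw [← six_mul_sum_sq, ← two_mul_sum_id]
    linarith [h2]
  have h4 : (q + 1) ∣ 12 * ∑ l ∈ Finset.range (q + 1), (i * l).choose 2 := by
    have ha : (q + 1) ∣ 3 * i * (q * (q + 1)) := Dvd.intro_left (3 * i * q) (by ring)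
    have hb : (q + 1) ∣ i * i * (q * (q + 1) * (2 * q + 1)) :=
      Dvd.intro_left (i * i * q * (2 * q + 1)) (by ring)
    rw [← h3] at hb
    exact (Nat.dvd_add_left ha).1 hb
  have hcop : Nat.Coprime (q + 1) 12 := by
    rw [Nat.Prime.coprime_iff_not_dvd hp]
    intro hd
    have : (q + 1) ∣ 2 * 2 * 3 := hd
    rcases (Nat.Prime.dvd_mul hp).1 this with h | h
    · rcases (Nat.Prime.dvd_mul hp).1 h with h | h <;>
      · have := Nat.le_of_dvd (by norm_num) h; omega
    · have := Nat.le_of_dvd (by norm_num) h; omega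
  exact hcop.dvd_of_dvd_mul_left h4

end arith

section core

universe u

variable {G : Type u} [Group G]

/-- the general power formula for normal forms -/
theorem nf_pow_gen {x y z w : G} (hyz : Commute y z) (hyw : Commute y w) (hzw : Commute z w)
    (hxw : Commute x w) (hzx : x⁻¹ * z * x = y * z) (hyx : x⁻¹ * y * x = y * w)
    (r s t i m : ℕ) :
    (mono y z w r s t * x⁻¹ ^ i) ^ m =
      mono y z w (m * r + i * m.choose 2 * s) (m * s)
        (m * t + i * m.choose 2 * r + (∑ l ∈ Finset.range m, (i * l).choose 2) * s) *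
        x⁻¹ ^ (i * m) := by
  induction m with
  | zero => simp [mono]
  | succ m ih =>
    rw [pow_succ, ih, nf_mul hyz hyw hzw hxw hzx hyx, Finset.sum_range_succ]
    have e2 : (m + 1).choose 2 = m.choose 2 + m := by
      rw [Nat.choose_succ_succ', Nat.choose_one_right, add_comm]
    rw [e2, Nat.mul_succ]
    congr 2 <;> ring

end core

section T3

variable {G : Type*} [Group G] [Finite G] {p n s : ℕ} [Fact p.Prime] {x y z : G}

/-- **T3POW**. -/
theorem T3.pow_mul (h : T3 p n s x y z) : ∀ g k : G, (g * k) ^ p = g ^ p * k ^ p := by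
  have hp : p.Prime := Fact.out
  have h5 := h.hp
  obtain ⟨m, hm⟩ : ∃ m, n = m + 4 := ⟨n - 4, by have := h.hn; omega⟩
  have e3 : n - 3 = m + 1 := by omega
  have e2 : n - 2 = m + 2 := by omega
  obtain ⟨w, hw⟩ : ∃ w, w = z ^ (s * p ^ (n - 3)) := ⟨_, rfl⟩
  have hyx := h.hxy
  rw [← hw] at hyx
  have hzx := h.hxz
  have hyz : Commute y z := h.hyz
  have hzw : Commute z w := by rw [hw]; exact (Commute.refl z).pow_right _
  have hyw : Commute y w := by rw [hw]; exact hyz.pow_right _
  have hyp : y ^ p = 1 := h.hy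
  have hxp : x ^ p = 1 := h.hx
  have hxip : x⁻¹ ^ p = 1 := by rw [inv_pow, hxp, inv_one]
  -- `x` commutes with `z ^ p`
  have hxzp : Commute x (z ^ p) := by
    have e : x⁻¹ * z ^ p * x = z ^ p := by
      have key : ∀ g : G, x⁻¹ * g * x = MulAut.conj x⁻¹ g := by intro g; simp
      rw [key, map_pow, ← key, hzx, hyz.mul_pow, hyp, one_mul]
    have : z ^ p * x = x * z ^ p := by
      calc z ^ p * x = x * (x⁻¹ * z ^ p * x) := by group
        _ = x * z ^ p := by rw [e]
    exact this.symm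
  have hxw : Commute x w := by
    have : w = (z ^ p) ^ (s * p ^ m) := by
      rw [hw, ← _root_.pow_mul, e3]; congr 1; rw [pow_succ]; ring
    rw [this]
    exact hxzp.pow_right _
  have hwp : w ^ p = 1 := by
    rw [hw, ← _root_.pow_mul, e3]
    have : s * p ^ (m + 1) * p = p ^ (n - 2) * s := by rw [e2, pow_succ, pow_succ]; ring
    rw [this, _root_.pow_mul, h.hz, one_pow]
  -- normal forms
  let M : Submonoid G :=
    { carrier := {g | ∃ r s t i : ℕ, g = mono y z w r s t * x⁻¹ ^ i}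
      one_mem' := ⟨0, 0, 0, 0, by simp [mono]⟩
      mul_mem' := by
        rintro _ _ ⟨r, s, t, i, rfl⟩ ⟨r', s', t', i', rfl⟩
        exact ⟨_, _, _, _, nf_mul hyz hyw hzw hxw hzx hyx r s t i r' s' t' i'⟩ }
  have hall : ∀ g : G, ∃ r s t i : ℕ, g = mono y z w r s t * x⁻¹ ^ i := by
    intro g
    have hg : g ∈ (⊤ : Subgroup G) := Subgroup.mem_top g
    rw [← h.gen] at hg
    have hg' : g ∈ (Subgroup.closure ({x, y, z} : Set G)).toSubmonoid := hg
    rw [Subgroup.closure_toSubmonoid_of_finite] at hg'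
    have hle : Submonoid.closure ({x, y, z} : Set G) ≤ M := by
      rw [Submonoid.closure_le]
      intro g hg
      rcases hg with hg | hg | hg
      · rw [show g = x from hg]
        refine ⟨0, 0, 0, p - 1, ?_⟩
        have : x⁻¹ ^ (p - 1) * x⁻¹ = 1 := by
          rw [← pow_succ, Nat.sub_add_cancel hp.one_le, hxip]
        simp only [mono, pow_zero, one_mul]
        exact (eq_inv_of_mul_eq_one_left this).trans (inv_inv _) |>.symm
      · rw [show g = y from hg]
        exact ⟨1, 0, 0, 0, by simp [mono]⟩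
      · rw [show g = z from hg]
        exact ⟨0, 1, 0, 0, by simp [mono]⟩
    exact hle hg'
  -- the power map on normal forms
  have hpc2 : p ∣ p.choose 2 := hp.dvd_choose_self (by norm_num) (by omega)
  have hpowNF : ∀ r s t i : ℕ, (mono y z w r s t * x⁻¹ ^ i) ^ p = z ^ (p * s) := by
    intro r s t i
    rw [nf_pow_gen hyz hyw hzw hxw hzx hyx]
    obtain ⟨c2, hc2⟩ := hpc2
    obtain ⟨c3, hc3⟩ := dvd_sum_choose_two hp h5 i
    have hx' : x⁻¹ ^ (i * p) = 1 := by rw [mul_comm, _root_.pow_mul, hxip, one_pow]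
    rw [hx', mul_one, hc2, hc3]
    simp only [mono]
    have e1 : y ^ (p * r + i * (p * c2) * s) = 1 := by
      rw [show p * r + i * (p * c2) * s = p * (r + i * c2 * s) by ring, _root_.pow_mul, hyp, one_pow]
    have e2 : w ^ (p * t + i * (p * c2) * r + p * c3 * s) = 1 := by
      rw [show p * t + i * (p * c2) * r + p * c3 * s = p * (t + i * c2 * r + c3 * s) by ring,
        _root_.pow_mul, hwp, one_pow]
    rw [e1, e2, one_mul, mul_one]
  intro g k
  obtain ⟨r, s, t, i, rfl⟩ := hall g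
  obtain ⟨r', s', t', i', rfl⟩ := hall k
  rw [nf_mul hyz hyw hzw hxw hzx hyx, hpowNF, hpowNF, hpowNF, ← pow_add]
  congr 1
  ring

end T3

end Cfsg.Agent.Lib.H18.RK2
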