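import Mathlib
import Cfsg.Agent.Lib.H18.GXSTORUS

/-!
# S5289 piece TORUS5 (helper18): `Cfsg.Agent.Lib.H18.GXS.exists_torus` with the sharper conclusion
`d w = w ^ j`, `j * j ≢ 1 (mod p)` for `p ≥ 5` (`j = 1/2`).
-/

set_option autoImplicit false

namespace Cfsg.Agent.Lib.H18.RK2

open Cfsg.Agent.Lib.H18.GXS

theorem exists_torus5_comm {B : Type*} [CommGroup B] (p : ℕ) [Fact p.Prime]
    (hp5 : 5 ≤ p) (hB : ∀ b : B, b ^ p = 1) (σ τ : MulAut B) (z w : B)
    (hσ : ∀ b, ∃ k : ℕ, σ b = b * z ^ k) (hτ : ∀ b, ∃ k : ℕ, τ b = b * w ^ k)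
    (hσz : σ z = z) (hτw : τ w = w) (hσw : σ w ≠ w) (hτz : τ z ≠ z) :
    ∃ d ∈ Subgroup.closure ({σ, τ} : Set (MulAut B)), (∃ k : ℕ, d * σ * d⁻¹ = σ ^ k) ∧
      ∃ j : ℕ, ¬ (j * j ≡ 1 [MOD p]) ∧ d w = w ^ j := by
  classical
  have hpp : p.Prime := Fact.out
  have hp : p ≠ 2 := by omega
  have instM : Module (ZMod p) (Additive B) := AddCommGroup.zmodModule (n := p) (by
    intro x
    induction x using Additive.rec with
    | ofMul b =>
      rw [← ofMul_pow, hB]; rfl)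
  -- the linear map of an automorphism
  let L : MulAut B → (Additive B →ₗ[ZMod p] Additive B) := fun α =>
    (MonoidHom.toAdditive α.toMonoidHom).toZModLinearMap p
  have hL : ∀ (α : MulAut B) (b : B), L α (Additive.ofMul b) = Additive.ofMul (α b) := fun _ _ => rfl
  have hLmul : ∀ α β : MulAut B, L (α * β) = L α * L β := by
    intro α β
    apply LinearMap.ext
    intro v
    induction v using Additive.rec with
    | ofMul b => rfl
  have hLone : L 1 = 1 := by
    apply LinearMap.ext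
    intro v
    induction v using Additive.rec with
    | ofMul b => rfl
  have hLpow : ∀ (α : MulAut B) (n : ℕ), L (α ^ n) = L α ^ n := by
    intro α n
    induction n with
    | zero => rw [pow_zero, pow_zero, hLone]
    | succ n ih => rw [pow_succ, pow_succ, hLmul, ih]
  have hLinj : ∀ α β : MulAut B, L α = L β → α = β := by
    intro α β h
    ext b
    have := congrArg (fun f => f (Additive.ofMul b)) h
    simp only [hL] at this
    exact Additive.ofMul.injective this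
  -- notation
  set zt : Additive B := Additive.ofMul z with hzt
  set wt : Additive B := Additive.ofMul w with hwt
  have hnat : ∀ (b : B) (k : ℕ), Additive.ofMul (b ^ k) = (k : ZMod p) • Additive.ofMul b := by
    intro b k
    rw [Nat.cast_smul_eq_nsmul, ofMul_pow]
  -- data of σ, τ
  have hσv : ∀ v : Additive B, ∃ x : ZMod p, L σ v = v + x • zt := by
    intro v
    induction v using Additive.rec with
    | ofMul b =>
      obtain ⟨k, hk⟩ := hσ b
      refine ⟨(k : ZMod p), ?_⟩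
      rw [hL, hk, ofMul_mul, hnat]
  have hτv : ∀ v : Additive B, ∃ y : ZMod p, L τ v = v + y • wt := by
    intro v
    induction v using Additive.rec with
    | ofMul b =>
      obtain ⟨k, hk⟩ := hτ b
      refine ⟨(k : ZMod p), ?_⟩
      rw [hL, hk, ofMul_mul, hnat]
  have hσzt : L σ zt = zt := by rw [hzt, hL, hσz]
  have hτwt : L τ wt = wt := by rw [hwt, hL, hτw]
  obtain ⟨c, hc⟩ := hσv wt
  obtain ⟨a, ha⟩ := hτv zt
  have hc0 : c ≠ 0 := by
    rintro rfl
    rw [zero_smul, add_zero, hwt, hL] at hc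
    exact hσw (Additive.ofMul.injective hc)
  have ha0 : a ≠ 0 := by
    rintro rfl
    rw [zero_smul, add_zero, hzt, hL] at ha
    exact hτz (Additive.ofMul.injective ha)
  have h2 : (2 : ZMod p) ≠ 0 := by
    intro h
    have h' : ((2 : ℕ) : ZMod p) = 0 := by exact_mod_cast h
    rw [ZMod.natCast_eq_zero_iff] at h'
    exact hp ((Nat.prime_dvd_prime_iff_eq hpp Nat.prime_two).1 h')
  -- exponents
  set m1 : ℕ := (-c⁻¹).val with hm1
  set m2 : ℕ := (a⁻¹).val with hm2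
  set n1 : ℕ := (2 * c⁻¹).val with hn1
  set n2 : ℕ := (-(2⁻¹ * a⁻¹)).val with hn2
  have cm1 : (m1 : ZMod p) = -c⁻¹ := ZMod.natCast_zmod_val _
  have cm2 : (m2 : ZMod p) = a⁻¹ := ZMod.natCast_zmod_val _
  have cn1 : (n1 : ZMod p) = 2 * c⁻¹ := ZMod.natCast_zmod_val _
  have cn2 : (n2 : ZMod p) = -(2⁻¹ * a⁻¹) := ZMod.natCast_zmod_val _
  obtain ⟨d, hd⟩ : ∃ d : MulAut B, d = σ ^ n1 * τ ^ n2 * σ ^ n1 * (σ ^ m1 * τ ^ m2 * σ ^ m1) := ⟨_, rfl⟩
  have hσmem : σ ∈ Subgroup.closure ({σ, τ} : Set (MulAut B)) :=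
    Subgroup.subset_closure (by simp)
  have hτmem : τ ∈ Subgroup.closure ({σ, τ} : Set (MulAut B)) :=
    Subgroup.subset_closure (by simp)
  have hdmem : d ∈ Subgroup.closure ({σ, τ} : Set (MulAut B)) := by
    rw [hd]
    exact Subgroup.mul_mem _ (Subgroup.mul_mem _ (Subgroup.mul_mem _ (Subgroup.pow_mem _ hσmem _)
      (Subgroup.pow_mem _ hτmem _)) (Subgroup.pow_mem _ hσmem _))
      (Subgroup.mul_mem _ (Subgroup.mul_mem _ (Subgroup.pow_mem _ hσmem _)
      (Subgroup.pow_mem _ hτmem _)) (Subgroup.pow_mem _ hσmem _))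
  -- the key formula
  have key : ∀ (v : Additive B) (x y : ZMod p), L σ v = v + x • zt → L τ v = v + y • wt →
      L d v = v + (a⁻¹ * y) • zt + (-(2⁻¹ * c⁻¹ * x)) • wt := by
    intro v x y hx hy
    have Sσ := fun (n : ℕ) (A C : ZMod p) => tv_pow (L σ) zt wt v c x hσzt hc hx n A C
    have Sτ := fun (n : ℕ) (A C : ZMod p) => tv_pow (L τ) wt zt v a y hτwt ha hy n C A
    have Sτ' : ∀ (n : ℕ) (A C : ZMod p),
        (L τ ^ n) (v + A • zt + C • wt) = v + A • zt + (C + n * (y + a * A)) • wt := by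
      intro n A C
      have := Sτ n A C
      rw [show v + A • zt + C • wt = v + C • wt + A • zt by abel, this]
      abel
    rw [hd, hLmul, hLmul, hLmul, hLmul, hLmul, hLpow, hLpow, hLpow, hLpow]
    simp only [Module.End.mul_apply]
    have e0 : v = v + (0 : ZMod p) • zt + (0 : ZMod p) • wt := by simp
    conv_lhs => rw [e0]
    rw [Sσ, Sτ', Sσ, Sσ, Sτ', Sσ, cm1, cm2, cn1, cn2]
    congr 1
    · congr 1
      congr 1
      field_simp
      ring
    · congr 1
      field_simp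
      ring
  refine ⟨d, hdmem, ⟨4, ?_⟩, ⟨((2 : ZMod p)⁻¹).val, ?_, ?_⟩⟩
  · -- d σ d⁻¹ = σ^4
    rw [mul_inv_eq_iff_eq_mul]
    apply hLinj
    apply LinearMap.ext
    intro v
    obtain ⟨x, hx⟩ := hσv v
    obtain ⟨y, hy⟩ := hτv v
    rw [hLmul, hLmul, hLpow, Module.End.mul_apply, Module.End.mul_apply, hx, map_add, map_smul,
      key v x y hx hy, key zt 0 a (by rw [hσzt, zero_smul, add_zero]) ha]
    have h4 := tv_pow (L σ) zt wt v c x hσzt hc hx 4 (a⁻¹ * y) (-(2⁻¹ * c⁻¹ * x))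
    rw [h4]
    have e1 : c * (2⁻¹ * c⁻¹ * x) = 2⁻¹ * x := by field_simp
    have e2 : a⁻¹ * a = 1 := inv_mul_cancel₀ ha0
    have e3 : (4 : ZMod p) * 2⁻¹ = 2 := by
      have : (4 : ZMod p) = 2 * 2 := by norm_num
      rw [this, mul_assoc, mul_inv_cancel₀ h2, mul_one]
    push_cast
    rw [mul_neg, e1, e2]
    have : (a⁻¹ * y + 4 * (x + -(2⁻¹ * x))) = a⁻¹ * y + 2 * x := by
      have : (4 : ZMod p) * (x + -(2⁻¹ * x)) = 4 * x - (4 * 2⁻¹) * x := by ring
      rw [this, e3]; ring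
    rw [this]
    module
  · -- j * j ≢ 1
    intro h
    have h' := (ZMod.natCast_eq_natCast_iff _ _ _).2 h
    rw [Nat.cast_mul, ZMod.natCast_zmod_val, Nat.cast_one] at h'
    have h4 : (4 : ZMod p) = 1 := by
      have := congrArg (fun t => 2 * 2 * t) h'
      beta_reduce at this
      have e : (2 : ZMod p) * 2 * (2⁻¹ * 2⁻¹) = 1 := by
        rw [show (2 : ZMod p) * 2 * (2⁻¹ * 2⁻¹) = (2 * 2⁻¹) * (2 * 2⁻¹) by ring, mul_inv_cancel₀ h2, one_mul]
      rw [e, mul_one] at this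
      rw [show (4 : ZMod p) = 2 * 2 by norm_num]
      exact this.symm
    have h3 : ((3 : ℕ) : ZMod p) = 0 := by
      have : (4 : ZMod p) - 1 = 0 := by rw [h4, sub_self]
      push_cast
      rw [← this]; norm_num
    rw [ZMod.natCast_eq_zero_iff] at h3
    have := Nat.le_of_dvd (by norm_num) h3
    omega
  · -- d w
    apply Additive.ofMul.injective
    rw [← hL, hnat, ZMod.natCast_zmod_val, ← hwt,
      key wt c 0 hc (by rw [hτwt, zero_smul, add_zero])]
    have e1 : 2⁻¹ * c⁻¹ * c = (2 : ZMod p)⁻¹ := by field_simp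
    rw [mul_zero, zero_smul, add_zero, e1]
    have : wt + (-(2 : ZMod p)⁻¹) • wt = ((1 : ZMod p) - 2⁻¹) • wt := by module
    rw [this]
    congr 1
    have : (1 : ZMod p) = 2 * 2⁻¹ := (mul_inv_cancel₀ h2).symm
    nth_rewrite 1 [this]
    ring

/-- **TORUS5**. -/
theorem exists_torus5 {B : Type*} [Group B] (hcomm : ∀ a b : B, a * b = b * a) (p : ℕ) [Fact p.Prime]
    (hp : 5 ≤ p) (hB : ∀ b : B, b ^ p = 1) (σ τ : MulAut B) (z w : B)
    (hσ : ∀ b, ∃ k : ℕ, σ b = b * z ^ k) (hτ : ∀ b, ∃ k : ℕ, τ b = b * w ^ k)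
    (hσz : σ z = z) (hτw : τ w = w) (hσw : σ w ≠ w) (hτz : τ z ≠ z) :
    ∃ d ∈ Subgroup.closure ({σ, τ} : Set (MulAut B)), (∃ k : ℕ, d * σ * d⁻¹ = σ ^ k) ∧
      ∃ j : ℕ, ¬ (j * j ≡ 1 [MOD p]) ∧ d w = w ^ j := by
  letI inst : CommGroup B := { ‹Group B› with mul_comm := hcomm }
  exact exists_torus5_comm p hp hB σ τ z w hσ hτ hσz hτw hσw hτz

end Cfsg.Agent.Lib.H18.RK2
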