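import Mathlib
import Cfsg.Prelude.Def_Characters
import Cfsg.Prelude.Def_Solvable
import Cfsg.Agent.Lib.H26.RODefs
import Cfsg.Agent.Lib.H10.PSolvable
import Cfsg.Agent.Lib.H1.PSolvOfSolv

/-!
# S4581 pieces EQV (`nconj_equivalence`) and BASE (`pCore_eq_top_of_central`) (helper18).
Exact signatures of `tools/blueprints/S4581_sigs.lean`.
-/

set_option autoImplicit false

universe u

namespace Cfsg.Agent.Lib.H18.RO

open Cfsg Cfsg.Agent.Lib.H24.Glaub Cfsg.Agent.Lib.H26.RO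

/-- EQV.  `NConj V N` is an equivalence relation when `N` normalizes `V`. -/
theorem nconj_equivalence {Γ : Type u} [Group Γ] [Finite Γ] (V N : Subgroup Γ)
    (hN : ∀ n ∈ N, ∀ v ∈ V, n * v * n⁻¹ ∈ V) : Equivalence (NConj V N) := by
  refine ⟨?_, ?_, ?_⟩
  · intro μ
    refine ⟨1, N.one_mem, ?_⟩
    intro v v' h
    have e : v' = v := by
      apply Subtype.ext
      rw [h]; group
    rw [e]
  · rintro μ μ' ⟨n, hn, h⟩
    refine ⟨n⁻¹, N.inv_mem hn, ?_⟩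
    intro v v' hv'
    have e : (v : Γ) = n * v' * n⁻¹ := by rw [hv']; group
    exact (h v' v e).symm
  · rintro μ μ' μ'' ⟨n₁, hn₁, h₁⟩ ⟨n₂, hn₂, h₂⟩
    refine ⟨n₂ * n₁, N.mul_mem hn₂ hn₁, ?_⟩
    intro v v' hv'
    have hw : n₁ * (v : Γ) * n₁⁻¹ ∈ V := hN n₁ hn₁ v v.2
    have e1 := h₁ v ⟨_, hw⟩ rfl
    have e2 := h₂ ⟨_, hw⟩ v' (by rw [hv']; group)
    rw [e2, e1]

/-- BASE.  `A` solvable, `O_{2'}(A) = 1`, `O_2(A)` central: then `A = O_2(A)`. -/
theorem pCore_eq_top_of_central {A : Type u} [Group A] [Finite A] (hs : Group.IsSolvable A)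
    (hK : pPrimeCore 2 A = ⊥) (hc : pCore 2 A ≤ Subgroup.center A) : pCore 2 A = ⊤ := by
  haveI : Fact (Nat.Prime 2) := ⟨Nat.prime_two⟩
  have hps : IsPSolvable 2 A := Cfsg.Agent.Lib.H1.PSolvOfSolv.isPSolvable_of_isSolvable 2 A
  have h1 := Cfsg.Agent.Lib.H10.centralizer_pCore_le_of_isPSolvable 2 hps hK
  rw [eq_top_iff]
  intro x _
  apply h1
  rw [Subgroup.mem_centralizer_iff]
  intro y hy
  have := Subgroup.mem_center_iff.mp (hc hy) x
  exact this.symm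

end Cfsg.Agent.Lib.H18.RO
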