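import Mathlib
import Cfsg.Prelude.Def_Characters
import Cfsg.Prelude.Def_Solvable
import Cfsg.Agent.Lib.H26.RODefs
import Cfsg.Agent.Lib.L0.CharLinear
import Cfsg.Agent.Lib.L0.CharBasic

/-!
# S4581 piece L6 (`mem_rh_iff`) (helper18).  Exact signature of `tools/blueprints/S4581_sigs.lean`.
-/

set_option autoImplicit false

universe u

namespace Cfsg.Agent.Lib.H18.RO

open Cfsg Cfsg.Agent.Lib.H24.Glaub Cfsg.Agent.Lib.H26.RO Cfsg.Agent.Lib.L0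

/-- a character is constant on the cosets of its kernel -/
theorem ro_char_mul_of_ker {G : Type*} [Group G] [Finite G] {χ : G → ℂ} (hχ : IsCharacter G χ)
    {l : G} (hl : χ l = χ 1) (x : G) : χ (l * x) = χ x := by
  obtain ⟨n, ρ, rfl⟩ := hχ
  rw [char_eq_char_one_iff] at hl
  simp only [Representation.character, map_mul, hl, one_mul]

/-- a linear character is multiplicative on powers -/
theorem ro_linear_pow {G : Type*} [Group G] {μ : G → ℂ} (hμ : IsCharacter G μ) (h1 : μ 1 = 1)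
    (g : G) (k : ℕ) : μ (g ^ k) = μ g ^ k := by
  induction k with
  | zero => rw [pow_zero, pow_zero, h1]
  | succ k ih => rw [pow_succ, pow_succ, linear_char_mul hμ h1, ih]

section amb

variable {Γ : Type u} [Group Γ] [Finite Γ]

/-- L6. -/
theorem mem_rh_iff (ρ : Prop) (T V L : Subgroup Γ) (hVT : V ≤ T) (μ : IrrCharacter ↥V)
    (hμ1 : (μ : ↥V → ℂ) 1 = 1) (hL : ∀ v : ↥V, (v : Γ) ∈ L ↔ (μ : ↥V → ℂ) v = 1) (hLV : L ≤ V)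
    (v₀ : Γ) (hv₀ : v₀ ∈ V)
    (hgen : ∀ v : ↥V, ∃ k : ℕ, (μ : ↥V → ℂ) v = (μ : ↥V → ℂ) ⟨v₀, hv₀⟩ ^ k)
    (η : IrrCharacter ↥T) :
    η ∈ RH ρ hVT (μ : ↥V → ℂ) ↔
      (η ∈ CC ρ ↥T ⟨v₀, hVT hv₀⟩ ((μ : ↥V → ℂ) ⟨v₀, hv₀⟩) ∧
        ∀ t : ↥T, (t : Γ) ∈ L → (η : ↥T → ℂ) t = (η : ↥T → ℂ) 1) := by
  have hμc : IsCharacter ↥V (μ : ↥V → ℂ) := isCharacter_of_irr μ.2
  have hηc : IsCharacter ↥T (η : ↥T → ℂ) := isCharacter_of_irr η.2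
  constructor
  · rintro ⟨hodd, hreal, hres⟩
    refine ⟨⟨hodd, hreal, ?_⟩, ?_⟩
    · intro k
      have h1 := hres (⟨v₀, hv₀⟩ ^ k)
      rw [ro_linear_pow hμc hμ1] at h1
      have e : (⟨v₀, hVT hv₀⟩ : ↥T) ^ k = ⟨((⟨v₀, hv₀⟩ : ↥V) ^ k : ↥V), hVT ((⟨v₀, hv₀⟩ : ↥V) ^ k).2⟩ := by
        apply Subtype.ext
        simp
      rw [e, h1, mul_comm]
    · intro t ht
      have h1 := hres ⟨(t : Γ), hLV ht⟩
      have h2 : (μ : ↥V → ℂ) ⟨(t : Γ), hLV ht⟩ = 1 := (hL ⟨(t : Γ), hLV ht⟩).mp ht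
      rw [h2, mul_one] at h1
      exact h1
  · rintro ⟨⟨hodd, hreal, hpow⟩, hker⟩
    refine ⟨hodd, hreal, ?_⟩
    intro v
    obtain ⟨k, hk⟩ := hgen v
    -- `l := v * (v₀ ^ k)⁻¹ ∈ L`
    set w : ↥V := (⟨v₀, hv₀⟩ : ↥V) ^ k with hw
    have hμw : (μ : ↥V → ℂ) w = (μ : ↥V → ℂ) ⟨v₀, hv₀⟩ ^ k := ro_linear_pow hμc hμ1 _ k
    have hμne : (μ : ↥V → ℂ) w ≠ 0 := by
      intro h0
      have h1 : (μ : ↥V → ℂ) (w * w⁻¹) = (μ : ↥V → ℂ) w * (μ : ↥V → ℂ) w⁻¹ := linear_char_mul hμc hμ1 _ _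
      rw [mul_inv_cancel, hμ1, h0, zero_mul] at h1
      exact one_ne_zero h1
    have hl : ((v * w⁻¹ : ↥V) : Γ) ∈ L := by
      rw [hL]
      have h1 : (μ : ↥V → ℂ) (v * w⁻¹) * (μ : ↥V → ℂ) w = (μ : ↥V → ℂ) v := by
        rw [← linear_char_mul hμc hμ1]
        congr 1
        group
      rw [hk, ← hμw] at h1
      exact mul_right_cancel₀ hμne (by rw [h1, one_mul])
    have h2 := hker ⟨((v * w⁻¹ : ↥V) : Γ), hVT (v * w⁻¹).2⟩ hl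
    have h3 := ro_char_mul_of_ker hηc h2 ⟨(w : Γ), hVT w.2⟩
    have e1 : (⟨((v * w⁻¹ : ↥V) : Γ), hVT (v * w⁻¹).2⟩ : ↥T) * ⟨(w : Γ), hVT w.2⟩ = ⟨(v : Γ), hVT v.2⟩ := by
      apply Subtype.ext
      simp
    rw [e1] at h3
    have e2 : (⟨(w : Γ), hVT w.2⟩ : ↥T) = (⟨v₀, hVT hv₀⟩ : ↥T) ^ k := by
      apply Subtype.ext
      simp [hw]
    rw [h3, e2, hpow k, hk, mul_comm]

end amb

end Cfsg.Agent.Lib.H18.RO
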