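import Mathlib
import Cfsg.Prelude.Def_Characters
import Cfsg.Prelude.Def_Solvable
import Cfsg.Agent.Lib.H26.RODefs
import Cfsg.Agent.Lib.H18.ROL6

/-!
# S4581 piece LSTEP (`card_rh_eq`), parametric in QSTEP (helper18).
`card_rh_eq_of_qstep hq …` = the exact statement of LSTEP with the statement of QSTEP (for the same
ambient group `Γ`) as the extra hypothesis `hq`.
-/

set_option autoImplicit false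

universe u

namespace Cfsg.Agent.Lib.H18.RO

open Cfsg Cfsg.Agent.Lib.H24.Glaub Cfsg.Agent.Lib.H26.RO Cfsg.Agent.Lib.L0

/-- the values of a linear character of a finite group are the powers of one of them -/
theorem ro_exists_gen_of_linear {V : Type*} [Group V] [Finite V] {μ : V → ℂ}
    (hμ : IsCharacter V μ) (h1 : μ 1 = 1) : ∃ v₀ : V, ∀ v : V, ∃ k : ℕ, μ v = μ v₀ ^ k := by
  set f : V →* ℂˣ := linearCharHom hμ h1 with hf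
  haveI : Finite f.range := Finite.of_surjective f.rangeRestrict f.rangeRestrict_surjective
  obtain ⟨g, hg⟩ := IsCyclic.exists_generator (α := f.range)
  obtain ⟨v₀, hv₀⟩ := g.2
  refine ⟨v₀, fun v => ?_⟩
  have hmem : (⟨f v, v, rfl⟩ : f.range) ∈ Subgroup.zpowers g := hg _
  rw [← mem_powers_iff_mem_zpowers] at hmem
  obtain ⟨k, hk⟩ := hmem
  refine ⟨k, ?_⟩
  have h2 : ((g : ℂˣ) : ℂ) ^ k = ((f v : ℂˣ) : ℂ) := by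
    have := congrArg (fun x : f.range => ((x : ℂˣ) : ℂ)) hk
    simpa using this
  rw [← hv₀, hf, linearCharHom_apply, linearCharHom_apply] at h2
  exact h2.symm

section amb

variable {Γ : Type u} [Group Γ] [Finite Γ]

/-- LSTEP, with the statement of QSTEP as a hypothesis. -/
theorem card_rh_eq_of_qstep
    (hq : ∀ (ρ : Prop) (n : ℕ) (hIH : MainAt.{u} ρ n) (H P N M : Subgroup Γ)
      (hcard : Nat.card H ≤ n * Nat.card M) (hsolv : Group.IsSolvable H) (hPH : P ≤ H)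
      (hP : IsPGroup 2 P) (hsyl : ¬ 2 ∣ P.relIndex H) (hN : IsNormIn H P N) (hflag : ρ ∨ N = P)
      (hMH : M ≤ H) (hMn : ∀ h ∈ H, ∀ m ∈ M, h * m * h⁻¹ ∈ M)
      (hM : Odd (Nat.card M) ∨ M ≤ P)
      (z : Γ) (hzH : z ∈ H) (hzN : z ∈ N) (hzc : ∀ h ∈ H, h * z * h⁻¹ * z⁻¹ ∈ M)
      (hz2 : ∃ k : ℕ, z ^ 2 ^ k = 1) (ζ : ℂ),
      Nat.card {χ : IrrCharacter ↥H // χ ∈ CC ρ ↥H ⟨z, hzH⟩ ζ ∧
          ∀ m : ↥H, (m : Γ) ∈ M → (χ : ↥H → ℂ) m = (χ : ↥H → ℂ) 1} =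
        Nat.card {ξ : IrrCharacter ↥N // ξ ∈ CC ρ ↥N ⟨z, hzN⟩ ζ ∧
          ∀ m : ↥N, (m : Γ) ∈ M → (ξ : ↥N → ℂ) m = (ξ : ↥N → ℂ) 1})
    (ρ : Prop) (n : ℕ) (hIH : MainAt.{u} ρ n) (T P T₂ V L : Subgroup Γ)
    (hsolv : Group.IsSolvable T) (hVP : V ≤ P) (hPT : P ≤ T) (hP : IsPGroup 2 P)
    (hsyl : ¬ 2 ∣ P.relIndex T) (hN : IsNormIn T P T₂) (hflag : ρ ∨ T₂ = P)
    (hVn : ∀ t ∈ T, ∀ v ∈ V, t * v * t⁻¹ ∈ V) (μ : IrrCharacter ↥V)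
    (hμ1 : (μ : ↥V → ℂ) 1 = 1) (hμT : ∀ t ∈ T, InvUnder V t (μ : ↥V → ℂ))
    (hL : ∀ v : ↥V, (v : Γ) ∈ L ↔ (μ : ↥V → ℂ) v = 1) (hLV : L ≤ V)
    (hcard : Nat.card T ≤ n * Nat.card L) (hPT₂ : P ≤ T₂) :
    Nat.card (RH ρ (hVP.trans hPT) (μ : ↥V → ℂ)) =
      Nat.card (RH ρ (hVP.trans hPT₂) (μ : ↥V → ℂ)) := by
  have hμc : IsCharacter ↥V (μ : ↥V → ℂ) := isCharacter_of_irr μ.2
  obtain ⟨w₀, hgen⟩ := ro_exists_gen_of_linear hμc hμ1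
  obtain ⟨v₀, hv₀⟩ : ∃ v₀ : Γ, ∃ h : v₀ ∈ V, w₀ = ⟨v₀, h⟩ := ⟨w₀.1, w₀.2, rfl⟩
  obtain ⟨hv₀V, rfl⟩ := hv₀
  have hmul := linear_char_mul hμc hμ1
  -- `L` is normalized by `T`
  have hLn : ∀ t ∈ T, ∀ m ∈ L, t * m * t⁻¹ ∈ L := by
    intro t ht m hm
    have hmV : m ∈ V := hLV hm
    have h1 : t * m * t⁻¹ ∈ V := hVn t ht m hmV
    have h2 := hμT t ht ⟨m, hmV⟩ ⟨t * m * t⁻¹, h1⟩ rfl
    have h3 : (μ : ↥V → ℂ) ⟨m, hmV⟩ = 1 := (hL ⟨m, hmV⟩).mp hm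
    exact (hL ⟨t * m * t⁻¹, h1⟩).mpr (by rw [h2, h3])
  -- the commutators `[t, v₀]` lie in `L`
  have hzc : ∀ t ∈ T, t * v₀ * t⁻¹ * v₀⁻¹ ∈ L := by
    intro t ht
    have h1 : t * v₀ * t⁻¹ ∈ V := hVn t ht v₀ hv₀V
    have h2 := hμT t ht ⟨v₀, hv₀V⟩ ⟨t * v₀ * t⁻¹, h1⟩ rfl
    have h3 : t * v₀ * t⁻¹ * v₀⁻¹ ∈ V := V.mul_mem h1 (V.inv_mem hv₀V)
    apply (hL ⟨t * v₀ * t⁻¹ * v₀⁻¹, h3⟩).mpr
    have e : (⟨t * v₀ * t⁻¹ * v₀⁻¹, h3⟩ : ↥V) = ⟨t * v₀ * t⁻¹, h1⟩ * (⟨v₀, hv₀V⟩ : ↥V)⁻¹ := rfl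
    rw [e, hmul, h2, ← hmul, mul_inv_cancel, hμ1]
  -- `v₀` is a 2-element
  have hz2 : ∃ k : ℕ, v₀ ^ 2 ^ k = 1 := by
    obtain ⟨k, hk⟩ := hP ⟨v₀, hVP hv₀V⟩
    exact ⟨k, by simpa using congrArg Subtype.val hk⟩
  have hVT : V ≤ T := hVP.trans hPT
  have hVT₂ : V ≤ T₂ := hVP.trans hPT₂
  have key := hq ρ n hIH T P T₂ L hcard hsolv hPT hP hsyl hN hflag (hLV.trans hVT) hLn
    (Or.inr (hLV.trans hVP)) v₀ (hVT hv₀V) (hVT₂ hv₀V) hzc hz2 ((μ : ↥V → ℂ) ⟨v₀, hv₀V⟩)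
  have e1 : Nat.card (RH ρ hVT (μ : ↥V → ℂ)) =
      Nat.card {χ : IrrCharacter ↥T // χ ∈ CC ρ ↥T ⟨v₀, hVT hv₀V⟩ ((μ : ↥V → ℂ) ⟨v₀, hv₀V⟩) ∧
        ∀ m : ↥T, (m : Γ) ∈ L → (χ : ↥T → ℂ) m = (χ : ↥T → ℂ) 1} :=
    Nat.card_congr (Equiv.subtypeEquivRight
      (fun η => mem_rh_iff ρ T V L hVT μ hμ1 hL hLV v₀ hv₀V hgen η))
  have e2 : Nat.card (RH ρ hVT₂ (μ : ↥V → ℂ)) =
      Nat.card {χ : IrrCharacter ↥T₂ // χ ∈ CC ρ ↥T₂ ⟨v₀, hVT₂ hv₀V⟩ ((μ : ↥V → ℂ) ⟨v₀, hv₀V⟩) ∧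
        ∀ m : ↥T₂, (m : Γ) ∈ L → (χ : ↥T₂ → ℂ) m = (χ : ↥T₂ → ℂ) 1} :=
    Nat.card_congr (Equiv.subtypeEquivRight
      (fun η => mem_rh_iff ρ T₂ V L hVT₂ μ hμ1 hL hLV v₀ hv₀V hgen η))
  rw [e1, e2]
  exact key

end amb

end Cfsg.Agent.Lib.H18.RO
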