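import Mathlib
import Cfsg.Agent.Lib.H4.ReeSpecDefs
import Cfsg.Agent.Lib.H16.PGL2SpecB

set_option autoImplicit false

namespace Cfsg.Agent.Lib.H18.RS

open Matrix Cfsg.Agent.Lib.H4.ReeSpec

variable {K : Type*} [Field K] [CharP K 3]

theorem rs_two_ne_zero : (2 : K) ≠ 0 := by
  intro h
  have h2 : ((2 : ℕ) : K) = 0 := by exact_mod_cast h
  rw [CharP.cast_eq_zero_iff K 3] at h2
  omega

/-- INV: in characteristic `3` the only elements of `SL(2,K)` with square `1` are `±1`. -/
theorem sl2_sq_eq_one (A : Matrix.SpecialLinearGroup (Fin 2) K) (h : A ^ 2 = 1) : A = 1 ∨ A = -1 := by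
  have hdet := A.2
  rw [Matrix.det_fin_two] at hdet
  have h2 : (A : M2 K) * (A : M2 K) = 1 := by
    have := congrArg (fun X : Matrix.SpecialLinearGroup (Fin 2) K => (X : M2 K)) h
    simpa [pow_two] using this
  have e00 := congrFun (congrFun h2 0) 0
  have e01 := congrFun (congrFun h2 0) 1
  have e10 := congrFun (congrFun h2 1) 0
  have e11 := congrFun (congrFun h2 1) 1
  simp only [Matrix.mul_apply, Fin.sum_univ_two, Matrix.one_apply_eq, Matrix.one_apply_ne,
    ne_eq, zero_ne_one, one_ne_zero, not_false_eq_true, Fin.isValue] at e00 e01 e10 e11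
  have h20 : (2 : K) ≠ 0 := rs_two_ne_zero
  set a := (A : M2 K) 0 0 with ha
  set b := (A : M2 K) 0 1 with hb
  set c := (A : M2 K) 1 0 with hc
  set d := (A : M2 K) 1 1 with hd
  by_cases hs : a + d = 0
  · exfalso
    apply h20
    have hd' : d = -a := by linear_combination hs
    rw [hd'] at hdet e11
    linear_combination -e00 - hdet
  · have hb0 : b = 0 := by
      have : b * (a + d) = 0 := by linear_combination e01
      rcases mul_eq_zero.mp this with h | h
      · exact h
      · exact absurd h hs
    have hc0 : c = 0 := by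
      have : c * (a + d) = 0 := by linear_combination e10
      rcases mul_eq_zero.mp this with h | h
      · exact h
      · exact absurd h hs
    rw [hb0, hc0] at hdet e00 e11
    have had : a = d := by
      have : (a - d) * (a + d) = 0 := by linear_combination e00 - e11
      rcases mul_eq_zero.mp this with h | h
      · linear_combination h
      · exact absurd h hs
    have ha2 : (a - 1) * (a + 1) = 0 := by linear_combination e00
    rcases mul_eq_zero.mp ha2 with h1 | h1
    · left
      have ha1 : a = 1 := by linear_combination h1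
      apply Subtype.ext
      ext i j
      fin_cases i <;> fin_cases j
      · show (A : M2 K) 0 0 = (1 : M2 K) 0 0
        rw [Matrix.one_apply_eq]; exact ha1
      · show (A : M2 K) 0 1 = (1 : M2 K) 0 1
        rw [Matrix.one_apply_ne (by decide)]; exact hb0
      · show (A : M2 K) 1 0 = (1 : M2 K) 1 0
        rw [Matrix.one_apply_ne (by decide)]; exact hc0
      · show (A : M2 K) 1 1 = (1 : M2 K) 1 1
        rw [Matrix.one_apply_eq, ← hd, ← had]; exact ha1
    · right
      have ha1 : a = -1 := by linear_combination h1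
      apply Subtype.ext
      rw [Matrix.SpecialLinearGroup.coe_neg, Matrix.SpecialLinearGroup.coe_one]
      ext i j
      fin_cases i <;> fin_cases j
      · show (A : M2 K) 0 0 = (-(1 : M2 K)) 0 0
        rw [Matrix.neg_apply, Matrix.one_apply_eq]; exact ha1
      · show (A : M2 K) 0 1 = (-(1 : M2 K)) 0 1
        rw [Matrix.neg_apply, Matrix.one_apply_ne (by decide), neg_zero]; exact hb0
      · show (A : M2 K) 1 0 = (-(1 : M2 K)) 1 0
        rw [Matrix.neg_apply, Matrix.one_apply_ne (by decide), neg_zero]; exact hc0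
      · show (A : M2 K) 1 1 = (-(1 : M2 K)) 1 1
        rw [Matrix.neg_apply, Matrix.one_apply_eq, ← hd, ← had]; exact ha1

/-- SL2: every `A ∈ SL(2,K)`, `|K| = q`, satisfies `A³ = ±1` or `A^(q-1) = 1` or `A^(q+1) = 1`. -/
theorem sl2_cases [Fintype K] (A : Matrix.SpecialLinearGroup (Fin 2) K) :
    A ^ 3 = 1 ∨ A ^ 3 = -1 ∨ A ^ (Fintype.card K - 1) = 1 ∨ A ^ (Fintype.card K + 1) = 1 := by
  have hdet : (A : M2 K).det = 1 := A.2
  have hdet0 : (A : M2 K).det ≠ 0 := by rw [hdet]; exact one_ne_zero
  rcases Cfsg.Agent.Lib.H16.PGL2Spec.pow_scalar_cases 3 (A : M2 K) hdet0 with ⟨c, hc⟩ | h | h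
  · have hc2 : c * c = 1 := by
      have h1 : ((A : M2 K) ^ 3).det = 1 := by rw [Matrix.det_pow, hdet, one_pow]
      rw [hc, Matrix.det_smul, Matrix.det_one, Fintype.card_fin, mul_one] at h1
      rw [← pow_two]; exact h1
    have hc' : (c - 1) * (c + 1) = 0 := by linear_combination hc2
    rcases mul_eq_zero.mp hc' with h1 | h1
    · left
      have : c = 1 := by linear_combination h1
      apply Subtype.ext
      rw [Matrix.SpecialLinearGroup.coe_pow, hc, this, one_smul, Matrix.SpecialLinearGroup.coe_one]
    · right; left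
      have : c = -1 := by linear_combination h1
      apply Subtype.ext
      rw [Matrix.SpecialLinearGroup.coe_pow, hc, this, Matrix.SpecialLinearGroup.coe_neg,
        Matrix.SpecialLinearGroup.coe_one, neg_smul, one_smul]
  · right; right; left
    apply Subtype.ext
    rw [Matrix.SpecialLinearGroup.coe_pow, h, Matrix.SpecialLinearGroup.coe_one]
  · right; right; right
    apply Subtype.ext
    rw [Matrix.SpecialLinearGroup.coe_pow, h, hdet, one_smul, Matrix.SpecialLinearGroup.coe_one]

end Cfsg.Agent.Lib.H18.RS
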