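import Mathlib
import Cfsg.Agent.Lib.H4.ReeSpecDefs

set_option autoImplicit false

namespace Cfsg.Agent.Lib.H18.RS

open Matrix Cfsg.Agent.Lib.H4.ReeSpec

variable {K : Type*} [Field K] [CharP K 3]

theorem finite_Y [Finite K] : Finite (Y K) := by
  have h1 : Finite (W K) := by
    have : Finite (M2 K) := inferInstance
    exact Finite.of_equiv (M2 K) Multiplicative.ofAdd
  have h2 : Finite (MulAut (W K)) := by
    apply Finite.of_injective (fun f : MulAut (W K) => (f : W K → W K))
    intro f g hfg
    exact MulEquiv.ext (fun x => congrFun hfg x)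
  have h3 : Finite (Mq K) := inferInstance
  exact Finite.of_equiv (W K × Mq K) SemidirectProduct.equivProd.symm

theorem rs_three_nsmul (X : M2 K) : (3 : ℕ) • X = 0 := by
  have h3 : ((3 : ℕ) : K) = 0 := (CharP.cast_eq_zero_iff K 3 3).mpr (dvd_refl 3)
  ext i j
  rw [Matrix.smul_apply, nsmul_eq_mul, h3, zero_mul, Matrix.zero_apply]

theorem rs_W_pow_three (w : W K) : w ^ 3 = 1 := by
  show Multiplicative.ofAdd ((3 : ℕ) • Multiplicative.toAdd w) = 1
  rw [rs_three_nsmul]
  rfl

/-- V: `W` is a nontrivial normal elementary abelian `3`-subgroup of `Y`. -/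
theorem inl_range_props :
    ((SemidirectProduct.inl : W K →* Y K).range).Normal ∧
      (SemidirectProduct.inl : W K →* Y K).range ≠ ⊥ ∧
      (∀ x y : (SemidirectProduct.inl : W K →* Y K).range, x * y = y * x) ∧
      (∀ x : (SemidirectProduct.inl : W K →* Y K).range, x ^ 3 = 1) := by
  refine ⟨?_, ?_, ?_, ?_⟩
  · rw [SemidirectProduct.range_inl_eq_ker_rightHom]
    infer_instance
  · intro h
    set E : M2 K := Matrix.of ![![1, 0], ![0, 0]] with hE
    have hE0 : E ≠ 0 := by
      intro h0
      have := congrFun (congrFun h0 0) 0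
      simp [hE] at this
    have hmem : (SemidirectProduct.inl (Multiplicative.ofAdd E) : Y K) ∈
        (SemidirectProduct.inl : W K →* Y K).range := ⟨_, rfl⟩
    rw [h, Subgroup.mem_bot] at hmem
    have h1 : (Multiplicative.ofAdd E : W K) = 1 := by
      apply SemidirectProduct.inl_injective (φ := (Mq K).subtype)
      rw [hmem, map_one]
    apply hE0
    exact h1
  · rintro ⟨_, a, rfl⟩ ⟨_, b, rfl⟩
    apply Subtype.ext
    show SemidirectProduct.inl a * SemidirectProduct.inl b =
      (SemidirectProduct.inl b * SemidirectProduct.inl a : Y K)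
    rw [← map_mul, ← map_mul, mul_comm]
  · rintro ⟨_, a, rfl⟩
    apply Subtype.ext
    show (SemidirectProduct.inl a : Y K) ^ 3 = 1
    rw [← map_pow, rs_W_pow_three, map_one]

end Cfsg.Agent.Lib.H18.RS
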