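import Mathlib
import Cfsg.Agent.Lib.H4.ReeSpecDefs
import Cfsg.Agent.Lib.H16.PGL2SpecA
import Cfsg.Agent.Lib.H18.RSINV
import Cfsg.Agent.Lib.H22.RSKER

set_option autoImplicit false

namespace Cfsg.Agent.Lib.H18.RS

open Matrix Cfsg.Agent.Lib.H4.ReeSpec

variable {K : Type*} [Field K] [CharP K 3]

theorem rs_rhoM_pow (ε : ℤˣ) (A : Matrix.SpecialLinearGroup (Fin 2) K) (n : ℕ) :
    (rhoM K (ε, A)) ^ n = rhoM K (ε ^ n, A ^ n) := by
  rw [← map_pow, Prod.pow_mk]

theorem rs_rhoM_eq_one_iff (g : G0 K) : rhoM K g = 1 ↔ rho K g = 1 := by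
  constructor
  · intro h
    have := congrArg (fun x : Mq K => (x : MulAut (W K))) h
    simpa using this
  · intro h
    apply Subtype.ext
    simpa using h

/-- WB: `⟨0, ρ(1, A)⟩`, `A ∈ SL(2,K)` of order `q + 1`, has order `(q + 1)/2`. -/
theorem exists_orderOf_half_succ [Fintype K] {m : ℕ} (hK : Fintype.card K = 3 ^ (2 * m + 1)) :
    ∃ y : Y K, orderOf y = (3 ^ (2 * m + 1) + 1) / 2 := by
  obtain ⟨A, hA⟩ := Cfsg.Agent.Lib.H16.PGL2Spec.exists_sl2_orderOf_card_succ (F := K)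
  rw [hK] at hA
  set q : ℕ := 3 ^ (2 * m + 1) with hq
  have hqodd : q % 2 = 1 := by
    rw [hq, Nat.pow_mod]; norm_num
  set n0 : ℕ := (q + 1) / 2 with hn0
  have h2n0 : 2 * n0 = q + 1 := by omega
  have hn0pos : 0 < n0 := by omega
  have hneg1sq : (-1 : Matrix.SpecialLinearGroup (Fin 2) K) ^ 2 = 1 := by
    apply Subtype.ext
    simp
  -- `A ^ n0 = -1`
  have hAn0 : A ^ n0 = -1 := by
    have hsq : (A ^ n0) ^ 2 = 1 := by
      rw [← pow_mul, mul_comm, h2n0, ← hA, pow_orderOf_eq_one]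
    rcases sl2_sq_eq_one (A ^ n0) hsq with h | h
    · exfalso
      have hdvd : orderOf A ∣ n0 := orderOf_dvd_of_pow_eq_one h
      rw [hA] at hdvd
      have := Nat.le_of_dvd hn0pos hdvd
      omega
    · exact h
  set x : Mq K := rhoM K (1, A) with hx
  have hxn0 : x ^ n0 = 1 := by
    rw [hx, rs_rhoM_pow, one_pow, hAn0, rs_rhoM_eq_one_iff]
    exact Cfsg.Agent.Lib.H22.RS.rho_neg_one
  have hdvd_of : ∀ n : ℕ, x ^ n = 1 → n0 ∣ n := by
    intro n hn
    rw [hx, rs_rhoM_pow, one_pow, rs_rhoM_eq_one_iff] at hn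
    have h1 := (Cfsg.Agent.Lib.H22.RS.rho_eq_one _ hn).2
    have hA2n : A ^ (2 * n) = 1 := by
      rw [mul_comm, pow_mul]
      rcases h1 with h | h
      · have h' : A ^ n = 1 := h
        rw [h', one_pow]
      · have h' : A ^ n = -1 := h
        rw [h', hneg1sq]
    have hd : orderOf A ∣ 2 * n := orderOf_dvd_of_pow_eq_one hA2n
    rw [hA, ← h2n0] at hd
    exact (Nat.mul_dvd_mul_iff_left (by norm_num)).mp hd
  have hord : orderOf x = n0 := by
    apply Nat.dvd_antisymm (orderOf_dvd_of_pow_eq_one hxn0)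
    exact hdvd_of _ (pow_orderOf_eq_one x)
  refine ⟨SemidirectProduct.inr x, ?_⟩
  rw [orderOf_injective (SemidirectProduct.inr : Mq K →* Y K) SemidirectProduct.inr_injective x]
  exact hord

end Cfsg.Agent.Lib.H18.RS
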