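import Mathlib
import Cfsg.Prelude.Def_RootSubgroups
import Cfsg.Agent.Lib.H6.RootInv6

set_option autoImplicit false

/-! Root involutions (Timmesfeld), helper18: elementary three-generator lemmas.

* `p1`: if `a ∈ D` commutes with `b ≠ 1`, `a * b ∈ D` and `x` is an odd partner of `a`, then `x`
  does not commute with `b`.
* `l1_pure`: a pure group lemma on a four-group `⟨a, b⟩` and an involution `x`.
* `step`: the commutator step used to build an abelian normal subgroup. -/

open Cfsg

namespace Cfsg.Agent.Lib.H18.RootInvA

open Cfsg.Agent.Lib.H6.RootInv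

variable {G : Type*} [Group G] {D : Set G}

/-- An odd partner of `a` differs from `a` and has product of odd order; hence the fourth power of
the product is not one. -/
theorem pow_four_ne_of_adj (hD : IsRootInvolutionSet D) {a x : G} (h : OddAdj D a x) :
    (a * x) ^ 4 ≠ 1 := by
  intro h4
  have h1 := eq_one_of_odd_of_pow_two_pow h.2.2.2 2 (by simpa using h4)
  apply h.2.2.1
  have hx : x = a⁻¹ := by
    calc x = a⁻¹ * (a * x) := by group
      _ = a⁻¹ := by rw [h1, mul_one]
  rw [hx, inv_eq hD h.1]

theorem oddAdj_iff_pow_four (hD : IsRootInvolutionSet D) {a x : G} (ha : a ∈ D) (hx : x ∈ D) :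
    OddAdj D a x ↔ (a * x) ^ 4 ≠ 1 :=
  ⟨pow_four_ne_of_adj hD, adj_of_pow_four_ne hD ha hx⟩

/-- **P1.** -/
theorem p1 (hD : IsRootInvolutionSet D) {a b x : G} (ha : a ∈ D) (hab : a * b = b * a)
    (hb1 : b ≠ 1) (hc : a * b ∈ D) (hax : OddAdj D a x) (hxb : x * b = b * x) : False := by
  have haa := mul_self hD ha
  have hbb : b * b = 1 := by
    have h := mul_self hD hc
    have : a * b * (a * b) = a * a * (b * b) := by
      calc a * b * (a * b) = a * (b * a) * b := by group
        _ = a * (a * b) * b := by rw [hab]
        _ = a * a * (b * b) := by group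
    rw [this, haa, one_mul] at h
    exact h
  have hx : x ∈ D := hax.2.1
  have hcomm : Commute b (a * x) := by
    show b * (a * x) = a * x * b
    calc b * (a * x) = (b * a) * x := by group
      _ = a * b * x := by rw [hab]
      _ = a * (b * x) := by group
      _ = a * (x * b) := by rw [hxb]
      _ = a * x * b := by group
  have hcx : a * b * x = b * (a * x) := by
    calc a * b * x = (a * b) * x := rfl
      _ = (b * a) * x := by rw [hab]
      _ = b * (a * x) := by group
  have hb2 : b ^ 2 = 1 := by rw [pow_two, hbb]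
  by_cases hadj : OddAdj D (a * b) x
  · -- odd order n of c x
    obtain ⟨r, hr⟩ := hadj.2.2.2
    have h1 : (b * (a * x)) ^ (2 * r + 1) = 1 := by
      rw [← hcx, ← hr]; exact pow_orderOf_eq_one _
    rw [hcomm.mul_pow, pow_succ, pow_mul, hb2, one_pow, one_mul] at h1
    -- b * (a x)^n = 1
    have h2 : ((a * x) ^ (2 * r + 1)) ^ 2 = 1 := by
      have : (a * x) ^ (2 * r + 1) = b⁻¹ := by
        exact eq_inv_of_mul_eq_one_right h1
      rw [this, inv_pow, hb2, inv_one]
    have h3 : (a * x) ^ (2 * r + 1) = 1 := by
      have hodd : Odd (orderOf ((a * x) ^ (2 * r + 1))) :=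
        Odd.of_dvd_nat hax.2.2.2 (orderOf_pow_dvd _)
      exact eq_one_of_odd_of_pow_two_pow hodd 1 (by simpa using h2)
    rw [h3, mul_one] at h1
    exact hb1 h1
  · have h4 := pow_four_of_not_adj hD hc hx hadj
    rw [hcx, hcomm.mul_pow] at h4
    have hb4 : b ^ 4 = 1 := by
      rw [show (4 : ℕ) = 2 * 2 from rfl, pow_mul, hb2, one_pow]
    rw [hb4, one_mul] at h4
    exact pow_four_ne_of_adj hD hax h4

/-- **L1**, pure group form: `a, b` commuting involutions, `x` an involution with `a x` of odd
order and `(b x)^4 = (a b x)^4 = 1`; then `a x = 1`. -/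
theorem l1_pure {a b x : G} (ha : a * a = 1) (hb : b * b = 1) (hx : x * x = 1)
    (hab : a * b = b * a) (hodd : Odd (orderOf (a * x))) (h1 : (b * x) ^ 4 = 1)
    (h2 : (a * b * x) ^ 4 = 1) : a * x = 1 := by
  have hainv : a⁻¹ = a := inv_eq_of_mul_eq_one_left ha
  have hbinv : b⁻¹ = b := inv_eq_of_mul_eq_one_left hb
  have hxinv : x⁻¹ = x := inv_eq_of_mul_eq_one_left hx
  -- x commutes with b x b and with (ab) x (ab)
  have h1' : (x * b) ^ 4 = 1 := by
    have : x * b = (b * x)⁻¹ := by rw [mul_inv_rev, hbinv, hxinv]
    rw [this, inv_pow, h1, inv_one]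
  have hc1 : Commute x (b * x * b) := by
    have := commute_conj_of_pow_four hx hb h1'
    rwa [hbinv] at this
  have habab : a * b * (a * b) = 1 := by
    calc a * b * (a * b) = a * (b * a) * b := by group
      _ = a * (a * b) * b := by rw [hab]
      _ = (a * a) * (b * b) := by group
      _ = 1 := by rw [ha, hb, one_mul]
  have habinv : (a * b)⁻¹ = a * b := inv_eq_of_mul_eq_one_left habab
  have h2' : (x * (a * b)) ^ 4 = 1 := by
    have : x * (a * b) = (a * b * x)⁻¹ := by rw [mul_inv_rev, habinv, hxinv]
    rw [this, inv_pow, h2, inv_one]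
  have hc2 : Commute x (a * b * x * (a * b)) := by
    have := commute_conj_of_pow_four hx habab h2'
    rwa [habinv] at this
  -- conjugate hc2 by b : b x b commutes with a x a
  have hc3 : Commute (b * x * b) (a * x * a) := by
    have := (Commute.conj_iff b).mpr hc2
    rw [hbinv] at this
    have e : b * (a * b * x * (a * b)) * b = a * x * a := by
      calc b * (a * b * x * (a * b)) * b = (b * a) * b * x * a * (b * b) := by group
        _ = (a * b) * b * x * a * (b * b) := by rw [hab]
        _ = a * (b * b) * x * a * (b * b) := by group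
        _ = a * x * a := by rw [hb, mul_one, mul_one]
    rwa [e] at this
  -- (a x)^2 = (a x a) x commutes with b x b
  have hsq : (a * x) ^ 2 = (a * x * a) * x := by rw [pow_two]; group
  have hc4 : Commute ((a * x) ^ 2) (b * x * b) := by
    rw [hsq]
    exact hc3.symm.mul_left hc1
  -- a x is a power of (a x)^2
  obtain ⟨k, hk⟩ := hodd
  have hpow : a * x = ((a * x) ^ 2) ^ (k + 1) := by
    rw [← pow_mul]
    have : 2 * (k + 1) = orderOf (a * x) + 1 := by rw [hk]; ring
    rw [this, pow_succ, pow_orderOf_eq_one, one_mul]
  have hc5 : Commute (a * x) (b * x * b) := by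
    rw [hpow]; exact hc4.pow_left _
  -- hence a commutes with b x b
  have hc6 : a * (b * x * b) = (b * x * b) * a := by
    have h := hc5.eq
    have h' : a * (b * x * b) * x = (b * x * b) * a * x := by
      calc a * (b * x * b) * x = a * ((b * x * b) * x) := by group
        _ = a * (x * (b * x * b)) := by rw [hc1.eq]
        _ = a * x * (b * x * b) := by group
        _ = (b * x * b) * (a * x) := h
        _ = (b * x * b) * a * x := by group
    exact mul_right_cancel h'
  -- so a commutes with x
  have hbab : b * a * b = a := by rw [← hab, mul_assoc, hb, mul_one]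
  have hc7 : a * x = x * a := by
    have h : b * (a * (b * x * b)) * b = b * ((b * x * b) * a) * b := by rw [hc6]
    have e1 : b * (a * (b * x * b)) * b = (b * a * b) * x * (b * b) := by group
    have e2 : b * ((b * x * b) * a) * b = (b * b) * x * (b * a * b) := by group
    rw [e1, e2, hbab, hb, mul_one, one_mul] at h
    exact h
  have hsq1 : (a * x) ^ 2 = 1 := by
    rw [pow_two]
    calc a * x * (a * x) = a * (x * a) * x := by group
      _ = a * (a * x) * x := by rw [hc7]
      _ = (a * a) * (x * x) := by group
      _ = 1 := by rw [ha, hx, one_mul]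
  rw [hpow, hsq1, one_pow]

end Cfsg.Agent.Lib.H18.RootInvA
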