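import Mathlib
import Cfsg.Prelude.Def_RootSubgroups
import Cfsg.Agent.Lib.H18.RootInvA1

set_option autoImplicit false

/-! Root involutions (Timmesfeld), helper18: the commutator step and the abelian normal subgroup
generated by the conjugates of `b` under `⟨a, x⟩`, where `a x` has odd order, `b` commutes with `a`
and `x b` has order 4. -/

open Cfsg

namespace Cfsg.Agent.Lib.H18.RootInvA

open Cfsg.Agent.Lib.H6.RootInv

variable {G : Type*} [Group G] {D : Set G}

/-- Order four gives a nontrivial square in `D`. -/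
theorem sq_mem_of_order_four (hD : IsRootInvolutionSet D) {s u : G} (hs : s ∈ D) (hu : u ∈ D)
    (h4 : orderOf (s * u) = 4) : (s * u) ^ 2 ∈ D := by
  rcases hD.pair s hs u hu with h | h | h
  · exfalso
    have : (s * u) ^ 2 = 1 := by
      rw [pow_two]
      calc s * u * (s * u) = s * (u * s) * u := by group
        _ = s * (s * u) * u := by rw [h]
        _ = (s * s) * (u * u) := by group
        _ = 1 := by rw [mul_self hD hs, mul_self hD hu, one_mul]
    have hd := orderOf_dvd_of_pow_eq_one this
    rw [h4] at hd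
    omega
  · exfalso
    rw [h4] at h
    exact absurd h (by decide)
  · exact h.2

theorem sq_ne_one_of_order_four {g : G} (h4 : orderOf g = 4) : g ^ 2 ≠ 1 := by
  intro h
  have hd := orderOf_dvd_of_pow_eq_one h
  rw [h4] at hd
  omega

theorem pow_four_of_order_four {g : G} (h4 : orderOf g = 4) : g ^ 4 = 1 := by
  rw [← h4]; exact pow_orderOf_eq_one g

/-- If `(s u)^4 = 1` and `(s u)^2 ≠ 1` then the order is 4. -/
theorem order_four_of {g : G} (h4 : g ^ 4 = 1) (h2 : g ^ 2 ≠ 1) : orderOf g = 4 := by
  have hd : orderOf g ∣ 2 ^ 2 := orderOf_dvd_of_pow_eq_one (by simpa using h4)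
  obtain ⟨k, hk, hk2⟩ := (Nat.dvd_prime_pow Nat.prime_two).1 hd
  interval_cases k
  · exfalso; apply h2
    have : g = 1 := orderOf_eq_one_iff.mp (by simpa using hk2)
    rw [this, one_pow]
  · exfalso; apply h2
    rw [← show orderOf g = 2 by simpa using hk2]; exact pow_orderOf_eq_one g
  · simpa using hk2

/-- **The commutator step.** -/
theorem step (hD : IsRootInvolutionSet D) {s s' u : G} (hss : OddAdj D s s') (hu : u ∈ D)
    (hus : u * s = s * u) (h4 : orderOf (s' * u) = 4) :
    (s' * u) ^ 2 ∈ D ∧ (s' * u) ^ 2 * s' = s' * (s' * u) ^ 2 ∧ (s' * u) ^ 2 * u = u * (s' * u) ^ 2 ∧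
      orderOf (s * (s' * u) ^ 2) = 4 := by
  have hs : s ∈ D := hss.1
  have hs' : s' ∈ D := hss.2.1
  have hs's' := mul_self hD hs'
  have huu := mul_self hD hu
  have hss_ := mul_self hD hs
  set v := (s' * u) ^ 2 with hv
  have hvD : v ∈ D := sq_mem_of_order_four hD hs' hu h4
  have hv1 : v ≠ 1 := sq_ne_one_of_order_four h4
  have hvv : v * v = 1 := by
    rw [hv, ← pow_add]; exact pow_four_of_order_four h4
  have hvexp : v = s' * u * s' * u := by rw [hv, pow_two]; group
  have hvinv : v⁻¹ = v := inv_eq_of_mul_eq_one_left hvv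
  -- v commutes with s'
  have hvs' : v * s' = s' * v := by
    have h1 : s' * v * s' = v⁻¹ := by
      rw [hvexp, mul_inv_rev, mul_inv_rev, mul_inv_rev, inv_eq hD hs', inv_eq hD hu]
      calc s' * (s' * u * s' * u) * s' = (s' * s') * u * s' * u * s' := by group
        _ = u * s' * u * s' := by rw [hs's', one_mul]
        _ = u * (s' * (u * s')) := by group
    rw [hvinv] at h1
    calc v * s' = (s' * s') * v * s' := by rw [hs's', one_mul]
      _ = s' * (s' * v * s') := by group
      _ = s' * v := by rw [h1]
  have hvu : v * u = u * v := by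
    have h1 : u * v * u = v⁻¹ := by
      rw [hvexp, mul_inv_rev, mul_inv_rev, mul_inv_rev, inv_eq hD hs', inv_eq hD hu]
      calc u * (s' * u * s' * u) * u = u * s' * u * s' * (u * u) := by group
        _ = u * s' * u * s' := by rw [huu, mul_one]
        _ = u * (s' * (u * s')) := by group
    rw [hvinv] at h1
    calc v * u = (u * u) * v * u := by rw [huu, one_mul]
      _ = u * (u * v * u) := by group
      _ = u * v := by rw [h1]
  refine ⟨hvD, hvs', hvu, ?_⟩
  -- s' * v ∈ D and u * v ∈ D
  have hs'v : s' * v ∈ D := by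
    have : s' * v = u * s' * u := by
      rw [hvexp]
      calc s' * (s' * u * s' * u) = (s' * s') * u * s' * u := by group
        _ = u * s' * u := by rw [hs's', one_mul]
    rw [this]; exact conj_mem' hD hs' hu
  have hvu' : v * u ∈ D := by
    have : v * u = s' * u * s' := by
      rw [hvexp]
      calc s' * u * s' * u * u = s' * u * s' * (u * u) := by group
        _ = s' * u * s' := by rw [huu, mul_one]
    rw [this]; exact conj_mem' hD hu hs'
  -- s does not commute with v
  have hnc : ¬ (s * v = v * s) := by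
    intro hc
    exact p1 hD hs' hvs'.symm hv1 hs'v (oddAdj_symm hD hss) hc
  -- s is not an odd partner of v
  have hnadj : ¬ OddAdj D v s := by
    intro hadj
    exact p1 hD hvD hvu (ne_one hD hu) hvu' hadj hus.symm
  have hnadj' : ¬ OddAdj D s v := fun h => hnadj (oddAdj_symm hD h)
  have h44 := pow_four_of_not_adj hD hs hvD hnadj'
  apply order_four_of h44
  intro h2
  apply hnc
  -- (s v)^2 = 1 gives commuting
  have : s * v * (s * v) = 1 := by rw [← pow_two]; exact h2
  calc s * v = s * v * (s * v) * (v⁻¹ * s⁻¹) := by group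
    _ = v⁻¹ * s⁻¹ := by rw [this, one_mul]
    _ = v * s := by rw [hvinv, inv_eq hD hs]

end Cfsg.Agent.Lib.H18.RootInvA
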