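import Mathlib
import Cfsg.Prelude.Def_RootSubgroups
import Cfsg.Agent.Lib.H18.RootInvA2

set_option autoImplicit false

/-! Root involutions (Timmesfeld), helper18: if `a x` has odd order, `b ∈ D` commutes with `a` and
`x b` has order four, then the conjugates of `b` under `⟨a, x⟩` generate an elementary abelian
2-group normalized by `a` and `x`. -/

open Cfsg

namespace Cfsg.Agent.Lib.H18.RootInvA

open Cfsg.Agent.Lib.H6.RootInv

variable {G : Type*} [Group G] {D : Set G}

/-- The alternating sequence `a, x, a, x, …`. -/
def sgen (a x : G) (k : ℕ) : G := if Even k then a else x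

theorem sgen_add_two (a x : G) (k : ℕ) : sgen a x (k + 2) = sgen a x k := by
  unfold sgen
  have : Even (k + 2) ↔ Even k := by
    rw [Nat.even_add]; simp
  simp only [this]

theorem sgen_adj (hD : IsRootInvolutionSet D) {a x : G} (hax : OddAdj D a x) (k : ℕ) :
    OddAdj D (sgen a x k) (sgen a x (k + 1)) := by
  unfold sgen
  by_cases hk : Even k
  · have : ¬ Even (k + 1) := by rw [Nat.even_add_one]; exact not_not.mpr hk
    simp only [hk, this, if_true, if_false]; exact hax
  · have : Even (k + 1) := by rw [Nat.even_add_one]; exact hk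
    simp only [hk, this, if_true, if_false]; exact oddAdj_symm hD hax

theorem sgen_cases (a x : G) (k : ℕ) :
    (sgen a x k = a ∧ sgen a x (k + 1) = x) ∨ (sgen a x k = x ∧ sgen a x (k + 1) = a) := by
  unfold sgen
  by_cases hk : Even k
  · have : ¬ Even (k + 1) := by rw [Nat.even_add_one]; exact not_not.mpr hk
    left; simp only [hk, this, if_true, if_false]; exact ⟨trivial, trivial⟩
  · have : Even (k + 1) := by rw [Nat.even_add_one]; exact hk
    right; simp only [hk, this, if_true, if_false]; exact ⟨trivial, trivial⟩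

theorem sgen_sq (hD : IsRootInvolutionSet D) {a x : G} (hax : OddAdj D a x) (k : ℕ) :
    sgen a x k * sgen a x k = 1 := mul_self hD (sgen_adj hD hax k).1

/-- The sequence of iterated commutators. -/
def wseq (a x b : G) : ℕ → G
  | 0 => b
  | k + 1 => (sgen a x (k + 1) * wseq a x b k) ^ 2

section seq

variable (hD : IsRootInvolutionSet D) {a x b : G} (hax : OddAdj D a x) (hb : b ∈ D)
  (hba : b * a = a * b) (h4 : orderOf (x * b) = 4)

include hD hax hb hba h4

theorem wseq_inv (k : ℕ) : wseq a x b k ∈ D ∧
    wseq a x b k * sgen a x k = sgen a x k * wseq a x b k ∧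
    orderOf (sgen a x (k + 1) * wseq a x b k) = 4 ∧
    (k ≠ 0 → wseq a x b k * wseq a x b (k - 1) = wseq a x b (k - 1) * wseq a x b k) := by
  induction k with
  | zero =>
    refine ⟨hb, ?_, ?_, fun h => absurd rfl h⟩
    · show b * sgen a x 0 = sgen a x 0 * b
      have : sgen a x 0 = a := by simp [sgen]
      rw [this]; exact hba
    · show orderOf (sgen a x 1 * b) = 4
      have : sgen a x 1 = x := by simp [sgen]
      rw [this]; exact h4
  | succ k ih =>
    obtain ⟨h1, h2, h3, -⟩ := ih
    have hs := step hD (sgen_adj hD hax k) h1 h2 h3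
    refine ⟨hs.1, hs.2.1, ?_, fun _ => ?_⟩
    · rw [show k + 1 + 1 = k + 2 from rfl, sgen_add_two]; exact hs.2.2.2
    · exact hs.2.2.1

theorem wseq_mem (k : ℕ) : wseq a x b k ∈ D := (wseq_inv hD hax hb hba h4 k).1

theorem wseq_sq (k : ℕ) : wseq a x b k * wseq a x b k = 1 :=
  mul_self hD (wseq_mem hD hax hb hba h4 k)

theorem wseq_conj_same (k : ℕ) : sgen a x k * wseq a x b k * sgen a x k = wseq a x b k := by
  have h := (wseq_inv hD hax hb hba h4 k).2.1
  rw [← h, mul_assoc, sgen_sq hD hax, mul_one]

theorem wseq_comm_succ (k : ℕ) : Commute (wseq a x b k) (wseq a x b (k + 1)) := by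
  have h := (wseq_inv hD hax hb hba h4 (k + 1)).2.2.2 (Nat.succ_ne_zero k)
  exact h.symm

theorem wseq_conj_next (k : ℕ) :
    sgen a x (k + 1) * wseq a x b k * sgen a x (k + 1) = wseq a x b k * wseq a x b (k + 1) := by
  have hs := sgen_sq hD hax (k + 1)
  have hw := wseq_sq hD hax hb hba h4 k
  have e : wseq a x b (k + 1) = sgen a x (k + 1) * wseq a x b k * sgen a x (k + 1) * wseq a x b k := by
    show (sgen a x (k + 1) * wseq a x b k) ^ 2 = _
    rw [pow_two, ← mul_assoc]
  have hc := (wseq_comm_succ hD hax hb hba h4 k).eq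
  rw [hc, e, mul_assoc _ (wseq a x b k) (wseq a x b k), hw, mul_one]

theorem wseq_comm : ∀ d k : ℕ, Commute (wseq a x b k) (wseq a x b (k + d)) := by
  intro d
  induction d using Nat.strong_induction_on with
  | _ d ih =>
    intro k
    match d, ih with
    | 0, _ => exact Commute.refl _
    | 1, _ => exact wseq_comm_succ hD hax hb hba h4 k
    | d + 2, ih =>
      have h1 : Commute (wseq a x b k) (wseq a x b (k + (d + 1))) := ih (d + 1) (by omega) k
      have h0 : Commute (wseq a x b (k + 1)) (wseq a x b (k + (d + 1))) := by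
        have := ih d (by omega) (k + 1)
        rwa [show k + 1 + d = k + (d + 1) by ring] at this
      set s' := sgen a x (k + (d + 1) + 1) with hs'
      set w' := wseq a x b (k + (d + 1)) with hw'
      have hs's' : s' * s' = 1 := sgen_sq hD hax _
      have hs'inv : s'⁻¹ = s' := inv_eq_of_mul_eq_one_left hs's'
      have e : wseq a x b (k + (d + 2)) = s' * w' * s' * w' := by
        show (s' * w') ^ 2 = _
        rw [pow_two, ← mul_assoc]
      rw [e]
      -- s' is sgen k or sgen (k+1)
      have hcases : s' = sgen a x k ∨ s' = sgen a x (k + 1) := by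
        rcases sgen_cases a x k with ⟨h1, h2⟩ | ⟨h1, h2⟩ <;>
        rcases sgen_cases a x (k + (d + 1) + 1) with ⟨h3, _⟩ | ⟨h3, _⟩
        · left; rw [hs', h3, h1]
        · right; rw [hs', h3, h2]
        · right; rw [hs', h3, h2]
        · left; rw [hs', h3, h1]
      have hconj : Commute (s' * wseq a x b k * s') w' := by
        rcases hcases with h | h
        · rw [h, wseq_conj_same hD hax hb hba h4]; exact h1
        · rw [h, wseq_conj_next hD hax hb hba h4]; exact h1.mul_left h0
      have h2 : Commute (wseq a x b k) (s' * w' * s') := by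
        have := (Commute.conj_iff s').mpr hconj
        rw [hs'inv] at this
        have e2 : s' * (s' * wseq a x b k * s') * s' = wseq a x b k := by
          calc s' * (s' * wseq a x b k * s') * s' = (s' * s') * wseq a x b k * (s' * s') := by group
            _ = wseq a x b k := by rw [hs's', one_mul, mul_one]
        rwa [e2] at this
      exact h2.mul_right h1

theorem wseq_comm' (i j : ℕ) : Commute (wseq a x b i) (wseq a x b j) := by
  rcases le_total i j with h | h
  · obtain ⟨d, rfl⟩ := Nat.exists_eq_add_of_le h
    exact wseq_comm hD hax hb hba h4 d i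
  · obtain ⟨d, rfl⟩ := Nat.exists_eq_add_of_le h
    exact (wseq_comm hD hax hb hba h4 d j).symm

end seq

end Cfsg.Agent.Lib.H18.RootInvA
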