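import Mathlib
import Cfsg.Prelude.Def_RootSubgroups
import Cfsg.Agent.Lib.H18.RootInvA3

set_option autoImplicit false

/-! Root involutions (Timmesfeld), helper18: the elementary abelian subgroup `M` generated by the
sequence of iterated commutators, normalized by `a` and `x`. -/

open Cfsg

namespace Cfsg.Agent.Lib.H18.RootInvA

open Cfsg.Agent.Lib.H6.RootInv

variable {G : Type*} [Group G] {D : Set G}

/-- **NM.** If `a x` has odd order (`x ≠ a`), `b ∈ D` commutes with `a` and `x b` has order 4,
then `b` lies in an elementary abelian 2-subgroup normalized by `a` and `x`. -/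
theorem nm (hD : IsRootInvolutionSet D) {a x b : G} (hax : OddAdj D a x) (hb : b ∈ D)
    (hba : b * a = a * b) (h4 : orderOf (x * b) = 4) :
    ∃ M : Subgroup G, b ∈ M ∧ (∀ m ∈ M, m * m = 1) ∧ (∀ m₁ ∈ M, ∀ m₂ ∈ M, m₁ * m₂ = m₂ * m₁) ∧
      (∀ m ∈ M, a * m * a⁻¹ ∈ M) ∧ (∀ m ∈ M, x * m * x⁻¹ ∈ M) := by
  set w := wseq a x b with hw
  set M : Subgroup G := Subgroup.closure (Set.range w) with hM
  have hgen : ∀ k, w k ∈ M := fun k => Subgroup.subset_closure ⟨k, rfl⟩
  have hcomm_gen : ∀ i j, Commute (w i) (w j) := wseq_comm' hD hax hb hba h4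
  -- commutativity
  have hc1 : ∀ m ∈ M, ∀ k, Commute m (w k) := by
    intro m hm k
    induction hm using Subgroup.closure_induction with
    | mem s hs => obtain ⟨i, rfl⟩ := hs; exact hcomm_gen i k
    | one => exact Commute.one_left _
    | mul y z _ _ hy hz => exact hy.mul_left hz
    | inv y _ hy => exact hy.inv_left
  have hc2 : ∀ m₁ ∈ M, ∀ m₂ ∈ M, Commute m₁ m₂ := by
    intro m₁ hm₁ m₂ hm₂
    induction hm₂ using Subgroup.closure_induction with
    | mem s hs => obtain ⟨i, rfl⟩ := hs; exact hc1 m₁ hm₁ i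
    | one => exact Commute.one_right _
    | mul y z _ _ hy hz => exact hy.mul_right hz
    | inv y _ hy => exact hy.inv_right
  have hsq : ∀ m ∈ M, m * m = 1 := by
    intro m hm
    induction hm using Subgroup.closure_induction with
    | mem s hs => obtain ⟨i, rfl⟩ := hs; exact wseq_sq hD hax hb hba h4 i
    | one => simp
    | mul y z hy hz ihy ihz =>
      have hyz : Commute y z := hc2 y hy z hz
      calc y * z * (y * z) = y * (z * y) * z := by group
        _ = y * (y * z) * z := by rw [hyz.eq]
        _ = (y * y) * (z * z) := by group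
        _ = 1 := by rw [ihy, ihz, one_mul]
    | inv y _ ihy =>
      have : y⁻¹ = y := inv_eq_of_mul_eq_one_left ihy
      rw [this]; exact ihy
  -- normalization by an element equal to sgen k or sgen (k+1) for every k
  have hnorm : ∀ g : G, (∀ k, g = sgen a x k ∨ g = sgen a x (k + 1)) → g * g = 1 →
      ∀ m ∈ M, g * m * g⁻¹ ∈ M := by
    intro g hg hgg m hm
    have hginv : g⁻¹ = g := inv_eq_of_mul_eq_one_left hgg
    rw [hginv]
    induction hm using Subgroup.closure_induction with
    | mem s hs =>
      obtain ⟨k, rfl⟩ := hs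
      rcases hg k with h | h
      · rw [h, hw, wseq_conj_same hD hax hb hba h4]; exact hgen k
      · rw [h, hw, wseq_conj_next hD hax hb hba h4]; exact M.mul_mem (hgen k) (hgen (k + 1))
    | one => rw [mul_one, hgg]; exact M.one_mem
    | mul y z _ _ hy hz =>
      have : g * (y * z) * g = (g * y * g) * (g * z * g) := by
        calc g * (y * z) * g = g * y * 1 * z * g := by group
          _ = g * y * (g * g) * z * g := by rw [hgg]
          _ = (g * y * g) * (g * z * g) := by group
      rw [this]; exact M.mul_mem hy hz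
    | inv y _ hy =>
      have : g * y⁻¹ * g = (g * y * g)⁻¹ := by
        rw [mul_inv_rev, mul_inv_rev, hginv]; group
      rw [this]; exact M.inv_mem hy
  refine ⟨M, ?_, hsq, fun m₁ h₁ m₂ h₂ => (hc2 m₁ h₁ m₂ h₂).eq, ?_, ?_⟩
  · exact hgen 0
  · apply hnorm a _ (mul_self hD hax.1)
    intro k
    rcases sgen_cases a x k with ⟨h1, _⟩ | ⟨_, h2⟩
    · left; exact h1.symm
    · right; exact h2.symm
  · apply hnorm x _ (mul_self hD hax.2.1)
    intro k
    rcases sgen_cases a x k with ⟨_, h2⟩ | ⟨h1, _⟩
    · right; exact h2.symm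
    · left; exact h1.symm

end Cfsg.Agent.Lib.H18.RootInvA
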