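import Mathlib
import Cfsg.Prelude.Def_RootSubgroups
import Cfsg.Agent.Lib.H18.RootInvA4

set_option autoImplicit false

/-! Root involutions (Timmesfeld), helper18: the element `h` swapping `z` and `z b`. -/

open Cfsg

namespace Cfsg.Agent.Lib.H18.RootInvA

open Cfsg.Agent.Lib.H6.RootInv

variable {G : Type*} [Group G] {D : Set G}

/-- In the dihedral group generated by involutions `u, y` with `(u y)^(2k+1) = 1`, the element
`(u y)^(k+1)` conjugates `y` to `u`. -/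
theorem dihedral_conj {u y : G} (hu : u * u = 1) (hy : y * y = 1) (k : ℕ)
    (hk : (u * y) ^ (2 * k + 1) = 1) :
    (u * y) ^ (k + 1) * y * ((u * y) ^ (k + 1))⁻¹ = u := by
  have huinv : u⁻¹ = u := inv_eq_of_mul_eq_one_left hu
  have hyinv : y⁻¹ = y := inv_eq_of_mul_eq_one_left hy
  have h1 : y * (u * y) * y⁻¹ = (u * y)⁻¹ := by
    rw [mul_inv_rev, huinv, hyinv]
    calc y * (u * y) * y = y * u * (y * y) := by group
      _ = y * u := by rw [hy, mul_one]
  have h2 : ∀ n : ℕ, y * (u * y) ^ n * y⁻¹ = ((u * y) ^ n)⁻¹ := by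
    intro n
    have e1 : y * (u * y) ^ n * y⁻¹ = MulAut.conj y ((u * y) ^ n) := by simp [MulAut.conj_apply]
    have e2 : y * (u * y) * y⁻¹ = MulAut.conj y (u * y) := by simp [MulAut.conj_apply]
    rw [e1, map_pow, ← e2, h1, inv_pow]
  have h3 : y * ((u * y) ^ (k + 1))⁻¹ = (u * y) ^ (k + 1) * y := by
    have := h2 (k + 1)
    have h4 : y * ((u * y) ^ (k + 1))⁻¹ * y⁻¹ = (u * y) ^ (k + 1) := by
      calc y * ((u * y) ^ (k + 1))⁻¹ * y⁻¹ = (y * (u * y) ^ (k + 1) * y⁻¹)⁻¹ := by group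
        _ = (u * y) ^ (k + 1) := by rw [this, inv_inv]
    calc y * ((u * y) ^ (k + 1))⁻¹ = y * ((u * y) ^ (k + 1))⁻¹ * y⁻¹ * y := by group
      _ = (u * y) ^ (k + 1) * y := by rw [h4]
  calc (u * y) ^ (k + 1) * y * ((u * y) ^ (k + 1))⁻¹
      = (u * y) ^ (k + 1) * (y * ((u * y) ^ (k + 1))⁻¹) := by group
    _ = (u * y) ^ (k + 1) * ((u * y) ^ (k + 1) * y) := by rw [h3]
    _ = (u * y) ^ (2 * k + 1) * (u * y) * y := by
        rw [← mul_assoc, ← pow_add, show k + 1 + (k + 1) = 2 * k + 1 + 1 by ring, pow_succ]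
    _ = u := by rw [hk, one_mul, mul_assoc, hy, mul_one]

/-- **The swapping element.** -/
theorem gconstr (hD : IsRootInvolutionSet D) {z b y : G} (hzy : OddAdj D z y) (hb : b ∈ D)
    (hbz : b * z = z * b) (hzb : z * b ∈ D) (h4 : orderOf (y * b) = 4) :
    ∃ h : G, h * h = 1 ∧ h * z * h⁻¹ = z * b ∧ h * b = b * h := by
  obtain ⟨M, hbM, hsq, hcomm, hMz, hMy⟩ := nm hD hzy hb hbz h4
  have hz : z ∈ D := hzy.1
  have hy : y ∈ D := hzy.2.1
  have hzz := mul_self hD hz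
  have hyy := mul_self hD hy
  have hbb := mul_self hD hb
  set t := z * y with ht
  -- M is normalized by powers of t
  have hMt : ∀ m ∈ M, t * m * t⁻¹ ∈ M := by
    intro m hm
    have : t * m * t⁻¹ = z * (y * m * y⁻¹) * z⁻¹ := by rw [ht]; group
    rw [this]; exact hMz _ (hMy _ hm)
  have hMtj : ∀ j : ℕ, ∀ m ∈ M, t ^ j * m * (t ^ j)⁻¹ ∈ M := by
    intro j
    induction j with
    | zero => intro m hm; simpa using hm
    | succ j ih =>
      intro m hm
      have : t ^ (j + 1) * m * (t ^ (j + 1))⁻¹ = t * (t ^ j * m * (t ^ j)⁻¹) * t⁻¹ := by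
        rw [pow_succ']; group
      rw [this]; exact hMt _ (ih m hm)
  -- (b t)^j = n t^j with n ∈ M
  have hclaim : ∀ j : ℕ, ∃ n ∈ M, (b * t) ^ j = n * t ^ j := by
    intro j
    induction j with
    | zero => exact ⟨1, M.one_mem, by simp⟩
    | succ j ih =>
      obtain ⟨n, hn, hj⟩ := ih
      refine ⟨n * (t ^ j * b * (t ^ j)⁻¹), M.mul_mem hn (hMtj j b hbM), ?_⟩
      rw [pow_succ, hj, pow_succ]; group
  have hfy : z * b * y = b * t := by
    rw [ht, ← hbz]; group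
  -- order of t
  obtain ⟨k, hk⟩ := hzy.2.2.2
  have htm : t ^ (2 * k + 1) = 1 := by rw [← hk]; exact pow_orderOf_eq_one _
  -- (f y)^(2k+1) ∈ M
  obtain ⟨n, hn, hnm⟩ := hclaim (2 * k + 1)
  rw [htm, mul_one] at hnm
  have hfy2 : ((z * b * y) ^ (2 * k + 1)) ^ 2 = 1 := by
    rw [hfy, hnm, pow_two]; exact hsq n hn
  -- f y has odd order
  have hfadj : OddAdj D (z * b) y := by
    by_contra hnadj
    have h44 := pow_four_of_not_adj hD hzb hy hnadj
    -- order divides gcd(4, 2(2k+1)) = 2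
    have hd1 : orderOf (z * b * y) ∣ 4 := orderOf_dvd_of_pow_eq_one h44
    have hd2 : orderOf (z * b * y) ∣ (2 * k + 1) * 2 := by
      apply orderOf_dvd_of_pow_eq_one; rw [pow_mul]; exact hfy2
    have hd3 : orderOf (z * b * y) ∣ 2 := by
      have := Nat.dvd_gcd hd1 hd2
      have hg : Nat.gcd 4 ((2 * k + 1) * 2) = 2 := by
        have : Nat.gcd 4 ((2 * k + 1) * 2) = Nat.gcd (2 * 2) ((2 * k + 1) * 2) := rfl
        rw [this, Nat.gcd_mul_right]
        have : Nat.gcd 2 (2 * k + 1) = 1 := by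
          rw [Nat.gcd_comm]; simp
        rw [this]
      rwa [hg] at this
    have hsq2 : (z * b * y) ^ 2 = 1 := orderOf_dvd_iff_pow_eq_one.mp hd3
    -- so z b commutes with y
    have hcomm' : y * (z * b) = z * b * y := by
      have hinv : (z * b * y)⁻¹ = z * b * y := by
        apply inv_eq_of_mul_eq_one_left; rw [← pow_two]; exact hsq2
      rw [mul_inv_rev, inv_eq hD hy, inv_eq hD hzb] at hinv
      exact hinv
    -- P1 with a = z, b = z b
    have hzf : z * (z * b) = z * b * z := by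
      rw [← mul_assoc, hzz, one_mul, mul_assoc, hbz, ← mul_assoc, hzz, one_mul]
    have hzfD : z * (z * b) ∈ D := by rw [← mul_assoc, hzz, one_mul]; exact hb
    exact p1 hD hz hzf (ne_one hD hzb) hzfD hzy hcomm'
  have hfm : (z * b * y) ^ (2 * k + 1) = 1 := by
    have hodd : Odd (orderOf ((z * b * y) ^ (2 * k + 1))) :=
      Odd.of_dvd_nat hfadj.2.2.2 (orderOf_pow_dvd _)
    exact eq_one_of_odd_of_pow_two_pow hodd 1 (by simpa using hfy2)
  -- the conjugating elements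
  have hcz : t ^ (k + 1) * y * (t ^ (k + 1))⁻¹ = z := dihedral_conj hzz hyy k htm
  have hzbzb := mul_self hD hzb
  have hcf := dihedral_conj hzbzb hyy k hfm
  obtain ⟨n', hn', hn'm⟩ := hclaim (k + 1)
  refine ⟨n', hsq n' hn', ?_, hcomm n' hn' b hbM⟩
  -- n' = (f y)^(k+1) * (t^(k+1))⁻¹
  have hn'eq : n' = (z * b * y) ^ (k + 1) * (t ^ (k + 1))⁻¹ := by
    rw [hfy, hn'm]; group
  have hyz : (t ^ (k + 1))⁻¹ * z * t ^ (k + 1) = y := by
    calc (t ^ (k + 1))⁻¹ * z * t ^ (k + 1)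
        = (t ^ (k + 1))⁻¹ * (t ^ (k + 1) * y * (t ^ (k + 1))⁻¹) * t ^ (k + 1) := by rw [hcz]
      _ = y := by group
  rw [hn'eq]
  calc (z * b * y) ^ (k + 1) * (t ^ (k + 1))⁻¹ * z * ((z * b * y) ^ (k + 1) * (t ^ (k + 1))⁻¹)⁻¹
      = (z * b * y) ^ (k + 1) * ((t ^ (k + 1))⁻¹ * z * t ^ (k + 1)) * ((z * b * y) ^ (k + 1))⁻¹ := by
        group
    _ = z * b := by rw [hyz, hcf]

end Cfsg.Agent.Lib.H18.RootInvA
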