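import Mathlib
import Cfsg.Prelude.Def_RootSubgroups
import Cfsg.Agent.Lib.H18.RootInvA5

set_option autoImplicit false

/-! Root involutions (Timmesfeld), helper18: the relation "same odd partners", the witness lemma,
and the absorption of squares. -/

open Cfsg

namespace Cfsg.Agent.Lib.H18.RootInvA

open Cfsg.Agent.Lib.H6.RootInv

variable {G : Type*} [Group G] {D : Set G}

/-- `d` and `e` have the same odd partners. -/
def SameA (D : Set G) (d e : G) : Prop := ∀ y, OddAdj D d y ↔ OddAdj D e y

theorem SameA.refl (d : G) : SameA D d d := fun _ => Iff.rfl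
theorem SameA.symm {d e : G} (h : SameA D d e) : SameA D e d := fun y => (h y).symm
theorem SameA.trans {d e f : G} (h : SameA D d e) (h' : SameA D e f) : SameA D d f :=
  fun y => (h y).trans (h' y)

theorem oddAdj_conj_iff (hD : IsRootInvolutionSet D) (g a b : G) :
    OddAdj D (g * a * g⁻¹) (g * b * g⁻¹) ↔ OddAdj D a b := by
  constructor
  · intro h
    have := oddAdj_conj hD h g⁻¹
    have e1 : g⁻¹ * (g * a * g⁻¹) * g⁻¹⁻¹ = a := by group
    have e2 : g⁻¹ * (g * b * g⁻¹) * g⁻¹⁻¹ = b := by group
    rwa [e1, e2] at this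
  · intro h; exact oddAdj_conj hD h g

theorem SameA.conj (hD : IsRootInvolutionSet D) {d e : G} (h : SameA D d e) (g : G) :
    SameA D (g * d * g⁻¹) (g * e * g⁻¹) := by
  intro y
  have e1 : y = g * (g⁻¹ * y * g) * g⁻¹ := by group
  rw [e1, oddAdj_conj_iff hD, oddAdj_conj_iff hD]
  exact h _

theorem not_adj_of_sameA {d e : G} (h : SameA D d e) : ¬ OddAdj D d e := by
  intro hadj
  exact ((h e).mp hadj).2.2.1 rfl

/-- The sets of odd partners of two members have the same cardinality (connected graph). -/
theorem ncard_adj_eq [Finite G] (hD : IsRootInvolutionSet D)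
    (hc : IsConnectedSet (OddAdj D) D) {a b : G} (ha : a ∈ D) (hb : b ∈ D) :
    {y | OddAdj D a y}.ncard = {y | OddAdj D b y}.ncard := by
  obtain ⟨w, rfl⟩ := single_class hD hc ha hb
  have himg : {y | OddAdj D (w * a * w⁻¹) y} = (fun y => w * y * w⁻¹) '' {y | OddAdj D a y} := by
    ext y
    constructor
    · intro hy
      refine ⟨w⁻¹ * y * w, ?_, by group⟩
      have e1 : y = w * (w⁻¹ * y * w) * w⁻¹ := by group
      have hy' : OddAdj D (w * a * w⁻¹) (w * (w⁻¹ * y * w) * w⁻¹) := by rw [← e1]; exact hy
      exact (oddAdj_conj_iff hD w a _).mp hy'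
    · rintro ⟨y', hy', rfl⟩
      exact (oddAdj_conj_iff hD w a y').mpr hy'
  rw [himg]
  apply (Set.ncard_image_of_injective _ _).symm
  intro y1 y2 h
  exact mul_left_cancel (mul_right_cancel h)

/-- Basic facts on the square of a product of order four. -/
theorem sq_facts (hD : IsRootInvolutionSet D) {s u : G} (hs : s ∈ D) (hu : u ∈ D)
    (h4 : orderOf (s * u) = 4) :
    (s * u) ^ 2 ∈ D ∧ (s * u) ^ 2 * s = s * (s * u) ^ 2 ∧ (s * u) ^ 2 * u = u * (s * u) ^ 2 ∧
      u * s * u = s * (s * u) ^ 2 := by
  have hss := mul_self hD hs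
  have huu := mul_self hD hu
  set v := (s * u) ^ 2 with hv
  have hvD : v ∈ D := sq_mem_of_order_four hD hs hu h4
  have hvv : v * v = 1 := by
    rw [hv, ← pow_add]; exact pow_four_of_order_four h4
  have hvexp : v = s * u * s * u := by rw [hv, pow_two]; group
  have hvinv : v⁻¹ = v := inv_eq_of_mul_eq_one_left hvv
  have hvs : v * s = s * v := by
    have h1 : s * v * s = v⁻¹ := by
      rw [hvexp, mul_inv_rev, mul_inv_rev, mul_inv_rev, inv_eq hD hs, inv_eq hD hu]
      calc s * (s * u * s * u) * s = (s * s) * u * s * u * s := by group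
        _ = u * s * u * s := by rw [hss, one_mul]
        _ = u * (s * (u * s)) := by group
    rw [hvinv] at h1
    calc v * s = (s * s) * v * s := by rw [hss, one_mul]
      _ = s * (s * v * s) := by group
      _ = s * v := by rw [h1]
  have hvu : v * u = u * v := by
    have h1 : u * v * u = v⁻¹ := by
      rw [hvexp, mul_inv_rev, mul_inv_rev, mul_inv_rev, inv_eq hD hs, inv_eq hD hu]
      calc u * (s * u * s * u) * u = u * s * u * s * (u * u) := by group
        _ = u * s * u * s := by rw [huu, mul_one]
        _ = u * (s * (u * s)) := by group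
    rw [hvinv] at h1
    calc v * u = (u * u) * v * u := by rw [huu, one_mul]
      _ = u * (u * v * u) := by group
      _ = u * v := by rw [h1]
  refine ⟨hvD, hvs, hvu, ?_⟩
  rw [hvexp]
  calc u * s * u = (s * s) * u * s * u := by rw [hss, one_mul]
    _ = s * (s * u * s * u) := by group

/-- **Absorption.** If `e f` has order four and `f e f` has the same odd partners as `e`, then so
does `(e f)^2`. -/
theorem absorb [Finite G] (hD : IsRootInvolutionSet D) (hc : IsConnectedSet (OddAdj D) D)
    {e f : G} (he : e ∈ D) (hf : f ∈ D) (h4 : orderOf (e * f) = 4)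
    (hsame : SameA D e (f * e * f)) : SameA D ((e * f) ^ 2) e := by
  obtain ⟨hzD, hze, -, hfef⟩ := sq_facts hD he hf h4
  set z := (e * f) ^ 2 with hz
  have hzz := mul_self hD hzD
  have hee := mul_self hD he
  have hsub : {y | OddAdj D z y} ⊆ {y | OddAdj D e y} := by
    intro y hy
    by_contra hne
    have hyD : y ∈ D := hy.2.1
    have h1 : (e * y) ^ 4 = 1 := pow_four_of_not_adj hD he hyD hne
    have hne' : ¬ OddAdj D (e * z) y := by
      intro h
      apply hne
      rw [← hfef] at h
      exact (hsame y).mpr h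
    have hezD : e * z ∈ D := by rw [← hfef]; exact conj_mem' hD he hf
    have h2 : (e * z * y) ^ 4 = 1 := pow_four_of_not_adj hD hezD hyD hne'
    have h2' : (z * e * y) ^ 4 = 1 := by rw [hze]; exact h2
    have := l1_pure hzz hee (mul_self hD hyD) hze hy.2.2.2 h1 h2'
    apply pow_four_ne_of_adj hD hy
    rw [this, one_pow]
  have hcard := ncard_adj_eq hD hc hzD he
  have heq : {y | OddAdj D z y} = {y | OddAdj D e y} :=
    Set.eq_of_subset_of_ncard_le hsub hcard.ge (Set.toFinite _)
  intro y
  have := Set.ext_iff.mp heq y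
  exact this

/-- **The witness.** -/
theorem witness (hD : IsRootInvolutionSet D) {z b e y : G} (hzy : OddAdj D z y) (hb : b ∈ D)
    (hbz : b * z = z * b) (hzb : z * b ∈ D) (he : e ∈ D) (hez : e * z = z * e)
    (heb : e * b * e = z * b) (h4 : orderOf (y * b) = 4) :
    ∃ x₂ ∈ D, OddAdj D e x₂ ∧ ¬ OddAdj D z x₂ := by
  obtain ⟨h, hhh, hhz, hhb⟩ := gconstr hD hzy hb hbz hzb h4
  have hz : z ∈ D := hzy.1
  have hzz := mul_self hD hz
  have hbb := mul_self hD hb
  have hee := mul_self hD he
  have hhinv : h⁻¹ = h := inv_eq_of_mul_eq_one_left hhh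
  have heinv : e⁻¹ = e := inv_eq hD he
  have hb1 : b ≠ 1 := ne_one hD hb
  -- conjugation formulas, written with h and e as involutions
  have H1 : h * z * h = z * b := by rw [← hhz, hhinv]
  have H2 : h * b * h = b := by rw [hhb, mul_assoc, hhh, mul_one]
  have H3 : h * (z * b) * h = z := by
    calc h * (z * b) * h = (h * z * h) * (h * b * h) := by
          calc h * (z * b) * h = h * z * 1 * b * h := by group
            _ = h * z * (h * h) * b * h := by rw [hhh]
            _ = (h * z * h) * (h * b * h) := by group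
      _ = z * b * b := by rw [H1, H2]
      _ = z := by rw [mul_assoc, hbb, mul_one]
  have E1 : e * z * e = z := by rw [hez, mul_assoc, hee, mul_one]
  have E3 : e * (z * b) * e = b := by
    calc e * (z * b) * e = (e * z * e) * (e * b * e) := by
          calc e * (z * b) * e = e * z * 1 * b * e := by group
            _ = e * z * (e * e) * b * e := by rw [hee]
            _ = (e * z * e) * (e * b * e) := by group
      _ = z * (z * b) := by rw [E1, heb]
      _ = b := by rw [← mul_assoc, hzz, one_mul]
  set x₂ := h * e * h with hx₂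
  have hx₂D : x₂ ∈ D := by
    have := hD.conj_mem e he h
    rwa [hhinv] at this
  have hx₂x₂ := mul_self hD hx₂D
  -- x₂ z x₂ = b
  have X1 : x₂ * z * x₂ = b := by
    calc x₂ * z * x₂ = h * (e * (h * z * h) * e) * h := by rw [hx₂]; group
      _ = h * (e * (z * b) * e) * h := by rw [H1]
      _ = h * b * h := by rw [E3]
      _ = b := H2
  refine ⟨x₂, hx₂D, ?_, ?_⟩
  · -- e x₂ cycles z → z b → b → z
    apply adj_of_pow_four_ne hD he hx₂D
    intro h44
    set g := e * x₂ with hg
    have hginv : g⁻¹ = x₂ * e := by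
      rw [hg, mul_inv_rev, heinv, inv_eq hD hx₂D]
    have C1 : g * z * g⁻¹ = z * b := by
      rw [hginv]
      calc g * z * (x₂ * e) = e * (x₂ * z * x₂) * e := by rw [hg]; group
        _ = e * b * e := by rw [X1]
        _ = z * b := heb
    have X3 : x₂ * (z * b) * x₂ = z * b := by
      calc x₂ * (z * b) * x₂ = h * (e * (h * (z * b) * h) * e) * h := by rw [hx₂]; group
        _ = h * (e * z * e) * h := by rw [H3]
        _ = h * z * h := by rw [E1]
        _ = z * b := H1
    have C2 : g * (z * b) * g⁻¹ = b := by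
      rw [hginv]
      calc g * (z * b) * (x₂ * e) = e * (x₂ * (z * b) * x₂) * e := by rw [hg]; group
        _ = e * (z * b) * e := by rw [X3]
        _ = b := E3
    have X2 : x₂ * b * x₂ = z := by
      calc x₂ * b * x₂ = x₂ * (x₂ * z * x₂) * x₂ := by rw [X1]
        _ = (x₂ * x₂) * z * (x₂ * x₂) := by group
        _ = z := by rw [hx₂x₂, one_mul, mul_one]
    have C3 : g * b * g⁻¹ = z := by
      rw [hginv]
      calc g * b * (x₂ * e) = e * (x₂ * b * x₂) * e := by rw [hg]; group
        _ = e * z * e := by rw [X2]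
        _ = z := E1
    -- g^4 conjugates z to z b
    have hφ : MulAut.conj (g ^ 4) z = z * b := by
      rw [map_pow]
      have e1 : MulAut.conj g z = z * b := by rw [MulAut.conj_apply]; exact C1
      have e2 : MulAut.conj g (z * b) = b := by rw [MulAut.conj_apply]; exact C2
      have e3 : MulAut.conj g b = z := by rw [MulAut.conj_apply]; exact C3
      show ((MulAut.conj g) ^ 4) z = z * b
      rw [show (4 : ℕ) = 1 + 1 + 1 + 1 from rfl, pow_succ, pow_succ, pow_succ, pow_one]
      simp only [MulAut.mul_apply]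
      rw [e1, e2, e3, e1]
    rw [h44, map_one, MulAut.one_apply] at hφ
    apply hb1
    calc b = z * (z * b) := by rw [← mul_assoc, hzz, one_mul]
      _ = z * z := by rw [← hφ]
      _ = 1 := hzz
  · intro hadj
    apply pow_four_ne_of_adj hD hadj
    have : (z * x₂) ^ 2 = z * b := by
      rw [pow_two]
      calc z * x₂ * (z * x₂) = z * (x₂ * z * x₂) := by group
        _ = z * b := by rw [X1]
    rw [show (4 : ℕ) = 2 * 2 from rfl, pow_mul, this, pow_two]
    exact mul_self hD hzb

end Cfsg.Agent.Lib.H18.RootInvA
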