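import Mathlib
import Cfsg.Prelude.Def_RootSubgroups
import Cfsg.Agent.Lib.H18.RootInvA6
import Cfsg.Agent.Lib.H16.BaerSuzuki

set_option autoImplicit false

/-! Root involutions (Timmesfeld), helper18: members with the same odd partners commute
(connected graph). -/

open Cfsg

namespace Cfsg.Agent.Lib.H18.RootInvA

open Cfsg.Agent.Lib.H6.RootInv

variable {G : Type*} [Group G] {D : Set G}

/-- Two members with `(d₁ d₂)^4 = 1` that do not commute have product of order 4. -/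
theorem order_four_of_not_comm (hD : IsRootInvolutionSet D) {d₁ d₂ : G} (h1 : d₁ ∈ D)
    (h2 : d₂ ∈ D) (h4 : (d₁ * d₂) ^ 4 = 1) (hnc : d₁ * d₂ ≠ d₂ * d₁) : orderOf (d₁ * d₂) = 4 := by
  apply order_four_of h4
  intro hsq
  apply hnc
  have : d₁ * d₂ * (d₁ * d₂) = 1 := by rw [← pow_two]; exact hsq
  calc d₁ * d₂ = d₁ * d₂ * (d₁ * d₂) * (d₂⁻¹ * d₁⁻¹) := by group
    _ = d₂⁻¹ * d₁⁻¹ := by rw [this, one_mul]
    _ = d₂ * d₁ := by rw [inv_eq hD h1, inv_eq hD h2]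

theorem comm_of_sameA [Finite G] (hD : IsRootInvolutionSet D)
    (hc : IsConnectedSet (OddAdj D) D) {e f : G} (he : e ∈ D) (hf : f ∈ D)
    (hef : SameA D e f) : e * f = f * e := by
  by_contra hnc
  have : Fact (Nat.Prime 2) := Nat.fact_prime_two
  set Δ : Set G := {d | d ∈ D ∧ SameA D e d} with hΔ
  have heΔ : e ∈ Δ := ⟨he, SameA.refl e⟩
  have hfΔ : f ∈ Δ := ⟨hf, hef⟩
  have hsame : ∀ d₁ ∈ Δ, ∀ d₂ ∈ Δ, SameA D d₁ d₂ := fun d₁ h1 d₂ h2 => h1.2.symm.trans h2.2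
  -- (a) fourth powers
  have hpow4 : ∀ d₁ ∈ Δ, ∀ d₂ ∈ Δ, (d₁ * d₂) ^ 4 = 1 := fun d₁ h1 d₂ h2 =>
    pow_four_of_not_adj hD h1.1 h2.1 (not_adj_of_sameA (hsame d₁ h1 d₂ h2))
  -- (b) closed under conjugation by members
  have hconj : ∀ d₁ ∈ Δ, ∀ d₂ ∈ Δ, d₁ * d₂ * d₁⁻¹ ∈ Δ := by
    intro d₁ h1 d₂ h2
    refine ⟨hD.conj_mem d₂ h2.1 d₁, ?_⟩
    have h := (hsame d₁ h1 d₂ h2).conj hD d₁
    have e1 : d₁ * d₁ * d₁⁻¹ = d₁ := by group
    rw [e1] at h
    exact h1.2.trans h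
  -- (c) squares of non-commuting pairs
  have hsqΔ : ∀ d₁ ∈ Δ, ∀ d₂ ∈ Δ, d₁ * d₂ ≠ d₂ * d₁ → (d₁ * d₂) ^ 2 ∈ Δ := by
    intro d₁ h1 d₂ h2 hne
    have h4 := order_four_of_not_comm hD h1.1 h2.1 (hpow4 d₁ h1 d₂ h2) hne
    have hc2 := hconj d₂ h2 d₁ h1
    rw [inv_eq hD h2.1] at hc2
    have hs : SameA D d₁ (d₂ * d₁ * d₂) := hsame d₁ h1 _ hc2
    have := absorb hD hc h1.1 h2.1 h4 hs
    exact ⟨sq_mem_of_order_four hD h1.1 h2.1 h4, h1.2.trans this.symm⟩
  -- (d) transitivity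
  have htrans : ∀ d₁ ∈ Δ, ∀ d₂ ∈ Δ, ∃ g : G, g * d₁ * g⁻¹ = d₂ ∧ ∀ d ∈ Δ, g * d * g⁻¹ ∈ Δ := by
    intro d₁ h1 d₂ h2
    obtain ⟨g, hg⟩ := single_class hD hc h1.1 h2.1
    refine ⟨g, hg.symm, fun d hd => ⟨hD.conj_mem d hd.1 g, ?_⟩⟩
    have h := (hsame d₁ h1 d hd).conj hD g
    rw [← hg] at h
    exact h2.2.trans h
  -- the subgroup R
  set R : Subgroup G := Subgroup.closure Δ with hR
  have hΔR : Δ ⊆ R := Subgroup.subset_closure
  -- R normalizes Δ
  have hRconj2 : ∀ g ∈ R, (∀ d ∈ Δ, g * d * g⁻¹ ∈ Δ) ∧ (∀ d ∈ Δ, g⁻¹ * d * g ∈ Δ) := by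
    intro g hg
    induction hg using Subgroup.closure_induction with
    | mem s hs =>
      refine ⟨fun d hd => hconj s hs d hd, fun d hd => ?_⟩
      have := hconj s hs d hd
      rw [inv_eq hD hs.1] at this ⊢
      exact this
    | one => exact ⟨fun d hd => by simpa using hd, fun d hd => by simpa using hd⟩
    | mul y z _ _ hy hz =>
      refine ⟨fun d hd => ?_, fun d hd => ?_⟩
      · have : y * z * d * (y * z)⁻¹ = y * (z * d * z⁻¹) * y⁻¹ := by group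
        rw [this]; exact hy.1 _ (hz.1 d hd)
      · have : (y * z)⁻¹ * d * (y * z) = z⁻¹ * (y⁻¹ * d * y) * z := by group
        rw [this]; exact hz.2 _ (hy.2 d hd)
    | inv y _ hy =>
      refine ⟨fun d hd => ?_, fun d hd => ?_⟩
      · have : y⁻¹ * d * y⁻¹⁻¹ = y⁻¹ * d * y := by group
        rw [this]; exact hy.2 d hd
      · have : y⁻¹⁻¹ * d * y⁻¹ = y * d * y⁻¹ := by group
        rw [this]; exact hy.1 d hd
  have hRconj : ∀ g ∈ R, ∀ d ∈ Δ, g * d * g⁻¹ ∈ Δ := fun g hg => (hRconj2 g hg).1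
  -- R is a 2-group (Baer–Suzuki inside R)
  have hRp : IsPGroup 2 R := by
    set K : Set R := {r | (r : G) ∈ Δ} with hK
    have hKconj : ∀ g : R, ∀ x ∈ K, g * x * g⁻¹ ∈ K := by
      intro g x hx
      show ((g * x * g⁻¹ : R) : G) ∈ Δ
      simpa using hRconj g g.2 x hx
    have hKpair : ∀ x ∈ K, ∀ y ∈ K, IsPGroup 2 (Subgroup.closure ({x, y} : Set R)) := by
      intro x hx y hy
      apply isPGroup_two_closure_pair
      · rw [← Subgroup.orderOf_coe]; exact hD.orderOf_eq _ hx.1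
      · rw [← Subgroup.orderOf_coe]; exact hD.orderOf_eq _ hy.1
      · apply Subtype.ext
        simpa using hpow4 x hx y hy
    have hBS := Cfsg.Agent.Lib.H16.isPGroup_closure_of_pairwise (p := 2) K hKconj hKpair
    have hmap : (Subgroup.closure K).map R.subtype = R := by
      rw [MonoidHom.map_closure]
      have : (R.subtype : R → G) '' K = Δ := by
        ext d
        constructor
        · rintro ⟨r, hr, rfl⟩; exact hr
        · intro hd; exact ⟨⟨d, hΔR hd⟩, hd, rfl⟩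
      rw [this]
    have := hBS.map R.subtype
    rwa [hmap] at this
  -- the commutator subgroup of R contains Δ
  have hzΔ : (e * f) ^ 2 ∈ Δ := hsqΔ e heΔ f hfΔ hnc
  have hzC : (e * f) ^ 2 ∈ ⁅R, R⁆ := by
    have h := Subgroup.commutator_mem_commutator (hΔR heΔ) (hΔR hfΔ)
    rw [commutatorElement_def, inv_eq hD he, inv_eq hD hf] at h
    have e1 : (e * f) ^ 2 = e * f * e * f := by rw [pow_two]; group
    rw [e1]; exact h
  have hΔC : Δ ⊆ ((⁅R, R⁆ : Subgroup G) : Set G) := by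
    intro d hd
    obtain ⟨g, hg, hgΔ⟩ := htrans _ hzΔ d hd
    have hRg : R.map (MulAut.conj g).toMonoidHom ≤ R := by
      rw [hR, MonoidHom.map_closure, Subgroup.closure_le]
      rintro _ ⟨d', hd', rfl⟩
      exact hΔR (hgΔ d' hd')
    have hCg : (⁅R, R⁆).map (MulAut.conj g).toMonoidHom ≤ ⁅R, R⁆ := by
      rw [Subgroup.map_commutator]
      exact Subgroup.commutator_mono hRg hRg
    have hmem : (MulAut.conj g).toMonoidHom ((e * f) ^ 2) ∈
        (⁅R, R⁆).map (MulAut.conj g).toMonoidHom := Subgroup.mem_map_of_mem _ hzC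
    have h2 := hCg hmem
    have e2 : (MulAut.conj g).toMonoidHom ((e * f) ^ 2) = g * (e * f) ^ 2 * g⁻¹ := by
      simp [MulAut.conj_apply]
    rw [e2, hg] at h2
    exact h2
  have hCR : ⁅R, R⁆ = R := by
    apply le_antisymm (Subgroup.commutator_le_self R)
    rw [hR, Subgroup.closure_le]; exact hΔC
  -- contradiction with solvability
  have : Group.IsNilpotent R := hRp.isNilpotent
  have : Nontrivial R := ⟨⟨⟨e, hΔR heΔ⟩, 1, fun h => ne_one hD he (congrArg Subtype.val h)⟩⟩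
  have hlt := Group.IsSolvable.commutator_lt_top_of_nontrivial R
  apply ne_of_lt hlt
  apply Subgroup.map_injective R.subtype_injective
  rw [Subgroup.map_subtype_commutator, hCR, ← MonoidHom.range_eq_map, Subgroup.range_subtype]

end Cfsg.Agent.Lib.H18.RootInvA
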