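import Mathlib
import Cfsg.Prelude.Def_RootSubgroups
import Cfsg.Agent.Lib.H18.RootInvA7

set_option autoImplicit false

/-! Root involutions (Timmesfeld), helper18: members with the same odd partners have the same
commuting members, and conversely. -/

open Cfsg

namespace Cfsg.Agent.Lib.H18.RootInvA

open Cfsg.Agent.Lib.H6.RootInv

variable {G : Type*} [Group G] {D : Set G}

theorem sq_eq_one_of_comm (hD : IsRootInvolutionSet D) {d x : G} (hd : d ∈ D) (hx : x ∈ D)
    (h : x * d = d * x) : (d * x) ^ 2 = 1 := by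
  rw [pow_two]
  calc d * x * (d * x) = d * (x * d) * x := by group
    _ = d * (d * x) * x := by rw [h]
    _ = (d * d) * (x * x) := by group
    _ = 1 := by rw [mul_self hD hd, mul_self hD hx, one_mul]

theorem not_adj_of_comm (hD : IsRootInvolutionSet D) {d x : G} (hd : d ∈ D) (hx : x ∈ D)
    (h : x * d = d * x) : ¬ OddAdj D d x := by
  intro hadj
  apply pow_four_ne_of_adj hD hadj
  rw [show (4 : ℕ) = 2 * 2 from rfl, pow_mul, sq_eq_one_of_comm hD hd hx h, one_pow]

/-- Membership in `C_D(d) ∪ V_d`. -/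
theorem mem_union_iff (hD : IsRootInvolutionSet D) {d y : G} (hd : d ∈ D) :
    y ∈ commutingMembers D d ∪ fourPartners D d ↔ y ∈ D ∧ ¬ OddAdj D d y := by
  constructor
  · rintro (⟨hy, hc⟩ | ⟨hy, h4⟩)
    · exact ⟨hy, not_adj_of_comm hD hd hy hc⟩
    · refine ⟨hy, fun hadj => ?_⟩
      exact pow_four_ne_of_adj hD hadj (pow_four_of_order_four h4)
  · rintro ⟨hy, hn⟩
    by_cases hc : y * d = d * y
    · exact Or.inl ⟨hy, hc⟩
    · right
      refine ⟨hy, order_four_of_not_comm hD hd hy (pow_four_of_not_adj hD hd hy hn) ?_⟩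
      exact fun h => hc h.symm

/-- One half of the easy direction. -/
theorem adj_of_comm_eq (hD : IsRootInvolutionSet D) {d e : G} (hd : d ∈ D) (he : e ∈ D)
    (hC : commutingMembers D d = commutingMembers D e) {y : G} (hy : OddAdj D d y) :
    OddAdj D e y := by
  by_contra hne
  have hyD : y ∈ D := hy.2.1
  have hee := mul_self hD he
  have hyy := mul_self hD hyD
  have hyinv := inv_eq hD hyD
  have h4 := pow_four_of_not_adj hD he hyD hne
  have hc1 : Commute e (y * e * y⁻¹) := commute_conj_of_pow_four hee hyy h4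
  have hm1 : y * e * y⁻¹ ∈ commutingMembers D e := ⟨hD.conj_mem e he y, hc1.eq.symm⟩
  rw [← hC] at hm1
  -- y e y⁻¹ commutes with d; conjugate by y
  have hc2 : Commute (y * e * y⁻¹) d := hm1.2
  have hc3 : Commute e (y * d * y⁻¹) := by
    have := (Commute.conj_iff y).mpr hc2
    have e1 : y * (y * e * y⁻¹) * y⁻¹ = e := by
      rw [hyinv]
      calc y * (y * e * y) * y = (y * y) * e * (y * y) := by group
        _ = e := by rw [hyy, one_mul, mul_one]
    rwa [e1] at this
  have hm2 : y * d * y⁻¹ ∈ commutingMembers D e := ⟨hD.conj_mem d hd y, hc3.eq.symm⟩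
  rw [← hC] at hm2
  have hc4 : (y * d * y⁻¹) * d = d * (y * d * y⁻¹) := hm2.2
  -- so (d y)^4 = 1
  apply pow_four_ne_of_adj hD hy
  have hsq := sq_eq_one_of_comm hD hd (hD.conj_mem d hd y) hc4
  have e2 : (d * y) ^ 4 = (d * (y * d * y⁻¹)) ^ 2 := by
    rw [hyinv, show (4 : ℕ) = 2 * 2 from rfl, pow_mul]
    congr 1
    rw [pow_two]; group
  rw [e2, hsq]

theorem sameA_of_comm_eq (hD : IsRootInvolutionSet D) {d e : G} (hd : d ∈ D) (he : e ∈ D)
    (hC : commutingMembers D d = commutingMembers D e) : SameA D d e :=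
  fun _ => ⟨adj_of_comm_eq hD hd he hC, adj_of_comm_eq hD he hd hC.symm⟩

/-- **Main step.** If `d` and `e` have the same odd partners, every member commuting with `d`
commutes with `e`. -/
theorem comm_of_sameA_of_comm [Finite G] (hD : IsRootInvolutionSet D)
    (hc : IsConnectedSet (OddAdj D) D) {d e x : G} (hd : d ∈ D) (he : e ∈ D)
    (hde : SameA D d e) (hx : x ∈ D) (hxd : x * d = d * x) : x * e = e * x := by
  by_contra hne
  have hxinv := inv_eq hD hx
  have hxx := mul_self hD hx
  have hee := mul_self hD he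
  -- x is not an odd partner of e
  have hnadj : ¬ OddAdj D e x := fun h => not_adj_of_comm hD hd hx hxd ((hde x).mpr h)
  have h4 : orderOf (e * x) = 4 :=
    order_four_of_not_comm hD he hx (pow_four_of_not_adj hD he hx hnadj) (fun h => hne h.symm)
  -- x e x has the same odd partners as e
  have hs1 : SameA D e (x * e * x) := by
    have h := hde.conj hD x
    have e1 : x * d * x⁻¹ = d := by rw [hxd, mul_assoc, mul_inv_cancel, mul_one]
    rw [e1, hxinv] at h
    exact hde.symm.trans h
  have hze := absorb hD hc he hx h4 hs1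
  obtain ⟨hzD, hzec, hzxc, hxex⟩ := sq_facts hD he hx h4
  set z := (e * x) ^ 2 with hz
  have hzz := mul_self hD hzD
  -- z x = e x e ∈ D
  have hzx : z * x = e * x * e := by
    have : z = e * x * e * x := by rw [hz, pow_two]; group
    rw [this, mul_assoc (e * x * e), hxx, mul_one]
  have hzxD : z * x ∈ D := by rw [hzx]; exact conj_mem' hD hx he
  by_cases hex : ∃ y, OddAdj D z y ∧ orderOf (y * x) = 4
  · obtain ⟨y, hzy, hy4⟩ := hex
    obtain ⟨x₂, -, h1, h2⟩ := witness hD hzy hx hzxc.symm hzxD he hzec.symm hzx.symm hy4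
    exact h2 ((hze x₂).mpr h1)
  · -- every odd partner of z is an odd partner of x
    have hsub : {y | OddAdj D z y} ⊆ {y | OddAdj D x y} := by
      intro y hy
      by_contra hn
      have hyD : y ∈ D := hy.2.1
      have hp4 := pow_four_of_not_adj hD hx hyD hn
      by_cases hcomm : y * x = x * y
      · exact p1 hD hzD hzxc (ne_one hD hx) hzxD hy hcomm
      · apply hex
        refine ⟨y, hy, ?_⟩
        rw [orderOf_mul_comm hD hyD hx]
        exact order_four_of_not_comm hD hx hyD hp4 (fun h => hcomm h.symm)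
    have hcard := ncard_adj_eq hD hc hzD hx
    have heq : {y | OddAdj D z y} = {y | OddAdj D x y} :=
      Set.eq_of_subset_of_ncard_le hsub hcard.ge (Set.toFinite _)
    have hzx' : SameA D z x := fun y => Set.ext_iff.mp heq y
    exact hne (comm_of_sameA hD hc he hx (hze.symm.trans hzx')).symm

/-- Same odd partners gives same commuting members. -/
theorem comm_eq_of_sameA [Finite G] (hD : IsRootInvolutionSet D)
    (hc : IsConnectedSet (OddAdj D) D) {d e : G} (hd : d ∈ D) (he : e ∈ D)
    (hde : SameA D d e) : commutingMembers D d = commutingMembers D e := by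
  ext x
  constructor
  · rintro ⟨hx, h⟩; exact ⟨hx, comm_of_sameA_of_comm hD hc hd he hde hx h⟩
  · rintro ⟨hx, h⟩; exact ⟨hx, comm_of_sameA_of_comm hD hc he hd hde.symm hx h⟩

end Cfsg.Agent.Lib.H18.RootInvA
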