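import Mathlib
import Cfsg.Prelude.Def_RootSubgroups
import Cfsg.Agent.Lib.H18.RootInvA8

set_option autoImplicit false

/-! Root involutions (Timmesfeld), helper18: the swapping element lies in `D` (doubling argument). -/

open Cfsg

namespace Cfsg.Agent.Lib.H18.RootInvA

open Cfsg.Agent.Lib.H6.RootInv

variable {G : Type*} [Group G] {D : Set G}

/-- A power of two congruent to `k + 1` modulo `2 k + 1`. -/
theorem exists_two_pow_modEq (k : ℕ) : ∃ j : ℕ, 2 ^ j ≡ k + 1 [MOD 2 * k + 1] := by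
  have hcop : Nat.Coprime 2 (2 * k + 1) := by
    rw [Nat.coprime_comm]; exact Odd.coprime_two_right ⟨k, rfl⟩
  have hpos : 0 < Nat.totient (2 * k + 1) := Nat.totient_pos.mpr (by omega)
  refine ⟨Nat.totient (2 * k + 1) - 1, ?_⟩
  have h1 : 2 ^ Nat.totient (2 * k + 1) ≡ 1 [MOD 2 * k + 1] := Nat.ModEq.pow_totient hcop
  have h2 : 2 * 2 ^ (Nat.totient (2 * k + 1) - 1) = 2 ^ Nat.totient (2 * k + 1) := by
    rw [← pow_succ', Nat.sub_add_cancel hpos]
  have h3 : 2 * (k + 1) ≡ 1 [MOD 2 * k + 1] := by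
    have : 2 * (k + 1) = 1 + (2 * k + 1) := by ring
    rw [this]
    exact Nat.add_modEq_right
  apply Nat.ModEq.cancel_left_of_coprime (c := 2)
  · rw [Nat.gcd_comm]; exact hcop
  · rw [h2]; exact h1.trans h3.symm

/-- **The swapping element lies in `D`.** -/
theorem gconstr_D (hD : IsRootInvolutionSet D) {z b y : G} (hzy : OddAdj D z y) (hb : b ∈ D)
    (hbz : b * z = z * b) (hzb : z * b ∈ D) (h4 : orderOf (y * b) = 4) :
    ∃ h ∈ D, h * h = 1 ∧ h * z * h⁻¹ = z * b ∧ h * b = b * h := by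
  obtain ⟨M, hbM, hsq, hcomm, hMz, hMy⟩ := nm hD hzy hb hbz h4
  have hz : z ∈ D := hzy.1
  have hy : y ∈ D := hzy.2.1
  have hzz := mul_self hD hz
  have hyy := mul_self hD hy
  have hbb := mul_self hD hb
  have hzinv := inv_eq hD hz
  set t := z * y with ht
  have hMt : ∀ m ∈ M, t * m * t⁻¹ ∈ M := by
    intro m hm
    have : t * m * t⁻¹ = z * (y * m * y⁻¹) * z⁻¹ := by rw [ht]; group
    rw [this]; exact hMz _ (hMy _ hm)
  have hMtj : ∀ j : ℕ, ∀ m ∈ M, t ^ j * m * (t ^ j)⁻¹ ∈ M := by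
    intro j
    induction j with
    | zero => intro m hm; simpa using hm
    | succ j ih =>
      intro m hm
      have : t ^ (j + 1) * m * (t ^ (j + 1))⁻¹ = t * (t ^ j * m * (t ^ j)⁻¹) * t⁻¹ := by
        rw [pow_succ']; group
      rw [this]; exact hMt _ (ih m hm)
  have hclaim : ∀ j : ℕ, ∃ n ∈ M, (b * t) ^ j = n * t ^ j := by
    intro j
    induction j with
    | zero => exact ⟨1, M.one_mem, by simp⟩
    | succ j ih =>
      obtain ⟨n, hn, hj⟩ := ih
      refine ⟨n * (t ^ j * b * (t ^ j)⁻¹), M.mul_mem hn (hMtj j b hbM), ?_⟩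
      rw [pow_succ, hj, pow_succ]; group
  have hfy : z * b * y = b * t := by
    rw [ht, ← hbz]; group
  obtain ⟨k, hk⟩ := hzy.2.2.2
  have htm : t ^ (2 * k + 1) = 1 := by rw [← hk]; exact pow_orderOf_eq_one _
  -- H l ∈ M
  have hH : ∀ l : ℕ, (b * t) ^ l * (t ^ l)⁻¹ ∈ M := by
    intro l
    obtain ⟨n, hn, hl⟩ := hclaim l
    rw [hl, mul_assoc, mul_inv_cancel, mul_one]; exact hn
  -- (b t)^(2k+1) = 1 and the swapping property, from `gconstr`'s argument
  have hbtm : (b * t) ^ (2 * k + 1) = 1 := by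
    obtain ⟨n, hn, hnm⟩ := hclaim (2 * k + 1)
    rw [htm, mul_one] at hnm
    have hfy2 : ((b * t) ^ (2 * k + 1)) ^ 2 = 1 := by rw [hnm, pow_two]; exact hsq n hn
    have hfadj : OddAdj D (z * b) y := by
      by_contra hnadj
      have h44 := pow_four_of_not_adj hD hzb hy hnadj
      rw [hfy] at h44
      have hd1 : orderOf (b * t) ∣ 4 := orderOf_dvd_of_pow_eq_one h44
      have hd2 : orderOf (b * t) ∣ (2 * k + 1) * 2 := by
        apply orderOf_dvd_of_pow_eq_one; rw [pow_mul]; exact hfy2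
      have hd3 : orderOf (b * t) ∣ 2 := by
        have := Nat.dvd_gcd hd1 hd2
        have hg : Nat.gcd 4 ((2 * k + 1) * 2) = 2 := by
          have : Nat.gcd 4 ((2 * k + 1) * 2) = Nat.gcd (2 * 2) ((2 * k + 1) * 2) := rfl
          rw [this, Nat.gcd_mul_right]
          have : Nat.gcd 2 (2 * k + 1) = 1 := by
            rw [Nat.gcd_comm]; simp
          rw [this]
        rwa [hg] at this
      have hsq2 : (z * b * y) ^ 2 = 1 := by rw [hfy]; exact orderOf_dvd_iff_pow_eq_one.mp hd3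
      have hcomm' : y * (z * b) = z * b * y := by
        have hinv : (z * b * y)⁻¹ = z * b * y := by
          apply inv_eq_of_mul_eq_one_left; rw [← pow_two]; exact hsq2
        rw [mul_inv_rev, inv_eq hD hy, inv_eq hD hzb] at hinv
        exact hinv
      have hzf : z * (z * b) = z * b * z := by
        rw [← mul_assoc, hzz, one_mul, mul_assoc, hbz, ← mul_assoc, hzz, one_mul]
      have hzfD : z * (z * b) ∈ D := by rw [← mul_assoc, hzz, one_mul]; exact hb
      exact p1 hD hz hzf (ne_one hD hzb) hzfD hzy hcomm'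
    have hodd : Odd (orderOf ((b * t) ^ (2 * k + 1))) := by
      rw [← hfy]; exact Odd.of_dvd_nat hfadj.2.2.2 (orderOf_pow_dvd _)
    exact eq_one_of_odd_of_pow_two_pow hodd 1 (by simpa using hfy2)
  have hswap : (b * t) ^ (k + 1) * (t ^ (k + 1))⁻¹ * z * ((b * t) ^ (k + 1) * (t ^ (k + 1))⁻¹)⁻¹
      = z * b := by
    have hcz : t ^ (k + 1) * y * (t ^ (k + 1))⁻¹ = z := dihedral_conj hzz hyy k htm
    have hzbzb := mul_self hD hzb
    have hfm : (z * b * y) ^ (2 * k + 1) = 1 := by rw [hfy]; exact hbtm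
    have hcf := dihedral_conj hzbzb hyy k hfm
    rw [hfy] at hcf
    have hyz : (t ^ (k + 1))⁻¹ * z * t ^ (k + 1) = y := by
      calc (t ^ (k + 1))⁻¹ * z * t ^ (k + 1)
          = (t ^ (k + 1))⁻¹ * (t ^ (k + 1) * y * (t ^ (k + 1))⁻¹) * t ^ (k + 1) := by rw [hcz]
        _ = y := by group
    calc (b * t) ^ (k + 1) * (t ^ (k + 1))⁻¹ * z * ((b * t) ^ (k + 1) * (t ^ (k + 1))⁻¹)⁻¹
        = (b * t) ^ (k + 1) * ((t ^ (k + 1))⁻¹ * z * t ^ (k + 1)) * ((b * t) ^ (k + 1))⁻¹ := by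
          group
      _ = z * b := by rw [hyz, hcf]
  -- the reflections ρ c = t^c z
  have hρD : ∀ c : ℕ, t ^ c * z ∈ D := fun c => pow_mul_mem hD hz hy hzy.2.2.2 c
  have hρM : ∀ c : ℕ, ∀ m ∈ M, (t ^ c * z) * m * (t ^ c * z)⁻¹ ∈ M := by
    intro c m hm
    have : (t ^ c * z) * m * (t ^ c * z)⁻¹ = t ^ c * (z * m * z⁻¹) * (t ^ c)⁻¹ := by group
    rw [this]; exact hMtj c _ (hMz m hm)
  -- doubling identity
  have hdouble : ∀ l : ℕ, (b * t) ^ (2 * l) * (t ^ (2 * l))⁻¹ =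
      ((b * t) ^ l * (t ^ l)⁻¹) * (t ^ l * ((b * t) ^ l * (t ^ l)⁻¹) * (t ^ l)⁻¹) := by
    intro l
    rw [two_mul, pow_add, pow_add]; group
  -- the induction
  have hind : ∀ j : ℕ, ∃ c : ℕ,
      ((b * t) ^ (2 ^ j) * (t ^ (2 ^ j))⁻¹ = 1 ∨ (b * t) ^ (2 ^ j) * (t ^ (2 ^ j))⁻¹ ∈ D) ∧
      (t ^ c * z) * ((b * t) ^ (2 ^ j) * (t ^ (2 ^ j))⁻¹) * (t ^ c * z)⁻¹ =
        (b * t) ^ (2 ^ j) * (t ^ (2 ^ j))⁻¹ := by
    intro j
    induction j with
    | zero =>
      refine ⟨0, Or.inr ?_, ?_⟩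
      · have : (b * t) ^ (2 ^ 0) * (t ^ (2 ^ 0))⁻¹ = b := by simp
        rw [this]; exact hb
      · have : (b * t) ^ (2 ^ 0) * (t ^ (2 ^ 0))⁻¹ = b := by simp
        rw [this, pow_zero, one_mul, ← hbz, mul_assoc, mul_inv_cancel, mul_one]
    | succ j ih =>
      obtain ⟨c, hUD, hfix⟩ := ih
      set U := (b * t) ^ (2 ^ j) * (t ^ (2 ^ j))⁻¹ with hU
      have hUM : U ∈ M := hH _
      set ρ' := t ^ (2 ^ j + c) * z with hρ'
      have hρ'D : ρ' ∈ D := hρD _
      have hρ'ρ' := mul_self hD hρ'D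
      have hρ'inv := inv_eq hD hρ'D
      have hρ'eq : ρ' = t ^ (2 ^ j) * (t ^ c * z) := by rw [hρ', pow_add]; group
      set U' := t ^ (2 ^ j) * U * (t ^ (2 ^ j))⁻¹ with hU'
      have hU'M : U' ∈ M := hMtj _ U hUM
      have hconj : ρ' * U * ρ'⁻¹ = U' := by
        rw [hρ'eq, hU']
        calc t ^ (2 ^ j) * (t ^ c * z) * U * (t ^ (2 ^ j) * (t ^ c * z))⁻¹
            = t ^ (2 ^ j) * ((t ^ c * z) * U * (t ^ c * z)⁻¹) * (t ^ (2 ^ j))⁻¹ := by group
          _ = t ^ (2 ^ j) * U * (t ^ (2 ^ j))⁻¹ := by rw [hfix]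
      have hnext : (b * t) ^ (2 ^ (j + 1)) * (t ^ (2 ^ (j + 1)))⁻¹ = U * U' := by
        rw [pow_succ 2 j, mul_comm (2 ^ j) 2, hdouble]
      rw [hnext]
      have hsq' : (U * ρ') ^ 2 = U * U' := by
        rw [pow_two, ← hconj, hρ'inv]
        group
      refine ⟨2 ^ j + c, ?_, ?_⟩
      · rcases hUD with h1 | hUD
        · left
          rw [hU', h1, mul_one, mul_inv_cancel, mul_one]
        · by_cases h2 : (U * ρ') ^ 2 = 1
          · left; rw [← hsq']; exact h2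
          · right
            rw [← hsq']
            apply sq_mem_of_order_four hD hUD hρ'D
            apply order_four_of _ h2
            rw [show (4 : ℕ) = 2 * 2 from rfl, pow_mul, hsq', pow_two]
            exact hsq _ (M.mul_mem hUM hU'M)
      · -- ρ' fixes U U'
        have h1 : ρ' * U' * ρ'⁻¹ = U := by
          rw [← hconj, hρ'inv]
          calc ρ' * (ρ' * U * ρ') * ρ' = (ρ' * ρ') * U * (ρ' * ρ') := by group
            _ = U := by rw [hρ'ρ', one_mul, mul_one]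
        calc ρ' * (U * U') * ρ'⁻¹ = (ρ' * U * ρ'⁻¹) * (ρ' * U' * ρ'⁻¹) := by group
          _ = U' * U := by rw [hconj, h1]
          _ = U * U' := hcomm _ hU'M _ hUM
  -- choose j with 2^j ≡ k+1
  obtain ⟨j, hj⟩ := exists_two_pow_modEq k
  obtain ⟨c, hUD, -⟩ := hind j
  have e1 : (b * t) ^ (2 ^ j) = (b * t) ^ (k + 1) := by
    rw [pow_eq_pow_mod (2 ^ j) hbtm, pow_eq_pow_mod (k + 1) hbtm]
    congr 1
  have e2 : t ^ (2 ^ j) = t ^ (k + 1) := by
    rw [pow_eq_pow_mod (2 ^ j) htm, pow_eq_pow_mod (k + 1) htm]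
    congr 1
  rw [e1, e2] at hUD
  set h := (b * t) ^ (k + 1) * (t ^ (k + 1))⁻¹ with hh
  have hhM : h ∈ M := hH _
  have hh1 : h ≠ 1 := by
    intro h1
    rw [h1, one_mul, inv_one, mul_one] at hswap
    apply ne_one hD hb
    calc b = z * (z * b) := by rw [← mul_assoc, hzz, one_mul]
      _ = z * z := by rw [← hswap]
      _ = 1 := hzz
  rcases hUD with h1 | hD'
  · exact absurd h1 hh1
  · exact ⟨h, hD', hsq h hhM, hswap, hcomm h hhM b hbM⟩

end Cfsg.Agent.Lib.H18.RootInvA
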