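import Mathlib
import Cfsg.Prelude.Def_RootSubgroups
import Cfsg.Agent.Lib.H18.RootInvA9

set_option autoImplicit false

/-! Root involutions (Timmesfeld), helper18: the `S₃`-construction and the existence of a partner of
order three. -/

open Cfsg

namespace Cfsg.Agent.Lib.H18.RootInvA

open Cfsg.Agent.Lib.H6.RootInv

variable {G : Type*} [Group G] {D : Set G}

/-- If `a` and `b` do not have the same odd partners, some odd partner of `a` is not one of `b`. -/
theorem exists_adj_not_adj [Finite G] (hD : IsRootInvolutionSet D)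
    (hc : IsConnectedSet (OddAdj D) D) {a b : G} (ha : a ∈ D) (hb : b ∈ D)
    (h : ¬ SameA D a b) : ∃ x, OddAdj D a x ∧ ¬ OddAdj D b x := by
  by_contra hcon
  push_neg at hcon
  apply h
  have hsub : {y | OddAdj D a y} ⊆ {y | OddAdj D b y} := fun y hy => hcon y hy
  have hcard := ncard_adj_eq hD hc ha hb
  have heq : {y | OddAdj D a y} = {y | OddAdj D b y} :=
    Set.eq_of_subset_of_ncard_le hsub hcard.ge (Set.toFinite _)
  exact fun y => Set.ext_iff.mp heq y

/-- **The `S₃`-construction.** -/
theorem s3_constr (hD : IsRootInvolutionSet D) {z b e y : G} (hzy : OddAdj D z y) (hb : b ∈ D)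
    (hbz : b * z = z * b) (hzb : z * b ∈ D) (he : e ∈ D) (hez : e * z = z * e)
    (heb : e * b * e = z * b) (h4 : orderOf (y * b) = 4) :
    ∃ x₂ ∈ D, x₂ * z * x₂ = b ∧ x₂ * b * x₂ = z := by
  obtain ⟨h, hhh, hhz, hhb⟩ := gconstr hD hzy hb hbz hzb h4
  have hz : z ∈ D := hzy.1
  have hzz := mul_self hD hz
  have hbb := mul_self hD hb
  have hee := mul_self hD he
  have hhinv : h⁻¹ = h := inv_eq_of_mul_eq_one_left hhh
  have H1 : h * z * h = z * b := by rw [← hhz, hhinv]
  have H2 : h * b * h = b := by rw [hhb, mul_assoc, hhh, mul_one]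
  have E1 : e * z * e = z := by rw [hez, mul_assoc, hee, mul_one]
  have E3 : e * (z * b) * e = b := by
    calc e * (z * b) * e = (e * z * e) * (e * b * e) := by
          calc e * (z * b) * e = e * z * 1 * b * e := by group
            _ = e * z * (e * e) * b * e := by rw [hee]
            _ = (e * z * e) * (e * b * e) := by group
      _ = z * (z * b) := by rw [E1, heb]
      _ = b := by rw [← mul_assoc, hzz, one_mul]
  set x₂ := h * e * h with hx₂
  have hx₂D : x₂ ∈ D := by
    have := hD.conj_mem e he h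
    rwa [hhinv] at this
  have hx₂x₂ := mul_self hD hx₂D
  have X1 : x₂ * z * x₂ = b := by
    calc x₂ * z * x₂ = h * (e * (h * z * h) * e) * h := by rw [hx₂]; group
      _ = h * (e * (z * b) * e) * h := by rw [H1]
      _ = h * b * h := by rw [E3]
      _ = b := H2
  refine ⟨x₂, hx₂D, X1, ?_⟩
  calc x₂ * b * x₂ = x₂ * (x₂ * z * x₂) * x₂ := by rw [X1]
    _ = (x₂ * x₂) * z * (x₂ * x₂) := by group
    _ = z := by rw [hx₂x₂, one_mul, mul_one]

/-- **Order three.** Let `a ∈ D`, `b ∈ D` commuting with `a b ∈ D`, and suppose `a` and `b` do not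
have the same odd partners.  Then some `x ∈ D` has `b x` of order 4 and `a x` of order 3. -/
theorem exists_order_three [Finite G] (hD : IsRootInvolutionSet D)
    (hc : IsConnectedSet (OddAdj D) D) {a b : G} (ha : a ∈ D) (hb : b ∈ D)
    (hba : b * a = a * b) (habD : a * b ∈ D) (hns : ¬ SameA D a b) :
    ∃ x ∈ D, orderOf (b * x) = 4 ∧ orderOf (a * x) = 3 := by
  have haa := mul_self hD ha
  have hbb := mul_self hD hb
  have hb1 := ne_one hD hb
  -- step 2: x₀
  obtain ⟨x₀, hax₀, hnbx₀⟩ := exists_adj_not_adj hD hc ha hb hns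
  have hx₀ : x₀ ∈ D := hax₀.2.1
  have hnc₀ : ¬ (x₀ * b = b * x₀) := fun hcm => p1 hD ha hba.symm hb1 habD hax₀ hcm
  have h4₀ : orderOf (x₀ * b) = 4 := by
    rw [← orderOf_mul_comm hD hb hx₀]
    exact order_four_of_not_comm hD hb hx₀ (pow_four_of_not_adj hD hb hx₀ hnbx₀)
      (fun h => hnc₀ h.symm)
  -- step 3: f
  obtain ⟨f, hfD, hff, hfa, hfb⟩ := gconstr_D hD hax₀ hb hba habD h4₀
  have hfinv : f⁻¹ = f := inv_eq_of_mul_eq_one_left hff
  rw [hfinv] at hfa
  -- a f a = b f
  have hafa : a * f * a = b * f := by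
    have h1 : a * f = f * (a * b) := by
      calc a * f = (f * f) * a * f := by rw [hff, one_mul]
        _ = f * (f * a * f) := by group
        _ = f * (a * b) := by rw [hfa]
    calc a * f * a = f * (a * b) * a := by rw [h1]
      _ = f * (a * (b * a)) := by group
      _ = f * (a * (a * b)) := by rw [hba]
      _ = f * ((a * a) * b) := by group
      _ = f * b := by rw [haa, one_mul]
      _ = b * f := hfb
  have hbfD : b * f ∈ D := by rw [← hafa]; exact conj_mem' hD hfD ha
  -- a does not commute with f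
  have hnaf : ¬ (a * f = f * a) := by
    intro hcm
    have : a * f * a = f := by rw [hcm, mul_assoc, haa, mul_one]
    rw [hafa] at this
    apply hb1
    calc b = b * f * f := by rw [mul_assoc, hff, mul_one]
      _ = f * f := by rw [this]
      _ = 1 := hff
  -- step 4: y'
  have hns' : ¬ SameA D b f := by
    intro hs
    have hC := comm_eq_of_sameA hD hc hb hfD hs
    have : a ∈ commutingMembers D b := ⟨ha, hba.symm⟩
    rw [hC] at this
    exact hnaf this.2
  obtain ⟨y', hby', hnfy'⟩ := exists_adj_not_adj hD hc hb hfD hns'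
  have hy' : y' ∈ D := hby'.2.1
  have hncy' : ¬ (y' * f = f * y') :=
    fun hcm => p1 hD hb hfb.symm (ne_one hD hfD) hbfD hby' hcm
  have h4' : orderOf (y' * f) = 4 := by
    rw [← orderOf_mul_comm hD hfD hy']
    exact order_four_of_not_comm hD hfD hy' (pow_four_of_not_adj hD hfD hy' hnfy')
      (fun h => hncy' h.symm)
  -- step 5: x₂
  obtain ⟨x₂, hx₂D, X1, X2⟩ := s3_constr hD hby' hfD hfb hbfD ha hba.symm hafa h4'
  have hx₂x₂ := mul_self hD hx₂D
  have hx₂inv := inv_eq hD hx₂D
  have hainv := inv_eq hD ha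
  refine ⟨x₂, hx₂D, ?_, ?_⟩
  · -- b x₂ has order 4
    have hsq : (b * x₂) ^ 2 = b * f := by
      rw [pow_two]
      calc b * x₂ * (b * x₂) = b * (x₂ * b * x₂) := by group
        _ = b * f := by rw [X1]
    apply order_four_of
    · rw [show (4 : ℕ) = 2 * 2 from rfl, pow_mul, hsq, pow_two]; exact mul_self hD hbfD
    · rw [hsq]; exact ne_one hD hbfD
  · -- a x₂ has order 3
    set r := a * x₂ with hr
    have hrinv : r⁻¹ = x₂ * a := by rw [hr, mul_inv_rev, hainv, hx₂inv]
    have C1 : r * b * r⁻¹ = b * f := by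
      rw [hrinv]
      calc r * b * (x₂ * a) = a * (x₂ * b * x₂) * a := by rw [hr]; group
        _ = a * f * a := by rw [X1]
        _ = b * f := hafa
    have hbfb : b * f * b = f := by rw [← hfb, mul_assoc, hbb, mul_one]
    have hX3 : x₂ * (b * f) * x₂ = f * b := by
      calc x₂ * (b * f) * x₂ = (x₂ * b * x₂) * (x₂ * f * x₂) := by
            calc x₂ * (b * f) * x₂ = x₂ * b * 1 * f * x₂ := by group
              _ = x₂ * b * (x₂ * x₂) * f * x₂ := by rw [hx₂x₂]
              _ = (x₂ * b * x₂) * (x₂ * f * x₂) := by group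
        _ = f * b := by rw [X1, X2]
    have haba : a * b * a = b := by rw [← hba, mul_assoc, haa, mul_one]
    have C2 : r * (b * f) * r⁻¹ = f := by
      rw [hrinv]
      calc r * (b * f) * (x₂ * a) = a * (x₂ * (b * f) * x₂) * a := by rw [hr]; group
        _ = a * (f * b) * a := by rw [hX3]
        _ = (a * f * a) * (a * b * a) := by
            calc a * (f * b) * a = a * f * 1 * b * a := by group
              _ = a * f * (a * a) * b * a := by rw [haa]
              _ = (a * f * a) * (a * b * a) := by group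
        _ = b * f * b := by rw [hafa, haba]
        _ = f := hbfb
    have C3 : r * f * r⁻¹ = b := by
      rw [hrinv]
      calc r * f * (x₂ * a) = a * (x₂ * f * x₂) * a := by rw [hr]; group
        _ = a * b * a := by rw [X2]
        _ = b := haba
    have e1 : MulAut.conj r b = b * f := by rw [MulAut.conj_apply]; exact C1
    have e2 : MulAut.conj r (b * f) = f := by rw [MulAut.conj_apply]; exact C2
    have e3 : MulAut.conj r f = b := by rw [MulAut.conj_apply]; exact C3
    have hbf_ne : b * f ≠ b := by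
      intro h
      apply ne_one hD hfD
      calc f = b * (b * f) := by rw [← mul_assoc, hbb, one_mul]
        _ = b * b := by rw [h]
        _ = 1 := hbb
    -- r^3 centralizes b
    have hφ3 : MulAut.conj (r ^ 3) b = b := by
      rw [map_pow]
      show ((MulAut.conj r) ^ 3) b = b
      rw [show (3 : ℕ) = 1 + 1 + 1 from rfl, pow_succ, pow_succ, pow_one]
      simp only [MulAut.mul_apply]
      rw [e1, e2, e3]
    -- a x₂ is an odd product
    have hadj : OddAdj D a x₂ := by
      apply adj_of_pow_four_ne hD ha hx₂D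
      intro h44
      have hφ4 : MulAut.conj (r ^ 4) b = b * f := by
        rw [map_pow]
        show ((MulAut.conj r) ^ 4) b = b * f
        rw [show (4 : ℕ) = 1 + 1 + 1 + 1 from rfl, pow_succ, pow_succ, pow_succ, pow_one]
        simp only [MulAut.mul_apply]
        rw [e1, e2, e3, e1]
      rw [h44, map_one, MulAut.one_apply] at hφ4
      exact hbf_ne hφ4.symm
    have hr1 : r ≠ 1 := by
      intro h
      rw [h, map_one, MulAut.one_apply] at e1
      exact hbf_ne e1.symm
    have hr3 : r ^ 3 = 1 := by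
      by_contra hne3
      -- x₃ = r^3 a
      have hx₃D : r ^ 3 * a ∈ D := pow_mul_mem hD ha hx₂D hadj.2.2.2 3
      have hconj3 : a * r ^ 3 * a⁻¹ = (r ^ 3)⁻¹ := conj_prod_pow hD ha hx₂D 3
      have hax₃ : a * (r ^ 3 * a) = (r ^ 3)⁻¹ := by
        rw [← hconj3, hainv]; group
      have hadj3 : OddAdj D a (r ^ 3 * a) := by
        refine ⟨ha, hx₃D, ?_, ?_⟩
        · intro h
          apply hne3
          calc r ^ 3 = r ^ 3 * a * a⁻¹ := by group
            _ = 1 := by rw [← h, mul_inv_cancel]
        · rw [hax₃, orderOf_inv]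
          exact Odd.of_dvd_nat hadj.2.2.2 (orderOf_pow_dvd 3)
      have hcomm3 : r ^ 3 * a * b = b * (r ^ 3 * a) := by
        have h3 : r ^ 3 * b * (r ^ 3)⁻¹ = b := by
          rw [← MulAut.conj_apply]; exact hφ3
        have h3' : r ^ 3 * b = b * r ^ 3 := by
          calc r ^ 3 * b = r ^ 3 * b * (r ^ 3)⁻¹ * r ^ 3 := by group
            _ = b * r ^ 3 := by rw [h3]
        calc r ^ 3 * a * b = r ^ 3 * (a * b) := by group
          _ = r ^ 3 * (b * a) := by rw [hba]
          _ = (r ^ 3 * b) * a := by group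
          _ = b * r ^ 3 * a := by rw [h3']
          _ = b * (r ^ 3 * a) := by group
      exact p1 hD ha hba.symm hb1 habD hadj3 hcomm3
    haveI : Fact (Nat.Prime 3) := ⟨Nat.prime_three⟩
    exact orderOf_eq_prime hr3 hr1

end Cfsg.Agent.Lib.H18.RootInvA
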