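import Mathlib
import Cfsg.Agent.Lib.H9.S28Defs
import Cfsg.Agent.Lib.H18.HSA5

set_option autoImplicit false

namespace Cfsg.Agent.Lib.H18.S28

open Equiv Cfsg.Agent.Lib.H9.S28 Cfsg.Agent.Lib.H15.SymF

variable {β : Type*} [Fintype β] [DecidableEq β] {G L : Subgroup (Perm β)}

/-- the other two points of a 4-set -/
theorem c4_other_two {S : Finset β} (hS : S.card = 4) {u v : β} (hu : u ∈ S) (hv : v ∈ S)
    (huv : u ≠ v) : ∃ c d : β, c ∈ S ∧ d ∈ S ∧ c ≠ d ∧ u ≠ c ∧ u ≠ d ∧ v ≠ c ∧ v ≠ d := by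
  have hv' : v ∈ S.erase u := Finset.mem_erase.mpr ⟨huv.symm, hv⟩
  have h1 : (S.erase u).card = 3 := by rw [Finset.card_erase_of_mem hu, hS]
  have h2 : ((S.erase u).erase v).card = 2 := by rw [Finset.card_erase_of_mem hv', h1]
  obtain ⟨c, d, hcd, hset⟩ := Finset.card_eq_two.mp h2
  have hc : c ∈ (S.erase u).erase v := by rw [hset]; simp
  have hd : d ∈ (S.erase u).erase v := by rw [hset]; simp
  rw [Finset.mem_erase, Finset.mem_erase] at hc hd
  exact ⟨c, d, hc.2.2, hd.2.2, hcd, fun h => hc.2.1 h.symm, fun h => hd.2.1 h.symm,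
    fun h => hc.1 h.symm, fun h => hd.1 h.symm⟩

/-- C4 2TR -/
theorem G_two_trans (h5 : 5 ≤ Fintype.card β) (hprim : MulAction.IsPreprimitive ↥G β)
    {S : Finset β} (hS : IsKlein G S) :
    ∀ a b c d : β, a ≠ b → c ≠ d → ∃ g ∈ G, g a = c ∧ g b = d := by
  have h5' : 5 ≤ Nat.card β := by rw [Nat.card_eq_fintype_card]; exact h5
  have hcard : (↑S : Set β).ncard = 4 := by rw [Set.ncard_coe_finset]; exact hS.1
  refine Cfsg.Agent.Lib.H18.HS.a5_two_trans hprim (↑S) hcard h5' ?_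
  intro u hu v hv
  have hu' : u ∈ S := hu
  have hv' : v ∈ S := hv
  by_cases huv : u = v
  · exact ⟨1, G.one_mem, fun _ _ => rfl, by rw [huv]; rfl⟩
  · obtain ⟨c, d, hc, hd, hcd, huc, hud, hvc, hvd⟩ := c4_other_two hS.1 hu' hv' huv
    refine ⟨swap u v * swap c d, hS.2 u v c d hu' hv' hc hd huv huc hud hvc hvd hcd, ?_, ?_⟩
    · intro z hz
      have hz' : z ∉ S := hz
      have hzu : z ≠ u := fun h => hz' (h ▸ hu')
      have hzv : z ≠ v := fun h => hz' (h ▸ hv')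
      have hzc : z ≠ c := fun h => hz' (h ▸ hc)
      have hzd : z ≠ d := fun h => hz' (h ▸ hd)
      rw [Perm.mul_apply, swap_apply_of_ne_of_ne hzc hzd, swap_apply_of_ne_of_ne hzu hzv]
    · rw [Perm.mul_apply, swap_apply_of_ne_of_ne huc hud, swap_apply_left]

end Cfsg.Agent.Lib.H18.S28
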