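import Mathlib
import Cfsg.Agent.Lib.H9.S28Defs

set_option autoImplicit false

namespace Cfsg.Agent.Lib.H18.S28

open Equiv Cfsg.Agent.Lib.H9.S28 Cfsg.Agent.Lib.H15.SymF
open scoped Pointwise

/-- Sylow conjugation of a `p`-subgroup inside an intermediate subgroup. -/
theorem o1_conj_subgroup {G : Type*} [Group G] [Finite G] {p : ℕ} [Fact p.Prime]
    (P : Sylow p G) (K : Subgroup G) (hPK : (P : Subgroup G) ≤ K) (V : Subgroup G) (hVK : V ≤ K)
    (hV : IsPGroup p ↥V) : ∃ k ∈ K, ∀ v ∈ V, k * v * k⁻¹ ∈ (P : Subgroup G) := by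
  set PK : Sylow p K := P.subtype hPK with hPKdef
  have hV' : IsPGroup p ↥(V.comap K.subtype) := hV.comap_of_injective K.subtype K.subtype_injective
  obtain ⟨S, hS⟩ := hV'.exists_le_sylow
  obtain ⟨k, hk⟩ := MulAction.exists_smul_eq K S PK
  refine ⟨k, k.2, ?_⟩
  intro v hv
  have h1 : (⟨v, hVK hv⟩ : K) ∈ (S : Subgroup K) := hS (Subgroup.mem_comap.mpr hv)
  have h2 : MulAut.conj k • (⟨v, hVK hv⟩ : K) ∈ MulAut.conj k • (S : Subgroup K) :=
    Subgroup.smul_mem_pointwise_smul _ _ _ h1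
  rw [← Sylow.coe_subgroup_smul, hk, hPKdef, Sylow.coe_subtype, Subgroup.mem_subgroupOf] at h2
  simpa [MulAut.smul_def, MulAut.conj_apply] using h2

variable {α : Type*} [Fintype α] [DecidableEq α] {H : Subgroup (Perm α)}

/-- a permutation mapping a finset into itself maps it onto itself. -/
theorem o1_mem_iff_of_maps (s : Finset α) (h : Perm α) (hs : ∀ x ∈ s, h x ∈ s) :
    ∀ x, h x ∈ s ↔ x ∈ s := by
  have himg : s.image h = s := by
    apply Finset.eq_of_subset_of_card_le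
    · intro y hy
      obtain ⟨x, hx, rfl⟩ := Finset.mem_image.mp hy
      exact hs x hx
    · rw [Finset.card_image_of_injective _ h.injective]
  intro x
  constructor
  · intro hx
    rw [← himg] at hx
    obtain ⟨y, hy, hyx⟩ := Finset.mem_image.mp hx
    rwa [← h.injective hyx]
  · exact hs x

/-- the even permutations preserving the finset `s`. -/
def o1Stab (s : Finset α) : Subgroup ↥(alternatingGroup α) where
  carrier := {g | ∀ x, (g : Perm α) x ∈ s ↔ x ∈ s}
  one_mem' := fun _ => Iff.rfl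
  mul_mem' := by
    intro g h hg hh x
    show ((g : Perm α) * (h : Perm α)) x ∈ s ↔ x ∈ s
    rw [Perm.mul_apply]
    exact (hg _).trans (hh x)
  inv_mem' := by
    intro g hg x
    show ((g : Perm α)⁻¹) x ∈ s ↔ x ∈ s
    have := hg ((g : Perm α)⁻¹ x)
    rw [show (g : Perm α) ((g : Perm α)⁻¹ x) = x from Equiv.apply_symm_apply _ x] at this
    exact this.symm

theorem mem_o1Stab (s : Finset α) (g : ↥(alternatingGroup α)) :
    g ∈ o1Stab s ↔ ∀ x, (g : Perm α) x ∈ s ↔ x ∈ s := Iff.rfl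

/-- O1-SYL: Sylow's theorem inside `Alt α ⊓ Stab(s)`. -/
theorem conj_into (s : Finset α) (hHs : ∀ h ∈ H, ∀ x ∈ s, h x ∈ s)
    (P : Sylow 2 ↥(alternatingGroup α))
    (hPH : (P : Subgroup ↥(alternatingGroup α)).map (alternatingGroup α).subtype ≤ H)
    (V : Subgroup (Perm α)) (hV2 : IsPGroup 2 ↥V) (hVA : V ≤ alternatingGroup α)
    (hVs : ∀ v ∈ V, ∀ x ∈ s, v x ∈ s) :
    ∃ k : Perm α, (∀ x, k x ∈ s ↔ x ∈ s) ∧ ∀ v ∈ V, k * v * k⁻¹ ∈ H := by
  have hPK : (P : Subgroup ↥(alternatingGroup α)) ≤ o1Stab s := by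
    intro g hg
    rw [mem_o1Stab]
    apply o1_mem_iff_of_maps s
    apply hHs
    exact hPH ⟨g, hg, rfl⟩
  set V' : Subgroup ↥(alternatingGroup α) := V.comap (alternatingGroup α).subtype with hV'def
  have hV'K : V' ≤ o1Stab s := by
    intro g hg
    rw [mem_o1Stab]
    apply o1_mem_iff_of_maps s
    exact hVs _ hg
  have hV'p : IsPGroup 2 ↥V' :=
    hV2.comap_of_injective (alternatingGroup α).subtype (alternatingGroup α).subtype_injective
  obtain ⟨k, hkK, hk⟩ := o1_conj_subgroup P (o1Stab s) hPK V' hV'K hV'p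
  refine ⟨(k : Perm α), (mem_o1Stab s k).mp hkK, ?_⟩
  intro v hv
  have hvA : v ∈ alternatingGroup α := hVA hv
  have hmem : (⟨v, hvA⟩ : ↥(alternatingGroup α)) ∈ V' := by
    rw [hV'def, Subgroup.mem_comap]
    exact hv
  have := hk ⟨v, hvA⟩ hmem
  exact hPH ⟨_, this, rfl⟩

end Cfsg.Agent.Lib.H18.S28
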