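import Mathlib
import Cfsg.Agent.Lib.H9.S28Defs
import Cfsg.Agent.Lib.H18.S28O1SYL

set_option autoImplicit false

namespace Cfsg.Agent.Lib.H18.S28

open Equiv Cfsg.Agent.Lib.H9.S28 Cfsg.Agent.Lib.H15.SymF

theorem o1_kleinV_pgroup : IsPGroup 2 ↥kleinV := by
  intro g
  refine ⟨1, ?_⟩
  apply Subtype.ext
  have := ((mem_kleinV_iff g.1).mp g.2).2
  simpa [pow_two] using this

theorem o1_dt_mem_kleinV : ∀ i j l m : Fin 4, i ≠ j → i ≠ l → i ≠ m → j ≠ l → j ≠ m → l ≠ m →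
    swap i j * swap l m ∈ kleinV := by
  simp only [mem_kleinV_iff]
  decide

variable {α : Type*} [Fintype α] [DecidableEq α] {H : Subgroup (Perm α)}

theorem o1_via_swap {n : ℕ} (ι : Fin n ↪ α) (i j : Fin n) :
    Equiv.Perm.viaEmbeddingHom ι (swap i j) = swap (ι i) (ι j) := by
  ext p
  by_cases hp : p ∈ Set.range ι
  · obtain ⟨x, rfl⟩ := hp
    show Equiv.Perm.viaEmbedding (swap i j) ι (ι x) = _
    rw [Equiv.Perm.viaEmbedding_apply, ι.injective.swap_apply]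
  · show Equiv.Perm.viaEmbedding (swap i j) ι p = _
    rw [Equiv.Perm.viaEmbedding_apply_of_notMem _ _ _ hp]
    have h1 : p ≠ ι i := fun h => hp ⟨i, h.symm⟩
    have h2 : p ≠ ι j := fun h => hp ⟨j, h.symm⟩
    rw [swap_apply_of_ne_of_ne h1 h2]

/-- O1-KLEIN -/
theorem exists_klein (s : Finset α) (hHs : ∀ h ∈ H, ∀ x ∈ s, h x ∈ s)
    (P : Sylow 2 ↥(alternatingGroup α))
    (hPH : (P : Subgroup ↥(alternatingGroup α)).map (alternatingGroup α).subtype ≤ H)
    (hs4 : 4 ≤ s.card) : ∃ S : Finset α, S ⊆ s ∧ IsKlein H S := by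
  have hemb : Nonempty (Fin 4 ↪ {x // x ∈ s}) := by
    apply Function.Embedding.nonempty_of_card_le
    rw [Fintype.card_fin, Fintype.card_coe]; exact hs4
  obtain ⟨ι₀⟩ := hemb
  set ι : Fin 4 ↪ α := ι₀.trans (Function.Embedding.subtype _) with hι
  have hιs : ∀ i, ι i ∈ s := fun i => (ι₀ i).2
  set Φ : Perm (Fin 4) →* Perm α := Equiv.Perm.viaEmbeddingHom ι with hΦ
  have hΦ1 : ∀ (σ : Perm (Fin 4)) (i : Fin 4), Φ σ (ι i) = ι (σ i) := fun σ i =>
    Equiv.Perm.viaEmbedding_apply σ ι i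
  have hΦ2 : ∀ (σ : Perm (Fin 4)) (p : α), p ∉ Set.range ι → Φ σ p = p := fun σ p hp =>
    Equiv.Perm.viaEmbedding_apply_of_notMem σ ι p hp
  have hΦs : ∀ σ : Perm (Fin 4), Equiv.Perm.sign (Φ σ) = Equiv.Perm.sign σ := by
    intro σ
    show Equiv.Perm.sign (Equiv.Perm.viaEmbedding σ ι) = _
    unfold Equiv.Perm.viaEmbedding
    exact @Equiv.Perm.sign_extendDomain _ _ _ _ _ _ σ _ (Classical.decPred _) _
  set V : Subgroup (Perm α) := kleinV.map Φ with hV
  have hV2 : IsPGroup 2 ↥V := o1_kleinV_pgroup.map Φ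
  have hVA : V ≤ alternatingGroup α := by
    rintro _ ⟨σ, hσ, rfl⟩
    rw [Equiv.Perm.mem_alternatingGroup, hΦs]
    exact ((mem_kleinV_iff σ).mp hσ).1
  have hVs : ∀ v ∈ V, ∀ x ∈ s, v x ∈ s := by
    rintro _ ⟨σ, -, rfl⟩ x hx
    by_cases hp : x ∈ Set.range ι
    · obtain ⟨i, rfl⟩ := hp
      rw [hΦ1]; exact hιs _
    · rw [hΦ2 σ x hp]; exact hx
  obtain ⟨k, hks, hkV⟩ := conj_into s hHs P hPH V hV2 hVA hVs
  refine ⟨(Finset.univ.image ι).image k, ?_, ?_, ?_⟩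
  · intro y hy
    obtain ⟨x, hx, rfl⟩ := Finset.mem_image.mp hy
    obtain ⟨i, -, rfl⟩ := Finset.mem_image.mp hx
    exact (hks _).mpr (hιs i)
  · rw [Finset.card_image_of_injective _ k.injective, Finset.card_image_of_injective _ ι.injective]
    simp
  · intro a b c d ha hb hc hd hab hac had hbc hbd hcd
    have hrep : ∀ y ∈ (Finset.univ.image ι).image k, ∃ i : Fin 4, y = k (ι i) := by
      intro y hy
      obtain ⟨x, hx, rfl⟩ := Finset.mem_image.mp hy
      obtain ⟨i, -, rfl⟩ := Finset.mem_image.mp hx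
      exact ⟨i, rfl⟩
    obtain ⟨i, rfl⟩ := hrep a ha
    obtain ⟨j, rfl⟩ := hrep b hb
    obtain ⟨l, rfl⟩ := hrep c hc
    obtain ⟨m, rfl⟩ := hrep d hd
    have hij : i ≠ j := fun h => hab (by rw [h])
    have hil : i ≠ l := fun h => hac (by rw [h])
    have him : i ≠ m := fun h => had (by rw [h])
    have hjl : j ≠ l := fun h => hbc (by rw [h])
    have hjm : j ≠ m := fun h => hbd (by rw [h])
    have hlm : l ≠ m := fun h => hcd (by rw [h])
    have hmem : Φ (swap i j * swap l m) ∈ V := ⟨_, o1_dt_mem_kleinV i j l m hij hil him hjl hjm hlm, rfl⟩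
    have := hkV _ hmem
    rw [map_mul, hΦ, o1_via_swap, o1_via_swap] at this
    have e : swap (k (ι i)) (k (ι j)) * swap (k (ι l)) (k (ι m)) =
        k * (swap (ι i) (ι j) * swap (ι l) (ι m)) * k⁻¹ := by
      rw [Equiv.swap_apply_apply, Equiv.swap_apply_apply]
      group
    rw [e]
    exact this

end Cfsg.Agent.Lib.H18.S28
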