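import Mathlib
import Cfsg.Agent.Lib.H9.S28Defs
import Cfsg.Agent.Lib.H18.S28O1SYL

set_option autoImplicit false

namespace Cfsg.Agent.Lib.H18.S28

open Equiv Cfsg.Agent.Lib.H9.S28 Cfsg.Agent.Lib.H15.SymF

variable {α : Type*} [Fintype α] [DecidableEq α] {H : Subgroup (Perm α)}

/-- four distinct points in a finset with at least 4 elements -/
theorem o1_four_points (t : Finset α) (ht : 4 ≤ t.card) :
    ∃ a b c d : α, a ∈ t ∧ b ∈ t ∧ c ∈ t ∧ d ∈ t ∧ a ≠ b ∧ a ≠ c ∧ a ≠ d ∧ b ≠ c ∧ b ≠ d ∧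
      c ≠ d := by
  have hemb : Nonempty (Fin 4 ↪ {x // x ∈ t}) := by
    apply Function.Embedding.nonempty_of_card_le
    rw [Fintype.card_fin, Fintype.card_coe]; exact ht
  obtain ⟨ι⟩ := hemb
  have hne : ∀ i j : Fin 4, i ≠ j → ((ι i : {x // x ∈ t}) : α) ≠ ((ι j : {x // x ∈ t}) : α) := by
    intro i j hij h
    exact hij (ι.injective (Subtype.ext h))
  exact ⟨ι 0, ι 1, ι 2, ι 3, (ι 0).2, (ι 1).2, (ι 2).2, (ι 3).2, hne 0 1 (by decide),
    hne 0 2 (by decide), hne 0 3 (by decide), hne 1 2 (by decide), hne 1 3 (by decide),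
    hne 2 3 (by decide)⟩

/-- O1-PHI -/
theorem card_le_mvd_add_three (L : Subgroup (Perm α)) (hLH : L ≤ H)
    (hHN : ∀ h ∈ H, ∀ x ∈ L, h * x * h⁻¹ ∈ L)
    (hbender : ∀ h ∈ H, (∀ x ∈ L, x * h = h * x) → h ∈ L)
    (P : Sylow 2 ↥(alternatingGroup α))
    (hPH : (P : Subgroup ↥(alternatingGroup α)).map (alternatingGroup α).subtype ≤ H) :
    Fintype.card α ≤ (mvd L).card + 3 := by
  by_contra hcon
  push Not at hcon
  have hcompl : 4 ≤ ((mvd L)ᶜ).card := by
    rw [Finset.card_compl]; omega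
  obtain ⟨a, b, c, d, ha, hb, hc, hd, hab, hac, had, hbc, hbd, hcd⟩ :=
    o1_four_points ((mvd L)ᶜ) hcompl
  rw [Finset.mem_compl] at ha hb hc hd
  set u : Perm α := swap a b * swap c d with hu
  have hufix : ∀ x ∈ mvd L, u x = x := by
    intro x hx
    have h1 : x ≠ a := fun h => ha (h ▸ hx)
    have h2 : x ≠ b := fun h => hb (h ▸ hx)
    have h3 : x ≠ c := fun h => hc (h ▸ hx)
    have h4 : x ≠ d := fun h => hd (h ▸ hx)
    rw [hu, Perm.mul_apply, swap_apply_of_ne_of_ne h3 h4, swap_apply_of_ne_of_ne h1 h2]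
  have huu : u * u = 1 := by
    have hdis : Perm.Disjoint (swap a b) (swap c d) := by
      intro x
      by_cases h1 : x = a
      · right; rw [h1]; exact swap_apply_of_ne_of_ne hac had
      by_cases h2 : x = b
      · right; rw [h2]; exact swap_apply_of_ne_of_ne hbc hbd
      · left; exact swap_apply_of_ne_of_ne h1 h2
    rw [hu]
    calc swap a b * swap c d * (swap a b * swap c d)
        = swap a b * (swap c d * swap a b) * swap c d := by group
      _ = swap a b * (swap a b * swap c d) * swap c d := by rw [hdis.commute.eq]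
      _ = (swap a b * swap a b) * (swap c d * swap c d) := by group
      _ = 1 := by rw [swap_mul_self, swap_mul_self, one_mul]
  have hzp : ∀ v ∈ Subgroup.zpowers u, v = 1 ∨ v = u := by
    intro v hv
    obtain ⟨n, rfl⟩ := Subgroup.mem_zpowers_iff.mp hv
    rcases Int.even_or_odd n with ⟨m, hm⟩ | ⟨m, hm⟩
    · left
      rw [hm, ← two_mul, zpow_mul, zpow_two, huu, one_zpow]
    · right
      rw [hm, zpow_add, zpow_mul, zpow_two, huu, one_zpow, one_mul, zpow_one]
  have hV2 : IsPGroup 2 ↥(Subgroup.zpowers u) := by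
    intro g
    refine ⟨1, ?_⟩
    apply Subtype.ext
    rcases hzp g.1 g.2 with h | h
    · simp [h]
    · simp [h, pow_two, huu]
  have huA : u ∈ alternatingGroup α := by
    rw [Equiv.Perm.mem_alternatingGroup, hu, map_mul, Equiv.Perm.sign_swap hab,
      Equiv.Perm.sign_swap hcd]
    rfl
  have hVA : Subgroup.zpowers u ≤ alternatingGroup α := by
    rw [Subgroup.zpowers_le]; exact huA
  have hVs : ∀ v ∈ Subgroup.zpowers u, ∀ x ∈ mvd L, v x ∈ mvd L := by
    intro v hv x hx
    rcases hzp v hv with h | h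
    · rw [h]; exact hx
    · rw [h, hufix x hx]; exact hx
  obtain ⟨k, hks, hkV⟩ := conj_into (mvd L) (preserves_mvd hHN) P hPH (Subgroup.zpowers u) hV2 hVA hVs
  have hu'H : k * u * k⁻¹ ∈ H := hkV u (Subgroup.mem_zpowers u)
  -- `u' = k u k⁻¹` fixes `mvd L` pointwise
  have hu'fix : ∀ x ∈ mvd L, (k * u * k⁻¹) x = x := by
    intro x hx
    have hx' : k⁻¹ x ∈ mvd L := by
      have := hks (k⁻¹ x)
      rw [show k (k⁻¹ x) = x from Equiv.apply_symm_apply k x] at this
      exact this.mp hx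
    rw [Perm.mul_apply, Perm.mul_apply, hufix _ hx']
    exact Equiv.apply_symm_apply k x
  have hLfix : ∀ x ∈ L, ∀ y, y ∉ mvd L → x y = y := by
    intro x hx y hy
    by_contra h
    exact hy (mem_mvd.2 ⟨x, hx, h⟩)
  have hcomm : ∀ x ∈ L, x * (k * u * k⁻¹) = (k * u * k⁻¹) * x := by
    intro x hx
    have hdis : Perm.Disjoint x (k * u * k⁻¹) := by
      intro y
      by_cases hy : y ∈ mvd L
      · right; exact hu'fix y hy
      · left; exact hLfix x hx y hy
    exact hdis.commute.eq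
  have hu'L : k * u * k⁻¹ ∈ L := hbender _ hu'H hcomm
  -- but `u'` moves `k a ∉ mvd L`
  have hka : k a ∉ mvd L := fun h => ha ((hks a).mp h)
  apply hka
  refine mem_mvd.2 ⟨k * u * k⁻¹, hu'L, ?_⟩
  rw [Perm.mul_apply, Perm.mul_apply, show k⁻¹ (k a) = a from Equiv.symm_apply_apply k a]
  have hua : u a = b := by
    rw [hu, Perm.mul_apply, swap_apply_of_ne_of_ne hac had, swap_apply_left]
  rw [hua]
  intro h
  exact hab (k.injective h).symm

end Cfsg.Agent.Lib.H18.S28
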