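import Mathlib

/-!
helper18: S3571 group block, case (ii) "imprimitive": a transitive group preserving a nontrivial
block on a set with `|α| < 2p` has no element of prime order `p` acting nontrivially; in
particular `p ∤ |H|` when the action is faithful.
-/

set_option autoImplicit false

namespace Cfsg.Agent.Lib.H18.S3571IM

open scoped Pointwise
open MulAction

/-- An element with `h ^ p = 1` (`p` prime) fixes every point of a finite `h`-invariant set with
fewer than `p` elements. -/
theorem smul_eq_of_invariant_small {H Y : Type*} [Group H] [MulAction H Y] {p : ℕ}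
    (hp : p.Prime) (h : H) (hh : h ^ p = 1) (S : Set Y) (hS : S.Finite)
    (hinv : ∀ y ∈ S, h • y ∈ S) (hcard : S.ncard < p) : ∀ y ∈ S, h • y = y := by
  intro y hy
  set f : Y → Y := fun y => h • y with hf
  have hiter : ∀ i : ℕ, f^[i] y = h ^ i • y := by
    intro i
    rw [hf, smul_iterate]
  have hper : Function.IsPeriodicPt f p y := by
    show f^[p] y = y
    rw [hiter, hh, one_smul]
  have hdvd : Function.minimalPeriod f y ∣ p := hper.minimalPeriod_dvd
  rcases (Nat.dvd_prime hp).mp hdvd with h1 | h1
  · exact Function.minimalPeriod_eq_one_iff_isFixedPt.mp h1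
  · exfalso
    have hmem : ∀ i : ℕ, f^[i] y ∈ S := by
      intro i
      induction i with
      | zero => exact hy
      | succ i ih =>
        rw [Function.iterate_succ_apply']
        exact hinv _ ih
    have hinj : Set.InjOn (fun i : ℕ => f^[i] y) (Finset.range p : Set ℕ) := by
      intro i hi j hj hij
      have hi' : i < Function.minimalPeriod f y := by rw [h1]; simpa using hi
      have hj' : j < Function.minimalPeriod f y := by rw [h1]; simpa using hj
      exact (Function.iterate_eq_iterate_iff_of_lt_minimalPeriod hi' hj').mp hij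
    have hsub : (fun i : ℕ => f^[i] y) '' (Finset.range p : Set ℕ) ⊆ S := by
      rintro _ ⟨i, _, rfl⟩
      exact hmem i
    have hc : ((fun i : ℕ => f^[i] y) '' (Finset.range p : Set ℕ)).ncard = p := by
      rw [Set.InjOn.ncard_image hinj, Set.ncard_coe_finset, Finset.card_range]
    have := Set.ncard_le_ncard hsub hS
    omega

variable {H α : Type*} [Group H] [MulAction H α]

/-- Case (ii) core: with a nontrivial proper block and `|α| < 2p`, every `h` with `h ^ p = 1`
acts trivially. -/
theorem smul_eq_self_of_block [Finite α] [IsPretransitive H α] {B : Set α} (hB : IsBlock H B)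
    (hnt : B.Nontrivial) (hne : B ≠ Set.univ) {p : ℕ} (hp : p.Prime)
    (h2p : Nat.card α < 2 * p) (h : H) (hh : h ^ p = 1) (x : α) : h • x = x := by
  classical
  have hBne : B.Nonempty := hnt.nonempty
  have hmul := hB.ncard_block_mul_ncard_orbit_eq hBne
  have hBfin : B.Finite := Set.toFinite B
  have ha2 : 2 ≤ B.ncard := by
    have := Set.one_lt_ncard_iff_nontrivial_and_finite.mpr ⟨hnt, hBfin⟩
    omega
  have horbfin : (orbit H B).Finite := by
    have : Finite (Set α) := inferInstance
    exact Set.toFinite _
  have hb2 : 2 ≤ (orbit H B).ncard := by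
    by_contra hlt
    push Not at hlt
    have hpos : 0 < (orbit H B).ncard := by
      rw [Set.ncard_pos horbfin]
      exact ⟨B, mem_orbit_self B⟩
    have h1 : (orbit H B).ncard = 1 := by omega
    rw [h1, mul_one] at hmul
    apply hne
    have : B.ncard = (Set.univ : Set α).ncard := by rw [Set.ncard_univ]; exact hmul
    exact Set.eq_of_subset_of_ncard_le (Set.subset_univ B) this.ge
  -- both factors are `< p`
  have hap : B.ncard < p := by nlinarith
  have hbp : (orbit H B).ncard < p := by nlinarith
  -- `h` fixes every translate of `B`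
  have hfixB : ∀ C ∈ orbit H B, h • C = C := by
    apply smul_eq_of_invariant_small hp h hh (orbit H B) horbfin ?_ hbp
    rintro _ ⟨g, rfl⟩
    exact ⟨h * g, by simp [mul_smul]⟩
  -- the translate containing `x`
  obtain ⟨b₀, hb₀⟩ := hBne
  obtain ⟨g, hg⟩ := exists_smul_eq H b₀ x
  have hxC : x ∈ g • B := ⟨b₀, hb₀, hg⟩
  have hCfix : h • (g • B) = g • B := hfixB _ ⟨g, rfl⟩
  have hCcard : (g • B).ncard = B.ncard := by
    simp [Set.ncard_smul_set]
  have hCinv : ∀ y ∈ g • B, h • y ∈ g • B := by
    intro y hy
    rw [← hCfix]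
    exact Set.smul_mem_smul_set hy
  exact smul_eq_of_invariant_small hp h hh (g • B) (Set.toFinite _) hCinv (by omega) x hxC

/-- Case (ii): `p ∤ |H|` for a faithful transitive imprimitive action on fewer than `2p` points. -/
theorem not_dvd_card_of_block [Finite α] [Finite H] [FaithfulSMul H α] [IsPretransitive H α]
    {B : Set α} (hB : IsBlock H B) (hnt : B.Nontrivial) (hne : B ≠ Set.univ) {p : ℕ}
    (hp : p.Prime) (h2p : Nat.card α < 2 * p) : ¬ p ∣ Nat.card H := by
  intro hdvd
  have : Fact p.Prime := ⟨hp⟩
  obtain ⟨h, hh⟩ := exists_prime_orderOf_dvd_card' (G := H) p hdvd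
  have hpow : h ^ p = 1 := by rw [← hh]; exact pow_orderOf_eq_one h
  have h1 : h = 1 := by
    apply FaithfulSMul.eq_of_smul_eq_smul (α := α)
    intro x
    rw [one_smul]
    exact smul_eq_self_of_block hB hnt hne hp h2p h hpow x
  rw [h1, orderOf_one] at hh
  exact hp.one_lt.ne hh

/-- Same, from "transitive but not primitive". -/
theorem not_dvd_card_of_not_preprimitive [Finite α] [Finite H] [FaithfulSMul H α]
    [IsPretransitive H α] (himp : ¬ IsPreprimitive H α) {p : ℕ}
    (hp : p.Prime) (h2p : Nat.card α < 2 * p) : ¬ p ∣ Nat.card H := by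
  have hex : ∃ B : Set α, IsBlock H B ∧ ¬ IsTrivialBlock B := by
    by_contra hno
    push Not at hno
    exact himp ⟨fun {B} hB => hno B hB⟩
  obtain ⟨B, hB, hnt⟩ := hex
  unfold IsTrivialBlock at hnt
  push Not at hnt
  exact not_dvd_card_of_block hB hnt.1 hnt.2 hp h2p

end Cfsg.Agent.Lib.H18.S3571IM
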