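import Cfsg.Agent.Lib.H9.S3571Defs
import Cfsg.Agent.Lib.H18.S3571IM

/-!
helper18: S3571 group block, piece (C3) in helper9's exact shape.
-/

set_option autoImplicit false

namespace Cfsg.Agent.Lib.H18.S3571C3

open Equiv

theorem c3 : Cfsg.Agent.Lib.H9.S3571.C3Stmt := by
  intro m H htr himp p' hp h2p
  have : MulAction.IsPretransitive ↥H (Fin m) := htr
  apply Cfsg.Agent.Lib.H18.S3571IM.not_dvd_card_of_not_preprimitive (H := ↥H) (α := Fin m) himp hp
  rw [Nat.card_eq_fintype_card, Fintype.card_fin]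
  exact h2p

end Cfsg.Agent.Lib.H18.S3571C3
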