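import Mathlib

/-!
helper18: S3571 group block, generic Cauchy piece: if `T` is transitive on `Ω`, `r` is a prime
dividing `|T|` but not `|T ∩ G_ω|`, then `T` contains a derangement of order `r`.
Also: a derangement criterion via conjugates.
-/

set_option autoImplicit false

namespace Cfsg.Agent.Lib.H18.S3571CD

variable {G Ω : Type*} [Group G] [MulAction G Ω]

/-- If `t ∈ T` fixes a point and `T` is transitive, a `T`-conjugate of `t` fixes `ω`. -/
theorem exists_conj_mem_stabilizer (T : Subgroup G) (hTtr : ∀ ω ω' : Ω, ∃ t ∈ T, t • ω = ω')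
    (ω : Ω) (t : G) (ht : t ∈ T) (ω' : Ω) (hfix : t • ω' = ω') :
    ∃ s ∈ T, s⁻¹ * t * s ∈ T ⊓ MulAction.stabilizer G ω := by
  obtain ⟨s, hs, hsω⟩ := hTtr ω ω'
  refine ⟨s, hs, T.mul_mem (T.mul_mem (T.inv_mem hs) ht) hs, ?_⟩
  show s⁻¹ * t * s ∈ MulAction.stabilizer G ω
  rw [MulAction.mem_stabilizer_iff, mul_smul, mul_smul, hsω, hfix, ← hsω, inv_smul_smul]

/-- Cauchy piece: `r ∣ |T|`, `r ∤ |T ∩ G_ω|`, `T` transitive: a derangement of order `r` in `T`. -/
theorem exists_derangement_of_not_dvd [Finite G] (T : Subgroup G)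
    (hTtr : ∀ ω ω' : Ω, ∃ t ∈ T, t • ω = ω') (ω : Ω) (r : ℕ) (hr : r.Prime)
    (hrT : r ∣ Nat.card ↥T) (hrK : ¬ r ∣ Nat.card ↥(T ⊓ MulAction.stabilizer G ω)) :
    ∃ g ∈ T, orderOf g = r ∧ ∀ ω' : Ω, g • ω' ≠ ω' := by
  have : Fact r.Prime := ⟨hr⟩
  obtain ⟨t, ht⟩ := exists_prime_orderOf_dvd_card' (G := ↥T) r hrT
  refine ⟨(t : G), t.2, ?_, ?_⟩
  · rw [Subgroup.orderOf_coe]; exact ht
  · intro ω' hfix
    obtain ⟨s, hs, hmem⟩ := exists_conj_mem_stabilizer T hTtr ω (t : G) t.2 ω' hfix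
    apply hrK
    have hord : orderOf (⟨s⁻¹ * (t : G) * s, hmem⟩ : ↥(T ⊓ MulAction.stabilizer G ω)) = r := by
      rw [← Subgroup.orderOf_coe]
      show orderOf (s⁻¹ * (t : G) * s) = r
      have hsc : SemiconjBy s⁻¹ (t : G) (s⁻¹ * (t : G) * s) := by
        unfold SemiconjBy; group
      rw [← hsc.orderOf_eq, Subgroup.orderOf_coe]
      exact ht
    rw [← hord]
    exact orderOf_dvd_natCard _

/-- Index form: `|Ω| = |T : T ∩ G_ω|` when `T` is transitive. -/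
theorem card_eq_index (T : Subgroup G) (hTtr : ∀ ω ω' : Ω, ∃ t ∈ T, t • ω = ω') (ω : Ω) :
    Nat.card Ω = ((T ⊓ MulAction.stabilizer G ω).subgroupOf T).index := by
  classical
  have : MulAction.IsPretransitive ↥T Ω := ⟨fun a c => by
    obtain ⟨t, ht, h⟩ := hTtr a c
    exact ⟨⟨t, ht⟩, h⟩⟩
  have h1 : MulAction.stabilizer ↥T ω = (T ⊓ MulAction.stabilizer G ω).subgroupOf T := by
    ext t
    simp only [MulAction.mem_stabilizer_iff, Subgroup.mem_subgroupOf, Subgroup.mem_inf,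
      SetLike.coe_mem, true_and]
    rfl
  rw [← h1, MulAction.index_stabilizer_of_transitive]

end Cfsg.Agent.Lib.H18.S3571CD
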