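import Mathlib
import Cfsg.Agent.Lib.H9.S3776Defs
import Cfsg.Agent.Lib.H16.S3776Hup
import Cfsg.Agent.Lib.H18.S3776LemE

/-!
# S3776, piece (3) LEME (helper18): the second glue (hedge)

`leme_of_ef : EFStmt → LemEStmt`: helper9's abstract additive LEMMA E from helper27's field-level
`ef` (every nonzero member of an irreducible conjugation-closed additive group of additive maps of `F`
is injective) and helper16's landed `hup_transport`.
-/

set_option autoImplicit false

namespace Cfsg.Agent.Lib.H18.S3776LemEF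

open Cfsg.Agent.Lib.H9.S3776 Cfsg.Agent.Lib.H18.S3776LemE

universe u

/-- shape of helper27's field-level LEMMA E `ef` -/
def EFStmt : Prop :=
  ∀ (F : Type) [Field F] [CharP F 2] [Finite F] (n : ℕ), Nat.card F = 2 ^ n →
    ∀ (Eb : Subgroup (Equiv.Perm F)),
    (∀ γ ∈ Eb, ∃ u : F, ∃ s : ℕ, ∀ x : F, γ x = u * x ^ (2 ^ s)) →
    (∀ x y : F, x ≠ 0 → y ≠ 0 → ∃ γ ∈ Eb, γ x = y) →
    ∀ (T : AddSubgroup (F →+ F)), (∀ γ ∈ Eb, ∀ φ ∈ T, ∃ ψ ∈ T, ∀ x : F, ψ (γ x) = γ (φ x)) →
    (∀ U : AddSubgroup (F →+ F), U ≤ T →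
      (∀ γ ∈ Eb, ∀ φ ∈ U, ∃ ψ ∈ U, ∀ x : F, ψ (γ x) = γ (φ x)) → U = ⊥ ∨ U = T) →
    ∀ φ ∈ T, φ ≠ 0 → Function.Injective φ

theorem leme_of_ef (ef : EFStmt) : LemEStmt.{u} := by
  intro E V T _ _ _ _ _ _ aV aT b hsol h2V h2T hVadd hVmul hVone hTadd hTmul hTone h3 htr hirr
    hbl hbr hbeq hb0 t v ht hv
  have h4 : 4 ≤ Nat.card V := four_le_card h2V h3
  obtain ⟨F, iF, iFt, iC, n, hn, ψ, hψ⟩ :=
    Cfsg.Agent.Lib.H16.S3776Hup.hup_transport h2V h4 hsol aV hVone hVmul hVadd htr
  letI := iF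
  letI := iFt
  haveI := iC
  have hnc : Nat.card F = 2 ^ n := by rw [Nat.card_eq_fintype_card]; exact hn
  -- the transported action as a homomorphism into `Equiv.Perm F`
  let ρ : E →* Equiv.Perm F :=
    { toFun := fun e =>
        { toFun := fun x => ψ (aV e (ψ.symm x))
          invFun := fun x => ψ (aV e⁻¹ (ψ.symm x))
          left_inv := by
            intro x
            simp only [AddEquiv.symm_apply_apply]
            rw [← hVmul, inv_mul_cancel, hVone, AddEquiv.apply_symm_apply]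
          right_inv := by
            intro x
            simp only [AddEquiv.symm_apply_apply]
            rw [← hVmul, mul_inv_cancel, hVone, AddEquiv.apply_symm_apply] }
      map_one' := by
        ext x
        show ψ (aV 1 (ψ.symm x)) = x
        rw [hVone, AddEquiv.apply_symm_apply]
      map_mul' := by
        intro e e'
        ext x
        show ψ (aV (e * e') (ψ.symm x)) = ψ (aV e (ψ.symm (ψ (aV e' (ψ.symm x)))))
        rw [AddEquiv.symm_apply_apply, hVmul] }
  have hρ : ∀ e x, ρ e x = ψ (aV e (ψ.symm x)) := fun e x => rfl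
  -- the transported pairing as a homomorphism `T →+ (F →+ F)`
  let B : T →+ (F →+ F) :=
    { toFun := fun t =>
        { toFun := fun x => ψ (b t (ψ.symm x))
          map_zero' := by
            have h0 : b t 0 = 0 := by
              have := hbr t 0 0
              rw [add_zero] at this
              exact left_eq_add.mp this
            rw [map_zero, h0, map_zero]
          map_add' := by
            intro x y
            rw [map_add, hbr, map_add] }
      map_zero' := by
        ext x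
        have h0 : b 0 (ψ.symm x) = 0 := by
          have := hbl 0 0 (ψ.symm x)
          rw [add_zero] at this
          exact left_eq_add.mp this
        show ψ (b 0 (ψ.symm x)) = 0
        rw [h0, map_zero]
      map_add' := by
        intro t t'
        ext x
        show ψ (b (t + t') (ψ.symm x)) = ψ (b t (ψ.symm x)) + ψ (b t' (ψ.symm x))
        rw [hbl, map_add] }
  have hB : ∀ t x, B t x = ψ (b t (ψ.symm x)) := fun t x => rfl
  have hBeq : ∀ e t x, B (aT e t) (ρ e x) = ρ e (B t x) := by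
    intro e t x
    rw [hB, hρ, hρ, hB, AddEquiv.symm_apply_apply, AddEquiv.symm_apply_apply, hbeq]
  have hsemi : ∀ γ ∈ ρ.range, ∃ u : F, ∃ s : ℕ, ∀ x : F, γ x = u * x ^ (2 ^ s) := by
    rintro γ ⟨e, rfl⟩
    obtain ⟨a, s, -, has⟩ := hψ e
    refine ⟨a, (s : ℕ), fun x => ?_⟩
    rw [hρ, has, AddEquiv.apply_symm_apply]
  have htrF : ∀ x y : F, x ≠ 0 → y ≠ 0 → ∃ γ ∈ ρ.range, γ x = y := by
    intro x y hx hy
    have hx' : ψ.symm x ≠ 0 := by
      intro h; apply hx; rw [← ψ.apply_symm_apply x, h, map_zero]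
    have hy' : ψ.symm y ≠ 0 := by
      intro h; apply hy; rw [← ψ.apply_symm_apply y, h, map_zero]
    obtain ⟨e, he⟩ := htr _ _ hx' hy'
    refine ⟨ρ e, ⟨e, rfl⟩, ?_⟩
    rw [hρ, he, AddEquiv.apply_symm_apply]
  have hconj : ∀ γ ∈ ρ.range, ∀ φ ∈ B.range, ∃ χ ∈ B.range, ∀ x : F, χ (γ x) = γ (φ x) := by
    rintro γ ⟨e, rfl⟩ φ ⟨t', rfl⟩
    exact ⟨B (aT e t'), ⟨aT e t', rfl⟩, fun x => hBeq e t' x⟩
  -- invariant subgroups of `F →+ F` pull back to invariant subgroups of `T`
  have hpull : ∀ U : AddSubgroup (F →+ F),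
      (∀ e, ∀ φ ∈ U, ∃ χ ∈ U, ∀ x : F, χ (ρ e x) = ρ e (φ x)) →
      ∀ e, ∀ t' ∈ U.comap B, aT e t' ∈ U.comap B := by
    intro U hU e t' ht'
    obtain ⟨χ, hχ, hχe⟩ := hU e (B t') ht'
    have : χ = B (aT e t') := by
      ext y
      obtain ⟨x, rfl⟩ := (ρ e).surjective y
      rw [hχe, hBeq]
    show B (aT e t') ∈ U
    rw [← this]; exact hχ
  have hirrF : ∀ U : AddSubgroup (F →+ F), U ≤ B.range →
      (∀ γ ∈ ρ.range, ∀ φ ∈ U, ∃ χ ∈ U, ∀ x : F, χ (γ x) = γ (φ x)) → U = ⊥ ∨ U = B.range := by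
    intro U hle hU
    rcases hirr (U.comap B) (hpull U (fun e => hU (ρ e) ⟨e, rfl⟩)) with h | h
    · left
      rw [eq_bot_iff]
      intro φ hφ
      obtain ⟨t', rfl⟩ := hle hφ
      have : t' ∈ U.comap B := hφ
      rw [h, AddSubgroup.mem_bot] at this
      rw [this, map_zero]
      exact AddSubgroup.zero_mem _
    · right
      apply le_antisymm hle
      rintro φ ⟨t', rfl⟩
      have : t' ∈ U.comap B := by rw [h]; exact AddSubgroup.mem_top _
      exact this
  -- the kernel of `B` is trivial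
  have haV0 : ∀ e, aV e 0 = 0 := by
    intro e
    have := hVadd e 0 0
    rw [add_zero] at this
    exact left_eq_add.mp this
  have hker : ∀ t' : T, B t' = 0 → t' = 0 := by
    have hinv : ∀ e, ∀ t' ∈ (⊥ : AddSubgroup (F →+ F)).comap B,
        aT e t' ∈ (⊥ : AddSubgroup (F →+ F)).comap B := by
      apply hpull
      intro e φ hφ
      rw [AddSubgroup.mem_bot] at hφ
      refine ⟨0, AddSubgroup.zero_mem _, fun x => ?_⟩
      rw [hφ, AddMonoidHom.zero_apply, AddMonoidHom.zero_apply, hρ, map_zero, haV0, map_zero]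
    intro t' ht'
    rcases hirr _ hinv with h | h
    · have : t' ∈ (⊥ : AddSubgroup (F →+ F)).comap B := by
        show B t' ∈ (⊥ : AddSubgroup (F →+ F))
        rw [ht']; exact AddSubgroup.zero_mem _
      rw [h, AddSubgroup.mem_bot] at this
      exact this
    · exfalso
      obtain ⟨t0, v0, h0⟩ := hb0
      have : t0 ∈ (⊥ : AddSubgroup (F →+ F)).comap B := by rw [h]; exact AddSubgroup.mem_top _
      have hB0 : B t0 = 0 := by
        have := this
        change B t0 ∈ (⊥ : AddSubgroup (F →+ F)) at this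
        rwa [AddSubgroup.mem_bot] at this
      apply h0
      have h1 : B t0 (ψ v0) = 0 := by rw [hB0, AddMonoidHom.zero_apply]
      rw [hB, AddEquiv.symm_apply_apply] at h1
      rw [← ψ.symm_apply_apply (b t0 v0), h1, map_zero]
  have hBt : B t ≠ 0 := fun h => ht (hker t h)
  have hinj := ef F n hnc ρ.range hsemi htrF B.range hconj hirrF (B t) ⟨t, rfl⟩ hBt
  intro h
  have hx : ψ v ≠ 0 := by
    intro h'; apply hv; rw [← ψ.symm_apply_apply v, h', map_zero]
  apply hx
  apply hinj
  rw [map_zero, hB, AddEquiv.symm_apply_apply, h, map_zero]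

end Cfsg.Agent.Lib.H18.S3776LemEF
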