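import Cfsg.Agent.Lib.H18.S3776LemE
import Cfsg.Agent.Lib.H12.S3776E

/-!
# S3776, piece (3) LEME (helper18): `leme : LemEStmt`

helper9's abstract additive LEMMA E = my glue `leme_of` (helper16's `hup_transport` + helper15's
`scalar_structure'`) applied to helper12's landed field-model core `lemmaE_core` (which has helper24's
`nc` plugged).
-/

set_option autoImplicit false

namespace Cfsg.Agent.Lib.H18.S3776LemEFinal

open Cfsg.Agent.Lib.H9.S3776 Cfsg.Agent.Lib.H18.S3776LemE

universe u

theorem ecore : ECoreStmt.{u} := by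
  intro F _ _ _ n hn Γ T _ hT2 actF actT hsemi hinj hTadd hirr ζ m k hmk hkn hζ γ0 hγ0 b hbl hbr
    hbeq hb0
  exact Cfsg.Agent.Lib.H12.S3776E.lemmaE_core n hn hT2 actF actT hsemi hinj hTadd hirr ζ m k hmk
    hkn hζ γ0 hγ0 b hbl hbr hbeq hb0

/-- **(3) LEME** -/
theorem leme : LemEStmt.{u} := leme_of ecore

example : LemEStmt.{0} := leme

end Cfsg.Agent.Lib.H18.S3776LemEFinal
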