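import Mathlib

/-!
helper18: S3777 (Vaughan-Lee), abstract MODULE LEMMA.
A group `Q` acting by automorphisms on a commutative group `V`; for `q : Q` let
`comm q : V →* V`, `v ↦ v⁻¹ * q • v`.  If `S` generates `Q`, then
`[V,Q] = ⨆ s ∈ S, range (comm s)`; hence `|[V,Q]| ≤ ∏ |range (comm s)|`.
-/

set_option autoImplicit false

namespace Cfsg.Agent.Lib.H18.S3777ML

variable {Q V : Type*} [Group Q] [CommGroup V] [MulDistribMulAction Q V]

/-- `v ↦ v⁻¹ * q • v` as a homomorphism of the commutative group `V`. -/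
def comm (q : Q) : V →* V where
  toFun v := v⁻¹ * q • v
  map_one' := by simp
  map_mul' a b := by
    rw [smul_mul', mul_inv]
    exact mul_mul_mul_comm _ _ _ _

@[simp] theorem comm_apply (q : Q) (v : V) : comm q v = v⁻¹ * q • v := rfl

theorem comm_mul (g h : Q) (v : V) : comm (g * h) v = comm h v * comm g (h • v) := by
  simp only [comm_apply, mul_smul]
  rw [mul_assoc, mul_inv_cancel_left]

theorem comm_inv (g : Q) (v : V) : comm g⁻¹ v = (comm g (g⁻¹ • v))⁻¹ := by
  simp only [comm_apply, smul_inv_smul, mul_inv_rev, inv_inv]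

/-- `[V,Q]`: the subgroup generated by all `v⁻¹ * q • v`. -/
def commSub (Q V : Type*) [Group Q] [CommGroup V] [MulDistribMulAction Q V] : Subgroup V :=
  ⨆ q : Q, (comm q : V →* V).range

/-- MODULE LEMMA: `[V,Q]` is already generated by the ranges for a generating set. -/
theorem commSub_eq_iSup_of_closure (S : Set Q) (hS : Subgroup.closure S = ⊤) :
    commSub Q V = ⨆ s ∈ S, (comm s : V →* V).range := by
  apply le_antisymm
  · set J : Subgroup V := ⨆ s ∈ S, (comm s : V →* V).range with hJ
    -- the set of `g` with `range (comm g) ≤ J` is a subgroup containing `S`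
    let H : Subgroup Q :=
      { carrier := {g | ∀ v : V, comm g v ∈ J}
        one_mem' := by intro v; simp [comm_apply]
        mul_mem' := by
          intro g h hg hh v
          rw [comm_mul]
          exact J.mul_mem (hh v) (hg _)
        inv_mem' := by
          intro g hg v
          rw [comm_inv]
          exact J.inv_mem (hg _) }
    have hSH : S ⊆ H := by
      intro s hs v
      have h1 : (comm s : V →* V).range ≤ J := le_iSup₂_of_le s hs le_rfl
      exact h1 ⟨v, rfl⟩
    have hH : H = ⊤ := by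
      rw [eq_top_iff, ← hS, Subgroup.closure_le]
      exact hSH
    apply iSup_le
    intro q
    rintro _ ⟨v, rfl⟩
    have : q ∈ H := by rw [hH]; trivial
    exact this v
  · exact iSup₂_le fun s _ => le_iSup (fun q : Q => (comm q : V →* V).range) s

/-- In a commutative group `|H ⊔ K| ≤ |H| * |K|`. -/
theorem card_sup_le [Finite V] (H K : Subgroup V) :
    Nat.card ↥(H ⊔ K) ≤ Nat.card ↥H * Nat.card ↥K := by
  classical
  have hsurj : Function.Surjective
      (fun x : ↥H × ↥K => (⟨(x.1 : V) * (x.2 : V),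
        Subgroup.mul_mem_sup x.1.2 x.2.2⟩ : ↥(H ⊔ K))) := by
    rintro ⟨z, hz⟩
    obtain ⟨y, hy, w, hw, rfl⟩ := Subgroup.mem_sup.mp hz
    exact ⟨(⟨y, hy⟩, ⟨w, hw⟩), rfl⟩
  calc Nat.card ↥(H ⊔ K) ≤ Nat.card (↥H × ↥K) := Nat.card_le_card_of_surjective _ hsurj
    _ = Nat.card ↥H * Nat.card ↥K := Nat.card_prod _ _

/-- `|⨆ s ∈ S, R s| ≤ ∏ s ∈ S, |R s|` for a finite family of subgroups of a commutative group. -/
theorem card_biSup_le [Finite V] {ι : Type*} (S : Finset ι) (R : ι → Subgroup V) :
    Nat.card ↥(⨆ s ∈ S, R s) ≤ ∏ s ∈ S, Nat.card ↥(R s) := by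
  classical
  induction S using Finset.induction_on with
  | empty => simp
  | insert a S ha ih =>
    rw [Finset.iSup_insert, Finset.prod_insert ha]
    calc Nat.card ↥(R a ⊔ ⨆ s ∈ S, R s) ≤ Nat.card ↥(R a) * Nat.card ↥(⨆ s ∈ S, R s) :=
          card_sup_le _ _
      _ ≤ Nat.card ↥(R a) * ∏ s ∈ S, Nat.card ↥(R s) := Nat.mul_le_mul_left _ ih

/-- MODULE LEMMA, counting form. -/
theorem card_commSub_le [Finite V] (S : Finset Q) (hS : Subgroup.closure (S : Set Q) = ⊤) :
    Nat.card ↥(commSub Q V) ≤ ∏ s ∈ S, Nat.card ↥((comm s : V →* V).range) := by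
  rw [commSub_eq_iSup_of_closure (S : Set Q) hS]
  exact card_biSup_le S fun s => (comm s : V →* V).range

/-- `|range (comm q)| = |V : ker (comm q)|`, and the kernel is the fixed-point subgroup. -/
theorem mem_ker_comm (q : Q) (v : V) : v ∈ (comm q : V →* V).ker ↔ q • v = v := by
  rw [MonoidHom.mem_ker, comm_apply, inv_mul_eq_one, eq_comm]

theorem card_range_comm [Finite V] (q : Q) :
    Nat.card ↥((comm q : V →* V).range) = (comm q : V →* V).ker.index := by
  rw [Subgroup.index_ker]

end Cfsg.Agent.Lib.H18.S3777ML
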