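import Mathlib
import Cfsg.Agent.Lib.H18.S3777ML

/-!
helper18: S3777 (Vaughan-Lee), CONCRETE MODULE LEMMA.
`A ⊴ G` finite, `K₀ = A ⊔ ⟨y₀⟩`; if `G` is generated by `A`, `y₀` and a finite set `S`, then
`|[A,G]| ≤ |K₀'| * ∏ s ∈ S, |A : C_A(s)|`.
Proof through the action of `G` on `V = A / A'` and the abstract module lemma of `S3777ML`.
-/

set_option autoImplicit false

namespace Cfsg.Agent.Lib.H18.S3777MLG

open Cfsg.Agent.Lib.H18.S3777ML
open scoped commutatorElement

variable {G : Type*} [Group G]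

/-- the conjugation action of `G` on the abelianization of a normal subgroup `A` -/
@[reducible] def abAct (A : Subgroup G) [A.Normal] : MulDistribMulAction G (Abelianization ↥A) where
  smul g v := Abelianization.map ((MulAut.conjNormal g : ↥A ≃* ↥A).toMonoidHom) v
  one_smul v := by
    change Abelianization.map ((MulAut.conjNormal (1 : G) : ↥A ≃* ↥A).toMonoidHom) v = v
    have : ((MulAut.conjNormal (1 : G) : ↥A ≃* ↥A).toMonoidHom) = MonoidHom.id ↥A := by
      ext a; simp
    rw [this, Abelianization.map_id]; rfl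
  mul_smul g h v := by
    change Abelianization.map ((MulAut.conjNormal (g * h) : ↥A ≃* ↥A).toMonoidHom) v =
      Abelianization.map ((MulAut.conjNormal g : ↥A ≃* ↥A).toMonoidHom)
        (Abelianization.map ((MulAut.conjNormal h : ↥A ≃* ↥A).toMonoidHom) v)
    rw [Abelianization.map_map_apply]
    congr 2
    ext a; simp
  smul_mul g v w := map_mul _ v w
  smul_one g := map_one _

theorem abAct_smul_of (A : Subgroup G) [A.Normal] (g : G) (a : ↥A) :
    letI := abAct A
    g • (Abelianization.of a : Abelianization ↥A) = Abelianization.of (MulAut.conjNormal g a) :=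
  Abelianization.map_of _ _

/-- the order of a preimage under a surjective homomorphism -/
theorem card_comap_of_surj {B W : Type*} [Group B] [Group W] [Finite B] (f : B →* W)
    (hf : Function.Surjective f) (L : Subgroup W) :
    Nat.card ↥(L.comap f) = Nat.card ↥f.ker * Nat.card ↥L := by
  have : Finite W := Finite.of_surjective f hf
  have h1 : Nat.card ↥(L.comap f) * L.index = Nat.card B := by
    rw [← Subgroup.index_comap_of_surjective L hf]; exact Subgroup.card_mul_index _
  have h2 : Nat.card ↥L * L.index = Nat.card W := Subgroup.card_mul_index L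
  have h3 : Nat.card B = Nat.card ↥f.ker * Nat.card W := by
    rw [← Subgroup.card_mul_index f.ker, Subgroup.index_ker, f.range_eq_top_of_surjective hf,
      Subgroup.card_top]
  have hpos : 0 < L.index := Nat.pos_of_ne_zero Subgroup.index_ne_zero_of_finite
  apply Nat.eq_of_mul_eq_mul_right hpos
  rw [h1, h3, ← h2, mul_assoc]

section main

variable (A : Subgroup G) [A.Normal]

/-- elements of `A` act trivially on `A / A'` -/
theorem abAct_smul_of_mem {a : G} (ha : a ∈ A) (v : Abelianization ↥A) :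
    letI := abAct A
    a • v = v := by
  letI := abAct A
  obtain ⟨x, rfl⟩ := QuotientGroup.mk_surjective v
  change a • (Abelianization.of x : Abelianization ↥A) = Abelianization.of x
  rw [abAct_smul_of]
  have : (MulAut.conjNormal a x : ↥A) = ⟨a, ha⟩ * x * (⟨a, ha⟩ : ↥A)⁻¹ := by
    ext; simp
  rw [this, map_mul, map_mul, map_inv, mul_comm, inv_mul_cancel_left]

/-- `[A,G] ≤ ` the preimage of `[V,G]` -/
theorem commutator_top_le_map_comap :
    letI := abAct A
    ⁅A, (⊤ : Subgroup G)⁆ ≤
      ((commSub G (Abelianization ↥A)).comap (Abelianization.of : ↥A →* _)).map A.subtype := by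
  letI := abAct A
  rw [Subgroup.commutator_le]
  intro a ha g _
  have hmem : ⁅a, g⁆ ∈ A := by
    rw [commutatorElement_def]
    have : a * g * a⁻¹ * g⁻¹ = a * (g * a⁻¹ * g⁻¹) := by group
    rw [this]
    exact A.mul_mem ha (Subgroup.Normal.conj_mem inferInstance _ (A.inv_mem ha) g)
  refine ⟨⟨⁅a, g⁆, hmem⟩, ?_, rfl⟩
  rw [SetLike.mem_coe, Subgroup.mem_comap]
  have h1 : (⟨⁅a, g⁆, hmem⟩ : ↥A) =
      (⟨a⁻¹, A.inv_mem ha⟩ : ↥A)⁻¹ * MulAut.conjNormal g (⟨a⁻¹, A.inv_mem ha⟩ : ↥A) := by
    ext
    simp [commutatorElement_def, mul_assoc]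
  have h2 : (Abelianization.of (⟨⁅a, g⁆, hmem⟩ : ↥A) : Abelianization ↥A) =
      comm g (Abelianization.of (⟨a⁻¹, A.inv_mem ha⟩ : ↥A)) := by
    rw [comm_apply, abAct_smul_of, h1, map_mul, map_inv]
  rw [h2]
  exact (le_iSup (fun q : G => (comm q : Abelianization ↥A →* _).range) g) ⟨_, rfl⟩

/-- elements of `A` contribute nothing: `range (comm a) = ⊥` -/
theorem range_comm_of_mem {a : G} (ha : a ∈ A) :
    letI := abAct A
    (comm a : Abelianization ↥A →* Abelianization ↥A).range = ⊥ := by
  letI := abAct A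
  rw [eq_bot_iff]
  rintro _ ⟨v, rfl⟩
  rw [Subgroup.mem_bot, comm_apply, abAct_smul_of_mem A ha, inv_mul_cancel]

/-- `[V,G]` is generated by the ranges for `y₀` and `S`, if `A`, `y₀`, `S` generate `G` -/
theorem commSub_le_of_gen (y₀ : G) (S : Finset G)
    (hgen : A ⊔ Subgroup.closure (insert y₀ (S : Set G)) = ⊤) :
    letI := abAct A
    commSub G (Abelianization ↥A) ≤
      (comm y₀ : Abelianization ↥A →* Abelianization ↥A).range ⊔
        ⨆ s ∈ S, (comm s : Abelianization ↥A →* Abelianization ↥A).range := by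
  letI := abAct A
  have hclos : Subgroup.closure ((A : Set G) ∪ insert y₀ (S : Set G)) = ⊤ := by
    rw [Subgroup.closure_union, Subgroup.closure_eq, hgen]
  rw [commSub_eq_iSup_of_closure _ hclos]
  apply iSup₂_le
  intro s hs
  rcases hs with hs | hs
  · rw [range_comm_of_mem A hs]; exact bot_le
  · rcases hs with rfl | hs
    · exact le_sup_left
    · exact le_sup_of_le_right (le_iSup₂_of_le s (Finset.mem_coe.mp hs) le_rfl)

/-- the preimage of `range (comm y₀)` lies in `K₀'`, `K₀ = A ⊔ ⟨y₀⟩` -/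
theorem map_comap_range_le (y₀ : G) :
    letI := abAct A
    ((comm y₀ : Abelianization ↥A →* Abelianization ↥A).range.comap
        (Abelianization.of : ↥A →* _)).map A.subtype ≤
      ⁅A ⊔ Subgroup.zpowers y₀, A ⊔ Subgroup.zpowers y₀⁆ := by
  letI := abAct A
  rintro _ ⟨a, ha, rfl⟩
  rw [SetLike.mem_coe, Subgroup.mem_comap] at ha
  obtain ⟨v, hv⟩ := ha
  obtain ⟨x, rfl⟩ := QuotientGroup.mk_surjective v
  change comm y₀ (Abelianization.of x : Abelianization ↥A) = Abelianization.of a at hv
  rw [comm_apply, abAct_smul_of, ← map_inv, ← map_mul] at hv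
  set c : ↥A := x⁻¹ * MulAut.conjNormal y₀ x with hc
  have hk : c⁻¹ * a ∈ (Abelianization.of : ↥A →* Abelianization ↥A).ker := by
    rw [MonoidHom.mem_ker, map_mul, map_inv, hv, inv_mul_cancel]
  rw [Abelianization.ker_of] at hk
  have hAK : A ≤ A ⊔ Subgroup.zpowers y₀ := le_sup_left
  have hyK : y₀ ∈ A ⊔ Subgroup.zpowers y₀ :=
    (le_sup_right : Subgroup.zpowers y₀ ≤ _) (Subgroup.mem_zpowers y₀)
  have h1 : (c : G) ∈ ⁅A ⊔ Subgroup.zpowers y₀, A ⊔ Subgroup.zpowers y₀⁆ := by
    have : (c : G) = ⁅((x⁻¹ : ↥A) : G), y₀⁆ := by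
      rw [hc, commutatorElement_def]
      simp [mul_assoc]
    rw [this]
    exact Subgroup.commutator_mem_commutator (hAK (x⁻¹).2) hyK
  have h2 : ((c⁻¹ * a : ↥A) : G) ∈ ⁅A ⊔ Subgroup.zpowers y₀, A ⊔ Subgroup.zpowers y₀⁆ := by
    have h3 : ((c⁻¹ * a : ↥A) : G) ∈ (commutator ↥A).map A.subtype := ⟨_, hk, rfl⟩
    rw [Subgroup.map_subtype_commutator] at h3
    exact Subgroup.commutator_mono hAK hAK h3
  have : (A.subtype a : G) = (c : G) * ((c⁻¹ * a : ↥A) : G) := by
    simp
  rw [this]
  exact Subgroup.mul_mem _ h1 h2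

/-- `|range (comm s)| ≤ |A : C_A(s)|` -/
theorem card_range_comm_le [Finite G] (s : G) :
    letI := abAct A
    Nat.card ↥((comm s : Abelianization ↥A →* Abelianization ↥A).range) ≤
      (Subgroup.centralizer ({s} : Set G)).relIndex A := by
  letI := abAct A
  have hπ : Function.Surjective (Abelianization.of : ↥A →* Abelianization ↥A) :=
    QuotientGroup.mk_surjective
  have : Finite (Abelianization ↥A) := Finite.of_surjective _ hπ
  rw [card_range_comm]
  set C : Subgroup ↥A := (Subgroup.centralizer ({s} : Set G)).subgroupOf A with hC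
  have h1 : C.map (Abelianization.of : ↥A →* Abelianization ↥A) ≤
      (comm s : Abelianization ↥A →* Abelianization ↥A).ker := by
    rintro _ ⟨c, hc, rfl⟩
    rw [mem_ker_comm, abAct_smul_of]
    congr 1
    rw [SetLike.mem_coe, hC, Subgroup.mem_subgroupOf, Subgroup.mem_centralizer_singleton_iff] at hc
    ext
    simp only [MulAut.conjNormal_apply]
    rw [← hc, mul_inv_cancel_right]
  calc (comm s : Abelianization ↥A →* Abelianization ↥A).ker.index
      ≤ (C.map (Abelianization.of : ↥A →* Abelianization ↥A)).index :=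
        Subgroup.index_antitone h1
    _ ≤ C.index :=
        Nat.le_of_dvd (Nat.pos_of_ne_zero Subgroup.index_ne_zero_of_finite)
          (Subgroup.index_map_dvd C hπ)

/-- CONCRETE MODULE LEMMA: `|[A,G]| ≤ |K₀'| * ∏ s ∈ S, |A : C_A(s)|` whenever `A`, `y₀` and `S`
generate `G`, `K₀ = A ⊔ ⟨y₀⟩`. -/
theorem card_commutator_top_le [Finite G] (y₀ : G) (S : Finset G)
    (hgen : A ⊔ Subgroup.closure (insert y₀ (S : Set G)) = ⊤) :
    Nat.card ↥⁅A, (⊤ : Subgroup G)⁆ ≤
      Nat.card ↥⁅A ⊔ Subgroup.zpowers y₀, A ⊔ Subgroup.zpowers y₀⁆ *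
        ∏ s ∈ S, (Subgroup.centralizer ({s} : Set G)).relIndex A := by
  classical
  letI := abAct A
  have hπ : Function.Surjective (Abelianization.of : ↥A →* Abelianization ↥A) :=
    QuotientGroup.mk_surjective
  have : Finite (Abelianization ↥A) := Finite.of_surjective _ hπ
  set k := Nat.card ↥(Abelianization.of : ↥A →* Abelianization ↥A).ker with hk
  -- step A
  have hA : Nat.card ↥⁅A, (⊤ : Subgroup G)⁆ ≤ k * Nat.card ↥(commSub G (Abelianization ↥A)) := by
    calc Nat.card ↥⁅A, (⊤ : Subgroup G)⁆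
        ≤ Nat.card ↥(((commSub G (Abelianization ↥A)).comap
            (Abelianization.of : ↥A →* _)).map A.subtype) :=
          Subgroup.card_le_of_le (commutator_top_le_map_comap A)
      _ = Nat.card ↥((commSub G (Abelianization ↥A)).comap (Abelianization.of : ↥A →* _)) :=
          Subgroup.card_subtype _ _
      _ = k * Nat.card ↥(commSub G (Abelianization ↥A)) := card_comap_of_surj _ hπ _
  -- step B
  have hB : Nat.card ↥(commSub G (Abelianization ↥A)) ≤
      Nat.card ↥((comm y₀ : Abelianization ↥A →* Abelianization ↥A).range) *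
        ∏ s ∈ S, Nat.card ↥((comm s : Abelianization ↥A →* Abelianization ↥A).range) := by
    calc Nat.card ↥(commSub G (Abelianization ↥A))
        ≤ Nat.card ↥((comm y₀ : Abelianization ↥A →* Abelianization ↥A).range ⊔
            ⨆ s ∈ S, (comm s : Abelianization ↥A →* Abelianization ↥A).range) :=
          Subgroup.card_le_of_le (commSub_le_of_gen A y₀ S hgen)
      _ ≤ Nat.card ↥((comm y₀ : Abelianization ↥A →* Abelianization ↥A).range) *
            Nat.card ↥(⨆ s ∈ S, (comm s : Abelianization ↥A →* Abelianization ↥A).range) :=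
          card_sup_le _ _
      _ ≤ _ := Nat.mul_le_mul_left _ (card_biSup_le S _)
  -- step C
  have hCc : k * Nat.card ↥((comm y₀ : Abelianization ↥A →* Abelianization ↥A).range) ≤
      Nat.card ↥⁅A ⊔ Subgroup.zpowers y₀, A ⊔ Subgroup.zpowers y₀⁆ := by
    calc k * Nat.card ↥((comm y₀ : Abelianization ↥A →* Abelianization ↥A).range)
        = Nat.card ↥((comm y₀ : Abelianization ↥A →* Abelianization ↥A).range.comap
            (Abelianization.of : ↥A →* _)) := (card_comap_of_surj _ hπ _).symm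
      _ = Nat.card ↥(((comm y₀ : Abelianization ↥A →* Abelianization ↥A).range.comap
            (Abelianization.of : ↥A →* _)).map A.subtype) := (Subgroup.card_subtype _ _).symm
      _ ≤ _ := Subgroup.card_le_of_le (map_comap_range_le A y₀)
  -- step D
  have hD : ∏ s ∈ S, Nat.card ↥((comm s : Abelianization ↥A →* Abelianization ↥A).range) ≤
      ∏ s ∈ S, (Subgroup.centralizer ({s} : Set G)).relIndex A :=
    Finset.prod_le_prod' fun s _ => card_range_comm_le A s
  calc Nat.card ↥⁅A, (⊤ : Subgroup G)⁆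
      ≤ k * Nat.card ↥(commSub G (Abelianization ↥A)) := hA
    _ ≤ k * (Nat.card ↥((comm y₀ : Abelianization ↥A →* Abelianization ↥A).range) *
          ∏ s ∈ S, Nat.card ↥((comm s : Abelianization ↥A →* Abelianization ↥A).range)) :=
        Nat.mul_le_mul_left _ hB
    _ = (k * Nat.card ↥((comm y₀ : Abelianization ↥A →* Abelianization ↥A).range)) *
          ∏ s ∈ S, Nat.card ↥((comm s : Abelianization ↥A →* Abelianization ↥A).range) :=
        (mul_assoc _ _ _).symm
    _ ≤ _ := Nat.mul_le_mul hCc hD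

/-- uniform form: all `|A : C_A(s)| ≤ q`, `|S| ≤ l` give `|[A,G]| ≤ |K₀'| * q ^ l` (`1 ≤ q`) -/
theorem card_commutator_top_le_pow [Finite G] (y₀ : G) (S : Finset G)
    (hgen : A ⊔ Subgroup.closure (insert y₀ (S : Set G)) = ⊤) (q l : ℕ) (hq : 1 ≤ q)
    (hS : S.card ≤ l)
    (hb : ∀ s ∈ S, (Subgroup.centralizer ({s} : Set G)).relIndex A ≤ q) :
    Nat.card ↥⁅A, (⊤ : Subgroup G)⁆ ≤
      Nat.card ↥⁅A ⊔ Subgroup.zpowers y₀, A ⊔ Subgroup.zpowers y₀⁆ * q ^ l := by
  refine (card_commutator_top_le A y₀ S hgen).trans (Nat.mul_le_mul_left _ ?_)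
  calc ∏ s ∈ S, (Subgroup.centralizer ({s} : Set G)).relIndex A
      ≤ ∏ _s ∈ S, q := Finset.prod_le_prod' hb
    _ = q ^ S.card := Finset.prod_const q
    _ ≤ q ^ l := Nat.pow_le_pow_right hq hS

end main

end Cfsg.Agent.Lib.H18.S3777MLG
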