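import Mathlib
import Cfsg.Agent.Lib.H5.S3777P1Defs
import Cfsg.Agent.Lib.H18.S3777MLG
import Cfsg.Agent.Lib.H10.S3777Gen

/-!
helper18: S3777 (Vaughan-Lee), P1-step piece **S3**: the module lemma with generators outside `M`.
`|[A,G]| ≤ |[A, A⟨y₀⟩]| * p ^ (lam * Delta)`.
-/

set_option autoImplicit false

namespace Cfsg.Agent.Lib.H18.S3777S3

open Cfsg.Agent.Lib.H18.S3777ML Cfsg.Agent.Lib.H18.S3777MLG
open scoped commutatorElement

universe u

section

variable {G : Type*} [Group G] (A : Subgroup G) [A.Normal]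

/-- the preimage of `range (comm y₀)` lies in `[A, K₀]`, `K₀ = A ⊔ ⟨y₀⟩` -/
theorem map_comap_range_le' (y₀ : G) :
    letI := abAct A
    ((comm y₀ : Abelianization ↥A →* Abelianization ↥A).range.comap
        (Abelianization.of : ↥A →* _)).map A.subtype ≤
      ⁅A, A ⊔ Subgroup.zpowers y₀⁆ := by
  letI := abAct A
  rintro _ ⟨a, ha, rfl⟩
  rw [SetLike.mem_coe, Subgroup.mem_comap] at ha
  obtain ⟨v, hv⟩ := ha
  obtain ⟨x, rfl⟩ := QuotientGroup.mk_surjective v
  change comm y₀ (Abelianization.of x : Abelianization ↥A) = Abelianization.of a at hv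
  rw [comm_apply, abAct_smul_of, ← map_inv, ← map_mul] at hv
  set c : ↥A := x⁻¹ * MulAut.conjNormal y₀ x with hc
  have hk : c⁻¹ * a ∈ (Abelianization.of : ↥A →* Abelianization ↥A).ker := by
    rw [MonoidHom.mem_ker, map_mul, map_inv, hv, inv_mul_cancel]
  rw [Abelianization.ker_of] at hk
  have hAK : A ≤ A ⊔ Subgroup.zpowers y₀ := le_sup_left
  have hyK : y₀ ∈ A ⊔ Subgroup.zpowers y₀ :=
    (le_sup_right : Subgroup.zpowers y₀ ≤ _) (Subgroup.mem_zpowers y₀)
  have h1 : (c : G) ∈ ⁅A, A ⊔ Subgroup.zpowers y₀⁆ := by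
    have : (c : G) = ⁅((x⁻¹ : ↥A) : G), y₀⁆ := by
      rw [hc, commutatorElement_def]
      simp [mul_assoc]
    rw [this]
    exact Subgroup.commutator_mem_commutator (x⁻¹).2 hyK
  have h2 : ((c⁻¹ * a : ↥A) : G) ∈ ⁅A, A ⊔ Subgroup.zpowers y₀⁆ := by
    have h3 : ((c⁻¹ * a : ↥A) : G) ∈ (commutator ↥A).map A.subtype := ⟨_, hk, rfl⟩
    rw [Subgroup.map_subtype_commutator] at h3
    exact Subgroup.commutator_mono le_rfl hAK h3
  have : (A.subtype a : G) = (c : G) * ((c⁻¹ * a : ↥A) : G) := by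
    simp
  rw [this]
  exact Subgroup.mul_mem _ h1 h2

/-- CONCRETE MODULE LEMMA, `[A, K₀]` form. -/
theorem card_commutator_top_le' [Finite G] (y₀ : G) (S : Finset G)
    (hgen : A ⊔ Subgroup.closure (insert y₀ (S : Set G)) = ⊤) :
    Nat.card ↥⁅A, (⊤ : Subgroup G)⁆ ≤
      Nat.card ↥⁅A, A ⊔ Subgroup.zpowers y₀⁆ *
        ∏ s ∈ S, (Subgroup.centralizer ({s} : Set G)).relIndex A := by
  classical
  letI := abAct A
  have hπ : Function.Surjective (Abelianization.of : ↥A →* Abelianization ↥A) :=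
    QuotientGroup.mk_surjective
  have : Finite (Abelianization ↥A) := Finite.of_surjective _ hπ
  set k := Nat.card ↥(Abelianization.of : ↥A →* Abelianization ↥A).ker with hk
  have hA : Nat.card ↥⁅A, (⊤ : Subgroup G)⁆ ≤ k * Nat.card ↥(commSub G (Abelianization ↥A)) := by
    calc Nat.card ↥⁅A, (⊤ : Subgroup G)⁆
        ≤ Nat.card ↥(((commSub G (Abelianization ↥A)).comap
            (Abelianization.of : ↥A →* _)).map A.subtype) :=
          Subgroup.card_le_of_le (commutator_top_le_map_comap A)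
      _ = Nat.card ↥((commSub G (Abelianization ↥A)).comap (Abelianization.of : ↥A →* _)) :=
          Subgroup.card_subtype _ _
      _ = k * Nat.card ↥(commSub G (Abelianization ↥A)) := card_comap_of_surj _ hπ _
  have hB : Nat.card ↥(commSub G (Abelianization ↥A)) ≤
      Nat.card ↥((comm y₀ : Abelianization ↥A →* Abelianization ↥A).range) *
        ∏ s ∈ S, Nat.card ↥((comm s : Abelianization ↥A →* Abelianization ↥A).range) := by
    calc Nat.card ↥(commSub G (Abelianization ↥A))
        ≤ Nat.card ↥((comm y₀ : Abelianization ↥A →* Abelianization ↥A).range ⊔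
            ⨆ s ∈ S, (comm s : Abelianization ↥A →* Abelianization ↥A).range) :=
          Subgroup.card_le_of_le (commSub_le_of_gen A y₀ S hgen)
      _ ≤ Nat.card ↥((comm y₀ : Abelianization ↥A →* Abelianization ↥A).range) *
            Nat.card ↥(⨆ s ∈ S, (comm s : Abelianization ↥A →* Abelianization ↥A).range) :=
          card_sup_le _ _
      _ ≤ _ := Nat.mul_le_mul_left _ (card_biSup_le S _)
  have hCc : k * Nat.card ↥((comm y₀ : Abelianization ↥A →* Abelianization ↥A).range) ≤
      Nat.card ↥⁅A, A ⊔ Subgroup.zpowers y₀⁆ := by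
    calc k * Nat.card ↥((comm y₀ : Abelianization ↥A →* Abelianization ↥A).range)
        = Nat.card ↥((comm y₀ : Abelianization ↥A →* Abelianization ↥A).range.comap
            (Abelianization.of : ↥A →* _)) := (card_comap_of_surj _ hπ _).symm
      _ = Nat.card ↥(((comm y₀ : Abelianization ↥A →* Abelianization ↥A).range.comap
            (Abelianization.of : ↥A →* _)).map A.subtype) := (Subgroup.card_subtype _ _).symm
      _ ≤ _ := Subgroup.card_le_of_le (map_comap_range_le' A y₀)
  have hD : ∏ s ∈ S, Nat.card ↥((comm s : Abelianization ↥A →* Abelianization ↥A).range) ≤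
      ∏ s ∈ S, (Subgroup.centralizer ({s} : Set G)).relIndex A :=
    Finset.prod_le_prod' fun s _ => card_range_comm_le A s
  calc Nat.card ↥⁅A, (⊤ : Subgroup G)⁆
      ≤ k * Nat.card ↥(commSub G (Abelianization ↥A)) := hA
    _ ≤ k * (Nat.card ↥((comm y₀ : Abelianization ↥A →* Abelianization ↥A).range) *
          ∏ s ∈ S, Nat.card ↥((comm s : Abelianization ↥A →* Abelianization ↥A).range)) :=
        Nat.mul_le_mul_left _ hB
    _ = (k * Nat.card ↥((comm y₀ : Abelianization ↥A →* Abelianization ↥A).range)) *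
          ∏ s ∈ S, Nat.card ↥((comm s : Abelianization ↥A →* Abelianization ↥A).range) :=
        (mul_assoc _ _ _).symm
    _ ≤ _ := Nat.mul_le_mul hCc hD

end

/-- **S3** in helper5's exact shape. -/
theorem s3 : Cfsg.Agent.Lib.H5.S3777.S3Stmt.{u} := by
  intro p _ G _ _ _ M A lam Delta hM hAn hAM hrel hb y0 hy0
  have := hAn
  have hidx : A.index = p ^ (lam + 1) := by
    rw [← Subgroup.relIndex_mul_index hAM, hrel, hM, pow_succ]
  obtain ⟨S, hcard, hSM, hgen⟩ :=
    Cfsg.Agent.Lib.H10.S3777Gen.exists_gens M A hAM lam hidx y0 hy0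
  refine (card_commutator_top_le' A y0 S hgen).trans (Nat.mul_le_mul_left _ ?_)
  have hp1 : 1 ≤ p := (Fact.out : p.Prime).one_lt.le
  calc ∏ s ∈ S, (Subgroup.centralizer ({s} : Set G)).relIndex A
      ≤ ∏ _s ∈ S, p ^ Delta := Finset.prod_le_prod' fun s hs => hb s (hSM s hs)
    _ = (p ^ Delta) ^ S.card := Finset.prod_const _
    _ ≤ (p ^ Delta) ^ lam := Nat.pow_le_pow_right (Nat.one_le_pow _ _ hp1) hcard
    _ = p ^ (lam * Delta) := by rw [← pow_mul, mul_comm]

end Cfsg.Agent.Lib.H18.S3777S3
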