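import Mathlib

/-!
helper18: S3797, MAIN LEMMA, step (M1): the Gauss-sum identity for an `F_2`-valued quadratic
function `f` with polar form `b` on a finite abelian group `U`:
`(∑ u, (-1)^(f u))^2 = |U| * ∑ t ∈ Rad b, (-1)^(f t)`, and the arithmetic consequence.
-/

set_option autoImplicit false

namespace Cfsg.Agent.Lib.H18.S3797GS

open Finset
open scoped Classical

/-- the sign character of `ZMod 2` -/
def sgn (x : ZMod 2) : ℤ := if x = 0 then 1 else -1

@[simp] theorem sgn_zero : sgn 0 = 1 := by simp [sgn]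
@[simp] theorem sgn_one : sgn 1 = -1 := by simp [sgn]

theorem sgn_add (x y : ZMod 2) : sgn (x + y) = sgn x * sgn y := by
  fin_cases x <;> fin_cases y <;> decide

theorem add_self_zmod2 (x : ZMod 2) : x + x = 0 := by
  fin_cases x <;> decide

theorem eq_one_of_ne_zero (x : ZMod 2) (h : x ≠ 0) : x = 1 := by
  fin_cases x
  · exact absurd rfl h
  · rfl

variable {U : Type*} [AddCommGroup U] [Fintype U]

/-- a nontrivial additive character to `±1` sums to zero -/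
theorem sum_sgn_eq_zero (φ : U → ZMod 2) (hφ : ∀ u u', φ (u + u') = φ u + φ u') (u₀ : U)
    (h : φ u₀ ≠ 0) : ∑ u, sgn (φ u) = 0 := by
  have h1 : ∑ u, sgn (φ (u + u₀)) = ∑ u, sgn (φ u) :=
    Fintype.sum_equiv (Equiv.addRight u₀) _ _ (fun u => rfl)
  have h2 : ∑ u, sgn (φ (u + u₀)) = -∑ u, sgn (φ u) := by
    rw [← Finset.sum_neg_distrib]
    apply Finset.sum_congr rfl
    intro u _
    rw [hφ, sgn_add, eq_one_of_ne_zero _ h, sgn_one]
    ring
  linarith

/-- a trivial character sums to `|U|` -/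
theorem sum_sgn_eq_card (φ : U → ZMod 2) (h : ∀ u, φ u = 0) :
    ∑ u, sgn (φ u) = (Fintype.card U : ℤ) := by
  simp [h]

/-- GAUSS SUM: `(∑ (-1)^f)^2 = |U| * ∑_{t ∈ Rad} (-1)^(f t)`. -/
theorem gauss_sq (f : U → ZMod 2) (b : U → U → ZMod 2)
    (hf : ∀ u t, f (u + t) = f u + f t + b u t)
    (hb : ∀ u u' t, b (u + u') t = b u t + b u' t) :
    (∑ u, sgn (f u)) ^ 2 =
      (Fintype.card U : ℤ) * ∑ t ∈ univ.filter (fun t => ∀ u, b u t = 0), sgn (f t) := by
  have h1 : (∑ u, sgn (f u)) ^ 2 = ∑ u, ∑ t, sgn (f t) * sgn (b u t) := by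
    rw [sq, Finset.sum_mul_sum]
    apply Finset.sum_congr rfl
    intro u _
    rw [← Fintype.sum_equiv (Equiv.addLeft u) (fun t => sgn (f u) * sgn (f (u + t)))
      (fun w => sgn (f u) * sgn (f w)) (fun t => rfl)]
    apply Finset.sum_congr rfl
    intro t _
    rw [← sgn_add, ← sgn_add, hf u t]
    congr 1
    have := add_self_zmod2 (f u)
    calc f u + (f u + f t + b u t) = (f u + f u) + (f t + b u t) := by ring
      _ = f t + b u t := by rw [this, zero_add]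
  rw [h1, Finset.sum_comm, Finset.mul_sum, Finset.sum_filter]
  apply Finset.sum_congr rfl
  intro t _
  rw [← Finset.mul_sum]
  split_ifs with ht
  · rw [sum_sgn_eq_card (fun u => b u t) ht]; ring
  · push Not at ht
    obtain ⟨u₀, hu₀⟩ := ht
    rw [sum_sgn_eq_zero (fun u => b u t) (fun u u' => hb u u' t) u₀ hu₀]; ring

theorem two_pow_even (m : ℕ) (hm : 1 ≤ m) : ∃ t, 1 ≤ t ∧ 2 ^ m = 2 * t := by
  obtain ⟨k, rfl⟩ : ∃ k, m = k + 1 := ⟨m - 1, by omega⟩
  exact ⟨2 ^ k, Nat.one_le_two_pow, by rw [pow_succ]; ring⟩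

/-- key: `2^u + 2^c = 2^n + 2^n * 2^c` with `n ≥ 1` forces `c = n`, `u = 2n`. -/
theorem key (n u c : ℕ) (hn : 1 ≤ n) (h : 2 ^ u + 2 ^ c = 2 ^ n + 2 ^ n * 2 ^ c) :
    c = n ∧ u = 2 * n := by
  have hC : 1 ≤ 2 ^ c := Nat.one_le_two_pow
  have hA : 2 ≤ 2 ^ n := by
    obtain ⟨a, ha1, ha⟩ := two_pow_even n hn
    omega
  -- u > n
  have hun : n < u := by
    by_contra hcon
    have hcon' : u ≤ n := Nat.le_of_not_lt hcon
    have h3 : 2 ^ u ≤ 2 ^ n := Nat.pow_le_pow_right (by norm_num) hcon'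
    have h4 : 2 * 2 ^ c ≤ 2 ^ n * 2 ^ c := Nat.mul_le_mul_right _ hA
    omega
  obtain ⟨k, rfl⟩ : ∃ k, u = n + (k + 1) := ⟨u - n - 1, by omega⟩
  obtain ⟨s, hs1, hs⟩ := two_pow_even (k + 1) (by omega)
  have e0 : 2 ^ (n + (k + 1)) = 2 ^ n * 2 ^ (k + 1) := pow_add _ _ _
  rw [e0] at h
  rcases Nat.lt_trichotomy c n with hcn | hcn | hcn
  · exfalso
    obtain ⟨j, rfl⟩ : ∃ j, n = c + (j + 1) := ⟨n - c - 1, by omega⟩
    obtain ⟨r, hr1, hr⟩ := two_pow_even (j + 1) (by omega)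
    have e1 : 2 ^ (c + (j + 1)) = 2 ^ c * 2 ^ (j + 1) := pow_add _ _ _
    rw [e1, hr, hs] at h
    generalize 2 ^ c = X at h hC
    -- h : X * (2 * r) * (2 * s) + X = X * (2 * r) + X * (2 * r) * X
    have h6 : X * (2 * (r * (2 * s)) + 1) = X * (2 * r + 2 * (r * X)) := by nlinarith [h]
    have h7 := Nat.eq_of_mul_eq_mul_left (by omega) h6
    omega
  · subst hcn
    refine ⟨rfl, ?_⟩
    have h6 : 2 ^ c * 2 ^ (k + 1) = 2 ^ c * 2 ^ c := by omega
    have h7 := Nat.eq_of_mul_eq_mul_left (by omega) h6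
    have := Nat.pow_right_injective (le_refl 2) h7
    omega
  · exfalso
    obtain ⟨j, rfl⟩ : ∃ j, c = n + (j + 1) := ⟨c - n - 1, by omega⟩
    obtain ⟨r, hr1, hr⟩ := two_pow_even (j + 1) (by omega)
    have e1 : 2 ^ (n + (j + 1)) = 2 ^ n * 2 ^ (j + 1) := pow_add _ _ _
    rw [e1, hr, hs] at h
    obtain ⟨a, ha1, ha⟩ := two_pow_even n hn
    generalize 2 ^ n = A at h hA ha
    -- h : A * (2 * s) + A * (2 * r) = A + A * (A * (2 * r))
    have h6 : A * (2 * s + 2 * r) = A * (1 + 2 * (a * (2 * r))) := by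
      subst ha; nlinarith [h]
    have h7 := Nat.eq_of_mul_eq_mul_left (by omega) h6
    omega

/-- ARITHMETIC of (M1): `2^u = 1 + (2^n - 1) N`, `(N - 1)^2 ∈ {0, 2^(u+e)}` force `u ∈ {0, n, 2n}`,
and `u = 2n` (reached only with `N ≥ 2`) forces `e = 0`. -/
theorem arith (n u e N : ℕ) (hn : 1 ≤ n) (h1 : 2 ^ u = 1 + (2 ^ n - 1) * N)
    (h2 : ((N : ℤ) - 1) ^ 2 = 0 ∨ ((N : ℤ) - 1) ^ 2 = 2 ^ (u + e)) :
    u = 0 ∨ u = n ∨ (u = 2 * n ∧ e = 0) := by
  have hn1 : 1 ≤ 2 ^ n := Nat.one_le_two_pow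
  rcases h2 with h2 | h2
  · have hN : N = 1 := by
      have : (N : ℤ) - 1 = 0 := by simpa using h2
      omega
    subst hN
    right; left
    have : 2 ^ u = 2 ^ n := by omega
    exact Nat.pow_right_injective (le_refl 2) this
  · rcases Nat.lt_or_ge N 2 with hN | hN
    · interval_cases N
      · left
        have h3 : 2 ^ u = 2 ^ 0 := by simpa using h1
        exact Nat.pow_right_injective (le_refl 2) h3
      · exfalso
        have : (0 : ℤ) < 2 ^ (u + e) := by positivity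
        simp at h2
        omega
    · obtain ⟨M, rfl⟩ : ∃ M, N = M + 1 := ⟨N - 1, by omega⟩
      have hM : M ^ 2 = 2 ^ (u + e) := by
        have : ((M : ℤ)) ^ 2 = 2 ^ (u + e) := by
          have h3 : ((M + 1 : ℕ) : ℤ) - 1 = (M : ℤ) := by push_cast; ring
          rw [h3] at h2; exact h2
        exact_mod_cast this
      have hMdvd : M ∣ 2 ^ (u + e) := ⟨M, by rw [← hM]; ring⟩
      obtain ⟨c, hc, rfl⟩ := (Nat.dvd_prime_pow Nat.prime_two).mp hMdvd
      have h2c : 2 * c = u + e := by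
        have h3 : 2 ^ (c * 2) = 2 ^ (u + e) := by rw [pow_mul]; exact hM
        have := Nat.pow_right_injective (le_refl 2) h3
        omega
      obtain ⟨a', ha'⟩ : ∃ a', 2 ^ n = a' + 1 := ⟨2 ^ n - 1, by omega⟩
      have h3 : 2 ^ n - 1 = a' := by omega
      rw [h3] at h1
      have h4 : 2 ^ u + 2 ^ c = 2 ^ n + 2 ^ n * 2 ^ c := by
        rw [ha']; nlinarith [h1]
      obtain ⟨hcn, hu⟩ := key n u c hn h4
      right; right
      exact ⟨hu, by omega⟩

end Cfsg.Agent.Lib.H18.S3797GS
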