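import Mathlib

/-!
helper18: S3797 piece IDX2, the abstract part (Mathlib only).
* `ringAut_comm`: the ring automorphisms of a finite field commute.
* `exists_index_two_of_pgroup`: a nontrivial finite 2-group has a subgroup of index 2.
* `exists_normal_index_two`: a finite group `Γ` of even order acting faithfully on a finite field `F` of
  characteristic 2 by maps `x ↦ a * σ x` has a normal subgroup of index 2.
-/

set_option autoImplicit false

namespace Cfsg.Agent.Lib.H18.S3797Idx2A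

/-- the ring automorphisms of a finite field commute -/
theorem ringAut_comm {F : Type*} [Field F] [Finite F] (σ τ : F ≃+* F) : σ * τ = τ * σ := by
  classical
  obtain ⟨ζ, hζ⟩ := IsCyclic.exists_generator (α := Fˣ)
  have key : ∀ ρ : F ≃+* F, ∃ k : ℤ, ∀ u : Fˣ, ρ (u : F) = ((u ^ k : Fˣ) : F) := by
    intro ρ
    obtain ⟨k, hk⟩ := Subgroup.mem_zpowers_iff.mp (hζ (Units.map (ρ : F →* F) ζ))
    refine ⟨k, fun u => ?_⟩
    obtain ⟨j, rfl⟩ := Subgroup.mem_zpowers_iff.mp (hζ u)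
    have h1 : Units.map (ρ : F →* F) (ζ ^ j) = (ζ ^ j) ^ k := by
      rw [map_zpow, ← hk, ← zpow_mul, ← zpow_mul, mul_comm]
    have h2 : ((Units.map (ρ : F →* F) (ζ ^ j) : Fˣ) : F) = ρ ((ζ ^ j : Fˣ) : F) := rfl
    rw [← h2, h1]
  obtain ⟨k, hk⟩ := key σ
  obtain ⟨l, hl⟩ := key τ
  ext x
  rw [RingAut.mul_apply, RingAut.mul_apply]
  by_cases hx : x = 0
  · subst hx; simp
  · obtain ⟨u, rfl⟩ : ∃ u : Fˣ, (u : F) = x := ⟨Units.mk0 x hx, rfl⟩
    rw [hl u, hk (u ^ l), hk u, hl (u ^ k), ← zpow_mul, ← zpow_mul, mul_comm]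

/-- a nontrivial finite 2-group has a subgroup of index 2 -/
theorem exists_index_two_of_pgroup {P : Type*} [Group P] [Finite P] (hP : IsPGroup 2 P)
    (hnt : Nat.card P ≠ 1) : ∃ M : Subgroup P, M.index = 2 := by
  obtain ⟨n, hn⟩ := hP.exists_card_eq
  have hn0 : n ≠ 0 := by
    rintro rfl
    exact hnt (by simpa using hn)
  obtain ⟨M, hM⟩ := Sylow.exists_subgroup_card_pow_prime 2 (n := n - 1) (G := P)
    (by rw [hn]; exact pow_dvd_pow 2 (Nat.sub_le n 1))
  refine ⟨M, ?_⟩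
  have h := M.index_mul_card
  rw [hM, hn] at h
  have h2 : (2 : ℕ) ^ n = 2 * 2 ^ (n - 1) := by
    obtain ⟨k, rfl⟩ : ∃ k, n = k + 1 := ⟨n - 1, by omega⟩
    rw [pow_succ]; simp [mul_comm]
  rw [h2] at h
  exact Nat.eq_of_mul_eq_mul_right (by positivity) h

/-- ABSTRACT IDX2: a finite group `Γ` of even order acting faithfully on a finite field `F` of
characteristic 2 by semilinear maps `x ↦ a * σ x` has a normal subgroup of index 2. -/
theorem exists_normal_index_two {Γ : Type*} [Group Γ] [Finite Γ] {F : Type*} [Field F] [Finite F]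
    (hchar : ∀ x : F, x + x = 0) (T : Γ → F → F) (hT1 : ∀ x, T 1 x = x)
    (hTmul : ∀ γ δ x, T (γ * δ) x = T γ (T δ x)) (hfaith : ∀ γ, (∀ x, T γ x = x) → γ = 1)
    (hsemi : ∀ γ, ∃ (a : F) (σ : F ≃+* F), ∀ x, T γ x = a * σ x) (heven : Even (Nat.card Γ)) :
    ∃ N : Subgroup Γ, N.Normal ∧ N.index = 2 := by
  classical
  choose a s has using hsemi
  -- `a γ ≠ 0`
  have ha0 : ∀ γ, a γ ≠ 0 := by
    intro γ h0
    have h1 : T (γ⁻¹ * γ) 1 = T γ⁻¹ (T γ 1) := hTmul _ _ _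
    rw [inv_mul_cancel, hT1, has γ 1, h0, zero_mul, has γ⁻¹ 0, map_zero, mul_zero] at h1
    exact one_ne_zero h1
  -- `s` is multiplicative
  have hamul : ∀ γ δ, a (γ * δ) = a γ * s γ (a δ) := by
    intro γ δ
    have h1 := hTmul γ δ 1
    rw [has (γ * δ) 1, has δ 1, has γ, map_one, mul_one, map_one, mul_one] at h1
    exact h1
  have hsmul : ∀ γ δ, s (γ * δ) = s γ * s δ := by
    intro γ δ
    ext x
    have h1 := hTmul γ δ x
    rw [has (γ * δ) x, has δ x, has γ, map_mul, hamul, mul_assoc] at h1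
    rw [RingAut.mul_apply]
    have h2 : a γ * s γ (a δ) ≠ 0 := mul_ne_zero (ha0 γ) ((map_ne_zero _).mpr (ha0 δ))
    have h3 : (a γ * s γ (a δ)) * s (γ * δ) x = (a γ * s γ (a δ)) * s γ (s δ x) := by
      rw [mul_assoc, mul_assoc]; exact h1
    exact mul_left_cancel₀ h2 h3
  let sHom : Γ →* (F ≃+* F) := MonoidHom.mk' s hsmul
  have hsHom : ∀ γ, sHom γ = s γ := fun _ => rfl
  -- an involution of `Γ`
  obtain ⟨γ₀, hγ₀⟩ := exists_prime_orderOf_dvd_card' 2 (even_iff_two_dvd.mp heven)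
  have hγ₀sq : γ₀ * γ₀ = 1 := by
    rw [← sq, ← hγ₀]; exact pow_orderOf_eq_one γ₀
  have hs1 : s γ₀ ≠ 1 := by
    intro h1
    have hT : ∀ x, T γ₀ x = a γ₀ * x := by
      intro x; rw [has γ₀ x, h1]; rfl
    have h2 : a γ₀ * a γ₀ = 1 := by
      have h3 := hTmul γ₀ γ₀ 1
      rw [hγ₀sq, hT1, hT, hT, mul_one] at h3
      exact h3.symm
    have h4 : (a γ₀ + 1) * (a γ₀ + 1) = 0 := by
      have : (a γ₀ + 1) * (a γ₀ + 1) = a γ₀ * a γ₀ + (a γ₀ + a γ₀) + 1 := by ring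
      rw [this, h2, hchar (a γ₀), add_zero, hchar 1]
    have h5 : a γ₀ + 1 = 0 := mul_self_eq_zero.mp h4
    have h6 : a γ₀ = 1 := by
      have h7 : a γ₀ = -1 := eq_neg_of_add_eq_zero_left h5
      have h8 : (-1 : F) = 1 := by
        have := hchar (1 : F)
        exact neg_eq_of_add_eq_zero_left this
      rw [h7, h8]
    have h9 : γ₀ = 1 := hfaith γ₀ (fun x => by rw [hT, h6, one_mul])
    rw [h9, orderOf_one] at hγ₀
    exact absurd hγ₀ (by norm_num)
  have hs2 : s γ₀ * s γ₀ = 1 := by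
    rw [← hsmul, hγ₀sq]
    have := map_one sHom
    rwa [hsHom] at this
  -- odd part of `|Γ|`
  obtain ⟨k, m, hm, hkm⟩ := Nat.exists_eq_two_pow_mul_odd (n := Nat.card Γ) Nat.card_pos.ne'
  let ψ : Γ →* (F ≃+* F) := MonoidHom.mk' (fun γ => s γ ^ m) (by
    intro γ δ
    rw [hsmul]
    exact Commute.mul_pow (ringAut_comm _ _) m)
  have hψ : ∀ γ, ψ γ = s γ ^ m := fun _ => rfl
  have hspow : ∀ (γ : Γ) (j : ℕ), s γ ^ j = s (γ ^ j) := by
    intro γ j
    have := map_pow sHom γ j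
    rw [hsHom, hsHom] at this
    exact this.symm
  have hψγ₀ : ψ γ₀ ≠ 1 := by
    rw [hψ]
    obtain ⟨j, rfl⟩ := hm
    rw [pow_succ, pow_mul, sq, hs2, one_pow, one_mul]
    exact hs1
  have hPG : IsPGroup 2 (Γ ⧸ ψ.ker) := by
    intro x
    obtain ⟨γ, rfl⟩ := QuotientGroup.mk_surjective x
    refine ⟨k, ?_⟩
    rw [← QuotientGroup.mk_pow]
    rw [QuotientGroup.eq_one_iff, MonoidHom.mem_ker, hψ, hspow, ← pow_mul, ← hkm, pow_card_eq_one']
    have := map_one sHom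
    rwa [hsHom] at this
  have hnt : Nat.card (Γ ⧸ ψ.ker) ≠ 1 := by
    intro h1
    have h2 : ψ.ker.index = 1 := h1
    rw [Subgroup.index_eq_one] at h2
    have : γ₀ ∈ ψ.ker := by rw [h2]; trivial
    exact hψγ₀ (MonoidHom.mem_ker.mp this)
  obtain ⟨M, hM⟩ := exists_index_two_of_pgroup hPG hnt
  have hMn : M.Normal := Subgroup.normal_of_index_eq_two hM
  refine ⟨M.comap (QuotientGroup.mk' ψ.ker), hMn.comap _, ?_⟩
  rw [Subgroup.index_comap_of_surjective M (QuotientGroup.mk'_surjective _), hM]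

end Cfsg.Agent.Lib.H18.S3797Idx2A
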