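import Mathlib
import Cfsg.Agent.Lib.H19.S3797Defs
import Cfsg.Agent.Lib.H18.S3797Idx2A
import Cfsg.Agent.S3360

set_option autoImplicit false

namespace Cfsg.Agent.Lib.H18.S3797Idx2

open Cfsg.Agent.Lib.H19.S3797 Cfsg.Agent.Lib.H18.S3797Idx2A

universe u

section
variable {G : Type u} [Group G] (V : Subgroup G)

theorem comm_of_sq (hV : ∀ x ∈ V, x ^ 2 = 1) (a b : ↥V) : a * b = b * a := by
  have hsq : ∀ c : ↥V, c * c = 1 := by
    intro c
    apply Subtype.ext
    have := hV c c.2
    rw [sq] at this
    exact this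
  have hi : ∀ c : ↥V, c⁻¹ = c := fun c => inv_eq_of_mul_eq_one_left (hsq c)
  have h := hi (a * b)
  rw [mul_inv_rev, hi a, hi b] at h
  exact h.symm

/-- the commutative group structure on `V` (all squares trivial) -/
@[reducible] def commGroupOfSq [hV : Fact (∀ x ∈ V, x ^ 2 = 1)] : CommGroup ↥V :=
  { (inferInstance : Group ↥V) with mul_comm := comm_of_sq V hV.out }

attribute [local instance] commGroupOfSq

/-- `Additive V` is an `F_2`-vector space -/
@[reducible] def moduleOfSq [hV : Fact (∀ x ∈ V, x ^ 2 = 1)] : Module (ZMod 2) (Additive ↥V) :=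
  AddCommGroup.zmodModule (n := 2) (by
    intro x
    change Additive.ofMul (x.toMul ^ 2) = 0
    have : x.toMul ^ 2 = 1 := Subtype.ext (hV.out _ x.toMul.2)
    rw [this]; rfl)

attribute [local instance] moduleOfSq

variable [hV : Fact (∀ x ∈ V, x ^ 2 = 1)] [V.Normal]

/-- an additive automorphism as a linear one -/
def linOf (f : Additive ↥V ≃+ Additive ↥V) : Additive ↥V ≃ₗ[ZMod 2] Additive ↥V :=
  { f.toAddMonoidHom.toZModLinearMap 2 with
    invFun := f.symm
    left_inv := f.left_inv
    right_inv := f.right_inv }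

theorem linOf_apply (f : Additive ↥V ≃+ Additive ↥V) (w : Additive ↥V) : linOf V f w = f w := rfl

/-- the conjugation representation of `G` on `Additive V` -/
def rho : G →* (Additive ↥V ≃ₗ[ZMod 2] Additive ↥V) :=
  MonoidHom.mk' (fun g => linOf V (MulEquiv.toAdditive (MulAut.conjNormal g : ↥V ≃* ↥V))) (by
    intro g h
    ext w
    rw [LinearEquiv.mul_apply, linOf_apply, linOf_apply, linOf_apply, map_mul]
    rfl)

theorem rho_apply (g : G) (w : Additive ↥V) :
    rho V g w = Additive.ofMul (MulAut.conjNormal g w.toMul) := rfl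

theorem rho_eq_one_iff (g : G) :
    rho V g = 1 ↔ g ∈ Subgroup.centralizer (V : Set G) := by
  constructor
  · intro h
    rw [Subgroup.mem_centralizer_iff]
    intro v hv
    have h1 : rho V g (Additive.ofMul (⟨v, hv⟩ : ↥V)) = Additive.ofMul (⟨v, hv⟩ : ↥V) := by
      rw [h]; rfl
    rw [rho_apply] at h1
    have h2 : (MulAut.conjNormal g (⟨v, hv⟩ : ↥V) : ↥V) = ⟨v, hv⟩ := Additive.ofMul.injective h1
    have h3 : g * v * g⁻¹ = v := by
      have := congrArg Subtype.val h2
      simpa using this
    calc v * g = (g * v * g⁻¹) * g := by rw [h3]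
      _ = g * v := by group
  · intro h
    rw [Subgroup.mem_centralizer_iff] at h
    apply LinearEquiv.ext
    intro w
    rw [rho_apply, LinearEquiv.coe_one, id]
    apply Additive.toMul.injective
    apply Subtype.ext
    change ((MulAut.conjNormal g w.toMul : ↥V) : G) = (w.toMul : G)
    rw [MulAut.conjNormal_apply]
    have := h (w.toMul : G) w.toMul.2
    calc g * (w.toMul : G) * g⁻¹ = ((w.toMul : G) * g) * g⁻¹ := by rw [this]
      _ = (w.toMul : G) := by group

theorem idx2_aux [Finite G] (hsol : Group.IsSolvable G) (Q : Subgroup G) (hF : Frame Q V)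
    (heven : Even (Subgroup.centralizer (V : Set G)).index) :
    ∃ G1 : Subgroup G, G1.Normal ∧ G1.index = 2 := by
  classical
  haveI : Finite ↥(rho V).range :=
    Finite.of_surjective (rho V).rangeRestrict (rho V).rangeRestrict_surjective
  haveI : Group.IsSolvable G := hsol
  have hsolΓ : Group.IsSolvable ↥(rho V).range :=
    Group.isSolvable_of_surjective (rho V).rangeRestrict_surjective
  haveI : Finite (Additive ↥V) := Finite.of_equiv ↥V Additive.ofMul
  haveI : Nontrivial (Additive ↥V) := by
    obtain ⟨x, y, hxy, hx1, hx2, hy1, hy2⟩ := hF.four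
    refine ⟨⟨Additive.ofMul ⟨x, (hF.Vmem x).mpr hx2⟩, Additive.ofMul ⟨y, (hF.Vmem y).mpr hy2⟩, ?_⟩⟩
    intro h
    exact hxy (congrArg Subtype.val (Additive.ofMul.injective h))
  have htrans : ∀ v w : Additive ↥V, v ≠ 0 → w ≠ 0 →
      ∃ γ : ↥(rho V).range, ((rho V).range.subtype γ) v = w := by
    intro v w hv hw
    have hv1 : (v.toMul : G) ≠ 1 := by
      intro h
      apply hv
      apply Additive.toMul.injective
      exact Subtype.ext h
    have hw1 : (w.toMul : G) ≠ 1 := by
      intro h
      apply hw
      apply Additive.toMul.injective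
      exact Subtype.ext h
    obtain ⟨g, hg⟩ := hF.trans (v.toMul : G) (w.toMul : G) v.toMul.2 w.toMul.2 hv1 hw1
    refine ⟨⟨rho V g, ⟨g, rfl⟩⟩, ?_⟩
    change rho V g v = w
    rw [rho_apply]
    apply Additive.toMul.injective
    apply Subtype.ext
    change ((MulAut.conjNormal g v.toMul : ↥V) : G) = (w.toMul : G)
    rw [MulAut.conjNormal_apply]
    exact hg
  have hcardΓ : Nat.card ↥(rho V).range = (Subgroup.centralizer (V : Set G)).index := by
    rw [← Subgroup.index_ker]
    congr 1
    ext g
    rw [MonoidHom.mem_ker, rho_eq_one_iff]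
  have hW2 : ∀ w : Additive ↥V, w + w = 0 := by
    intro w
    have : w.toMul * w.toMul = 1 := by
      apply Subtype.ext
      have := hV.out _ w.toMul.2
      rw [sq] at this
      exact this
    exact congrArg Additive.ofMul this
  rcases Cfsg.Agent.S3360.result 2 hsolΓ (rho V).range.subtype (Subgroup.subtype_injective _) htrans with
    ⟨F, hField, hFin, e, he⟩ | hbad
  · -- the semilinear case
    have hchar : ∀ x : F, x + x = 0 := by
      intro x
      obtain ⟨w, rfl⟩ := e.surjective x
      rw [← map_add, hW2, map_zero]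
    obtain ⟨N, hNn, hN2⟩ := exists_normal_index_two (Γ := ↥(rho V).range) (F := F) hchar
      (fun γ x => e (((rho V).range.subtype γ) (e.symm x)))
      (by intro x; simp)
      (by intro γ δ x; simp)
      (by
        intro γ h
        apply Subtype.ext
        apply LinearEquiv.ext
        intro w
        have := h (e w)
        simp only [AddEquiv.symm_apply_apply] at this
        have h2 := e.injective this
        simpa using h2)
      (by
        intro γ
        obtain ⟨a, σ, h⟩ := he γ
        exact ⟨a, σ, fun x => by rw [h, AddEquiv.apply_symm_apply]⟩)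
      (by rw [hcardΓ]; exact heven)
    refine ⟨N.comap (rho V).rangeRestrict, hNn.comap _, ?_⟩
    rw [Subgroup.index_comap_of_surjective N (rho V).rangeRestrict_surjective, hN2]
  · -- the exceptional orders are odd
    exfalso
    have hPG : IsPGroup 2 ↥V := by
      intro v
      refine ⟨1, ?_⟩
      rw [pow_one]
      exact Subtype.ext (hV.out _ v.2)
    obtain ⟨n, hn⟩ := hPG.exists_card_eq
    have hc : Nat.card (Additive ↥V) = 2 ^ n := by
      rw [← hn]; exact Nat.card_congr Additive.toMul
    rw [hc] at hbad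
    have hn0 : n ≠ 0 := by
      rintro rfl
      have h1 : Nat.card (Additive ↥V) = 1 := by simpa using hc
      have := Finite.one_lt_card (α := Additive ↥V)
      omega
    obtain ⟨k, rfl⟩ : ∃ k, n = k + 1 := ⟨n - 1, by omega⟩
    have h2 : (2 : ℕ) ^ (k + 1) = 2 * 2 ^ k := by rw [pow_succ]; ring
    simp only [Set.mem_insert_iff, Set.mem_singleton_iff] at hbad
    omega

end

/-- **IDX2** in helper19's exact shape. -/
theorem idx2 : Cfsg.Agent.Lib.H19.S3797.Idx2Stmt.{u} := by
  intro G _ _ hsol Q V hF heven
  haveI : V.Normal := hF.Vn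
  haveI : Fact (∀ x ∈ V, x ^ 2 = 1) := ⟨fun x hx => (hF.Vmem x).mp hx⟩
  exact idx2_aux V hsol Q hF heven

end Cfsg.Agent.Lib.H18.S3797Idx2
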