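import Cfsg.Agent.Lib.H15.S3814C2Defs
import Cfsg.Agent.Lib.H19.S3814HH
import Cfsg.Agent.Lib.H15.DiagConj
import Cfsg.Agent.Lib.H7.DihedralLemma2
import Cfsg.Agent.Lib.H7.BenderMax
import Cfsg.Agent.Lib.H1.PCore
import Cfsg.Agent.Lib.H1.Fitting
import Cfsg.Agent.Lib.H16.S3814AutCyc

/-!
# S3814, Case 2', piece (10) BadSocle (helper18)

`badSocle : Cfsg.Agent.H15.S3814C2.BadSocleStmt.{u}`: if `O_c(K)` is cyclic, every bad element `z` of order `c`
of `K` lies in `⟨mc⟩`.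

Proof.  Suppose `z ∉ ⟨mc⟩`.  `z` centralises `O_r(K)` for every prime `r`:
* `r = b`: [HH] (`Lib/H19/S3814HH.hh_odd`, `b` odd);
* `r = c`: `Q0 = O_c(K)` is cyclic (`SideCyc`), contains `mc`; if `z` moves `g ∈ Q0`, the commutator map
  `h ↦ z⁻¹ h⁻¹ z h` is multiplicative on the abelian `Q0`, a suitable power `h` of `g` has `z⁻¹ h⁻¹ z h = mc ^ j ≠ 1`,
  and `DiagConj.diag` gives `V = 1`;
* `r = a`: `O_a(K) = 1`, otherwise `Z(O_a(K))` is normal abelian, hence cyclic (`Ctx.cyc`), and its subgroup of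
  order `a` is normal in `K`, against `noa`;
* other `r`: `r ∤ |K|`.
Hence `z ∈ C_K(F(K)) ≤ F(K)`, `z ∈ O_c(K) = Q0` cyclic, and `z ∈ Ω₁(Q0) = ⟨mc⟩`.
-/

set_option autoImplicit false

namespace Cfsg.Agent.Lib.H18.S3814C2BadSocle

open Cfsg.Agent.H7.S3814Defs Cfsg.Agent.H15.S3814C2

universe u

variable {G : Type u} [Group G]

/-- in a finite cyclic group, the elements killed by `c` are the powers of any element of order `c` -/
theorem mem_zpowers_of_cyclic {Q : Type*} [Group Q] [Finite Q] [IsCyclic Q] {c : ℕ} (hc : 0 < c)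
    (m x : Q) (hm : orderOf m = c) (hx : x ^ c = 1) : x ∈ Subgroup.zpowers m := by
  classical
  have := Fintype.ofFinite Q
  have hle : (Finset.univ.filter fun a : Q => a ^ c = 1).card ≤ c := by
    convert IsCyclic.card_pow_eq_one_le (α := Q) hc
  have hT : ((Subgroup.zpowers m : Set Q).toFinset).card = c := by
    rw [Set.toFinset_card, ← Nat.card_eq_fintype_card]
    exact (Nat.card_zpowers m).trans hm
  have hsub : (Subgroup.zpowers m : Set Q).toFinset ⊆ Finset.univ.filter fun a : Q => a ^ c = 1 := by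
    intro y hy
    rw [Set.mem_toFinset] at hy
    rw [Finset.mem_filter]
    refine ⟨Finset.mem_univ _, ?_⟩
    obtain ⟨k, rfl⟩ := Subgroup.mem_zpowers_iff.1 hy
    rw [← zpow_natCast, ← zpow_mul, mul_comm, zpow_mul, zpow_natCast, ← hm, pow_orderOf_eq_one,
      one_zpow]
  have heq := Finset.eq_of_subset_of_card_le hsub (by rw [hT]; exact hle)
  have hxm : x ∈ Finset.univ.filter fun a : Q => a ^ c = 1 := by
    rw [Finset.mem_filter]; exact ⟨Finset.mem_univ _, hx⟩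
  rw [← heq] at hxm
  exact Set.mem_toFinset.1 hxm

/-- the same inside a cyclic subgroup -/
theorem mem_zpowers_of_cyclic_sub [Finite G] (Q : Subgroup G) (hQ : IsCyclic Q) {c : ℕ} (hc : 0 < c)
    (m x : G) (hmQ : m ∈ Q) (hxQ : x ∈ Q) (hm : orderOf m = c) (hx : x ^ c = 1) :
    x ∈ Subgroup.zpowers m := by
  have h1 : (⟨x, hxQ⟩ : Q) ∈ Subgroup.zpowers (⟨m, hmQ⟩ : Q) := by
    apply mem_zpowers_of_cyclic hc
    · rw [Subgroup.orderOf_mk, hm]
    · apply Subtype.ext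
      simpa using hx
  obtain ⟨i, hi⟩ := Subgroup.mem_zpowers_iff.1 h1
  rw [Subgroup.mem_zpowers_iff]
  refine ⟨i, ?_⟩
  have := congrArg Subtype.val hi
  simpa using this

/-- a cyclic subgroup is abelian -/
theorem comm_of_cyclic (Q : Subgroup G) (hQ : IsCyclic Q) : ∀ x ∈ Q, ∀ y ∈ Q, x * y = y * x := by
  intro x hx y hy
  obtain ⟨g, hg⟩ := IsCyclic.exists_generator (α := Q)
  obtain ⟨i, hi⟩ := Subgroup.mem_zpowers_iff.1 (hg ⟨x, hx⟩)
  obtain ⟨j, hj⟩ := Subgroup.mem_zpowers_iff.1 (hg ⟨y, hy⟩)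
  have h : (⟨x, hx⟩ : Q) * ⟨y, hy⟩ = ⟨y, hy⟩ * ⟨x, hx⟩ := by
    rw [← hi, ← hj, ← zpow_add, ← zpow_add, add_comm]
  exact congrArg Subtype.val h

theorem mem_normalizer_of_normal {V : Subgroup G} (hV : V.Normal) (g : G) :
    g ∈ Subgroup.normalizer (V : Set G) := by
  rw [Subgroup.mem_normalizer_iff]
  intro n
  constructor
  · intro h; exact hV.conj_mem n h g
  · intro h
    have := hV.conj_mem _ h g⁻¹
    simpa [mul_assoc] using this

/-! ### `O_r(K)` inside `G` -/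

/-- `O_r(K)` as a subgroup of `G` -/
def coreG (K : Subgroup G) (r : ℕ) : Subgroup G := (Cfsg.pCore r ↥K).map K.subtype

theorem coreG_le (K : Subgroup G) (r : ℕ) : coreG K r ≤ K := Subgroup.map_subtype_le _

theorem coreG_norm (K : Subgroup G) (r : ℕ) :
    K ≤ Subgroup.normalizer ((coreG K r : Subgroup G) : Set G) := by
  apply Cfsg.Agent.Lib.H7.le_normalizer_of_conj_mem
  rintro k hk _ ⟨y, hy, rfl⟩
  refine ⟨⟨k, hk⟩ * y * ⟨k, hk⟩⁻¹,
    (Cfsg.Agent.Lib.H1.pCore_normal r ↥K).conj_mem y hy ⟨k, hk⟩, ?_⟩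
  simp

theorem coreG_pgroup (K : Subgroup G) (r : ℕ) [Fact r.Prime] : IsPGroup r (coreG K r) :=
  (Cfsg.Agent.Lib.H1.pCore_isPGroup r ↥K).map K.subtype

theorem le_coreG {K Q : Subgroup G} {r : ℕ} (hQK : Q ≤ K)
    (hn : K ≤ Subgroup.normalizer (Q : Set G)) (hQ : IsPGroup r Q) : Q ≤ coreG K r := by
  intro q hq
  have h1 : (Q.subgroupOf K).Normal := (Subgroup.normal_subgroupOf_iff_le_normalizer hQK).2 hn
  have h2 : IsPGroup r (Q.subgroupOf K) := hQ.comap_subtype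
  have h3 := Cfsg.Agent.Lib.H1.le_pCore h1 h2
  exact ⟨⟨q, hQK hq⟩, h3 (Subgroup.mem_subgroupOf.2 hq), rfl⟩

/-! ### the commutator map on an abelian subgroup -/

theorem comm_pow {z : G} {Q : Subgroup G} (hQab : ∀ x ∈ Q, ∀ y ∈ Q, x * y = y * x)
    (hzQ : ∀ x ∈ Q, z⁻¹ * x * z ∈ Q) (g : G) (hg : g ∈ Q) (n : ℕ) :
    z⁻¹ * (g ^ n)⁻¹ * z * g ^ n = (z⁻¹ * g⁻¹ * z * g) ^ n := by
  induction n with
  | zero => simp
  | succ n ih =>
    rw [pow_succ (z⁻¹ * g⁻¹ * z * g), ← ih]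
    have h1 : z⁻¹ * g⁻¹ * z ∈ Q := hzQ g⁻¹ (inv_mem hg)
    have h2 := hQab _ h1 _ (pow_mem hg n)
    have h3 : (g ^ (n + 1))⁻¹ = (g ^ n)⁻¹ * g⁻¹ := by
      rw [pow_succ', mul_inv_rev]
    calc z⁻¹ * (g ^ (n + 1))⁻¹ * z * g ^ (n + 1)
        = z⁻¹ * (g ^ n)⁻¹ * z * ((z⁻¹ * g⁻¹ * z) * g ^ n) * g := by
          rw [h3, pow_succ]; group
      _ = z⁻¹ * (g ^ n)⁻¹ * z * (g ^ n * (z⁻¹ * g⁻¹ * z)) * g := by rw [h2]
      _ = (z⁻¹ * (g ^ n)⁻¹ * z * g ^ n) * (z⁻¹ * g⁻¹ * z * g) := by group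

/-! ### the pieces -/

/-- the generator of a normal subgroup of prime order `c` lies in `O_c(K)` -/
theorem np_mem_core {K : Subgroup G} {c : ℕ} {m : G} (h : NormalPrime K c m) : m ∈ coreG K c := by
  obtain ⟨hc, hmK, hmo, hmn⟩ := h
  apply le_coreG (Q := Subgroup.zpowers m) ((Subgroup.zpowers_le).2 hmK) ?_ ?_
    (Subgroup.mem_zpowers m)
  · apply Cfsg.Agent.Lib.H7.le_normalizer_of_conj_mem
    intro k hk x hx
    obtain ⟨i, rfl⟩ := Subgroup.mem_zpowers_iff.1 hx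
    have h1 : k * m * k⁻¹ ∈ Subgroup.zpowers m := by
      have := hmn k⁻¹ (inv_mem hk)
      simpa using this
    have h2 : k * m ^ i * k⁻¹ = (k * m * k⁻¹) ^ i := (conj_zpow).symm
    rw [h2]
    exact zpow_mem h1 i
  · intro x
    refine ⟨1, ?_⟩
    obtain ⟨i, hi⟩ := Subgroup.mem_zpowers_iff.1 x.2
    apply Subtype.ext
    rw [pow_one, Subgroup.coe_pow, Subgroup.coe_one, ← hi, ← zpow_natCast, ← zpow_mul, mul_comm,
      zpow_mul, zpow_natCast, ← hmo, pow_orderOf_eq_one, one_zpow]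

theorem elemAb_V {σ : Finset ℕ} {p : ℕ} {V K : Subgroup G} (hctx : Ctx σ p V K) :
    Cfsg.IsElementaryAbelian p V :=
  ⟨⟨⟨fun x y => Subtype.ext (hctx.shape.elem.1 x x.2 y y.2)⟩⟩, hctx.shape.elem.2⟩

theorem card_V_coprime [Finite G] {σ : Finset ℕ} {p : ℕ} {V K : Subgroup G} (hctx : Ctx σ p V K)
    {c : ℕ} (hc : c.Prime) (hcp : c ≠ p) : (Nat.card V).Coprime c := by
  have hp : p.Prime := hctx.cex.prime p hctx.shape.hp
  have : Fact p.Prime := ⟨hp⟩
  have hVp : IsPGroup p V := fun v => ⟨1, by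
    apply Subtype.ext
    simpa using hctx.shape.elem.2 v v.2⟩
  obtain ⟨e, he⟩ := IsPGroup.iff_card.1 hVp
  rw [he]
  exact Nat.Coprime.pow_left e ((Nat.coprime_primes hp hc).2 (Ne.symm hcp))

/-- `z` centralises `O_b(K)`: [HH] -/
theorem cent_b [Finite G] {σ : Finset ℕ} {p : ℕ} {V K : Subgroup G} (hctx : Ctx σ p V K)
    {a b c : ℕ} {mb mc : G} (hts : TwoSided σ p V K a b c mb mc) (z : G) (hzK : z ∈ K)
    (hzc : orderOf z = c) (hzf : Fpf z V) : ∀ y ∈ coreG K b, z * y = y * z := by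
  have hp : p.Prime := hctx.cex.prime p hctx.shape.hp
  have hb : b.Prime := hctx.cex.prime b hts.hb.1
  have hc : c.Prime := hctx.cex.prime c hts.hc.1
  have : Fact b.Prime := ⟨hb⟩
  apply Cfsg.Agent.Lib.H19.S3814HH.hh_odd hp hb hc (Ne.symm hts.hb.2) (Ne.symm hts.hc.2) hts.hbc
    hts.oddb z hzc (coreG K b) V (coreG_pgroup K b) (coreG_norm K b hzK) (elemAb_V hctx)
    hctx.shape.ne_bot (mem_normalizer_of_normal hctx.shape.normal z)
    (fun y _ => mem_normalizer_of_normal hctx.shape.normal y) ?_ hzf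
  rw [eq_bot_iff]
  intro x hx
  rw [Subgroup.mem_bot]
  have hxK : x ∈ K := (sup_le ((Subgroup.zpowers_le).2 hzK) (coreG_le K b)) hx.1
  apply hctx.shape.faithful x hxK
  intro v hv
  exact ((Subgroup.mem_centralizer_iff.1 hx.2) v hv).symm

/-- `z` centralises the cyclic `O_c(K)`: `DiagConj.diag` -/
theorem cent_c [Finite G] {σ : Finset ℕ} {p : ℕ} {V K : Subgroup G} (hctx : Ctx σ p V K)
    {a b c : ℕ} {mb mc : G} (hts : TwoSided σ p V K a b c mb mc) (hcyc : SideCyc K c) (z : G)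
    (hzK : z ∈ K) (hzc : orderOf z = c) (hzf : Fpf z V) (hznot : z ∉ Subgroup.zpowers mc) :
    ∀ y ∈ coreG K c, z * y = y * z := by
  have hc : c.Prime := hctx.cex.prime c hts.hc.1
  have : Fact c.Prime := ⟨hc⟩
  have hmQ : mc ∈ coreG K c := np_mem_core hts.npc
  obtain ⟨-, hmK, hmo, hmn⟩ := hts.npc
  have hQcyc : IsCyclic (coreG K c) :=
    hcyc (coreG K c) (coreG_le K c) (coreG_norm K c) (coreG_pgroup K c)
  have hQab := comm_of_cyclic (coreG K c) hQcyc
  by_contra hcon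
  push_neg at hcon
  obtain ⟨g, hgQ, hzg⟩ := hcon
  have hzQ : ∀ x ∈ coreG K c, z⁻¹ * x * z ∈ coreG K c := by
    intro x hx
    have := (Subgroup.mem_normalizer_iff.1 (coreG_norm K c (inv_mem hzK)) x).1 hx
    simpa using this
  have hdQ : z⁻¹ * g⁻¹ * z * g ∈ coreG K c := mul_mem (hzQ _ (inv_mem hgQ)) hgQ
  have hd1 : z⁻¹ * g⁻¹ * z * g ≠ 1 := by
    intro h
    apply hzg
    have h2 : z * g = g * z * (z⁻¹ * g⁻¹ * z * g) := by group
    rw [h2, h, mul_one]
  obtain ⟨k, hk⟩ := (coreG_pgroup K c) ⟨z⁻¹ * g⁻¹ * z * g, hdQ⟩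
  have hk' : (z⁻¹ * g⁻¹ * z * g) ^ (c ^ k) = 1 := by
    simpa using congrArg Subtype.val hk
  obtain ⟨s, -, hs⟩ := (Nat.dvd_prime_pow hc).1 (orderOf_dvd_of_pow_eq_one hk')
  have hs0 : s ≠ 0 := by
    rintro rfl
    rw [pow_zero, orderOf_eq_one_iff] at hs
    exact hd1 hs
  obtain ⟨s', rfl⟩ := Nat.exists_eq_succ_of_ne_zero hs0
  have hhQ : g ^ (c ^ s') ∈ coreG K c := pow_mem hgQ _
  have hδ : z⁻¹ * (g ^ (c ^ s'))⁻¹ * z * g ^ (c ^ s') = (z⁻¹ * g⁻¹ * z * g) ^ (c ^ s') :=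
    comm_pow hQab hzQ g hgQ _
  have hdn : orderOf ((z⁻¹ * g⁻¹ * z * g) ^ (c ^ s')) = c := by
    rw [orderOf_pow_of_dvd (pow_pos hc.pos _).ne' (by rw [hs]; exact pow_dvd_pow c (Nat.le_succ s')),
      hs, Nat.succ_eq_add_one, pow_succ, Nat.mul_div_cancel_left _ (pow_pos hc.pos _)]
  have hdnc : ((z⁻¹ * g⁻¹ * z * g) ^ (c ^ s')) ^ c = 1 := by
    have h3 := pow_orderOf_eq_one ((z⁻¹ * g⁻¹ * z * g) ^ (c ^ s'))
    rwa [hdn] at h3
  have hdnm : (z⁻¹ * g⁻¹ * z * g) ^ (c ^ s') ∈ Subgroup.zpowers mc :=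
    mem_zpowers_of_cyclic_sub (coreG K c) hQcyc hc.pos mc ((z⁻¹ * g⁻¹ * z * g) ^ (c ^ s')) hmQ
      (pow_mem hdQ _) hmo hdnc
  obtain ⟨j, hj⟩ := Cfsg.Agent.Lib.H16.S3814AutCyc.exists_nat_pow_of_mem_zpowers hc hmo hdnm
  have hcj : ¬ c ∣ j := by
    intro hdvd
    have h1 : mc ^ j = 1 := by
      rw [← hmo] at hdvd
      exact orderOf_dvd_iff_pow_eq_one.1 hdvd
    rw [h1] at hj
    have h2 : orderOf ((z⁻¹ * g⁻¹ * z * g) ^ (c ^ s')) = 1 := by rw [hj, orderOf_one]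
    rw [hdn] at h2
    exact hc.one_lt.ne' h2
  have hzm : Commute z mc := by
    apply Cfsg.Agent.Lib.H16.S3814AutCyc.commute_of_coprime_pred hc mc z hmo ?_
      (isOfFinOrder_of_finite z) ?_
    · have := hmn z⁻¹ (inv_mem hzK)
      simpa using this
    · rw [hzc]
      refine (Nat.Prime.coprime_iff_not_dvd hc).2 (fun h => ?_)
      have h2 := hc.two_le
      have := Nat.le_of_dvd (by omega) h
      omega
  have hnV : ∀ x : G, x ∈ Subgroup.normalizer (V : Set G) :=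
    mem_normalizer_of_normal hctx.shape.normal
  have hVbot := Cfsg.Agent.H15.DiagConj.diag V hc (card_V_coprime hctx hc hts.hc.2) z mc
    (g ^ (c ^ s')) hzc hmo hzm hznot (hnV z) (hnV mc) (hnV _) j hcj (hQab _ hhQ mc hmQ)
    (by rw [← hj, ← hδ]; group)
    (by
      rw [eq_bot_iff]
      intro x hx
      rw [Subgroup.mem_bot]
      exact hts.fpfc x hx.1 ((Subgroup.mem_centralizer_iff.1 hx.2) mc rfl))
    (by
      rw [eq_bot_iff]
      intro x hx
      rw [Subgroup.mem_bot]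
      exact hzf x hx.1 ((Subgroup.mem_centralizer_iff.1 hx.2) z rfl))
  exact hctx.shape.ne_bot hVbot

/-- `O_a(K) = 1` -/
theorem core_a_bot [Finite G] {σ : Finset ℕ} {p : ℕ} {V K : Subgroup G} (hctx : Ctx σ p V K)
    {a b c : ℕ} {mb mc : G} (hts : TwoSided σ p V K a b c mb mc) : coreG K a = ⊥ := by
  have ha : a.Prime := hctx.cex.prime a hts.ha.1
  have : Fact a.Prime := ⟨ha⟩
  by_contra hne
  have hPp : IsPGroup a (coreG K a) := coreG_pgroup K a
  have hnt : Nontrivial (coreG K a) := (Subgroup.nontrivial_iff_ne_bot _).2 hne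
  have hcn : Nontrivial (Subgroup.center (coreG K a)) := hPp.center_nontrivial
  obtain ⟨ζ, hζ⟩ := exists_ne (1 : Subgroup.center (coreG K a))
  have hζZ : ((ζ : coreG K a) : G) ∈ coreG K a ⊓ Subgroup.centralizer (coreG K a : Set G) := by
    refine Subgroup.mem_inf.2 ⟨(ζ : coreG K a).2, ?_⟩
    rw [Subgroup.mem_centralizer_iff]
    intro y hy
    have := Subgroup.mem_center_iff.1 ζ.2 ⟨y, hy⟩
    exact congrArg Subtype.val this
  have hζ1 : ((ζ : coreG K a) : G) ≠ 1 := by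
    intro h
    apply hζ
    apply Subtype.ext
    apply Subtype.ext
    simpa using h
  have hZab : ∀ x ∈ coreG K a ⊓ Subgroup.centralizer (coreG K a : Set G),
      ∀ y ∈ coreG K a ⊓ Subgroup.centralizer (coreG K a : Set G), x * y = y * x := by
    intro x hx y hy
    exact (Subgroup.mem_centralizer_iff.1 hy.2) x hx.1
  have hZK : coreG K a ⊓ Subgroup.centralizer (coreG K a : Set G) ≤ K :=
    inf_le_left.trans (coreG_le K a)
  have hZn : K ≤ Subgroup.normalizer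
      ((coreG K a ⊓ Subgroup.centralizer (coreG K a : Set G) : Subgroup G) : Set G) := by
    apply Cfsg.Agent.Lib.H7.le_normalizer_of_conj_mem
    intro k hk x hx
    have hPn := coreG_norm K a
    have hconj : ∀ y ∈ coreG K a, k * y * k⁻¹ ∈ coreG K a := fun y hy =>
      (Subgroup.mem_normalizer_iff.1 (hPn hk) y).1 hy
    have hconj' : ∀ y ∈ coreG K a, k⁻¹ * y * k ∈ coreG K a := fun y hy => by
      have := (Subgroup.mem_normalizer_iff.1 (hPn (inv_mem hk)) y).1 hy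
      simpa using this
    refine Subgroup.mem_inf.2 ⟨hconj x hx.1, ?_⟩
    rw [Subgroup.mem_centralizer_iff]
    intro y hy
    have h1 := (Subgroup.mem_centralizer_iff.1 hx.2) _ (hconj' y hy)
    calc y * (k * x * k⁻¹) = k * ((k⁻¹ * y * k) * x) * k⁻¹ := by group
      _ = k * (x * (k⁻¹ * y * k)) * k⁻¹ := by rw [h1]
      _ = k * x * k⁻¹ * y := by group
  have hZcyc : IsCyclic (coreG K a ⊓ Subgroup.centralizer (coreG K a : Set G) : Subgroup G) :=
    hctx.cyc _ hZK hZn hZab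
  obtain ⟨k, hk⟩ := hPp ⟨((ζ : coreG K a) : G), hζZ.1⟩
  have hk' : ((ζ : coreG K a) : G) ^ (a ^ k) = 1 := by
    simpa using congrArg Subtype.val hk
  obtain ⟨s, -, hs⟩ := (Nat.dvd_prime_pow ha).1 (orderOf_dvd_of_pow_eq_one hk')
  have hs0 : s ≠ 0 := by
    rintro rfl
    rw [pow_zero, orderOf_eq_one_iff] at hs
    exact hζ1 hs
  obtain ⟨s', rfl⟩ := Nat.exists_eq_succ_of_ne_zero hs0
  have hm0Z : ((ζ : coreG K a) : G) ^ (a ^ s') ∈
      coreG K a ⊓ Subgroup.centralizer (coreG K a : Set G) := pow_mem hζZ _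
  have hm0o : orderOf (((ζ : coreG K a) : G) ^ (a ^ s')) = a := by
    rw [orderOf_pow_of_dvd (pow_pos ha.pos _).ne' (by rw [hs]; exact pow_dvd_pow a (Nat.le_succ s')),
      hs, Nat.succ_eq_add_one, pow_succ, Nat.mul_div_cancel_left _ (pow_pos ha.pos _)]
  apply hts.noa (((ζ : coreG K a) : G) ^ (a ^ s'))
  refine ⟨ha, hZK hm0Z, hm0o, ?_⟩
  intro k hk
  have h1 : k⁻¹ * ((ζ : coreG K a) : G) ^ (a ^ s') * k ∈
      coreG K a ⊓ Subgroup.centralizer (coreG K a : Set G) := by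
    have := (Subgroup.mem_normalizer_iff.1 (hZn (inv_mem hk)) _).1 hm0Z
    simpa using this
  apply mem_zpowers_of_cyclic_sub _ hZcyc ha.pos _ _ hm0Z h1 hm0o
  have h2 : (k⁻¹ * ((ζ : coreG K a) : G) ^ (a ^ s') * k) ^ a =
      k⁻¹ * (((ζ : coreG K a) : G) ^ (a ^ s')) ^ a * k := by
    have := conj_pow (a := k⁻¹) (b := ((ζ : coreG K a) : G) ^ (a ^ s')) (i := a)
    simpa using this
  have h3 : (((ζ : coreG K a) : G) ^ (a ^ s')) ^ a = 1 := by
    have h4 := pow_orderOf_eq_one (((ζ : coreG K a) : G) ^ (a ^ s'))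
    rwa [hm0o] at h4
  rw [h2, h3]
  group

/-- only `a`, `b`, `c` can have a nontrivial core -/
theorem prime_of_core_ne_bot [Finite G] {σ : Finset ℕ} {p : ℕ} {V K : Subgroup G}
    (hctx : Ctx σ p V K) {a b c : ℕ} {mb mc : G} (hts : TwoSided σ p V K a b c mb mc) (r : ℕ)
    [hr : Fact r.Prime] (hne : coreG K r ≠ ⊥) : r = a ∨ r = b ∨ r = c := by
  have hcard : r ∣ Nat.card K := by
    obtain ⟨e, he⟩ := IsPGroup.iff_card.1 (coreG_pgroup K r)
    have hdvd : Nat.card (coreG K r) ∣ Nat.card K := Subgroup.card_dvd_of_le (coreG_le K r)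
    have he0 : e ≠ 0 := by
      rintro rfl
      rw [pow_zero] at he
      exact hne (Subgroup.card_eq_one.1 he)
    rw [he] at hdvd
    exact (dvd_pow_self r he0).trans hdvd
  obtain ⟨hrσ, hrp⟩ := hctx.facts.primes r hr.out hcard
  by_contra hcon
  push_neg at hcon
  obtain ⟨h2, h3, h4⟩ := hcon
  have hsub : ({r, p, a, b, c} : Finset ℕ) ⊆ σ := by
    intro x hx
    simp only [Finset.mem_insert, Finset.mem_singleton] at hx
    rcases hx with rfl | rfl | rfl | rfl | rfl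
    · exact hrσ
    · exact hctx.shape.hp
    · exact hts.ha.1
    · exact hts.hb.1
    · exact hts.hc.1
  have hcard5 : ({r, p, a, b, c} : Finset ℕ).card = 5 := by
    have e1 : b ∉ ({c} : Finset ℕ) := by simp [hts.hbc]
    have e2 : a ∉ ({b, c} : Finset ℕ) := by simp [hts.hab, hts.hac]
    have e3 : p ∉ ({a, b, c} : Finset ℕ) := by
      simp [Ne.symm hts.ha.2, Ne.symm hts.hb.2, Ne.symm hts.hc.2]
    have e4 : r ∉ ({p, a, b, c} : Finset ℕ) := by simp [hrp, h2, h3, h4]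
    rw [Finset.card_insert_of_notMem e4, Finset.card_insert_of_notMem e3,
      Finset.card_insert_of_notMem e2, Finset.card_insert_of_notMem e1, Finset.card_singleton]
  have := Finset.card_le_card hsub
  rw [hcard5, hctx.cex.card4] at this
  omega

/-- **PIECE (10) BadSocle.** -/
theorem badSocle : BadSocleStmt.{u} := by
  intro G _ σ p V K hctx a b c mb mc hts hcyc z hzK hzc hzf
  by_contra hznot
  have hfin : Finite G := hctx.cex.fin
  have hsol : Group.IsSolvable G := hctx.cex.sol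
  have hc : c.Prime := hctx.cex.prime c hts.hc.1
  have hall : ∀ r : ℕ, r.Prime → ∀ y ∈ coreG K r, z * y = y * z := by
    intro r hr y hy
    have : Fact r.Prime := ⟨hr⟩
    by_cases hne : coreG K r = ⊥
    · rw [hne, Subgroup.mem_bot] at hy
      subst hy
      simp
    · rcases prime_of_core_ne_bot hctx hts r hne with h | h | h
      · subst h
        exact absurd (core_a_bot hctx hts) hne
      · subst h
        exact cent_b hctx hts z hzK hzc hzf y hy
      · subst h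
        exact cent_c hctx hts hcyc z hzK hzc hzf hznot y hy
  have : Fact c.Prime := ⟨hc⟩
  have hle : Cfsg.fittingSubgroup ↥K ≤ Subgroup.centralizer ({(⟨z, hzK⟩ : ↥K)} : Set ↥K) := by
    rw [Cfsg.Agent.Lib.H1.fittingSubgroup_eq_iSup_pCore]
    apply iSup_le
    intro r y hy
    rw [Subgroup.mem_centralizer_iff]
    intro w hw
    rw [Set.mem_singleton_iff] at hw
    subst hw
    apply Subtype.ext
    exact hall r r.2 y ⟨y, hy, rfl⟩
  have hzC : (⟨z, hzK⟩ : ↥K) ∈ Subgroup.centralizer (Cfsg.fittingSubgroup ↥K : Set ↥K) := by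
    rw [Subgroup.mem_centralizer_iff]
    intro f hf
    exact ((Subgroup.mem_centralizer_iff.1 (hle hf)) ⟨z, hzK⟩ rfl).symm
  have hzF := Cfsg.Agent.Lib.H7.centralizer_fittingSubgroup_le_of_isSolvable ↥K hzC
  have hzP : (⟨z, hzK⟩ : ↥K) ∈ Cfsg.pCore c ↥K :=
    Cfsg.Agent.Lib.H7.mem_pCore_of_mem_fitting_of_pow c hzF ⟨1, by
      apply Subtype.ext
      rw [pow_one]
      simp [← hzc, pow_orderOf_eq_one]⟩
  have hzQ : z ∈ coreG K c := ⟨⟨z, hzK⟩, hzP, rfl⟩
  exact hznot (mem_zpowers_of_cyclic_sub (coreG K c)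
    (hcyc _ (coreG_le K c) (coreG_norm K c) (coreG_pgroup K c)) hc.pos mc z
    (np_mem_core hts.npc) hzQ hts.npc.2.2.1 (by rw [← hzc]; exact pow_orderOf_eq_one z))

example : BadSocleStmt.{0} := badSocle

end Cfsg.Agent.Lib.H18.S3814C2BadSocle
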