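import Cfsg.Agent.Lib.H22.S3901Defs
import Cfsg.Agent.Lib.H6.FrobActG

/-!
# S3901, piece (1) LL, the local lemma (helper18; proof = helper22 #10173, steps (1)-(7))

`ll : Cfsg.Agent.Lib.H22.S3901Defs.LLStmt.{u}`.
-/

set_option autoImplicit false

namespace Cfsg.Agent.Lib.H18.S3901LL

open Cfsg.Agent.Lib.H22.S3901Defs

universe u

/-- two distinct primes cannot both divide a prime power -/
theorem not_isPrimePow_of_two_primes {n s t : ℕ} (hs : s.Prime) (ht : t.Prime) (hst : s ≠ t)
    (hsn : s ∣ n) (htn : t ∣ n) : ¬ IsPrimePow n := by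
  intro h
  obtain ⟨P, k, hP, -, rfl⟩ := (isPrimePow_nat_iff n).1 h
  have h1 : s = P := (Nat.prime_dvd_prime_iff_eq hs hP).1 (hs.dvd_of_dvd_pow hsn)
  have h2 : t = P := (Nat.prime_dvd_prime_iff_eq ht hP).1 (ht.dvd_of_dvd_pow htn)
  exact hst (h1.trans h2.symm)

/-- a commuting product of elements of coprime orders, divisible by two primes, is not of prime-power order -/
theorem bad {T : Type*} [Group T] {x c : T} (hcomm : Commute x c)
    (hcop : (orderOf x).Coprime (orderOf c)) {s t : ℕ} (hs : s.Prime) (ht : t.Prime) (hst : s ≠ t)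
    (hsx : s ∣ orderOf x) (htc : t ∣ orderOf c) : ¬ IsPrimePow (orderOf (x * c)) := by
  rw [hcomm.orderOf_mul_eq_mul_orderOf_of_coprime hcop]
  exact not_isPrimePow_of_two_primes hs ht hst (hsx.trans (dvd_mul_right _ _))
    (htc.trans (dvd_mul_left _ _))

/-- if `y ∉ L` commutes with `k` of coprime order then `y * k ∉ L` -/
theorem mul_not_mem {T : Type*} [Group T] (L : Subgroup T) {y k : T} (hcomm : Commute y k)
    (hy : y ∉ L) (hcop : (orderOf y).Coprime (orderOf k)) : y * k ∉ L := by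
  intro h
  apply hy
  have h1 : (y * k) ^ orderOf k ∈ L := pow_mem h _
  rw [hcomm.mul_pow, pow_orderOf_eq_one, mul_one] at h1
  obtain ⟨m, hm⟩ := exists_pow_eq_self_of_coprime (x := y) (n := orderOf k) hcop.symm
  rw [← hm]
  exact pow_mem h1 m

/-- an element of prime-power order `s ^ n` permuting a finite set of size prime to `s` by conjugation
has a fixed point -/
theorem exists_fixed {T : Type*} [Group T] (S : Set T) [Finite S] (c : T) {s n : ℕ} (hs : s.Prime)
    (hc : c ^ (s ^ n) = 1) (hstab : ∀ x ∈ S, c * x * c⁻¹ ∈ S) (hcard : ¬ s ∣ Nat.card S) :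
    ∃ x ∈ S, c * x * c⁻¹ = x := by
  classical
  haveI : Fact s.Prime := ⟨hs⟩
  haveI := Fintype.ofFinite S
  let f : Function.End S := fun x => ⟨c * x * c⁻¹, hstab x x.2⟩
  have key : ∀ (k : ℕ) (x : S), (((f ^ k) x : S) : T) = c ^ k * x * (c ^ k)⁻¹ := by
    intro k
    induction k with
    | zero =>
      intro x
      rw [pow_zero, pow_zero, inv_one, one_mul, mul_one]
      rfl
    | succ k ih =>
      intro x
      rw [pow_succ']
      show c * ((f ^ k) x : S) * c⁻¹ = _
      rw [ih x, pow_succ']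
      group
  have hf : f ^ (s ^ n) = 1 := by
    funext x
    apply Subtype.ext
    rw [key, hc, inv_one, one_mul, mul_one]
    rfl
  have hmod := Equiv.Perm.card_fixedPoints_modEq (f := f) (p := s) (n := n) hf
  by_contra hno
  push_neg at hno
  haveI : IsEmpty (Function.fixedPoints f) :=
    ⟨fun x => hno x.1 x.1.2 (congrArg Subtype.val x.2)⟩
  rw [Fintype.card_eq_zero (α := Function.fixedPoints f)] at hmod
  apply hcard
  rw [Nat.card_eq_fintype_card]
  exact (Nat.modEq_zero_iff_dvd).1 hmod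

theorem ll : LLStmt.{u} := by
  intro T _ _ L M V hLn hMn hVn p q r hp hq hr hpq hpr hqr hLM hidx hML hne hpp hVL hV1 hVab hVr
  classical
  haveI : Fact p.Prime := ⟨hp⟩
  haveI : Fact q.Prime := ⟨hq⟩
  obtain ⟨m, hmM, hmL⟩ := hne
  -- `m` is a `p`-element
  have hmp : ∃ j : ℕ, orderOf m = p ^ j := by
    obtain ⟨s0, j, hs0, hj, hsj⟩ := (isPrimePow_nat_iff _).1 (hpp m hmL)
    by_cases hsp : s0 = p
    · exact ⟨j, by rw [← hsj, hsp]⟩
    · exfalso
      obtain ⟨k, hk⟩ := hML m hmM
      have hcop : (p ^ k).Coprime (orderOf m) := by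
        rw [← hsj]
        exact Nat.Coprime.pow _ _ ((Nat.coprime_primes hp hs0).2 (Ne.symm hsp))
      obtain ⟨e, he⟩ := exists_pow_eq_self_of_coprime hcop
      apply hmL
      rw [← he]
      exact pow_mem hk e
  obtain ⟨j, hj⟩ := hmp
  -- a Sylow `p`-subgroup of `M` through `m`
  have hzp : IsPGroup p (Subgroup.zpowers (⟨m, hmM⟩ : M)) := by
    intro g
    obtain ⟨i, hi⟩ := Subgroup.mem_zpowers_iff.1 g.2
    refine ⟨j, ?_⟩
    apply Subtype.ext
    apply Subtype.ext
    have h1 : m ^ (p ^ j) = 1 := by rw [← hj]; exact pow_orderOf_eq_one m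
    have h2 : ((g : M) : T) = m ^ i := by
      rw [← hi]; simp
    simp only [Subgroup.coe_pow, Subgroup.coe_one]
    rw [h2, ← zpow_natCast, ← zpow_mul, mul_comm, zpow_mul, zpow_natCast, h1, one_zpow]
  obtain ⟨P, hP⟩ := hzp.exists_le_sylow
  have hPp : IsPGroup p (((P : Subgroup M).map M.subtype : Subgroup T)) := P.2.map M.subtype
  have hx0P : m ∈ ((P : Subgroup M).map M.subtype : Subgroup T) :=
    ⟨⟨m, hmM⟩, hP (Subgroup.mem_zpowers _), rfl⟩
  have hPM : ((P : Subgroup M).map M.subtype : Subgroup T) ≤ M := Subgroup.map_subtype_le _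
  -- Frattini and Cauchy
  have hfr : Subgroup.normalizer ((((P : Subgroup M).map M.subtype : Subgroup T)) : Set T) ⊔ M = ⊤ :=
    Sylow.normalizer_sup_eq_top P
  have hqN : q ∣ Nat.card (Subgroup.normalizer
      ((((P : Subgroup M).map M.subtype : Subgroup T)) : Set T)) := by
    have h1 : M.index = M.relIndex (Subgroup.normalizer
        ((((P : Subgroup M).map M.subtype : Subgroup T)) : Set T)) := by
      rw [← Subgroup.relIndex_top_right, ← hfr, Subgroup.relIndex_sup_right]
    rw [← hidx, h1]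
    exact Subgroup.relIndex_dvd_card _ _
  obtain ⟨y', hy'⟩ := exists_prime_orderOf_dvd_card' q hqN
  have hyo : orderOf (y' : T) = q := by rw [← hy']; exact Subgroup.orderOf_coe y'
  have hyN := y'.2
  generalize (y' : T) = y at hyo hyN
  have hnK : ∀ k ∈ ((P : Subgroup M).map M.subtype : Subgroup T),
      y * k * y⁻¹ ∈ ((P : Subgroup M).map M.subtype : Subgroup T) := fun k hk =>
    (Subgroup.mem_normalizer_iff.1 hyN k).1 hk
  -- orders of elements of `P`
  have hPord : ∀ k ∈ ((P : Subgroup M).map M.subtype : Subgroup T), ∃ i : ℕ, orderOf k = p ^ i := by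
    intro k hk
    obtain ⟨i, hi⟩ := hPp ⟨k, hk⟩
    have h1 : k ^ (p ^ i) = 1 := by simpa using congrArg Subtype.val hi
    obtain ⟨i', -, hi'⟩ := (Nat.dvd_prime_pow hp).1 (orderOf_dvd_of_pow_eq_one h1)
    exact ⟨i', hi'⟩
  have hp_dvd : ∀ k ∈ ((P : Subgroup M).map M.subtype : Subgroup T), k ≠ 1 → p ∣ orderOf k := by
    intro k hk hk1
    obtain ⟨i, hi⟩ := hPord k hk
    rw [hi]
    apply dvd_pow_self
    rintro rfl
    rw [pow_zero, orderOf_eq_one_iff] at hi
    exact hk1 hi
  have hcop_pq : ∀ k ∈ ((P : Subgroup M).map M.subtype : Subgroup T),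
      (orderOf y).Coprime (orderOf k) := by
    intro k hk
    obtain ⟨i, hi⟩ := hPord k hk
    rw [hi, hyo]
    exact Nat.Coprime.pow_right _ ((Nat.coprime_primes hq hp).2 (Ne.symm hpq))
  -- (2) `y ∉ L`
  have hyL : y ∉ L := by
    intro hyL
    -- the coset `m (P ∩ L)`
    have hstab : ∀ x ∈ {x : T | x ∈ ((P : Subgroup M).map M.subtype : Subgroup T) ∧ m⁻¹ * x ∈ L},
        y * x * y⁻¹ ∈ {x : T | x ∈ ((P : Subgroup M).map M.subtype : Subgroup T) ∧ m⁻¹ * x ∈ L} := by
      rintro x ⟨hxP, hxL⟩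
      refine ⟨hnK x hxP, ?_⟩
      have h1 : m⁻¹ * (y * x * y⁻¹) = (m⁻¹ * x) * (x⁻¹ * y * x * y⁻¹) := by group
      rw [h1]
      refine mul_mem hxL ?_
      have h2 : x⁻¹ * y * x * y⁻¹ = (x⁻¹ * y * x⁻¹⁻¹) * y⁻¹ := by group
      rw [h2]
      exact mul_mem (hLn.conj_mem y hyL x⁻¹) (inv_mem hyL)
    have hcard : ¬ q ∣ Nat.card
        {x : T | x ∈ ((P : Subgroup M).map M.subtype : Subgroup T) ∧ m⁻¹ * x ∈ L} := by
      have hequiv : Nat.card
          {x : T | x ∈ ((P : Subgroup M).map M.subtype : Subgroup T) ∧ m⁻¹ * x ∈ L} =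
          Nat.card ((((P : Subgroup M).map M.subtype : Subgroup T)) ⊓ L : Subgroup T) := by
        apply Nat.card_congr
        refine ⟨fun x => ⟨m⁻¹ * x.1, Subgroup.mem_inf.2 ⟨mul_mem (inv_mem hx0P) x.2.1, x.2.2⟩⟩,
          fun z => ⟨m * z.1, mul_mem hx0P (Subgroup.mem_inf.1 z.2).1, by
            show m⁻¹ * (m * z.1) ∈ L
            rw [inv_mul_cancel_left]
            exact (Subgroup.mem_inf.1 z.2).2⟩, ?_, ?_⟩
        · intro x
          apply Subtype.ext
          simp
        · intro z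
          apply Subtype.ext
          simp
      rw [hequiv]
      obtain ⟨e, he⟩ := (hPp.to_le (inf_le_left (b := L))).exists_card_eq
      rw [he]
      intro hd
      exact hpq ((Nat.prime_dvd_prime_iff_eq hq hp).1 (hq.dvd_of_dvd_pow hd)).symm
    obtain ⟨x, ⟨hxP, hxL⟩, hfix⟩ := exists_fixed _ y (n := 1) hq
      (by rw [pow_one, ← hyo]; exact pow_orderOf_eq_one y) hstab hcard
    have hxnL : x ∉ L := by
      intro h
      apply hmL
      have : m = x * (m⁻¹ * x)⁻¹ := by group
      rw [this]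
      exact mul_mem h (inv_mem hxL)
    have hx1 : x ≠ 1 := by
      rintro rfl
      exact hxnL (one_mem L)
    have hcomm : Commute x y := by
      have : y * x = x * y := by
        calc y * x = (y * x * y⁻¹) * y := by group
          _ = x * y := by rw [hfix]
      exact this.symm
    have hxy : x * y ∉ L := fun h => hxnL (by
      have : x = (x * y) * y⁻¹ := by group
      rw [this]
      exact mul_mem h (inv_mem hyL))
    exact bad hcomm (hcop_pq x hxP).symm hp hq hpq (hp_dvd x hxP hx1) (by rw [hyo]) (hpp _ hxy)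
  -- (4) `C_P(y) = 1`
  have hfpf : ∀ k ∈ ((P : Subgroup M).map M.subtype : Subgroup T), y * k * y⁻¹ = k → k = 1 := by
    intro k hk hfix
    by_contra hk1
    have hcomm : Commute y k := by
      have : y * k = k * y := by
        calc y * k = (y * k * y⁻¹) * y := by group
          _ = k * y := by rw [hfix]
      exact this
    have hyk : y * k ∉ L := mul_not_mem L hcomm hyL (hcop_pq k hk)
    exact bad hcomm (hcop_pq k hk) hq hp (Ne.symm hpq) (by rw [hyo]) (hp_dvd k hk hk1) (hpp _ hyk)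
  -- orders of elements of `V`
  have hVord : ∀ v ∈ V, ∃ i : ℕ, orderOf v = r ^ i := by
    intro v hv
    obtain ⟨i, hi⟩ := hVr v hv
    obtain ⟨i', -, hi'⟩ := (Nat.dvd_prime_pow hr).1 (orderOf_dvd_of_pow_eq_one hi)
    exact ⟨i', hi'⟩
  have hr_dvd : ∀ v ∈ V, v ≠ 1 → r ∣ orderOf v := by
    intro v hv hv1
    obtain ⟨i, hi⟩ := hVord v hv
    rw [hi]
    apply dvd_pow_self
    rintro rfl
    rw [pow_zero, orderOf_eq_one_iff] at hi
    exact hv1 hi
  -- (5) `C_V(y) = 1`
  have hfix : ∀ v ∈ V, y * v * y⁻¹ = v → v = 1 := by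
    intro v hv hfix
    by_contra hv1
    have hcomm : Commute y v := by
      have : y * v = v * y := by
        calc y * v = (y * v * y⁻¹) * y := by group
          _ = v * y := by rw [hfix]
      exact this
    have hcop : (orderOf y).Coprime (orderOf v) := by
      obtain ⟨i, hi⟩ := hVord v hv
      rw [hi, hyo]
      exact Nat.Coprime.pow_right _ ((Nat.coprime_primes hq hr).2 hqr)
    have hyv : y * v ∉ L := fun h => hyL (by
      have : y = (y * v) * v⁻¹ := by group
      rw [this]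
      exact mul_mem h (inv_mem (hVL hv)))
    exact bad hcomm hcop hq hr hqr (by rw [hyo]) (hr_dvd v hv hv1) (hpp _ hyv)
  -- (6) T1
  have hcent := Cfsg.Agent.Lib.H6.FrobActG.t1_group
    (((P : Subgroup M).map M.subtype : Subgroup T)) V y hq hyo hnK
    (fun v hv => hVn.conj_mem v hv y) (fun k _ v hv => hVn.conj_mem v hv k) hVab hfpf
    (fun v hv hvc => by
      obtain ⟨i, hi⟩ := hVord v hv
      obtain ⟨e, he⟩ := hPp.exists_card_eq
      rw [he] at hvc
      have h1 : orderOf v ∣ Nat.gcd (p ^ e) (r ^ i) :=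
        Nat.dvd_gcd (orderOf_dvd_of_pow_eq_one hvc) (by rw [hi])
      have h2 : Nat.gcd (p ^ e) (r ^ i) = 1 :=
        Nat.Coprime.pow _ _ ((Nat.coprime_primes hp hr).2 hpr)
      rw [h2] at h1
      exact orderOf_eq_one_iff.1 (Nat.dvd_one.1 h1))
    hfix
  -- (7)
  obtain ⟨v, hv, hv1⟩ : ∃ v ∈ V, v ≠ 1 := by
    by_contra hcon
    push_neg at hcon
    apply hV1
    rw [eq_bot_iff]
    intro v hv
    rw [Subgroup.mem_bot]
    exact hcon v hv
  have hm1 : m ≠ 1 := by
    rintro rfl
    exact hmL (one_mem L)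
  have hcomm : Commute m v := by
    have h1 := hcent m hx0P v hv
    have : m * v = v * m := by
      calc m * v = (m * v * m⁻¹) * m := by group
        _ = v * m := by rw [h1]
    exact this
  have hcop : (orderOf m).Coprime (orderOf v) := by
    obtain ⟨i, hi⟩ := hVord v hv
    rw [hi, hj]
    exact Nat.Coprime.pow _ _ ((Nat.coprime_primes hp hr).2 hpr)
  have hmv : m * v ∉ L := fun h => hmL (by
    have : m = (m * v) * v⁻¹ := by group
    rw [this]
    exact mul_mem h (inv_mem (hVL hv)))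
  exact bad hcomm hcop hp hr hpr (hp_dvd m hx0P hm1) (hr_dvd v hv hv1) (hpp _ hmv)

example : LLStmt.{0} := ll

end Cfsg.Agent.Lib.H18.S3901LL
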