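import Cfsg.Agent.Lib.H22.S3901Defs
import Cfsg.Agent.S0071

/-!
# S3901, piece (3) STEPB (helper18)

`stepB : Cfsg.Agent.Lib.H22.S3901Defs.StepBStmt.{u}`: a finite group whose order is not a prime power (nor `1`)
has a nontrivial `p`-subgroup normalised by an element of prime order `q ≠ p`.

Proof (helper22 #10173): `p ∣ |X|`, `P` a Sylow `p`-subgroup.  If the condition of the Frobenius normal
`p`-complement theorem (landed S0071) fails, some `g` of order prime to `p` normalises and does not centralise some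
`Q ≤ P`; then `Q ≠ 1`, `g ≠ 1`, and a power of `g` of prime order `q ≠ p` normalises `Q`.  Otherwise `P` has a normal
complement `C ≠ 1`; for a prime `q ∣ |C|` and a Sylow `q`-subgroup `Q` of `C`, Frattini gives `X = N_X(Q) C`, so
`p ∣ |N_X(Q)|` and Cauchy gives an element of order `p` normalising the `q`-group `Q ≠ 1`.
-/

set_option autoImplicit false

namespace Cfsg.Agent.Lib.H18.S3901StepB

open Cfsg.Agent.Lib.H22.S3901Defs

universe u

theorem stepB : StepBStmt.{u} := by
  intro X _ _ hX
  classical
  have h1 : Nat.card X ≠ 1 := by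
    intro h
    exact hX ⟨2, 0, Nat.prime_two, by rw [h, pow_zero]⟩
  obtain ⟨p, hp, hpd⟩ := Nat.exists_prime_and_dvd h1
  haveI : Fact p.Prime := ⟨hp⟩
  obtain ⟨P⟩ : Nonempty (Sylow p X) := inferInstance
  by_cases hF : ∀ Q : Subgroup X, Q ≤ (P : Subgroup X) →
      ∀ g ∈ Subgroup.normalizer (Q : Set X), Nat.Coprime (orderOf g) p →
        g ∈ Subgroup.centralizer (Q : Set X)
  · -- a normal `p`-complement
    obtain ⟨C, hCn, hCc⟩ := (Cfsg.Agent.S0071.result P).2 hF
    have hcard : Nat.card C * Nat.card (P : Subgroup X) = Nat.card X := hCc.card_mul_card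
    obtain ⟨k, hk⟩ := P.2.exists_card_eq
    have hC1 : Nat.card C ≠ 1 := by
      intro h
      apply hX
      refine ⟨p, k, hp, ?_⟩
      rw [← hcard, h, one_mul]
      exact hk
    obtain ⟨q, hq, hqd⟩ := Nat.exists_prime_and_dvd hC1
    haveI : Fact q.Prime := ⟨hq⟩
    have hpC : ¬ p ∣ Nat.card C := by
      rw [← hCc.index_eq_card]
      exact P.not_dvd_index
    have hqp : q ≠ p := by
      rintro rfl
      exact hpC hqd
    obtain ⟨Q⟩ : Nonempty (Sylow q C) := inferInstance
    have hfr : Subgroup.normalizer ((((Q : Subgroup C).map C.subtype : Subgroup X)) : Set X) ⊔ C = ⊤ :=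
      Sylow.normalizer_sup_eq_top Q
    have hpN : p ∣ Nat.card (Subgroup.normalizer
        ((((Q : Subgroup C).map C.subtype : Subgroup X)) : Set X)) := by
      have hidx : C.index = C.relIndex (Subgroup.normalizer
          ((((Q : Subgroup C).map C.subtype : Subgroup X)) : Set X)) := by
        rw [← Subgroup.relIndex_top_right, ← hfr, Subgroup.relIndex_sup_right]
      have hdvd : Nat.card X ∣ Nat.card C * Nat.card (Subgroup.normalizer
          ((((Q : Subgroup C).map C.subtype : Subgroup X)) : Set X)) := by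
        rw [← Subgroup.card_mul_index C, hidx]
        exact Nat.mul_dvd_mul_left _ (Subgroup.relIndex_dvd_card _ _)
      exact (Nat.Coprime.dvd_of_dvd_mul_left ((Nat.Prime.coprime_iff_not_dvd hp).2 hpC)
        (hpd.trans hdvd))
    obtain ⟨y, hy⟩ := exists_prime_orderOf_dvd_card' p hpN
    refine ⟨q, p, hq, hp, hqp, (Q : Subgroup C).map C.subtype, Q.2.map C.subtype, ?_, (y : X), y.2, ?_⟩
    · -- `Q ≠ 1`
      intro hbot
      have hQbot : (Q : Subgroup C) = ⊥ := by
        rw [eq_bot_iff]
        intro x hx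
        have : (C.subtype x) ∈ ((Q : Subgroup C).map C.subtype : Subgroup X) :=
          Subgroup.mem_map_of_mem _ hx
        rw [hbot, Subgroup.mem_bot] at this
        rw [Subgroup.mem_bot]
        exact Subtype.ext this
      have hQ1 : Nat.card (Q : Subgroup C) = 1 := by
        rw [hQbot]; exact Subgroup.card_bot
      have hdq : q ∣ Nat.card (Q : Subgroup C) := Sylow.dvd_card_of_dvd_card Q hqd
      rw [hQ1] at hdq
      exact hq.one_lt.ne' (Nat.dvd_one.1 hdq)
    · rw [← hy]
      exact Subgroup.orderOf_coe y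
  · -- the Frobenius condition fails
    push_neg at hF
    obtain ⟨Q, hQP, g, hgN, hgp, hgC⟩ := hF
    have hQ1 : Q ≠ ⊥ := by
      rintro rfl
      apply hgC
      rw [Subgroup.mem_centralizer_iff]
      intro h hh
      have : h = 1 := by simpa using hh
      rw [this, one_mul, mul_one]
    have hg1 : orderOf g ≠ 1 := by
      intro h
      rw [orderOf_eq_one_iff] at h
      apply hgC
      rw [h]
      exact one_mem _
    obtain ⟨q, hq, hqd⟩ := Nat.exists_prime_and_dvd hg1
    have hqp : p ≠ q := by
      rintro rfl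
      have h2 : p ∣ Nat.gcd (orderOf g) p := Nat.dvd_gcd hqd dvd_rfl
      rw [hgp] at h2
      exact hp.one_lt.ne' (Nat.dvd_one.1 h2)
    refine ⟨p, q, hp, hq, hqp, Q, P.2.to_le hQP, hQ1, g ^ (orderOf g / q), pow_mem hgN _, ?_⟩
    have hpos : 0 < orderOf g := orderOf_pos g
    rw [orderOf_pow_of_dvd (Nat.div_pos (Nat.le_of_dvd hpos hqd) hq.pos).ne' (Nat.div_dvd_of_dvd hqd),
      Nat.div_div_self hqd hpos.ne']

example : StepBStmt.{0} := stepB

end Cfsg.Agent.Lib.H18.S3901StepB
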