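import Mathlib

/-!
# S4415, pure core of (B5) (helper18)

`X` a group with a central element `z`, all conjugates `y x y⁻¹ ∈ {x, x z}`, and every
`x ∉ {1, z}` really moved by some `y`.  In a representation `ρ` on `W ≠ 0` over a field of
characteristic `≠ 2` with `ρ z = -1`, elements of `X` pairwise distinct modulo `z` are linearly
independent in `End W`; hence `|X| ≤ 2 (dim W)²`.
-/

set_option autoImplicit false

namespace Cfsg.Agent.Lib.H18.S4415LI

variable {k : Type*} [Field k] {W : Type*} [AddCommGroup W] [Module k W]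
  {X : Type*} [Group X]

/-- the shortest-relation argument, indexed form -/
theorem coeff_zero [Nontrivial W] (ρ : X →* Module.End k W) (z : X) (hρz : ρ z = -1)
    (h2 : (2 : k) ≠ 0) (hzc : ∀ y : X, y * z = z * y)
    (hcomm : ∀ x y : X, y * x * y⁻¹ = x ∨ y * x * y⁻¹ = x * z)
    (hsw : ∀ x : X, x ≠ 1 → x ≠ z → ∃ y : X, y * x * y⁻¹ = x * z)
    {ι : Type*} (f : ι → X) (hf : ∀ i j : ι, i ≠ j → f j ≠ f i ∧ f j ≠ f i * z) :
    ∀ (n : ℕ) (s : Finset ι) (a : ι → k), s.card = n →
      ∑ i ∈ s, a i • ρ (f i) = 0 → ∀ i ∈ s, a i = 0 := by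
  classical
  have hz1 : z ≠ 1 := by
    intro h
    rw [h, map_one] at hρz
    obtain ⟨w, hw⟩ := exists_ne (0 : W)
    have h3 : (1 : Module.End k W) w = (-1 : Module.End k W) w := by rw [← hρz]
    rw [Module.End.one_apply, LinearMap.neg_apply, Module.End.one_apply] at h3
    have h4 : (2 : k) • w = 0 := by
      rw [two_smul]
      nth_rewrite 1 [h3]
      exact neg_add_cancel w
    rcases smul_eq_zero.1 h4 with h5 | h5
    · exact h2 h5
    · exact hw h5
  have hne : ∀ u : X, u * z ≠ u := by
    intro u h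
    apply hz1
    calc z = u⁻¹ * (u * z) := by group
      _ = 1 := by rw [h]; group
  have hone : (1 : Module.End k W) ≠ 0 := by
    intro h
    obtain ⟨w, hw⟩ := exists_ne (0 : W)
    apply hw
    have : (1 : Module.End k W) w = (0 : Module.End k W) w := by rw [h]
    simpa using this
  intro n
  induction n using Nat.strong_induction_on with
  | _ n ih =>
    intro s a hcard hrel
    by_contra hcon
    push Not at hcon
    obtain ⟨i₀, hi₀, ha₀⟩ := hcon
    by_cases hother : ∃ i₁ ∈ s, i₁ ≠ i₀ ∧ a i₁ ≠ 0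
    · obtain ⟨i₁, hi₁, hne10, ha₁⟩ := hother
      obtain ⟨hfa, hfb⟩ := hf i₀ i₁ (Ne.symm hne10)
      have hu1 : (f i₀)⁻¹ * f i₁ ≠ 1 := by
        intro h
        apply hfa
        calc f i₁ = f i₀ * ((f i₀)⁻¹ * f i₁) := by group
          _ = f i₀ := by rw [h, mul_one]
      have huz : (f i₀)⁻¹ * f i₁ ≠ z := by
        intro h
        apply hfb
        calc f i₁ = f i₀ * ((f i₀)⁻¹ * f i₁) := by group
          _ = f i₀ * z := by rw [h]
      obtain ⟨y, hy⟩ := hsw _ hu1 huz
      -- the signs
      let ε : ι → k := fun i => if y * f i * y⁻¹ = f i then 1 else -1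
      have hε : ∀ i, ρ y * ρ (f i) * ρ y⁻¹ = ε i • ρ (f i) := by
        intro i
        rw [← map_mul, ← map_mul]
        rcases hcomm (f i) y with h | h
        · have : ε i = 1 := if_pos h
          rw [this, one_smul, h]
        · have hn : ¬ y * f i * y⁻¹ = f i := fun h' => hne _ (h.symm.trans h')
          have : ε i = -1 := if_neg hn
          rw [this, h, map_mul, hρz, mul_neg, mul_one, neg_smul, one_smul]
      have hεsq : ∀ i, ε i = 1 ∨ ε i = -1 := by
        intro i
        by_cases h : y * f i * y⁻¹ = f i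
        · left; exact if_pos h
        · right; exact if_neg h
      -- `ε i₀ * ε i₁ = -1`
      have hε01 : ε i₀ * ε i₁ = -1 := by
        have hprod : y * ((f i₀)⁻¹ * f i₁) * y⁻¹ =
            (y * f i₀ * y⁻¹)⁻¹ * (y * f i₁ * y⁻¹) := by group
        rcases hcomm (f i₀) y with h0 | h0 <;> rcases hcomm (f i₁) y with h1 | h1
        · exfalso
          rw [hprod, h0, h1] at hy
          exact hne _ hy.symm
        · have e0 : ε i₀ = 1 := if_pos h0
          have e1 : ε i₁ = -1 := if_neg (fun h' => hne _ (h1.symm.trans h'))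
          rw [e0, e1]; ring
        · have e0 : ε i₀ = -1 := if_neg (fun h' => hne _ (h0.symm.trans h'))
          have e1 : ε i₁ = 1 := if_pos h1
          rw [e0, e1]; ring
        · exfalso
          rw [hprod, h0, h1] at hy
          have : (f i₀ * z)⁻¹ * (f i₁ * z) = (f i₀)⁻¹ * f i₁ := by
            calc (f i₀ * z)⁻¹ * (f i₁ * z) = z⁻¹ * ((f i₀)⁻¹ * f i₁) * z := by group
              _ = z⁻¹ * (z * ((f i₀)⁻¹ * f i₁)) := by
                  rw [mul_assoc, hzc ((f i₀)⁻¹ * f i₁)]
              _ = (f i₀)⁻¹ * f i₁ := by group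
          rw [this] at hy
          exact hne _ hy.symm
      -- the conjugated relation
      have hrel2 : ∑ i ∈ s, a i • (ε i • ρ (f i)) = 0 := by
        have h1 : ρ y * (∑ i ∈ s, a i • ρ (f i)) * ρ y⁻¹ = 0 := by rw [hrel]; simp
        rw [Finset.mul_sum, Finset.sum_mul] at h1
        rw [← h1]
        refine Finset.sum_congr rfl (fun i _ => ?_)
        rw [← hε i, mul_smul_comm, smul_mul_assoc]
      -- the new relation
      have hrel3 : ∑ i ∈ s.erase i₀, (a i * (1 - ε i₀ * ε i)) • ρ (f i) = 0 := by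
        have h1 : ∑ i ∈ s, (a i * (1 - ε i₀ * ε i)) • ρ (f i) = 0 := by
          have h2 : ∀ i ∈ s, (a i * (1 - ε i₀ * ε i)) • ρ (f i) =
              a i • ρ (f i) - ε i₀ • (a i • (ε i • ρ (f i))) := by
            intro i _
            rw [smul_smul, smul_smul, ← sub_smul]
            congr 1
            ring
          rw [Finset.sum_congr rfl h2, Finset.sum_sub_distrib, ← Finset.smul_sum, hrel, hrel2,
            smul_zero, sub_zero]
        rw [← Finset.add_sum_erase s _ hi₀] at h1
        have h0 : a i₀ * (1 - ε i₀ * ε i₀) = 0 := by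
          rcases hεsq i₀ with h | h <;> rw [h] <;> ring
        rw [h0, zero_smul, zero_add] at h1
        exact h1
      have hcard' : (s.erase i₀).card < n := by
        rw [Finset.card_erase_of_mem hi₀, hcard]
        have : 0 < s.card := Finset.card_pos.2 ⟨i₀, hi₀⟩
        omega
      have h4 := ih _ hcard' (s.erase i₀) _ rfl hrel3 i₁ (Finset.mem_erase.2 ⟨hne10, hi₁⟩)
      rw [hε01] at h4
      have h5 : a i₁ * 2 = 0 := by
        rw [← h4]; ring
      rcases mul_eq_zero.1 h5 with h6 | h6
      · exact ha₁ h6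
      · exact h2 h6
    · push Not at hother
      have h1 : ∑ i ∈ s, a i • ρ (f i) = a i₀ • ρ (f i₀) := by
        apply Finset.sum_eq_single_of_mem i₀ hi₀
        intro i hi hne'
        rw [hother i hi hne', zero_smul]
      rw [h1] at hrel
      have h3 : (a i₀ • ρ (f i₀)) * ρ (f i₀)⁻¹ = 0 := by rw [hrel, zero_mul]
      rw [smul_mul_assoc, ← map_mul, mul_inv_cancel, map_one] at h3
      rcases smul_eq_zero.1 h3 with h4 | h4
      · exact ha₀ h4
      · exact hone h4

/-- linear independence of elements pairwise distinct modulo `z` -/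
theorem linearIndependent_rep [Nontrivial W] (ρ : X →* Module.End k W) (z : X) (hρz : ρ z = -1)
    (h2 : (2 : k) ≠ 0) (hzc : ∀ y : X, y * z = z * y)
    (hcomm : ∀ x y : X, y * x * y⁻¹ = x ∨ y * x * y⁻¹ = x * z)
    (hsw : ∀ x : X, x ≠ 1 → x ≠ z → ∃ y : X, y * x * y⁻¹ = x * z)
    {ι : Type*} (f : ι → X) (hf : ∀ i j : ι, i ≠ j → f j ≠ f i ∧ f j ≠ f i * z) :
    LinearIndependent k (fun i => ρ (f i)) := by
  rw [linearIndependent_iff']
  intro s a hrel i hi
  exact coeff_zero ρ z hρz h2 hzc hcomm hsw f hf s.card s a rfl hrel i hi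

/-- `|X| ≤ 2 (dim W)²` -/
theorem card_le [Nontrivial W] [Module.Finite k W] [Finite X] (ρ : X →* Module.End k W) (z : X)
    (hρz : ρ z = -1) (h2 : (2 : k) ≠ 0) (hzz : z * z = 1) (hzc : ∀ y : X, y * z = z * y)
    (hcomm : ∀ x y : X, y * x * y⁻¹ = x ∨ y * x * y⁻¹ = x * z)
    (hsw : ∀ x : X, x ≠ 1 → x ≠ z → ∃ y : X, y * x * y⁻¹ = x * z) :
    Nat.card X ≤ 2 * (Module.finrank k W) ^ 2 := by
  classical
  have hz1 : z ≠ 1 := by
    intro h
    rw [h, map_one] at hρz
    obtain ⟨w, hw⟩ := exists_ne (0 : W)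
    have h3 : (1 : Module.End k W) w = (-1 : Module.End k W) w := by rw [← hρz]
    rw [Module.End.one_apply, LinearMap.neg_apply, Module.End.one_apply] at h3
    have h4 : (2 : k) • w = 0 := by
      rw [two_smul]
      nth_rewrite 1 [h3]
      exact neg_add_cancel w
    rcases smul_eq_zero.1 h4 with h5 | h5
    · exact h2 h5
    · exact hw h5
  let N : Subgroup X := Subgroup.zpowers z
  have hN : Nat.card N = 2 := by
    rw [Nat.card_zpowers]
    exact orderOf_eq_prime (by rw [pow_two]; exact hzz) hz1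
  have hmemN : ∀ x : X, x ∈ N → x = 1 ∨ x = z := by
    intro x hx
    obtain ⟨m, rfl⟩ := Subgroup.mem_zpowers_iff.1 hx
    rcases Int.even_or_odd m with ⟨j, hj⟩ | ⟨j, hj⟩
    · left
      rw [hj, ← two_mul, zpow_mul, zpow_two, hzz, one_zpow]
    · right
      rw [hj, zpow_add, zpow_mul, zpow_two, hzz, one_zpow, one_mul, zpow_one]
  let f : X ⧸ N → X := fun q => Quotient.out q
  have hf : ∀ i j : X ⧸ N, i ≠ j → f j ≠ f i ∧ f j ≠ f i * z := by
    intro i j hij
    constructor
    · intro h
      apply hij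
      have h1 : (QuotientGroup.mk (f i) : X ⧸ N) = i := QuotientGroup.out_eq' i
      have h2' : (QuotientGroup.mk (f j) : X ⧸ N) = j := QuotientGroup.out_eq' j
      rw [← h1, ← h2', h]
    · intro h
      apply hij
      have h1 : (QuotientGroup.mk (f i) : X ⧸ N) = i := QuotientGroup.out_eq' i
      have h2' : (QuotientGroup.mk (f j) : X ⧸ N) = j := QuotientGroup.out_eq' j
      rw [← h1, ← h2', QuotientGroup.eq, h]
      have : (f i)⁻¹ * (f i * z) = z := by group
      rw [this]
      exact Subgroup.mem_zpowers z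
  have hli := linearIndependent_rep ρ z hρz h2 hzc hcomm hsw f hf
  haveI : Fintype (X ⧸ N) := Fintype.ofFinite _
  have h3 : Fintype.card (X ⧸ N) ≤ Module.finrank k (Module.End k W) :=
    hli.fintype_card_le_finrank
  have h4 : Nat.card X = Nat.card (X ⧸ N) * Nat.card N :=
    Subgroup.card_eq_card_quotient_mul_card_subgroup N
  rw [h4, hN, Nat.card_eq_fintype_card]
  have h5 : Module.finrank k (Module.End k W) = Module.finrank k W ^ 2 := by
    rw [pow_two]
    exact Module.finrank_linearMap k k W W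
  rw [h5] at h3
  omega

end Cfsg.Agent.Lib.H18.S4415LI
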