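import Mathlib

/-!
# S4415, pure cores of (B5) and (B7) (helper18)

`X` a finite group, `z` a central involution with `Z(X) = {1, z}` and all commutators in `{1, z}`
(an extraspecial `2`-group, but only these properties are used).

* `sgn`, `sgnHom`: the `±1`-valued hom of an endomorphism moving every element at most by `z`;
* `exists_sgn_conj_eq`: every `±1`-valued hom `χ` with `χ z = 1` is the sign hom of an inner
  automorphism (double counting, no quotient groups);
* `exists_inner` (B7): an endomorphism `σ` of `X` with `σ z = z`, `σ y ∈ {y, y z}` is inner.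
-/

set_option autoImplicit false

namespace Cfsg.Agent.Lib.H18.S4415XS

section signs

variable {X : Type*} [Group X]

/-- sum of a `±1`-valued hom which takes the value `-1` somewhere -/
theorem sum_eq_zero_of_neg [Fintype X] (ψ : X →* ℤ) (y₀ : X) (h : ψ y₀ = -1) :
    ∑ y : X, ψ y = 0 := by
  have h1 : ∑ y : X, ψ y = ∑ y : X, ψ (y₀ * y) :=
    (Fintype.sum_equiv (Equiv.mulLeft y₀) _ _ (fun y => rfl)).symm
  have h2 : ∑ y : X, ψ (y₀ * y) = - ∑ y : X, ψ y := by
    rw [← Finset.sum_neg_distrib]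
    refine Finset.sum_congr rfl (fun y _ => ?_)
    rw [map_mul, h]
    ring
  omega

/-- sum of the trivial hom -/
theorem sum_eq_card_of_one [Fintype X] (ψ : X →* ℤ) (h : ∀ y, ψ y = 1) :
    ∑ y : X, ψ y = Fintype.card X := by
  rw [Finset.sum_congr rfl (fun y _ => h y)]
  simp

/-- the sign of a map at `y`: `1` if `y` is fixed, `-1` otherwise -/
noncomputable def sgn (σ : X → X) (y : X) : ℤ := by
  classical exact if σ y = y then 1 else -1

omit [Group X] in
theorem sgn_sq (σ : X → X) (y : X) : sgn σ y = 1 ∨ sgn σ y = -1 := by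
  unfold sgn
  by_cases h : σ y = y
  · left; rw [if_pos h]
  · right; rw [if_neg h]

omit [Group X] in
theorem sgn_eq_one_iff (σ : X → X) (y : X) : sgn σ y = 1 ↔ σ y = y := by
  unfold sgn
  by_cases h : σ y = y
  · rw [if_pos h]; exact ⟨fun _ => h, fun _ => rfl⟩
  · rw [if_neg h]
    constructor
    · intro h'; norm_num at h'
    · intro h'; exact absurd h' h

variable {z : X}

theorem mul_z_ne (hz1 : z ≠ 1) (u : X) : u * z ≠ u := by
  intro h
  apply hz1
  calc z = u⁻¹ * (u * z) := by group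
    _ = 1 := by rw [h]; group

/-- the sign of an endomorphism moving every element at most by `z` is multiplicative -/
theorem sgn_mul (hz1 : z ≠ 1) (hzz : z * z = 1) (hzc : ∀ y : X, y * z = z * y)
    (σ : X →* X) (hσ : ∀ y, σ y = y ∨ σ y = y * z) (y y' : X) :
    sgn σ (y * y') = sgn σ y * sgn σ y' := by
  have hne := mul_z_ne hz1
  unfold sgn
  rcases hσ y with h1 | h1 <;> rcases hσ y' with h2 | h2
  · have h3 : σ (y * y') = y * y' := by rw [map_mul, h1, h2]
    rw [if_pos h3, if_pos h1, if_pos h2]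
    norm_num
  · have h3 : σ (y * y') = y * y' * z := by rw [map_mul, h1, h2]; group
    have h3' : ¬ σ (y * y') = y * y' := fun h => hne _ (h3.symm.trans h)
    have h2' : ¬ σ y' = y' := fun h => hne _ (h2.symm.trans h)
    rw [if_neg h3', if_pos h1, if_neg h2']
    norm_num
  · have h3 : σ (y * y') = y * y' * z := by
      rw [map_mul, h1, h2, mul_assoc, ← hzc y', ← mul_assoc]
    have h3' : ¬ σ (y * y') = y * y' := fun h => hne _ (h3.symm.trans h)
    have h1' : ¬ σ y = y := fun h => hne _ (h1.symm.trans h)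
    rw [if_neg h3', if_neg h1', if_pos h2]
    norm_num
  · have h3 : σ (y * y') = y * y' := by
      rw [map_mul, h1, h2]
      calc y * z * (y' * z) = y * (z * y') * z := by group
        _ = y * (y' * z) * z := by rw [hzc y']
        _ = y * y' * (z * z) := by group
        _ = y * y' := by rw [hzz, mul_one]
    have h1' : ¬ σ y = y := fun h => hne _ (h1.symm.trans h)
    have h2' : ¬ σ y' = y' := fun h => hne _ (h2.symm.trans h)
    rw [if_pos h3, if_neg h1', if_neg h2']
    norm_num

/-- the sign hom -/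
noncomputable def sgnHom (hz1 : z ≠ 1) (hzz : z * z = 1) (hzc : ∀ y : X, y * z = z * y)
    (σ : X →* X) (hσ : ∀ y, σ y = y ∨ σ y = y * z) : X →* ℤ where
  toFun := sgn σ
  map_one' := by
    unfold sgn
    rw [if_pos (map_one σ)]
  map_mul' := sgn_mul hz1 hzz hzc σ hσ

/-- conjugation by `a` as an endomorphism -/
def cj (a : X) : X →* X := (MulAut.conj a).toMonoidHom

theorem cj_apply (a y : X) : cj a y = a * y * a⁻¹ := rfl

theorem sgn_cj_comm (a y : X) : sgn (cj a) y = sgn (cj y) a := by
  have h : cj a y = y ↔ cj y a = a := by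
    rw [cj_apply, cj_apply]
    constructor
    · intro h
      have h1 : a * y = y * a := by
        calc a * y = a * y * a⁻¹ * a := by group
          _ = y * a := by rw [h]
      rw [← h1]; group
    · intro h
      have h1 : y * a = a * y := by
        calc y * a = y * a * y⁻¹ * y := by group
          _ = a * y := by rw [h]
      rw [← h1]; group
  unfold sgn
  by_cases h1 : cj a y = y
  · rw [if_pos h1, if_pos (h.1 h1)]
  · rw [if_neg h1, if_neg (fun h2 => h1 (h.2 h2))]

end signs

section inner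

variable {X : Type*} [Group X] [Fintype X] {z : X}

/-- (B7) core: every `±1`-valued hom `χ` with `χ z = 1` is the sign hom of a conjugation. -/
theorem exists_sgn_conj_eq (hz1 : z ≠ 1) (hzz : z * z = 1) (hzc : ∀ y : X, y * z = z * y)
    (hZ : ∀ x : X, (∀ y, x * y = y * x) → x = 1 ∨ x = z)
    (hcomm : ∀ a y : X, a * y * a⁻¹ = y ∨ a * y * a⁻¹ = y * z)
    (χ : X →* ℤ) (hχ : ∀ y, χ y = 1 ∨ χ y = -1) (hχz : χ z = 1) :
    ∃ a : X, ∀ y, χ y = sgn (cj a) y := by
  classical
  by_contra hno
  push Not at hno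
  have hrow : ∀ a : X, ∑ y : X, χ y * sgn (cj a) y = 0 := by
    intro a
    obtain ⟨y₀, hy₀⟩ := hno a
    have hv : χ y₀ * sgn (cj a) y₀ = -1 := by
      rcases hχ y₀ with h1 | h1 <;> rcases sgn_sq (cj a) y₀ with h2 | h2
      · exact absurd (h1.trans h2.symm) hy₀
      · rw [h1, h2]; norm_num
      · rw [h1, h2]; norm_num
      · exact absurd (h1.trans h2.symm) hy₀
    exact sum_eq_zero_of_neg (χ * sgnHom hz1 hzz hzc (cj a) (hcomm a)) y₀ hv
  have hS : ∑ a : X, ∑ y : X, χ y * sgn (cj a) y = 0 :=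
    Finset.sum_eq_zero (fun a _ => hrow a)
  rw [Finset.sum_comm] at hS
  have hcol : ∀ y : X, ∑ a : X, χ y * sgn (cj a) y =
      if (y = 1 ∨ y = z) then (Fintype.card X : ℤ) else 0 := by
    intro y
    rw [← Finset.mul_sum]
    have h1 : ∑ a : X, sgn (cj a) y = ∑ a : X, sgnHom hz1 hzz hzc (cj y) (hcomm y) a :=
      Finset.sum_congr rfl (fun a _ => sgn_cj_comm a y)
    rw [h1]
    by_cases hy : y = 1 ∨ y = z
    · rw [if_pos hy]
      have hcen : ∀ a : X, sgnHom hz1 hzz hzc (cj y) (hcomm y) a = 1 := by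
        intro a
        show sgn (cj y) a = 1
        rw [sgn_eq_one_iff, cj_apply]
        rcases hy with rfl | rfl
        · group
        · rw [← hzc a]; group
      rw [sum_eq_card_of_one _ hcen]
      rcases hy with rfl | rfl
      · rw [map_one, one_mul]
      · rw [hχz, one_mul]
    · rw [if_neg hy]
      have : ¬ ∀ a, y * a = a * y := fun h => hy (hZ y h)
      push Not at this
      obtain ⟨a₀, ha₀⟩ := this
      have hneg : sgnHom hz1 hzz hzc (cj y) (hcomm y) a₀ = -1 := by
        show sgn (cj y) a₀ = -1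
        rcases sgn_sq (cj y) a₀ with h | h
        · exfalso
          rw [sgn_eq_one_iff, cj_apply] at h
          apply ha₀
          calc y * a₀ = y * a₀ * y⁻¹ * y := by group
            _ = a₀ * y := by rw [h]
        · exact h
      rw [sum_eq_zero_of_neg _ a₀ hneg, mul_zero]
  rw [Finset.sum_congr rfl (fun y _ => hcol y)] at hS
  rw [Finset.sum_ite, Finset.sum_const_zero, add_zero, Finset.sum_const] at hS
  have hmem : (1 : X) ∈ Finset.filter (fun y : X => y = 1 ∨ y = z) Finset.univ := by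
    simp
  have hpos : 0 < (Finset.filter (fun y : X => y = 1 ∨ y = z) Finset.univ).card :=
    Finset.card_pos.2 ⟨1, hmem⟩
  have hX : 0 < (Fintype.card X : ℤ) := by exact_mod_cast Fintype.card_pos
  have : (0 : ℤ) < (Finset.filter (fun y : X => y = 1 ∨ y = z) Finset.univ).card •
      (Fintype.card X : ℤ) := by
    rw [nsmul_eq_mul]
    exact mul_pos (by exact_mod_cast hpos) hX
  omega

/-- (B7): an endomorphism of `X` fixing `z` and moving every element at most by `z` is inner. -/
theorem exists_inner (hz1 : z ≠ 1) (hzz : z * z = 1) (hzc : ∀ y : X, y * z = z * y)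
    (hZ : ∀ x : X, (∀ y, x * y = y * x) → x = 1 ∨ x = z)
    (hcomm : ∀ a y : X, a * y * a⁻¹ = y ∨ a * y * a⁻¹ = y * z)
    (σ : X →* X) (hσ : ∀ y, σ y = y ∨ σ y = y * z) (hσz : σ z = z) :
    ∃ a : X, ∀ y, σ y = a * y * a⁻¹ := by
  have hχz : sgnHom hz1 hzz hzc σ hσ z = 1 := by
    show sgn σ z = 1
    rw [sgn_eq_one_iff]
    exact hσz
  obtain ⟨a, ha⟩ := exists_sgn_conj_eq hz1 hzz hzc hZ hcomm (sgnHom hz1 hzz hzc σ hσ)
    (fun y => sgn_sq σ y) hχz
  refine ⟨a, fun y => ?_⟩
  have h := ha y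
  change sgn σ y = sgn (cj a) y at h
  rcases hσ y with h1 | h1
  · have h2 : sgn (cj a) y = 1 := by rw [← h, sgn_eq_one_iff]; exact h1
    rw [sgn_eq_one_iff, cj_apply] at h2
    rw [h1, h2]
  · have h2 : ¬ sgn (cj a) y = 1 := by
      rw [← h, sgn_eq_one_iff, h1]
      exact mul_z_ne hz1 y
    rw [sgn_eq_one_iff, cj_apply] at h2
    rcases hcomm a y with h3 | h3
    · exact absurd h3 h2
    · rw [h1, h3]

end inner

section subgroupForm

variable {T : Type*} [Group T]

/-- (B7), subgroup form: if `t` moves every element of the "extraspecial" subgroup `X` at most by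
`z`, then `t` induces an inner automorphism of `X`. -/
theorem exists_inner_subgroup (X : Subgroup T) [Finite X] (z : T) (hzX : z ∈ X)
    (hz1 : z ≠ 1) (hzz : z * z = 1) (hzc : ∀ y ∈ X, y * z = z * y)
    (hZ : ∀ x ∈ X, (∀ y ∈ X, x * y = y * x) → x = 1 ∨ x = z)
    (hcomm : ∀ a ∈ X, ∀ y ∈ X, a * y * a⁻¹ = y ∨ a * y * a⁻¹ = y * z)
    (t : T) (ht : ∀ y ∈ X, t * y * t⁻¹ = y ∨ t * y * t⁻¹ = y * z) :
    ∃ a ∈ X, ∀ y ∈ X, t * y * t⁻¹ = a * y * a⁻¹ := by
  classical
  haveI : Fintype X := Fintype.ofFinite X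
  have hmem : ∀ y ∈ X, t * y * t⁻¹ ∈ X := by
    intro y hy
    rcases ht y hy with h | h
    · rw [h]; exact hy
    · rw [h]; exact X.mul_mem hy hzX
  have htz : t * z * t⁻¹ = z := by
    rcases ht z hzX with h | h
    · exact h
    · exfalso
      rw [hzz] at h
      apply hz1
      calc z = t⁻¹ * (t * z * t⁻¹) * t := by group
        _ = 1 := by rw [h]; group
  let σ : X →* X :=
    { toFun := fun y => ⟨t * y * t⁻¹, hmem y y.2⟩
      map_one' := by
        apply Subtype.ext
        show t * ((1 : X) : T) * t⁻¹ = ((1 : X) : T)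
        simp
      map_mul' := by
        intro y y'
        apply Subtype.ext
        show t * ((y * y' : X) : T) * t⁻¹ = (t * (y : T) * t⁻¹) * (t * (y' : T) * t⁻¹)
        rw [Subgroup.coe_mul]
        group }
  have hσ : ∀ y : X, σ y = y ∨ σ y = y * ⟨z, hzX⟩ := by
    intro y
    rcases ht y y.2 with h | h
    · left; exact Subtype.ext h
    · right; exact Subtype.ext h
  obtain ⟨a, ha⟩ := exists_inner (X := X) (z := ⟨z, hzX⟩)
    (fun h => hz1 (congrArg Subtype.val h))
    (Subtype.ext hzz)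
    (fun y => Subtype.ext (hzc y y.2))
    (fun x hx => by
      rcases hZ x x.2 (fun y hy => congrArg Subtype.val (hx ⟨y, hy⟩)) with h | h
      · left; exact Subtype.ext h
      · right; exact Subtype.ext h)
    (fun a y => by
      rcases hcomm a a.2 y y.2 with h | h
      · left; exact Subtype.ext h
      · right; exact Subtype.ext h)
    σ hσ (Subtype.ext htz)
  refine ⟨a, a.2, fun y hy => ?_⟩
  exact congrArg Subtype.val (ha ⟨y, hy⟩)

/-- (B7), product form: `t ∈ X · C_T(X)`. -/
theorem mem_mul_centralizer (X : Subgroup T) [Finite X] (z : T) (hzX : z ∈ X)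
    (hz1 : z ≠ 1) (hzz : z * z = 1) (hzc : ∀ y ∈ X, y * z = z * y)
    (hZ : ∀ x ∈ X, (∀ y ∈ X, x * y = y * x) → x = 1 ∨ x = z)
    (hcomm : ∀ a ∈ X, ∀ y ∈ X, a * y * a⁻¹ = y ∨ a * y * a⁻¹ = y * z)
    (t : T) (ht : ∀ y ∈ X, t * y * t⁻¹ = y ∨ t * y * t⁻¹ = y * z) :
    ∃ a ∈ X, ∃ c ∈ Subgroup.centralizer (X : Set T), t = a * c := by
  obtain ⟨a, haX, ha⟩ := exists_inner_subgroup X z hzX hz1 hzz hzc hZ hcomm t ht
  refine ⟨a, haX, a⁻¹ * t, ?_, by group⟩
  rw [Subgroup.mem_centralizer_iff]
  intro y hy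
  have h := ha y hy
  calc y * (a⁻¹ * t) = a⁻¹ * (a * y * a⁻¹) * t := by group
    _ = a⁻¹ * (t * y * t⁻¹) * t := by rw [h]
    _ = a⁻¹ * t * y := by group

end subgroupForm

end Cfsg.Agent.Lib.H18.S4415XS
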