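import Cfsg.Agent.Lib.H10.S4415BadDefs
import Cfsg.Agent.Lib.H18.S4415XS
import Cfsg.Agent.Lib.H18.S4415LI

/-!
# S4415: the pieces (B7) and (B5) in the exact shapes of helper10's cut (helper18)

`b7 : B7Stmt` and `b5 : B5Stmt` (`Lib/H10/S4415BadDefs.lean`), from the pure cores
`Lib/H18/S4415XS.lean` (inner automorphisms by double counting) and `Lib/H18/S4415LI.lean`
(linear independence modulo `z`).
-/

set_option autoImplicit false

namespace Cfsg.Agent.Lib.H18.S4415B57

open Cfsg.Agent.Lib.H10.S4415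

section helpers

variable {S : Type*} [Group S]

/-- conjugate form of the commutator condition -/
theorem conj_of_comm {z : S} {X : Subgroup S} (hX : XS z X) {r g : S} (hg : g ∈ X)
    (h : r * g * r⁻¹ * g⁻¹ = 1 ∨ r * g * r⁻¹ * g⁻¹ = z) :
    r * g * r⁻¹ = g ∨ r * g * r⁻¹ = g * z := by
  rcases h with h | h
  · left
    calc r * g * r⁻¹ = (r * g * r⁻¹ * g⁻¹) * g := by group
      _ = g := by rw [h, one_mul]
  · right
    calc r * g * r⁻¹ = (r * g * r⁻¹ * g⁻¹) * g := by group
      _ = z * g := by rw [h]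
      _ = g * z := (hX.z_central g hg).symm

end helpers

/-- (B7) in the cut's shape -/
theorem b7 : B7Stmt := by
  intro S _ _ z X hX r hr
  haveI : Finite X := inferInstance
  obtain ⟨a, haX, ha⟩ := Cfsg.Agent.Lib.H18.S4415XS.exists_inner_subgroup X z hX.zX hX.z_ne hX.z_sq
    hX.z_central hX.center
    (fun a ha y hy => conj_of_comm hX hy (hX.comm a ha y hy))
    r (fun y hy => conj_of_comm hX hy (hr y hy))
  refine ⟨a, haX, fun g hg => ?_⟩
  have h := ha g hg
  calc a⁻¹ * r * g = a⁻¹ * (r * g * r⁻¹) * r := by group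
    _ = a⁻¹ * (a * g * a⁻¹) * r := by rw [h]
    _ = g * (a⁻¹ * r) := by group

/-- (B5) in the cut's shape -/
theorem b5 : B5Stmt := by
  intro S _ _ E _ _ _ ρ R b W x₁ x₂ x₃ e₀ e₁ e₂ e₃ z X hL hD hneg hXR hX
  classical
  -- `X` acts on `W`
  have hXinv : ∀ g ∈ X, ∀ w ∈ W, ρ g w ∈ W := fun g hg w hw =>
    hL.W_inv g (le_sup_left (a := R) (b := Subgroup.zpowers b) (hXR hg)) w hw
  let ρ' : ↥X →* Module.End (ZMod 3) ↥W :=
    { toFun := fun g => (ρ (g : S)).restrict (hXinv g g.2)
      map_one' := by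
        apply LinearMap.ext
        intro w
        apply Subtype.ext
        simp [LinearMap.restrict_apply]
      map_mul' := by
        intro g h
        apply LinearMap.ext
        intro w
        apply Subtype.ext
        simp [LinearMap.restrict_apply] }
  have hρ' : ∀ (g : ↥X) (w : ↥W), ((ρ' g w : ↥W) : E) = ρ (g : S) (w : E) := fun g w => rfl
  haveI : Nontrivial ↥W := ⟨⟨⟨e₀, hD.e₀W⟩, 0, fun h => hD.e₀ne (congrArg Subtype.val h)⟩⟩
  have hρz : ρ' ⟨z, hX.zX⟩ = -1 := by
    apply LinearMap.ext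
    intro w
    apply Subtype.ext
    rw [hρ']
    simp only [LinearMap.neg_apply, Module.End.one_apply, Submodule.coe_neg]
    exact hneg w w.2
  have h2 : (2 : ZMod 3) ≠ 0 := by decide
  have hcard := Cfsg.Agent.Lib.H18.S4415LI.card_le ρ' ⟨z, hX.zX⟩ hρz h2
    (Subtype.ext hX.z_sq)
    (fun y => Subtype.ext (hX.z_central y y.2))
    (fun x y => by
      rcases conj_of_comm hX x.2 (hX.comm y y.2 x x.2) with h | h
      · left; exact Subtype.ext h
      · right; exact Subtype.ext h)
    (fun x hx1 hxz => by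
      have hnc : ¬ ∀ h ∈ X, (x : S) * h = h * x := by
        intro hc
        rcases hX.center x x.2 hc with h | h
        · exact hx1 (Subtype.ext h)
        · exact hxz (Subtype.ext h)
      push Not at hnc
      obtain ⟨h, hhX, hh⟩ := hnc
      refine ⟨⟨h, hhX⟩, ?_⟩
      rcases conj_of_comm hX x.2 (hX.comm h hhX x x.2) with h' | h'
      · exfalso
        apply hh
        calc (x : S) * h = (h * x * h⁻¹) * h := by rw [h']
          _ = h * x := by group
      · exact Subtype.ext h')
  -- `finrank W ≤ 4`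
  have hfin : Module.finrank (ZMod 3) ↥W ≤ 4 := by
    have hle : W ≤ Submodule.span (ZMod 3) ({e₀, e₁, e₂, e₃} : Set E) := by
      intro w hw
      obtain ⟨c₀, c₁, c₂, c₃, rfl⟩ := hD.span w hw
      have hm : ∀ e ∈ ({e₀, e₁, e₂, e₃} : Set E), e ∈ Submodule.span (ZMod 3) ({e₀, e₁, e₂, e₃} : Set E) :=
        fun e he => Submodule.subset_span he
      refine Submodule.add_mem _ (Submodule.add_mem _ (Submodule.add_mem _ ?_ ?_) ?_) ?_
      · exact Submodule.smul_mem _ _ (hm _ (by simp))
      · exact Submodule.smul_mem _ _ (hm _ (by simp))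
      · exact Submodule.smul_mem _ _ (hm _ (by simp))
      · exact Submodule.smul_mem _ _ (hm _ (by simp))
    have h1 := Submodule.finrank_mono hle
    have h3 : Module.finrank (ZMod 3) ↥(Submodule.span (ZMod 3) ({e₀, e₁, e₂, e₃} : Set E)) ≤ 4 := by
      have h4 : Module.finrank (ZMod 3)
          ↥(Submodule.span (ZMod 3) ((({e₀, e₁, e₂, e₃} : Finset E)) : Set E)) ≤
          ({e₀, e₁, e₂, e₃} : Finset E).card :=
        finrank_span_finset_le_card (R := ZMod 3) ({e₀, e₁, e₂, e₃} : Finset E)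
      have h5 : ({e₀, e₁, e₂, e₃} : Finset E).card ≤ 4 := Finset.card_le_four
      have h6 : ((({e₀, e₁, e₂, e₃} : Finset E) : Set E)) = ({e₀, e₁, e₂, e₃} : Set E) := by
        simp
      rw [h6] at h4
      omega
    omega
  have hsq : Module.finrank (ZMod 3) ↥W ^ 2 ≤ 16 := by
    have : Module.finrank (ZMod 3) ↥W ^ 2 ≤ 4 ^ 2 := Nat.pow_le_pow_left hfin 2
    omega
  omega

end Cfsg.Agent.Lib.H18.S4415B57
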