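import Cfsg.Agent.Lib.H24.S4415W2
import Cfsg.Agent.Lib.H10.S4415Defs

/-!
helper18: S4415 GOOD block, piece (T) of helper24's farm-out: the group `R<b>` is transitive on
the occurring sign-weights of an `R<b>`-normal abelian subgroup `A` (irreducibility of `W`).
-/

set_option autoImplicit false

namespace Cfsg.Agent.Lib.H18.S4415WT

open Cfsg.Agent.Lib.H10.S4415 Cfsg.Agent.Lib.H24.S4415W

variable {S E : Type*} [Group S] [AddCommGroup E] [Module (ZMod 3) E]

theorem weights_transitive {ρ : Representation (ZMod 3) S E} {R : Subgroup S} {b : S}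
    {W : Submodule (ZMod 3) E} (hL : LinCtx ρ R b W) (A : Subgroup S)
    (hAn : ∀ g ∈ RB R b, ∀ a ∈ A, g * a * g⁻¹ ∈ A)
    (hAc : ∀ a ∈ A, ∀ a' ∈ A, a * a' = a' * a) (χ₀ χ : ↥A → ZMod 3)
    (h₀ : Vw ρ A W χ₀ ≠ ⊥) (h : Vw ρ A W χ ≠ ⊥) :
    ∃ g : ↥(RB R b), act A (RB R b) hAn g χ₀ = χ := by
  by_contra hne
  push Not at hne
  -- the sum of the weight spaces over the orbit of χ₀
  set N : Submodule (ZMod 3) E := ⨆ g : ↥(RB R b), Vw ρ A W (act A (RB R b) hAn g χ₀) with hN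
  have hNW : N ≤ W := iSup_le fun g => Vw_le_W ρ A W _
  have hNinv : InvBy ρ (RB R b) N := by
    intro g' hg' w hw
    refine Submodule.iSup_induction (fun g : ↥(RB R b) => Vw ρ A W (act A (RB R b) hAn g χ₀))
      (motive := fun w => ρ g' w ∈ N) hw ?_ ?_ ?_
    · intro g x hx
      have h1 := map_Vw hAn ρ W hL.W_inv ⟨g', hg'⟩ (act A (RB R b) hAn g χ₀) hx
      rw [← act_mul] at h1
      exact (le_iSup (fun g : ↥(RB R b) => Vw ρ A W (act A (RB R b) hAn g χ₀))
        (⟨g', hg'⟩ * g)) h1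
    · rw [map_zero]; exact N.zero_mem
    · intro x y hx hy
      rw [map_add]; exact N.add_mem hx hy
  have hN0 : N ≠ ⊥ := by
    intro hbot
    apply h₀
    have h1 : Vw ρ A W χ₀ ≤ N := by
      have := le_iSup (fun g : ↥(RB R b) => Vw ρ A W (act A (RB R b) hAn g χ₀)) 1
      simpa [act_one] using this
    rw [hbot] at h1
    exact le_bot_iff.mp h1
  have hNeq : N = W := (hL.irred N hNW hNinv).resolve_left hN0
  have hNle : N ≤ ⨆ (ψ : ↥A → ZMod 3) (_ : ψ ≠ χ), Vw ρ A W ψ :=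
    iSup_le fun g => Vw_le_biSup ρ A W (hne g)
  obtain ⟨x, hx, hx0⟩ := Submodule.exists_mem_ne_zero_of_ne_bot h
  apply hx0
  have hxN : x ∈ N := by rw [hNeq]; exact hx.1
  have hd := (Vw_indep ρ A W hAc) χ
  exact (Submodule.disjoint_def.mp hd) x hx (hNle hxN)

end Cfsg.Agent.Lib.H18.S4415WT
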