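import Mathlib

/-!
helper18: sig-independent cores for S2924 step (6):
* `SF18.odd_card_iSup_of_commute`: a family of odd-order subgroups that commute elementwise
  generates a subgroup of odd order.
* `SF18.hyperplanes_meet`: two subgroups of index at most 2 in a group of order at least 8
  meet nontrivially.
-/

set_option autoImplicit false

namespace Cfsg.Agent.Lib.H18.SF18

/-- In a finite group, a family of subgroups of odd order whose elements commute pairwise
generates a subgroup of odd order. -/
theorem odd_card_iSup_of_commute {X : Type*} [Group X] [Finite X] {ι : Sort*}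
    (S : ι → Subgroup X) (hodd : ∀ i, Odd (Nat.card ↥(S i)))
    (hcomm : ∀ i j, ∀ a ∈ S i, ∀ b ∈ S j, a * b = b * a) :
    Odd (Nat.card ↥(⨆ i, S i)) := by
  classical
  set W : Subgroup X := ⨆ i, S i with hW
  -- generators
  have hgen : W = Subgroup.closure (⋃ i, (S i : Set X)) := by
    rw [hW, Subgroup.iSup_eq_closure]
  -- W is commutative
  have hWcomm : ∀ a ∈ W, ∀ b ∈ W, a * b = b * a := by
    have h1 : ∀ a ∈ W, ∀ j, ∀ b ∈ S j, a * b = b * a := by
      intro a ha j b hb
      rw [hgen] at ha
      induction ha using Subgroup.closure_induction with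
      | mem x hx =>
        obtain ⟨i, hi⟩ := Set.mem_iUnion.mp hx
        exact hcomm i j x hi b hb
      | one => simp
      | mul x y _ _ hx hy =>
        calc x * y * b = x * (y * b) := by group
          _ = x * (b * y) := by rw [hy]
          _ = (x * b) * y := by group
          _ = (b * x) * y := by rw [hx]
          _ = b * (x * y) := by group
      | inv x _ hx =>
        have : b * x = x * b := hx.symm
        calc x⁻¹ * b = x⁻¹ * (b * x) * x⁻¹ := by group
          _ = x⁻¹ * (x * b) * x⁻¹ := by rw [this]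
          _ = b * x⁻¹ := by group
    intro a ha b hb
    rw [hgen] at hb
    induction hb using Subgroup.closure_induction with
    | mem x hx =>
      obtain ⟨j, hj⟩ := Set.mem_iUnion.mp hx
      exact h1 a ha j x hj
    | one => simp
    | mul x y _ _ hx hy =>
      calc a * (x * y) = (a * x) * y := by group
        _ = (x * a) * y := by rw [hx]
        _ = x * (a * y) := by group
        _ = x * (y * a) := by rw [hy]
        _ = x * y * a := by group
    | inv x _ hx =>
      calc a * x⁻¹ = x⁻¹ * (x * a) * x⁻¹ := by group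
        _ = x⁻¹ * (a * x) * x⁻¹ := by rw [hx]
        _ = x⁻¹ * a := by group
  -- every element of W has odd order
  have hoddord : ∀ a ∈ W, Odd (orderOf a) := by
    intro a ha
    rw [hgen] at ha
    induction ha using Subgroup.closure_induction with
    | mem x hx =>
      obtain ⟨i, hi⟩ := Set.mem_iUnion.mp hx
      have hdvd : orderOf x ∣ Nat.card ↥(S i) := by
        have := orderOf_dvd_natCard (⟨x, hi⟩ : ↥(S i))
        rwa [Subgroup.orderOf_mk] at this
      exact (hodd i).of_dvd_nat hdvd
    | one => simp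
    | mul x y hx' hy' hx hy =>
      have hxW : x ∈ W := by rw [hgen]; exact hx'
      have hyW : y ∈ W := by rw [hgen]; exact hy'
      have hc : Commute x y := hWcomm x hxW y hyW
      have hdvd : orderOf (x * y) ∣ orderOf x * orderOf y := hc.orderOf_mul_dvd_mul_orderOf
      exact (hx.mul hy).of_dvd_nat hdvd
    | inv x _ hx => simpa using hx
  -- hence |W| is odd
  by_contra hnot
  have heven : 2 ∣ Nat.card ↥W := by
    rcases Nat.even_or_odd (Nat.card ↥W) with h | h
    · exact even_iff_two_dvd.mp h
    · exact absurd h hnot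
  have : Fact (Nat.Prime 2) := ⟨Nat.prime_two⟩
  have : Fintype ↥W := Fintype.ofFinite _
  obtain ⟨w, hw⟩ := exists_prime_orderOf_dvd_card' (G := ↥W) 2 heven
  have h2 : orderOf (w : X) = 2 := by rw [Subgroup.orderOf_coe]; exact hw
  have := hoddord (w : X) w.2
  rw [h2] at this
  exact absurd this (by decide)

/-- Two subgroups of relative index at most `2` in a subgroup `Y` of order at least `8`
have a common nontrivial element. -/
theorem hyperplanes_meet {X : Type*} [Group X] [Finite X] (Y B B' : Subgroup X)
    (h8 : 8 ≤ Nat.card ↥Y) (hB : B ≤ Y)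
    (hBi : B.relIndex Y ≤ 2) (hBi' : B'.relIndex Y ≤ 2) :
    ∃ b ∈ B ⊓ B', b ≠ 1 := by
  classical
  -- |Y : B ⊓ B'| ≤ |Y:B| * |Y:B'| ≤ 4
  have h1 : (B ⊓ B').relIndex Y ≤ B.relIndex Y * B'.relIndex Y :=
    Subgroup.relIndex_inf_le
  have h2 : (B ⊓ B').relIndex Y ≤ 4 := by
    calc (B ⊓ B').relIndex Y ≤ B.relIndex Y * B'.relIndex Y := h1
      _ ≤ 2 * 2 := Nat.mul_le_mul hBi hBi'
  have hle : B ⊓ B' ≤ Y := inf_le_left.trans hB
  have h3 : (B ⊓ B').relIndex Y * Nat.card ↥(B ⊓ B') = Nat.card ↥Y := by
    have := Subgroup.relIndex_mul_index hle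
    have h4 := Subgroup.card_mul_index (B ⊓ B')
    have h5 := Subgroup.card_mul_index Y
    have hYpos : 0 < Y.index := Nat.pos_of_ne_zero Subgroup.index_ne_zero_of_finite
    -- card (B⊓B') * relIndex * index Y = card X = card Y * index Y
    have : Nat.card ↥(B ⊓ B') * ((B ⊓ B').relIndex Y * Y.index) = Nat.card ↥Y * Y.index := by
      rw [this, h4, h5]
    have h6 : (Nat.card ↥(B ⊓ B') * (B ⊓ B').relIndex Y) * Y.index = Nat.card ↥Y * Y.index := by
      rw [mul_assoc]; exact this
    have := Nat.eq_of_mul_eq_mul_right hYpos h6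
    rw [mul_comm]; exact this
  have h4 : 2 ≤ Nat.card ↥(B ⊓ B') := by
    by_contra hlt
    rw [not_le] at hlt
    have : Nat.card ↥(B ⊓ B') ≤ 1 := by omega
    have : (B ⊓ B').relIndex Y * Nat.card ↥(B ⊓ B') ≤ 4 * 1 := Nat.mul_le_mul h2 this
    omega
  have hnt : Nontrivial ↥(B ⊓ B') := by
    rw [← Finite.one_lt_card_iff_nontrivial]; omega
  obtain ⟨b, hb⟩ := exists_ne (1 : ↥(B ⊓ B'))
  exact ⟨b, b.2, fun h => hb (Subtype.ext h)⟩

end Cfsg.Agent.Lib.H18.SF18
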