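import Mathlib
import Cfsg.Prelude.Def_Local
import Cfsg.Prelude.Def_CaseTheorems
import Cfsg.Agent.Lib.H24.SG.Defs
import Cfsg.Agent.Lib.H22.PPrimeCore
import Cfsg.Agent.Lib.H1.PCore
import Cfsg.Agent.Lib.H7.FStar

/-!
# S2924 pieces THZ + THB (helper18), exact sigs of `tools/blueprints/S2924_sigs.lean`

* `theta_le`, `theta_normalized`, `theta_odd`: basics of `theta X x = O(C_X(x))`.
* `theta_eq_bot`: if `F*(C_X(z)) = O_2(C_X(z))` then `theta X z = 1`.
-/

set_option autoImplicit false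

namespace Cfsg.Agent.Lib.H18.SG

open Cfsg Cfsg.Agent.Lib.H24.SG

/-- In a finite group `L` with `F*(L) = O_2(L)` the odd core is trivial. -/
theorem oddCore_eq_bot_of_gfs_eq_pCore {L : Type*} [Group L] [Finite L]
    (hF : Cfsg.generalizedFittingSubgroup L = Cfsg.pCore 2 L) : Cfsg.pPrimeCore 2 L = ⊥ := by
  have : Fact (Nat.Prime 2) := ⟨Nat.prime_two⟩
  have hcop : (Nat.card ↥(Cfsg.pPrimeCore 2 L)).Coprime 2 :=
    Cfsg.Agent.Lib.H22.card_pPrimeCore_coprime 2
  have hP : IsPGroup 2 ↥(Cfsg.pCore 2 L) := Cfsg.Agent.Lib.H1.pCore_isPGroup 2 L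
  obtain ⟨n, hn⟩ := IsPGroup.iff_card.mp hP
  have hcop2 : (Nat.card ↥(Cfsg.pPrimeCore 2 L)).Coprime (Nat.card ↥(Cfsg.pCore 2 L)) := by
    rw [hn]; exact Nat.Coprime.pow_right n hcop
  have hdisj : Cfsg.pPrimeCore 2 L ⊓ Cfsg.pCore 2 L = ⊥ := (Subgroup.disjoint_of_coprime_natCard hcop2).eq_bot
  have hcent : Cfsg.pPrimeCore 2 L ≤ Subgroup.centralizer ((Cfsg.pCore 2 L : Subgroup L) : Set L) := by
    intro a ha
    rw [Subgroup.mem_centralizer_iff]
    intro b hb
    have hc : Commute a b :=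
      Subgroup.commute_of_normal_of_disjoint _ _ (Cfsg.pPrimeCore_normal 2 L) (Cfsg.pCore_normal 2 L)
        (disjoint_iff.mpr hdisj) a b ha hb
    exact hc.eq.symm
  have hle : Cfsg.pPrimeCore 2 L ≤ Cfsg.pCore 2 L := by
    have h1 : Subgroup.centralizer ((Cfsg.generalizedFittingSubgroup L : Subgroup L) : Set L) ≤
        Cfsg.generalizedFittingSubgroup L :=
      Cfsg.Agent.Lib.H7.centralizer_generalizedFittingSubgroup_le
    rw [hF] at h1
    exact hcent.trans h1
  rw [eq_bot_iff, ← hdisj]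
  exact le_inf le_rfl hle

/-- THZ. -/
theorem theta_eq_bot {X : Type*} [Group X] [Finite X] (z : X)
    (hF : Cfsg.generalizedFittingSubgroup ↥(Subgroup.centralizer ({z} : Set X)) =
      Cfsg.pCore 2 ↥(Subgroup.centralizer ({z} : Set X))) : theta X z = ⊥ := by
  rw [theta_def, oddCore_eq_bot_of_gfs_eq_pCore hF, Subgroup.map_bot]

/-- THB. Basics of `theta`. -/
theorem theta_le {X : Type*} [Group X] (x : X) : theta X x ≤ Subgroup.centralizer ({x} : Set X) := by
  rw [theta_def]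
  exact Subgroup.map_subtype_le _

theorem theta_normalized {X : Type*} [Group X] (x : X) :
    Subgroup.centralizer ({x} : Set X) ≤ Subgroup.normalizer ((theta X x : Subgroup X) : Set X) := by
  intro c hc
  have hN : (Cfsg.pPrimeCore 2 ↥(Subgroup.centralizer ({x} : Set X))).Normal :=
    Cfsg.pPrimeCore_normal 2 _
  -- conjugation by `c` maps `theta X x` into itself, and so does conjugation by `c⁻¹`
  have key : ∀ d ∈ Subgroup.centralizer ({x} : Set X), ∀ h ∈ theta X x, d * h * d⁻¹ ∈ theta X x := by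
    intro d hd h hh
    rw [theta_def] at hh ⊢
    obtain ⟨a, ha, rfl⟩ := hh
    refine ⟨⟨d, hd⟩ * a * ⟨d, hd⟩⁻¹, hN.conj_mem a ha ⟨d, hd⟩, ?_⟩
    simp
  rw [Subgroup.mem_normalizer_iff]
  intro h
  constructor
  · intro hh
    exact key c hc h hh
  · intro hh
    have := key c⁻¹ (inv_mem hc) _ hh
    simpa [mul_assoc] using this

theorem theta_odd {X : Type*} [Group X] [Finite X] (x : X) : Odd (Nat.card ↥(theta X x)) := by
  have hcop : (Nat.card ↥(Cfsg.pPrimeCore 2 ↥(Subgroup.centralizer ({x} : Set X)))).Coprime 2 :=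
    Cfsg.Agent.Lib.H22.card_pPrimeCore_coprime 2
  have hcard : Nat.card ↥(theta X x) =
      Nat.card ↥(Cfsg.pPrimeCore 2 ↥(Subgroup.centralizer ({x} : Set X))) := by
    rw [theta_def]
    exact (Nat.card_congr ((Cfsg.pPrimeCore 2 ↥(Subgroup.centralizer ({x} : Set X))).equivMapOfInjective
      (Subgroup.centralizer ({x} : Set X)).subtype (Subgroup.subtype_injective _)).toEquiv).symm
  rw [hcard]
  exact hcop.odd_of_right

end Cfsg.Agent.Lib.H18.SG
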