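import Cfsg.Agent.Lib.H24.CharSchur
import Cfsg.Agent.Lib.H24.CharKer

/-!
# S3016 (I), piece P3 (helper18): class-sum identity and the kernel step

`Γ` a finite group, `χ` an irreducible character, `a : Γ`.
* `cs_ker` : if `χ (a * (g a g⁻¹)) = χ a` for every `g` and `χ a ≠ 0` then `χ a = χ 1`;
* `cs_ker_N` : the same with the hypothesis only over a normal subgroup `N` with `Γ = N⟨a⟩`;
* `comm_val` : if `χ a = χ 1` then `χ (a y a⁻¹ y⁻¹) = χ 1`, `χ (x * a) = χ x`.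
-/

set_option autoImplicit false

universe u

namespace Cfsg.Agent.Lib.H18.SH16

open Cfsg Cfsg.Agent.Lib.L0 Cfsg.Agent.Lib.H24

variable {Γ : Type u} [Group Γ]

/-- an irreducible character does not vanish at `1` -/
theorem irr_one_ne_zero [Finite Γ] (χ : IrrCharacter Γ) : (χ : Γ → ℂ) 1 ≠ 0 := by
  obtain ⟨n, ρ, hρ, hχ⟩ := χ.2
  rw [← hχ, Representation.char_one]
  have h := finrank_ne_zero_of_irreducible ρ hρ
  exact_mod_cast h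

/-- class-sum step: all `χ (a * a^g)` equal to `χ a ≠ 0` forces `χ a = χ 1` -/
theorem cs_ker [Fintype Γ] (χ : IrrCharacter Γ) (a : Γ)
    (h : ∀ g : Γ, (χ : Γ → ℂ) (a * (g * a * g⁻¹)) = (χ : Γ → ℂ) a)
    (h0 : (χ : Γ → ℂ) a ≠ 0) : (χ : Γ → ℂ) a = (χ : Γ → ℂ) 1 := by
  have hcf := isClassFunction_irr χ
  have h1 := irr_sum_conj_mul χ a a
  have h2 : ∀ x : Γ, (χ : Γ → ℂ) (x * a * x⁻¹ * a) = (χ : Γ → ℂ) a := by
    intro x
    rw [← h x, ← hcf (x * a * x⁻¹ * a) a]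
    group
  rw [Finset.sum_congr rfl (fun x _ => h2 x), Finset.sum_const, Finset.card_univ, nsmul_eq_mul,
    ← Nat.card_eq_fintype_card] at h1
  have hc : (Nat.card Γ : ℂ) ≠ 0 := by
    have : Nat.card Γ ≠ 0 := Nat.card_pos.ne'
    exact_mod_cast this
  have hd := irr_one_ne_zero χ
  rw [eq_div_iff hd] at h1
  have h3 : (Nat.card Γ : ℂ) * (χ : Γ → ℂ) a * ((χ : Γ → ℂ) 1 - (χ : Γ → ℂ) a) = 0 := by
    linear_combination h1
  rcases mul_eq_zero.1 h3 with h4 | h4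
  · rcases mul_eq_zero.1 h4 with h5 | h5
    · exact absurd h5 hc
    · exact absurd h5 h0
  · exact (sub_eq_zero.1 h4).symm

/-- the function-valued form -/
theorem cs_ker' [Fintype Γ] {χ : Γ → ℂ} (hχ : IsIrrCharacter Γ χ) (a : Γ)
    (h : ∀ g : Γ, χ (a * (g * a * g⁻¹)) = χ a) (h0 : χ a ≠ 0) : χ a = χ 1 :=
  cs_ker ⟨χ, hχ⟩ a h h0

/-- conjugating `a` by `n * a ^ k` is conjugating by `n` -/
theorem conj_mul_pow (a n : Γ) (k : ℕ) :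
    (n * a ^ k) * a * (n * a ^ k)⁻¹ = n * a * n⁻¹ := by
  have h : a ^ k * a * (a ^ k)⁻¹ = a := by
    rw [← pow_succ, pow_succ', mul_assoc, mul_inv_cancel, mul_one]
  calc (n * a ^ k) * a * (n * a ^ k)⁻¹ = n * (a ^ k * a * (a ^ k)⁻¹) * n⁻¹ := by group
    _ = n * a * n⁻¹ := by rw [h]

/-- the class-sum step with the hypothesis only over `N`, `Γ = N⟨a⟩` -/
theorem cs_ker_N [Fintype Γ] {χ : Γ → ℂ} (hχ : IsIrrCharacter Γ χ) (a : Γ) (N : Subgroup Γ)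
    (hgen : ∀ x : Γ, ∃ n ∈ N, ∃ k : ℕ, x = n * a ^ k)
    (h : ∀ y ∈ N, χ (a * (y * a * y⁻¹)) = χ a) (h0 : χ a ≠ 0) : χ a = χ 1 := by
  apply cs_ker' hχ a _ h0
  intro g
  obtain ⟨n, hn, k, rfl⟩ := hgen g
  rw [conj_mul_pow]
  exact h n hn

/-- `a` in the kernel: `χ (x * a) = χ x` -/
theorem mul_ker_val [Finite Γ] {χ : Γ → ℂ} (hχ : IsCharacter Γ χ) {a : Γ} (ha : χ a = χ 1)
    (x : Γ) : χ (x * a) = χ x := by
  obtain ⟨n, ρ, rfl⟩ := hχ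
  rw [char_eq_char_one_iff] at ha
  simp only [Representation.character, map_mul, ha, mul_one]

/-- `a` in the kernel: every commutator with `a` is in the kernel -/
theorem comm_val [Finite Γ] {χ : Γ → ℂ} (hχ : IsCharacter Γ χ) {a : Γ} (ha : χ a = χ 1)
    (y : Γ) : χ (a * y * a⁻¹ * y⁻¹) = χ 1 := by
  have hK : a ∈ charKer χ hχ := ha
  have h1 : y * a⁻¹ * y⁻¹ ∈ charKer χ hχ :=
    (charKer_normal χ hχ).conj_mem _ ((charKer χ hχ).inv_mem hK) y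
  have h2 : a * (y * a⁻¹ * y⁻¹) ∈ charKer χ hχ := (charKer χ hχ).mul_mem hK h1
  have h3 : a * y * a⁻¹ * y⁻¹ = a * (y * a⁻¹ * y⁻¹) := by group
  rw [h3]
  exact h2

/-- restricted form: for `θ = χ|_N`, `θ [a,y] = θ 1` -/
theorem comm_val_res [Finite Γ] {χ : Γ → ℂ} (hχ : IsCharacter Γ χ) {a : Γ} (ha : χ a = χ 1)
    (N : Subgroup Γ) (θ : N → ℂ) (hθ : ∀ n : N, θ n = χ (n : Γ)) (y : Γ)
    (hy : a * y * a⁻¹ * y⁻¹ ∈ N) : θ ⟨a * y * a⁻¹ * y⁻¹, hy⟩ = θ 1 := by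
  rw [hθ, hθ]
  exact comm_val hχ ha y

/-- the whole step (6): class sum over `N`, then `[a, N]` in the kernel of `θ = χ|_N` -/
theorem step6 [Fintype Γ] {χ : Γ → ℂ} (hχ : IsIrrCharacter Γ χ) (a : Γ) (N : Subgroup Γ)
    (hgen : ∀ x : Γ, ∃ n ∈ N, ∃ k : ℕ, x = n * a ^ k)
    (h : ∀ y ∈ N, χ (a * (y * a * y⁻¹)) = χ a) (h0 : χ a ≠ 0) :
    χ a = χ 1 ∧ ∀ y : Γ, χ (a * y * a⁻¹ * y⁻¹) = χ 1 := by
  have ha := cs_ker_N hχ a N hgen h h0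
  exact ⟨ha, fun y => comm_val (isCharacter_of_irr hχ) ha y⟩

end Cfsg.Agent.Lib.H18.SH16
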