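import Cfsg.Agent.Lib.H18.SH16LI
import Cfsg.Agent.Lib.H19.SHODDKEY
import Cfsg.Agent.Lib.H1.ShIWrap

/-!
# S3016: conclusion (I) from conclusion (II), fully assembled (helper18)

`concl_I` = helper1's `concl_I_of_II` ∘ `lemma_I` (helper24's `inv_ker` + counting finish) ∘
helper19's `key_conj`.  No hypotheses left except (II).
-/

set_option autoImplicit false

universe u

namespace Cfsg.Agent.Lib.H18.SH16

open Cfsg

variable {G : Type u} [Group G]

/-- `C_{[Y,H]}(H) = 1` for every `H`-invariant `p'`-subgroup `Y` with (EC) -/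
theorem lemma_I_full [Finite G] {p : ℕ} [Fact p.Prime] (hp2 : p ≠ 2) (H : Subgroup G)
    (hHp : IsPGroup p H) (hHab : IsMulCommutative H) :
    ∀ Y : Subgroup G, ¬ p ∣ Nat.card Y → (∀ h ∈ H, ∀ y ∈ Y, h * y * h⁻¹ ∈ Y) →
      Cfsg.Agent.Lib.H24.ShI.EC H Y → ⁅Y, H⁆ ⊓ Subgroup.centralizer (H : Set G) = ⊥ := by
  have hab : ∀ a ∈ H, ∀ b ∈ H, a * b = b * a := by
    intro a ha b hb
    have h := hHab.is_comm.comm (⟨a, ha⟩ : H) ⟨b, hb⟩
    exact congrArg Subtype.val h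
  intro Y hYp hnorm hEC
  exact lemma_I hp2 H hHp hab
    (fun Y' hY' hn' hE' => Cfsg.Agent.Lib.H19.ShI.key_conj hp2 H Y' hHp hab hY' hn' hE')
    Y hYp hnorm hEC

/-- conclusion (I) of S3016 from conclusion (II) -/
theorem concl_I [Finite G] {p : ℕ} [Fact p.Prime] (hp2 : p ≠ 2) (H : Subgroup G)
    (hHp : IsPGroup p H) (hHab : IsMulCommutative H) (hcl : Cfsg.IsExtremelyClosed H)
    (hII : Subgroup.normalizer (H : Set G) ⊔ Cfsg.pPrimeCore p G = ⊤) :
    Subgroup.normalClosure (H : Set G) ⊓ Subgroup.normalizer (H : Set G) = H :=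
  Cfsg.Agent.Lib.H1.ShIWrap.concl_I_of_II hp2 H hHp hHab hcl
    (lemma_I_full hp2 H hHp hHab) hII

/-- the S3016 statement from (II) alone -/
theorem result_of_II [Finite G] {p : ℕ} [Fact p.Prime] (hp2 : p ≠ 2) (H : Subgroup G)
    (hHp : IsPGroup p H) (hHab : IsMulCommutative H) (hcl : Cfsg.IsExtremelyClosed H)
    (hII : Subgroup.normalizer (H : Set G) ⊔ Cfsg.pPrimeCore p G = ⊤) :
    Subgroup.normalClosure (H : Set G) ⊓ Subgroup.normalizer (H : Set G) = H ∧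
      Subgroup.normalizer (H : Set G) ⊔ Cfsg.pPrimeCore p G = ⊤ :=
  ⟨concl_I hp2 H hHp hHab hcl hII, hII⟩

end Cfsg.Agent.Lib.H18.SH16
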