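import Cfsg.Agent.Lib.H24.ShICore
import Cfsg.Agent.Lib.H18.SH16FIN

/-!
# S3016 (I): `lemma_I` assembled (helper18)

`lemma_I` in the shape of helper24's cut: helper24's `inv_ker` (= `P(Y)`) plugged into the counting
finish `Cfsg.Agent.Lib.H18.SH16.finish`.
-/

set_option autoImplicit false

universe u

namespace Cfsg.Agent.Lib.H18.SH16

open Cfsg Cfsg.Agent.Lib.L0 Cfsg.Agent.Lib.H24 Cfsg.Agent.Lib.H24.Glaub Cfsg.Agent.Lib.H24.ShI

variable {G : Type u} [Group G]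

/-- a `p'`-group and a `p`-group have coprime orders -/
theorem coprime_card_of_pgroup [Finite G] {p : ℕ} [hp : Fact p.Prime] {Y H : Subgroup G}
    (hHp : IsPGroup p H) (hYp : ¬ p ∣ Nat.card Y) : (Nat.card Y).Coprime (Nat.card H) := by
  obtain ⟨k, hk⟩ := (IsPGroup.iff_card).mp hHp
  rw [hk]
  apply Nat.Coprime.pow_right
  exact ((Nat.Prime.coprime_iff_not_dvd hp.out).2 hYp).symm

/-- `lemma_I` of helper24's cut (#9054): `C_{[Y,H]}(H) = 1`. -/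
theorem lemma_I [Finite G] {p : ℕ} [hp : Fact p.Prime] (hp2 : p ≠ 2) (H : Subgroup G)
    (hHp : IsPGroup p H) (hHab : ∀ a ∈ H, ∀ b ∈ H, a * b = b * a)
    (hkey : ∀ Y : Subgroup G, ¬ p ∣ Nat.card Y → (∀ h ∈ H, ∀ y ∈ Y, h * y * h⁻¹ ∈ Y) →
      EC H Y → KeyStmt H Y)
    (Y : Subgroup G) (hYp : ¬ p ∣ Nat.card Y) (hnorm : ∀ h ∈ H, ∀ y ∈ Y, h * y * h⁻¹ ∈ Y)
    (hEC : EC H Y) : ⁅Y, H⁆ ⊓ Subgroup.centralizer (H : Set G) = ⊥ := by
  classical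
  let _ : Fintype G := Fintype.ofFinite G
  have hsolv : Group.IsSolvable H := by
    apply Group.isSolvable_of_comm
    intro a b
    apply Subtype.ext
    exact hHab a a.2 b b.2
  refine finish Y H hnorm (coprime_card_of_pgroup hHp hYp) hsolv ?_
  intro θ hθ z hz
  exact inv_ker hp.out hp2 H hHp hHab hkey (Nat.card Y) Y rfl hYp hnorm hEC θ hθ (z : G) hz z.2

/-- the same with `IsMulCommutative H` -/
theorem lemma_I' [Finite G] {p : ℕ} [hp : Fact p.Prime] (hp2 : p ≠ 2) (H : Subgroup G)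
    (hHp : IsPGroup p H) (hHab : IsMulCommutative H)
    (hkey : ∀ Y : Subgroup G, ¬ p ∣ Nat.card Y → (∀ h ∈ H, ∀ y ∈ Y, h * y * h⁻¹ ∈ Y) →
      EC H Y → KeyStmt H Y)
    (Y : Subgroup G) (hYp : ¬ p ∣ Nat.card Y) (hnorm : ∀ h ∈ H, ∀ y ∈ Y, h * y * h⁻¹ ∈ Y)
    (hEC : EC H Y) : ⁅Y, H⁆ ⊓ Subgroup.centralizer (H : Set G) = ⊥ := by
  refine lemma_I hp2 H hHp ?_ hkey Y hYp hnorm hEC
  intro a ha b hb
  have h := hHab.is_comm.comm (⟨a, ha⟩ : H) ⟨b, hb⟩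
  exact congrArg Subtype.val h

end Cfsg.Agent.Lib.H18.SH16
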