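import Mathlib
import Cfsg.Prelude.Def_Characters
import Cfsg.Agent.Lib.H24.CharSchur

/-!
# S3017 piece INV2 (helper18): the eigenvalue bound for two involutions, without linear algebra

For an irreducible character `χ` the kernel `M (g, k) = χ (g k⁻¹)` is Hermitian and satisfies
`M * M = (|G| / χ 1) • M` (`H24.irr_sum_mul`), hence it is positive semidefinite (`irr_psd`).
Applied to `v = δ_1 - δ_x - δ_y + δ_{xy}` (`x * x = 1`, `y * y = 1`) this gives
`χ x + χ y - χ 1 ≤ χ (x * y)` (`invol_bound`).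
-/

set_option autoImplicit false

namespace Cfsg.Agent.Lib.H18.SH

open Cfsg Cfsg.Agent.Lib.H24
open scoped ComplexConjugate

variable {G : Type*} [Group G] [Fintype G]

/-- `M * M = (|G| / χ 1) M` for the kernel `M (g, k) = χ (g k⁻¹)`. -/
theorem kernel_sq (χ : IrrCharacter G) (g k : G) :
    ∑ h : G, (χ : G → ℂ) (g * h⁻¹) * (χ : G → ℂ) (h * k⁻¹) =
      (Nat.card G : ℂ) * (χ : G → ℂ) (g * k⁻¹) / (χ : G → ℂ) 1 := by
  rw [← irr_sum_mul χ (g * k⁻¹)]
  refine Fintype.sum_equiv ((Equiv.inv G).trans (Equiv.mulLeft g)) _ _ ?_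
  intro h
  simp only [Equiv.trans_apply, Equiv.inv_apply, Equiv.coe_mulLeft]
  congr 2
  group

/-- Irreducible characters are functions of positive type. -/
theorem irr_psd (χ : IrrCharacter G) (v : G → ℂ) :
    ∃ r : ℝ, 0 ≤ r ∧
      ∑ g : G, ∑ k : G, conj (v g) * (χ : G → ℂ) (g * k⁻¹) * v k = (r : ℂ) := by
  classical
  obtain ⟨n, hn, hχ1⟩ := irr_one_eq χ
  have hcard : (Nat.card G : ℂ) ≠ 0 := by
    have : Nat.card G ≠ 0 := Nat.card_pos.ne'
    exact_mod_cast this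
  have hn0 : (n : ℂ) ≠ 0 := by exact_mod_cast hn.ne'
  set w : G → ℂ := fun h => ∑ k : G, (χ : G → ℂ) (h * k⁻¹) * v k with hw
  have hconjw : ∀ h : G, conj (w h) = ∑ g : G, conj (v g) * (χ : G → ℂ) (g * h⁻¹) := by
    intro h
    simp only [hw, map_sum, map_mul]
    refine Finset.sum_congr rfl (fun g _ => ?_)
    rw [← irr_inv χ (h * g⁻¹), mul_comm]
    congr 2
    group
  have key : ∑ h : G, conj (w h) * w h =
      (Nat.card G : ℂ) / (n : ℂ) *
        ∑ g : G, ∑ k : G, conj (v g) * (χ : G → ℂ) (g * k⁻¹) * v k := by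
    have h1 : ∀ h : G, conj (w h) * w h =
        ∑ g : G, ∑ k : G, conj (v g) * v k *
          ((χ : G → ℂ) (g * h⁻¹) * (χ : G → ℂ) (h * k⁻¹)) := by
      intro h
      rw [hconjw h]
      simp only [hw]
      rw [Finset.sum_mul_sum]
      refine Finset.sum_congr rfl (fun g _ => Finset.sum_congr rfl (fun k _ => ?_))
      ring
    simp_rw [h1]
    rw [Finset.sum_comm]
    rw [Finset.mul_sum]
    refine Finset.sum_congr rfl (fun g _ => ?_)
    rw [Finset.sum_comm, Finset.mul_sum]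
    refine Finset.sum_congr rfl (fun k _ => ?_)
    rw [← Finset.mul_sum, kernel_sq χ g k, hχ1]
    field_simp
  refine ⟨(n : ℝ) / (Nat.card G : ℝ) * ∑ h : G, Complex.normSq (w h), ?_, ?_⟩
  · apply mul_nonneg
    · positivity
    · exact Finset.sum_nonneg (fun h _ => Complex.normSq_nonneg _)
  · have h2 : ∑ g : G, ∑ k : G, conj (v g) * (χ : G → ℂ) (g * k⁻¹) * v k =
        (n : ℂ) / (Nat.card G : ℂ) * ∑ h : G, conj (w h) * w h := by
      rw [key]
      field_simp
    rw [h2]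
    push_cast
    congr 1
    refine Finset.sum_congr rfl (fun h _ => ?_)
    rw [mul_comm, Complex.mul_conj]

/-- **INV2**: for an irreducible character and `x * x = 1`, `y * y = 1`:
`χ 1 + χ (x * y) - χ x - χ y` is a nonnegative real number. -/
theorem invol_bound (χ : IrrCharacter G) {x y : G} (hx : x * x = 1) (hy : y * y = 1) :
    ∃ r : ℝ, 0 ≤ r ∧
      (χ : G → ℂ) 1 + (χ : G → ℂ) (x * y) - (χ : G → ℂ) x - (χ : G → ℂ) y = (r : ℂ) := by
  classical
  have hxinv : x⁻¹ = x := inv_eq_of_mul_eq_one_right hx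
  have hyinv : y⁻¹ = y := inv_eq_of_mul_eq_one_right hy
  set v : G → ℂ := fun g => (if g = 1 then 1 else 0) - (if g = x then 1 else 0) -
    (if g = y then 1 else 0) + (if g = x * y then 1 else 0) with hv
  obtain ⟨r, hr0, hr⟩ := irr_psd χ v
  have hconjv : ∀ g : G, conj (v g) = v g := by
    intro g
    simp only [hv, map_add, map_sub, apply_ite (starRingEnd ℂ), map_one, map_zero]
  -- inner sums
  have hinner : ∀ a : G, ∑ k : G, (χ : G → ℂ) (a * k⁻¹) * v k =
      (χ : G → ℂ) (a * 1⁻¹) - (χ : G → ℂ) (a * x⁻¹) - (χ : G → ℂ) (a * y⁻¹) +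
        (χ : G → ℂ) (a * (x * y)⁻¹) := by
    intro a
    simp only [hv, mul_add, mul_sub, mul_ite, mul_one, mul_zero, Finset.sum_add_distrib,
      Finset.sum_sub_distrib, Finset.sum_ite_eq', Finset.mem_univ, if_true]
  have houter : ∑ g : G, ∑ k : G, conj (v g) * (χ : G → ℂ) (g * k⁻¹) * v k =
      (∑ k : G, (χ : G → ℂ) (1 * k⁻¹) * v k) - (∑ k : G, (χ : G → ℂ) (x * k⁻¹) * v k) -
        (∑ k : G, (χ : G → ℂ) (y * k⁻¹) * v k) + (∑ k : G, (χ : G → ℂ) (x * y * k⁻¹) * v k) := by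
    have h1 : ∀ g : G, ∑ k : G, conj (v g) * (χ : G → ℂ) (g * k⁻¹) * v k =
        v g * ∑ k : G, (χ : G → ℂ) (g * k⁻¹) * v k := by
      intro g
      rw [hconjv g, Finset.mul_sum]
      refine Finset.sum_congr rfl (fun k _ => ?_)
      ring
    simp_rw [h1]
    simp only [hv, add_mul, sub_mul, ite_mul, one_mul, zero_mul, Finset.sum_add_distrib,
      Finset.sum_sub_distrib, Finset.sum_ite_eq', Finset.mem_univ, if_true]
  rw [houter, hinner, hinner, hinner, hinner] at hr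
  -- simplify the sixteen values
  have e1 : (χ : G → ℂ) (x * (x * y)⁻¹) = (χ : G → ℂ) y := by
    have : x * (x * y)⁻¹ = x * y * x⁻¹ := by rw [mul_inv_rev, hxinv, hyinv]; group
    rw [this, irr_conj]
  have e2 : (χ : G → ℂ) (y * (x * y)⁻¹) = (χ : G → ℂ) x := by
    have : y * (x * y)⁻¹ = x := by rw [mul_inv_rev, hxinv, hyinv, ← mul_assoc, hy, one_mul]
    rw [this]
  have e3 : (χ : G → ℂ) (x * y * x⁻¹) = (χ : G → ℂ) y := irr_conj χ y x
  have e4 : (χ : G → ℂ) (x * y * y⁻¹) = (χ : G → ℂ) x := by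
    rw [mul_assoc, mul_inv_cancel, mul_one]
  have e5 : (χ : G → ℂ) (x * y * (x * y)⁻¹) = (χ : G → ℂ) 1 := by rw [mul_inv_cancel]
  have e6 : (χ : G → ℂ) ((x * y)⁻¹) = (χ : G → ℂ) (x * y) := by
    have : (x * y)⁻¹ = x * (x * y) * x⁻¹ := by
      rw [mul_inv_rev, hxinv, hyinv, ← mul_assoc, hx, one_mul]
    rw [this, irr_conj]
  have e7 : (χ : G → ℂ) (y * x⁻¹) = (χ : G → ℂ) (x * y) := by
    have : y * x⁻¹ = x * (x * y) * x⁻¹ := by
      rw [hxinv, ← mul_assoc, hx, one_mul]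
    rw [this, irr_conj]
  have e8 : (χ : G → ℂ) (x * y⁻¹) = (χ : G → ℂ) (x * y) := by rw [hyinv]
  simp only [inv_one, mul_one, one_mul, e1, e2, e3, e4, e5, e6, e7, e8] at hr
  rw [hxinv, hyinv, hx, hy] at hr
  refine ⟨r / 4, by positivity, ?_⟩
  push_cast
  linear_combination (1 / 4 : ℂ) * hr

end Cfsg.Agent.Lib.H18.SH
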