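import Mathlib

/-!
# Invariant biadditive maps on a finite field (helper18)

For the Schur multiplier of `SL₂(q)`: a biadditive map `b : F × F → M` invariant under
`(x, y) ↦ (t² x, t² y)` vanishes, as soon as there is a nonzero square `s` with `1 + s` a nonzero
square and `s² + s + 1 ≠ 0`; such an `s` exists when `q` is not a prime and `q ≠ 4, 9`.
-/

set_option autoImplicit false

namespace Cfsg.Agent.Lib.H18.SL2Mult

open Polynomial

/-- a biadditive map invariant under multiplication of both arguments by nonzero squares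
vanishes, given a suitable pair of squares. -/
theorem biadd_eq_zero {F : Type*} [Field F] {M : Type*} [AddCommGroup M] (b : F → F → M)
    (hadd₁ : ∀ x x' y, b (x + x') y = b x y + b x' y)
    (hadd₂ : ∀ x y y', b x (y + y') = b x y + b x y')
    (hinv : ∀ t : F, t ≠ 0 → ∀ x y, b (t * t * x) (t * t * y) = b x y)
    (y0 w0 : F) (hy0 : y0 ≠ 0) (hw0 : w0 ≠ 0) (hyw : 1 + y0 * y0 = w0 * w0)
    (hne : (y0 * y0) * (y0 * y0) + y0 * y0 + 1 ≠ 0) (x y : F) : b x y = 0 := by
  have h0 : ∀ x, b x 0 = 0 := by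
    intro x
    have := hadd₂ x 0 0
    rw [add_zero] at this
    exact left_eq_add.1 this
  have hneg : ∀ x y, b x (-y) = - b x y := by
    intro x y
    have := hadd₂ x y (-y)
    rw [add_neg_cancel, h0] at this
    exact (neg_eq_of_add_eq_zero_right this.symm).symm
  have hsub : ∀ x y y', b x (y - y') = b x y - b x y' := by
    intro x y y'
    rw [sub_eq_add_neg, hadd₂, hneg, ← sub_eq_add_neg]
  have hs : ∀ t : F, t ≠ 0 → ∀ x y, b (t * t * x) y = b x ((t * t)⁻¹ * y) := by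
    intro t ht x y
    have htt : t * t ≠ 0 := mul_ne_zero ht ht
    have := hinv t ht x ((t * t)⁻¹ * y)
    rw [← mul_assoc, mul_inv_cancel₀ htt, one_mul] at this
    exact this
  set s := y0 * y0 with hs_def
  set s' := w0 * w0 with hs'_def
  have hs0 : s ≠ 0 := mul_ne_zero hy0 hy0
  have hs'0 : s' ≠ 0 := mul_ne_zero hw0 hw0
  have key : ∀ x y, b x (s'⁻¹ * y - (y + s⁻¹ * y)) = 0 := by
    intro x y
    have e1 : b (s' * x) y = b x (s'⁻¹ * y) := hs w0 hw0 x y
    have e2 : b (s' * x) y = b x (y + s⁻¹ * y) := by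
      rw [← hyw, add_mul, one_mul, hadd₁, hs y0 hy0, hadd₂]
    rw [hsub, ← e1, ← e2, sub_self]
  set κ : F := s'⁻¹ - 1 - s⁻¹ with hκ
  have hκ0 : κ ≠ 0 := by
    intro h
    apply hne
    have h1 : κ * (s * s') = 0 := by rw [h, zero_mul]
    have h2 : κ * (s * s') = s - s * s' - s' := by
      rw [hκ]
      field_simp
    rw [h2, ← hyw] at h1
    linear_combination -h1
  have h1 := key x (κ⁻¹ * y)
  have h2 : s'⁻¹ * (κ⁻¹ * y) - (κ⁻¹ * y + s⁻¹ * (κ⁻¹ * y)) = y := by
    have : s'⁻¹ * (κ⁻¹ * y) - (κ⁻¹ * y + s⁻¹ * (κ⁻¹ * y)) = κ * (κ⁻¹ * y) := by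
      rw [hκ]; ring
    rw [this, ← mul_assoc, mul_inv_cancel₀ hκ0, one_mul]
  rw [h2] at h1
  exact h1

/-- existence of the parameters in characteristic two. -/
theorem exists_param_two {F : Type*} [Field F] [Fintype F] (h2 : ringChar F = 2)
    (h8 : 8 ≤ Fintype.card F) :
    ∃ y0 w0 : F, y0 ≠ 0 ∧ w0 ≠ 0 ∧ 1 + y0 * y0 = w0 * w0 ∧
      (y0 * y0) * (y0 * y0) + y0 * y0 + 1 ≠ 0 := by
  set f : F[X] := X * (X + 1) * (X ^ 2 + X + 1) with hf
  have hmonic : f.Monic := by
    rw [hf]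
    monicity!
  have hdeg : f.natDegree ≤ 4 := by
    rw [hf]
    compute_degree
  have hlt : (f.natDegree : Cardinal) < Cardinal.mk F := by
    rw [Cardinal.mk_fintype]
    exact_mod_cast lt_of_le_of_lt hdeg (by omega)
  obtain ⟨r, hr⟩ := exists_eval_ne_zero_of_natDegree_lt_card f hmonic.ne_zero hlt
  rw [hf] at hr
  simp only [eval_mul, eval_add, eval_X, eval_one, eval_pow] at hr
  have hr0 : r ≠ 0 := fun h => hr (by rw [h]; ring)
  have hr1 : r + 1 ≠ 0 := fun h => hr (by rw [h]; ring)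
  have hr2 : r ^ 2 + r + 1 ≠ 0 := fun h => hr (by rw [h]; ring)
  obtain ⟨y0, hy0⟩ := FiniteField.isSquare_of_char_two h2 r
  obtain ⟨w0, hw0⟩ := FiniteField.isSquare_of_char_two h2 (1 + r)
  refine ⟨y0, w0, ?_, ?_, ?_, ?_⟩
  · rintro rfl
    exact hr0 (by rw [hy0]; ring)
  · rintro rfl
    exact hr1 (by rw [add_comm, hw0]; ring)
  · rw [← hy0, hw0]
  · rw [← hy0]
    intro h
    exact hr2 (by linear_combination h)

/-- existence of the parameters in odd characteristic. -/
theorem exists_param_odd {F : Type*} [Field F] [Fintype F] (h2 : (2 : F) ≠ 0)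
    (h14 : 14 ≤ Fintype.card F) :
    ∃ y0 w0 : F, y0 ≠ 0 ∧ w0 ≠ 0 ∧ 1 + y0 * y0 = w0 * w0 ∧
      (y0 * y0) * (y0 * y0) + y0 * y0 + 1 ≠ 0 := by
  set g : F[X] := (X ^ 2 - 1) ^ 4 + (C 4 * X ^ 2 * (X ^ 2 - 1) ^ 2 + C 16 * X ^ 4) with hg
  set f : F[X] := X * (X ^ 4 - 1) * g with hf
  have hgmonic : g.Monic := by
    rw [hg]
    monicity!
  have hmonic : f.Monic := by
    rw [hf]
    refine Monic.mul (Monic.mul monic_X ?_) hgmonic
    monicity!
  have hdeg : f.natDegree ≤ 13 := by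
    rw [hf, hg]
    compute_degree
  have hlt : (f.natDegree : Cardinal) < Cardinal.mk F := by
    rw [Cardinal.mk_fintype]
    exact_mod_cast lt_of_le_of_lt hdeg (by omega)
  obtain ⟨r, hr⟩ := exists_eval_ne_zero_of_natDegree_lt_card f hmonic.ne_zero hlt
  rw [hf, hg] at hr
  simp only [eval_mul, eval_add, eval_sub, eval_X, eval_one, eval_pow, eval_C] at hr
  have hr0 : r ≠ 0 := fun h => hr (by rw [h]; ring)
  have hr4 : r ^ 4 - 1 ≠ 0 := fun h => hr (by rw [h]; ring)
  have hrg : (r ^ 2 - 1) ^ 4 + (4 * r ^ 2 * (r ^ 2 - 1) ^ 2 + 16 * r ^ 4) ≠ 0 :=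
    fun h => hr (by rw [h]; ring)
  have h4 : (4 : F) ≠ 0 := by
    have : (4 : F) = 2 * 2 := by norm_num
    rw [this]
    exact mul_ne_zero h2 h2
  refine ⟨(r - r⁻¹) / 2, (r + r⁻¹) / 2, ?_, ?_, ?_, ?_⟩
  · intro h
    apply hr4
    have h1 : r - r⁻¹ = 0 := by
      rcases div_eq_zero_iff.1 h with h | h
      · exact h
      · exact absurd h h2
    have h3 : r * r = 1 := by
      have : r * (r - r⁻¹) = 0 := by rw [h1, mul_zero]
      rw [mul_sub, mul_inv_cancel₀ hr0] at this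
      linear_combination this
    linear_combination (r * r + 1) * h3
  · intro h
    apply hr4
    have h1 : r + r⁻¹ = 0 := by
      rcases div_eq_zero_iff.1 h with h | h
      · exact h
      · exact absurd h h2
    have h3 : r * r = -1 := by
      have : r * (r + r⁻¹) = 0 := by rw [h1, mul_zero]
      rw [mul_add, mul_inv_cancel₀ hr0] at this
      linear_combination this
    linear_combination (r * r - 1) * h3
  · field_simp
    ring
  · intro h
    apply hrg
    have h5 : ((r - r⁻¹) / 2 * ((r - r⁻¹) / 2)) = (r ^ 2 - 1) ^ 2 / (4 * r ^ 2) := by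
      field_simp
      ring
    rw [h5] at h
    have h6 : (4 * r ^ 2 : F) ≠ 0 := mul_ne_zero h4 (pow_ne_zero 2 hr0)
    field_simp at h
    linear_combination h

/-- existence of the parameters: `q` not a prime and `q ≠ 4, 9`. -/
theorem exists_param {F : Type*} [Field F] [Fintype F] (h4 : Fintype.card F ≠ 4)
    (h9 : Fintype.card F ≠ 9) (hnp : ¬ (Fintype.card F).Prime) :
    ∃ y0 w0 : F, y0 ≠ 0 ∧ w0 ≠ 0 ∧ 1 + y0 * y0 = w0 * w0 ∧
      (y0 * y0) * (y0 * y0) + y0 * y0 + 1 ≠ 0 := by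
  obtain ⟨p, hchar⟩ := CharP.exists F
  obtain ⟨n, hp, hn⟩ := FiniteField.card F p
  have hn2 : 2 ≤ (n : ℕ) := by
    by_contra hlt
    have h1 : (n : ℕ) = 1 := by
      have := n.pos
      omega
    rw [h1, pow_one] at hn
    exact hnp (hn ▸ hp)
  rcases hp.eq_two_or_odd' with h2 | hodd
  · subst h2
    have hn3 : 3 ≤ (n : ℕ) := by
      by_contra hlt
      have h1 : (n : ℕ) = 2 := by omega
      rw [h1] at hn
      exact h4 (by rw [hn]; norm_num)
    apply exists_param_two (ringChar.eq F 2)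
    rw [hn]
    calc 8 = 2 ^ 3 := by norm_num
      _ ≤ 2 ^ (n : ℕ) := Nat.pow_le_pow_right (by norm_num) hn3
  · have hp3 : 3 ≤ p := by
      have := hp.two_le
      rcases hodd with ⟨k, hk⟩
      omega
    have h2F : (2 : F) ≠ 0 := by
      intro h
      have : ((2 : ℕ) : F) = 0 := by exact_mod_cast h
      rw [CharP.cast_eq_zero_iff F p] at this
      have := Nat.le_of_dvd (by norm_num) this
      omega
    apply exists_param_odd h2F
    rw [hn]
    rcases Nat.lt_or_ge p 5 with h5 | h5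
    · have hp3' : p = 3 := by
        rcases hodd with ⟨k, hk⟩
        omega
      subst hp3'
      have hn3 : 3 ≤ (n : ℕ) := by
        by_contra hlt
        have h1 : (n : ℕ) = 2 := by omega
        rw [h1] at hn
        exact h9 (by rw [hn]; norm_num)
      calc 14 ≤ 3 ^ 3 := by norm_num
        _ ≤ 3 ^ (n : ℕ) := Nat.pow_le_pow_right (by norm_num) hn3
    · calc 14 ≤ 5 ^ 2 := by norm_num
        _ ≤ p ^ 2 := Nat.pow_le_pow_left h5 2
        _ ≤ p ^ (n : ℕ) := Nat.pow_le_pow_right (by omega) hn2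

end Cfsg.Agent.Lib.H18.SL2Mult
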