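import Mathlib
import Cfsg.Agent.Lib.H18.SL2Pow
import Cfsg.Agent.Lib.H18.SpinCover2
import Cfsg.Agent.Lib.H12.CardSL

/-!
# `SL₂(𝔽₉)` is the double cover of the alternating group of degree 6 (helper18)
-/

set_option autoImplicit false

namespace Cfsg.Agent.Lib.H18.SL2Nine

open Matrix Cfsg.Agent.Lib.H18

section Ring

variable {R : Type*} [CommRing R]

theorem sl2_sq_of_trace_zero (g : SpecialLinearGroup (Fin 2) R) (ht : g.1 0 0 + g.1 1 1 = 0) :
    g ^ 2 = -1 := by
  apply Subtype.ext
  change g.1 ^ 2 = -(1 : Matrix (Fin 2) (Fin 2) R)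
  rw [pow_two, sl2_mul_self, ht, zero_smul, zero_sub]

theorem sl2_cube_of_trace_two (h3 : (3 : R) = 0) (g : SpecialLinearGroup (Fin 2) R)
    (ht : g.1 0 0 + g.1 1 1 = 2) : g ^ 3 = 1 := by
  apply Subtype.ext
  change g.1 ^ 3 = (1 : Matrix (Fin 2) (Fin 2) R)
  rw [pow_succ, pow_two, sl2_mul_self, ht, sub_mul, smul_mul_assoc, sl2_mul_self, ht, one_mul]
  ext i j
  fin_cases i <;> fin_cases j
  · simp
    linear_combination (g.1 0 0 - 1) * h3
  · simp
    linear_combination (g.1 0 1) * h3
  · simp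
    linear_combination (g.1 1 0) * h3
  · simp
    linear_combination (g.1 1 1 - 1) * h3

end Ring

section Field

variable {F : Type*} [Field F]

/-- The four unipotent matrices. -/
def Umat (i : F) : Fin 4 → Matrix (Fin 2) (Fin 2) F :=
  ![!![1, 1; 0, 1], !![1, 0; 1, 1], !![1 + i, 1; 1, 1 - i], !![1 - i, 1; 1, 1 + i]]

theorem det_Umat (i : F) (hi : i * i = -1) (k : Fin 4) : (Umat i k).det = 1 := by
  fin_cases k
  · simp [Umat, Matrix.det_fin_two]
  · simp [Umat, Matrix.det_fin_two]
  · simp [Umat, Matrix.det_fin_two]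
    linear_combination (-1 : F) * hi
  · simp [Umat, Matrix.det_fin_two]
    linear_combination (-1 : F) * hi

/-- The four unipotent elements. -/
def U (i : F) (hi : i * i = -1) (k : Fin 4) : SpecialLinearGroup (Fin 2) F :=
  ⟨Umat i k, det_Umat i hi k⟩

theorem trace_U (i : F) (hi : i * i = -1) (k : Fin 4) : (U i hi k).1 0 0 + (U i hi k).1 1 1 = 2 := by
  fin_cases k <;> simp [U, Umat] <;> ring

theorem trace_Umat_mul (i : F) (hi : i * i = -1) (h3 : (3 : F) = 0) (j k : Fin 4) (hjk : j ≠ k) :
    (Umat i j * Umat i k) 0 0 + (Umat i j * Umat i k) 1 1 = 0 := by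
  fin_cases j <;> fin_cases k <;> first | exact absurd rfl hjk | skip
  all_goals simp [Umat, Matrix.mul_apply, Fin.sum_univ_two]
  all_goals first | linear_combination h3 | linear_combination 2 * h3 - 2 * hi

theorem trace_U_mul (i : F) (hi : i * i = -1) (h3 : (3 : F) = 0) (j k : Fin 4) (hjk : j ≠ k) :
    (U i hi j * U i hi k).1 0 0 + (U i hi j * U i hi k).1 1 1 = 0 := by
  exact trace_Umat_mul i hi h3 j k hjk

theorem neg_one_ne_one (h3 : (3 : F) = 0) : (-1 : SpecialLinearGroup (Fin 2) F) ≠ 1 := by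
  intro h
  have h1 := congrArg (fun g : SpecialLinearGroup (Fin 2) F => g.1 0 0) h
  simp at h1
  have h2 : (2 : F) = 0 := by linear_combination (-1 : F) * h1
  have : (1 : F) = 0 := by linear_combination h3 - h2
  exact one_ne_zero this

/-- The homomorphism from the double cover. -/
noncomputable def ρ (i : F) (hi : i * i = -1) (h3 : (3 : F) = 0) :
    SpinCover.P 4 →* SpecialLinearGroup (Fin 2) F :=
  SpinCover.homOf (-1) (U i hi)
    (fun k => sl2_cube_of_trace_two h3 _ (trace_U i hi k))
    (fun j k hjk => sl2_sq_of_trace_zero _ (trace_U_mul i hi h3 j k hjk))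
    (by rw [neg_sq, one_pow]) (fun k => by rw [neg_one_mul, mul_neg_one])

theorem ρ_z (i : F) (hi : i * i = -1) (h3 : (3 : F) = 0) : ρ i hi h3 SpinCover.z = -1 := by
  rw [ρ, SpinCover.homOf_z]

theorem ρ_injective (i : F) (hi : i * i = -1) (h3 : (3 : F) = 0) :
    Function.Injective (ρ i hi h3) := by
  rw [← MonoidHom.ker_eq_bot_iff]
  set N := (ρ i hi h3).ker with hN
  have hzN : SpinCover.z ∉ N := by
    intro h
    rw [hN, MonoidHom.mem_ker, ρ_z] at h
    exact neg_one_ne_one h3 h
  haveI hsimple : IsSimpleGroup (alternatingGroup (Fin (4 + 2))) :=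
    alternatingGroup.isSimpleGroup (by rw [Nat.card_fin]; norm_num)
  haveI hMn : (N.map (SpinCover.φ : SpinCover.P 4 →* _)).Normal :=
    Subgroup.Normal.map inferInstance _ SpinCover.φ_surjective
  rcases hMn.eq_bot_or_eq_top with hM | hM
  · -- `N ≤ ker φ = {1, z}`
    rw [eq_bot_iff]
    intro g hg
    have h1 : SpinCover.φ g ∈ N.map (SpinCover.φ : SpinCover.P 4 →* _) := ⟨g, hg, rfl⟩
    rw [hM, Subgroup.mem_bot] at h1
    rcases SpinCover.ker_φ h1 with h | h
    · rw [h]; exact Subgroup.one_mem _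
    · exfalso; exact hzN (h ▸ hg)
  · -- `N` would be a complement of the centre
    exfalso
    apply SpinCover.nonsplit (m := 4) (by norm_num) N
    rw [SpinCover.center_P (by norm_num)]
    refine Subgroup.isComplement'_of_disjoint_and_mul_eq_univ ?_ ?_
    · rw [Subgroup.disjoint_def]
      intro x hx hxN
      obtain ⟨k, rfl⟩ := Subgroup.mem_zpowers_iff.mp hx
      rcases Int.even_or_odd k with ⟨j, rfl⟩ | ⟨j, rfl⟩
      · rw [← two_mul, _root_.zpow_mul, zpow_ofNat, SpinCover.z_sq, _root_.one_zpow]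
      · exfalso
        rw [_root_.zpow_add, _root_.zpow_mul, zpow_ofNat, SpinCover.z_sq, _root_.one_zpow, one_mul, zpow_one] at hxN
        exact hzN hxN
    · rw [Set.eq_univ_iff_forall]
      intro g
      have h1 : SpinCover.φ g ∈ N.map (SpinCover.φ : SpinCover.P 4 →* _) := by
        rw [hM]; trivial
      obtain ⟨n, hn, hng⟩ := h1
      have h2 : SpinCover.φ (g * n⁻¹) = 1 := by rw [map_mul, map_inv, hng, mul_inv_cancel]
      rcases SpinCover.ker_φ h2 with h | h
      · refine ⟨1, Subgroup.one_mem _, n, hn, ?_⟩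
        have : g = n := by
          have := mul_inv_eq_one.mp h
          exact this
        simp [this]
      · refine ⟨SpinCover.z, Subgroup.mem_zpowers _, n, hn, ?_⟩
        simp only
        rw [← h]; group

end Field

theorem card_P (m : ℕ) : Nat.card (SpinCover.P m) = (m + 2).factorial := by
  haveI := SpinCover.finite_P (m := m)
  rw [Subgroup.card_eq_card_quotient_mul_card_subgroup
    (Subgroup.zpowers (SpinCover.z : SpinCover.P m)), Nat.card_zpowers, SpinCover.orderOf_z,
    Nat.card_congr (MulEquiv.ofBijective SpinCover.φbar SpinCover.φbar_bijective).toEquiv]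
  haveI : Nontrivial (Fin (m + 2)) := ⟨⟨0, 1, AltStem.zero_ne_one'⟩⟩
  have h2 := two_mul_nat_card_alternatingGroup (α := Fin (m + 2))
  rw [Nat.card_perm, Nat.card_fin] at h2
  omega

/-- **`SL₂(𝔽₉)` is the double cover of the alternating group of degree 6.** -/
theorem nonempty_mulEquiv {F : Type*} [Field F] [Fintype F] (hF : Fintype.card F = 9) :
    Nonempty (SpinCover.P 4 ≃* SpecialLinearGroup (Fin 2) F) := by
  have h9 : (9 : F) = 0 := by
    have := FiniteField.cast_card_eq_zero F
    rw [hF] at this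
    exact_mod_cast this
  have h3 : (3 : F) = 0 := by
    have : (3 : F) * 3 = 0 := by rw [← h9]; norm_num
    exact (mul_self_eq_zero.mp this)
  obtain ⟨i, hi⟩ : IsSquare (-1 : F) := FiniteField.isSquare_neg_one_iff.mpr (by rw [hF]; decide)
  have hinj := ρ_injective i hi.symm h3
  haveI := SpinCover.finite_P (m := 4)
  have hbij : Function.Bijective (ρ i hi.symm h3) := by
    apply hinj.bijective_of_nat_card_le
    rw [card_P, Cfsg.Agent.Lib.H12.card_SL2, hF]
    decide
  exact ⟨MulEquiv.ofBijective _ hbij⟩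

end Cfsg.Agent.Lib.H18.SL2Nine
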