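import Mathlib
import Cfsg.Agent.Lib.H4.SLKDefs
import Cfsg.Agent.Lib.H2.SLKP02

/-!
# S2479 piece P10 (helper4 architect): `exists_commuting_end`

For a decomposition `D` of `V` as `F[X]`-module into primary cyclic modules, a block `i` and a polynomial `p`,
there is an endomorphism of `V` commuting with `f` whose determinant is the determinant of the multiplication
by `p` on the block `i`.
-/

set_option autoImplicit false
open Polynomial

namespace Cfsg.Agent.Lib.H18.SLK

open Cfsg.Agent.Lib.H12.Cls Cfsg.Agent.Lib.H4.SLK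

universe u v
variable {F : Type u} [Field F]

/-- multiplication by `1` has determinant one -/
theorem nd_one' (M : Type*) [AddCommGroup M] [Module F M] [Module F[X] M] [IsScalarTower F F[X] M] :
    nd M (1 : F[X]) = 1 := by
  unfold nd
  have : ((LinearMap.lsmul F[X] M (1 : F[X])).restrictScalars F) = LinearMap.id := by
    ext m
    simp
  rw [this, LinearMap.det_id]

/-- T2B -/
theorem exists_commuting_end {V : Type v} [AddCommGroup V] [Module F V] [FiniteDimensional F V]
    {f : Module.End F V} (D : TypeData f) (i : D.ι) (p : F[X]) :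
    ∃ y : Module.End F V, y * f = f * y ∧ LinearMap.det y = nd (Cyc F (D.c i)) p := by
  classical
  have : ∀ k, Module.Finite F (Cyc F (D.c k)) := fun k => finite_cyc _ (D.monic k)
  -- the multipliers
  let q : D.ι → F[X] := fun k => if k = i then p else 1
  -- the blockwise multiplications
  let fk : ∀ k, Cyc F (D.c k) →ₗ[F] Cyc F (D.c k) :=
    fun k => (LinearMap.lsmul F[X] (Cyc F (D.c k)) (q k)).restrictScalars F
  let E : (∀ k, Cyc F (D.c k)) →ₗ[F] (∀ k, Cyc F (D.c k)) :=
    LinearMap.pi (fun k => (fk k).comp (LinearMap.proj k))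
  have hE : ∀ (w : ∀ k, Cyc F (D.c k)) (k : D.ι), E w k = q k • w k := fun w k => rfl
  have hEX : ∀ w : ∀ k, Cyc F (D.c k), E ((X : F[X]) • w) = (X : F[X]) • E w := by
    intro w
    funext k
    rw [hE, Pi.smul_apply, Pi.smul_apply, hE, smul_comm]
  -- the identification of `V` with the product
  let Φ : V ≃ₗ[F] ∀ k, Cyc F (D.c k) := (Module.AEval'.of f) ≪≫ₗ D.iso.restrictScalars F
  have hΦf : ∀ v : V, Φ (f v) = (X : F[X]) • Φ v := by
    intro v
    change D.iso (Module.AEval'.of f (f v)) = (X : F[X]) • D.iso (Module.AEval'.of f v)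
    rw [← Module.AEval'.X_smul_of, map_smul]
  have hΦs : ∀ w : ∀ k, Cyc F (D.c k), Φ.symm ((X : F[X]) • w) = f (Φ.symm w) := by
    intro w
    apply Φ.injective
    rw [LinearEquiv.apply_symm_apply, hΦf, LinearEquiv.apply_symm_apply]
  refine ⟨(Φ.symm : (∀ k, Cyc F (D.c k)) →ₗ[F] V) ∘ₗ E ∘ₗ (Φ : V →ₗ[F] ∀ k, Cyc F (D.c k)), ?_, ?_⟩
  · apply LinearMap.ext
    intro v
    simp only [Module.End.mul_apply, LinearMap.comp_apply, LinearEquiv.coe_coe]
    rw [hΦf, hEX, hΦs]
  · have h1 : LinearMap.det ((Φ.symm : (∀ k, Cyc F (D.c k)) →ₗ[F] V) ∘ₗ E ∘ₗ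
        (Φ : V →ₗ[F] ∀ k, Cyc F (D.c k))) = LinearMap.det E := by
      have := LinearMap.det_conj E Φ.symm
      rw [LinearEquiv.symm_symm] at this
      exact this
    rw [h1]
    have h2 : LinearMap.det E = ∏ k, LinearMap.det (fk k) :=
      Cfsg.Agent.Lib.H2.SLK.det_pi_dep (fun k => Cyc F (D.c k)) fk
    rw [h2]
    have h3 : ∀ k, LinearMap.det (fk k) = nd (Cyc F (D.c k)) (q k) := fun k => rfl
    rw [Finset.prod_eq_single i]
    · rw [h3]
      simp only [q, if_true]
    · intro k _ hk
      rw [h3]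
      simp only [q, if_neg hk]
      exact nd_one' _
    · intro hi
      exact absurd (Finset.mem_univ i) hi

end Cfsg.Agent.Lib.H18.SLK
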