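import Mathlib
import Cfsg.Agent.S4072
import Cfsg.Agent.S4074

set_option autoImplicit false

namespace Cfsg.Agent.Lib.H18.SNS

open Cfsg.Agent.S4072 (SN)

/-- transport of non-commutativity along an isomorphism -/
theorem sns_not_comm_map {K L : Type*} [Group K] [Group L] (e : K ≃* L) (H : Subgroup K)
    (hH : ¬ IsMulCommutative H) : ¬ IsMulCommutative (H.map e.toMonoidHom) := by
  intro hc
  apply hH
  refine ⟨⟨fun a b => ?_⟩⟩
  obtain ⟨a, ha⟩ := a
  obtain ⟨b, hb⟩ := b
  apply Subtype.ext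
  show a * b = b * a
  have h1 : e a ∈ H.map e.toMonoidHom := ⟨a, ha, rfl⟩
  have h2 : e b ∈ H.map e.toMonoidHom := ⟨b, hb, rfl⟩
  have := hc.is_comm.comm ⟨e a, h1⟩ ⟨e b, h2⟩
  have h3 : e a * e b = e b * e a := congrArg Subtype.val this
  apply e.injective
  rw [map_mul, map_mul, h3]

/-- a normal subgroup whose image under an isomorphism is everything is everything -/
theorem sns_eq_top_of_map {K L : Type*} [Group K] [Group L] (e : K ≃* L) (H : Subgroup K)
    (h : H.map e.toMonoidHom = ⊤) : H = ⊤ := by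
  rw [eq_top_iff]
  intro x _
  have hx : e x ∈ H.map e.toMonoidHom := by rw [h]; trivial
  obtain ⟨y, hy, hyx⟩ := hx
  have : y = x := e.injective hyx
  rwa [← this]

/-- CONV-DIH. -/
theorem na_dihedral {K : Type*} [Group K] (k : ℕ) (hk : Odd k)
    (e : K ≃* DihedralGroup k) (H : Subgroup K) (hHn : H.Normal)
    (hH : ¬ IsMulCommutative H) : H = ⊤ := by
  apply sns_eq_top_of_map e
  have hH' := sns_not_comm_map e H hH
  obtain ⟨i, hi⟩ := Cfsg.Agent.S4074.exists_sr_mem_of_not_comm _ hH'
  have hN := Cfsg.Agent.S4074.normalizer_eq_of_odd hk _ i hi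
  have hnorm : (H.map e.toMonoidHom).Normal :=
    Subgroup.Normal.map hHn e.toMonoidHom e.surjective
  rw [← hN]
  exact Subgroup.normalizer_eq_top (H := H.map e.toMonoidHom)
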