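import Mathlib
import Cfsg.Agent.Lib.H18.SNSDIH

set_option autoImplicit false

namespace Cfsg.Agent.Lib.H18.SNS

/-- a group all of whose elements square to one is commutative (subgroup form) -/
theorem sns_exists_sq_ne_one {L : Type*} [Group L] (H : Subgroup L)
    (hH : ¬ IsMulCommutative H) : ∃ a ∈ H, a * a ≠ 1 := by
  by_contra hcon
  push Not at hcon
  apply hH
  refine ⟨⟨fun a b => ?_⟩⟩
  obtain ⟨a, ha⟩ := a
  obtain ⟨b, hb⟩ := b
  apply Subtype.ext
  show a * b = b * a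
  have h1 := hcon a ha
  have h2 := hcon b hb
  have h3 := hcon (a * b) (H.mul_mem ha hb)
  have ha' : a⁻¹ = a := inv_eq_of_mul_eq_one_right h1
  have hb' : b⁻¹ = b := inv_eq_of_mul_eq_one_right h2
  have h4 : (a * b)⁻¹ = a * b := inv_eq_of_mul_eq_one_right h3
  rw [mul_inv_rev, ha', hb'] at h4
  exact h4.symm

set_option maxRecDepth 100000 in
theorem sns_A4_decide : ∀ a : alternatingGroup (Fin 4), a * a ≠ 1 →
    ∀ x : alternatingGroup (Fin 4), ∃ g h : alternatingGroup (Fin 4),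
      x = g * a * g⁻¹ * (h * a * h⁻¹) ∨ x = g * a * g⁻¹ * (h * a⁻¹ * h⁻¹) ∨
        x = g * a⁻¹ * g⁻¹ * (h * a⁻¹ * h⁻¹) := by
  decide +kernel

/-- CONV-SMALL: A4. -/
theorem na_A4 {K : Type*} [Group K] (e : K ≃* alternatingGroup (Fin 4)) (H : Subgroup K)
    (hHn : H.Normal) (hH : ¬ IsMulCommutative H) : H = ⊤ := by
  apply sns_eq_top_of_map e
  have hH' := sns_not_comm_map e H hH
  have hnorm : (H.map e.toMonoidHom).Normal :=
    Subgroup.Normal.map hHn e.toMonoidHom e.surjective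
  obtain ⟨a, ha, haa⟩ := sns_exists_sq_ne_one _ hH'
  rw [eq_top_iff]
  intro x _
  have hai : a⁻¹ ∈ H.map e.toMonoidHom := inv_mem ha
  obtain ⟨g, h, hx | hx | hx⟩ := sns_A4_decide a haa x
  · rw [hx]; exact mul_mem (hnorm.conj_mem a ha g) (hnorm.conj_mem a ha h)
  · rw [hx]; exact mul_mem (hnorm.conj_mem a ha g) (hnorm.conj_mem _ hai h)
  · rw [hx]; exact mul_mem (hnorm.conj_mem _ hai g) (hnorm.conj_mem _ hai h)

/-- CONV-SMALL: A5. -/
theorem na_A5 {K : Type*} [Group K] (e : K ≃* alternatingGroup (Fin 5)) (H : Subgroup K)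
    (hHn : H.Normal) (hH : ¬ IsMulCommutative H) : H = ⊤ := by
  apply sns_eq_top_of_map e
  have hH' := sns_not_comm_map e H hH
  have hnorm : (H.map e.toMonoidHom).Normal :=
    Subgroup.Normal.map hHn e.toMonoidHom e.surjective
  rcases hnorm.eq_bot_or_eq_top with hb | ht
  · exfalso
    apply hH'
    refine ⟨⟨fun a b => ?_⟩⟩
    obtain ⟨a, ha⟩ := a
    obtain ⟨b, hb'⟩ := b
    apply Subtype.ext
    show a * b = b * a
    rw [hb, Subgroup.mem_bot] at ha hb'
    rw [ha, hb']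
  · exact ht

theorem sns_S4_decide :
    (c[(0 : Fin 4), 1, 2, 3] : Equiv.Perm (Fin 4)) ≠ 1 ∧
    (Equiv.swap (0 : Fin 4) 1 * Equiv.swap 2 3 : Equiv.Perm (Fin 4)) ≠ 1 ∧
    (Equiv.swap (0 : Fin 4) 2 * Equiv.swap 1 3 : Equiv.Perm (Fin 4)) ≠ 1 ∧
    (c[(0 : Fin 4), 1, 2, 3] : Equiv.Perm (Fin 4)) * (Equiv.swap (0 : Fin 4) 2 * Equiv.swap 1 3) =
      (Equiv.swap (0 : Fin 4) 2 * Equiv.swap 1 3) * c[(0 : Fin 4), 1, 2, 3] ∧
    (Equiv.swap (0 : Fin 4) 2 * Equiv.swap 1 3 : Equiv.Perm (Fin 4)) *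
        (Equiv.swap (0 : Fin 4) 1 * Equiv.swap 2 3) =
      (Equiv.swap (0 : Fin 4) 1 * Equiv.swap 2 3) * (Equiv.swap (0 : Fin 4) 2 * Equiv.swap 1 3) ∧
    (c[(0 : Fin 4), 1, 2, 3] : Equiv.Perm (Fin 4)) * (Equiv.swap (0 : Fin 4) 1 * Equiv.swap 2 3) ≠
      (Equiv.swap (0 : Fin 4) 1 * Equiv.swap 2 3) * c[(0 : Fin 4), 1, 2, 3] := by
  decide

/-- CONV-SMALL: no S4 in a group with commuting-transitivity. -/
theorem no_S4 {G : Type*} [Group G]
    (hct : ∀ a b c : G, a ≠ 1 → b ≠ 1 → c ≠ 1 → Commute a b → Commute b c → Commute a c)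
    (K : Subgroup G) (e : K ≃* Equiv.Perm (Fin 4)) : False := by
  obtain ⟨h1, h2, h3, h4, h5, h6⟩ := sns_S4_decide
  set a' : Equiv.Perm (Fin 4) := c[(0 : Fin 4), 1, 2, 3] with ha'
  set b' : Equiv.Perm (Fin 4) := Equiv.swap (0 : Fin 4) 1 * Equiv.swap 2 3 with hb'
  set c' : Equiv.Perm (Fin 4) := Equiv.swap (0 : Fin 4) 2 * Equiv.swap 1 3 with hc'
  have hne : ∀ σ : Equiv.Perm (Fin 4), σ ≠ 1 → ((e.symm σ : K) : G) ≠ 1 := by
    intro σ hσ h
    apply hσ
    have : e.symm σ = 1 := Subtype.ext h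
    have h' := congrArg e this
    simpa using h'
  have hcomm : ∀ σ τ : Equiv.Perm (Fin 4), σ * τ = τ * σ →
      Commute ((e.symm σ : K) : G) ((e.symm τ : K) : G) := by
    intro σ τ h
    show ((e.symm σ : K) : G) * ((e.symm τ : K) : G) = ((e.symm τ : K) : G) * ((e.symm σ : K) : G)
    rw [← Subgroup.coe_mul, ← Subgroup.coe_mul, ← map_mul, ← map_mul, h]
  have hab := hct _ _ _ (hne a' h1) (hne c' h3) (hne b' h2) (hcomm a' c' h4) (hcomm c' b' h5)
  apply h6
  have h7 : ((e.symm a' : K) : G) * ((e.symm b' : K) : G) =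
      ((e.symm b' : K) : G) * ((e.symm a' : K) : G) := hab
  rw [← Subgroup.coe_mul, ← Subgroup.coe_mul, ← map_mul, ← map_mul] at h7
  exact e.symm.injective (Subtype.ext h7)

/-- CONV-SMALL: groups of order 6. -/
theorem na_card_six {K : Type*} [Group K] [Finite K] (hK : Nat.card K = 6) (H : Subgroup K)
    (hHn : H.Normal) (hH : ¬ IsMulCommutative H) : H = ⊤ := by
  have hdvd : Nat.card H ∣ 6 := hK ▸ Subgroup.card_subgroup_dvd_card H
  have hcyc : ∀ [IsCyclic H], False := by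
    intro hc
    apply hH
    refine ⟨⟨fun a b => ?_⟩⟩
    exact (IsCyclic.commGroup (α := H)).mul_comm a b
  have hle : Nat.card H ≤ 6 := Nat.le_of_dvd (by norm_num) hdvd
  have hpos : 0 < Nat.card H := Nat.card_pos
  have h6 : Nat.card H = 6 := by
    interval_cases hn : Nat.card H
    · exfalso
      have hs : Subsingleton H := (Nat.card_eq_one_iff_unique.mp hn).1
      have : IsCyclic H := isCyclic_of_subsingleton
      exact hcyc
    · exfalso
      have : Fact (Nat.Prime 2) := ⟨by norm_num⟩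
      have : IsCyclic H := isCyclic_of_prime_card (p := 2) hn
      exact hcyc
    · exfalso
      have : Fact (Nat.Prime 3) := ⟨by norm_num⟩
      have : IsCyclic H := isCyclic_of_prime_card (p := 3) hn
      exact hcyc
    · exfalso; revert hdvd; decide
    · exfalso; revert hdvd; decide
    · rfl
  exact Subgroup.eq_top_of_card_eq H (by rw [h6, hK])

end Cfsg.Agent.Lib.H18.SNS
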