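import Cfsg.Agent.Lib.H14.UP3B5
import Cfsg.Agent.Lib.H27.SU3Defs

/-!
# SU3-b3 (helper18): `SU_3(p)`, `p ≥ 5` prime, normalises no absolutely irreducible group of order 27 with
centre of order 3.

A unitary transvection `t` has `t ^ (p ^ 2) = 1`; it normalises `R`, so the number of fixed points of the
conjugation by `t` on `R` is `≡ 27 mod p`; the fixed points form a subgroup containing the (scalar) centre, so
their number is 3, 9 or 27, and `p ∤ 24, 18`: `t` centralises `R`.  Hence every element of `R` is scalar.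
-/

set_option autoImplicit false
set_option linter.unusedSectionVars false

namespace Cfsg.Agent.Lib.H18.SU3

open Cfsg Cfsg.Geo Cfsg.Agent.Lib.Lead.Asch Cfsg.Agent.Lib.H27.SU3
open Cfsg.Agent.Lib.H15.SUGen Cfsg.Agent.Lib.H15.UP2
open scoped MatrixGroups Matrix Kronecker

/-- the subgroup of the elements of `R` fixed by the conjugation by `t` -/
def fixSub {G : Type*} [Group G] (R : Subgroup G) (t : G) : Subgroup R where
  carrier := {x | t * x.1 * t⁻¹ = x.1}
  mul_mem' := by
    intro x y hx hy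
    rw [Set.mem_setOf_eq] at hx hy ⊢
    have h1 : t * (x * y : R).1 * t⁻¹ = (t * x.1 * t⁻¹) * (t * y.1 * t⁻¹) := by
      rw [Subgroup.coe_mul]
      group
    rw [h1, hx, hy, Subgroup.coe_mul]
  one_mem' := by
    rw [Set.mem_setOf_eq, Subgroup.coe_one, mul_one, mul_inv_cancel]
  inv_mem' := by
    intro x hx
    rw [Set.mem_setOf_eq] at hx ⊢
    have h1 : t * (x⁻¹ : R).1 * t⁻¹ = (t * x.1 * t⁻¹)⁻¹ := by
      rw [Subgroup.coe_inv]
      group
    rw [h1, hx, Subgroup.coe_inv]

theorem mem_fixSub {G : Type*} [Group G] (R : Subgroup G) (t : G) (x : R) :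
    x ∈ fixSub R t ↔ t * x.1 * t⁻¹ = x.1 := Iff.rfl

theorem not_prime_dvd_24 {p : ℕ} (hp : p.Prime) (hp5 : 5 ≤ p) : ¬ p ∣ 24 := by
  intro h
  have h1 : p ∣ 2 * (2 * (2 * 3)) := h
  rcases (Nat.Prime.dvd_mul hp).1 h1 with h2 | h2
  · have := Nat.le_of_dvd (by norm_num) h2
    omega
  rcases (Nat.Prime.dvd_mul hp).1 h2 with h3 | h3
  · have := Nat.le_of_dvd (by norm_num) h3
    omega
  rcases (Nat.Prime.dvd_mul hp).1 h3 with h4 | h4
  · have := Nat.le_of_dvd (by norm_num) h4
    omega
  · have := Nat.le_of_dvd (by norm_num) h4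
    omega

theorem not_prime_dvd_18 {p : ℕ} (hp : p.Prime) (hp5 : 5 ≤ p) : ¬ p ∣ 18 := by
  intro h
  have h1 : p ∣ 2 * (3 * 3) := h
  rcases (Nat.Prime.dvd_mul hp).1 h1 with h2 | h2
  · have := Nat.le_of_dvd (by norm_num) h2
    omega
  rcases (Nat.Prime.dvd_mul hp).1 h2 with h3 | h3
  · have := Nat.le_of_dvd (by norm_num) h3
    omega
  · have := Nat.le_of_dvd (by norm_num) h3
    omega

/-- an element of `p`-power order, `p ≥ 5`, normalising a group of order 27 and centralising a subgroup of order 3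
of it, centralises it -/
theorem conj_eq_of_pow_eq_one {G : Type*} [Group G] (R : Subgroup G) (t : G) {p k : ℕ} (hp : p.Prime) (hp5 : 5 ≤ p)
    (ht : t ^ p ^ k = 1) (hN : ∀ x ∈ R, t * x * t⁻¹ ∈ R) (hR : Nat.card R = 27)
    (hZ : Nat.card (Subgroup.center R) = 3)
    (hZt : ∀ z : R, z ∈ Subgroup.center R → t * z.1 * t⁻¹ = z.1) :
    ∀ x ∈ R, t * x * t⁻¹ = x := by
  classical
  haveI : Fact p.Prime := ⟨hp⟩
  haveI : Finite R := Nat.finite_of_card_ne_zero (by rw [hR]; norm_num)
  haveI : Fintype R := Fintype.ofFinite R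
  obtain ⟨f, hf⟩ : ∃ f : Function.End R, f = fun x => ⟨t * x.1 * t⁻¹, hN x.1 x.2⟩ := ⟨_, rfl⟩
  have hfx : ∀ x : R, (f x).1 = t * x.1 * t⁻¹ := by
    intro x
    rw [hf]
  have hfpow : ∀ (m : ℕ) (x : R), ((f ^ m) x).1 = t ^ m * x.1 * (t ^ m)⁻¹ := by
    intro m
    induction m with
    | zero =>
      intro x
      rw [pow_zero, pow_zero, one_mul, inv_one, mul_one]
      rfl
    | succ m ih =>
      intro x
      rw [pow_succ']
      change (f ((f ^ m) x)).1 = _
      rw [hfx, ih, pow_succ']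
      group
  have hfp : f ^ p ^ k = 1 := by
    funext x
    apply Subtype.ext
    rw [hfpow, ht, one_mul, inv_one, mul_one]
    rfl
  have hmod := Equiv.Perm.card_fixedPoints_modEq (f := f) hfp
  have hfixcard : Nat.card (Function.fixedPoints f) = Nat.card (fixSub R t) := by
    apply Nat.card_congr
    refine
      { toFun := fun x => ⟨x.1, ?_⟩
        invFun := fun y => ⟨y.1, ?_⟩
        left_inv := fun x => rfl
        right_inv := fun y => rfl }
    · have h1 : f x.1 = x.1 := x.2
      rw [mem_fixSub, ← hfx, h1]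
    · have h1 := (mem_fixSub R t y.1).1 y.2
      show f y.1 = y.1
      apply Subtype.ext
      rw [hfx, h1]
  rw [Fintype.card_eq_nat_card, Fintype.card_eq_nat_card, hfixcard, hR] at hmod
  have hZle : Subgroup.center R ≤ fixSub R t := by
    intro z hz
    rw [mem_fixSub]
    exact hZt z hz
  have h3 : 3 ∣ Nat.card (fixSub R t) := by
    have := Subgroup.card_dvd_of_le hZle
    rwa [hZ] at this
  have h27 : Nat.card (fixSub R t) ∣ 27 := by
    have := Subgroup.card_subgroup_dvd_card (fixSub R t)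
    rwa [hR] at this
  have hle : Nat.card (fixSub R t) ≤ 27 := Nat.le_of_dvd (by norm_num) h27
  have hdvd : p ∣ 27 - Nat.card (fixSub R t) := (Nat.modEq_iff_dvd' hle).1 hmod.symm
  have hcases : Nat.card (fixSub R t) = 3 ∨ Nat.card (fixSub R t) = 9 ∨ Nat.card (fixSub R t) = 27 := by
    have hmem : Nat.card (fixSub R t) ∈ Nat.divisors 27 := Nat.mem_divisors.2 ⟨h27, by norm_num⟩
    have hdiv : Nat.divisors 27 = {1, 3, 9, 27} := by decide
    rw [hdiv] at hmem
    simp only [Finset.mem_insert, Finset.mem_singleton] at hmem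
    rcases hmem with h | h | h | h
    · rw [h] at h3
      omega
    · exact Or.inl h
    · exact Or.inr (Or.inl h)
    · exact Or.inr (Or.inr h)
  have htop : fixSub R t = ⊤ := by
    rcases hcases with h | h | h
    · rw [h] at hdvd
      exact absurd hdvd (not_prime_dvd_24 hp hp5)
    · rw [h] at hdvd
      exact absurd hdvd (not_prime_dvd_18 hp hp5)
    · apply (Subgroup.card_eq_iff_eq_top _).1
      rw [h, hR]
  intro x hx
  have : (⟨x, hx⟩ : R) ∈ fixSub R t := by
    rw [htop]
    exact Subgroup.mem_top _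
  exact (mem_fixSub R t _).1 this

variable {F : Type*} [Field F] [Fintype F] {q : ℕ}

/-- **SU3-b3** -/
theorem b3 (hF : Fintype.card F = q ^ 2) (hp : q.Prime) (hq : 5 ≤ q) : B3Stmt F q := by
  classical
  intro R habs hR hZ h
  -- the centre of `R` is scalar
  have hscalZ : ∀ z : R, z ∈ Subgroup.center R →
      ∃ c : F, ((z : GL (Fin 3) F) : Matrix (Fin 3) (Fin 3) F) = c • (1 : Matrix (Fin 3) (Fin 3) F) := by
    intro z hz
    apply habs.2
    rintro s ⟨s', hs', rfl⟩
    have h1 := (Subgroup.mem_center_iff.1 hz) ⟨s', hs'⟩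
    have h2 := congrArg (fun g : R => ((g : GL (Fin 3) F) : Matrix (Fin 3) (Fin 3) F)) h1
    simp only [Subgroup.coe_mul, Units.val_mul] at h2
    exact h2.symm
  -- every unitary transvection centralises `R`
  have hcent : ∀ (a : F) (v : Fin 3 → F), a + a ^ q = 0 → hermForm 3 F q v v = 0 →
      ∀ x ∈ R, utv hF a v * x * (utv hF a v)⁻¹ = x := by
    intro a v ha hv
    apply conj_eq_of_pow_eq_one R (utv hF a v) hp hq (k := 2)
    · rw [← hF]
      exact Cfsg.Agent.Lib.H14.UP3.utv_pow_card hF ha hv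
    · intro x hx
      exact (Subgroup.mem_normalizer_iff.1 (h (utv_mem hF a v)) x).1 hx
    · exact hR
    · exact hZ
    · intro z hz
      obtain ⟨c, hc⟩ := hscalZ z hz
      have h1 : utv hF a v * (z : GL (Fin 3) F) = (z : GL (Fin 3) F) * utv hF a v := by
        apply Units.ext
        rw [Units.val_mul, Units.val_mul, hc, Matrix.mul_smul, Matrix.smul_mul, Matrix.mul_one, Matrix.one_mul]
      rw [h1, mul_inv_cancel_right]
  have hscal : ∀ x ∈ R, ∃ c : F,
      (x : Matrix (Fin 3) (Fin 3) F) = c • (1 : Matrix (Fin 3) (Fin 3) F) := by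
    intro x hx
    apply scalar_of_comm_utv hF (by norm_num : 2 ≤ 3)
    intro a v ha hv
    have h1 := hcent a v ha hv x hx
    have h2 : utv hF a v * x = x * utv hF a v := by
      have h3 := congrArg (fun g => g * utv hF a v) h1
      simp only [inv_mul_cancel_right] at h3
      exact h3
    have h4 := congrArg (fun g : GL (Fin 3) F => (g : Matrix (Fin 3) (Fin 3) F)) h2
    simp only [Units.val_mul] at h4
    exact h4.symm
  obtain ⟨W, hW⟩ : ∃ W : Submodule F (Fin 3 → F), W = F ∙ (Pi.single (0 : Fin 3) (1 : F)) := ⟨_, rfl⟩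
  have hne : (Pi.single (0 : Fin 3) (1 : F) : Fin 3 → F) ≠ 0 := by
    intro h0
    have := congrFun h0 0
    simp at this
  have hinv : ∀ s ∈ matrixSet R, W.map (Matrix.toLin' s) ≤ W := by
    rintro s ⟨x, hx, rfl⟩
    obtain ⟨c, hc⟩ := hscal x hx
    rintro _ ⟨u, hu, rfl⟩
    simp only [hc, Matrix.toLin'_apply, Matrix.smul_mulVec, Matrix.one_mulVec]
    exact W.smul_mem c hu
  have hfr : Module.finrank F W = 1 := by
    rw [hW]
    exact finrank_span_singleton hne
  rcases habs.1 W hinv with h0 | h0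
  · rw [h0, finrank_bot] at hfr
    omega
  · rw [h0, finrank_top, Module.finrank_fin_fun] at hfr
    omega

end Cfsg.Agent.Lib.H18.SU3
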