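import Mathlib
import Cfsg.Prelude.Def_KGroupFacts
import Cfsg.Agent.Lib.H18.SchurBasic

/-!
# Hopf's bound: a finite group with `n` generators and `r` relators has a multiplier of rank
`≤ r - n` (helper18)
-/

set_option autoImplicit false

namespace Cfsg.Agent.Lib.H18

open scoped commutatorElement

/-- A quotient of a free `ℤ`-module of rank `d` is generated by `d` elements. -/
theorem rank_le_of_basis_of_surjective {N : Type*} [AddCommGroup N] {d : ℕ}
    (b : Module.Basis (Fin d) ℤ N) {A : Type*} [Group A] [Group.FG A]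
    (f : Multiplicative N →* A) (hf : Function.Surjective f) : Group.rank A ≤ d := by
  classical
  let S : Finset A := Finset.univ.image (fun i : Fin d => f (Multiplicative.ofAdd (b i)))
  have hS : Subgroup.closure (S : Set A) = ⊤ := by
    rw [eq_top_iff]
    intro a _
    obtain ⟨x, rfl⟩ := hf a
    have hx : Multiplicative.toAdd x ∈ Submodule.span ℤ (Set.range b) := by
      rw [b.span_eq]; exact Submodule.mem_top
    have key : ∀ y : N, y ∈ Submodule.span ℤ (Set.range b) →
        f (Multiplicative.ofAdd y) ∈ Subgroup.closure (S : Set A) := by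
      intro y hy
      induction hy using Submodule.span_induction with
      | mem y hy =>
        obtain ⟨i, rfl⟩ := hy
        apply Subgroup.subset_closure
        rw [Finset.mem_coe, Finset.mem_image]
        exact ⟨i, Finset.mem_univ _, rfl⟩
      | zero => rw [ofAdd_zero, map_one]; exact Subgroup.one_mem _
      | add y z _ _ hy hz => rw [ofAdd_add, map_mul]; exact Subgroup.mul_mem _ hy hz
      | smul n y _ hy => rw [ofAdd_zsmul, map_zpow]; exact Subgroup.zpow_mem _ hy n
    exact key _ hx
  calc Group.rank A ≤ S.card := Group.rank_le hS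
    _ ≤ (Finset.univ : Finset (Fin d)).card := Finset.card_image_le
    _ = d := by rw [Finset.card_univ, Fintype.card_fin]

open scoped IsMulCommutative in
/-- Hopf's bound on the rank of the kernel of a stem extension of a finitely presented finite
group. -/
theorem rank_ker_le_of_presentation (n : ℕ) (rels : Finset (FreeGroup (Fin n)))
    [Finite (PresentedGroup (rels : Set (FreeGroup (Fin n))))]
    {Γ : Type*} [Group Γ] [Finite Γ] (σ : Γ →* PresentedGroup (rels : Set (FreeGroup (Fin n))))
    (hσ : Cfsg.IsStemExtension σ) : Group.rank σ.ker ≤ rels.card - n := by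
  classical
  obtain ⟨hsurj, hc, hd⟩ := hσ
  set G := PresentedGroup (rels : Set (FreeGroup (Fin n))) with hG
  let mk : FreeGroup (Fin n) →* G := PresentedGroup.mk (rels : Set (FreeGroup (Fin n)))
  have hmk_surj : Function.Surjective mk := QuotientGroup.mk'_surjective _
  have hmk_ker : ∀ c, mk c = 1 ↔ c ∈ Subgroup.normalClosure (rels : Set (FreeGroup (Fin n))) :=
    fun c => QuotientGroup.eq_one_iff c
  -- lift `F → Γ`
  choose s hs using hsurj
  let ψ : FreeGroup (Fin n) →* Γ := FreeGroup.lift (fun i => s (mk (FreeGroup.of i)))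
  have hψ : σ.comp ψ = mk := by
    apply FreeGroup.ext_hom
    intro i
    simp only [MonoidHom.coe_comp, Function.comp_apply, ψ, FreeGroup.lift_apply_of, hs]
  have hψ' : ∀ c, σ (ψ c) = mk c := fun c => DFunLike.congr_fun hψ c
  have hψs : Function.Surjective ψ := by
    apply surjective_of_comp_surjective_of_stem σ hc hd ψ
    rw [hψ]
    exact hmk_surj
  -- the relator module
  let ι := {x // x ∈ rels}
  haveI : IsMulCommutative σ.ker := ⟨⟨fun a b => Subtype.ext
    (Subgroup.mem_center_iff.mp (hc b.2) a.1)⟩⟩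
  have hrel_cen : ∀ ρ : ι, ψ ρ.1 ∈ σ.ker := by
    intro ρ
    rw [MonoidHom.mem_ker, hψ', hmk_ker]
    exact Subgroup.subset_normalClosure ρ.2
  let M := Additive (Abelianization (FreeGroup (Fin n)))
  let v : ι → M := fun ρ => Additive.ofMul (Abelianization.of ρ.1)
  let w : ι → Additive σ.ker := fun ρ => Additive.ofMul ⟨ψ ρ.1, hrel_cen ρ⟩
  let Φ : (ι → ℤ) →ₗ[ℤ] M := Fintype.linearCombination ℤ v
  let Ψ : (ι → ℤ) →ₗ[ℤ] Additive σ.ker := Fintype.linearCombination ℤ w
  have hΦ_single : ∀ ρ : ι, Φ (Pi.single ρ 1) = v ρ := by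
    intro ρ
    simp only [Φ, Fintype.linearCombination_apply, Pi.single_apply, ite_smul, one_smul, zero_smul]
    rw [Finset.sum_eq_single ρ (fun x _ hx => if_neg hx) (fun h => absurd (Finset.mem_univ _) h),
      if_pos rfl]
  have hΨ_single : ∀ ρ : ι, Ψ (Pi.single ρ 1) = w ρ := by
    intro ρ
    simp only [Ψ, Fintype.linearCombination_apply, Pi.single_apply, ite_smul, one_smul, zero_smul]
    rw [Finset.sum_eq_single ρ (fun x _ hx => if_neg hx) (fun h => absurd (Finset.mem_univ _) h),
      if_pos rfl]
  -- the subgroup of elements of `F` expressible through the relators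
  let Pset : Subgroup (FreeGroup (Fin n)) :=
    { carrier := {c | ∃ x : ι → ℤ, ((Additive.toMul (Ψ x) : σ.ker) : Γ) = ψ c ∧
        Φ x = Additive.ofMul (Abelianization.of c)}
      one_mem' := ⟨0, by simp, by simp⟩
      mul_mem' := by
        rintro a b ⟨x, hx1, hx2⟩ ⟨y, hy1, hy2⟩
        refine ⟨x + y, ?_, ?_⟩
        · rw [map_add, toMul_add, Subgroup.coe_mul, hx1, hy1, map_mul]
        · rw [map_add, hx2, hy2, map_mul, ofMul_mul]
      inv_mem' := by
        rintro a ⟨x, hx1, hx2⟩
        refine ⟨-x, ?_, ?_⟩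
        · rw [map_neg, toMul_neg, Subgroup.coe_inv, hx1, map_inv]
        · rw [map_neg, hx2, map_inv, ofMul_inv] }
  have hPn : Pset.Normal := by
    refine ⟨?_⟩
    rintro c ⟨x, hx1, hx2⟩ g
    refine ⟨x, ?_, ?_⟩
    · have hcen : ψ c ∈ Subgroup.center Γ := by rw [← hx1]; exact hc (Additive.toMul (Ψ x)).2
      rw [map_mul, map_mul, map_inv, Subgroup.mem_center_iff.mp hcen (ψ g), mul_inv_cancel_right, hx1]
    · have : Abelianization.of (g * c * g⁻¹) = Abelianization.of c := by
        rw [map_mul, map_mul, map_inv, mul_comm, inv_mul_cancel_left]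
      rw [this]
      exact hx2
  have hrelP : (rels : Set (FreeGroup (Fin n))) ⊆ Pset := by
    intro ρ hρ
    refine ⟨Pi.single ⟨ρ, hρ⟩ 1, ?_, ?_⟩
    · rw [hΨ_single]; rfl
    · rw [hΦ_single]
  have hP : Subgroup.normalClosure (rels : Set (FreeGroup (Fin n))) ≤ Pset :=
    Subgroup.normalClosure_le_normal hrelP
  -- ranks
  have hMfin : Module.finrank ℤ M = n := by
    have := Module.finrank_eq_card_basis (FreeAbelianGroup.basis (Fin n))
    rw [Fintype.card_fin] at this
    exact this
  haveI : Module.Finite ℤ M := Module.Finite.of_basis (FreeAbelianGroup.basis (Fin n))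
  have htors : Module.IsTorsion ℤ (M ⧸ LinearMap.range Φ) := by
    intro x
    obtain ⟨m, rfl⟩ := Submodule.Quotient.mk_surjective _ x
    have hN : (Nat.card G : ℤ) ≠ 0 := by exact_mod_cast Nat.card_pos.ne'
    refine ⟨⟨(Nat.card G : ℤ), mem_nonZeroDivisors_of_ne_zero hN⟩, ?_⟩
    change (Nat.card G : ℤ) • (Submodule.Quotient.mk m : M ⧸ LinearMap.range Φ) = 0
    rw [← Submodule.Quotient.mk_smul, Submodule.Quotient.mk_eq_zero]
    obtain ⟨f, hf⟩ := QuotientGroup.mk_surjective (Additive.toMul m)
    have hfR : f ^ Nat.card G ∈ Subgroup.normalClosure (rels : Set (FreeGroup (Fin n))) := by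
      rw [← hmk_ker, map_pow, pow_card_eq_one']
    obtain ⟨x, -, hx2⟩ := hP hfR
    refine ⟨x, ?_⟩
    have hfm : Additive.ofMul (Abelianization.of f) = m := by
      rw [← ofMul_toMul m]
      exact congrArg _ hf
    rw [hx2, map_pow, ofMul_pow, natCast_zsmul, hfm]
  have h1 := Submodule.finrank_quotient_add_finrank (LinearMap.range Φ)
  rw [Module.finrank_eq_zero_iff_isTorsion.mpr htors, zero_add, hMfin] at h1
  have h2 := Submodule.finrank_quotient_add_finrank (LinearMap.ker Φ)
  rw [LinearEquiv.finrank_eq Φ.quotKerEquivRange, h1, Module.finrank_fintype_fun_eq_card] at h2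
  have hcardι : Fintype.card ι = rels.card := Fintype.card_coe rels
  have hrank : Module.finrank ℤ (LinearMap.ker Φ) = rels.card - n := by
    rw [← hcardι]; omega
  -- the surjection `ker Φ → ker σ`
  let f : Multiplicative (LinearMap.ker Φ) →* σ.ker :=
    AddMonoidHom.toMultiplicativeLeft ((Ψ.comp (LinearMap.ker Φ).subtype).toAddMonoidHom)
  have hf_apply : ∀ x : LinearMap.ker Φ, f (Multiplicative.ofAdd x) = Additive.toMul (Ψ x.1) :=
    fun _ => rfl
  have hf : Function.Surjective f := by
    rintro ⟨k, hk⟩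
    have hk' : k ∈ (commutator (FreeGroup (Fin n))).map ψ := by
      rw [commutator_def, Subgroup.map_commutator]
      have : (⊤ : Subgroup (FreeGroup (Fin n))).map ψ = ⊤ := by
        rw [← MonoidHom.range_eq_map, MonoidHom.range_eq_top]
        exact hψs
      rw [this, ← commutator_def]
      exact hd hk
    obtain ⟨c, hc', rfl⟩ := hk'
    have hcR : c ∈ Subgroup.normalClosure (rels : Set (FreeGroup (Fin n))) := by
      rw [← hmk_ker, ← hψ']
      exact hk
    obtain ⟨x, hx1, hx2⟩ := hP hcR
    have habc : Abelianization.of c = 1 := by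
      have : c ∈ (Abelianization.of (G := FreeGroup (Fin n))).ker := by
        rw [Abelianization.ker_of]; exact hc'
      exact this
    have hxk : x ∈ LinearMap.ker Φ := by
      rw [LinearMap.mem_ker, hx2, habc, ofMul_one]
    refine ⟨Multiplicative.ofAdd ⟨x, hxk⟩, ?_⟩
    rw [hf_apply]
    exact Subtype.ext hx1
  have := rank_le_of_basis_of_surjective (Module.finBasis ℤ (LinearMap.ker Φ)) f hf
  rw [hrank] at this
  exact this

end Cfsg.Agent.Lib.H18
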