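import Mathlib
import Cfsg.Prelude.Def_KGroupFacts
import Cfsg.Agent.Lib.H18.SchurCover2
import Cfsg.Agent.Lib.H18.BiExt

/-!
# The Schur multiplier of a direct product (helper18)

`M(Q₁ × Q₂) ≅ M(Q₁) × M(Q₂) × (Q₁ᵃᵇ ⊗ Q₂ᵃᵇ)`.
-/

set_option autoImplicit false

namespace Cfsg.Agent.Lib.H18

open scoped commutatorElement TensorProduct

universe u v w

/-- The image of the commutator subgroup lies in the commutator subgroup. -/
theorem map_commutator_le_commutator {X : Type*} {Y : Type*} [Group X] [Group Y] (f : X →* Y) :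
    (commutator X).map f ≤ commutator Y := by
  rw [commutator_def, Subgroup.map_commutator, commutator_def]
  exact Subgroup.commutator_mono le_top le_top

section Tensor

variable (Q₁ : Type u) (Q₂ : Type v) [Group Q₁] [Group Q₂]

/-- `Q₁ᵃᵇ ⊗ Q₂ᵃᵇ`, written multiplicatively. -/
abbrev AbTensor : Type (max u v) :=
  Multiplicative (TensorProduct ℤ (Additive (Abelianization Q₁)) (Additive (Abelianization Q₂)))

variable {Q₁ Q₂}

/-- The pure tensor `q̄₁ ⊗ q̄₂`. -/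
def abTmul (q₁ : Q₁) (q₂ : Q₂) : AbTensor Q₁ Q₂ :=
  Multiplicative.ofAdd ((Additive.ofMul (Abelianization.of q₁)) ⊗ₜ[ℤ]
    (Additive.ofMul (Abelianization.of q₂)))

theorem abTmul_mul_left (q q' : Q₁) (r : Q₂) : abTmul (q * q') r = abTmul q r * abTmul q' r := by
  simp only [abTmul, map_mul, ofMul_mul, TensorProduct.add_tmul, ofAdd_add]

theorem abTmul_mul_right (q : Q₁) (r r' : Q₂) : abTmul q (r * r') = abTmul q r * abTmul q r' := by
  simp only [abTmul, map_mul, ofMul_mul, TensorProduct.tmul_add, ofAdd_add]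

theorem abTmul_one_left (r : Q₂) : abTmul (1 : Q₁) r = 1 := by
  simp only [abTmul, map_one, ofMul_one, TensorProduct.zero_tmul, ofAdd_zero]

theorem abTmul_one_right (q : Q₁) : abTmul q (1 : Q₂) = 1 := by
  simp only [abTmul, map_one, ofMul_one, TensorProduct.tmul_zero, ofAdd_zero]

/-- Induction principle for `AbTensor`. -/
theorem abTensor_induction {P : AbTensor Q₁ Q₂ → Prop} (h1 : P 1)
    (ht : ∀ q₁ q₂, P (abTmul q₁ q₂)) (hm : ∀ a b, P a → P b → P (a * b)) (x : AbTensor Q₁ Q₂) :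
    P x := by
  have : ∀ y : TensorProduct ℤ (Additive (Abelianization Q₁)) (Additive (Abelianization Q₂)),
      P (Multiplicative.ofAdd y) := by
    intro y
    induction y using TensorProduct.induction_on with
    | zero => exact h1
    | tmul a b =>
      obtain ⟨q₁, hq₁⟩ := QuotientGroup.mk_surjective (Additive.toMul a)
      obtain ⟨q₂, hq₂⟩ := QuotientGroup.mk_surjective (Additive.toMul b)
      have := ht q₁ q₂
      have ha : a = Additive.ofMul (Abelianization.of q₁) := by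
        rw [← ofMul_toMul a]; congr 1; exact hq₁.symm
      have hb : b = Additive.ofMul (Abelianization.of q₂) := by
        rw [← ofMul_toMul b]; congr 1; exact hq₂.symm
      rw [ha, hb]
      exact this
    | add a b ha hb => exact hm _ _ ha hb
  exact this (Multiplicative.toAdd x)

instance abTensor_finite [Finite Q₁] [Finite Q₂] : Finite (AbTensor Q₁ Q₂) := by
  haveI : Finite (Additive (Abelianization Q₁)) := Finite.of_equiv _ Additive.ofMul
  haveI : Finite (Additive (Abelianization Q₂)) := Finite.of_equiv _ Additive.ofMul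
  have htors : Module.IsTorsion ℤ
      (TensorProduct ℤ (Additive (Abelianization Q₁)) (Additive (Abelianization Q₂))) := by
    intro x
    have hn : (Nat.card (Additive (Abelianization Q₁)) : ℤ) ≠ 0 := by
      exact_mod_cast Nat.card_pos.ne'
    refine ⟨⟨(Nat.card (Additive (Abelianization Q₁)) : ℤ), mem_nonZeroDivisors_of_ne_zero hn⟩, ?_⟩
    change (Nat.card (Additive (Abelianization Q₁)) : ℤ) • x = 0
    induction x using TensorProduct.induction_on with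
    | zero => simp
    | tmul a b =>
      rw [TensorProduct.smul_tmul', natCast_zsmul, card_nsmul_eq_zero', TensorProduct.zero_tmul]
    | add a b ha hb => rw [smul_add, ha, hb, add_zero]
  haveI : Module.Finite ℤ (Additive (Abelianization Q₁)) := Module.Finite.of_finite
  haveI : Module.Finite ℤ (Additive (Abelianization Q₂)) := Module.Finite.of_finite
  haveI : Module.Finite ℤ
      (TensorProduct ℤ (Additive (Abelianization Q₁)) (Additive (Abelianization Q₂))) :=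
    Module.Finite.tensorProduct ℤ _ _
  have := Module.finite_of_fg_torsion _ htors
  exact Finite.of_equiv _ Multiplicative.ofAdd

/-- The pairing on `G × H` pulled back from `Q₁ × Q₂`. -/
def tensorBiMul {G : Type*} {H : Type*} [Group G] [Group H] (σ₁ : G →* Q₁) (σ₂ : H →* Q₂) :
    BiMul G H (AbTensor Q₁ Q₂) where
  toFun h g := abTmul (σ₁ g) (σ₂ h)
  map_mul_left h h' g := by rw [map_mul, abTmul_mul_right]
  map_mul_right h g g' := by rw [map_mul, abTmul_mul_left]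

theorem tensorBiMul_apply {G : Type*} {H : Type*} [Group G] [Group H] (σ₁ : G →* Q₁) (σ₂ : H →* Q₂)
    (h : H) (g : G) : (tensorBiMul σ₁ σ₂).toFun h g = abTmul (σ₁ g) (σ₂ h) := rfl

end Tensor

section Clause1

variable {Q₁ : Type u} {Q₂ : Type v} [Group Q₁] [Group Q₂]

/-- From stem extensions of `Q₁` and `Q₂`, a stem extension of `Q₁ × Q₂` with kernel
`ker σ₁ × ker σ₂ × (Q₁ᵃᵇ ⊗ Q₂ᵃᵇ)`. -/
theorem exists_stem_prod {Γ₁ : Type u} {Γ₂ : Type v} [Group Γ₁] [Group Γ₂] [Finite Γ₁] [Finite Γ₂]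
    [Finite Q₁] [Finite Q₂]
    (σ₁ : Γ₁ →* Q₁) (σ₂ : Γ₂ →* Q₂) (h₁ : Cfsg.IsStemExtension σ₁) (h₂ : Cfsg.IsStemExtension σ₂) :
    ∃ (Γ : Type (max u v)) (_ : Group Γ) (_ : Finite Γ) (σ : Γ →* Q₁ × Q₂),
      Cfsg.IsStemExtension σ ∧ Nonempty (σ.ker ≃* σ₁.ker × σ₂.ker × AbTensor Q₁ Q₂) := by
  classical
  let β := tensorBiMul σ₁ σ₂
  let σ : BiExt β →* Q₁ × Q₂ := (MonoidHom.prodMap σ₁ σ₂).comp (BiExt.proj β)
  have hσ : ∀ a : BiExt β, σ a = (σ₁ a.fst, σ₂ a.snd) := fun _ => rfl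
  have hker : ∀ a : BiExt β, a ∈ σ.ker ↔ a.fst ∈ σ₁.ker ∧ a.snd ∈ σ₂.ker := by
    intro a
    rw [MonoidHom.mem_ker, hσ, Prod.mk_eq_one, MonoidHom.mem_ker, MonoidHom.mem_ker]
  have hβl : ∀ (h : Γ₂) (g : Γ₁), h ∈ σ₂.ker → β.toFun h g = 1 := by
    intro h g hh
    rw [tensorBiMul_apply, MonoidHom.mem_ker.mp hh, abTmul_one_right]
  have hβr : ∀ (h : Γ₂) (g : Γ₁), g ∈ σ₁.ker → β.toFun h g = 1 := by
    intro h g hg
    rw [tensorBiMul_apply, MonoidHom.mem_ker.mp hg, abTmul_one_left]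
  refine ⟨BiExt β, inferInstance, inferInstance, σ, ⟨?_, ?_, ?_⟩, ?_⟩
  · rintro ⟨q₁, q₂⟩
    obtain ⟨g, hg⟩ := h₁.1 q₁
    obtain ⟨h, hh⟩ := h₂.1 q₂
    exact ⟨⟨g, h, 1⟩, by rw [hσ, hg, hh]⟩
  · intro a ha
    rw [hker] at ha
    have c1 := Subgroup.mem_center_iff.mp (h₁.2.1 ha.1)
    have c2 := Subgroup.mem_center_iff.mp (h₂.2.1 ha.2)
    rw [Subgroup.mem_center_iff]
    intro b
    ext
    · exact c1 b.fst
    · exact c2 b.snd
    · simp only [BiExt.mul_thd]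
      rw [hβl _ _ ha.2, hβr _ _ ha.1, mul_comm b.thd]
  · intro a ha
    rw [hker] at ha
    rw [BiExt.eq_inl_mul_inr_mul_inm a]
    refine Subgroup.mul_mem _ (Subgroup.mul_mem _ ?_ ?_) ?_
    · exact map_commutator_le_commutator (BiExt.inl β) (Subgroup.mem_map_of_mem _ (h₁.2.2 ha.1))
    · exact map_commutator_le_commutator (BiExt.inr β) (Subgroup.mem_map_of_mem _ (h₂.2.2 ha.2))
    · refine abTensor_induction (P := fun m => BiExt.inm β m ∈ commutator (BiExt β)) ?_ ?_ ?_ a.thd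
      · rw [map_one]; exact Subgroup.one_mem _
      · intro q₁ q₂
        obtain ⟨g, hg⟩ := h₁.1 q₁
        obtain ⟨h, hh⟩ := h₂.1 q₂
        have : abTmul q₁ q₂ = β.toFun h g := by rw [tensorBiMul_apply, hg, hh]
        rw [this, ← BiExt.commutator_inr_inl, commutator_def]
        exact Subgroup.commutator_mem_commutator (Subgroup.mem_top _) (Subgroup.mem_top _)
      · intro m m' hm hm'
        rw [map_mul]
        exact Subgroup.mul_mem _ hm hm'
  · let f : σ.ker →* σ₁.ker × σ₂.ker × AbTensor Q₁ Q₂ :=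
      { toFun := fun a => (⟨a.1.fst, ((hker a.1).mp a.2).1⟩, ⟨a.1.snd, ((hker a.1).mp a.2).2⟩, a.1.thd)
        map_one' := rfl
        map_mul' := by
          intro a b
          refine Prod.ext (Subtype.ext rfl) (Prod.ext (Subtype.ext rfl) ?_)
          change (a.1 * b.1).thd = a.1.thd * b.1.thd
          rw [BiExt.mul_thd, hβl _ _ ((hker a.1).mp a.2).2, mul_one] }
    refine ⟨MulEquiv.ofBijective f ⟨?_, ?_⟩⟩
    · intro a b hab
      have h1 := congrArg (fun x => (x.1 : Γ₁)) hab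
      have h2 := congrArg (fun x => (x.2.1 : Γ₂)) hab
      have h3 := congrArg (fun x => x.2.2) hab
      exact Subtype.ext (BiExt.ext h1 h2 h3)
    · rintro ⟨⟨k₁, hk₁⟩, ⟨k₂, hk₂⟩, m⟩
      exact ⟨⟨⟨k₁, k₂, m⟩, (hker _).mpr ⟨hk₁, hk₂⟩⟩, rfl⟩

end Clause1

section Lift

variable {Q₁ : Type u} {Q₂ : Type v} [Group Q₁] [Group Q₂]

/-- Bimultiplicative maps to a commutative group factor through `Q₁ᵃᵇ ⊗ Q₂ᵃᵇ`. -/
theorem exists_abTensor_lift {M : Type w} [CommGroup M] (b : Q₁ → Q₂ → M)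
    (hl : ∀ q q' r, b (q * q') r = b q r * b q' r)
    (hr : ∀ q r r', b q (r * r') = b q r * b q r') :
    ∃ f : AbTensor Q₁ Q₂ →* M, ∀ q r, f (abTmul q r) = b q r := by
  -- for each `q`, the hom `Q₂ᵃᵇ → M`
  let g : Q₁ → (Abelianization Q₂ →* M) := fun q =>
    Abelianization.lift (MonoidHom.mk' (b q) (hr q))
  have hg : ∀ q r, g q (Abelianization.of r) = b q r := by
    intro q r
    simp only [g, Abelianization.lift_apply_of, MonoidHom.mk'_apply]
  let G : Q₁ →* (Abelianization Q₂ →* M) := MonoidHom.mk' g (by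
    intro q q'
    apply Abelianization.hom_ext
    ext r
    simp only [MonoidHom.coe_comp, Function.comp_apply, MonoidHom.mul_apply, hg, hl])
  let G' : Abelianization Q₁ →* (Abelianization Q₂ →* M) := Abelianization.lift G
  have hG' : ∀ q r, G' (Abelianization.of q) (Abelianization.of r) = b q r := by
    intro q r
    simp only [G', Abelianization.lift_apply_of, G, MonoidHom.mk'_apply, hg]
  let F : Additive (Abelianization Q₁) →+ Additive (Abelianization Q₂) →+ Additive M :=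
    { toFun := fun a => MonoidHom.toAdditive (G' (Additive.toMul a))
      map_zero' := by
        ext x
        simp
      map_add' := by
        intro a a'
        ext x
        simp }
  have hF : ∀ (n : ℤ) (a : Additive (Abelianization Q₁)) (c : Additive (Abelianization Q₂)),
      F (n • a) c = F a (n • c) := by
    intro n a c
    rw [map_zsmul, map_zsmul, AddMonoidHom.smul_apply]
  let T := TensorProduct.liftAddHom F hF
  refine ⟨AddMonoidHom.toMultiplicativeLeft T, ?_⟩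
  intro q r
  simp only [AddMonoidHom.toMultiplicativeLeft, Equiv.coe_fn_mk, MonoidHom.coe_mk, OneHom.coe_mk]
  change Additive.toMul (T (_ ⊗ₜ[ℤ] _)) = b q r
  rw [TensorProduct.liftAddHom_tmul]
  exact hG' q r

end Lift

section Decomp

variable {G : Type*} [Group G]

theorem commutatorElement_mul_left_eq (a b c : G) : ⁅a * b, c⁆ = a * ⁅b, c⁆ * a⁻¹ * ⁅a, c⁆ := by
  simp only [commutatorElement_def]; group

theorem commutatorElement_mul_right_eq (a b c : G) : ⁅a, b * c⁆ = ⁅a, b⁆ * (b * ⁅a, c⁆ * b⁻¹) := by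
  simp only [commutatorElement_def]; group

/-- If `G = AB` with `A`, `B` normal then `G' = A' B' [A,B]`. -/
theorem commutator_le_of_sup_eq_top (A B : Subgroup G) [A.Normal] [B.Normal] (h : A ⊔ B = ⊤) :
    commutator G ≤ ⁅A, A⁆ ⊔ ⁅B, B⁆ ⊔ ⁅A, B⁆ := by
  set N : Subgroup G := ⁅A, A⁆ ⊔ ⁅B, B⁆ ⊔ ⁅A, B⁆ with hN
  have hNn : N.Normal := by rw [hN]; infer_instance
  have hAA : ⁅A, A⁆ ≤ N := le_sup_of_le_left le_sup_left
  have hBB : ⁅B, B⁆ ≤ N := le_sup_of_le_left le_sup_right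
  have hAB : ⁅A, B⁆ ≤ N := le_sup_right
  have hdec : ∀ y : G, ∃ a ∈ A, ∃ b ∈ B, a * b = y := by
    intro y
    have : y ∈ A ⊔ B := by rw [h]; exact Subgroup.mem_top _
    exact Subgroup.mem_sup_of_normal_right.mp this
  have h1 : ∀ g ∈ A, ∀ y, ⁅g, y⁆ ∈ N := by
    intro g hg y
    obtain ⟨a, ha, b, hb, rfl⟩ := hdec y
    rw [commutatorElement_mul_right_eq]
    refine Subgroup.mul_mem _ (hAA (Subgroup.commutator_mem_commutator hg ha)) ?_
    exact hNn.conj_mem _ (hAB (Subgroup.commutator_mem_commutator hg hb)) a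
  have h2 : ∀ g ∈ B, ∀ y, ⁅g, y⁆ ∈ N := by
    intro g hg y
    obtain ⟨a, ha, b, hb, rfl⟩ := hdec y
    rw [commutatorElement_mul_right_eq]
    refine Subgroup.mul_mem _ ?_ ?_
    · apply hAB
      rw [Subgroup.commutator_comm]
      exact Subgroup.commutator_mem_commutator hg ha
    · exact hNn.conj_mem _ (hBB (Subgroup.commutator_mem_commutator hg hb)) a
  rw [commutator_def, Subgroup.commutator_le]
  intro x _ y _
  obtain ⟨a, ha, b, hb, rfl⟩ := hdec x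
  rw [commutatorElement_mul_left_eq]
  exact Subgroup.mul_mem _ (hNn.conj_mem _ (h2 b hb y) a) (h1 a ha y)

end Decomp

section L1

variable (Q : Type u) [Group Q]

/-- For a central extension `ξ : X → Q` and a lift `φ : E → X`, the part of `ker ξ` in `X'` is the
image of `T`. -/
theorem sc_lift_commutator {X : Type w} [Group X] (ξ : X →* Q)
    (hker : ξ.ker ≤ Subgroup.center X) (φ : scE Q →* X) (hφ : ξ.comp φ = scπ Q) :
    ∀ k ∈ ξ.ker, k ∈ commutator X → ∃ t ∈ scT Q, φ t = k := by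
  have hφ' : ∀ e, ξ (φ e) = scπ Q e := fun e => DFunLike.congr_fun hφ e
  have hdec : ∀ x : X, ∃ e : scE Q, ∃ z ∈ ξ.ker, x = φ e * z := by
    intro x
    obtain ⟨e, he⟩ := scπ_surjective Q (ξ x)
    refine ⟨e, (φ e)⁻¹ * x, ?_, by group⟩
    rw [MonoidHom.mem_ker, map_mul, map_inv, hφ', he, inv_mul_cancel]
  have hle : commutator X ≤ (commutator (scE Q)).map φ := by
    rw [commutator_def, Subgroup.commutator_le]
    intro x _ y _
    obtain ⟨e, z, hz, rfl⟩ := hdec x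
    obtain ⟨e', w, hw, rfl⟩ := hdec y
    rw [commutatorElement_mul_central (hker hz) (hker hw), ← map_commutatorElement]
    refine Subgroup.mem_map_of_mem _ ?_
    rw [commutator_def]
    exact Subgroup.commutator_mem_commutator (Subgroup.mem_top _) (Subgroup.mem_top _)
  intro k hk hk'
  obtain ⟨c, hc, rfl⟩ := hle hk'
  refine ⟨c, ⟨?_, hc⟩, rfl⟩
  change c ∈ scZ Q
  rw [mem_scZ, ← hφ']
  exact hk

end L1

section OneSide

variable (Q : Type u) [Group Q]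

/-- One factor: if `p` maps the subgroup `D` of `Γ` onto `Q` and `D ∩ ker p` is central in `Γ`, then
`SchurT Q` maps to `D ∩ ker p`, covering `D' ∩ ker p`. -/
theorem exists_schurT_hom_of_central {Γ : Type w} [Group Γ] (D : Subgroup Γ) (p : Γ →* Q)
    (hsurj : ∀ q, ∃ a ∈ D, p a = q) (hcen : ∀ a ∈ D, p a = 1 → a ∈ Subgroup.center Γ) :
    ∃ f : SchurT Q →* Γ, (∀ t, f t ∈ D ∧ p (f t) = 1) ∧
      ∀ k ∈ ⁅D, D⁆, p k = 1 → ∃ t, f t = k := by
  let ξ : D →* Q := p.comp D.subtype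
  have hξ : ∀ x : D, ξ x = p x := fun _ => rfl
  have hξs : Function.Surjective ξ := by
    intro q
    obtain ⟨a, ha, hq⟩ := hsurj q
    exact ⟨⟨a, ha⟩, hq⟩
  have hξk : ξ.ker ≤ Subgroup.center D := by
    intro x hx
    rw [MonoidHom.mem_ker, hξ] at hx
    have := hcen x.1 x.2 hx
    rw [Subgroup.mem_center_iff] at this ⊢
    intro g
    exact Subtype.ext (this g.1)
  obtain ⟨ψ, hψ⟩ := sc_lift Q ξ hξs hξk
  have hψ' : ∀ e, p (ψ e) = scπ Q e := fun e => DFunLike.congr_fun hψ e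
  have hL := sc_lift_commutator Q ξ hξk ψ hψ
  refine ⟨(D.subtype.comp ψ).comp ((scT Q).subtype.comp (schurTEquiv Q).symm.toMonoidHom), ?_, ?_⟩
  · intro t
    refine ⟨(ψ _).2, ?_⟩
    change p (ψ ((schurTEquiv Q).symm t : scE Q)) = 1
    rw [hψ']
    exact (mem_scZ Q).mp (scT_le_scZ Q ((schurTEquiv Q).symm t).2)
  · intro k hk hpk
    rw [← Subgroup.map_subtype_commutator] at hk
    obtain ⟨k', hk', rfl⟩ := hk
    obtain ⟨t, ht, htk⟩ := hL k' (by rw [MonoidHom.mem_ker, hξ]; exact hpk) hk'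
    refine ⟨schurTEquiv Q ⟨t, ht⟩, ?_⟩
    change (ψ ((schurTEquiv Q).symm (schurTEquiv Q ⟨t, ht⟩) : scE Q) : Γ) = _
    rw [MulEquiv.symm_apply_apply, htk]
    rfl

end OneSide

section Clause2

variable {Q₁ : Type u} {Q₂ : Type v} [Group Q₁] [Group Q₂]

theorem conj_eq_of_mem_center {G : Type*} [Group G] {z : G} (hz : z ∈ Subgroup.center G) (g : G) :
    g * z * g⁻¹ = z := by
  rw [Subgroup.mem_center_iff.mp hz g, mul_inv_cancel_right]

open scoped IsMulCommutative in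
/-- The kernel of any stem extension of `Q₁ × Q₂` is an image of
`M(Q₁) × M(Q₂) × (Q₁ᵃᵇ ⊗ Q₂ᵃᵇ)`. -/
theorem exists_surjective_prod_ker {Γ : Type w} [Group Γ] (σ : Γ →* Q₁ × Q₂)
    (hσ : Cfsg.IsStemExtension σ) :
    ∃ π : SchurT Q₁ × SchurT Q₂ × AbTensor Q₁ Q₂ →* σ.ker, Function.Surjective π := by
  classical
  obtain ⟨hsurj, hc, hd⟩ := hσ
  let p₁ : Γ →* Q₁ := (MonoidHom.fst Q₁ Q₂).comp σ
  let p₂ : Γ →* Q₂ := (MonoidHom.snd Q₁ Q₂).comp σ
  have hp₁ : ∀ x, p₁ x = (σ x).1 := fun _ => rfl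
  have hp₂ : ∀ x, p₂ x = (σ x).2 := fun _ => rfl
  have hkerσ : ∀ x, x ∈ σ.ker ↔ p₁ x = 1 ∧ p₂ x = 1 := by
    intro x
    rw [MonoidHom.mem_ker, Prod.ext_iff]
    rfl
  have hs₁ : ∀ q : Q₁, ∃ a : Γ, σ a = (q, 1) := fun q => hsurj (q, 1)
  have hs₂ : ∀ r : Q₂, ∃ a : Γ, σ a = (1, r) := fun r => hsurj (1, r)
  choose s₁ hs₁ using hs₁
  choose s₂ hs₂ using hs₂
  have hs₁₁ : ∀ q, p₁ (s₁ q) = q := fun q => by rw [hp₁, hs₁]
  have hs₁₂ : ∀ q, p₂ (s₁ q) = 1 := fun q => by rw [hp₂, hs₁]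
  have hs₂₁ : ∀ r, p₁ (s₂ r) = 1 := fun r => by rw [hp₁, hs₂]
  have hs₂₂ : ∀ r, p₂ (s₂ r) = r := fun r => by rw [hp₂, hs₂]
  let Δ₁ : Subgroup Γ := p₂.ker
  let Δ₂ : Subgroup Γ := p₁.ker
  have hΔ₁ : ∀ x, x ∈ Δ₁ ↔ p₂ x = 1 := fun _ => MonoidHom.mem_ker
  have hΔ₂ : ∀ x, x ∈ Δ₂ ↔ p₁ x = 1 := fun _ => MonoidHom.mem_ker
  have hcomm_mem : ∀ a ∈ Δ₁, ∀ b ∈ Δ₂, ⁅a, b⁆ ∈ σ.ker := by
    intro a ha b hb
    rw [hkerσ]
    constructor
    · rw [map_commutatorElement, (hΔ₂ b).mp hb, commutatorElement_one_right]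
    · rw [map_commutatorElement, (hΔ₁ a).mp ha, commutatorElement_one_left]
  -- the commutator only depends on the images
  have hF : ∀ a ∈ Δ₁, ∀ b ∈ Δ₂, ⁅a, b⁆ = ⁅s₁ (p₁ a), s₂ (p₂ b)⁆ := by
    intro a ha b hb
    have hz : (s₁ (p₁ a))⁻¹ * a ∈ Subgroup.center Γ := by
      apply hc
      rw [hkerσ, map_mul, map_mul, map_inv, map_inv, hs₁₁, hs₁₂, (hΔ₁ a).mp ha]
      simp
    have hw : (s₂ (p₂ b))⁻¹ * b ∈ Subgroup.center Γ := by
      apply hc
      rw [hkerσ, map_mul, map_mul, map_inv, map_inv, hs₂₁, hs₂₂, (hΔ₂ b).mp hb]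
      simp
    have h1 : a = s₁ (p₁ a) * ((s₁ (p₁ a))⁻¹ * a) := by group
    have h2 : b = s₂ (p₂ b) * ((s₂ (p₂ b))⁻¹ * b) := by group
    conv_lhs => rw [h1, h2]
    exact commutatorElement_mul_central hz hw _ _
  have hb_mem : ∀ q r, ⁅s₁ q, s₂ r⁆ ∈ Subgroup.center Γ := fun q r =>
    hc (hcomm_mem _ ((hΔ₁ _).mpr (hs₁₂ q)) _ ((hΔ₂ _).mpr (hs₂₁ r)))
  let b : Q₁ → Q₂ → Subgroup.center Γ := fun q r => ⟨⁅s₁ q, s₂ r⁆, hb_mem q r⟩
  have hl : ∀ q q' r, b (q * q') r = b q r * b q' r := by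
    intro q q' r
    apply Subtype.ext
    change ⁅s₁ (q * q'), s₂ r⁆ = ⁅s₁ q, s₂ r⁆ * ⁅s₁ q', s₂ r⁆
    have h1 : s₁ q * s₁ q' ∈ Δ₁ := by rw [hΔ₁, map_mul, hs₁₂, hs₁₂, one_mul]
    have h2 : s₂ r ∈ Δ₂ := (hΔ₂ _).mpr (hs₂₁ r)
    have := hF _ h1 _ h2
    rw [map_mul, hs₁₁, hs₁₁, hs₂₂] at this
    rw [← this, commutatorElement_mul_left_eq, conj_eq_of_mem_center (hb_mem q' r)]
    exact (Subgroup.mem_center_iff.mp (hb_mem q' r) _).symm
  have hr : ∀ q r r', b q (r * r') = b q r * b q r' := by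
    intro q r r'
    apply Subtype.ext
    change ⁅s₁ q, s₂ (r * r')⁆ = ⁅s₁ q, s₂ r⁆ * ⁅s₁ q, s₂ r'⁆
    have h1 : s₁ q ∈ Δ₁ := (hΔ₁ _).mpr (hs₁₂ q)
    have h2 : s₂ r * s₂ r' ∈ Δ₂ := by rw [hΔ₂, map_mul, hs₂₁, hs₂₁, one_mul]
    have := hF _ h1 _ h2
    rw [map_mul, hs₂₂, hs₂₂, hs₁₁] at this
    rw [← this, commutatorElement_mul_right_eq, conj_eq_of_mem_center (hb_mem q r')]
  obtain ⟨f₃, hf₃⟩ := exists_abTensor_lift b hl hr
  -- the two multiplier factors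
  obtain ⟨f₁, hf₁, hf₁'⟩ := exists_schurT_hom_of_central Q₁ Δ₁ p₁
    (fun q => ⟨s₁ q, (hΔ₁ _).mpr (hs₁₂ q), hs₁₁ q⟩)
    (fun a ha ha' => hc ((hkerσ a).mpr ⟨ha', (hΔ₁ a).mp ha⟩))
  obtain ⟨f₂, hf₂, hf₂'⟩ := exists_schurT_hom_of_central Q₂ Δ₂ p₂
    (fun r => ⟨s₂ r, (hΔ₂ _).mpr (hs₂₁ r), hs₂₂ r⟩)
    (fun a ha ha' => hc ((hkerσ a).mpr ⟨(hΔ₂ a).mp ha, ha'⟩))
  have hf₁k : ∀ t, f₁ t ∈ σ.ker := fun t => (hkerσ _).mpr ⟨(hf₁ t).2, (hΔ₁ _).mp (hf₁ t).1⟩
  have hf₂k : ∀ t, f₂ t ∈ σ.ker := fun t => (hkerσ _).mpr ⟨(hΔ₂ _).mp (hf₂ t).1, (hf₂ t).2⟩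
  let f₃' : AbTensor Q₁ Q₂ →* Γ := (Subgroup.center Γ).subtype.comp f₃
  have hf₃' : ∀ q r, f₃' (abTmul q r) = ⁅s₁ q, s₂ r⁆ := by
    intro q r
    change ((f₃ (abTmul q r) : Subgroup.center Γ) : Γ) = _
    rw [hf₃]
  have hf₃k : ∀ m, f₃' m ∈ σ.ker := by
    intro m
    refine abTensor_induction (P := fun m => f₃' m ∈ σ.ker) ?_ ?_ ?_ m
    · rw [map_one]; exact Subgroup.one_mem _
    · intro q r
      rw [hf₃']
      exact hcomm_mem _ ((hΔ₁ _).mpr (hs₁₂ q)) _ ((hΔ₂ _).mpr (hs₂₁ r))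
    · intro m m' hm hm'
      rw [map_mul]
      exact Subgroup.mul_mem _ hm hm'
  have comm23 : ∀ (t : SchurT Q₂) (m : AbTensor Q₁ Q₂), Commute (f₂ t) (f₃' m) := fun t m =>
    (Subgroup.mem_center_iff.mp (hc (hf₃k m)) (f₂ t))
  let π₂₃ : SchurT Q₂ × AbTensor Q₁ Q₂ →* Γ := MonoidHom.noncommCoprod f₂ f₃' comm23
  have comm1 : ∀ (t : SchurT Q₁) (x : SchurT Q₂ × AbTensor Q₁ Q₂), Commute (f₁ t) (π₂₃ x) :=
    fun t x => (Subgroup.mem_center_iff.mp (hc (hf₁k t)) (π₂₃ x)).symm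
  let π₀ : SchurT Q₁ × SchurT Q₂ × AbTensor Q₁ Q₂ →* Γ := MonoidHom.noncommCoprod f₁ π₂₃ comm1
  have hπ₀ : ∀ t₁ t₂ m, π₀ (t₁, t₂, m) = f₁ t₁ * (f₂ t₂ * f₃' m) := fun _ _ _ => rfl
  have hπ₀k : ∀ x, π₀ x ∈ σ.ker := by
    rintro ⟨t₁, t₂, m⟩
    rw [hπ₀]
    exact Subgroup.mul_mem _ (hf₁k t₁) (Subgroup.mul_mem _ (hf₂k t₂) (hf₃k m))
  refine ⟨π₀.codRestrict σ.ker hπ₀k, ?_⟩
  -- surjectivity
  have hsup : Δ₁ ⊔ Δ₂ = ⊤ := by
    rw [eq_top_iff]
    intro x _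
    have : x = s₁ (p₁ x) * ((s₁ (p₁ x))⁻¹ * x) := by group
    rw [this]
    refine Subgroup.mul_mem_sup ((hΔ₁ _).mpr (hs₁₂ _)) ?_
    rw [hΔ₂, map_mul, map_inv, hs₁₁, inv_mul_cancel]
  have hdec := commutator_le_of_sup_eq_top Δ₁ Δ₂ hsup
  have h12 : ⁅Δ₁, Δ₂⁆ ≤ f₃'.range := by
    rw [Subgroup.commutator_le]
    intro a ha b' hb'
    rw [hF a ha b' hb', ← hf₃']
    exact ⟨_, rfl⟩
  rintro ⟨k, hk⟩
  have hk' := hdec (hd hk)
  obtain ⟨ab, hab, c, hc', rfl⟩ := Subgroup.mem_sup_of_normal_right.mp hk'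
  obtain ⟨a, ha, b', hb', rfl⟩ := Subgroup.mem_sup_of_normal_right.mp hab
  obtain ⟨m, hm⟩ := h12 hc'
  have hcσ : c ∈ σ.ker := by rw [← hm]; exact hf₃k m
  have ha1 : a ∈ Δ₁ := Subgroup.commutator_le_left Δ₁ Δ₁ ha
  have hb2 : b' ∈ Δ₂ := Subgroup.commutator_le_left Δ₂ Δ₂ hb'
  have hk1 := ((hkerσ _).mp hk).1
  have hk2 := ((hkerσ _).mp hk).2
  rw [map_mul, map_mul, ((hkerσ _).mp hcσ).1, (hΔ₂ _).mp hb2, mul_one, mul_one] at hk1
  rw [map_mul, map_mul, ((hkerσ _).mp hcσ).2, (hΔ₁ _).mp ha1, mul_one, one_mul] at hk2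
  obtain ⟨t₁, ht₁⟩ := hf₁' a ha hk1
  obtain ⟨t₂, ht₂⟩ := hf₂' b' hb' hk2
  refine ⟨(t₁, t₂, m), Subtype.ext ?_⟩
  change π₀ (t₁, t₂, m) = a * b' * c
  rw [hπ₀, ht₁, ht₂, hm, mul_assoc]

end Clause2

section Main

variable (Q₁ : Type u) (Q₂ : Type v) [Group Q₁] [Group Q₂] [Finite Q₁] [Finite Q₂]

/-- Künneth formula for the Schur multiplier. -/
theorem hasSchurMultiplier_prod_schurT :
    Cfsg.HasSchurMultiplier (Q₁ × Q₂) (SchurT Q₁ × SchurT Q₂ × AbTensor Q₁ Q₂) := by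
  obtain ⟨S₁, hS₁⟩ := sc_exists_complement' Q₁
  obtain ⟨S₂, hS₂⟩ := sc_exists_complement' Q₂
  have := hS₁.normal
  have := hS₂.normal
  have := scσ_finite hS₁
  have := scσ_finite hS₂
  obtain ⟨Γ, i1, i2, σ, hσ, ⟨e⟩⟩ := exists_stem_prod (scσ S₁ hS₁.le) (scσ S₂ hS₂.le)
    (scσ_isStem hS₁) (scσ_isStem hS₂)
  refine ⟨⟨Γ, i1, i2, σ, hσ, ⟨e.trans ?_⟩⟩, ?_⟩
  · exact MulEquiv.prodCongr ((scσ_kerEquiv hS₁).symm.trans (schurTEquiv Q₁))
      (MulEquiv.prodCongr ((scσ_kerEquiv hS₂).symm.trans (schurTEquiv Q₂)) (MulEquiv.refl _))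
  · intro Γ' _ _ σ' hσ'
    exact exists_surjective_prod_ker σ' hσ'

variable {Q₁ Q₂}

theorem hasSchurMultiplier_prod {A B : Type w} [CommGroup A] [CommGroup B]
    (hA : Cfsg.HasSchurMultiplier Q₁ A) (hB : Cfsg.HasSchurMultiplier Q₂ B) :
    Cfsg.HasSchurMultiplier (Q₁ × Q₂) (A × B × AbTensor Q₁ Q₂) := by
  obtain ⟨eA⟩ := mulEquiv_schurT_of_hasSchurMultiplier Q₁ hA
  obtain ⟨eB⟩ := mulEquiv_schurT_of_hasSchurMultiplier Q₂ hB
  exact hasSchurMultiplier_of_mulEquiv (Q₁ × Q₂) (hasSchurMultiplier_prod_schurT Q₁ Q₂)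
    (MulEquiv.prodCongr eA.symm (MulEquiv.prodCongr eB.symm (MulEquiv.refl _)))

omit [Finite Q₁] [Finite Q₂] in
/-- With coprime commutator quotients the tensor factor vanishes. -/
theorem abTensor_subsingleton_of_coprime
    (hcop : Nat.Coprime (Nat.card (Abelianization Q₁)) (Nat.card (Abelianization Q₂))) :
    Subsingleton (AbTensor Q₁ Q₂) := by
  have key : ∀ x : TensorProduct ℤ (Additive (Abelianization Q₁)) (Additive (Abelianization Q₂)),
      x = 0 := by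
    intro x
    induction x using TensorProduct.induction_on with
    | zero => rfl
    | tmul a c =>
      -- `1 = u n₁ + v n₂`
      have h1 : (Nat.card (Additive (Abelianization Q₁))) • a = 0 := card_nsmul_eq_zero'
      have h2 : (Nat.card (Additive (Abelianization Q₂))) • c = 0 := card_nsmul_eq_zero'
      have hc1 : Nat.card (Additive (Abelianization Q₁)) = Nat.card (Abelianization Q₁) :=
        Nat.card_congr Additive.toMul
      have hc2 : Nat.card (Additive (Abelianization Q₂)) = Nat.card (Abelianization Q₂) :=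
        Nat.card_congr Additive.toMul
      rw [hc1] at h1
      rw [hc2] at h2
      have hcop' : IsCoprime (Nat.card (Abelianization Q₁) : ℤ) (Nat.card (Abelianization Q₂) : ℤ) :=
        Nat.isCoprime_iff_coprime.mpr hcop
      obtain ⟨u, v, huv⟩ := hcop'
      have : a ⊗ₜ[ℤ] c = (1 : ℤ) • (a ⊗ₜ[ℤ] c) := (one_smul _ _).symm
      rw [this, ← huv, add_smul, mul_smul, mul_smul]
      have e1 : (Nat.card (Abelianization Q₁) : ℤ) • (a ⊗ₜ[ℤ] c) = 0 := by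
        rw [TensorProduct.smul_tmul', natCast_zsmul, h1, TensorProduct.zero_tmul]
      have e2 : (Nat.card (Abelianization Q₂) : ℤ) • (a ⊗ₜ[ℤ] c) = 0 := by
        rw [← TensorProduct.tmul_smul, natCast_zsmul, h2, TensorProduct.tmul_zero]
      rw [e1, e2, smul_zero, smul_zero, add_zero]
    | add a b ha hb => rw [ha, hb, add_zero]
  refine ⟨fun x y => ?_⟩
  have hx := key (Multiplicative.toAdd x)
  have hy := key (Multiplicative.toAdd y)
  exact Multiplicative.toAdd.injective (hx.trans hy.symm)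

theorem hasSchurMultiplier_prod_of_coprime {A B : Type w} [CommGroup A] [CommGroup B]
    (hA : Cfsg.HasSchurMultiplier Q₁ A) (hB : Cfsg.HasSchurMultiplier Q₂ B)
    (hcop : Nat.Coprime (Nat.card (Abelianization Q₁)) (Nat.card (Abelianization Q₂))) :
    Cfsg.HasSchurMultiplier (Q₁ × Q₂) (A × B) := by
  have := abTensor_subsingleton_of_coprime hcop
  refine hasSchurMultiplier_of_mulEquiv (Q₁ × Q₂) (hasSchurMultiplier_prod hA hB) ?_
  exact
    { toFun := fun x => (x.1, x.2.1)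
      invFun := fun y => (y.1, y.2, 1)
      left_inv := fun x => Prod.ext rfl (Prod.ext rfl (Subsingleton.elim _ _))
      right_inv := fun y => rfl
      map_mul' := fun x y => rfl }

end Main

end Cfsg.Agent.Lib.H18
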