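import Mathlib
import Cfsg.Prelude.Def_KGroupFacts
import Cfsg.Agent.Lib.H18.SchurKunneth

/-!
# The multiplier of a subgroup of index `m` contains a copy of `M(G)^m` (helper18)
-/

set_option autoImplicit false

namespace Cfsg.Agent.Lib.H18

open scoped commutatorElement

/-- A quotient of a finite abelian group embeds in it (by duality). -/
theorem exists_injective_of_surjective_comm {B : Type*} [CommGroup B] [Finite B] {W : Type*}
    [Group W] (p : B →* W) (hp : Function.Surjective p) : ∃ j : W →* B, Function.Injective j := by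
  classical
  letI : CommGroup W :=
    { (inferInstance : Group W) with
      mul_comm := fun a b => by
        obtain ⟨a', rfl⟩ := hp a
        obtain ⟨b', rfl⟩ := hp b
        rw [← map_mul, ← map_mul, mul_comm] }
  haveI : Finite W := Finite.of_surjective p hp
  haveI : NeZero (Monoid.exponent B) := ⟨Monoid.exponent_ne_zero_of_finite⟩
  haveI : NeZero (Monoid.exponent W) := ⟨Monoid.exponent_ne_zero_of_finite⟩
  obtain ⟨eB⟩ := CommGroup.monoidHom_mulEquiv_of_hasEnoughRootsOfUnity B ℂ
  obtain ⟨eW⟩ := CommGroup.monoidHom_mulEquiv_of_hasEnoughRootsOfUnity W ℂ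
  let pstar : (W →* ℂˣ) →* (B →* ℂˣ) := MonoidHom.compHom' p
  have hpstar : Function.Injective pstar := by
    intro χ χ' h
    ext w
    obtain ⟨b, rfl⟩ := hp w
    have := DFunLike.congr_fun h b
    simpa [pstar] using congrArg Units.val this
  refine ⟨eB.toMonoidHom.comp (pstar.comp eW.symm.toMonoidHom), ?_⟩
  simp only [MonoidHom.coe_comp, MulEquiv.coe_toMonoidHom]
  exact eB.injective.comp (hpstar.comp eW.symm.injective)

universe u v w

/-- Transfer: if `U` has index `m` in `G`, then `M(G)^m` embeds in `M(U)`. -/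
theorem exists_pow_index_embedding {G : Type u} [Group G] [Finite G] (U : Subgroup G)
    {A : Type v} {B : Type w} [CommGroup A] [CommGroup B]
    (hA : Cfsg.HasSchurMultiplier G A) (hB : Cfsg.HasSchurMultiplier U B) :
    ∃ J : (powMonoidHom U.index : A →* A).range →* B, Function.Injective J := by
  classical
  obtain ⟨⟨Γ, _, _, σ, ⟨hsurj, hc, hd⟩, ⟨e⟩⟩, -⟩ := hA
  obtain ⟨eB⟩ := mulEquiv_schurT_of_hasSchurMultiplier U hB
  haveI : Finite B := Finite.of_equiv _ eB.symm.toEquiv
  let ΓU : Subgroup Γ := U.comap σ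
  have hidx : ΓU.index = U.index := Subgroup.index_comap_of_surjective U hsurj
  have hker_le : σ.ker ≤ ΓU := fun z hz => by
    change σ z ∈ U
    rw [MonoidHom.mem_ker.mp hz]
    exact U.one_mem
  -- transfer
  have htr : ∀ z ∈ σ.ker, z ^ U.index ∈ ⁅ΓU, ΓU⁆ := by
    intro z hz
    let ϕ : ΓU →* Abelianization ΓU := Abelianization.of
    have hzc := hc hz
    have key : ∀ (k : ℕ) (g₀ : Γ), g₀⁻¹ * z ^ k * g₀ ∈ ΓU → g₀⁻¹ * z ^ k * g₀ = z ^ k := by
      intro k g₀ _
      have : z ^ k ∈ Subgroup.center Γ := Subgroup.pow_mem _ hzc k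
      rw [mul_assoc, ← Subgroup.mem_center_iff.mp this g₀, inv_mul_cancel_left]
    have h1 := MonoidHom.transfer_eq_pow ϕ z key
    have h2 : MonoidHom.transfer ϕ z = 1 := by
      have : z ∈ (MonoidHom.transfer ϕ).ker := Abelianization.commutator_subset_ker _ (hd hz)
      exact this
    rw [h2] at h1
    have h3 : (⟨z ^ ΓU.index, MonoidHom.transfer_eq_pow_aux z key⟩ : ΓU) ∈ commutator ΓU := by
      rw [← Abelianization.ker_of]
      exact h1.symm
    rw [← Subgroup.map_subtype_commutator, ← hidx]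
    exact ⟨_, h3, rfl⟩
  -- the central extension `ΓU → U`
  let ξ : ΓU →* U := σ.subgroupComap U
  have hξ : ∀ x : ΓU, (ξ x : G) = σ x := fun _ => rfl
  have hξs : Function.Surjective ξ := σ.subgroupComap_surjective_of_surjective U hsurj
  obtain ⟨f, -, hf'⟩ := exists_schurT_hom_of_central U (⊤ : Subgroup ΓU) ξ
    (fun q => by obtain ⟨a, ha⟩ := hξs q; exact ⟨a, Subgroup.mem_top _, ha⟩)
    (fun a _ ha => by
      have : (a : Γ) ∈ Subgroup.center Γ := hc (by rw [MonoidHom.mem_ker, ← hξ, ha]; rfl)
      rw [Subgroup.mem_center_iff] at this ⊢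
      intro g
      exact Subtype.ext (this g.1))
  let R : Subgroup ΓU := f.range
  let p : B →* R := f.rangeRestrict.comp eB.toMonoidHom
  have hp : Function.Surjective p := f.rangeRestrict_surjective.comp eB.surjective
  obtain ⟨j, hj⟩ := exists_injective_of_surjective_comm p hp
  -- `A^m → R`
  let i₀ : (powMonoidHom U.index : A →* A).range →* ΓU :=
    { toFun := fun a => ⟨(e.symm a.1 : σ.ker), hker_le (e.symm a.1).2⟩
      map_one' := Subtype.ext (by simp)
      map_mul' := fun a b => Subtype.ext (by simp) }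
  have hi₀_inj : Function.Injective i₀ := by
    intro a b hab
    have h1 : ((e.symm a.1 : σ.ker) : Γ) = (e.symm b.1 : σ.ker) := congrArg (fun x : ΓU => (x : Γ)) hab
    exact Subtype.ext (e.symm.injective (Subtype.ext h1))
  have hi₀ : ∀ a, i₀ a ∈ R := by
    rintro ⟨a, b, rfl⟩
    have hpow : ((e.symm (b ^ U.index) : σ.ker) : Γ) = ((e.symm b : σ.ker) : Γ) ^ U.index := by
      rw [map_pow]; rfl
    have hz := htr _ (e.symm b).2
    rw [← hpow, ← Subgroup.map_subtype_commutator] at hz
    obtain ⟨k', hk', hk'eq⟩ := hz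
    have hk'' : k' = i₀ ⟨_, b, rfl⟩ := Subtype.ext hk'eq
    rw [← hk'']
    have hξk : ξ k' = 1 := by
      apply Subtype.ext
      rw [hξ]
      have : (k' : Γ) = ((e.symm (b ^ U.index) : σ.ker) : Γ) := hk'eq
      rw [this]
      exact (e.symm (b ^ U.index)).2
    obtain ⟨t, ht⟩ := hf' k' (by rw [← commutator_def]; exact hk') hξk
    exact ⟨t, ht⟩
  let i : (powMonoidHom U.index : A →* A).range →* R := i₀.codRestrict R hi₀
  have hi : Function.Injective i := by
    intro a b hab
    exact hi₀_inj (congrArg (fun x : R => (x : ΓU)) hab)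
  exact ⟨j.comp i, hj.comp hi⟩

end Cfsg.Agent.Lib.H18
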