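import Mathlib
import Cfsg.Agent.Lib.H18.SchurCover

/-!
# A criterion for a cyclic Schur multiplier of order 6 (helper18)
-/

set_option autoImplicit false

namespace Cfsg.Agent.Lib.H18.SchurSix

open Cfsg.Agent.Lib.H18

universe u

/-- If all stem kernels have order dividing 6 and there are stem kernels of orders divisible by 2
and 3, the Schur multiplier is cyclic of order 6. -/
theorem hasCyclicSchurMultiplier_six {Q : Type u} [Group Q] [Finite Q]
    (hub : ∀ (Γ : Type u) [Group Γ] [Finite Γ] (σ : Γ →* Q), Cfsg.IsStemExtension σ →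
      Nat.card σ.ker ∣ 6)
    (h2 : ∃ (Γ : Type u) (_ : Group Γ) (_ : Finite Γ) (σ : Γ →* Q), Cfsg.IsStemExtension σ ∧
      2 ∣ Nat.card σ.ker)
    (h3 : ∃ (Γ : Type u) (_ : Group Γ) (_ : Finite Γ) (σ : Γ →* Q), Cfsg.IsStemExtension σ ∧
      3 ∣ Nat.card σ.ker) :
    Cfsg.HasCyclicSchurMultiplier Q 6 := by
  have hT := hasSchurMultiplier_schurT Q
  have hdvd6 : Nat.card (SchurT Q) ∣ 6 := by
    obtain ⟨⟨Γ, _, _, σ, hσ, ⟨e⟩⟩, -⟩ := hT
    rw [← Nat.card_congr e.toEquiv]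
    exact hub Γ σ hσ
  have h2' : 2 ∣ Nat.card (SchurT Q) := by
    obtain ⟨Γ, _, _, σ, hσ, hd⟩ := h2
    obtain ⟨p, hp⟩ := exists_surjective_schurT_ker Q σ hσ
    exact dvd_trans hd (Subgroup.card_dvd_of_surjective p hp)
  have h3' : 3 ∣ Nat.card (SchurT Q) := by
    obtain ⟨Γ, _, _, σ, hσ, hd⟩ := h3
    obtain ⟨p, hp⟩ := exists_surjective_schurT_ker Q σ hσ
    exact dvd_trans hd (Subgroup.card_dvd_of_surjective p hp)
  have hcard : Nat.card (SchurT Q) = 6 := by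
    apply Nat.dvd_antisymm hdvd6
    exact Nat.Coprime.mul_dvd_of_dvd_of_dvd (by norm_num : Nat.Coprime 2 3) h2' h3'
  haveI : IsCyclic (SchurT Q) := by
    apply IsCyclic.of_exponent_eq_card
    rw [hcard]
    apply Nat.dvd_antisymm (hcard ▸ Group.exponent_dvd_nat_card)
    haveI : Fact (Nat.Prime 2) := ⟨Nat.prime_two⟩
    haveI : Fact (Nat.Prime 3) := ⟨Nat.prime_three⟩
    obtain ⟨x, hx⟩ := exists_prime_orderOf_dvd_card' (G := SchurT Q) 2 h2'
    obtain ⟨y, hy⟩ := exists_prime_orderOf_dvd_card' (G := SchurT Q) 3 h3'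
    exact Nat.Coprime.mul_dvd_of_dvd_of_dvd (by norm_num : Nat.Coprime 2 3)
      (hx ▸ Monoid.order_dvd_exponent x) (hy ▸ Monoid.order_dvd_exponent y)
  have hc6 : Nat.card (SchurT Q) = Nat.card (Multiplicative (ZMod 6)) := by
    rw [hcard]
    exact (Nat.card_zmod 6).symm
  exact hasSchurMultiplier_of_mulEquiv Q hT (mulEquivOfCyclicCardEq hc6)

end Cfsg.Agent.Lib.H18.SchurSix
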