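import Mathlib
import Cfsg.Prelude.Def_KGroupFacts
import Cfsg.Agent.Lib.H18.ProjConverse
import Cfsg.Agent.Lib.H18.SchurKunneth

/-!
# Uniqueness of Schur covers (helper18)

All Schur covers of `Q` are isomorphic over `Q` iff `|Qᵃᵇ|` and `|M(Q)|` are coprime.
-/

set_option autoImplicit false

namespace Cfsg.Agent.Lib.H18

open scoped commutatorElement

universe u v w

section CoprimeExt

/-- Coprime extension of homomorphisms: if `x ^ m ∈ S` for all `x` and `m` is prime to `|C|`, every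
homomorphism `S → C` extends. -/
theorem exists_extend_hom_of_coprime {V : Type*} [CommGroup V] (S : Subgroup V) (m : ℕ)
    (hm : ∀ x : V, x ^ m ∈ S) {C : Type*} [CommGroup C] [Finite C]
    (hcop : Nat.Coprime m (Nat.card C)) (θ : S →* C) : ∃ η : V →* C, ∀ s : S, η s = θ s := by
  classical
  by_cases h1 : Nat.card C = 1
  · haveI : Subsingleton C := (Nat.card_eq_one_iff_unique.mp h1).1
    exact ⟨1, fun s => Subsingleton.elim _ _⟩
  have hC : 1 < Nat.card C := by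
    have := Nat.card_pos (α := C)
    omega
  obtain ⟨m', -, hm'⟩ := Nat.exists_mul_mod_eq_one_of_coprime hcop hC
  let pw : V →* S := (powMonoidHom m).codRestrict S hm
  refine ⟨(powMonoidHom m').comp (θ.comp pw), ?_⟩
  intro s
  have hpw : pw s = s ^ m := Subtype.ext rfl
  simp only [MonoidHom.coe_comp, Function.comp_apply, powMonoidHom_apply]
  rw [hpw, map_pow, ← pow_mul, ← pow_mod_natCard, hm', pow_one]

/-- Non-commutative version: `S` meets the commutator subgroup trivially and `e ^ m ∈ S E'`. -/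
theorem exists_extend_hom_of_coprime' {E : Type*} [Group E] (S : Subgroup E)
    (hS : ∀ s ∈ S, s ∈ commutator E → s = 1) (m : ℕ)
    (hm : ∀ e : E, ∃ s ∈ S, ∃ c ∈ commutator E, e ^ m = s * c)
    {C : Type*} [CommGroup C] [Finite C] (hcop : Nat.Coprime m (Nat.card C)) (θ : S →* C) :
    ∃ η : E →* C, ∀ s : S, η s = θ s := by
  let ι : S →* Abelianization E := Abelianization.of.comp S.subtype
  have hι : Function.Injective ι := by
    rw [injective_iff_map_eq_one]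
    intro s hs
    have : (s : E) ∈ (Abelianization.of (G := E)).ker := hs
    rw [Abelianization.ker_of] at this
    exact Subtype.ext (hS s.1 s.2 this)
  let ε : S ≃* ι.range := MonoidHom.ofInjective hι
  have hm' : ∀ x : Abelianization E, x ^ m ∈ ι.range := by
    intro x
    obtain ⟨e, rfl⟩ := QuotientGroup.mk_surjective x
    obtain ⟨s, hs, c, hc, hec⟩ := hm e
    refine ⟨⟨s, hs⟩, ?_⟩
    change Abelianization.of s = (Abelianization.of e) ^ m
    rw [← map_pow, hec, map_mul]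
    have : c ∈ (Abelianization.of (G := E)).ker := by rw [Abelianization.ker_of]; exact hc
    rw [MonoidHom.mem_ker.mp this, mul_one]
  obtain ⟨η, hη⟩ := exists_extend_hom_of_coprime ι.range m hm' hcop (θ.comp ε.symm.toMonoidHom)
  refine ⟨η.comp Abelianization.of, ?_⟩
  intro s
  have := hη (ε s)
  simp only [MonoidHom.coe_comp, MulEquiv.coe_toMonoidHom, Function.comp_apply,
    MulEquiv.symm_apply_apply] at this
  rw [← this]
  rfl

end CoprimeExt

section Covers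

variable (Q : Type u) [Group Q] [Finite Q]

/-- A surjection over `Q` from a cover `E/S` onto a stem extension with kernel of the same order is
injective. -/
theorem injective_of_cover {A : Type v} [CommGroup A] (hA : Cfsg.HasSchurMultiplier Q A)
    {Γ : Type w} [Group Γ] [Finite Γ] (σ : Γ →* Q) (hk : Nonempty (σ.ker ≃* A))
    {S : Subgroup (scE Q)} (hS : IsScComplement Q S) [S.Normal] (β₀ : scE Q ⧸ S →* Γ)
    (hβs : Function.Surjective β₀) (hβ : σ.comp β₀ = scσ S hS.le) : Function.Injective β₀ := by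
  have hβ' : ∀ x, σ (β₀ x) = scσ S hS.le x := fun x => DFunLike.congr_fun hβ x
  obtain ⟨eA⟩ := mulEquiv_schurT_of_hasSchurMultiplier Q hA
  obtain ⟨ek⟩ := hk
  haveI := scσ_finite hS
  have hcard : Nat.card (scσ S hS.le).ker = Nat.card σ.ker := by
    rw [← Nat.card_congr (scσ_kerEquiv hS).toEquiv, Nat.card_congr (schurTEquiv Q).toEquiv,
      ← Nat.card_congr eA.toEquiv, Nat.card_congr ek.toEquiv]
  let r : (scσ S hS.le).ker → σ.ker := fun x =>
    ⟨β₀ x.1, by rw [MonoidHom.mem_ker, hβ']; exact x.2⟩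
  have hr : Function.Surjective r := by
    rintro ⟨k, hk⟩
    obtain ⟨y, rfl⟩ := hβs k
    refine ⟨⟨y, ?_⟩, rfl⟩
    rw [MonoidHom.mem_ker, ← hβ']
    exact hk
  have hrb : Function.Bijective r := hr.bijective_of_nat_card_le hcard.le
  rw [injective_iff_map_eq_one]
  intro x hx
  have hxk : x ∈ (scσ S hS.le).ker := by
    rw [MonoidHom.mem_ker, ← hβ', hx, map_one]
  have : r ⟨x, hxk⟩ = r 1 := by
    apply Subtype.ext
    change β₀ x = β₀ 1
    rw [hx, map_one]
  exact congrArg Subtype.val (hrb.1 this)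

/-- `e ^ |Qᵃᵇ| ∈ S E'` for a complement `S`. -/
theorem pow_card_abelianization_mem {S : Subgroup (scE Q)} (hS : IsScComplement Q S)
    (e : scE Q) : ∃ s ∈ S, ∃ c ∈ commutator (scE Q),
      e ^ Nat.card (Abelianization Q) = s * c := by
  set m := Nat.card (Abelianization Q) with hm
  have h1 : scπ Q (e ^ m) ∈ commutator Q := by
    rw [← Abelianization.ker_of, MonoidHom.mem_ker, map_pow, map_pow, hm, pow_card_eq_one']
  obtain ⟨c, hc, hce⟩ := commutator_le_map_of_surjective (scπ Q) (scπ_surjective Q) h1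
  have h2 : e ^ m * c⁻¹ ∈ scZ Q := by
    rw [mem_scZ, map_mul, map_inv, hce, mul_inv_cancel]
  obtain ⟨s, hs, t, ht, hst⟩ := hS.sup _ h2
  refine ⟨s, hs, t * c, Subgroup.mul_mem _ ((mem_scT Q).mp ht).2 hc, ?_⟩
  rw [← mul_assoc, ← hst]
  group

open scoped IsMulCommutative in
/-- With `|Qᵃᵇ|` prime to `|M(Q)|`, every Schur cover is isomorphic over `Q` to every `E/S`. -/
theorem exists_equiv_of_coprime {A : Type v} [CommGroup A] (hA : Cfsg.HasSchurMultiplier Q A)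
    (hcop : Nat.Coprime (Nat.card (Abelianization Q)) (Nat.card A))
    {Γ : Type w} [Group Γ] [Finite Γ] (σ : Γ →* Q) (hσ : Cfsg.IsStemExtension σ)
    (hk : Nonempty (σ.ker ≃* A)) {S : Subgroup (scE Q)} (hS : IsScComplement Q S) [S.Normal] :
    ∃ β : scE Q ⧸ S ≃* Γ, σ.comp β.toMonoidHom = scσ S hS.le := by
  obtain ⟨hs, hc, hd⟩ := hσ
  obtain ⟨φ, hφ⟩ := sc_lift Q σ hs hc
  have hφ' : ∀ e, σ (φ e) = scπ Q e := fun e => DFunLike.congr_fun hφ e
  haveI : IsMulCommutative σ.ker :=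
    ⟨⟨fun a b => Subtype.ext (Subgroup.mem_center_iff.mp (hc b.2) a.1)⟩⟩
  have hmem : ∀ s : S, (φ.comp S.subtype) s ∈ σ.ker := by
    intro s
    rw [MonoidHom.mem_ker]
    change σ (φ s.1) = 1
    rw [hφ', (mem_scZ Q).mp (hS.le s.2)]
  let θ₀ : S →* σ.ker := (φ.comp S.subtype).codRestrict σ.ker hmem
  have hcop' : Nat.Coprime (Nat.card (Abelianization Q)) (Nat.card σ.ker) := by
    obtain ⟨ek⟩ := hk
    rw [Nat.card_congr ek.toEquiv]
    exact hcop
  obtain ⟨η, hη⟩ := exists_extend_hom_of_coprime' S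
    (fun s hs hsc => hS.inf s hs ⟨hS.le hs, hsc⟩) (Nat.card (Abelianization Q))
    (pow_card_abelianization_mem Q hS) hcop' θ₀⁻¹
  have hηc : ∀ e, ((η e : σ.ker) : Γ) ∈ Subgroup.center Γ := fun e => hc (η e).2
  let φ' : scE Q →* Γ := MonoidHom.mk' (fun e => φ e * (η e : Γ)) (by
    intro a b
    have hcomm := Subgroup.mem_center_iff.mp (hηc a) (φ b)
    rw [map_mul, map_mul, Subgroup.coe_mul]
    calc φ a * φ b * (((η a : σ.ker) : Γ) * ((η b : σ.ker) : Γ))
        = φ a * (φ b * ((η a : σ.ker) : Γ)) * ((η b : σ.ker) : Γ) := by group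
      _ = φ a * (((η a : σ.ker) : Γ) * φ b) * ((η b : σ.ker) : Γ) := by rw [hcomm]
      _ = _ := by group)
  have hφ'_apply : ∀ e, φ' e = φ e * (η e : Γ) := fun _ => rfl
  have hφ'S : ∀ s ∈ S, φ' s = 1 := by
    intro s hs
    rw [hφ'_apply, hη ⟨s, hs⟩, MonoidHom.inv_apply, Subgroup.coe_inv]
    change φ s * (φ s)⁻¹ = 1
    rw [mul_inv_cancel]
  have hφ'σ : ∀ e, σ (φ' e) = scπ Q e := by
    intro e
    rw [hφ'_apply, map_mul, hφ', MonoidHom.mem_ker.mp (η e).2, mul_one]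
  let β₀ : scE Q ⧸ S →* Γ := QuotientGroup.lift S φ' hφ'S
  have hβ : σ.comp β₀ = scσ S hS.le := by
    apply QuotientGroup.monoidHom_ext
    refine MonoidHom.ext fun e => ?_
    change σ (φ' e) = scπ Q e
    exact hφ'σ e
  have hβs : Function.Surjective β₀ := by
    apply surjective_of_comp_surjective_of_stem σ hc hd β₀
    rw [hβ]
    exact scσ_surjective S hS.le
  have hβi := injective_of_cover Q hA σ hk hS β₀ hβs hβ
  refine ⟨MulEquiv.ofBijective β₀ ⟨hβi, hβs⟩, ?_⟩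
  rw [← hβ]
  rfl

end Covers

section Converse

variable (Q : Type u) [Group Q]

/-- An isomorphism over `Q` between two covers `E/S₁`, `E/S₂` comes from a twist `e ↦ e η(e)` with
`η : E → T`. -/
theorem exists_hom_of_equiv_over {S₁ S₂ : Subgroup (scE Q)} (hS₁ : IsScComplement Q S₁)
    (hS₂ : IsScComplement Q S₂) [S₁.Normal] [S₂.Normal] (β : scE Q ⧸ S₁ ≃* scE Q ⧸ S₂)
    (hβ : (scσ S₂ hS₂.le).comp β.toMonoidHom = scσ S₁ hS₁.le) :
    ∃ η : scE Q →* scT Q, ∀ s ∈ S₁, s * (η s : scE Q) ∈ S₂ := by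
  have hβ' : ∀ x, scσ S₂ hS₂.le (β x) = scσ S₁ hS₁.le x := fun x => DFunLike.congr_fun hβ x
  let g : scE Q →* scE Q ⧸ S₂ := β.toMonoidHom.comp (QuotientGroup.mk' S₁)
  have hg : ∀ e, g e = β (QuotientGroup.mk e) := fun _ => rfl
  have hgσ : ∀ e, scσ S₂ hS₂.le (g e) = scπ Q e := by
    intro e
    rw [hg, hβ', scσ_mk]
  have hν₀ : ∀ e, g e * (QuotientGroup.mk e : scE Q ⧸ S₂)⁻¹ ∈ (scσ S₂ hS₂.le).ker := by
    intro e
    rw [MonoidHom.mem_ker, map_mul, map_inv, hgσ, scσ_mk, mul_inv_cancel]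
  have hcen := (scσ_isStem hS₂).2.1
  let ν : scE Q →* (scσ S₂ hS₂.le).ker :=
    MonoidHom.mk' (fun e => ⟨g e * (QuotientGroup.mk e : scE Q ⧸ S₂)⁻¹, hν₀ e⟩) (by
      intro a b
      apply Subtype.ext
      change g (a * b) * (QuotientGroup.mk (a * b) : scE Q ⧸ S₂)⁻¹
        = (g a * (QuotientGroup.mk a : scE Q ⧸ S₂)⁻¹) * (g b * (QuotientGroup.mk b : scE Q ⧸ S₂)⁻¹)
      have hc := Subgroup.mem_center_iff.mp (hcen (hν₀ b)) (QuotientGroup.mk a : scE Q ⧸ S₂)⁻¹
      rw [map_mul, QuotientGroup.mk_mul, mul_inv_rev]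
      calc g a * g b * ((QuotientGroup.mk b : scE Q ⧸ S₂)⁻¹ * (QuotientGroup.mk a : scE Q ⧸ S₂)⁻¹)
          = g a * ((g b * (QuotientGroup.mk b : scE Q ⧸ S₂)⁻¹)
              * (QuotientGroup.mk a : scE Q ⧸ S₂)⁻¹) := by group
        _ = g a * ((QuotientGroup.mk a : scE Q ⧸ S₂)⁻¹
              * (g b * (QuotientGroup.mk b : scE Q ⧸ S₂)⁻¹)) := by rw [hc]
        _ = _ := by group)
  have hν : ∀ e, ((ν e : (scσ S₂ hS₂.le).ker) : scE Q ⧸ S₂)
      = g e * (QuotientGroup.mk e : scE Q ⧸ S₂)⁻¹ := fun _ => rfl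
  let η : scE Q →* scT Q := (scσ_kerEquiv hS₂).symm.toMonoidHom.comp ν
  have hη : ∀ e, (QuotientGroup.mk ((η e : scT Q) : scE Q) : scE Q ⧸ S₂)
      = g e * (QuotientGroup.mk e : scE Q ⧸ S₂)⁻¹ := by
    intro e
    have h1 : scσ_kerEquiv hS₂ (η e) = ν e := by
      simp only [η, MonoidHom.coe_comp, MulEquiv.coe_toMonoidHom, Function.comp_apply,
        MulEquiv.apply_symm_apply]
    have h2 := congrArg Subtype.val h1
    rw [hν] at h2
    rw [← h2]
    rfl
  refine ⟨η, ?_⟩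
  intro s hs
  rw [← QuotientGroup.eq_one_iff, QuotientGroup.mk_mul, hη, hg,
    (QuotientGroup.eq_one_iff s).mpr hs, map_one, one_mul]
  exact mul_inv_cancel _

/-- The complement `{s θ(s)}` obtained by twisting `S₁` with `θ : S₁ → T`. -/
theorem exists_twist_complement {S₁ : Subgroup (scE Q)} (hS₁ : IsScComplement Q S₁)
    (θ : S₁ →* scT Q) :
    ∃ S₂ : Subgroup (scE Q), IsScComplement Q S₂ ∧
      ∀ x ∈ S₂, ∃ s : S₁, x = (s : scE Q) * ((θ s : scT Q) : scE Q) := by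
  have hTc : ∀ t : scT Q, (t : scE Q) ∈ Subgroup.center (scE Q) :=
    fun t => scZ_le_center Q (scT_le_scZ Q t.2)
  let tw : S₁ →* scE Q := MonoidHom.mk' (fun s => (s : scE Q) * ((θ s : scT Q) : scE Q)) (by
    intro a b
    have hc := Subgroup.mem_center_iff.mp (hTc (θ a)) (b : scE Q)
    rw [map_mul, Subgroup.coe_mul, Subgroup.coe_mul]
    calc (a : scE Q) * b * (((θ a : scT Q) : scE Q) * ((θ b : scT Q) : scE Q))
        = (a : scE Q) * ((b : scE Q) * ((θ a : scT Q) : scE Q)) * ((θ b : scT Q) : scE Q) := by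
          group
      _ = (a : scE Q) * (((θ a : scT Q) : scE Q) * (b : scE Q)) * ((θ b : scT Q) : scE Q) := by
          rw [hc]
      _ = _ := by group)
  have htw : ∀ s : S₁, tw s = (s : scE Q) * ((θ s : scT Q) : scE Q) := fun _ => rfl
  refine ⟨tw.range, ⟨?_, ?_, ?_⟩, ?_⟩
  · rintro _ ⟨s, rfl⟩
    rw [htw]
    exact Subgroup.mul_mem _ (hS₁.le s.2) (scT_le_scZ Q (θ s).2)
  · rintro _ ⟨s, rfl⟩ hT
    rw [htw] at hT ⊢
    have hsT : (s : scE Q) ∈ scT Q := by
      have := Subgroup.mul_mem _ hT (Subgroup.inv_mem _ (θ s).2)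
      rwa [mul_inv_cancel_right] at this
    have hs1 : (s : scE Q) = 1 := hS₁.inf _ s.2 hsT
    have hs1' : s = 1 := Subtype.ext hs1
    rw [hs1', map_one]
    simp
  · intro z hz
    obtain ⟨s, hs, t, ht, rfl⟩ := hS₁.sup z hz
    refine ⟨tw ⟨s, hs⟩, ⟨_, rfl⟩, ((θ ⟨s, hs⟩ : scT Q) : scE Q)⁻¹ * t,
      Subgroup.mul_mem _ (Subgroup.inv_mem _ (θ ⟨s, hs⟩).2) ht, ?_⟩
    rw [htw]
    group
  · rintro _ ⟨s, rfl⟩
    exact ⟨s, rfl⟩

/-- If `θ : S₁ → T` does not extend to `E`, the twisted cover is not isomorphic over `Q` to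
`E/S₁`. -/
theorem exists_not_equiv_of_not_extends {S₁ : Subgroup (scE Q)} (hS₁ : IsScComplement Q S₁)
    [S₁.Normal] (θ : S₁ →* scT Q)
    (hθ : ¬ ∃ η : scE Q →* scT Q, ∀ s : S₁, η s = θ s) :
    ∃ (S₂ : Subgroup (scE Q)) (hS₂ : IsScComplement Q S₂) (_ : S₂.Normal),
      ¬ ∃ β : scE Q ⧸ S₁ ≃* scE Q ⧸ S₂,
        (scσ S₂ hS₂.le).comp β.toMonoidHom = scσ S₁ hS₁.le := by
  obtain ⟨S₂, hS₂, hS₂'⟩ := exists_twist_complement Q hS₁ θ
  haveI := hS₂.normal
  refine ⟨S₂, hS₂, hS₂.normal, ?_⟩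
  rintro ⟨β, hβ⟩
  obtain ⟨η, hη⟩ := exists_hom_of_equiv_over Q hS₁ hS₂ β hβ
  apply hθ
  refine ⟨η, ?_⟩
  intro s
  obtain ⟨s', hs'⟩ := hS₂' _ (hη s.1 s.2)
  -- `s η(s) = s' θ(s')`
  have h1 : (s' : scE Q)⁻¹ * (s : scE Q)
      = ((θ s' : scT Q) : scE Q) * ((η s : scT Q) : scE Q)⁻¹ := by
    rw [inv_mul_eq_iff_eq_mul, ← mul_assoc, ← hs', mul_inv_cancel_right]
  have h2 : (s' : scE Q)⁻¹ * (s : scE Q) ∈ S₁ := Subgroup.mul_mem _ (Subgroup.inv_mem _ s'.2) s.2
  have h3 : (s' : scE Q)⁻¹ * (s : scE Q) ∈ scT Q := by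
    rw [h1]
    exact Subgroup.mul_mem _ (θ s').2 (Subgroup.inv_mem _ (η s).2)
  have h4 := hS₁.inf _ h2 h3
  have h5 : s' = s := by
    apply Subtype.ext
    rw [inv_mul_eq_one] at h4
    exact h4
  subst h5
  rw [h4] at h1
  apply Subtype.ext
  have : ((θ s' : scT Q) : scE Q) = ((η s' : scT Q) : scE Q) := mul_inv_eq_one.mp h1.symm
  exact this.symm

end Converse

section NotExtends

variable (Q : Type u) [Group Q] [Finite Q]

open scoped IsMulCommutative in
/-- If a prime divides both `|Qᵃᵇ|` and `|M(Q)|`, some homomorphism `S₁ → M(Q)` does not extend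
to `E`. -/
theorem exists_not_extends {S₁ : Subgroup (scE Q)} (hS₁ : IsScComplement Q S₁) (p : ℕ)
    [hp : Fact p.Prime] (hp1 : p ∣ Nat.card (Abelianization Q)) (hp2 : p ∣ Nat.card (SchurT Q)) :
    ∃ θ : S₁ →* SchurT Q, ¬ ∃ η : scE Q →* SchurT Q, ∀ s : S₁, η s = θ s := by
  classical
  have hpz : (p : ℤ) ≠ 0 := by exact_mod_cast hp.out.ne_zero
  -- an element of order `p` in `Qᵃᵇ` and a lift to `E`
  obtain ⟨abar, habar⟩ := exists_prime_orderOf_dvd_card' p hp1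
  obtain ⟨q, hq⟩ := QuotientGroup.mk_surjective abar
  obtain ⟨et, het⟩ := scπ_surjective Q q
  have het' : Abelianization.of (scπ Q et) = abar := by rw [het]; exact hq
  have h1 : scπ Q (et ^ p) ∈ commutator Q := by
    rw [← Abelianization.ker_of, MonoidHom.mem_ker, map_pow, map_pow, het', ← habar,
      pow_orderOf_eq_one]
  obtain ⟨c, hc, hce⟩ := commutator_le_map_of_surjective (scπ Q) (scπ_surjective Q) h1
  have h2 : et ^ p * c⁻¹ ∈ scZ Q := by
    rw [mem_scZ, map_mul, map_inv, hce, mul_inv_cancel]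
  obtain ⟨s₀, hs₀, t, ht, hst⟩ := hS₁.sup _ h2
  -- `scab (et ^ p) = scab s₀`
  have hscab_comm : ∀ x ∈ commutator (scE Q), scab Q x = 1 := by
    intro x hx
    rw [← scab_ker] at hx
    exact hx
  have hscab : scab Q et ^ p = scab Q s₀ := by
    have : et ^ p = s₀ * (t * c) := by
      rw [← mul_assoc, ← hst]
      group
    rw [← map_pow, this, map_mul, map_mul, hscab_comm t ((mem_scT Q).mp ht).2, hscab_comm c hc,
      mul_one, mul_one]
  -- an element of `M(Q)` which is not a `p`-th power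
  have hnotsurj : ¬ Function.Surjective (powMonoidHom p : SchurT Q →* SchurT Q) := by
    intro hsurj
    have hinj := Finite.injective_iff_surjective.mpr hsurj
    obtain ⟨u, hu⟩ := exists_prime_orderOf_dvd_card' p hp2
    have hu1 : u ^ p = 1 := by rw [← hu]; exact pow_orderOf_eq_one u
    have : u = 1 := hinj (by simp only [powMonoidHom_apply]; rw [hu1, one_pow])
    rw [this, orderOf_one] at hu
    exact hp.out.one_lt.ne hu
  obtain ⟨t₀, ht₀⟩ : ∃ t₀ : SchurT Q, ∀ u : SchurT Q, u ^ p ≠ t₀ := by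
    by_contra hcon
    push_neg at hcon
    exact hnotsurj hcon
  -- `S₁` is free abelian
  haveI : IsMulCommutative S₁ :=
    ⟨⟨fun a b => Subtype.ext
      (Subgroup.mem_center_iff.mp (scZ_le_center Q (hS₁.le b.2)) a.1)⟩⟩
  let g₀ : S₁ →* Abelianization (FreeGroup Q) := (scab Q).comp S₁.subtype
  let g₁ : Additive S₁ →ₗ[ℤ] FreeAbelianGroup Q := (MonoidHom.toAdditive g₀).toIntLinearMap
  have hg₁ : ∀ s : S₁, g₁ (Additive.ofMul s) = Additive.ofMul (scab Q (s : scE Q)) := fun _ => rfl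
  have hg₁inj : Function.Injective g₁ := by
    rw [injective_iff_map_eq_zero]
    intro x hx
    have hx' : scab Q ((Additive.toMul x : S₁) : scE Q) = 1 := hx
    have h3 : ((Additive.toMul x : S₁) : scE Q) ∈ scT Q := by
      rw [mem_scT_iff]
      exact ⟨hS₁.le (Additive.toMul x).2, hx'⟩
    have h4 := hS₁.inf _ (Additive.toMul x).2 h3
    have h5 : (Additive.toMul x : S₁) = 1 := Subtype.ext h4
    exact h5
  obtain ⟨n, ⟨bN⟩⟩ := Submodule.nonempty_basis_of_pid (FreeAbelianGroup.basis Q)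
    (LinearMap.range g₁)
  let bS : Module.Basis (Fin n) ℤ (Additive S₁) :=
    bN.map (LinearEquiv.ofInjective g₁ hg₁inj).symm
  let x₀ : Additive S₁ := Additive.ofMul (⟨s₀, hs₀⟩ : S₁)
  -- some coordinate of `x₀` is prime to `p`
  have hcoord : ∃ j, ¬ (p : ℤ) ∣ bS.repr x₀ j := by
    by_contra hcon
    push_neg at hcon
    choose k hk using hcon
    let y : Additive S₁ := ∑ j, k j • bS j
    have hy : (p : ℤ) • y = x₀ := by
      rw [← bS.sum_repr x₀, Finset.smul_sum]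
      refine Finset.sum_congr rfl (fun j _ => ?_)
      rw [smul_smul, hk j]
    -- then `scab et = scab s` with `s ∈ S₁`
    have h5 : (p : ℤ) • g₁ y = (p : ℤ) • (Additive.ofMul (scab Q et) : FreeAbelianGroup Q) := by
      rw [← map_smul, hy, hg₁]
      change Additive.ofMul (scab Q s₀) = (p : ℤ) • Additive.ofMul (scab Q et)
      rw [← hscab, natCast_zsmul, ← ofMul_pow]
    have h6 : g₁ y = (Additive.ofMul (scab Q et) : FreeAbelianGroup Q) :=
      (smul_right_inj hpz).mp h5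
    have h7 : scab Q ((Additive.toMul y : S₁) : scE Q) = scab Q et := h6
    have h8 : et * ((Additive.toMul y : S₁) : scE Q)⁻¹ ∈ commutator (scE Q) := by
      rw [← scab_ker, MonoidHom.mem_ker, map_mul, map_inv, h7, mul_inv_cancel]
    have h9 : scπ Q (et * ((Additive.toMul y : S₁) : scE Q)⁻¹) ∈ commutator Q :=
      map_commutator_le_commutator (scπ Q) (Subgroup.mem_map_of_mem _ h8)
    rw [map_mul, map_inv, (mem_scZ Q).mp (hS₁.le (Additive.toMul y).2), inv_one, mul_one,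
      ← Abelianization.ker_of, MonoidHom.mem_ker, het'] at h9
    rw [h9, orderOf_one] at habar
    exact hp.out.one_lt.ne habar
  obtain ⟨j, hj⟩ := hcoord
  let f : Additive S₁ →ₗ[ℤ] ℤ := bS.coord j
  have hf : f x₀ = bS.repr x₀ j := rfl
  let θ : S₁ →* SchurT Q := MonoidHom.mk' (fun s => t₀ ^ (f (Additive.ofMul s))) (by
    intro a b
    rw [ofMul_mul, map_add, zpow_add])
  have hθ : ∀ s : S₁, θ s = t₀ ^ (f (Additive.ofMul s)) := fun _ => rfl
  refine ⟨θ, ?_⟩
  rintro ⟨η, hη⟩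
  have hηc : ∀ x ∈ commutator (scE Q), η x = 1 := by
    intro x hx
    exact Abelianization.commutator_subset_ker η hx
  have h10 : η (et ^ p) = θ ⟨s₀, hs₀⟩ := by
    have : et ^ p = s₀ * (t * c) := by
      rw [← mul_assoc, ← hst]
      group
    rw [this, map_mul, map_mul, hηc t ((mem_scT Q).mp ht).2, hηc c hc, mul_one, mul_one]
    exact hη ⟨s₀, hs₀⟩
  rw [map_pow, hθ] at h10
  change (η et) ^ p = t₀ ^ (f x₀) at h10
  rw [hf] at h10
  have hcop : IsCoprime (p : ℤ) (bS.repr x₀ j) :=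
    (Prime.coprime_iff_not_dvd (Nat.prime_iff_prime_int.mp hp.out)).mpr hj
  obtain ⟨a, b, hab⟩ := hcop
  apply ht₀ (t₀ ^ a * (η et) ^ b)
  rw [mul_pow, ← zpow_natCast, ← zpow_natCast, ← zpow_mul, ← zpow_mul, mul_comm b, zpow_mul (η et),
    zpow_natCast (η et), h10, ← zpow_mul, ← zpow_add, mul_comm (bS.repr x₀ j), hab, zpow_one]

end NotExtends

section Final

/-- All Schur covers of `Q` are isomorphic over `Q` iff `|Qᵃᵇ|` is prime to `|M(Q)|`. -/
theorem covers_unique_iff (Q : Type u) [Group Q] [Finite Q] {A : Type v} [CommGroup A]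
    (hA : Cfsg.HasSchurMultiplier Q A) :
    (∀ (Γ₁ Γ₂ : Type u) [Group Γ₁] [Finite Γ₁] [Group Γ₂] [Finite Γ₂] (σ₁ : Γ₁ →* Q)
      (σ₂ : Γ₂ →* Q), Cfsg.IsStemExtension σ₁ → Cfsg.IsStemExtension σ₂ →
      Nonempty (σ₁.ker ≃* A) → Nonempty (σ₂.ker ≃* A) →
      ∃ e : Γ₁ ≃* Γ₂, σ₂.comp e.toMonoidHom = σ₁) ↔
    Nat.Coprime (Nat.card (Abelianization Q)) (Nat.card A) := by
  obtain ⟨eA⟩ := mulEquiv_schurT_of_hasSchurMultiplier Q hA
  constructor
  · intro h
    by_contra hcop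
    obtain ⟨p, hp, hp1, hp2⟩ := Nat.Prime.not_coprime_iff_dvd.mp hcop
    haveI : Fact p.Prime := ⟨hp⟩
    rw [Nat.card_congr eA.toEquiv] at hp2
    obtain ⟨S₁, hS₁⟩ := sc_exists_complement' Q
    haveI := hS₁.normal
    obtain ⟨θ, hθ⟩ := exists_not_extends Q hS₁ p hp1 hp2
    obtain ⟨S₂, hS₂, hS₂n, hno⟩ := exists_not_equiv_of_not_extends Q hS₁
      ((schurTEquiv Q).symm.toMonoidHom.comp θ) (by
        rintro ⟨η, hη⟩
        apply hθ
        refine ⟨(schurTEquiv Q).toMonoidHom.comp η, fun s => ?_⟩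
        simp only [MonoidHom.coe_comp, MulEquiv.coe_toMonoidHom, Function.comp_apply]
        rw [hη s]
        simp)
    apply hno
    haveI := scσ_finite hS₁
    haveI := scσ_finite hS₂
    exact h (scE Q ⧸ S₁) (scE Q ⧸ S₂) (scσ S₁ hS₁.le) (scσ S₂ hS₂.le) (scσ_isStem hS₁)
      (scσ_isStem hS₂) ⟨((scσ_kerEquiv hS₁).symm.trans (schurTEquiv Q)).trans eA.symm⟩
      ⟨((scσ_kerEquiv hS₂).symm.trans (schurTEquiv Q)).trans eA.symm⟩
  · intro hcop Γ₁ Γ₂ _ _ _ _ σ₁ σ₂ hσ₁ hσ₂ hk₁ hk₂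
    obtain ⟨S, hS, hSn, β₂, hβ₂⟩ := exists_scCover_equiv Q hA σ₂ hσ₂ hk₂
    obtain ⟨β₁, hβ₁⟩ := exists_equiv_of_coprime Q hA hcop σ₁ hσ₁ hk₁ hS
    refine ⟨β₁.symm.trans β₂, MonoidHom.ext fun x => ?_⟩
    have h1 : ∀ y, σ₁ (β₁ y) = scσ S hS.le y := fun y => DFunLike.congr_fun hβ₁ y
    have h2 : ∀ y, σ₂ (β₂ y) = scσ S hS.le y := fun y => DFunLike.congr_fun hβ₂ y
    change σ₂ (β₂ (β₁.symm x)) = σ₁ x
    rw [h2, ← h1, MulEquiv.apply_symm_apply]

end Final

end Cfsg.Agent.Lib.H18
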