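import Mathlib
import Cfsg.Agent.Lib.H20.SigCDefs
import Cfsg.Agent.S1281

/-!
# S1299 farm-out, PIECE QUOT: the quotient functor (helper18)

Statements of `tools/blueprints/S1299_sigs.lean`.  TWIN of `Lib/H13/SigCQUOT.lean` (helper13 landed
first): this copy lives in its own namespace `Cfsg.Agent.Lib.H18.SigCQ` so that the two files can
never clash.  Use helper13's for the S1299 assembly.
-/

set_option autoImplicit false

namespace Cfsg.Agent.Lib.H18.SigCQ

open Cfsg Cfsg.Agent.Lib.H20.SigC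

universe u

section

variable {G : Type u} [Group G] [Finite G]

/-- An elementary abelian `p`-group meets a `p'`-group trivially (elementwise form). -/
theorem h18_eq_one_of_mem_of_mem (p : ℕ) [Fact p.Prime] (A N : Subgroup G)
    (hA : Cfsg.IsElementaryAbelian p A) (hN : ¬ p ∣ Nat.card ↥N) {x : G} (hxA : x ∈ A)
    (hxN : x ∈ N) : x = 1 := by
  have hp : p.Prime := Fact.out
  have h1 : orderOf x ∣ p := orderOf_dvd_of_pow_eq_one (hA.2 x hxA)
  have h2 : orderOf x ∣ Nat.card ↥N := by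
    have := orderOf_dvd_natCard (⟨x, hxN⟩ : ↥N)
    rwa [Subgroup.orderOf_mk] at this
  rcases (Nat.dvd_prime hp).1 h1 with h | h
  · exact orderOf_eq_one_iff.1 h
  · exact absurd (h ▸ h2) hN

/-- `mk' N` is injective on `A`. -/
theorem h18_mk_injOn (p : ℕ) [Fact p.Prime] (A N : Subgroup G) [N.Normal]
    (hA : Cfsg.IsElementaryAbelian p A) (hN : ¬ p ∣ Nat.card ↥N) {a b : G} (ha : a ∈ A)
    (hb : b ∈ A) (h : QuotientGroup.mk' N a = QuotientGroup.mk' N b) : a = b := by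
  have h1 : a⁻¹ * b ∈ N := by
    rw [QuotientGroup.mk'_apply, QuotientGroup.mk'_apply] at h
    exact QuotientGroup.eq.1 h
  have h2 : a⁻¹ * b ∈ A := A.mul_mem (A.inv_mem ha) hb
  have h3 := h18_eq_one_of_mem_of_mem p A N hA hN h2 h1
  exact (inv_mul_eq_one.1 h3)

theorem h18_mk_ne_one (p : ℕ) [Fact p.Prime] (A N : Subgroup G) [N.Normal]
    (hA : Cfsg.IsElementaryAbelian p A) (hN : ¬ p ∣ Nat.card ↥N) {a : G} (ha : a ∈ A)
    (ha1 : a ≠ 1) : QuotientGroup.mk' N a ≠ 1 := by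
  intro h
  apply ha1
  apply h18_mk_injOn p A N hA hN ha A.one_mem
  rw [h, map_one]

theorem quot_isElementaryAbelian (p : ℕ) (A N : Subgroup G) [N.Normal]
    (hA : Cfsg.IsElementaryAbelian p A) :
    Cfsg.IsElementaryAbelian p (A.map (QuotientGroup.mk' N)) := by
  obtain ⟨hc, hp⟩ := hA
  refine ⟨?_, ?_⟩
  · haveI := hc
    exact Subgroup.map_isMulCommutative A (QuotientGroup.mk' N)
  · rintro _ ⟨a, ha, rfl⟩
    rw [← map_pow, hp a ha, map_one]

theorem quot_card_map (p : ℕ) [Fact p.Prime] (A N : Subgroup G) [N.Normal]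
    (hA : Cfsg.IsElementaryAbelian p A) (hN : ¬ p ∣ Nat.card ↥N) :
    Nat.card ↥(A.map (QuotientGroup.mk' N)) = Nat.card ↥A := by
  have hinj : Set.InjOn (QuotientGroup.mk' N) (A : Set G) := by
    intro a ha b hb h
    exact h18_mk_injOn p A N hA hN ha hb h
  have := Nat.card_image_of_injOn hinj
  rw [← Subgroup.coe_map] at this
  exact this

theorem quotTheta_apply (p : ℕ) [Fact p.Prime] (A N : Subgroup G) [N.Normal]
    (hA : Cfsg.IsElementaryAbelian p A) (hN : ¬ p ∣ Nat.card ↥N) (θ : G → Subgroup G)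
    {a : G} (ha : a ∈ A) (ha1 : a ≠ 1) :
    quotTheta A N θ (QuotientGroup.mk' N a) = (θ a).map (QuotientGroup.mk' N) := by
  have h : ∃ a' ∈ A, a' ≠ 1 ∧ (QuotientGroup.mk' N a' = QuotientGroup.mk' N a) :=
    ⟨a, ha, ha1, rfl⟩
  unfold quotTheta
  rw [dif_pos h]
  have hc := h.choose_spec
  have : h.choose = a := h18_mk_injOn p A N hA hN hc.1 ha hc.2.2
  rw [this]

theorem quot_isSolvableSignalizerFunctor (p : ℕ) [Fact p.Prime] (A N : Subgroup G) [N.Normal]
    (hA : Cfsg.IsElementaryAbelian p A) (hA2 : p ^ 2 ≤ Nat.card ↥A) (hN : ¬ p ∣ Nat.card ↥N)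
    (θ : G → Subgroup G) (hθ : Cfsg.IsSolvableSignalizerFunctor p A θ) :
    Cfsg.IsSolvableSignalizerFunctor p (A.map (QuotientGroup.mk' N)) (quotTheta A N θ) := by
  have hθ' := hθ
  obtain ⟨⟨h1, h2, h3, h4⟩, h5⟩ := hθ
  refine ⟨⟨?_, ?_, ?_, ?_⟩, ?_⟩
  · rintro _ ⟨a, ha, rfl⟩ hz1
    have ha1 : a ≠ 1 := by
      rintro rfl
      exact hz1 (map_one _)
    rw [quotTheta_apply p A N hA hN θ ha ha1]
    rintro _ ⟨t, ht, rfl⟩
    have htc := h1 a ha ha1 ht
    rw [Subgroup.mem_centralizer_singleton_iff] at htc ⊢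
    rw [← map_mul, ← map_mul, htc]
  · rintro _ ⟨a, ha, rfl⟩ hz1
    have ha1 : a ≠ 1 := by
      rintro rfl
      exact hz1 (map_one _)
    rw [quotTheta_apply p A N hA hN θ ha ha1]
    intro hdvd
    exact h2 a ha ha1 (hdvd.trans (Subgroup.card_map_dvd _ _))
  · rintro _ ⟨a, ha, rfl⟩ hz1 _ ⟨b, hb, rfl⟩
    have ha1 : a ≠ 1 := by
      rintro rfl
      exact hz1 (map_one _)
    rw [quotTheta_apply p A N hA hN θ ha ha1]
    rintro _ ⟨t, ht, rfl⟩
    refine ⟨b * t * b⁻¹, h3 a ha ha1 b hb t ht, ?_⟩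
    simp only [map_mul, map_inv]
  · rintro _ ⟨a, ha, rfl⟩ hz1 _ ⟨b, hb, rfl⟩ hw1
    have ha1 : a ≠ 1 := by
      rintro rfl
      exact hz1 (map_one _)
    have hb1 : b ≠ 1 := by
      rintro rfl
      exact hw1 (map_one _)
    rw [quotTheta_apply p A N hA hN θ ha ha1, quotTheta_apply p A N hA hN θ hb hb1]
    exact Cfsg.Agent.S1281.result p A hA hA2 θ hθ' N hN a b ha ha1 hb hb1
  · rintro _ ⟨a, ha, rfl⟩ hz1
    have ha1 : a ≠ 1 := by
      rintro rfl
      exact hz1 (map_one _)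
    rw [quotTheta_apply p A N hA hN θ ha ha1]
    haveI := h5 a ha ha1
    exact solvable_of_surjective ((QuotientGroup.mk' N).subgroupMap_surjective (θ a))

theorem quot_closure (p : ℕ) [Fact p.Prime] (A N : Subgroup G) [N.Normal]
    (hA : Cfsg.IsElementaryAbelian p A) (hN : ¬ p ∣ Nat.card ↥N)
    (θ : G → Subgroup G) (hθ : Cfsg.IsSolvableSignalizerFunctor p A θ) :
    Cfsg.signalizerClosure (A.map (QuotientGroup.mk' N)) (quotTheta A N θ) =
      (Cfsg.signalizerClosure A θ).map (QuotientGroup.mk' N) := by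
  unfold Cfsg.signalizerClosure
  rw [Subgroup.map_iSup]
  apply le_antisymm
  · apply iSup_le
    rintro ⟨_, ⟨a, ha, rfl⟩, hz1⟩
    have ha1 : a ≠ 1 := by
      rintro rfl
      exact hz1 (map_one _)
    show quotTheta A N θ (QuotientGroup.mk' N a) ≤ _
    rw [quotTheta_apply p A N hA hN θ ha ha1]
    exact le_iSup (fun a : {a : G // a ∈ A ∧ a ≠ 1} => (θ (a : G)).map (QuotientGroup.mk' N))
      ⟨a, ha, ha1⟩
  · apply iSup_le
    rintro ⟨a, ha, ha1⟩
    show (θ a).map (QuotientGroup.mk' N) ≤ _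
    rw [← quotTheta_apply p A N hA hN θ ha ha1]
    exact le_iSup (fun z : {z : G ⧸ N // z ∈ A.map (QuotientGroup.mk' N) ∧ z ≠ 1} =>
        quotTheta A N θ (z : G ⧸ N))
      ⟨QuotientGroup.mk' N a, Subgroup.mem_map_of_mem _ ha, h18_mk_ne_one p A N hA hN ha ha1⟩

end

end Cfsg.Agent.Lib.H18.SigCQ
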