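import Cfsg.Agent.Lib.H10.SoD
import Cfsg.Agent.Lib.H11.SuPar1

/-!
# S5659 farm-out, piece (C) (helper18): an element mapping every rational singular point to a rational point lies in
the subfield subgroup
-/

set_option autoImplicit false
set_option linter.unusedSectionVars false

namespace Cfsg.Agent.Lib.H18.SoSub

open Matrix
open Cfsg.Agent.S0837 (Bs Bs_apply Bs_symm Bs_nondeg)
open Cfsg.Agent.S0781 (Em Em_mulVec)
open Cfsg.Agent.Lib.H11.UGen (Um Um_mulVec)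
open Cfsg.Agent.Lib.H10.Sf (IsRat)
open Cfsg.Agent.Lib.H10.Su
open Cfsg.Agent.Lib.H10.So

variable {F : Type*} [Field F] [Fintype F] {n q : ℕ}
variable {φ : F →+* F} {F₀ : Subfield F} {P : GL (Fin n) F} {H : Subgroup (GL (Fin n) F)}

/-- one step: the scalar `c` making `g y` rational also makes `g y'` rational, for an orthogonal independent
rational singular neighbour `y'` -/
theorem good_step (R : RS φ n q F₀ P) (g : GL (Fin n) F)
    (hg : ∀ y, RatV F₀ P y → Bs φ n y y = 0 → ∃ (l : F) (r : Fin n → F), RatV F₀ P r ∧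
      (g : Matrix (Fin n) (Fin n) F) *ᵥ y = l • r)
    {y y' : Fin n → F} (hy : RatV F₀ P y) (hy' : RatV F₀ P y') (hyy : Bs φ n y y = 0)
    (hy'y' : Bs φ n y' y' = 0) (hyy' : Bs φ n y y' = 0) (hy'0 : y' ≠ 0)
    (hind : ∀ κ : F, y ≠ κ • y') {c : F} (hc0 : c ≠ 0)
    (hc : RatV F₀ P (c • ((g : Matrix (Fin n) (Fin n) F) *ᵥ y))) :
    RatV F₀ P (c • ((g : Matrix (Fin n) (Fin n) F) *ᵥ y')) := by
  obtain ⟨θ, hθ0, hθ, -⟩ := R.exists_theta
  have hy'y : Bs φ n y' y = 0 := by rw [R.B_symm hy' hy]; exact hyy'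
  have hsum : Bs φ n (y + y') (y + y') = 0 := by
    simp only [map_add, LinearMap.add_apply, hyy, hy'y', hyy', hy'y, add_zero]
  obtain ⟨l', r', hr', hgy'⟩ := hg y' hy' hy'y'
  obtain ⟨l'', r'', hr'', hgs⟩ := hg (y + y') (hy.add hy') hsum
  have hgy'0 : (g : Matrix (Fin n) (Fin n) F) *ᵥ y' ≠ 0 := by
    intro h
    apply hy'0
    apply mulVec_injective g
    rw [h, Matrix.mulVec_zero]
  have hl' : l' ≠ 0 := by
    rintro rfl
    rw [zero_smul] at hgy'
    exact hgy'0 hgy'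
  have hr'0 : r' ≠ 0 := by
    rintro rfl
    rw [smul_zero] at hgy'
    exact hgy'0 hgy'
  have heq : (c * l'') • r'' = c • ((g : Matrix (Fin n) (Fin n) F) *ᵥ y) + (c * l') • r' := by
    rw [mul_smul, ← hgs, Matrix.mulVec_add, smul_add, hgy', mul_smul]
  obtain ⟨α₁, α₂, hα₁, hα₂, hα⟩ := R.scalar_decomp hθ0 hθ (c * l'')
  obtain ⟨β₁, β₂, hβ₁, hβ₂, hβ⟩ := R.scalar_decomp hθ0 hθ (c * l')
  rw [hα, hβ] at heq
  have h0 : (α₁ • r'' - c • ((g : Matrix (Fin n) (Fin n) F) *ᵥ y) - β₁ • r') +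
      θ • (α₂ • r'' - β₂ • r') = 0 := by
    linear_combination (norm := module) heq
  obtain ⟨e1, e2⟩ := R.decomp_unique hθ0 hθ (((hr''.smul hα₁).sub hc).sub (hr'.smul hβ₁))
    ((hr''.smul hα₂).sub (hr'.smul hβ₂)) h0
  by_cases hβ₂0 : β₂ = 0
  · have h1 : c • ((g : Matrix (Fin n) (Fin n) F) *ᵥ y') = β₁ • r' := by
      rw [hgy', smul_smul, hβ, hβ₂0, mul_zero, add_zero]
    rw [h1]
    exact hr'.smul hβ₁
  · exfalso
    have hα₂0 : α₂ ≠ 0 := by
      rintro rfl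
      rw [zero_smul, zero_sub, neg_eq_zero] at e2
      rcases smul_eq_zero.1 e2 with h | h
      · exact hβ₂0 h
      · exact hr'0 h
    have hr''eq : r'' = (α₂⁻¹ * β₂) • r' := by
      have h1 := sub_eq_zero.1 e2
      rw [mul_smul, ← h1, smul_smul, inv_mul_cancel₀ hα₂0, one_smul]
    have ha : c • ((g : Matrix (Fin n) (Fin n) F) *ᵥ y) = (α₁ * (α₂⁻¹ * β₂) - β₁) • r' := by
      rw [hr''eq] at e1
      have h1 : c • ((g : Matrix (Fin n) (Fin n) F) *ᵥ y) =
          α₁ • (α₂⁻¹ * β₂) • r' - β₁ • r' := by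
        linear_combination (norm := module) -e1
      rw [h1, smul_smul, sub_smul]
    apply hind ((α₁ * (α₂⁻¹ * β₂) - β₁) / (l' * c))
    apply mulVec_injective g
    rw [Matrix.mulVec_smul, hgy', smul_smul]
    have h1 : (g : Matrix (Fin n) (Fin n) F) *ᵥ y =
        c⁻¹ • (c • ((g : Matrix (Fin n) (Fin n) F) *ᵥ y)) := by
      rw [smul_smul, inv_mul_cancel₀ hc0, one_smul]
    rw [h1, ha, smul_smul]
    congr 1
    field_simp

/-- **C (points ⟹ subfield subgroup)** -/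
theorem mem_sub_of_sing_pts (R : RS φ n q F₀ P) (g : GL (Fin n) F)
    (hg : ∀ y, RatV F₀ P y → Bs φ n y y = 0 → ∃ (l : F) (r : Fin n → F), RatV F₀ P r ∧
      (g : Matrix (Fin n) (Fin n) F) *ᵥ y = l • r) :
    g ∈ Cfsg.Geo.subfieldSubgroup F₀ P := by
  have hφ2 := R.hφ2
  have hn := R.hn
  -- a base point
  obtain ⟨y₀, f₀, hy₀, -, hy₀y₀, -, hy₀f, -, -⟩ :=
    R.exists_hyp_perp (k := 0) (fun i => Fin.elim0 i) (fun i => Fin.elim0 i) (by omega)
  have hy₀0 : y₀ ≠ 0 := by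
    rintro rfl
    rw [map_zero, LinearMap.zero_apply] at hy₀f
    exact zero_ne_one hy₀f
  have hgy₀0 : (g : Matrix (Fin n) (Fin n) F) *ᵥ y₀ ≠ 0 := by
    intro h
    apply hy₀0
    apply mulVec_injective g
    rw [h, Matrix.mulVec_zero]
  obtain ⟨l₀, r₀, hr₀, hgy₀⟩ := hg y₀ hy₀ hy₀y₀
  have hl₀ : l₀ ≠ 0 := by
    rintro rfl
    rw [zero_smul] at hgy₀
    exact hgy₀0 hgy₀
  have hc₀ : RatV F₀ P (l₀⁻¹ • ((g : Matrix (Fin n) (Fin n) F) *ᵥ y₀)) := by
    rw [hgy₀, smul_smul, inv_mul_cancel₀ hl₀, one_smul]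
    exact hr₀
  -- all rational singular vectors
  have hall : ∀ y, RatV F₀ P y → Bs φ n y y = 0 →
      RatV F₀ P (l₀⁻¹ • ((g : Matrix (Fin n) (Fin n) F) *ᵥ y)) := by
    intro y hy hyy
    by_cases hy0 : y = 0
    · rw [hy0, Matrix.mulVec_zero, smul_zero]
      exact RatV.zero
    obtain ⟨e, f, he, hf, hee, hff, hef, hve, hvf⟩ := R.exists_hyp_perp ![y₀, y] (by
      intro i
      fin_cases i
      · exact hy₀
      · exact hy) (by omega)
    have hy₀e : Bs φ n y₀ e = 0 := hve 0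
    have hye : Bs φ n y e = 0 := hve 1
    have hy₀f' : Bs φ n y₀ f = 0 := hvf 0
    have hyf : Bs φ n y f = 0 := hvf 1
    have he0 : e ≠ 0 := by
      rintro rfl
      rw [map_zero, LinearMap.zero_apply] at hef
      exact zero_ne_one hef
    have hey : Bs φ n e y = 0 := by rw [R.B_symm he hy]; exact hye
    -- `y₀ → e`
    have h1 : RatV F₀ P (l₀⁻¹ • ((g : Matrix (Fin n) (Fin n) F) *ᵥ e)) := by
      refine good_step R g hg hy₀ he hy₀y₀ hee hy₀e he0 ?_ (inv_ne_zero hl₀) hc₀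
      intro κ hκ
      have h2 : Bs φ n y₀ f = φ κ * Bs φ n e f := by
        rw [hκ, map_smulₛₗ, LinearMap.smul_apply, smul_eq_mul]
      rw [hy₀f', hef, mul_one] at h2
      have hκ0 : κ = 0 := by
        have := congrArg φ h2.symm
        rwa [hφ2, map_zero] at this
      rw [hκ0, zero_smul] at hκ
      exact hy₀0 hκ
    -- `e → y`
    refine good_step R g hg he hy hee hyy hey hy0 ?_ (inv_ne_zero hl₀) h1
    intro κ hκ
    have h2 : Bs φ n e f = φ κ * Bs φ n y f := by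
      rw [hκ, map_smulₛₗ, LinearMap.smul_apply, smul_eq_mul]
    rw [hef, hyf, mul_zero] at h2
    exact one_ne_zero h2
  -- all rational vectors
  apply mem_sub_of_ratV (c := l₀⁻¹) (inv_ne_zero hl₀)
  intro x hx
  obtain ⟨e, f, he, hf, hee, hff, hef, hve, hvf⟩ := R.exists_hyp_perp ![x] (by
    intro i
    fin_cases i
    exact hx) (by omega)
  have hxe : Bs φ n x e = 0 := hve 0
  have hxf : Bs φ n x f = 0 := hvf 0
  have hex : Bs φ n e x = 0 := by rw [R.B_symm he hx]; exact hxe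
  have hfx : Bs φ n f x = 0 := by rw [R.B_symm hf hx]; exact hxf
  have hfe : Bs φ n f e = 1 := by rw [R.B_symm hf he]; exact hef
  obtain ⟨hb, hb'⟩ := R.half_mem hx
  obtain ⟨b, hbdef⟩ : ∃ b : F, b = -(Bs φ n x x) / 2 := ⟨_, rfl⟩
  rw [← hbdef] at hb hb'
  have hφb : φ b = b := R.fix hb
  have hs : RatV F₀ P (x + e + b • f) := (hx.add he).add (hf.smul hb)
  have hss : Bs φ n (x + e + b • f) (x + e + b • f) = 0 := by
    simp only [map_add, map_smulₛₗ, LinearMap.add_apply, LinearMap.smul_apply, smul_eq_mul,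
      hee, hff, hef, hfe, hxe, hxf, hex, hfx, hφb, mul_zero, mul_one, add_zero, zero_add]
    rw [hφb] at hb'
    linear_combination hb'
  have hbf : Bs φ n (b • f) (b • f) = 0 := by
    simp only [map_smulₛₗ, LinearMap.smul_apply, smul_eq_mul, hff, mul_zero]
  have h1 := hall _ hs hss
  have h2 := hall _ he hee
  have h3 := hall _ (hf.smul hb) hbf
  have hx' : x = (x + e + b • f) - e - b • f := by abel
  have h4 : l₀⁻¹ • ((g : Matrix (Fin n) (Fin n) F) *ᵥ x) =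
      l₀⁻¹ • ((g : Matrix (Fin n) (Fin n) F) *ᵥ (x + e + b • f)) -
        l₀⁻¹ • ((g : Matrix (Fin n) (Fin n) F) *ᵥ e) -
        l₀⁻¹ • ((g : Matrix (Fin n) (Fin n) F) *ᵥ (b • f)) := by
    rw [← smul_sub, ← smul_sub, ← Matrix.mulVec_sub, ← Matrix.mulVec_sub, ← hx']
  rw [h4]
  exact (h1.sub h2).sub h3

end Cfsg.Agent.Lib.H18.SoSub
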