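import Cfsg.Agent.Lib.H10.SoD
import Cfsg.Agent.Lib.H11.SuPar1

/-!
# S5659 farm-out, piece (P) (helper18): the subfield subgroup `NP` is a proper subgroup of `GU ⊓ SL`
-/

set_option autoImplicit false
set_option linter.unusedSectionVars false

namespace Cfsg.Agent.Lib.H18.SoSub

open Matrix
open Cfsg.Agent.S0837 (Bs Bs_apply Bs_symm Bs_nondeg)
open Cfsg.Agent.S0781 (Em Em_mulVec Em_det Em_preserves)
open Cfsg.Agent.Lib.H11.UGen (Um Um_mulVec)
open Cfsg.Agent.Lib.H10.Sf (IsRat)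
open Cfsg.Agent.Lib.H10.Su
open Cfsg.Agent.Lib.H10.So

variable {F : Type*} [Field F] [Fintype F] {n q : ℕ}
variable {φ : F →+* F} {F₀ : Subfield F} {P : GL (Fin n) F} {H : Subgroup (GL (Fin n) F)}

/-- **P (properness)** -/
theorem NP_lt (R : RS φ n q F₀ P) :
    NP n q F₀ P < Cfsg.GU n F q ⊓ Cfsg.Geo.specialLinear (Fin n) F := by
  have hφ2 := R.hφ2
  have hn := R.hn
  obtain ⟨θ, hθ0, hθ, hθF⟩ := R.exists_theta
  obtain ⟨z, z₂, hz, hz₂, hzz, -, hzz₂, -, -⟩ :=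
    R.exists_hyp_perp (k := 0) (fun i => Fin.elim0 i) (fun i => Fin.elim0 i) (by omega)
  have hz0 : z ≠ 0 := by
    rintro rfl
    rw [map_zero, LinearMap.zero_apply] at hzz₂
    exact zero_ne_one hzz₂
  -- the element
  have hUE : Um φ z θ = Em φ z 0 θ := Um_eq_Em φ hφ2 z θ hzz
  have hdet : (Um φ z θ).det = 1 := by
    rw [hUE]
    exact Em_det φ hφ2 z 0 θ hzz (map_zero _) (by rw [map_zero, LinearMap.zero_apply])
  have hpres : ∀ u v, Bs φ n (Um φ z θ *ᵥ u) (Um φ z θ *ᵥ v) = Bs φ n u v := by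
    intro u v
    rw [hUE]
    exact Em_preserves φ hφ2 z 0 θ hzz (map_zero _) (by rw [map_zero, LinearMap.zero_apply])
      (by simp only [map_zero, LinearMap.zero_apply, add_zero, hθ, add_neg_cancel]) u v
  have hd : (Um φ z θ).det ≠ 0 := by rw [hdet]; exact one_ne_zero
  obtain ⟨g, hg⟩ : ∃ g : GL (Fin n) F, (g : Matrix (Fin n) (Fin n) F) = Um φ z θ :=
    ⟨Matrix.GeneralLinearGroup.mkOfDetNeZero (Um φ z θ) hd, rfl⟩
  rw [SetLike.lt_iff_le_and_exists]
  refine ⟨inf_le_right, g, Subgroup.mem_inf.2 ⟨?_, ?_⟩, ?_⟩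
  · rw [mem_GU_iff φ R.hφ, hg]
    exact hpres
  · rw [Cfsg.Agent.Lib.H28.mem_specialLinear_iff, hg]
    exact hdet
  · intro hmem
    obtain ⟨c, hc0, hc⟩ := ratV_of_mem_sub (Subgroup.mem_inf.1 hmem).1
    -- `c` is rational
    have h1 := hc z hz
    rw [hg, Um_mulVec, hzz, mul_zero, zero_smul, add_zero] at h1
    have hcF : c ∈ F₀ := R.mem_of_smul_ratV hz hz0 h1
    -- the image of the partner
    have h2 := hc z₂ hz₂
    rw [hg, Um_mulVec, hzz₂, mul_one] at h2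
    have h3 : RatV F₀ P (z₂ + θ • z) := by
      have := h2.smul (F₀.inv_mem hcF)
      rwa [smul_smul, inv_mul_cancel₀ hc0, one_smul] at this
    have h4 : RatV F₀ P (θ • z) := by
      have := h3.sub hz₂
      rwa [add_sub_cancel_left] at this
    exact hθF (R.mem_of_smul_ratV hz hz0 h4)

end Cfsg.Agent.Lib.H18.SoSub
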