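import Cfsg.Agent.Lib.H7.SpMinDefs
import Cfsg.Agent.Lib.H2.SpCenter
import Cfsg.Prelude.Def_Classical

/-!
# S2142-D (helper18): transfer of the minimal index from `Sp_{2m}(2)` to `PSp_{2m}(2)`
-/

set_option autoImplicit false
set_option linter.unusedSectionVars false
set_option linter.unusedVariables false

namespace Cfsg.Agent.Lib.H18.SpMin

open Matrix Cfsg.Agent.Lib.H4 Cfsg.Agent.Lib.H2.Sp Cfsg.Agent.Lib.H7.SpMin

variable {F : Type*} [Field F] [Fintype F] (m : ℕ)

set_option quotPrecheck false in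
local notation "Sp" => ↥(Matrix.symplecticGroup (Fin m) F)

/-- the centre of `Sp_{2m}(2)` is trivial -/
theorem center_eq_bot_two (hF : Fintype.card F = 2) (hm : 1 ≤ m) :
    Subgroup.center Sp = ⊥ := by
  have h1 := card_center (F := F) m hm
  rw [hF] at h1
  have h2 : Nat.gcd 2 (2 - 1) = 1 := by norm_num
  rw [h2] at h1
  exact (Subgroup.card_eq_one).1 h1

/-- **S2142-D** (transfer to `PSp = Sp ⧸ centre`). -/
theorem psp_transfer (hF : Fintype.card F = 2) (hm : 1 ≤ m) (μ : ℕ)
    (h1 : ∀ H : Subgroup Sp, H ≠ ⊤ → μ ≤ H.index) (h2 : ∃ H : Subgroup Sp, H.index = μ) :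
    (∀ H : Subgroup (Cfsg.PSp m F), H ≠ ⊤ → μ ≤ H.index) ∧ ∃ H : Subgroup (Cfsg.PSp m F), H.index = μ := by
  have hc := center_eq_bot_two (F := F) m hF hm
  have hsurj : Function.Surjective (QuotientGroup.mk' (Subgroup.center Sp)) :=
    QuotientGroup.mk'_surjective _
  refine ⟨fun H hH => ?_, ?_⟩
  · have h3 : (H.comap (QuotientGroup.mk' (Subgroup.center Sp))).index = H.index :=
      Subgroup.index_comap_of_surjective H hsurj
    rw [← h3]
    apply h1
    intro h4
    apply hH
    have h5 := Subgroup.map_comap_eq_self_of_surjective hsurj H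
    rw [h4, Subgroup.map_top_of_surjective _ hsurj] at h5
    exact h5.symm
  · obtain ⟨H, hH⟩ := h2
    refine ⟨H.map (QuotientGroup.mk' (Subgroup.center Sp)), ?_⟩
    have hk : H ⊔ (QuotientGroup.mk' (Subgroup.center Sp)).ker = H := by
      rw [QuotientGroup.ker_mk']
      have : Subgroup.center Sp ≤ H := by rw [hc]; exact bot_le
      exact sup_eq_left.2 this
    rw [Subgroup.index_map, hk, MonoidHom.range_eq_top.2 hsurj, Subgroup.index_top, mul_one, hH]

end Cfsg.Agent.Lib.H18.SpMin
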