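import Cfsg.Agent.Lib.H7.SpMinQC

/-!
# S2142-RB (helper18, for architect helper7): the subspace `R̄_a` attached to `Q_a ⊓ H`

* `exists_Rbar` : `U = {y ⊥ a | s a y ∈ H ∨ s a y * t a ∈ H}` is a subspace;
* `relIndex_mul_card` : `|Q_a : Q_a ⊓ H| * |U| = 2^(2m)` if `t a ∉ H`;
* `card_images_le_card_conj` : the `P_a`-conjugates of `Q_a ⊓ H` map onto the `P_a`-images of `U`.
-/

set_option autoImplicit false
set_option linter.unusedSectionVars false
set_option linter.unusedVariables false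
set_option linter.unusedSimpArgs false

namespace Cfsg.Agent.Lib.H18.SpMin

open Matrix Cfsg.Agent.Lib.H4 Cfsg.Agent.Lib.H2.Sp Cfsg.Agent.Lib.H7.SpMin

variable {F : Type*} [Field F] [Fintype F] (m : ℕ)

set_option quotPrecheck false in
local notation "Sp" => ↥(Matrix.symplecticGroup (Fin m) F)

set_option quotPrecheck false in
local notation "MM" => Matrix (Fin m ⊕ Fin m) (Fin m ⊕ Fin m) F

set_option quotPrecheck false in
local notation "VV" => (Fin m ⊕ Fin m → F)

set_option quotPrecheck false in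
local notation "B" => Cfsg.sympForm m F

/-- the property "`g ∈ H` or `g T ∈ H`" is multiplicative when `T` is a central involution -/
theorem rb_mul_aux {G : Type*} [Group G] (H : Subgroup G) (T g g' : G) (hT : T * T = 1) (hTg' : T * g' = g' * T)
    (hg : g ∈ H ∨ g * T ∈ H) (hg' : g' ∈ H ∨ g' * T ∈ H) : g * g' ∈ H ∨ g * g' * T ∈ H := by
  rcases hg with hg | hg <;> rcases hg' with hg' | hg'
  · exact Or.inl (mul_mem hg hg')
  · right
    rw [mul_assoc]
    exact mul_mem hg hg'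
  · right
    have : g * g' * T = (g * T) * g' := by
      rw [mul_assoc, ← hTg', ← mul_assoc]
    rw [this]
    exact mul_mem hg hg'
  · left
    have : g * g' = (g * T) * (g' * T) := by
      calc g * g' = g * g' * (T * T) := by rw [hT, mul_one]
        _ = g * (g' * T) * T := by simp only [mul_assoc]
        _ = g * (T * g') * T := by rw [hTg']
        _ = (g * T) * (g' * T) := by simp only [mul_assoc]
    rw [this]
    exact mul_mem hg hg'

/-- `s a (y + d • a) = s a y` -/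
theorem s_add_smul (hF : Fintype.card F = 2) (a y : VV) (hay : B a y = 0) (d : F) :
    s m a (y + d • a) = s m a y := by
  rcases eq_zero_or_one hF d with rfl | rfl
  · rw [zero_smul, add_zero]
  · rw [one_smul]
    have hya : B y a = 0 := by rw [sympForm_symm m hF, hay]
    rw [← s_mul_s_of_perp m hF a y a hay (sympForm_self m a) hya, s_self m hF a, mul_one]

/-- **S2142-RB** (first): the subspace `U`. -/
theorem exists_Rbar (hF : Fintype.card F = 2) (a : VV) (H : Subgroup Sp) :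
    ∃ U : Submodule F VV, ∀ y, y ∈ U ↔ B a y = 0 ∧ (s m a y ∈ H ∨ s m a y * t m a ∈ H) := by
  refine ⟨{ carrier := {y | B a y = 0 ∧ (s m a y ∈ H ∨ s m a y * t m a ∈ H)}
            add_mem' := ?_
            zero_mem' := ?_
            smul_mem' := ?_ }, fun y => Iff.rfl⟩
  · rintro y y' ⟨hy, hy2⟩ ⟨hy', hy2'⟩
    refine ⟨by rw [sympForm_add_right, hy, hy', add_zero], ?_⟩
    have h1 := rb_mul_aux H (t m a) (s m a y) (s m a y') (t_mul_self m hF a) (t_comm_s m hF a y' hy') hy2 hy2'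
    rcases s_mul_s m hF a y y' hy hy' with h | h
    · rw [h] at h1; exact h1
    · rw [h] at h1
      rcases h1 with h1 | h1
      · exact Or.inr h1
      · left
        rwa [mul_assoc, t_mul_self m hF a, mul_one] at h1
  · refine ⟨sympForm_zero_right' m a, Or.inl ?_⟩
    rw [s_zero m hF a]; exact one_mem _
  · rintro c y hy
    rcases eq_zero_or_one hF c with rfl | rfl
    · rw [zero_smul]
      refine ⟨sympForm_zero_right' m a, Or.inl ?_⟩
      rw [s_zero m hF a]; exact one_mem _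
    · rw [one_smul]; exact hy

/-! ### the evaluation map `g ↦ g b₀ + b₀` on `Q_a` -/

theorem add_self_vec (hF : Fintype.card F = 2) (x : VV) : x + x = 0 := by
  funext i
  exact add_self_eq hF (x i)

/-- `Ψ (s a y) = y + B(b₀, y) a` -/
theorem psi_s (hF : Fintype.card F = 2) (a b₀ y : VV) (hab : B a b₀ = 1) (hay : B a y = 0) :
    (s m a y : MM) *ᵥ b₀ + b₀ = y + B b₀ y • a := by
  have hba : B b₀ a = 1 := by rw [sympForm_symm m hF, hab]
  rw [s_mulVec m hF a y b₀ hay, hba, one_smul]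
  have := add_self_vec m hF b₀
  calc b₀ + y + B b₀ y • a + b₀ = (b₀ + b₀) + (y + B b₀ y • a) := by abel
    _ = y + B b₀ y • a := by rw [this, zero_add]

/-- `Ψ (g * t a) = Ψ g + a` for `g ∈ P_a` -/
theorem psi_mul_t (hF : Fintype.card F = 2) (a b₀ : VV) (hab : B a b₀ = 1) (g : Sp) (hg : g ∈ Pa m a) :
    ((g * t m a : Sp) : MM) *ᵥ b₀ + b₀ = ((g : MM) *ᵥ b₀ + b₀) + a := by
  have hba : B b₀ a = 1 := by rw [sympForm_symm m hF, hab]
  rw [mem_Pa] at hg
  rw [mul_mulVec, t_mulVec, hba, one_smul, Matrix.mulVec_add, hg]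
  abel

/-- `Ψ (s a y * t a) = y + (B(b₀, y) + 1) a` -/
theorem psi_st (hF : Fintype.card F = 2) (a b₀ y : VV) (hab : B a b₀ = 1) (hay : B a y = 0) :
    ((s m a y * t m a : Sp) : MM) *ᵥ b₀ + b₀ = y + (B b₀ y + 1) • a := by
  have hs : s m a y ∈ Pa m a := by rw [mem_Pa]; exact s_fix m hF a y hay
  rw [psi_mul_t m hF a b₀ hab _ hs, psi_s m hF a b₀ y hab hay, add_smul, one_smul]
  abel

/-- `Ψ` is injective on `Q_a` -/
theorem psi_inj (hF : Fintype.card F = 2) (a b₀ : VV) (hab : B a b₀ = 1) (g g' : Sp)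
    (hg : g ∈ Qa m a) (hg' : g' ∈ Qa m a)
    (h : (g : MM) *ᵥ b₀ + b₀ = (g' : MM) *ᵥ b₀ + b₀) : g = g' := by
  have h1 : (g : MM) *ᵥ b₀ = (g' : MM) *ᵥ b₀ := add_right_cancel h
  have h2 : ((g'⁻¹ * g : Sp) : MM) *ᵥ b₀ = b₀ := by
    rw [mul_mulVec, h1, ← mul_mulVec, inv_mul_cancel, Submonoid.coe_one, Matrix.one_mulVec]
  have h3 := eq_one_of_mem_Qa_of_fix m hF a b₀ hab (g'⁻¹ * g) (mul_mem (inv_mem hg') hg) h2
  exact (inv_mul_eq_one.1 h3).symm

/-- the key count: `|U| = 2 |Q_a ⊓ H|` -/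
theorem card_U_eq (hF : Fintype.card F = 2) (a : VV) (ha : a ≠ 0) (H : Subgroup Sp) (hta : t m a ∉ H)
    (U : Submodule F VV) (hU : ∀ y, y ∈ U ↔ B a y = 0 ∧ (s m a y ∈ H ∨ s m a y * t m a ∈ H)) :
    Nat.card U = Nat.card ↥(Qa m a ⊓ H) * 2 := by
  obtain ⟨b₀, hb₀⟩ := exists_sympForm_ne_zero m a ha
  have hab : B a b₀ = 1 := eq_one_of_ne_zero hF hb₀
  have hba : B b₀ a = 1 := by rw [sympForm_symm m hF, hab]
  have haa : a + a = 0 := add_self_vec m hF a
  -- membership
  have hmem : ∀ (g : Sp), g ∈ Qa m a ⊓ H → ∀ c : F, (g : MM) *ᵥ b₀ + b₀ + c • a ∈ U := by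
    intro g hg c
    obtain ⟨hgQ, hgH⟩ := hg
    obtain ⟨y, hay, hy⟩ := (mem_Qa_iff m hF a g).1 hgQ
    have key : ∀ d : F, y + d • a ∈ U := by
      intro d
      rw [hU, s_add_smul m hF a y hay d]
      refine ⟨by rw [sympForm_add_right, hay, sympForm_smul_right, sympForm_self, mul_zero, add_zero], ?_⟩
      rcases hy with rfl | rfl
      · exact Or.inl hgH
      · exact Or.inr hgH
    rcases hy with rfl | rfl
    · rw [psi_s m hF a b₀ y hab hay, add_assoc, ← add_smul]
      exact key _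
    · rw [psi_st m hF a b₀ y hab hay, add_assoc, ← add_smul]
      exact key _
  let f : ↥(Qa m a ⊓ H) × F → ↥U := fun x => ⟨((x.1 : Sp) : MM) *ᵥ b₀ + b₀ + x.2 • a, hmem x.1 x.1.2 x.2⟩
  have hinj : Function.Injective f := by
    rintro ⟨⟨g, hg⟩, c⟩ ⟨⟨g', hg'⟩, c'⟩ h
    have h0 : (g : MM) *ᵥ b₀ + b₀ + c • a = (g' : MM) *ᵥ b₀ + b₀ + c' • a := congrArg Subtype.val h
    have hgP : g ∈ Pa m a := Qa_le_Pa m hF a hg.1
    have hg'P : g' ∈ Pa m a := Qa_le_Pa m hF a hg'.1
    have htQ : t m a ∈ Qa m a := by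
      rw [mem_Qa_iff m hF]
      exact ⟨0, sympForm_zero_right' m a, Or.inr (by rw [s_zero m hF a, one_mul])⟩
    rcases eq_zero_or_one hF c with rfl | rfl <;> rcases eq_zero_or_one hF c' with rfl | rfl
    · simp only [zero_smul, one_smul, add_zero] at h0
      have := psi_inj m hF a b₀ hab g g' hg.1 hg'.1 h0
      subst this; rfl
    · exfalso
      simp only [zero_smul, one_smul, add_zero] at h0
      rw [← psi_mul_t m hF a b₀ hab g' hg'P] at h0
      have := psi_inj m hF a b₀ hab g (g' * t m a) hg.1 (mul_mem hg'.1 htQ) h0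
      apply hta
      have h5 : t m a = g'⁻¹ * g := by rw [this]; group
      rw [h5]
      exact mul_mem (inv_mem hg'.2) hg.2
    · exfalso
      simp only [zero_smul, one_smul, add_zero] at h0
      rw [← psi_mul_t m hF a b₀ hab g hgP] at h0
      have := psi_inj m hF a b₀ hab (g * t m a) g' (mul_mem hg.1 htQ) hg'.1 h0
      apply hta
      have h5 : t m a = g⁻¹ * g' := by rw [← this]; group
      rw [h5]
      exact mul_mem (inv_mem hg.2) hg'.2
    · simp only [zero_smul, one_smul, add_zero] at h0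
      have h1 := add_right_cancel h0
      have := psi_inj m hF a b₀ hab g g' hg.1 hg'.1 h1
      subst this; rfl
  have hsurj : Function.Surjective f := by
    rintro ⟨y, hy⟩
    obtain ⟨hay, hy2⟩ := (hU y).1 hy
    rcases hy2 with h1 | h1
    · have hQ : s m a y ∈ Qa m a := (mem_Qa_iff m hF a _).2 ⟨y, hay, Or.inl rfl⟩
      refine ⟨⟨⟨s m a y, hQ, h1⟩, B b₀ y⟩, ?_⟩
      apply Subtype.ext
      show (s m a y : MM) *ᵥ b₀ + b₀ + B b₀ y • a = y
      rw [psi_s m hF a b₀ y hab hay, add_assoc, ← add_smul, add_self_eq hF, zero_smul, add_zero]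
    · have hQ : s m a y * t m a ∈ Qa m a := (mem_Qa_iff m hF a _).2 ⟨y, hay, Or.inr rfl⟩
      refine ⟨⟨⟨s m a y * t m a, hQ, h1⟩, B b₀ y + 1⟩, ?_⟩
      apply Subtype.ext
      show ((s m a y * t m a : Sp) : MM) *ᵥ b₀ + b₀ + (B b₀ y + 1) • a = y
      rw [psi_st m hF a b₀ y hab hay, add_assoc, ← add_smul, add_self_eq hF, zero_smul, add_zero]
  have h1 := Nat.card_congr (Equiv.ofBijective f ⟨hinj, hsurj⟩)
  rw [← h1, Nat.card_prod, Nat.card_eq_fintype_card (α := F), hF]

/-- **S2142-RB** (second): `|Q_a : Q_a ⊓ H| * |U| = 2^(2m)` when `t_a ∉ H`. -/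
theorem relIndex_mul_card (hF : Fintype.card F = 2) (a : VV) (ha : a ≠ 0) (H : Subgroup Sp) (hta : t m a ∉ H)
    (U : Submodule F VV) (hU : ∀ y, y ∈ U ↔ B a y = 0 ∧ (s m a y ∈ H ∨ s m a y * t m a ∈ H)) :
    (Qa m a ⊓ H).relIndex (Qa m a) * Nat.card U = 2 ^ (2 * m) := by
  have hm : 1 ≤ m := by
    by_contra h
    have hm0 : m = 0 := by omega
    subst hm0
    apply ha
    funext i
    rcases i with i | i <;> exact i.elim0
  have h1 := card_U_eq m hF a ha H hta U hU
  have h2 : Nat.card ↥((Qa m a ⊓ H).subgroupOf (Qa m a)) * (Qa m a ⊓ H).relIndex (Qa m a) = Nat.card ↥(Qa m a) :=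
    Subgroup.card_mul_index _
  have h3 : Nat.card ↥((Qa m a ⊓ H).subgroupOf (Qa m a)) = Nat.card ↥(Qa m a ⊓ H) :=
    Nat.card_congr (Subgroup.subgroupOfEquivOfLe inf_le_left).toEquiv
  rw [h3, card_Qa m hF a ha] at h2
  have h4 : 2 ^ (2 * m) = 2 * 2 ^ (2 * m - 1) := by
    rw [← pow_succ']; congr 1; omega
  rw [h1, h4, ← h2]
  ring

/-! ### conjugates and images -/

/-- for `p ∈ P_a`, the image `p U` is read off from the conjugate `p (Q_a ⊓ H) p⁻¹` -/
theorem mem_map_iff (hF : Fintype.card F = 2) (a : VV) (H : Subgroup Sp)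
    (U : Submodule F VV) (hU : ∀ y, y ∈ U ↔ B a y = 0 ∧ (s m a y ∈ H ∨ s m a y * t m a ∈ H))
    (p : Sp) (hp : p ∈ Pa m a) (y : VV) :
    y ∈ U.map (Matrix.toLin' (p : MM)) ↔
      B a y = 0 ∧ (s m a y ∈ (Qa m a ⊓ H).map (MulAut.conj p).toMonoidHom ∨
        s m a y * t m a ∈ (Qa m a ⊓ H).map (MulAut.conj p).toMonoidHom) := by
  have hpa : (p : MM) *ᵥ a = a := (mem_Pa m a p).1 hp
  have hpia : ((p⁻¹ : Sp) : MM) *ᵥ a = a := (mem_Pa m a p⁻¹).1 (inv_mem hp)
  have hpt : p * t m a * p⁻¹ = t m a := by rw [t_conj, hpa]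
  have hpit : p⁻¹ * t m a * p = t m a := by
    have := t_conj m p⁻¹ a
    rw [hpia, inv_inv] at this
    exact this
  constructor
  · intro hy
    rw [Submodule.mem_map] at hy
    obtain ⟨x, hx, rfl⟩ := hy
    rw [Matrix.toLin'_apply]
    obtain ⟨hax, hx2⟩ := (hU x).1 hx
    refine ⟨?_, ?_⟩
    · have := sympForm_mulVec m p a x
      rw [hpa] at this
      rw [this, hax]
    · have hsc : s m a ((p : MM) *ᵥ x) = p * s m a x * p⁻¹ := by
        rw [s_conj, hpa]
      rcases hx2 with h1 | h1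
      · left
        rw [Subgroup.mem_map]
        refine ⟨s m a x, ⟨(mem_Qa_iff m hF a _).2 ⟨x, hax, Or.inl rfl⟩, h1⟩, ?_⟩
        rw [hsc]; rfl
      · right
        rw [Subgroup.mem_map]
        refine ⟨s m a x * t m a, ⟨(mem_Qa_iff m hF a _).2 ⟨x, hax, Or.inr rfl⟩, h1⟩, ?_⟩
        rw [hsc]
        show p * (s m a x * t m a) * p⁻¹ = p * s m a x * p⁻¹ * t m a
        have h6 : p * (s m a x * t m a) * p⁻¹ = (p * s m a x * p⁻¹) * (p * t m a * p⁻¹) := by group
        rw [h6, hpt]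
  · rintro ⟨hay, hy2⟩
    rw [Submodule.mem_map]
    refine ⟨((p⁻¹ : Sp) : MM) *ᵥ y, ?_, ?_⟩
    · rw [hU]
      have hsc : s m a (((p⁻¹ : Sp) : MM) *ᵥ y) = p⁻¹ * s m a y * p := by
        have := s_conj m p⁻¹ a y
        rw [hpia, inv_inv] at this
        exact this.symm
      refine ⟨?_, ?_⟩
      · have := sympForm_mulVec m p⁻¹ a y
        rw [hpia] at this
        rw [this, hay]
      · rcases hy2 with h1 | h1
        · left
          rw [Subgroup.mem_map] at h1
          obtain ⟨g, hg, hgy⟩ := h1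
          have hgy' : p * g * p⁻¹ = s m a y := hgy
          rw [hsc, ← hgy']
          have : p⁻¹ * (p * g * p⁻¹) * p = g := by group
          rw [this]; exact hg.2
        · right
          rw [Subgroup.mem_map] at h1
          obtain ⟨g, hg, hgy⟩ := h1
          have hgy' : p * g * p⁻¹ = s m a y * t m a := hgy
          rw [hsc]
          have : p⁻¹ * s m a y * p * t m a = g := by
            rw [← hpit]
            have h5 : p⁻¹ * s m a y * p * (p⁻¹ * t m a * p) = p⁻¹ * (s m a y * t m a) * p := by group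
            rw [h5, ← hgy']
            group
          rw [this]; exact hg.2
    · rw [Matrix.toLin'_apply, Matrix.mulVec_mulVec, ← Submonoid.coe_mul, mul_inv_cancel, Submonoid.coe_one,
        Matrix.one_mulVec]

/-- **S2142-RB** (third): the `P_a`-conjugates of `Q_a ⊓ H` map ONTO the `P_a`-images of `U`. -/
theorem card_images_le_card_conj (hF : Fintype.card F = 2) (a : VV) (ha : a ≠ 0) (H : Subgroup Sp)
    (U : Submodule F VV) (hU : ∀ y, y ∈ U ↔ B a y = 0 ∧ (s m a y ∈ H ∨ s m a y * t m a ∈ H)) :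
    Nat.card {U' : Submodule F VV // ∃ p ∈ Pa m a, U' = U.map (Matrix.toLin' (p : MM))} ≤
      Nat.card {K : Subgroup Sp // ∃ p ∈ Pa m a, K = (Qa m a ⊓ H).map (MulAut.conj p).toMonoidHom} := by
  classical
  let f : {K : Subgroup Sp // ∃ p ∈ Pa m a, K = (Qa m a ⊓ H).map (MulAut.conj p).toMonoidHom} →
      {U' : Submodule F VV // ∃ p ∈ Pa m a, U' = U.map (Matrix.toLin' (p : MM))} :=
    fun K => ⟨U.map (Matrix.toLin' ((Classical.choose K.2 : Sp) : MM)),
      ⟨Classical.choose K.2, (Classical.choose_spec K.2).1, rfl⟩⟩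
  have hsurj : Function.Surjective f := by
    rintro ⟨U', p₀, hp₀, hU'⟩
    have hex : ∃ p ∈ Pa m a, (Qa m a ⊓ H).map (MulAut.conj p₀).toMonoidHom =
        (Qa m a ⊓ H).map (MulAut.conj p).toMonoidHom := ⟨p₀, hp₀, rfl⟩
    refine ⟨⟨(Qa m a ⊓ H).map (MulAut.conj p₀).toMonoidHom, hex⟩, ?_⟩
    apply Subtype.ext
    show U.map (Matrix.toLin' ((Classical.choose hex : Sp) : MM)) = U'
    rw [hU']
    obtain ⟨hp₁, hK⟩ := Classical.choose_spec hex
    ext y
    rw [mem_map_iff m hF a H U hU _ hp₁ y, mem_map_iff m hF a H U hU p₀ hp₀ y, ← hK]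
  exact Nat.card_le_card_of_surjective f hsurj

end Cfsg.Agent.Lib.H18.SpMin
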