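import Mathlib
import Cfsg.Agent.Lib.H18.Lift3

/-!
# Stem extensions of groups with small Sylow subgroups (helper18)

If the Sylow `2`-subgroups of `G` have order at most `4` and the odd Sylow subgroups have prime
order (or are trivial), then every stem extension of `G` has kernel of order at most `2`.
-/

set_option autoImplicit false

namespace Cfsg.Agent.Lib.H18.StemSmall

open Cfsg.Agent.Lib.H18
open scoped commutatorElement

section Transfer

variable {Γ : Type*} [Group Γ]

/-- Transfer: a central element of the commutator subgroup has its `|Γ : H|`-th power in `H'`. -/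
theorem pow_index_mem_commutator (H : Subgroup Γ) [H.FiniteIndex] {z : Γ}
    (hzc : z ∈ Subgroup.center Γ) (hz : z ∈ commutator Γ) :
    ∃ h : z ^ H.index ∈ H, (⟨z ^ H.index, h⟩ : H) ∈ commutator H := by
  have key : ∀ (k : ℕ) (g₀ : Γ), g₀⁻¹ * z ^ k * g₀ ∈ H → g₀⁻¹ * z ^ k * g₀ = z ^ k := by
    intro k g₀ _
    have hc : z ^ k ∈ Subgroup.center Γ := Subgroup.pow_mem _ hzc k
    have := Subgroup.mem_center_iff.mp hc g₀
    rw [mul_assoc, ← this, inv_mul_cancel_left]
  have h1 := MonoidHom.transfer_eq_pow (Abelianization.of (G := H)) z key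
  have h2 : MonoidHom.transfer (Abelianization.of (G := H)) z = 1 :=
    MonoidHom.mem_ker.mp (Abelianization.commutator_subset_ker _ hz)
  rw [h2] at h1
  refine ⟨MonoidHom.transfer_eq_pow_aux z key, ?_⟩
  rw [← Abelianization.ker_of, MonoidHom.mem_ker]
  exact h1.symm

end Transfer

section Q

variable {H Q : Type*} [Group H] [Finite H] [Group Q] [Finite Q]

/-- A central extension of a group of order at most 4 has commutator subgroup of order ≤ 2. -/
theorem card_commutator_le_two (f : H →* Q) (hf : Function.Surjective f)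
    (hker : f.ker ≤ Subgroup.center H) (hQ : Nat.card Q ≤ 4) :
    Nat.card (commutator H) ≤ 2 := by
  by_cases hcyc : IsCyclic Q
  · have hcomm : ∀ a b : H, a * b = b * a := commutative_of_cyclic_center_quotient f hker
    have : commutator H = ⊥ := by
      rw [commutator_def, Subgroup.commutator_eq_bot_iff_le_centralizer]
      intro a _ b _
      exact hcomm b a
    rw [this, Subgroup.card_bot]
    norm_num
  -- Q is not cyclic, so it has order 4 and exponent 2
  have hpos : 0 < Nat.card Q := Nat.card_pos
  have hcard4 : Nat.card Q = 4 := by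
    by_contra hne
    have hlt : Nat.card Q < 4 := lt_of_le_of_ne hQ hne
    apply hcyc
    interval_cases hc : Nat.card Q
    · haveI : Subsingleton Q := (Nat.card_eq_one_iff_unique.mp hc).1
      exact isCyclic_of_subsingleton
    · haveI : Fact (Nat.Prime 2) := ⟨Nat.prime_two⟩
      exact isCyclic_of_prime_card hc
    · haveI : Fact (Nat.Prime 3) := ⟨Nat.prime_three⟩
      exact isCyclic_of_prime_card hc
  have hexp : ∀ q : Q, q * q = 1 := by
    intro q
    have hd : orderOf q ∣ 4 := hcard4 ▸ orderOf_dvd_natCard q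
    have hne4 : orderOf q ≠ 4 := by
      intro h4
      apply hcyc
      exact isCyclic_of_orderOf_eq_card q (by rw [h4, hcard4])
    have hle : orderOf q ≤ 4 := Nat.le_of_dvd (by norm_num) hd
    have h2 : orderOf q ∣ 2 := by
      interval_cases ho : orderOf q
      · simp at hd
      · norm_num
      · norm_num
      · norm_num at hd
      · exact absurd rfl hne4
    rw [← pow_two]
    exact orderOf_dvd_iff_pow_eq_one.mp h2
  have hQcomm : ∀ q r : Q, q * r = r * q := by
    intro q r
    have h1 := hexp (q * r)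
    have h2 : q * r = (q * r)⁻¹ := eq_inv_of_mul_eq_one_left h1
    rw [h2, mul_inv_rev, inv_eq_of_mul_eq_one_left (hexp q), inv_eq_of_mul_eq_one_left (hexp r)]
  -- two generators
  obtain ⟨u, hu⟩ : ∃ u : Q, u ≠ 1 := by
    by_contra hcon
    push Not at hcon
    haveI : Subsingleton Q := ⟨fun x y => by rw [hcon x, hcon y]⟩
    exact hcyc isCyclic_of_subsingleton
  obtain ⟨v, hv1, hvu⟩ : ∃ v : Q, v ≠ 1 ∧ v ≠ u := by
    by_contra hcon
    push Not at hcon
    have : Nat.card Q ≤ 2 := by
      classical
      haveI := Fintype.ofFinite Q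
      rw [Nat.card_eq_fintype_card]
      have hsub : (Finset.univ : Finset Q) ⊆ {1, u} := by
        intro x _
        by_cases hx : x = 1
        · simp [hx]
        · simp [hcon x hx]
      calc Fintype.card Q = (Finset.univ : Finset Q).card := rfl
        _ ≤ ({1, u} : Finset Q).card := Finset.card_le_card hsub
        _ ≤ 2 := Finset.card_le_two
    omega
  have hall : ∀ q : Q, q = 1 ∨ q = u ∨ q = v ∨ q = u * v := by
    classical
    haveI := Fintype.ofFinite Q
    have hne1 : u * v ≠ 1 := by
      intro h
      have : v = u⁻¹ := (eq_inv_of_mul_eq_one_right h)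
      rw [inv_eq_of_mul_eq_one_left (hexp u)] at this
      exact hvu this
    have hne2 : u * v ≠ u := by
      intro h
      exact hv1 (mul_eq_left.mp h)
    have hne3 : u * v ≠ v := by
      intro h
      exact hu (mul_eq_right.mp h)
    have hcard : ({1, u, v, u * v} : Finset Q).card = 4 := by
      rw [Finset.card_insert_of_notMem, Finset.card_insert_of_notMem,
        Finset.card_insert_of_notMem, Finset.card_singleton]
      · simp only [Finset.mem_singleton]; exact fun h => hne3 h.symm
      · simp only [Finset.mem_insert, Finset.mem_singleton, not_or]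
        exact ⟨hvu.symm, fun h => hne2 h.symm⟩
      · simp only [Finset.mem_insert, Finset.mem_singleton, not_or]
        exact ⟨hu.symm, hv1.symm, hne1.symm⟩
    have huniv : ({1, u, v, u * v} : Finset Q) = Finset.univ := by
      apply Finset.eq_univ_of_card
      rw [hcard, ← Nat.card_eq_fintype_card, hcard4]
    intro q
    have hq : q ∈ ({1, u, v, u * v} : Finset Q) := by rw [huniv]; exact Finset.mem_univ q
    simpa only [Finset.mem_insert, Finset.mem_singleton] using hq
  obtain ⟨a, ha⟩ := hf u
  obtain ⟨b, hb⟩ := hf v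
  set c : H := a * b * a⁻¹ * b⁻¹ with hc
  -- commutators are central
  have hcomk : ∀ x y : H, f (x * y * x⁻¹ * y⁻¹) = 1 := by
    intro x y
    simp only [map_mul, map_inv]
    rw [hQcomm (f x) (f y), mul_inv_cancel_right, mul_inv_cancel]
  have cc : ∀ g, Commute c g := Lift3.comm_of_ker hker (hcomk a b)
  have hc2 : c * c = 1 := by
    have ha2 : f (a * a) = 1 := by rw [map_mul, ha, hexp]
    have ca2 := Lift3.comm_of_ker hker ha2
    have e1 : a * a * b * (a * a)⁻¹ * b⁻¹ = a * c * a⁻¹ * c := by rw [hc]; group
    rw [(ca2 b).eq, mul_inv_cancel_right, mul_inv_cancel, ← (cc a).eq, mul_inv_cancel_right] at e1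
    exact e1.symm
  have hcinv : c⁻¹ = c := inv_eq_of_mul_eq_one_left hc2
  -- every commutator is 1 or c
  have hval : ∀ x y : H, x * y * x⁻¹ * y⁻¹ = 1 ∨ x * y * x⁻¹ * y⁻¹ = c := by
    intro x y
    have hrep : ∀ q : Q, ∃ w : H, f w = q ∧ (w = 1 ∨ w = a ∨ w = b ∨ w = a * b) := by
      intro q
      rcases hall q with rfl | rfl | rfl | rfl
      · exact ⟨1, map_one f, Or.inl rfl⟩
      · exact ⟨a, ha, Or.inr (Or.inl rfl)⟩
      · exact ⟨b, hb, Or.inr (Or.inr (Or.inl rfl))⟩
      · exact ⟨a * b, by rw [map_mul, ha, hb], Or.inr (Or.inr (Or.inr rfl))⟩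
    obtain ⟨w, hw, hwc⟩ := hrep (f x)
    obtain ⟨w', hw', hwc'⟩ := hrep (f y)
    rw [Lift3.comm_eq_of_map_eq hker (x := y) (x' := w') (y := x) (y' := w) hw'.symm hw.symm]
    have k1 : a * (a * b) * a⁻¹ * (a * b)⁻¹ = c := by
      have : a * (a * b) * a⁻¹ * (a * b)⁻¹ = a * c * a⁻¹ := by rw [hc]; group
      rw [this, ← (cc a).eq, mul_inv_cancel_right]
    have k2 : a * b * a * (a * b)⁻¹ * a⁻¹ = c := by
      have : a * b * a * (a * b)⁻¹ * a⁻¹ = a * c⁻¹ * a⁻¹ := by rw [hc]; group
      rw [this, hcinv, ← (cc a).eq, mul_inv_cancel_right]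
    have k3 : b * (a * b) * b⁻¹ * (a * b)⁻¹ = c := by
      have : b * (a * b) * b⁻¹ * (a * b)⁻¹ = c⁻¹ := by rw [hc]; group
      rw [this, hcinv]
    have k4 : a * b * b * (a * b)⁻¹ * b⁻¹ = c := by
      have : a * b * b * (a * b)⁻¹ * b⁻¹ = c := by rw [hc]; group
      exact this
    have k5 : b * a * b⁻¹ * a⁻¹ = c := by
      have : b * a * b⁻¹ * a⁻¹ = c⁻¹ := by rw [hc]; group
      rw [this, hcinv]
    rcases hwc with rfl | rfl | rfl | rfl <;> rcases hwc' with rfl | rfl | rfl | rfl
    · left; group
    · left; group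
    · left; group
    · left; group
    · left; group
    · left; group
    · right; rfl
    · right; exact k1
    · left; group
    · right; exact k5
    · left; group
    · right; exact k3
    · left; group
    · right; exact k2
    · right; exact k4
    · left; group
  have hle : commutator H ≤ Subgroup.zpowers c := by
    rw [commutator_def, Subgroup.commutator_le]
    intro x _ y _
    rw [commutatorElement_def]
    rcases hval x y with h | h
    · rw [h]; exact Subgroup.one_mem _
    · rw [h]; exact Subgroup.mem_zpowers c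
  calc Nat.card (commutator H) ≤ Nat.card (Subgroup.zpowers c) :=
        Subgroup.card_le_of_le hle
    _ = orderOf c := Nat.card_zpowers c
    _ ≤ 2 := orderOf_le_of_pow_eq_one (by norm_num) (by rw [pow_two, hc2])

end Q

section Main

variable {Γ G : Type*} [Group Γ] [Finite Γ] [Group G] [Finite G] {σ : Γ →* G}

/-- For a Sylow subgroup `P` of `G`, a central `z ∈ Γ'` has `z ^ |G : P|` in the derived subgroup of
the preimage of `P`. -/
theorem pow_index_mem (hσ : Function.Surjective σ) (hker : σ.ker ≤ Subgroup.center Γ)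
    (hstem : σ.ker ≤ commutator Γ) (P : Subgroup G) {z : Γ} (hz : z ∈ σ.ker) :
    ∃ h : z ^ P.index ∈ P.comap σ, (⟨z ^ P.index, h⟩ : P.comap σ) ∈ commutator (P.comap σ) := by
  have := pow_index_mem_commutator (P.comap σ) (hker hz) (hstem hz)
  rw [Subgroup.index_comap_of_surjective P hσ] at this
  exact this

/-- The restriction of `σ` to the preimage of `P`. -/
theorem ker_subgroupComap_le (hker : σ.ker ≤ Subgroup.center Γ) (P : Subgroup G) :
    (σ.subgroupComap P).ker ≤ Subgroup.center (P.comap σ) := by
  intro x hx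
  rw [MonoidHom.mem_ker] at hx
  have hx' : σ (x : Γ) = 1 := congrArg Subtype.val hx
  have hc : (x : Γ) ∈ Subgroup.center Γ := hker (MonoidHom.mem_ker.mpr hx')
  rw [Subgroup.mem_center_iff]
  intro g
  apply Subtype.ext
  simp only [Subgroup.coe_mul]
  exact Subgroup.mem_center_iff.mp hc g

theorem subgroupComap_surjective (hσ : Function.Surjective σ) (P : Subgroup G) :
    Function.Surjective (σ.subgroupComap P) := by
  rintro ⟨y, hy⟩
  obtain ⟨x, rfl⟩ := hσ y
  exact ⟨⟨x, hy⟩, rfl⟩

/-- **Small Sylow subgroups.** -/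
theorem card_ker_le_two (hσ : Function.Surjective σ) (hker : σ.ker ≤ Subgroup.center Γ)
    (hstem : σ.ker ≤ commutator Γ) (h8 : ¬ 8 ∣ Nat.card G)
    (hodd : ∀ p : ℕ, p.Prime → p ≠ 2 → ¬ p ^ 2 ∣ Nat.card G) :
    Nat.card σ.ker ≤ 2 := by
  -- no elements of odd prime order
  have hnoodd : ∀ p : ℕ, p.Prime → p ≠ 2 → ∀ z ∈ σ.ker, z ^ p = 1 → z = 1 := by
    intro p hp hp2 z hz hzp
    haveI : Fact p.Prime := ⟨hp⟩
    obtain ⟨P⟩ : Nonempty (Sylow p G) := inferInstance
    obtain ⟨h1, h2⟩ := pow_index_mem hσ hker hstem (P : Subgroup G) hz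
    -- P is cyclic
    have hPcyc : IsCyclic (P : Subgroup G) := by
      have hc := P.card_eq_multiplicity
      have hle : (Nat.card G).factorization p ≤ 1 := by
        by_contra hcon
        push Not at hcon
        apply hodd p hp hp2
        exact (pow_dvd_pow p hcon).trans (Nat.ordProj_dvd _ _)
      interval_cases hk : (Nat.card G).factorization p
      · rw [pow_zero] at hc
        haveI : Subsingleton (P : Subgroup G) := (Nat.card_eq_one_iff_unique.mp hc).1
        exact isCyclic_of_subsingleton
      · rw [pow_one] at hc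
        exact isCyclic_of_prime_card hc
    have hcomm : ∀ a b : (P : Subgroup G).comap σ, a * b = b * a :=
      commutative_of_cyclic_center_quotient (σ.subgroupComap (P : Subgroup G))
        (ker_subgroupComap_le hker _)
    have hbot : commutator ((P : Subgroup G).comap σ) = ⊥ := by
      rw [commutator_def, Subgroup.commutator_eq_bot_iff_le_centralizer]
      intro a _ b _
      exact hcomm b a
    rw [hbot, Subgroup.mem_bot] at h2
    have h3 : z ^ (P : Subgroup G).index = 1 := congrArg Subtype.val h2
    have hcop : Nat.Coprime ((P : Subgroup G).index) p :=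
      (Nat.Coprime.symm ((Nat.Prime.coprime_iff_not_dvd hp).mpr P.not_dvd_index))
 
    have hgcd : z ^ Nat.gcd ((P : Subgroup G).index) p = 1 := pow_gcd_eq_one.mpr ⟨h3, hzp⟩
    rw [hcop, pow_one] at hgcd
    exact hgcd
  -- the kernel is a 2-group
  have hcardpos : Nat.card σ.ker ≠ 0 := Nat.card_pos.ne'
  have hpow : ∀ {q : ℕ}, q.Prime → q ∣ Nat.card σ.ker → q = 2 := by
    intro q hq hqd
    by_contra hq2
    haveI : Fact q.Prime := ⟨hq⟩
    obtain ⟨z, hz⟩ := exists_prime_orderOf_dvd_card' q hqd
    have hz1 : (z : Γ) = 1 := by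
      apply hnoodd q hq hq2 z z.2
      have : z ^ q = 1 := by rw [← hz]; exact pow_orderOf_eq_one z
      have := congrArg Subtype.val this
      simpa using this
    have : z = 1 := Subtype.ext hz1
    rw [this, orderOf_one] at hz
    exact hq.one_lt.ne hz
  have h2pow := Nat.eq_prime_pow_of_unique_prime_dvd hcardpos hpow
  set e := (Nat.card σ.ker).primeFactorsList.length with he
  -- Sylow 2
  haveI : Fact (Nat.Prime 2) := ⟨Nat.prime_two⟩
  obtain ⟨P⟩ : Nonempty (Sylow 2 G) := inferInstance
  have hPcard : Nat.card (P : Subgroup G) ≤ 4 := by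
    have hc := P.card_eq_multiplicity
    have hle : (Nat.card G).factorization 2 ≤ 2 := by
      by_contra hcon
      push Not at hcon
      apply h8
      have : (2 : ℕ) ^ 3 ∣ Nat.card G := (pow_dvd_pow 2 hcon).trans (Nat.ordProj_dvd _ _)
      simpa using this
    rw [hc]
    calc 2 ^ (Nat.card G).factorization 2 ≤ 2 ^ 2 := Nat.pow_le_pow_right (by norm_num) hle
      _ = 4 := by norm_num
  have hQ := card_commutator_le_two (σ.subgroupComap (P : Subgroup G))
    (subgroupComap_surjective hσ _) (ker_subgroupComap_le hker _) hPcard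
  -- the kernel embeds in the commutator subgroup of the preimage of P
  have hodd_idx : Nat.Coprime ((P : Subgroup G).index) 2 :=
    (Nat.Coprime.symm ((Nat.Prime.coprime_iff_not_dvd Nat.prime_two).mpr P.not_dvd_index))
  set C : Subgroup Γ := (commutator ((P : Subgroup G).comap σ)).map
    ((P : Subgroup G).comap σ).subtype with hC
  have hle : σ.ker ≤ C := by
    intro z hz
    obtain ⟨h1, h2⟩ := pow_index_mem hσ hker hstem (P : Subgroup G) hz
    have hw : z ^ (P : Subgroup G).index ∈ C := ⟨_, h2, rfl⟩
    have hord : orderOf z ∣ 2 ^ e := by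
      have : orderOf (⟨z, hz⟩ : σ.ker) ∣ Nat.card σ.ker := orderOf_dvd_natCard _
      rw [h2pow] at this
      rwa [Subgroup.orderOf_mk] at this
    have hcop : Nat.Coprime ((P : Subgroup G).index) (orderOf z) :=
      Nat.Coprime.coprime_dvd_right hord (Nat.Coprime.pow_right e hodd_idx)
    obtain ⟨m, hm⟩ := exists_pow_eq_self_of_coprime hcop
    rw [← hm]
    exact Subgroup.pow_mem _ hw m
  calc Nat.card σ.ker ≤ Nat.card C := Subgroup.card_le_of_le hle
    _ = Nat.card (commutator ((P : Subgroup G).comap σ)) := by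
        rw [hC]
        exact Subgroup.card_map_of_injective (Subgroup.subtype_injective _)
    _ ≤ 2 := hQ

end Main

end Cfsg.Agent.Lib.H18.StemSmall
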