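import Mathlib
import Cfsg.Agent.Lib.H18.StemSmall

/-!
# Bounding the primary parts of the kernel of a stem extension through subgroups of index
prime to `p` (helper18)
-/

set_option autoImplicit false

namespace Cfsg.Agent.Lib.H18.StemSylow

open Cfsg.Agent.Lib.H18
open scoped commutatorElement

section General

variable {E Q : Type*} [Group E] [Group Q]

/-- Lifts of generators, together with the kernel, generate. -/
theorem closure_lifts_sup_ker (f : E →* Q) (T : Set E)
    (hT : Subgroup.closure (f '' T) = ⊤) : Subgroup.closure T ⊔ f.ker = ⊤ := by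
  rw [eq_top_iff]
  intro e _
  have he : f e ∈ (Subgroup.closure T).map f := by
    rw [MonoidHom.map_closure, hT]; trivial
  obtain ⟨e0, he0, h⟩ := he
  have hk : e0⁻¹ * e ∈ f.ker := by
    rw [MonoidHom.mem_ker, map_mul, map_inv, h, inv_mul_cancel]
  have : e = e0 * (e0⁻¹ * e) := by group
  rw [this]
  exact Subgroup.mul_mem _ (Subgroup.mem_sup_left he0) (Subgroup.mem_sup_right hk)

/-- If lifts of generators commute modulo a normal subgroup `C` and the kernel is central, then
`E' ≤ C`. -/
theorem commutator_le_of_lifts_comm (f : E →* Q) (hker : f.ker ≤ Subgroup.center E) (T : Set E)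
    (hT : Subgroup.closure (f '' T) = ⊤) (C : Subgroup E) [C.Normal]
    (hC : ∀ x ∈ T, ∀ y ∈ T, x * y * x⁻¹ * y⁻¹ ∈ C) : commutator E ≤ C := by
  set π := QuotientGroup.mk' C with hπ
  set S' : Set (E ⧸ C) := π '' (T ∪ (f.ker : Set E)) with hS'
  have hgen : Subgroup.closure S' = ⊤ := by
    rw [hS', ← MonoidHom.map_closure, Subgroup.closure_union, Subgroup.closure_eq,
      closure_lifts_sup_ker f T hT, ← MonoidHom.range_eq_map, MonoidHom.range_eq_top]
    exact QuotientGroup.mk'_surjective C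
  have hcomm : ∀ x ∈ S', ∀ y ∈ S', x * y = y * x := by
    rintro _ ⟨x, hx, rfl⟩ _ ⟨y, hy, rfl⟩
    rcases hx with hx | hx
    · rcases hy with hy | hy
      · rw [← map_mul, ← map_mul]
        apply (QuotientGroup.eq).mpr
        have h1 := hC y hy x hx
        have e : (x * y)⁻¹ * (y * x) = (x * y)⁻¹ * (y * x * y⁻¹ * x⁻¹) * ((x * y)⁻¹)⁻¹ := by group
        rw [e]
        exact ‹C.Normal›.conj_mem _ h1 (x * y)⁻¹
      · rw [← map_mul, ← map_mul, Subgroup.mem_center_iff.mp (hker hy) x]
    · rw [← map_mul, ← map_mul, ← Subgroup.mem_center_iff.mp (hker hx) y]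
  have hall : ∀ x y : E ⧸ C, x * y = y * x := by
    intro x y
    have hx : x ∈ Subgroup.closure S' := by rw [hgen]; trivial
    have hy : y ∈ Subgroup.closure S' := by rw [hgen]; trivial
    have hI := Subgroup.isMulCommutative_closure hcomm
    have := hI.is_comm.comm ⟨x, hx⟩ ⟨y, hy⟩
    exact congrArg Subtype.val this
  rw [commutator_def, Subgroup.commutator_le]
  intro a _ b _
  rw [commutatorElement_def]
  apply (QuotientGroup.eq_one_iff _).mp
  change π (a * b * a⁻¹ * b⁻¹) = 1
  have h1 : π a * π b * (π a)⁻¹ * (π b)⁻¹ = 1 := by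
    rw [hall (π a) (π b)]; group
  rw [map_mul, map_mul, map_mul, map_inv, map_inv]
  exact h1

/-- Conjugation by a power when the commutator is central. -/
theorem pow_conj_of_central {A B c : E} (hc : c ∈ Subgroup.center E)
    (hAB : A * B * A⁻¹ = c * B) (n : ℕ) : A ^ n * B * (A ^ n)⁻¹ = c ^ n * B := by
  induction n with
  | zero => simp
  | succ n ih =>
    have hcn : c ^ n ∈ Subgroup.center E := Subgroup.pow_mem _ hc n
    calc A ^ (n + 1) * B * (A ^ (n + 1))⁻¹ = A * (A ^ n * B * (A ^ n)⁻¹) * A⁻¹ := by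
          rw [pow_succ']; group
      _ = A * (c ^ n * B) * A⁻¹ := by rw [ih]
      _ = c ^ n * (A * B * A⁻¹) := by
          rw [← mul_assoc A, Subgroup.mem_center_iff.mp hcn A]; group
      _ = c ^ (n + 1) * B := by rw [hAB, pow_succ]; group

/-- A central extension of an abelian group generated by `a, b` with `a ^ k = 1` has derived
subgroup of order at most `k`. -/
theorem card_commutator_le_of_abelian [Finite E] (f : E →* Q) (hf : Function.Surjective f)
    (hker : f.ker ≤ Subgroup.center E) (a b : Q) (hgen : Subgroup.closure {a, b} = ⊤)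
    (hab : a * b = b * a) (k : ℕ) (hk : 0 < k) (ha : a ^ k = 1) :
    Nat.card (commutator E) ≤ k := by
  obtain ⟨A, rfl⟩ := hf a
  obtain ⟨B, rfl⟩ := hf b
  set c : E := A * B * A⁻¹ * B⁻¹ with hc
  have hck : c ∈ f.ker := by
    rw [MonoidHom.mem_ker, hc, map_mul, map_mul, map_mul, map_inv, map_inv, hab]
    group
  have hcc : c ∈ Subgroup.center E := hker hck
  haveI : (Subgroup.zpowers c).Normal := by
    constructor
    intro n hn g
    obtain ⟨j, rfl⟩ := Subgroup.mem_zpowers_iff.mp hn
    have : c ^ j ∈ Subgroup.center E := Subgroup.zpow_mem _ hcc j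
    rw [Subgroup.mem_center_iff.mp this g, mul_inv_cancel_right]
    exact hn
  have hle : commutator E ≤ Subgroup.zpowers c := by
    apply commutator_le_of_lifts_comm f hker {A, B}
    · rw [Set.image_pair]; exact hgen
    · intro x hx y hy
      rw [Set.mem_insert_iff, Set.mem_singleton_iff] at hx hy
      rcases hx with hx | hx <;> rcases hy with hy | hy <;> rw [hx, hy]
      · have : A * A * A⁻¹ * A⁻¹ = 1 := by group
        rw [this]; exact Subgroup.one_mem _
      · exact Subgroup.mem_zpowers c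
      · have : B * A * B⁻¹ * A⁻¹ = c⁻¹ := by rw [hc]; group
        rw [this]; exact Subgroup.inv_mem _ (Subgroup.mem_zpowers c)
      · have : B * B * B⁻¹ * B⁻¹ = 1 := by group
        rw [this]; exact Subgroup.one_mem _
  have hAB : A * B * A⁻¹ = c * B := by rw [hc]; group
  have hAk : A ^ k ∈ Subgroup.center E := by
    apply hker
    rw [MonoidHom.mem_ker, map_pow, ha]
  have hck1 : c ^ k = 1 := by
    have h1 := pow_conj_of_central hcc hAB k
    rw [← Subgroup.mem_center_iff.mp hAk B, mul_inv_cancel_right] at h1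
    have := congrArg (fun u => u * B⁻¹) h1
    simpa using this.symm
  calc Nat.card (commutator E) ≤ Nat.card (Subgroup.zpowers c) :=
        Subgroup.card_le_of_le hle
    _ = orderOf c := Nat.card_zpowers c
    _ ≤ k := Nat.le_of_dvd hk (orderOf_dvd_of_pow_eq_one hck1)

/-- A cyclic subgroup is normal once lifts of generators and the (central) kernel normalise it. -/
theorem zpowers_normal_of_gens (f : E →* Q) (hker : f.ker ≤ Subgroup.center E) (T : Set E)
    (hT : Subgroup.closure (f '' T) = ⊤) (c : E)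
    (hc : ∀ g ∈ T, g * c * g⁻¹ ∈ Subgroup.zpowers c ∧ g⁻¹ * c * g ∈ Subgroup.zpowers c) :
    (Subgroup.zpowers c).Normal := by
  set C := Subgroup.zpowers c with hC
  let N : Subgroup E :=
    { carrier := {g | ∀ n ∈ C, g * n * g⁻¹ ∈ C ∧ g⁻¹ * n * g ∈ C}
      one_mem' := by
        intro n hn
        simpa using hn
      mul_mem' := by
        intro g h hg hh n hn
        constructor
        · have := (hg _ (hh n hn).1).1
          have e : g * h * n * (g * h)⁻¹ = g * (h * n * h⁻¹) * g⁻¹ := by group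
          rw [e]; exact this
        · have := (hh _ (hg n hn).2).2
          have e : (g * h)⁻¹ * n * (g * h) = h⁻¹ * (g⁻¹ * n * g) * h := by group
          rw [e]; exact this
      inv_mem' := by
        intro g hg n hn
        have := hg n hn
        rw [inv_inv]
        exact ⟨this.2, this.1⟩ }
  have hTN : T ⊆ N := by
    intro g hg n hn
    obtain ⟨j, rfl⟩ := Subgroup.mem_zpowers_iff.mp hn
    constructor
    · rw [← conj_zpow]
      exact Subgroup.zpow_mem _ (hc g hg).1 j
    · have := Subgroup.zpow_mem _ (hc g hg).2 j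
      rw [show g⁻¹ * c * g = g⁻¹ * c * g⁻¹⁻¹ by rw [inv_inv], conj_zpow, inv_inv] at this
      exact this
  have hkN : f.ker ≤ N := by
    intro g hg n hn
    have hgc := Subgroup.mem_center_iff.mp (hker hg)
    constructor
    · rw [← hgc n, mul_inv_cancel_right]; exact hn
    · rw [mul_assoc, hgc n, inv_mul_cancel_left]; exact hn
  have hN : N = ⊤ := by
    rw [eq_top_iff, ← closure_lifts_sup_ker f T hT, sup_le_iff]
    exact ⟨(Subgroup.closure_le N).mpr hTN, hkN⟩
  constructor
  intro n hn g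
  have hg : g ∈ N := by rw [hN]; trivial
  exact (hg n hn).1

/-- A central extension of a dihedral group of order 8 meets its commutator subgroup in a group of
order at most 2. -/
theorem card_ker_inf_commutator_le_two_of_dihedral [Finite E] (f : E →* Q)
    (hf : Function.Surjective f) (hker : f.ker ≤ Subgroup.center E) (r s : Q)
    (hgen : Subgroup.closure {r, s} = ⊤) (hr4 : r ^ 4 = 1) (hr2 : r ^ 2 ≠ 1)
    (hsr : s * r * s⁻¹ = r⁻¹) :
    Nat.card (f.ker ⊓ commutator E : Subgroup E) ≤ 2 := by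
  obtain ⟨R, rfl⟩ := hf r
  obtain ⟨S, rfl⟩ := hf s
  set k : E := S * R * S⁻¹ * R with hk
  have hkk : k ∈ f.ker := by
    rw [MonoidHom.mem_ker, hk, map_mul, map_mul, map_mul, map_inv, hsr, inv_mul_cancel]
  have hkc : ∀ g : E, g * k = k * g := Subgroup.mem_center_iff.mp (hker hkk)
  have hkc' : ∀ g : E, g * k⁻¹ = k⁻¹ * g := by
    intro g
    have := hkc g
    calc g * k⁻¹ = k⁻¹ * (k * g) * k⁻¹ := by group
      _ = k⁻¹ * (g * k) * k⁻¹ := by rw [this]
      _ = k⁻¹ * g := by group
  have hSR : S * R * S⁻¹ = k * R⁻¹ := by rw [hk]; group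
  set c : E := R * S * R⁻¹ * S⁻¹ with hc
  have hc_eq : c = R * R * k⁻¹ := by
    calc c = R * (S * R * S⁻¹)⁻¹ := by rw [hc]; group
      _ = R * (k * R⁻¹)⁻¹ := by rw [hSR]
      _ = R * R * k⁻¹ := by group
  have hRc : R * c * R⁻¹ = c := by
    rw [hc_eq]
    calc R * (R * R * k⁻¹) * R⁻¹ = R * R * (R * k⁻¹) * R⁻¹ := by group
      _ = R * R * (k⁻¹ * R) * R⁻¹ := by rw [hkc' R]
      _ = R * R * k⁻¹ := by group
  have hSc : S * c * S⁻¹ = c⁻¹ := by
    rw [hc_eq]
    calc S * (R * R * k⁻¹) * S⁻¹ = (S * R * S⁻¹) * (S * R * S⁻¹) * (S * k⁻¹) * S⁻¹ := by group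
      _ = (k * R⁻¹) * (k * R⁻¹) * (k⁻¹ * S) * S⁻¹ := by rw [hSR, hkc' S]
      _ = k * (R⁻¹ * k) * R⁻¹ * k⁻¹ := by group
      _ = k * (k * R⁻¹) * R⁻¹ * k⁻¹ := by rw [hkc R⁻¹]
      _ = k * (k * (R⁻¹ * R⁻¹) * k⁻¹) := by group
      _ = k * ((R⁻¹ * R⁻¹) * k * k⁻¹) := by rw [← hkc (R⁻¹ * R⁻¹)]
      _ = (R * R * k⁻¹)⁻¹ := by group
  haveI hCn : (Subgroup.zpowers c).Normal := by
    apply zpowers_normal_of_gens f hker {R, S}
    · rw [Set.image_pair]; exact hgen
    · intro g hg
      rw [Set.mem_insert_iff, Set.mem_singleton_iff] at hg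
      rcases hg with hg | hg <;> rw [hg]
      · constructor
        · rw [hRc]; exact Subgroup.mem_zpowers c
        · have : R⁻¹ * c * R = c := by
            nth_rewrite 1 [← hRc]; group
          rw [this]; exact Subgroup.mem_zpowers c
      · constructor
        · rw [hSc]; exact Subgroup.inv_mem _ (Subgroup.mem_zpowers c)
        · have : S⁻¹ * c * S = c⁻¹ := by
            have h1 : c = S⁻¹ * c⁻¹ * S := by rw [← hSc]; group
            calc S⁻¹ * c * S = (S⁻¹ * c⁻¹ * S)⁻¹ := by group
              _ = c⁻¹ := by rw [← h1]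
          rw [this]; exact Subgroup.inv_mem _ (Subgroup.mem_zpowers c)
  have hle : commutator E ≤ Subgroup.zpowers c := by
    apply commutator_le_of_lifts_comm f hker {R, S}
    · rw [Set.image_pair]; exact hgen
    · intro x hx y hy
      rw [Set.mem_insert_iff, Set.mem_singleton_iff] at hx hy
      rcases hx with hx | hx <;> rcases hy with hy | hy <;> rw [hx, hy]
      · have : R * R * R⁻¹ * R⁻¹ = 1 := by group
        rw [this]; exact Subgroup.one_mem _
      · exact Subgroup.mem_zpowers c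
      · have : S * R * S⁻¹ * R⁻¹ = c⁻¹ := by rw [hc]; group
        rw [this]; exact Subgroup.inv_mem _ (Subgroup.mem_zpowers c)
      · have : S * S * S⁻¹ * S⁻¹ = 1 := by group
        rw [this]; exact Subgroup.one_mem _
  -- the image of `c`
  have hfc : f c = f R ^ 2 := by
    have : f c = f R * (f S * f R * (f S)⁻¹)⁻¹ := by
      rw [hc]; simp only [map_mul, map_inv]; group
    rw [this, hsr, inv_inv, pow_two]
  -- `c ^ 4 = 1`
  have hR4 : R ^ 4 ∈ Subgroup.center E := by
    apply hker
    rw [MonoidHom.mem_ker, map_pow, hr4]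
  have hcomm_kR : Commute k R⁻¹ := (hkc R⁻¹).symm
  have hR8 : R ^ 4 * R ^ 4 = k ^ 4 := by
    have h1 : S * R ^ 4 * S⁻¹ = (k * R⁻¹) ^ 4 := by rw [← hSR, conj_pow]
    rw [hcomm_kR.mul_pow, Subgroup.mem_center_iff.mp hR4 S, mul_inv_cancel_right] at h1
    nth_rewrite 1 [h1]
    group
  have hc4 : c ^ 4 = 1 := by
    have hcomm : Commute (R * R) k⁻¹ := hkc' (R * R)
    have h4 : (R * R * k⁻¹) ^ 4 = 1 := by
      rw [hcomm.mul_pow]
      have : (R * R) ^ 4 = R ^ 4 * R ^ 4 := by
        rw [← pow_two, ← pow_mul, ← pow_add]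
      rw [this, hR8]; group
    rw [hc_eq]; exact h4
  -- the elements of the intersection
  have hsub : ((f.ker ⊓ commutator E : Subgroup E) : Set E) ⊆ {1, c ^ 2} := by
    intro x hx
    obtain ⟨hxk, hxc⟩ := hx
    obtain ⟨j, rfl⟩ := Subgroup.mem_zpowers_iff.mp (hle hxc)
    have hfx : (f R ^ 2) ^ j = 1 := by
      have : f (c ^ j) = 1 := hxk
      rwa [map_zpow, hfc] at this
    rcases Int.even_or_odd' j with ⟨i, rfl | rfl⟩
    · rw [zpow_mul, zpow_ofNat]
      have hsq : (c ^ 2) ^ 2 = 1 := by rw [← pow_mul]; exact hc4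
      rw [Set.mem_insert_iff, Set.mem_singleton_iff]
      rcases Int.even_or_odd' i with ⟨l, rfl | rfl⟩
      · left
        rw [zpow_mul, zpow_ofNat, hsq, one_zpow]
      · right
        rw [zpow_add, zpow_mul, zpow_ofNat, hsq, one_zpow, one_mul, zpow_one]
    · exfalso
      rw [zpow_add, zpow_mul, zpow_ofNat, ← pow_mul, hr4, one_zpow, one_mul, zpow_one] at hfx
      exact hr2 hfx
  calc Nat.card (f.ker ⊓ commutator E : Subgroup E)
      = ((f.ker ⊓ commutator E : Subgroup E) : Set E).ncard := (Nat.card_coe_set_eq _)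
    _ ≤ ({1, c ^ 2} : Set E).ncard := Set.ncard_le_ncard hsub (Set.toFinite _)
    _ ≤ 2 := by
        calc ({1, c ^ 2} : Set E).ncard ≤ ({c ^ 2} : Set E).ncard + 1 := Set.ncard_insert_le _ _
          _ = 2 := by rw [Set.ncard_singleton]

/-- A group of order `p ^ 2` is cyclic or generated by two commuting elements of order dividing
`p`. -/
theorem cyclic_or_two_gen_of_card_sq [Finite Q] (p : ℕ) [hp : Fact p.Prime]
    (hcard : Nat.card Q = p ^ 2) :
    IsCyclic Q ∨ ∃ a b : Q, Subgroup.closure {a, b} = ⊤ ∧ a * b = b * a ∧ a ^ p = 1 := by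
  by_cases hcyc : IsCyclic Q
  · exact Or.inl hcyc
  right
  have hcomm := IsPGroup.commutative_of_card_eq_prime_sq hcard
  have hord : ∀ g : Q, g ^ p = 1 := by
    intro g
    have hdvd : orderOf g ∣ p ^ 2 := hcard ▸ orderOf_dvd_natCard g
    obtain ⟨k, hk, hk'⟩ := (Nat.dvd_prime_pow hp.out).mp hdvd
    have hk2 : k ≠ 2 := by
      intro h
      apply hcyc
      rw [h] at hk'
      exact isCyclic_of_orderOf_eq_card g (by rw [hk', hcard])
    have : k ≤ 1 := by omega
    have : orderOf g ∣ p := by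
      rw [hk']
      calc p ^ k ∣ p ^ 1 := pow_dvd_pow p this
        _ = p := pow_one p
    exact orderOf_dvd_iff_pow_eq_one.mp this
  have hnt : Nontrivial Q := by
    rw [← Finite.one_lt_card_iff_nontrivial, hcard]
    exact Nat.one_lt_pow (by norm_num) hp.out.one_lt
  obtain ⟨a, ha⟩ := exists_ne (1 : Q)
  have hza : Nat.card (Subgroup.zpowers a) = p := by
    rw [Nat.card_zpowers]
    exact orderOf_eq_prime (hord a) ha
  have hne : (Subgroup.zpowers a) ≠ ⊤ := by
    intro h
    rw [h, Subgroup.card_top, hcard] at hza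
    have := hp.out.one_lt
    nlinarith
  obtain ⟨b, -, hb⟩ := SetLike.exists_of_lt (lt_top_iff_ne_top.mpr hne)
  refine ⟨a, b, ?_, hcomm a b, hord a⟩
  set K := Subgroup.closure ({a, b} : Set Q) with hK
  have hle : Subgroup.zpowers a ≤ K := by
    rw [Subgroup.zpowers_le]
    exact Subgroup.subset_closure (Set.mem_insert _ _)
  have hbK : b ∈ K := Subgroup.subset_closure (Set.mem_insert_of_mem _ rfl)
  have hlt : Subgroup.zpowers a < K := lt_of_le_of_ne hle (fun h => hb (h ▸ hbK))
  have hKdvd : Nat.card K ∣ p ^ 2 := hcard ▸ Subgroup.card_subgroup_dvd_card K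
  obtain ⟨k, hk, hk'⟩ := (Nat.dvd_prime_pow hp.out).mp hKdvd
  have hcardlt : p < Nat.card K := by
    rw [← hza]
    apply lt_of_le_of_ne (Subgroup.card_le_of_le hle)
    intro heq
    exact hlt.ne (Subgroup.eq_of_le_of_card_ge hle heq.ge)
  have hk2 : k = 2 := by
    rw [hk'] at hcardlt
    have hp1 := hp.out.one_lt
    interval_cases k
    · simp at hcardlt; omega
    · simp at hcardlt
    · rfl
  rw [hk2] at hk'
  exact Subgroup.eq_top_of_card_eq K (by rw [hk', hcard])

end General

section Main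

variable {Γ G : Type*} [Group Γ] [Finite Γ] [Group G] [Finite G] {σ : Γ →* G}

/-- A `p`-element of the kernel of a stem extension lies in the derived subgroup of the preimage
of any subgroup of index prime to `p`. -/
theorem pElement_mem (hσ : Function.Surjective σ) (hker : σ.ker ≤ Subgroup.center Γ)
    (hstem : σ.ker ≤ commutator Γ) (P : Subgroup G) (p : ℕ) (hcop : (P.index).Coprime p)
    {z : Γ} (hz : z ∈ σ.ker) (k : ℕ) (hzp : z ^ p ^ k = 1) (h : z ∈ P.comap σ) :
    (⟨z, h⟩ : P.comap σ) ∈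
      ((σ.subgroupComap P).ker ⊓ commutator (P.comap σ) : Subgroup (P.comap σ)) := by
  refine Subgroup.mem_inf.mpr ⟨?_, ?_⟩
  · rw [MonoidHom.mem_ker]
    apply Subtype.ext
    exact hz
  · obtain ⟨h1, h2⟩ := StemSmall.pow_index_mem hσ hker hstem P hz
    rw [← Abelianization.ker_of, MonoidHom.mem_ker] at h2 ⊢
    set ζ := Abelianization.of (⟨z, h⟩ : P.comap σ) with hζ
    have e1 : ζ ^ P.index = 1 := by
      rw [hζ, ← map_pow]
      exact h2
    have e2 : ζ ^ p ^ k = 1 := by
      rw [hζ, ← map_pow]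
      have : (⟨z, h⟩ : P.comap σ) ^ p ^ k = 1 := Subtype.ext (by simpa using hzp)
      rw [this, map_one]
    have hg : ζ ^ Nat.gcd P.index (p ^ k) = 1 := pow_gcd_eq_one.mpr ⟨e1, e2⟩
    rw [Nat.Coprime.pow_right k hcop, pow_one] at hg
    exact hg

/-- The `p`-part of the kernel is bounded by the order of `ker ∩ E'` for the preimage `E` of a
subgroup of index prime to `p`. -/
theorem pPart_le (hσ : Function.Surjective σ) (hker : σ.ker ≤ Subgroup.center Γ)
    (hstem : σ.ker ≤ commutator Γ) (P : Subgroup G) (p : ℕ) [Fact p.Prime]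
    (hcop : (P.index).Coprime p) (b : ℕ)
    (hb : Nat.card ((σ.subgroupComap P).ker ⊓ commutator (P.comap σ) : Subgroup (P.comap σ))
      ≤ b) :
    p ^ (Nat.card σ.ker).factorization p ≤ b := by
  obtain ⟨S⟩ : Nonempty (Sylow p σ.ker) := inferInstance
  rw [← S.card_eq_multiplicity]
  refine le_trans ?_ hb
  have hmem : ∀ s : S, ((s : σ.ker) : Γ) ∈ P.comap σ := by
    intro s
    rw [Subgroup.mem_comap, (MonoidHom.mem_ker.mp (s : σ.ker).2)]
    exact Subgroup.one_mem _
  let g : S → ((σ.subgroupComap P).ker ⊓ commutator (P.comap σ) : Subgroup (P.comap σ)) :=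
    fun s => ⟨⟨((s : σ.ker) : Γ), hmem s⟩, by
      obtain ⟨k, hk⟩ := S.2 s
      have hk' : ((s : σ.ker) : Γ) ^ p ^ k = 1 := by
        have := congrArg (fun u : S => ((u : σ.ker) : Γ)) hk
        simpa using this
      exact pElement_mem hσ hker hstem P p hcop (s : σ.ker).2 k hk' (hmem s)⟩
  apply Nat.card_le_card_of_injective g
  intro s t hst
  have h1 : ((g s : P.comap σ) : Γ) = ((g t : P.comap σ) : Γ) := by rw [hst]
  exact Subtype.ext (Subtype.ext h1)

/-- Reformulation in terms of prime powers dividing the order of the kernel. -/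
theorem pow_le_of_dvd (hσ : Function.Surjective σ) (hker : σ.ker ≤ Subgroup.center Γ)
    (hstem : σ.ker ≤ commutator Γ) (P : Subgroup G) (p : ℕ) [hp : Fact p.Prime]
    (hcop : (P.index).Coprime p) (b : ℕ)
    (hb : Nat.card ((σ.subgroupComap P).ker ⊓ commutator (P.comap σ) : Subgroup (P.comap σ))
      ≤ b) (k : ℕ) (hk : p ^ k ∣ Nat.card σ.ker) : p ^ k ≤ b := by
  refine le_trans ?_ (pPart_le hσ hker hstem P p hcop b hb)
  apply Nat.pow_le_pow_right hp.out.pos
  exact (hp.out.pow_dvd_iff_le_factorization Nat.card_pos.ne').mp hk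

/-- The preimage of a cyclic subgroup has trivial derived subgroup. -/
theorem card_inf_commutator_of_cyclic (hker : σ.ker ≤ Subgroup.center Γ) (P : Subgroup G)
    [IsCyclic P] :
    Nat.card ((σ.subgroupComap P).ker ⊓ commutator (P.comap σ) : Subgroup (P.comap σ)) ≤ 1 := by
  have hcomm : ∀ a b : P.comap σ, a * b = b * a :=
    commutative_of_cyclic_center_quotient (σ.subgroupComap P)
      (StemSmall.ker_subgroupComap_le hker P)
  have : commutator (P.comap σ) = ⊥ := by
    rw [commutator_def, Subgroup.commutator_eq_bot_iff_le_centralizer]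
    intro a _ b _
    exact hcomm b a
  rw [this, inf_bot_eq, Subgroup.card_bot]

/-- If `p ^ 2` does not divide `|G|`, the kernel of a stem extension has order prime to `p`. -/
theorem pow_dvd_of_not_sq_dvd (hσ : Function.Surjective σ) (hker : σ.ker ≤ Subgroup.center Γ)
    (hstem : σ.ker ≤ commutator Γ) (p : ℕ) [hp : Fact p.Prime] (hp2 : ¬ p ^ 2 ∣ Nat.card G)
    (k : ℕ) (hk : p ^ k ∣ Nat.card σ.ker) : k = 0 := by
  obtain ⟨P⟩ : Nonempty (Sylow p G) := inferInstance
  have hcop : ((P : Subgroup G).index).Coprime p :=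
    ((Nat.Prime.coprime_iff_not_dvd hp.out).mpr P.not_dvd_index).symm
  haveI : IsCyclic (P : Subgroup G) := by
    obtain ⟨n, hn⟩ := IsPGroup.iff_card.mp P.isPGroup'
    have hdvd : p ^ n ∣ Nat.card G := hn ▸ (P : Subgroup G).card_subgroup_dvd_card
    have hn1 : n ≤ 1 := by
      by_contra hcon
      push Not at hcon
      exact hp2 (dvd_trans (pow_dvd_pow p hcon) hdvd)
    interval_cases n
    · rw [pow_zero] at hn
      haveI : Subsingleton (P : Subgroup G) := (Nat.card_eq_one_iff_unique.mp hn).1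
      exact isCyclic_of_subsingleton
    · rw [pow_one] at hn
      exact isCyclic_of_prime_card hn
  have h1 := pow_le_of_dvd hσ hker hstem (P : Subgroup G) p hcop 1
    (card_inf_commutator_of_cyclic hker (P : Subgroup G)) k hk
  by_contra hk0
  have h2 : p ^ 1 ≤ p ^ k := Nat.pow_le_pow_right hp.out.pos (Nat.one_le_iff_ne_zero.mpr hk0)
  rw [pow_one] at h2
  have := hp.out.one_lt
  omega

/-- If `p ^ 3` does not divide `|G|`, the `p`-part of the kernel of a stem extension has order at
most `p`. -/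
theorem pow_dvd_of_not_cube_dvd (hσ : Function.Surjective σ) (hker : σ.ker ≤ Subgroup.center Γ)
    (hstem : σ.ker ≤ commutator Γ) (p : ℕ) [hp : Fact p.Prime] (hp3 : ¬ p ^ 3 ∣ Nat.card G)
    (k : ℕ) (hk : p ^ k ∣ Nat.card σ.ker) : k ≤ 1 := by
  by_cases hp2 : ¬ p ^ 2 ∣ Nat.card G
  · rw [pow_dvd_of_not_sq_dvd hσ hker hstem p hp2 k hk]; omega
  push Not at hp2
  obtain ⟨P⟩ : Nonempty (Sylow p G) := inferInstance
  have hcop : ((P : Subgroup G).index).Coprime p :=
    ((Nat.Prime.coprime_iff_not_dvd hp.out).mpr P.not_dvd_index).symm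
  have hcardP : Nat.card (P : Subgroup G) = p ^ 2 := by
    obtain ⟨n, hn⟩ := IsPGroup.iff_card.mp P.isPGroup'
    have hdvd : p ^ n ∣ Nat.card G := hn ▸ (P : Subgroup G).card_subgroup_dvd_card
    have hn2 : n ≤ 2 := by
      by_contra hcon
      push Not at hcon
      exact hp3 (dvd_trans (pow_dvd_pow p hcon) hdvd)
    have h2 : p ^ 2 ∣ Nat.card (P : Subgroup G) := P.pow_dvd_card_of_pow_dvd_card hp2
    rw [hn] at h2
    have hn2' : 2 ≤ n := (Nat.pow_dvd_pow_iff_le_right hp.out.one_lt).mp h2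
    have : n = 2 := le_antisymm hn2 hn2'
    rw [hn, this]
  have hb : Nat.card ((σ.subgroupComap (P : Subgroup G)).ker ⊓
      commutator ((P : Subgroup G).comap σ) : Subgroup ((P : Subgroup G).comap σ)) ≤ p := by
    rcases cyclic_or_two_gen_of_card_sq p hcardP with hcyc | ⟨a, b, hgen, hab, hap⟩
    · haveI := hcyc
      exact le_trans (card_inf_commutator_of_cyclic hker (P : Subgroup G)) hp.out.one_lt.le
    · refine le_trans (Subgroup.card_le_of_le inf_le_right) ?_
      exact card_commutator_le_of_abelian (σ.subgroupComap (P : Subgroup G))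
        (StemSmall.subgroupComap_surjective hσ _) (StemSmall.ker_subgroupComap_le hker _)
        a b hgen hab p hp.out.pos hap
  have h1 := pow_le_of_dvd hσ hker hstem (P : Subgroup G) p hcop p hb k hk
  by_contra hk1
  push Not at hk1
  have : p ^ 2 ≤ p ^ k := Nat.pow_le_pow_right hp.out.pos hk1
  have := hp.out.one_lt
  nlinarith

end Main

section Dihedral

variable {G : Type*} [Group G]

/-- The subgroup generated by `r, s` subject to the dihedral relations of order 8 has order 8. -/
theorem dihedral_closure_card (r s : G) (hr4 : r ^ 4 = 1) (hr2 : r ^ 2 ≠ 1) (hs2 : s ^ 2 = 1)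
    (hsr : s * r * s⁻¹ = r⁻¹) :
    Nat.card (Subgroup.closure ({r, s} : Set G)) = 8 := by
  have hrinv : r⁻¹ = r ^ 3 := by
    apply inv_eq_of_mul_eq_one_left
    rw [← pow_succ]; exact hr4
  have hsinv : s⁻¹ = s := by
    apply inv_eq_of_mul_eq_one_left
    rw [← pow_two]; exact hs2
  have hss : s * s = 1 := by rw [← pow_two]; exact hs2
  have hsrk : ∀ k : ℕ, s * r ^ k = r ^ (3 * k) * s := by
    intro k
    have h1 : s * r ^ k * s⁻¹ = (r ^ 3) ^ k := by rw [← conj_pow, hsr, hrinv]
    rw [← pow_mul] at h1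
    calc s * r ^ k = s * r ^ k * s⁻¹ * s := by group
      _ = r ^ (3 * k) * s := by rw [h1]
  let T : Subgroup G :=
    { carrier := {g | ∃ i : ℕ, g = r ^ i ∨ g = r ^ i * s}
      one_mem' := ⟨0, Or.inl (pow_zero r).symm⟩
      mul_mem' := by
        rintro a b ⟨i, rfl | rfl⟩ ⟨k, rfl | rfl⟩
        · exact ⟨i + k, Or.inl (pow_add r i k).symm⟩
        · exact ⟨i + k, Or.inr (by rw [pow_add, mul_assoc])⟩
        · refine ⟨i + 3 * k, Or.inr ?_⟩
          rw [mul_assoc, hsrk k, pow_add, mul_assoc]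
        · refine ⟨i + 3 * k, Or.inl ?_⟩
          rw [mul_assoc, ← mul_assoc s, hsrk k, pow_add, mul_assoc (r ^ (3 * k)), hss, mul_one]
      inv_mem' := by
        rintro a ⟨i, rfl | rfl⟩
        · refine ⟨3 * i, Or.inl ?_⟩
          rw [← inv_pow, hrinv, ← pow_mul]
        · refine ⟨3 * (3 * i), Or.inr ?_⟩
          rw [mul_inv_rev, hsinv, ← inv_pow, hrinv, ← pow_mul, hsrk] }
  have hle : Subgroup.closure ({r, s} : Set G) ≤ T := by
    rw [Subgroup.closure_le]
    intro x hx
    rw [Set.mem_insert_iff, Set.mem_singleton_iff] at hx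
    rcases hx with rfl | rfl
    · exact ⟨1, Or.inl (pow_one _).symm⟩
    · exact ⟨0, Or.inr (by rw [pow_zero, one_mul])⟩
  classical
  let F : Finset G := (Finset.range 4 ×ˢ Finset.range 2).image (fun ij => r ^ ij.1 * s ^ ij.2)
  have hTF : (T : Set G) ⊆ F := by
    rintro x ⟨i, rfl | rfl⟩
    · rw [Finset.mem_coe, Finset.mem_image]
      refine ⟨(i % 4, 0), ?_, ?_⟩
      · rw [Finset.mem_product, Finset.mem_range, Finset.mem_range]
        exact ⟨Nat.mod_lt _ (by norm_num), by norm_num⟩
      · change r ^ (i % 4) * s ^ 0 = r ^ i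
        rw [pow_zero, mul_one, ← pow_eq_pow_mod i hr4]
    · rw [Finset.mem_coe, Finset.mem_image]
      refine ⟨(i % 4, 1), ?_, ?_⟩
      · rw [Finset.mem_product, Finset.mem_range, Finset.mem_range]
        exact ⟨Nat.mod_lt _ (by norm_num), by norm_num⟩
      · change r ^ (i % 4) * s ^ 1 = r ^ i * s
        rw [pow_one, ← pow_eq_pow_mod i hr4]
  have hFcard : F.card ≤ 8 := by
    refine le_trans Finset.card_image_le ?_
    rw [Finset.card_product, Finset.card_range, Finset.card_range]
  have hsub : ((Subgroup.closure ({r, s} : Set G) : Subgroup G) : Set G) ⊆ F :=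
    fun x hx => hTF (hle hx)
  have hfin : ((Subgroup.closure ({r, s} : Set G) : Subgroup G) : Set G).Finite :=
    Set.Finite.subset F.finite_toSet hsub
  haveI : Finite (Subgroup.closure ({r, s} : Set G)) := hfin.to_subtype
  have hle8 : Nat.card (Subgroup.closure ({r, s} : Set G)) ≤ 8 := by
    calc Nat.card (Subgroup.closure ({r, s} : Set G))
        = ((Subgroup.closure ({r, s} : Set G) : Subgroup G) : Set G).ncard :=
          (Nat.card_coe_set_eq _)
      _ ≤ (F : Set G).ncard := Set.ncard_le_ncard hsub F.finite_toSet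
      _ = F.card := Set.ncard_coe_finset F
      _ ≤ 8 := hFcard
  have hrmem : r ∈ Subgroup.closure ({r, s} : Set G) :=
    Subgroup.subset_closure (Set.mem_insert _ _)
  have hsmem : s ∈ Subgroup.closure ({r, s} : Set G) :=
    Subgroup.subset_closure (Set.mem_insert_of_mem _ rfl)
  have hord : orderOf r = 4 := by
    have := orderOf_eq_prime_pow (p := 2) (n := 1) (x := r) (by simpa using hr2)
      (by simpa using hr4)
    simpa using this
  set g : Subgroup.closure ({r, s} : Set G) := ⟨r, hrmem⟩ with hg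
  have hordg : orderOf g = 4 := by
    rw [← hord, hg, Subgroup.orderOf_mk]
  have h4 : 4 ∣ Nat.card (Subgroup.closure ({r, s} : Set G)) := hordg ▸ orderOf_dvd_natCard g
  have hne4 : Nat.card (Subgroup.closure ({r, s} : Set G)) ≠ 4 := by
    intro h
    have htop : Subgroup.zpowers g = ⊤ :=
      Subgroup.eq_top_of_card_eq _ (by rw [Nat.card_zpowers, hordg, h])
    have hs' : (⟨s, hsmem⟩ : Subgroup.closure ({r, s} : Set G)) ∈ Subgroup.zpowers g := by
      rw [htop]; trivial
    obtain ⟨j, hj⟩ := Subgroup.mem_zpowers_iff.mp hs'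
    have hj' : r ^ j = s := by
      have := congrArg Subtype.val hj
      simpa [hg] using this
    have hcomm : s * r = r * s := by
      rw [← hj']
      exact ((Commute.refl r).zpow_left j).eq
    have : r⁻¹ = r := by
      rw [← hsr, hcomm, mul_inv_cancel_right]
    apply hr2
    rw [pow_two]
    nth_rewrite 1 [← this]
    exact inv_mul_cancel r
  have hpos : 0 < Nat.card (Subgroup.closure ({r, s} : Set G)) := Nat.card_pos
  obtain ⟨m, hm⟩ := h4
  omega

end Dihedral

section Final

variable {Γ G : Type*} [Group Γ] [Finite Γ] [Group G] [Finite G] {σ : Γ →* G}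

/-- If `G` contains a dihedral subgroup of order 8 and `16 ∤ |G|`, the `2`-part of the kernel of a
stem extension has order at most 2. -/
theorem two_pow_dvd_of_dihedral (hσ : Function.Surjective σ) (hker : σ.ker ≤ Subgroup.center Γ)
    (hstem : σ.ker ≤ commutator Γ) (r s : G) (hr4 : r ^ 4 = 1) (hr2 : r ^ 2 ≠ 1)
    (hs2 : s ^ 2 = 1) (hsr : s * r * s⁻¹ = r⁻¹) (h16 : ¬ 16 ∣ Nat.card G)
    (k : ℕ) (hk : 2 ^ k ∣ Nat.card σ.ker) : k ≤ 1 := by
  set P : Subgroup G := Subgroup.closure ({r, s} : Set G) with hP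
  have hcardP : Nat.card P = 8 := dihedral_closure_card r s hr4 hr2 hs2 hsr
  have hcop : (P.index).Coprime 2 := by
    have h1 := P.card_mul_index
    rw [hcardP] at h1
    rw [Nat.coprime_two_right, ← Nat.not_even_iff_odd]
    rintro ⟨m, hm⟩
    apply h16
    rw [← h1, hm]
    exact ⟨m, by ring⟩
  have hrmem : r ∈ P := Subgroup.subset_closure (Set.mem_insert _ _)
  have hsmem : s ∈ P := Subgroup.subset_closure (Set.mem_insert_of_mem _ rfl)
  have hgen : Subgroup.closure ({(⟨r, hrmem⟩ : P), ⟨s, hsmem⟩} : Set P) = ⊤ := by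
    have h := Subgroup.closure_closure_coe_preimage (k := ({r, s} : Set G))
    convert h using 2
    ext x
    simp only [Set.mem_insert_iff, Set.mem_singleton_iff, Set.mem_preimage]
    constructor
    · rintro (h | h)
      · left; rw [h]
      · right; rw [h]
    · rintro (h | h)
      · left; exact Subtype.ext h
      · right; exact Subtype.ext h
  have hb := card_ker_inf_commutator_le_two_of_dihedral (σ.subgroupComap P)
    (StemSmall.subgroupComap_surjective hσ P) (StemSmall.ker_subgroupComap_le hker P)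
    (⟨r, hrmem⟩ : P) ⟨s, hsmem⟩ hgen (Subtype.ext (by simpa using hr4))
    (fun h => hr2 (by simpa using congrArg Subtype.val h))
    (Subtype.ext (by simpa using hsr))
  haveI : Fact (Nat.Prime 2) := ⟨Nat.prime_two⟩
  have h1 := pow_le_of_dvd hσ hker hstem P 2 hcop 2 hb k hk
  by_contra hk1
  push Not at hk1
  have : 2 ^ 2 ≤ 2 ^ k := Nat.pow_le_pow_right (by norm_num) hk1
  omega

/-- **Stem kernels of order dividing 6.** -/
theorem card_ker_dvd_six (hσ : Function.Surjective σ) (hker : σ.ker ≤ Subgroup.center Γ)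
    (hstem : σ.ker ≤ commutator Γ) (r s : G) (hr4 : r ^ 4 = 1) (hr2 : r ^ 2 ≠ 1)
    (hs2 : s ^ 2 = 1) (hsr : s * r * s⁻¹ = r⁻¹) (h16 : ¬ 16 ∣ Nat.card G)
    (h27 : ¬ 27 ∣ Nat.card G)
    (hp : ∀ p : ℕ, p.Prime → p ≠ 2 → p ≠ 3 → ¬ p ^ 2 ∣ Nat.card G) :
    Nat.card σ.ker ∣ 6 := by
  rw [Nat.dvd_iff_prime_pow_dvd_dvd]
  intro p k hpp hk
  haveI : Fact p.Prime := ⟨hpp⟩
  by_cases h2 : p = 2
  · subst h2
    have := two_pow_dvd_of_dihedral hσ hker hstem r s hr4 hr2 hs2 hsr h16 k hk
    interval_cases k <;> norm_num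
  by_cases h3 : p = 3
  · subst h3
    have := pow_dvd_of_not_cube_dvd hσ hker hstem 3 (by norm_num; exact h27) k hk
    interval_cases k <;> norm_num
  have := pow_dvd_of_not_sq_dvd hσ hker hstem p (hp p hpp h2 h3) k hk
  rw [this, pow_zero]
  exact one_dvd _

end Final

end Cfsg.Agent.Lib.H18.StemSylow
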