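import Mathlib
import Cfsg.Agent.Lib.H7.SunR4
import Cfsg.Agent.Lib.H7.SunR5
import Cfsg.Agent.Lib.H20.SunMid

/-!
# L4 for helper8's S2282: embedded matrices of the middle frame commute with middle matrices
(helper18, REQUEST-4 L4 of helper8)

If `M` has trivial `r`-th row and column, then `emb M - 1 = P (M - 1) P⋆` is supported on the
outer × outer positions, where a middle matrix `C` is trivial; so they commute.
-/

set_option autoImplicit false

namespace Cfsg.Agent.Lib.H18.SunTr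

open Matrix Cfsg.Agent.Lib.H8.SUN Cfsg.Agent.Lib.H7.SunR Cfsg.Agent.Lib.H20.SunMid

variable {F : Type*} [Field F]

section

variable {σ : F →+* F} {ω : F} {n r k : ℕ} (hk : k = 2 * r + 1) (hnk : k < n)
  (fr : SubFrame σ n k) (hP : MidEntries ω n r k fr.P)

theorem midIdx_eq_r_of_mid (a : Fin n) (h : ¬ ((a : ℕ) < r ∨ n ≤ (a : ℕ) + r)) :
    ((midIdx n r k hk a : Fin k) : ℕ) = r := by
  rw [midIdx_val]
  split_ifs <;> omega

include hnk hP in
/-- the entries of `P (M - 1) P⋆` vanish at middle rows -/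
theorem mul_entries_zero_row (M : Matrix (Fin k) (Fin k) F)
    (hMr : ∀ j, M ⟨r, by omega⟩ j = if j = ⟨r, by omega⟩ then 1 else 0)
    (a b : Fin n) (h : ¬ ((a : ℕ) < r ∨ n ≤ (a : ℕ) + r)) :
    (fr.P * (M - 1) * fr.Ps : Matrix (Fin n) (Fin n) F) a b = 0 := by
  rw [mul_entries hk hnk fr hP]
  have h1 : midIdx n r k hk a = ⟨r, by omega⟩ := Fin.ext (midIdx_eq_r_of_mid hk a h)
  have h2 : (M - 1) (midIdx n r k hk a) (midIdx n r k hk b) = 0 := by
    rw [h1, Matrix.sub_apply, hMr, Matrix.one_apply]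
    by_cases e : midIdx n r k hk b = ⟨r, by omega⟩
    · rw [if_pos e, if_pos e.symm, sub_self]
    · rw [if_neg e, if_neg (fun e' => e e'.symm), sub_self]
  rw [h2, mul_zero, zero_mul]

include hnk hP in
/-- the entries of `P (M - 1) P⋆` vanish at middle columns -/
theorem mul_entries_zero_col (M : Matrix (Fin k) (Fin k) F)
    (hMc : ∀ i, M i ⟨r, by omega⟩ = if i = ⟨r, by omega⟩ then 1 else 0)
    (a b : Fin n) (h : ¬ ((b : ℕ) < r ∨ n ≤ (b : ℕ) + r)) :
    (fr.P * (M - 1) * fr.Ps : Matrix (Fin n) (Fin n) F) a b = 0 := by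
  rw [mul_entries hk hnk fr hP]
  have h1 : midIdx n r k hk b = ⟨r, by omega⟩ := Fin.ext (midIdx_eq_r_of_mid hk b h)
  have h2 : (M - 1) (midIdx n r k hk a) (midIdx n r k hk b) = 0 := by
    rw [h1, Matrix.sub_apply, hMc, Matrix.one_apply, sub_self]
  rw [h2, mul_zero, zero_mul]

include hnk hP in
/-- **L4** (generic frame version; only the triviality of `C` on the outer indices is used) -/
theorem emb_comm_mid_gen (M : Matrix (Fin k) (Fin k) F)
    (hMc : ∀ i, M i ⟨r, by omega⟩ = if i = ⟨r, by omega⟩ then 1 else 0)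
    (hMr : ∀ j, M ⟨r, by omega⟩ j = if j = ⟨r, by omega⟩ then 1 else 0)
    (C : Matrix (Fin n) (Fin n) F) (hC2 : ∀ i, C i i = 1)
    (hC3 : ∀ i j : Fin n, ((i : ℕ) < r ∨ n ≤ (i : ℕ) + r) → i ≠ j → C i j = 0 ∧ C j i = 0) :
    fr.emb M * C = C * fr.emb M := by
  obtain ⟨E, hE⟩ : ∃ E : Matrix (Fin n) (Fin n) F, E = fr.P * (M - 1) * fr.Ps := ⟨_, rfl⟩
  have hErow : ∀ a b : Fin n, ¬ ((a : ℕ) < r ∨ n ≤ (a : ℕ) + r) → E a b = 0 := by
    intro a b h
    rw [hE]
    exact mul_entries_zero_row hk hnk fr hP M hMr a b h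
  have hEcol : ∀ a b : Fin n, ¬ ((b : ℕ) < r ∨ n ≤ (b : ℕ) + r) → E a b = 0 := by
    intro a b h
    rw [hE]
    exact mul_entries_zero_col hk hnk fr hP M hMc a b h
  have h1 : E * C = E := by
    ext a b
    rw [Matrix.mul_apply, Finset.sum_eq_single b]
    · rw [hC2, mul_one]
    · intro c _ hcb
      by_cases hc : (c : ℕ) < r ∨ n ≤ (c : ℕ) + r
      · rw [(hC3 c b hc hcb).1, mul_zero]
      · rw [hEcol a c hc, zero_mul]
    · intro h
      exact absurd (Finset.mem_univ _) h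
  have h2 : C * E = E := by
    ext a b
    rw [Matrix.mul_apply, Finset.sum_eq_single a]
    · rw [hC2, one_mul]
    · intro c _ hca
      by_cases hc : (c : ℕ) < r ∨ n ≤ (c : ℕ) + r
      · rw [(hC3 c a hc hca).2, zero_mul]
      · rw [hErow c b hc, mul_zero]
    · intro h
      exact absurd (Finset.mem_univ _) h
  unfold SubFrame.emb
  rw [← hE, Matrix.add_mul, Matrix.mul_add, Matrix.one_mul, Matrix.mul_one, h1, h2]

end

/-- **L4**: an embedded matrix of the middle frame with trivial `r`-th row and column commutes with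
every middle matrix `C` (the hypotheses `hC1`, `hC4`, `hCu` are not needed; they are kept so that
the lemma can be called with the same list of facts as `regular_mid`). -/
theorem emb_comm_mid {σ : F →+* F} {ω : F} {n r k : ℕ} (hω : ω + σ ω = 1) (hk : k = 2 * r + 1)
    (hnk : k < n) (M : Matrix (Fin k) (Fin k) F)
    (hMc : ∀ i, M i ⟨r, by omega⟩ = if i = ⟨r, by omega⟩ then 1 else 0)
    (hMr : ∀ j, M ⟨r, by omega⟩ j = if j = ⟨r, by omega⟩ then 1 else 0)
    (C : Matrix (Fin n) (Fin n) F)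
    (_hC1 : ∀ i j : Fin n, j < i → C i j = 0) (hC2 : ∀ i, C i i = 1)
    (hC3 : ∀ i j : Fin n, ((i : ℕ) < r ∨ n ≤ (i : ℕ) + r) → i ≠ j → C i j = 0 ∧ C j i = 0)
    (_hC4 : ∀ i j : Fin n, r ≤ (i : ℕ) → (j : ℕ) = (i : ℕ) + 1 → (j : ℕ) + r < n → C i j ≠ 0)
    (_hCu : dagn σ C * C = 1) :
    (midFrame (σ := σ) hω hk hnk).emb M * C = C * (midFrame (σ := σ) hω hk hnk).emb M :=
  emb_comm_mid_gen hk hnk (midFrame (σ := σ) hω hk hnk) (midEntries_midP ω n r k) M hMc hMr C
    hC2 hC3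

/-- **L4'**: the short form, with only the hypotheses that are used -/
theorem emb_comm_mid' {σ : F →+* F} {ω : F} {n r k : ℕ} (hω : ω + σ ω = 1) (hk : k = 2 * r + 1)
    (hnk : k < n) (M : Matrix (Fin k) (Fin k) F)
    (hMc : ∀ i, M i ⟨r, by omega⟩ = if i = ⟨r, by omega⟩ then 1 else 0)
    (hMr : ∀ j, M ⟨r, by omega⟩ j = if j = ⟨r, by omega⟩ then 1 else 0)
    (C : Matrix (Fin n) (Fin n) F) (hC2 : ∀ i, C i i = 1)
    (hC3 : ∀ i j : Fin n, ((i : ℕ) < r ∨ n ≤ (i : ℕ) + r) → i ≠ j → C i j = 0 ∧ C j i = 0) :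
    (midFrame (σ := σ) hω hk hnk).emb M * C = C * (midFrame (σ := σ) hω hk hnk).emb M :=
  emb_comm_mid_gen hk hnk (midFrame (σ := σ) hω hk hnk) (midEntries_midP ω n r k) M hMc hMr C
    hC2 hC3

end Cfsg.Agent.Lib.H18.SunTr
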