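import Mathlib
import Cfsg.Agent.Lib.H8.SUN1
import Cfsg.Agent.Lib.H11.UnitaryGen6

set_option autoImplicit false

/-!
# Transport between `SUJn σ n` (antidiagonal form, helper8) and `Cfsg.SU n F q` along a polar frame

`n`-dimensional port of helper8's `Lib/H8/SU3D.lean`, `SU3E.lean` (helper18, for S2282).
-/

namespace Cfsg.Agent.Lib.H18.SunTr

open Matrix Cfsg.Agent.Lib.H8.SUN

variable {F : Type*} [Field F]

/-- a polar frame: `P^* P = J` -/
structure FrameN (σ : F →+* F) (n : ℕ) where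
  P : Matrix (Fin n) (Fin n) F
  hP : cstn σ P * P = Jn n F

namespace FrameN

variable {σ : F →+* F} {n : ℕ} (fr : FrameN σ n)

/-- the inverse of the frame matrix -/
def P' : Matrix (Fin n) (Fin n) F := Jn n F * cstn σ fr.P

theorem P'_mul_P : fr.P' * fr.P = 1 := by
  unfold P'
  rw [Matrix.mul_assoc, fr.hP, Jn_mul_Jn]

theorem P_mul_P' : fr.P * fr.P' = 1 := mul_eq_one_comm.mp fr.P'_mul_P

theorem cstn_P' (hσ : ∀ x, σ (σ x) = x) : cstn σ fr.P' = fr.P * Jn n F := by
  unfold P'
  rw [cstn_mul, cstn_cstn σ hσ, cstn_Jn]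

/-- an isometry of the antidiagonal form gives an isometry of the standard form -/
theorem cstn_conj (hσ : ∀ x, σ (σ x) = x) (M : Matrix (Fin n) (Fin n) F)
    (hM : dagn σ M * M = 1) :
    cstn σ (fr.P * M * fr.P') * (fr.P * M * fr.P') = 1 := by
  unfold dagn at hM
  have h1 : cstn σ M * Jn n F * M = Jn n F := by
    calc cstn σ M * Jn n F * M = Jn n F * (Jn n F * cstn σ M * Jn n F * M) := by
          simp only [← Matrix.mul_assoc, Jn_mul_Jn, Matrix.one_mul]
      _ = Jn n F := by rw [hM, Matrix.mul_one]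
  calc cstn σ (fr.P * M * fr.P') * (fr.P * M * fr.P')
      = fr.P * Jn n F * (cstn σ M * (cstn σ fr.P * fr.P) * M) * fr.P' := by
        rw [cstn_mul, cstn_mul, fr.cstn_P' hσ]
        simp only [Matrix.mul_assoc]
    _ = fr.P * (Jn n F * Jn n F) * fr.P' := by
        rw [fr.hP, h1]; simp only [Matrix.mul_assoc]
    _ = 1 := by rw [Jn_mul_Jn, Matrix.mul_one, fr.P_mul_P']

/-- an isometry of the standard form gives an isometry of the antidiagonal form -/
theorem dagn_conj (hσ : ∀ x, σ (σ x) = x) (A : Matrix (Fin n) (Fin n) F)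
    (hA : cstn σ A * A = 1) :
    dagn σ (fr.P' * A * fr.P) * (fr.P' * A * fr.P) = 1 := by
  unfold dagn
  rw [cstn_mul, cstn_mul, fr.cstn_P' hσ]
  calc Jn n F * (cstn σ fr.P * (cstn σ A * (fr.P * Jn n F))) * Jn n F * (fr.P' * A * fr.P)
      = Jn n F * cstn σ fr.P * cstn σ A * (fr.P * ((Jn n F * Jn n F) * fr.P')) * A * fr.P := by
        simp only [Matrix.mul_assoc]
    _ = Jn n F * cstn σ fr.P * (cstn σ A * A) * fr.P := by
        rw [Jn_mul_Jn, Matrix.one_mul, fr.P_mul_P', Matrix.mul_one]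
        simp only [Matrix.mul_assoc]
    _ = 1 := by
        rw [hA, Matrix.mul_one, Matrix.mul_assoc, fr.hP, Jn_mul_Jn]

theorem det_conj (M : Matrix (Fin n) (Fin n) F) (hM : M.det = 1) :
    (fr.P * M * fr.P').det = 1 := by
  have h := congrArg Matrix.det fr.P_mul_P'
  rw [Matrix.det_mul, Matrix.det_one] at h
  rw [Matrix.det_mul, Matrix.det_mul, hM, mul_one, h]

theorem det_conj' (M : Matrix (Fin n) (Fin n) F) (hM : M.det = 1) :
    (fr.P' * M * fr.P).det = 1 := by
  have h := congrArg Matrix.det fr.P'_mul_P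
  rw [Matrix.det_mul, Matrix.det_one] at h
  rw [Matrix.det_mul, Matrix.det_mul, hM, mul_one, h]

theorem conj_pow (N : Matrix (Fin n) (Fin n) F) (m : ℕ) :
    (fr.P * N * fr.P') ^ m = fr.P * N ^ m * fr.P' := by
  induction m with
  | zero => rw [pow_zero, pow_zero, Matrix.mul_one, fr.P_mul_P']
  | succ m ih =>
    rw [pow_succ, ih, pow_succ]
    calc fr.P * N ^ m * fr.P' * (fr.P * N * fr.P')
        = fr.P * N ^ m * (fr.P' * fr.P) * N * fr.P' := by simp only [Matrix.mul_assoc]
      _ = fr.P * (N ^ m * N) * fr.P' := by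
        rw [fr.P'_mul_P, Matrix.mul_one]; simp only [Matrix.mul_assoc]

theorem conj_eq_zero_iff (N : Matrix (Fin n) (Fin n) F) :
    fr.P * N * fr.P' = 0 ↔ N = 0 := by
  constructor
  · intro h0
    calc N = (fr.P' * fr.P) * N * (fr.P' * fr.P) := by
          rw [fr.P'_mul_P, Matrix.one_mul, Matrix.mul_one]
      _ = fr.P' * (fr.P * N * fr.P') * fr.P := by simp only [Matrix.mul_assoc]
      _ = 0 := by rw [h0, Matrix.mul_zero, Matrix.zero_mul]
  · rintro rfl
    rw [Matrix.mul_zero, Matrix.zero_mul]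

end FrameN

/-! ### the standard Hermitian form -/

section std

variable {q : ℕ} (σ : F →+* F) (hσq : ∀ x, σ x = x ^ q) {n : ℕ}

include hσq in
theorem hermForm_eq (u v : Fin n → F) : Cfsg.hermForm n F q u v = u ⬝ᵥ (σ ∘ v) := by
  unfold Cfsg.hermForm dotProduct
  simp [hσq]

include hσq in
/-- matrix criterion for preserving the standard form -/
theorem preserves_of_cstn (A : Matrix (Fin n) (Fin n) F) (hA : cstn σ A * A = 1)
    (u v : Fin n → F) :
    Cfsg.hermForm n F q (A *ᵥ u) (A *ᵥ v) = Cfsg.hermForm n F q u v := by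
  rw [hermForm_eq σ hσq, hermForm_eq σ hσq]
  have h1 : σ ∘ (A *ᵥ v) = A.map σ *ᵥ (σ ∘ v) := by
    ext i
    exact RingHom.map_mulVec σ A v i
  have h2 : Aᵀ * A.map σ = 1 := by
    have := congrArg Matrix.transpose hA
    rw [Matrix.transpose_mul, Matrix.transpose_one] at this
    rw [← this]
    unfold cstn
    rw [Matrix.transpose_transpose]
  rw [h1, ← Matrix.vecMul_transpose, ← Matrix.dotProduct_mulVec, Matrix.mulVec_mulVec, h2,
    Matrix.one_mulVec]

include hσq in
theorem cstn_of_preserves (hq : q ≠ 0) (A : Matrix (Fin n) (Fin n) F)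
    (hA : ∀ u v : Fin n → F, Cfsg.hermForm n F q (A *ᵥ u) (A *ᵥ v) = Cfsg.hermForm n F q u v) :
    cstn σ A * A = 1 := by
  ext i j
  have h1 := hA (Pi.single j 1) (Pi.single i 1)
  rw [Matrix.mulVec_single_one, Matrix.mulVec_single_one] at h1
  rw [Matrix.mul_apply, Matrix.one_apply]
  have h2 : Cfsg.hermForm n F q (Pi.single j 1 : Fin n → F) (Pi.single i 1) =
      if i = j then 1 else 0 := by
    unfold Cfsg.hermForm
    rw [Finset.sum_eq_single j]
    · by_cases h : i = j
      · subst h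
        simp
      · have h' : ¬ j = i := fun h' => h h'.symm
        simp [h, h', hq]
    · intro b _ hb
      simp [hb]
    · simp
  rw [← h2, ← h1]
  unfold Cfsg.hermForm
  apply Finset.sum_congr rfl
  intro k _
  rw [cstn_apply, hσq]
  simp [mul_comm]

end std

/-! ### the isomorphism -/

section iso

variable {q : ℕ} (σ : F →+* F) (hσ : ∀ x, σ (σ x) = x) (hσq : ∀ x, σ x = x ^ q) {n : ℕ}
  (fr : FrameN σ n)

/-- the matrix of an element of `Cfsg.SU n F q` -/
def smatn (A : Cfsg.SU n F q) : Matrix (Fin n) (Fin n) F :=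
  ((A : SpecialLinearGroup (Fin n) F) : Matrix (Fin n) (Fin n) F)

theorem smatn_injective : Function.Injective (smatn (F := F) (q := q) (n := n)) := by
  intro A B h
  apply Subtype.ext
  apply Subtype.ext
  exact h

/-- the isomorphism, as a homomorphism -/
def PsiN : SUJn σ n →* Cfsg.SU n F q where
  toFun k := ⟨⟨fr.P * matn k * fr.P', fr.det_conj _ (det_matn k)⟩,
    fun u v => preserves_of_cstn σ hσq _ (fr.cstn_conj hσ _ (dagn_matn_mul k)) u v⟩
  map_one' := by
    apply smatn_injective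
    show fr.P * matn (1 : SUJn σ n) * fr.P' = 1
    rw [matn_one, Matrix.mul_one, fr.P_mul_P']
  map_mul' := by
    intro k l
    apply smatn_injective
    show fr.P * matn (k * l) * fr.P' = (fr.P * matn k * fr.P') * (fr.P * matn l * fr.P')
    rw [matn_mul]
    calc fr.P * (matn k * matn l) * fr.P' = fr.P * matn k * 1 * matn l * fr.P' := by
          simp only [Matrix.mul_assoc, Matrix.one_mul]
      _ = fr.P * matn k * fr.P' * (fr.P * matn l * fr.P') := by
          rw [← fr.P'_mul_P]; simp only [Matrix.mul_assoc]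

theorem smatn_PsiN (k : SUJn σ n) : smatn (PsiN σ hσ hσq fr k) = fr.P * matn k * fr.P' := rfl

include hσ hσq in
theorem PsiN_surjective (hq : q ≠ 0) : Function.Surjective (PsiN σ hσ hσq fr) := by
  intro A
  have hA : cstn σ (smatn A) * smatn A = 1 := cstn_of_preserves σ hσq hq _ (fun u v => A.2 u v)
  have hdet : (smatn A).det = 1 := (A : SpecialLinearGroup (Fin n) F).2
  refine ⟨mkJn σ (fr.P' * smatn A * fr.P) (fr.det_conj' _ hdet) (fr.dagn_conj hσ _ hA), ?_⟩
  apply smatn_injective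
  rw [smatn_PsiN, matn_mkJn]
  calc fr.P * (fr.P' * smatn A * fr.P) * fr.P' = (fr.P * fr.P') * smatn A * (fr.P * fr.P') := by
        simp only [Matrix.mul_assoc]
    _ = smatn A := by rw [fr.P_mul_P', Matrix.one_mul, Matrix.mul_one]

include hσ in
theorem matn_of_PsiN (k : SUJn σ n) : matn k = fr.P' * smatn (PsiN σ hσ hσq fr k) * fr.P := by
  rw [smatn_PsiN]
  calc matn k = (fr.P' * fr.P) * matn k * (fr.P' * fr.P) := by
        rw [fr.P'_mul_P, Matrix.one_mul, Matrix.mul_one]
    _ = fr.P' * (fr.P * matn k * fr.P') * fr.P := by simp only [Matrix.mul_assoc]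

theorem PsiN_injective : Function.Injective (PsiN σ hσ hσq fr) := by
  intro k l h
  apply matn_injective
  rw [matn_of_PsiN σ hσ hσq fr k, matn_of_PsiN σ hσ hσq fr l, h]

theorem dualn_vecMul_Jn (v : Fin n → F) : dualn σ v ᵥ* Jn n F = σ ∘ v := by
  ext j
  rw [Matrix.vecMul, dotProduct, Finset.sum_eq_single (Fin.rev j)]
  · simp [Jn_apply, dualn]
  · intro b _ hb
    simp [Jn_apply, hb]
  · simp

include hσ in
theorem dualn_P' (v : Fin n → F) : dualn σ (fr.P' *ᵥ v) = (σ ∘ v) ᵥ* fr.P := by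
  have h1 : dagn σ fr.P' = Jn n F * fr.P := by
    unfold dagn
    rw [fr.cstn_P' hσ, Matrix.mul_assoc, Matrix.mul_assoc, Jn_mul_Jn, Matrix.mul_one]
  rw [dualn_mulVec, h1, ← Matrix.vecMul_vecMul, dualn_vecMul_Jn]

include hσ hσq in
/-- transvections correspond -/
theorem conj_unitaryTransvection (v : Fin n → F) (c : F) :
    fr.P' * Cfsg.unitaryTransvection n q v c * fr.P = tJn σ (fr.P' *ᵥ v) c := by
  unfold Cfsg.unitaryTransvection tJn th
  have h1 : (fun j => v j ^ q) = σ ∘ v := by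
    ext j; simp [hσq]
  rw [h1, Matrix.mul_add, Matrix.add_mul, Matrix.mul_one, fr.P'_mul_P, Matrix.mul_smul,
    Matrix.smul_mul, Matrix.mul_vecMulVec, Matrix.vecMulVec_mul, dualn_P' σ hσ fr]

include hσ hσq in
theorem hJn_P' (v : Fin n → F) :
    hJn σ (fr.P' *ᵥ v) (fr.P' *ᵥ v) = Cfsg.hermForm n F q v v := by
  rw [hJn_eq_dot, dualn_P' σ hσ fr, hermForm_eq σ hσq, dotProduct_comm,
    ← Matrix.dotProduct_mulVec, Matrix.mulVec_mulVec, fr.P_mul_P', Matrix.one_mulVec,
    dotProduct_comm]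

/-- regular unipotent elements correspond -/
theorem regular_PsiN (k : SUJn σ n) (m : ℕ)
    (hk : IsNilpotent (matn k - 1) ∧ (matn k - 1) ^ m ≠ 0) :
    IsNilpotent (smatn (PsiN σ hσ hσq fr k) - 1) ∧ (smatn (PsiN σ hσ hσq fr k) - 1) ^ m ≠ 0 := by
  have hN1 : smatn (PsiN σ hσ hσq fr k) - 1 = fr.P * (matn k - 1) * fr.P' := by
    rw [smatn_PsiN, Matrix.mul_sub, Matrix.sub_mul, Matrix.mul_one, fr.P_mul_P']
  rw [hN1]
  obtain ⟨⟨r, hr⟩, h2⟩ := hk
  constructor
  · refine ⟨r, ?_⟩
    rw [fr.conj_pow, hr, Matrix.mul_zero, Matrix.zero_mul]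
  · rw [fr.conj_pow]
    intro h0
    exact h2 ((fr.conj_eq_zero_iff _).mp h0)

end iso

end Cfsg.Agent.Lib.H18.SunTr
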