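import Mathlib
import Cfsg.Agent.Lib.H18.SunTr1
import Cfsg.Agent.Lib.H2.Unitary1

set_option autoImplicit false

/-!
# Existence of a polar frame in dimension `n` and the transport theorems for S2282 (helper18)
-/

namespace Cfsg.Agent.Lib.H18.SunTr

open Matrix Cfsg.Agent.Lib.H8.SUN

variable {F : Type*} [Field F]

/-- the matrix with `a` on the diagonal and `b` on the antidiagonal (added) -/
def frameMat {n : ℕ} (a b : Fin n → F) : Matrix (Fin n) (Fin n) F :=
  Matrix.diagonal a + Jn n F * Matrix.diagonal b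

theorem cstn_diagonal (σ : F →+* F) {n : ℕ} (a : Fin n → F) :
    cstn σ (Matrix.diagonal a) = Matrix.diagonal (fun i => σ (a i)) := by
  ext i j
  rw [cstn_apply, Matrix.diagonal_apply, Matrix.diagonal_apply]
  by_cases h : i = j
  · subst h; simp
  · have h' : ¬ j = i := fun h' => h h'.symm
    simp [h, h']

theorem frameMat_gram (σ : F →+* F) {n : ℕ} (a b : Fin n → F) (i j : Fin n) :
    (cstn σ (frameMat a b) * frameMat a b) i j =
      (if i = j then σ (a i) * a i + σ (b i) * b i else 0) +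
        (if i = Fin.rev j then σ (a i) * b j + σ (b i) * a j else 0) := by
  unfold frameMat
  have hJJ : ∀ D E : Matrix (Fin n) (Fin n) F, (D * Jn n F) * (Jn n F * E) = D * E := by
    intro D E
    rw [Matrix.mul_assoc, ← Matrix.mul_assoc (Jn n F), Jn_mul_Jn, Matrix.one_mul]
  rw [cstn_add, cstn_mul, cstn_Jn, cstn_diagonal, cstn_diagonal, Matrix.add_mul, Matrix.mul_add,
    Matrix.mul_add, Matrix.diagonal_mul_diagonal, hJJ, Matrix.diagonal_mul_diagonal]
  simp only [Matrix.add_apply, Matrix.diagonal_apply, Matrix.diagonal_mul, Matrix.mul_diagonal,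
    Jn_apply]
  split_ifs <;> ring

/-- criterion for `frameMat a b` to be a polar frame -/
theorem frameMat_frame (σ : F →+* F) {n : ℕ} (a b : Fin n → F)
    (H1 : ∀ i : Fin n, i ≠ Fin.rev i → σ (a i) * a i + σ (b i) * b i = 0)
    (H2 : ∀ i : Fin n, i ≠ Fin.rev i →
      σ (a i) * b (Fin.rev i) + σ (b i) * a (Fin.rev i) = 1)
    (H3 : ∀ i : Fin n, i = Fin.rev i →
      σ (a i) * a i + σ (b i) * b i + (σ (a i) * b i + σ (b i) * a i) = 1) :
    cstn σ (frameMat a b) * frameMat a b = Jn n F := by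
  ext i j
  rw [frameMat_gram, Jn_apply]
  by_cases h1 : i = j
  · subst h1
    by_cases h2 : i = Fin.rev i
    · rw [if_pos rfl, if_pos h2, if_pos h2]
      exact H3 i h2
    · rw [if_pos rfl, if_neg h2, if_neg h2, add_zero]
      exact H1 i h2
  · by_cases h2 : i = Fin.rev j
    · rw [if_neg h1, if_pos h2, if_pos h2, zero_add]
      have hj : j = Fin.rev i := by rw [h2, Fin.rev_rev]
      have h3 : i ≠ Fin.rev i := fun h => h1 (by rw [hj]; exact h)
      rw [hj]
      exact H2 i h3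
    · rw [if_neg h1, if_neg h2, if_neg h2, add_zero]

/-- a polar frame from `ζ` of norm `-1` and a norm one element `ε ≠ 1` -/
theorem exists_frame_of (σ : F →+* F) (ζ ε : F) (hζ : ζ * σ ζ = -1) (hε : ε * σ ε = 1)
    (hε1 : ε ≠ 1) (n : ℕ) :
    ∃ P : Matrix (Fin n) (Fin n) F, cstn σ P * P = Jn n F := by
  have h1 : 1 - ε ≠ 0 := sub_ne_zero.mpr (Ne.symm hε1)
  obtain ⟨ω, hω⟩ : ∃ ω : F, ω * (1 - ε) = 1 := ⟨(1 - ε)⁻¹, inv_mul_cancel₀ h1⟩
  have hσω : σ ω * (1 - σ ε) = 1 := by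
    have := congrArg σ hω
    rwa [map_mul, map_sub, map_one] at this
  refine ⟨frameMat (fun i => if i < Fin.rev i then 1 else if i = Fin.rev i then 1 else ω * ζ * ε)
    (fun i => if i < Fin.rev i then ζ else if i = Fin.rev i then 0 else ω), ?_⟩
  apply frameMat_frame
  · intro i hi
    rcases lt_trichotomy i (Fin.rev i) with h | h | h
    · simp only [if_pos h, map_one]
      linear_combination hζ
    · exact absurd h hi
    · have h' : ¬ i < Fin.rev i := not_lt.mpr h.le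
      simp only [if_neg h', if_neg hi, map_mul]
      linear_combination σ ω * ω * (ε * σ ε) * hζ - σ ω * ω * hε
  · intro i hi
    rcases lt_trichotomy i (Fin.rev i) with h | h | h
    · have h2 : ¬ Fin.rev i < Fin.rev (Fin.rev i) := by
        rw [Fin.rev_rev]; exact not_lt.mpr h.le
      have h3 : ¬ Fin.rev i = Fin.rev (Fin.rev i) := by
        rw [Fin.rev_rev]; exact fun h' => hi h'.symm
      simp only [if_pos h, if_neg h2, if_neg h3, map_one]
      linear_combination hω + ω * ε * hζ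
    · exact absurd h hi
    · have h' : ¬ i < Fin.rev i := not_lt.mpr h.le
      have h2 : Fin.rev i < Fin.rev (Fin.rev i) := by
        rw [Fin.rev_rev]; exact h
      simp only [if_neg h', if_neg hi, if_pos h2, map_mul]
      linear_combination hσω + σ ω * σ ε * hζ
  · intro i hi
    have h' : ¬ i < Fin.rev i := by rw [← hi]; exact lt_irrefl i
    simp only [if_neg h', if_pos hi, map_one, map_zero]
    ring

section fin

variable [Fintype F] {q : ℕ}

/-- **(a)** a polar frame exists in every dimension -/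
theorem exists_frame_n (hF : Fintype.card F = q ^ 2) (σ : F →+* F) (hσq : ∀ x, σ x = x ^ q)
    (n : ℕ) : ∃ P : Matrix (Fin n) (Fin n) F, cstn σ P * P = Jn n F := by
  obtain ⟨l, hl, hl1⟩ := Cfsg.Agent.Lib.H2.Unitary.exists_norm_one_ne_one hF
  have hε : (l : F) * σ (l : F) = 1 := by rw [hσq]; exact hl
  have hm1 : ((-1 : F)) ^ q = -1 := by rw [← hσq, map_neg, map_one]
  have hcard := Cfsg.Agent.Lib.H2.Herm.card_N_fiber hF (-1 : F) (by simp) hm1
  have hne : Nonempty {x : F // Cfsg.Agent.Lib.H2.Herm.N q x = -1} := by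
    rw [← Finite.card_pos_iff, hcard]; omega
  obtain ⟨ζ, hζ⟩ := hne
  have hζ' : ζ * σ ζ = -1 := by rw [hσq]; exact hζ
  exact exists_frame_of σ ζ l hζ' hε hl1 n

/-- a polar frame, as a structure -/
theorem exists_frameN (hF : Fintype.card F = q ^ 2) (σ : F →+* F) (hσq : ∀ x, σ x = x ^ q)
    (n : ℕ) : Nonempty (FrameN σ n) := by
  obtain ⟨P, hP⟩ := exists_frame_n hF σ hσq n
  exact ⟨⟨P, hP⟩⟩

omit [Fintype F] in
/-- an element of `SUJn` whose matrix is a transvection has `c + σ c = 0`, or is trivial -/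
theorem tJn_normalize (σ : F →+* F) (hσ : ∀ x, σ (σ x) = x) {n : ℕ} (k : SUJn σ n)
    (v : Fin n → F) (c : F) (hv : hJn σ v v = 0) (hk : matn k = tJn σ v c) :
    ∃ c' : F, c' + σ c' = 0 ∧ matn k = tJn σ v c' := by
  by_cases hv0 : v = 0
  · refine ⟨0, by simp, ?_⟩
    rw [hk, hv0]
    unfold tJn
    rw [th_zero_left, smul_zero, smul_zero]
  · refine ⟨c, ?_, hk⟩
    have h1 := dagn_matn_mul k
    rw [hk, dagn_tJn σ hσ, tJn_mul_tJn σ hv] at h1
    unfold tJn at h1
    have h2 : (σ c + c) • th σ v v = 0 := by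
      have := congrArg (fun M => M - 1) h1
      simpa using this
    obtain ⟨i, hi⟩ : ∃ i, v i ≠ 0 := by
      by_contra hcon
      push Not at hcon
      exact hv0 (funext hcon)
    have h3 := congrFun (congrFun h2 i) (Fin.rev i)
    rw [Matrix.smul_apply, th_apply, Fin.rev_rev, Matrix.zero_apply, smul_eq_mul] at h3
    have hσi : σ (v i) ≠ 0 := fun h0 => hi ((map_eq_zero σ).mp h0)
    rcases mul_eq_zero.mp h3 with h4 | h4
    · rw [add_comm]; exact h4
    · exact absurd h4 (mul_ne_zero hi hσi)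

/-- **(c)** a subgroup of `SUJn` containing all the unitary transvections is everything -/
theorem SUJn_eq_top_of_tJn (hF : Fintype.card F = q ^ 2) (n : ℕ) (hn : 3 ≤ n)
    (h32 : ¬ (n = 3 ∧ q = 2)) (σ : F →+* F) (hσq : ∀ x, σ x = x ^ q) (hσ : ∀ x, σ (σ x) = x)
    (K : Subgroup (SUJn σ n))
    (hK : ∀ (k : SUJn σ n) (v : Fin n → F) (c : F), hJn σ v v = 0 → c + σ c = 0 →
      matn k = tJn σ v c → k ∈ K) : K = ⊤ := by
  have hq0 : q ≠ 0 := by
    rintro rfl
    simp at hF
  obtain ⟨fr⟩ := exists_frameN hF σ hσq n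
  have h1 : K.map (PsiN σ hσ hσq fr) = ⊤ := by
    rw [eq_top_iff, ← Cfsg.Agent.Lib.H11.UGen.su_closure_eq_top hF n hn h32, Subgroup.closure_le]
    rintro A ⟨v, c, hv, hA⟩
    obtain ⟨k, rfl⟩ := PsiN_surjective σ hσ hσq fr hq0 A
    refine Subgroup.mem_map_of_mem _ ?_
    have hv' : hJn σ (fr.P' *ᵥ v) (fr.P' *ᵥ v) = 0 := by rw [hJn_P' σ hσ hσq fr, hv]
    have hk : matn k = tJn σ (fr.P' *ᵥ v) c := by
      rw [matn_of_PsiN σ hσ hσq fr k]
      have : smatn (PsiN σ hσ hσq fr k) = Cfsg.unitaryTransvection n q v c := hA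
      rw [this, conj_unitaryTransvection σ hσ hσq fr]
    obtain ⟨c', hc', hk'⟩ := tJn_normalize σ hσ k _ c hv' hk
    exact hK k _ c' hv' hc' hk'
  rw [eq_top_iff]
  intro k _
  have h2 : PsiN σ hσ hσq fr k ∈ K.map (PsiN σ hσ hσq fr) := by rw [h1]; trivial
  obtain ⟨k', hk', he⟩ := h2
  rw [← PsiN_injective σ hσ hσq fr he]
  exact hk'

/-- **(b)** transport of the three-conjugates generation statement to `Cfsg.SU n F q` -/
theorem s2282_transport (hF : Fintype.card F = q ^ 2) (n : ℕ) (hn : 3 ≤ n)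
    (h32 : ¬ (n = 3 ∧ q = 2)) (σ : F →+* F) (hσq : ∀ x, σ x = x ^ q) (hσ : ∀ x, σ (σ x) = x)
    (x g h : SUJn σ n)
    (hreg : IsNilpotent (matn x - 1) ∧ (matn x - 1) ^ (n - 1) ≠ 0)
    (hgen : ∀ (k : SUJn σ n) (v : Fin n → F) (c : F), hJn σ v v = 0 → c + σ c = 0 →
      matn k = tJn σ v c →
        k ∈ Subgroup.closure ({x, g * x * g⁻¹, h * x * h⁻¹} : Set (SUJn σ n))) :
    ∃ u g h : ↥(Cfsg.SU n F q),
      (IsNilpotent (((u : Matrix.SpecialLinearGroup (Fin n) F) : Matrix (Fin n) (Fin n) F) - 1) ∧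
        (((u : Matrix.SpecialLinearGroup (Fin n) F) : Matrix (Fin n) (Fin n) F) - 1) ^ (n - 1)
          ≠ 0) ∧
      Subgroup.closure ({u, g * u * g⁻¹, h * u * h⁻¹} : Set ↥(Cfsg.SU n F q)) = ⊤ := by
  have hq0 : q ≠ 0 := by
    rintro rfl
    simp at hF
  obtain ⟨fr⟩ := exists_frameN hF σ hσq n
  have hK := SUJn_eq_top_of_tJn hF n hn h32 σ hσq hσ _ hgen
  refine ⟨PsiN σ hσ hσq fr x, PsiN σ hσ hσq fr g, PsiN σ hσ hσq fr h,
    regular_PsiN σ hσ hσq fr x (n - 1) hreg, ?_⟩
  have himg : Subgroup.closure ({PsiN σ hσ hσq fr x,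
      PsiN σ hσ hσq fr g * PsiN σ hσ hσq fr x * (PsiN σ hσ hσq fr g)⁻¹,
      PsiN σ hσ hσq fr h * PsiN σ hσ hσq fr x * (PsiN σ hσ hσq fr h)⁻¹} :
        Set (Cfsg.SU n F q)) =
      (Subgroup.closure ({x, g * x * g⁻¹, h * x * h⁻¹} : Set (SUJn σ n))).map
        (PsiN σ hσ hσq fr) := by
    rw [MonoidHom.map_closure, Set.image_insert_eq, Set.image_pair, map_mul, map_mul, map_inv,
      map_mul, map_mul, map_inv]
  rw [himg, hK, ← MonoidHom.range_eq_map, MonoidHom.range_eq_top]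
  exact PsiN_surjective σ hσ hσq fr hq0

end fin

end Cfsg.Agent.Lib.H18.SunTr
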