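import Mathlib
import Cfsg.Agent.Lib.H7.T27Defs
import Cfsg.Agent.Lib.H3.H108Hyp

/-!
# S3701 piece CE5 (helper18): the final sum, transferred to `V × V` through `lg3`
-/

set_option autoImplicit false
set_option maxRecDepth 100000

namespace Cfsg.Agent.Lib.H18.T27

open Cfsg Cfsg.Agent.Lib.H7.K4 Cfsg.Agent.Lib.H3.H108 Cfsg.Agent.Lib.H7.T27

/-- the integer identity on `V × V` -/
theorem final_sum_V : (∑ a : V, ∑ b : V, u0 a * v0 b * w0 (-(a + b))) = 36 := by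
  decide

/-- the element of `T` with logarithm `a` -/
def tau (a : V) : S333 := (c3 ^ a.1.val, c3 ^ a.2.1.val, c3 ^ a.2.2.val)

theorem lg_c3_pow : ∀ k : ZMod 3, lg (c3 ^ k.val) = k := by decide

theorem c3_pow_lg : ∀ a : S3, a ^ 3 = 1 → c3 ^ (lg a).val = a := by decide

theorem c3_pow_pow_three : ∀ k : ZMod 3, (c3 ^ k.val) ^ 3 = 1 := by decide

theorem c3_pow_mul : ∀ p : ZMod 3 × ZMod 3, c3 ^ p.1.val * c3 ^ p.2.val = c3 ^ (p.1 + p.2).val := by decide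

theorem c3_pow_inv : ∀ k : ZMod 3, (c3 ^ k.val)⁻¹ = c3 ^ (-k).val := by decide

theorem sign_c3_pow : ∀ k : ZMod 3, Equiv.Perm.sign (c3 ^ k.val) = 1 := by decide

theorem tau_mem (a : V) : tau a ∈ M3 := by
  rw [mem_M3, sgn3_apply]
  unfold tau
  simp only [sign_c3_pow, mul_one]

theorem lg3_tau (a : V) : lg3 (tau a) = a := by
  unfold lg3 tau
  simp only [lg_c3_pow]

theorem tau_pow_three (a : V) : tau a ^ 3 = 1 := by
  unfold tau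
  exact Prod.ext (c3_pow_pow_three _) (Prod.ext (c3_pow_pow_three _) (c3_pow_pow_three _))

theorem tau_lg3 {s : S333} (h : s ^ 3 = 1) : tau (lg3 s) = s := by
  have h1 : s.1 ^ 3 = 1 := congrArg Prod.fst h
  have h2 : s.2.1 ^ 3 = 1 := congrArg (fun x => x.2.1) h
  have h3 : s.2.2 ^ 3 = 1 := congrArg (fun x => x.2.2) h
  unfold tau lg3
  exact Prod.ext (c3_pow_lg _ h1) (Prod.ext (c3_pow_lg _ h2) (c3_pow_lg _ h3))

theorem tau_mul (a b : V) : tau a * tau b = tau (a + b) := by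
  unfold tau
  exact Prod.ext (c3_pow_mul (a.1, b.1)) (Prod.ext (c3_pow_mul (a.2.1, b.2.1)) (c3_pow_mul (a.2.2, b.2.2)))

theorem tau_inv (a : V) : (tau a)⁻¹ = tau (-a) := by
  unfold tau
  exact Prod.ext (c3_pow_inv a.1) (Prod.ext (c3_pow_inv a.2.1) (c3_pow_inv a.2.2))

/-- `tau` as a map into `M3` -/
def tauM (a : V) : ↥M3 := ⟨tau a, tau_mem a⟩

/-- a sum over the `T`-part of `M3` is a sum over `V` -/
theorem sum_T (F : ↥M3 → ℂ) :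
    (∑ s : ↥M3, if (s : S333) ^ 3 = 1 then F s else 0) = ∑ a : V, F (tauM a) := by
  classical
  rw [← Finset.sum_filter]
  refine Finset.sum_nbij' (fun s => lg3 (s : S333)) tauM ?_ ?_ ?_ ?_ ?_
  · intro s _
    exact Finset.mem_univ _
  · intro a _
    rw [Finset.mem_filter]
    exact ⟨Finset.mem_univ _, tau_pow_three a⟩
  · intro s hs
    rw [Finset.mem_filter] at hs
    exact Subtype.ext (tau_lg3 hs.2)
  · intro a _
    exact lg3_tau a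
  · intro s hs
    rw [Finset.mem_filter] at hs
    congr 1
    exact (Subtype.ext (tau_lg3 hs.2)).symm

/-- CE5. -/
theorem final_sum :
    (∑ s1 : ↥M3, ∑ s2 : ↥M3,
      (if (s1 : S333) ^ 3 = 1 then ((u0 (lg3 (s1 : S333)) : ℤ) : ℂ) else 0) *
      (if (s2 : S333) ^ 3 = 1 then ((v0 (lg3 (s2 : S333)) : ℤ) : ℂ) else 0) *
      (if ((s1 * s2)⁻¹ : S333) ^ 3 = 1 then ((w0 (lg3 ((s1 * s2)⁻¹ : S333)) : ℤ) : ℂ) else 0)) = 36 := by
  classical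
  -- the sum over `s1`
  have e1 : ∀ s1 : ↥M3, (∑ s2 : ↥M3,
      (if (s1 : S333) ^ 3 = 1 then ((u0 (lg3 (s1 : S333)) : ℤ) : ℂ) else 0) *
      (if (s2 : S333) ^ 3 = 1 then ((v0 (lg3 (s2 : S333)) : ℤ) : ℂ) else 0) *
      (if ((s1 * s2)⁻¹ : S333) ^ 3 = 1 then ((w0 (lg3 ((s1 * s2)⁻¹ : S333)) : ℤ) : ℂ) else 0)) =
      if (s1 : S333) ^ 3 = 1 then (∑ s2 : ↥M3,
        ((u0 (lg3 (s1 : S333)) : ℤ) : ℂ) *
        (if (s2 : S333) ^ 3 = 1 then ((v0 (lg3 (s2 : S333)) : ℤ) : ℂ) else 0) *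
        (if ((s1 * s2)⁻¹ : S333) ^ 3 = 1 then ((w0 (lg3 ((s1 * s2)⁻¹ : S333)) : ℤ) : ℂ) else 0)) else 0 := by
    intro s1
    split_ifs with h
    · rfl
    · apply Finset.sum_eq_zero
      intro s2 _
      rw [zero_mul, zero_mul]
  rw [Finset.sum_congr rfl (fun s1 _ => e1 s1)]
  rw [sum_T (fun s1 => ∑ s2 : ↥M3,
        ((u0 (lg3 (s1 : S333)) : ℤ) : ℂ) *
        (if (s2 : S333) ^ 3 = 1 then ((v0 (lg3 (s2 : S333)) : ℤ) : ℂ) else 0) *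
        (if ((s1 * s2)⁻¹ : S333) ^ 3 = 1 then ((w0 (lg3 ((s1 * s2)⁻¹ : S333)) : ℤ) : ℂ) else 0))]
  have e2 : ∀ a : V, (∑ s2 : ↥M3,
        ((u0 (lg3 ((tauM a : ↥M3) : S333)) : ℤ) : ℂ) *
        (if (s2 : S333) ^ 3 = 1 then ((v0 (lg3 (s2 : S333)) : ℤ) : ℂ) else 0) *
        (if (((tauM a : ↥M3) * s2)⁻¹ : S333) ^ 3 = 1 then
          ((w0 (lg3 (((tauM a : ↥M3) * s2)⁻¹ : S333)) : ℤ) : ℂ) else 0)) =
      ∑ b : V, ((u0 a * v0 b * w0 (-(a + b)) : ℤ) : ℂ) := by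
    intro a
    have e3 : ∀ s2 : ↥M3, ((u0 (lg3 ((tauM a : ↥M3) : S333)) : ℤ) : ℂ) *
        (if (s2 : S333) ^ 3 = 1 then ((v0 (lg3 (s2 : S333)) : ℤ) : ℂ) else 0) *
        (if (((tauM a : ↥M3) * s2)⁻¹ : S333) ^ 3 = 1 then
          ((w0 (lg3 (((tauM a : ↥M3) * s2)⁻¹ : S333)) : ℤ) : ℂ) else 0) =
        if (s2 : S333) ^ 3 = 1 then ((u0 (lg3 ((tauM a : ↥M3) : S333)) : ℤ) : ℂ) *
          ((v0 (lg3 (s2 : S333)) : ℤ) : ℂ) *
          (if (((tauM a : ↥M3) * s2)⁻¹ : S333) ^ 3 = 1 then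
            ((w0 (lg3 (((tauM a : ↥M3) * s2)⁻¹ : S333)) : ℤ) : ℂ) else 0) else 0 := by
      intro s2
      split_ifs <;> simp
    rw [Finset.sum_congr rfl (fun s2 _ => e3 s2)]
    rw [sum_T (fun s2 => ((u0 (lg3 ((tauM a : ↥M3) : S333)) : ℤ) : ℂ) *
          ((v0 (lg3 (s2 : S333)) : ℤ) : ℂ) *
          (if (((tauM a : ↥M3) * s2)⁻¹ : S333) ^ 3 = 1 then
            ((w0 (lg3 (((tauM a : ↥M3) * s2)⁻¹ : S333)) : ℤ) : ℂ) else 0))]
    refine Finset.sum_congr rfl fun b _ => ?_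
    have h1 : ((tauM a : ↥M3) : S333) = tau a := rfl
    have h2 : ((tauM b : ↥M3) : S333) = tau b := rfl
    have h3 : (((tauM a : ↥M3) : S333) * ((tauM b : ↥M3) : S333))⁻¹ = tau (-(a + b)) := by
      rw [h1, h2, tau_mul, tau_inv]
    rw [h3, if_pos (tau_pow_three _), h1, h2, lg3_tau, lg3_tau, lg3_tau]
    push_cast
    ring
  rw [Finset.sum_congr rfl (fun a _ => e2 a)]
  have := final_sum_V
  have h4 : ((∑ a : V, ∑ b : V, u0 a * v0 b * w0 (-(a + b)) : ℤ) : ℂ) = 36 := by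
    rw [this]; norm_num
  rw [← h4]
  push_cast
  rfl

end Cfsg.Agent.Lib.H18.T27
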