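import Mathlib
import Cfsg.Agent.Lib.H7.T27Defs
import Cfsg.Agent.Lib.H3.H108Hyp

/-!
# S3701 piece CE1 (helper18): port of `H18.K4.hK_of_hyp` to `Hyp3`
-/

set_option autoImplicit false

namespace Cfsg.Agent.Lib.H18.T27

open Cfsg Cfsg.Agent.Lib.H7.K4 Cfsg.Agent.Lib.H3.H108 Cfsg.Agent.Lib.H7.T27

/-- elements of order dividing 3 of `M3` commute -/
theorem m3_comm_of_pow_three (a b : ↥M3) (ha : a ^ 3 = 1) (hb : b ^ 3 = 1) : a * b = b * a := by
  have ha' : (a : S333) ^ 3 = 1 := by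
    have := congrArg Subtype.val ha
    simpa using this
  have hb' : (b : S333) ^ 3 = 1 := by
    have := congrArg Subtype.val hb
    simpa using this
  exact Subtype.ext (comm_S333 _ _ ha' hb')

/-- powers of conjugates -/
theorem inv_conj_pow {G : Type*} [Group G] (g a : G) (n : ℕ) :
    (g⁻¹ * a * g) ^ n = g⁻¹ * a ^ n * g := by
  have := conj_pow (a := g⁻¹) (b := a) (i := n)
  simpa using this

/-- an element of order 3 has fourth power `≠ 1` -/
theorem pow_four_ne_one_of_pow_three {G : Type*} [Group G] {a : G} (h3 : a ^ 3 = 1) (h1 : a ≠ 1) :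
    a ^ 4 ≠ 1 := by
  have : a ^ 4 = a := by rw [pow_succ, h3, one_mul]
  rw [this]; exact h1

/-- the centraliser of a 3-singular element of `N` lies in `N` -/
theorem mem_N_of_comm {G : Type*} [Group G] (h : Hyp3 G) {d : G} (hd : d ∈ h.N) (hd4 : d ^ 4 ≠ 1)
    {w : G} (hw : w * d = d * w) : w ∈ h.N := by
  apply h.ti w d hd hd4
  have : w * d * w⁻¹ = d := by rw [hw]; group
  rw [this]; exact hd

/-- two elements of order dividing 3 of `N` commute -/
theorem comm_of_mem_N {G : Type*} [Group G] (h : Hyp3 G) {a b : G} (ha : a ∈ h.N) (hb : b ∈ h.N)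
    (ha3 : a ^ 3 = 1) (hb3 : b ^ 3 = 1) : a * b = b * a := by
  have h1 : (h.e ⟨a, ha⟩) ^ 3 = 1 := by
    rw [← map_pow]
    have : (⟨a, ha⟩ : ↥h.N) ^ 3 = 1 := Subtype.ext (by simpa using ha3)
    rw [this, map_one]
  have h2 : (h.e ⟨b, hb⟩) ^ 3 = 1 := by
    rw [← map_pow]
    have : (⟨b, hb⟩ : ↥h.N) ^ 3 = 1 := Subtype.ext (by simpa using hb3)
    rw [this, map_one]
  have h3 := m3_comm_of_pow_three _ _ h1 h2
  rw [← map_mul, ← map_mul] at h3
  have h4 := h.e.injective h3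
  exact congrArg Subtype.val h4

/-- CE1. -/
theorem hK_of_hyp3 {G : Type*} [Group G] [Fintype G]
    (h : Hyp3 G) (c : G) (hc : c ∈ h.N) (hc3 : c ^ 3 = 1) (hc1 : c ≠ 1) (g : G) :
    ∀ α : G, α ≠ 1 → α ^ 3 = 1 → α * (g * c * g⁻¹) = (g * c * g⁻¹) * α →
      ∀ w : G, w * α = α * w → w ^ 3 = 1 → w * (g * c * g⁻¹) = (g * c * g⁻¹) * w := by
  intro α hα1 hα3 hαc w hwα hw3
  have hc4 : c ^ 4 ≠ 1 := pow_four_ne_one_of_pow_three hc3 hc1
  -- conjugate back by `g`
  set α' := g⁻¹ * α * g with hα'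
  set w' := g⁻¹ * w * g with hw'
  have hα'c : α' * c = c * α' := by
    have : α' * c = g⁻¹ * (α * (g * c * g⁻¹)) * g := by rw [hα']; group
    rw [this, hαc, hα']; group
  have hα'N : α' ∈ h.N := mem_N_of_comm h hc hc4 hα'c
  have hα'3 : α' ^ 3 = 1 := by
    have : α' ^ 3 = g⁻¹ * α ^ 3 * g := by rw [hα']; exact inv_conj_pow g α 3
    rw [this, hα3]; group
  have hα'1 : α' ≠ 1 := by
    intro h1
    apply hα1
    have : α = g * α' * g⁻¹ := by rw [hα']; group
    rw [this, h1]; group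
  have hα'4 : α' ^ 4 ≠ 1 := pow_four_ne_one_of_pow_three hα'3 hα'1
  have hw'α' : w' * α' = α' * w' := by
    have : w' * α' = g⁻¹ * (w * α) * g := by rw [hw', hα']; group
    rw [this, hwα, hw', hα']; group
  have hw'N : w' ∈ h.N := mem_N_of_comm h hα'N hα'4 hw'α'
  have hw'3 : w' ^ 3 = 1 := by
    have : w' ^ 3 = g⁻¹ * w ^ 3 * g := by rw [hw']; exact inv_conj_pow g w 3
    rw [this, hw3]; group
  have hcomm : w' * c = c * w' := comm_of_mem_N h hw'N hc hw'3 hc3
  have : w * (g * c * g⁻¹) = g * (w' * c) * g⁻¹ := by rw [hw']; group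
  rw [this, hcomm, hw']; group

end Cfsg.Agent.Lib.H18.T27
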