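import Mathlib
import Cfsg.Agent.Lib.H7.T27Defs
import Cfsg.Agent.Lib.H18.T27CE1

/-!
# S3701 piece CE2 (helper18): port of `H18.K4.isConj_of_isConj` to `Hyp3`
-/

set_option autoImplicit false

namespace Cfsg.Agent.Lib.H18.T27

open Cfsg Cfsg.Agent.Lib.H7.K4 Cfsg.Agent.Lib.H3.H108 Cfsg.Agent.Lib.H7.T27

/-- `el s` is 3-singular when `s` is -/
theorem el_pow_four_ne_one {G : Type*} [Group G] (h : Hyp3 G) {s : ↥M3} (hs : s ^ 4 ≠ 1) :
    (h.el s) ^ 4 ≠ 1 := by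
  rw [← h.el_pow, ← h.el_one]
  intro h1
  exact hs (h.el_injective h1)

/-- conjugation by an element of `N`, in coordinates -/
theorem conj_el {G : Type*} [Group G] (h : Hyp3 G) {g : G} (hg : g ∈ h.N) (s : ↥M3) :
    g * h.el s * g⁻¹ = h.el (h.e ⟨g, hg⟩ * s * (h.e ⟨g, hg⟩)⁻¹) := by
  rw [h.el_mul, h.el_mul, h.el_inv, h.el_e]

/-- a conjugation `g (el s) g⁻¹ = el s'` with `s` 3-singular comes from `N` -/
theorem exists_conj_of_conj_el {G : Type*} [Group G] (h : Hyp3 G) (s s' : ↥M3) (hs : s ^ 4 ≠ 1)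
    (g : G) (hg : g * h.el s * g⁻¹ = h.el s') : ∃ a : ↥M3, g = h.el a ∧ a * s * a⁻¹ = s' := by
  have hgN : g ∈ h.N := by
    apply h.ti g (h.el s) (h.el_mem s) (el_pow_four_ne_one h hs)
    rw [hg]; exact h.el_mem s'
  refine ⟨h.e ⟨g, hgN⟩, ?_, ?_⟩
  · rw [h.el_e]
  · apply h.el_injective
    rw [← conj_el h hgN s, hg]

/-- CE2. -/
theorem isConj_of_isConj3 {G : Type*} [Group G] [Fintype G] (h : Hyp3 G) (s s' : ↥M3)
    (hs : s ^ 4 ≠ 1) (hconj : IsConj (h.el s) (h.el s')) : IsConj s s' := by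
  rw [isConj_iff] at hconj ⊢
  obtain ⟨g, hg⟩ := hconj
  obtain ⟨a, -, ha⟩ := exists_conj_of_conj_el h s s' hs g hg
  exact ⟨a, ha⟩

end Cfsg.Agent.Lib.H18.T27
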