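import Mathlib
import Cfsg.Agent.Lib.H7.T27Defs
import Cfsg.Agent.Lib.H3.H108Hyp
import Cfsg.Agent.Lib.H18.T27CE3
import Cfsg.Agent.Lib.H23.ClassProduct
import Cfsg.Agent.Lib.H24.T27CE4

/-!
# S3701 piece CE (helper18), core: the weighted class equation, with CE4 (`rearrange`) and CE5
(`final_sum`) as explicit hypotheses.
-/

set_option autoImplicit false

namespace Cfsg.Agent.Lib.H18.T27

open Cfsg Cfsg.Agent.Lib.H7.K4 Cfsg.Agent.Lib.H3.H108 Cfsg.Agent.Lib.H7.T27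
open scoped ComplexConjugate

/-! ### conjugation in `S₃` and the discrete logarithm -/

theorem lg_conj_zero : ∀ p : S3 × S3, lg (p.1 * p.2 * p.1⁻¹) = 0 ↔ lg p.2 = 0 := by decide

theorem cc_lg_conj : ∀ p : S3 × S3, p.2 ^ 3 = 1 → cc (lg (p.1 * p.2 * p.1⁻¹)) = cc (lg p.2) := by decide

theorem lg_eq_zero_of_pow : ∀ a : S3, a ^ 3 = 1 → (lg a = 0 ↔ a = 1) := by decide

/-- the weight function of `Lf` -/
noncomputable def Wt (wt : V → ℤ) (s : ↥M3) : ℂ :=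
  if (s : S333) ^ 3 = 1 then ((wt (lg3 (s : S333)) : ℤ) : ℂ) else 0

theorem Wt_ne_zero {wt : V → ℤ} {s : ↥M3} (h : Wt wt s ≠ 0) :
    (s : S333) ^ 3 = 1 ∧ wt (lg3 (s : S333)) ≠ 0 := by
  unfold Wt at h
  by_cases h3 : (s : S333) ^ 3 = 1
  · rw [if_pos h3] at h
    refine ⟨h3, fun h0 => h ?_⟩
    rw [h0, Int.cast_zero]
  · rw [if_neg h3] at h
    exact absurd rfl h

theorem conj_pow_three_iff (g s : S333) : (g * s * g⁻¹) ^ 3 = 1 ↔ s ^ 3 = 1 := by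
  rw [conj_pow]
  constructor
  · intro h
    have : s ^ 3 = g⁻¹ * (g * s ^ 3 * g⁻¹) * g := by group
    rw [this, h]; group
  · intro h
    rw [h]; group

theorem coe_conj (g s : ↥M3) : ((g * s * g⁻¹ : ↥M3) : S333) = (g : S333) * (s : S333) * (g : S333)⁻¹ := rfl

theorem pow_three_comp {s : S333} (h : s ^ 3 = 1) : s.1 ^ 3 = 1 ∧ s.2.1 ^ 3 = 1 ∧ s.2.2 ^ 3 = 1 :=
  ⟨congrArg Prod.fst h, congrArg (fun x => x.2.1) h, congrArg (fun x => x.2.2) h⟩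

theorem lg3_conj (g s : S333) : lg3 (g * s * g⁻¹) =
    (lg (g.1 * s.1 * g.1⁻¹), lg (g.2.1 * s.2.1 * g.2.1⁻¹), lg (g.2.2 * s.2.2 * g.2.2⁻¹)) := rfl

/-- `Wt u0` is a class function of `M3` -/
theorem Wt_u0_conj (s g : ↥M3) : Wt u0 (g * s * g⁻¹) = Wt u0 s := by
  unfold Wt
  rw [coe_conj]
  by_cases h3 : (s : S333) ^ 3 = 1
  · rw [if_pos h3, if_pos ((conj_pow_three_iff _ _).2 h3)]
    obtain ⟨h1, h2, h3'⟩ := pow_three_comp h3
    congr 1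
    rw [lg3_conj]
    unfold u0 lg3
    simp only
    rw [cc_lg_conj ((g : S333).1, (s : S333).1) h1, cc_lg_conj ((g : S333).2.1, (s : S333).2.1) h2,
      cc_lg_conj ((g : S333).2.2, (s : S333).2.2) h3']
  · rw [if_neg h3, if_neg (fun hh => h3 ((conj_pow_three_iff _ _).1 hh))]

/-- `Wt v0` is a class function of `M3` -/
theorem Wt_v0_conj (s g : ↥M3) : Wt v0 (g * s * g⁻¹) = Wt v0 s := by
  unfold Wt
  rw [coe_conj]
  by_cases h3 : (s : S333) ^ 3 = 1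
  · rw [if_pos h3, if_pos ((conj_pow_three_iff _ _).2 h3)]
    congr 1
    rw [lg3_conj]
    unfold v0 lg3
    apply if_congr _ rfl rfl
    have e1 := lg_conj_zero ((g : S333).2.1, (s : S333).2.1)
    have e2 := lg_conj_zero ((g : S333).2.2, (s : S333).2.2)
    exact and_congr (not_congr e1) e2
  · rw [if_neg h3, if_neg (fun hh => h3 ((conj_pow_three_iff _ _).1 hh))]

theorem u0_zero : u0 0 = 0 := by decide
theorem v0_zero : v0 0 = 0 := by decide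
theorem w0_zero : w0 0 = 0 := by decide
theorem lg3_one : lg3 1 = 0 := by decide

theorem ne_one_of_wt {wt : V → ℤ} (hwt : wt 0 = 0) {s : ↥M3} (h : wt (lg3 (s : S333)) ≠ 0) : s ≠ 1 := by
  rintro rfl
  apply h
  rw [Subgroup.coe_one, lg3_one, hwt]

theorem pow_three_of_coe {s : ↥M3} (h : (s : S333) ^ 3 = 1) : s ^ 3 = 1 :=
  Subtype.ext (by simpa using h)

/-- the supports of `v0` and `w0` are not fused in `M3` -/
theorem not_isConj_of_wt {s2 s3 : ↥M3} (h2 : v0 (lg3 (s2 : S333)) ≠ 0) (h3 : w0 (lg3 (s3 : S333)) ≠ 0) :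
    ¬ IsConj s2 s3 := by
  intro hc
  rw [isConj_iff] at hc
  obtain ⟨g, hg⟩ := hc
  have hv : lg (s2 : S333).2.2 = 0 := by
    by_contra hne
    apply h2
    unfold v0 lg3
    simp only
    rw [if_neg]
    intro hh
    exact hne hh.2
  have hw : lg (s3 : S333).2.2 ≠ 0 := by
    intro h0
    apply h3
    unfold w0 lg3
    simp only
    rw [if_neg]
    intro hh
    exact hh.1 h0
  apply hw
  have h1 : (s3 : S333) = (g : S333) * (s2 : S333) * (g : S333)⁻¹ := by rw [← hg]; rfl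
  rw [h1]
  exact (lg_conj_zero ((g : S333).2.2, (s2 : S333).2.2)).2 hv

section ce
variable {G : Type*} [Group G] [Fintype G]

theorem Lf_eq_sum (h : Hyp3 G) (wt : V → ℤ) (F : G → ℂ) :
    h.Lf wt F = ∑ s : ↥M3, Wt wt s * F (h.el s) := by
  unfold Hyp3.Lf Wt
  refine Finset.sum_congr rfl fun s _ => ?_
  split_ifs
  · rfl
  · rw [zero_mul]

/-- the class equation for a triple: the structure constant is computed in `M3` -/
theorem class_sum_eq (h : Hyp3 G) [Fintype (IrrCharacter G)] (s1 s2 s3 : ↥M3)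
    (h1 : s1 ^ 3 = 1) (h2 : s2 ^ 3 = 1) (h3 : s3 ^ 3 = 1) (h1' : s1 ≠ 1) (h2' : s2 ≠ 1) (h3' : s3 ≠ 1)
    (hnc : ¬ (IsConj s1 s2 ∧ IsConj s3⁻¹ s1⁻¹)) :
    ∑ χ : IrrCharacter G, (χ : G → ℂ) (h.el s1) * (χ : G → ℂ) (h.el s2) * (χ : G → ℂ) (h.el s3) /
      (χ : G → ℂ) 1 = (cnt3 s1 s2 s3⁻¹ : ℂ) / (Nat.card G : ℂ) := by
  classical
  have hG : (Nat.card G : ℂ) ≠ 0 := by exact_mod_cast (Nat.card_pos (α := G)).ne'
  have hc := count_eq_cnt3 h s1 s2 s3⁻¹ h1 h2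
    (by rw [inv_pow, h3, inv_one]) h1' h2' (by rwa [Ne, inv_eq_one]) hnc
  have hf := Cfsg.Agent.Lib.H23.sum_sum_ite_conj_mul_eq (h.el s1) (h.el s2) (h.el s3⁻¹)
  rw [hc, h.el_inv, inv_inv] at hf
  rw [eq_div_iff hG, mul_comm]
  exact hf.symm

theorem triple_expand {ι : Type*} [Fintype ι] (A B C : ι → ℂ) (d : ℂ) :
    (∑ a, A a) * (∑ b, B b) * (∑ c, C c) / d = ∑ a, ∑ b, ∑ c, A a * B b * C c / d := by
  rw [Finset.sum_mul_sum, Finset.sum_mul, Finset.sum_div]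
  refine Finset.sum_congr rfl fun a _ => ?_
  rw [Finset.sum_mul, Finset.sum_div]
  refine Finset.sum_congr rfl fun b _ => ?_
  rw [Finset.mul_sum, Finset.sum_div]

/-- CE with CE5 as a hypothesis. -/
theorem class_eq3_of (h : Hyp3 G) [Fintype (IrrCharacter G)]
    (hCE5 : (∑ s1 : ↥M3, ∑ s2 : ↥M3, Wt u0 s1 * Wt v0 s2 * Wt w0 (s1 * s2)⁻¹) = 36) :
    ∑ χ : IrrCharacter G, h.Lf u0 (χ : G → ℂ) * h.Lf v0 (χ : G → ℂ) * h.Lf w0 (χ : G → ℂ) /
      (χ : G → ℂ) 1 = 108 ^ 2 * 36 / (Nat.card G : ℂ) := by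
  classical
  have hG : (Nat.card G : ℂ) ≠ 0 := by exact_mod_cast (Nat.card_pos (α := G)).ne'
  -- expand
  have e1 : ∀ χ : IrrCharacter G,
      h.Lf u0 (χ : G → ℂ) * h.Lf v0 (χ : G → ℂ) * h.Lf w0 (χ : G → ℂ) / (χ : G → ℂ) 1 =
      ∑ a : ↥M3, ∑ b : ↥M3, ∑ c : ↥M3, (Wt u0 a * (χ : G → ℂ) (h.el a)) *
        (Wt v0 b * (χ : G → ℂ) (h.el b)) * (Wt w0 c * (χ : G → ℂ) (h.el c)) / (χ : G → ℂ) 1 := by
    intro χ
    rw [Lf_eq_sum, Lf_eq_sum, Lf_eq_sum, triple_expand]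
  rw [Finset.sum_congr rfl (fun χ _ => e1 χ)]
  rw [Finset.sum_comm]
  have e2 : ∀ a : ↥M3, (∑ χ : IrrCharacter G, ∑ b : ↥M3, ∑ c : ↥M3, (Wt u0 a * (χ : G → ℂ) (h.el a)) *
        (Wt v0 b * (χ : G → ℂ) (h.el b)) * (Wt w0 c * (χ : G → ℂ) (h.el c)) / (χ : G → ℂ) 1) =
      ∑ b : ↥M3, ∑ c : ↥M3, Wt u0 a * Wt v0 b * Wt w0 c *
        ((cnt3 a b c⁻¹ : ℂ) / (Nat.card G : ℂ)) := by
    intro a
    rw [Finset.sum_comm]
    refine Finset.sum_congr rfl fun b _ => ?_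
    rw [Finset.sum_comm]
    refine Finset.sum_congr rfl fun c _ => ?_
    have e3 : (∑ χ : IrrCharacter G, (Wt u0 a * (χ : G → ℂ) (h.el a)) *
        (Wt v0 b * (χ : G → ℂ) (h.el b)) * (Wt w0 c * (χ : G → ℂ) (h.el c)) / (χ : G → ℂ) 1) =
        Wt u0 a * Wt v0 b * Wt w0 c * ∑ χ : IrrCharacter G, (χ : G → ℂ) (h.el a) *
          (χ : G → ℂ) (h.el b) * (χ : G → ℂ) (h.el c) / (χ : G → ℂ) 1 := by
      rw [Finset.mul_sum]
      refine Finset.sum_congr rfl fun χ _ => ?_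
      ring
    rw [e3]
    by_cases hz : Wt u0 a * Wt v0 b * Wt w0 c = 0
    · rw [hz, zero_mul, zero_mul]
    · have ha : Wt u0 a ≠ 0 := fun h0 => hz (by rw [h0, zero_mul, zero_mul])
      have hb : Wt v0 b ≠ 0 := fun h0 => hz (by rw [h0, mul_zero, zero_mul])
      have hc : Wt w0 c ≠ 0 := fun h0 => hz (by rw [h0, mul_zero])
      obtain ⟨ha3, hau⟩ := Wt_ne_zero ha
      obtain ⟨hb3, hbv⟩ := Wt_ne_zero hb
      obtain ⟨hc3, hcw⟩ := Wt_ne_zero hc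
      have hnbc : ¬ IsConj b c := not_isConj_of_wt hbv hcw
      have hnc : ¬ (IsConj a b ∧ IsConj c⁻¹ a⁻¹) := by
        rintro ⟨hab, hca⟩
        apply hnbc
        have hca' : IsConj c a := by
          rw [isConj_iff] at hca ⊢
          obtain ⟨g, hg⟩ := hca
          refine ⟨g, ?_⟩
          have : g * c * g⁻¹ = (g * c⁻¹ * g⁻¹)⁻¹ := by group
          rw [this, hg, inv_inv]
        exact (hca'.trans hab).symm
      rw [class_sum_eq h a b c (pow_three_of_coe ha3) (pow_three_of_coe hb3) (pow_three_of_coe hc3)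
        (ne_one_of_wt u0_zero hau) (ne_one_of_wt v0_zero hbv) (ne_one_of_wt w0_zero hcw) hnc]
  rw [Finset.sum_congr rfl (fun a _ => e2 a)]
  -- pull out `1 / |G|` and apply CE4
  have e4 : (∑ a : ↥M3, ∑ b : ↥M3, ∑ c : ↥M3, Wt u0 a * Wt v0 b * Wt w0 c *
        ((cnt3 a b c⁻¹ : ℂ) / (Nat.card G : ℂ))) =
      (∑ a : ↥M3, ∑ b : ↥M3, ∑ c : ↥M3, Wt u0 a * Wt v0 b * Wt w0 c *
        (∑ g : ↥M3, ∑ k : ↥M3, if (g * a * g⁻¹) * (k * b * k⁻¹) = c⁻¹ then (1 : ℂ) else 0)) /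
        (Nat.card G : ℂ) := by
    rw [Finset.sum_div]
    refine Finset.sum_congr rfl fun a _ => ?_
    rw [Finset.sum_div]
    refine Finset.sum_congr rfl fun b _ => ?_
    rw [Finset.sum_div]
    refine Finset.sum_congr rfl fun c _ => ?_
    rw [mul_div_assoc]
    congr 2
    unfold cnt3
    push_cast
    rfl
  rw [e4, Cfsg.Agent.Lib.H24.T27.rearrange (Wt u0) (Wt v0) (Wt w0) Wt_u0_conj Wt_v0_conj, hCE5]
  have hcard : (Fintype.card ↥M3 : ℂ) = 108 := by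
    rw [← Nat.card_eq_fintype_card, card_M3]
    norm_num
  rw [hcard]

end ce

end Cfsg.Agent.Lib.H18.T27
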