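import Mathlib
import Cfsg.Agent.Lib.H7.T27Defs
import Cfsg.Agent.Lib.H18.T27CEa
import Cfsg.Agent.Lib.H18.T27CE5

/-!
# S3701 piece CE (helper18): the weighted class equation
-/

set_option autoImplicit false

namespace Cfsg.Agent.Lib.H18.T27

open Cfsg Cfsg.Agent.Lib.H7.K4 Cfsg.Agent.Lib.H3.H108 Cfsg.Agent.Lib.H7.T27

/-- CE. -/
theorem class_eq3 {G : Type*} [Group G] [Fintype G] (h : Hyp3 G) [Fintype (IrrCharacter G)] :
    ∑ χ : IrrCharacter G, h.Lf u0 (χ : G → ℂ) * h.Lf v0 (χ : G → ℂ) * h.Lf w0 (χ : G → ℂ) /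
      (χ : G → ℂ) 1 = 108 ^ 2 * 36 / (Nat.card G : ℂ) := by
  apply class_eq3_of h
  unfold Wt
  exact final_sum

end Cfsg.Agent.Lib.H18.T27
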