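import Cfsg.Agent.Lib.H18.L648Defs
import Cfsg.Agent.Lib.H18.L648Enum
import Cfsg.Agent.Lib.H18.L648TC
import Cfsg.Agent.Lib.H18.L648T00
import Cfsg.Agent.Lib.H18.L648T01
import Cfsg.Agent.Lib.H18.L648T02
import Cfsg.Agent.Lib.H18.L648T03
import Cfsg.Agent.Lib.H18.L648T04
import Cfsg.Agent.Lib.H18.L648T05
import Cfsg.Agent.Lib.H18.L648T06
import Cfsg.Agent.Lib.H18.L648T07
import Cfsg.Agent.Lib.H18.L648T08
import Cfsg.Agent.Lib.H18.L648T09
import Cfsg.Agent.Lib.H18.L648T10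
import Cfsg.Agent.Lib.H18.L648T11
import Cfsg.Agent.Lib.H18.L648T12
import Cfsg.Agent.Lib.H18.L648T13
import Cfsg.Agent.Lib.H4.L648ENUM648
import Cfsg.Agent.Lib.H14.L648CHARGEN
import Cfsg.Agent.Lib.H8.L648MONOA
import Cfsg.Agent.Lib.H27.L648MONOB
import Cfsg.Agent.Lib.H27.L648MONOF
import Cfsg.Agent.Lib.H27.L648MONOT
import Cfsg.Agent.Lib.H2.L648MONOP
import Cfsg.Agent.Lib.H8.L648GENCHAR
import Cfsg.Agent.Lib.H8.L648TABF
import Cfsg.Agent.Lib.H8.L648OFF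
import Cfsg.Agent.Lib.H25.L648GRAM
import Cfsg.Agent.Lib.H14.L648DUAL
import Cfsg.Agent.Lib.H25.L648REDUCE
import Cfsg.Agent.Lib.H29.L648SHAPE0
import Cfsg.Agent.Lib.H29.L648SHAPE1
import Cfsg.Agent.Lib.H29.L648SHAPE3
import Cfsg.Agent.Lib.H3.L648SHAPE2

/-!
# S3702 (10u), helper18's side: the assembly

The interface used by helper7's MAIN (`Cfsg.Agent.Lib.H7.T648`): the nine generalized characters `bf i` of
`M648` vanishing off `A648`, their Gram matrix, the dual identity, and `final_abstract` (lattice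
classification + arithmetic).  Blueprint: `tools/blueprints/S3702_h18.md`.
-/

set_option autoImplicit false

namespace Cfsg.Agent.Lib.H18.L648

open Cfsg Cfsg.Agent.Lib.H7.T648 Cfsg.Agent.Lib.H18 Cfsg.Agent.Lib.H18.LatEnum

/-- the rows without the trivial character have Gram matrix `MpN` -/
theorem gram_bOf {ι : Type*} [Fintype ι] [DecidableEq ι] (c : Fin 9 → ι → ℤ) (i0 : ι)
    (hgram : ∀ i j, ∑ χ, c i χ * c j χ = Mg i j) (htriv : ∀ i, c i i0 = a0 i)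
    (i j : ℕ) (hj : j < 9) (hi : i < 9) :
    ∑ χ : {χ : ι // χ ≠ i0}, bOf c i0 i χ * bOf c i0 j χ = MpN i j := by
  have h1 : ∑ χ : {χ : ι // χ ≠ i0}, bOf c i0 i χ * bOf c i0 j χ =
      ∑ χ : {χ : ι // χ ≠ i0}, c ⟨i, hi⟩ χ.1 * c ⟨j, hj⟩ χ.1 := by
    refine Finset.sum_congr rfl fun χ _ => ?_
    simp only [bOf, hi, hj, dif_pos]
  have h2 : ∑ χ : {χ : ι // χ ≠ i0}, c ⟨i, hi⟩ χ.1 * c ⟨j, hj⟩ χ.1 =
      ∑ χ ∈ Finset.univ.filter (fun χ : ι => χ ≠ i0), c ⟨i, hi⟩ χ * c ⟨j, hj⟩ χ := by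
    symm
    apply Finset.sum_subtype
    intro χ
    simp
  have h3 : ∑ χ ∈ Finset.univ.filter (fun χ : ι => χ ≠ i0), c ⟨i, hi⟩ χ * c ⟨j, hj⟩ χ =
      Mg ⟨i, hi⟩ ⟨j, hj⟩ - a0 ⟨i, hi⟩ * a0 ⟨j, hj⟩ := by
    rw [← hgram ⟨i, hi⟩ ⟨j, hj⟩, ← htriv, ← htriv,
      ← Finset.sum_filter_add_sum_filter_not Finset.univ (fun χ : ι => χ ≠ i0)
        (fun χ => c ⟨i, hi⟩ χ * c ⟨j, hj⟩ χ)]
    have : Finset.univ.filter (fun χ : ι => ¬ χ ≠ i0) = {i0} := by
      ext χ; simp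
    rw [this, Finset.sum_singleton]
    ring
  rw [h1, h2, h3]
  simp only [MpN, hi, hj, and_self, dif_pos]

theorem MpN_small : ∀ i < 9, MpN i i < 9 := by
  decide

/-! ## the tables -/

theorem tabP (d : Fin 14) (x : M648) : psiZ (monoL d) x = Ptab d (cls x) := by
  have key : ∀ (d : Fin 14),
      allM.all (fun x => decide (psiZ (monoL d) x = Ptab d (cls x))) = true := by
    intro d
    fin_cases d
    · exact tabP00
    · exact tabP01
    · exact tabP02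
    · exact tabP03
    · exact tabP04
    · exact tabP05
    · exact tabP06
    · exact tabP07
    · exact tabP08
    · exact tabP09
    · exact tabP10
    · exact tabP11
    · exact tabP12
    · exact tabP13
  have := Cfsg.Agent.Lib.H4.L648.forall_of_allM _ (key d) x
  exact of_decide_eq_true this

theorem tabFZ (i : Fin 9) (x : M648) : FZ i x = Ftab i (cls x) := Cfsg.Agent.Lib.H8.L648.tabF tabP i x

theorem sum_map_ite_eq_countP {α : Type*} (p : α → Bool) (l : List α) :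
    (l.map (fun x => if p x = true then 1 else 0)).sum = l.countP p := by
  induction l with
  | nil => rfl
  | cons a l ih =>
    rw [List.map_cons, List.sum_cons, ih, List.countP_cons]
    by_cases h : p a = true <;> simp [h, add_comm]

theorem card_cls (c : Fin 14) : (Finset.univ.filter (fun x : M648 => cls x = c)).card = csz c := by
  have h1 : allM.countP (fun x => decide (cls x = c)) = csz c := by
    have := countP_cls
    rw [List.all_eq_true] at this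
    exact of_decide_eq_true (this c (List.mem_finRange c))
  rw [← h1, Finset.card_filter, Cfsg.Agent.Lib.H4.L648.sum_eq_allM, ← sum_map_ite_eq_countP]
  congr 1
  apply List.map_congr_left
  intro x _
  simp only [decide_eq_true_eq]

end Cfsg.Agent.Lib.H18.L648

namespace Cfsg.Agent.Lib.H18.T648

open Cfsg Cfsg.Agent.Lib.H7.T648 Cfsg.Agent.Lib.H18 Cfsg.Agent.Lib.H18.L648
  Cfsg.Agent.Lib.H18.LatEnum
open scoped ComplexConjugate

theorem bf_genChar (i : Fin 9) : IsGeneralizedCharacter M648 (bf i) := by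
  refine Cfsg.Agent.Lib.H8.L648.Fc_genChar (fun d => ?_) i
  fin_cases d
  · exact Cfsg.Agent.Lib.H14.L648.isCharacter_psi _ Cfsg.Agent.Lib.H8.L648.monoOK_one
  · exact Cfsg.Agent.Lib.H14.L648.isCharacter_psi _ Cfsg.Agent.Lib.H8.L648.monoOK_sgn
  · exact Cfsg.Agent.Lib.H14.L648.isCharacter_psi _ Cfsg.Agent.Lib.H8.L648.monoOK_c2
  · exact Cfsg.Agent.Lib.H14.L648.isCharacter_psi _ Cfsg.Agent.Lib.H27.L648.monoOK_c3p
  · exact Cfsg.Agent.Lib.H14.L648.isCharacter_psi _ Cfsg.Agent.Lib.H27.L648.monoOK_c3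
  · exact Cfsg.Agent.Lib.H14.L648.isCharacter_psi _ (Cfsg.Agent.Lib.H2.L648.monoOK_P 0)
  · exact Cfsg.Agent.Lib.H14.L648.isCharacter_psi _ (Cfsg.Agent.Lib.H2.L648.monoOK_P 1)
  · exact Cfsg.Agent.Lib.H14.L648.isCharacter_psi _ (Cfsg.Agent.Lib.H2.L648.monoOK_P 2)
  · exact Cfsg.Agent.Lib.H14.L648.isCharacter_psi _ (Cfsg.Agent.Lib.H2.L648.monoOK_P 3)
  · exact Cfsg.Agent.Lib.H14.L648.isCharacter_psi _ (Cfsg.Agent.Lib.H27.L648.monoOK_F 0)
  · exact Cfsg.Agent.Lib.H14.L648.isCharacter_psi _ (Cfsg.Agent.Lib.H27.L648.monoOK_F 1)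
  · exact Cfsg.Agent.Lib.H14.L648.isCharacter_psi _ (Cfsg.Agent.Lib.H27.L648.monoOK_T 0)
  · exact Cfsg.Agent.Lib.H14.L648.isCharacter_psi _ (Cfsg.Agent.Lib.H27.L648.monoOK_T 1)
  · exact Cfsg.Agent.Lib.H14.L648.isCharacter_psi _ (Cfsg.Agent.Lib.H27.L648.monoOK_T 2)

theorem bf_off (i : Fin 9) (x : M648) (hx : ¬ A648 x) : bf i x = 0 :=
  Cfsg.Agent.Lib.H8.L648.Fc_off tabFZ i x hx

theorem bf_gram (i j : Fin 9) : classInner (bf i) (bf j) = (gram i j : ℂ) :=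
  Cfsg.Agent.Lib.H25.L648.Fc_gram tabFZ card_cls i j

theorem bf_one (i : Fin 9) : classInner (bf i) (1 : M648 → ℂ) = (t0 i : ℂ) :=
  Cfsg.Agent.Lib.H25.L648.Fc_inner_one tabFZ card_cls i

/-- the dual identity: `Σ_i χ_i(s) conj (b_i x) = |C(s)| [x ~ s]` integrated against a class function -/
theorem bf_dual (s : M648) (hs : s ∈ J648) (hs1 : s ≠ 1) (F : M648 → ℂ)
    (hF : IsClassFunction M648 F) :
    ∑ i : Fin 9, (xv i s.wt : ℂ) * classInner F (bf i) = F s :=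
  Cfsg.Agent.Lib.H14.L648.Fc_dual tabFZ card_cls s hs hs1 F hF

/-- lattice classification + arithmetic -/
theorem final_abstract {ι : Type*} [Fintype ι] [DecidableEq ι] (deg : ι → ℕ) (c : Fin 9 → ι → ℤ)
    (i0 : ι) (g : ℕ)
    (hdeg : ∀ χ, 0 < deg χ) (hdeg0 : deg i0 = 1)
    (hsq : ∑ χ, deg χ ^ 2 = g)
    (hgram : ∀ i j, ∑ χ, c i χ * c j χ = gram i j)
    (htriv : ∀ i, c i i0 = t0 i)
    (hzero : ∀ i, ∑ χ, c i χ * (deg χ : ℤ) = 0)
    (hce : ∀ w1 w2 w : Fin 3 → ZMod 3, w1 ≠ 0 → w2 ≠ 0 → w ≠ 0 →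
      ((∃ i, w1 i = 0) ∨ (∃ i, w2 i = 0) ∨ (∃ i, w i = 0)) →
      ¬ (wtv w1 = wtv w2 ∧ wtv w = wtv w1) →
      ∑ χ, (((∑ i, xv i (wtv w1) * c i χ : ℤ) : ℚ) * ((∑ i, xv i (wtv w2) * c i χ : ℤ) : ℚ) *
        ((∑ i, xv i (wtv w) * c i χ : ℤ) : ℚ)) / (deg χ : ℚ) = (729 * lcnt w1 w2 w : ℚ) / (g : ℚ))
    (hdvd : 648 ∣ g) (hmod : g / 648 % 27 = 1) : g = 648 := by
  classical
  obtain ⟨cols, hmem, hM⟩ := search_sound 9 (bOf c i0) MpN
    (fun i j hij hj => gram_bOf c i0 hgram htriv i j hj (lt_of_le_of_lt hij hj)) MpN_small 9 le_rfl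
  obtain ⟨ε, L, hε, hL, hcols, hrest⟩ := hM.exists_list
  obtain ⟨D, hD⟩ := Cfsg.Agent.Lib.H25.L648.exists_shapeOK deg c i0 g hdeg hdeg0 hsq htriv hzero hce cols ε L hε hL hcols hrest
  rw [search_eq] at hmem
  simp only [shapes, List.mem_cons, List.not_mem_nil, or_false] at hmem
  rcases hmem with rfl | rfl | rfl | rfl
  · exact (Cfsg.Agent.Lib.H29.L648.shape0_false g D hD).elim
  · exact (Cfsg.Agent.Lib.H29.L648.shape1_false g D hD).elim
  · exact Cfsg.Agent.Lib.H3.L648.shape2_card g D hD hdvd hmod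
  · exact (Cfsg.Agent.Lib.H29.L648.shape3_false g D hD).elim

end Cfsg.Agent.Lib.H18.T648
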