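import Mathlib
import Cfsg.Prelude.Def_Solvable
import Cfsg.Prelude.Def_OddOrderLocal
import Cfsg.Agent.Lib.H18.FrobeniusWielandt
import Cfsg.Agent.Lib.H20.Malnormal
import Cfsg.Agent.Lib.H20.TI
import Cfsg.Agent.Lib.H1.Frobenius
import Cfsg.Agent.Lib.H1.NilMax
import Cfsg.Agent.Lib.H1.Complement

/-!
# TI Hall subgroups with a normal complement in their normaliser (helper18)

Tools for S4115: a counting lemma for actions in which every nonidentity element has a unique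
fixed point, `H` TI and Hall in `N_G(H)` implies Hall in `G`, and the construction of a Frobenius
group with complement isomorphic to `H`.
-/

set_option autoImplicit false

namespace Cfsg.Agent.Lib.H18

open scoped Pointwise

universe u

/-- If every nonidentity element of a finite group `B` acting on `Ω` has exactly one fixed point,
then `B` has a global fixed point. -/
theorem exists_fixed_of_unique_fixed {B Ω : Type*} [Group B] [Finite B] [MulAction B Ω]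
    [Nonempty Ω]
    (hex : ∀ b : B, b ≠ 1 → ∃ ω : Ω, b • ω = ω)
    (huniq : ∀ b : B, b ≠ 1 → ∀ ω ω' : Ω, b • ω = ω → b • ω' = ω' → ω = ω') :
    ∃ ω : Ω, ∀ b : B, b • ω = ω := by
  classical
  by_cases hB : ∀ b : B, b = 1
  · obtain ⟨ω⟩ := ‹Nonempty Ω›
    exact ⟨ω, fun b => by rw [hB b, one_smul]⟩
  push Not at hB
  obtain ⟨b₁, hb₁⟩ := hB
  obtain ⟨ω₁, hω₁⟩ := hex b₁ hb₁
  by_contra hcon
  push Not at hcon
  have hmal : ∀ ω : Ω, ∀ k x : B, x ∈ MulAction.stabilizer B ω → x ≠ 1 →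
      k * x * k⁻¹ ∈ MulAction.stabilizer B ω → k ∈ MulAction.stabilizer B ω := by
    intro ω k x hx hx1 hk
    rw [MulAction.mem_stabilizer_iff] at hx hk ⊢
    have h1 : x • (k⁻¹ • ω) = k⁻¹ • ω := by
      have : x • (k⁻¹ • ω) = k⁻¹ • ((k * x * k⁻¹) • ω) := by
        simp only [mul_smul, inv_smul_smul]
      rw [this, hk]
    have h2 := huniq x hx1 _ _ h1 hx
    calc k • ω = k • (k⁻¹ • ω) := by rw [h2]
      _ = ω := smul_inv_smul k ω
  set A := MulAction.stabilizer B ω₁ with hA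
  have hA1 : A ≠ ⊥ := by
    intro h
    have : b₁ ∈ A := hω₁
    rw [h] at this
    exact hb₁ (Subgroup.mem_bot.mp this)
  have hAtop : A ≠ ⊤ := by
    intro h
    obtain ⟨b, hb⟩ := hcon ω₁
    have : b ∈ A := by rw [h]; trivial
    exact hb this
  have hfrob : Cfsg.IsFrobeniusComplement A := by
    refine ⟨hA1, hAtop, ?_⟩
    intro g hg
    rw [eq_bot_iff]
    rintro x ⟨hx1, hx2⟩
    rw [Subgroup.mem_bot]
    by_contra hx
    have hx2' : g⁻¹ * x * g ∈ A := (Lib.H20.mem_conj_smul_iff A g x).mp hx2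
    have := hmal ω₁ g⁻¹ x hx1 hx (by rw [inv_inv]; exact hx2')
    have h3 := A.inv_mem this
    rw [inv_inv] at h3
    exact hg h3
  have hcard := Lib.H1.frob_card_kernel hfrob
  have hidx : 1 < A.index := by
    have h0 : A.index ≠ 0 := Subgroup.index_ne_zero_of_finite
    have h1 : A.index ≠ 1 := fun h => hAtop (Subgroup.index_eq_one.mp h)
    omega
  have hnt : Nontrivial (Cfsg.frobeniusKernel A) := by
    rw [← Finite.one_lt_card_iff_nontrivial, hcard]
    exact hidx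
  obtain ⟨⟨b₂, hb₂K⟩, hb₂⟩ := exists_ne (⟨1, Lib.H1.one_mem_frobeniusKernel A⟩ :
    Cfsg.frobeniusKernel A)
  have hb₂1 : b₂ ≠ 1 := fun h => hb₂ (Subtype.ext h)
  have hb₂n : ∀ g : B, b₂ ∉ MulAut.conj g • A := by
    rcases hb₂K with h | h
    · exact absurd h hb₂1
    · exact h
  obtain ⟨ω₂, hω₂⟩ := hex b₂ hb₂1
  have hA'1 : MulAction.stabilizer B ω₂ ≠ ⊥ := by
    intro h
    have : b₂ ∈ MulAction.stabilizer B ω₂ := hω₂
    rw [h] at this
    exact hb₂1 (Subgroup.mem_bot.mp this)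
  apply Lib.H20.false_of_two_malnormal A (MulAction.stabilizer B ω₂) (hmal ω₁) (hmal ω₂) ?_ hA1 hA'1
  intro k x hx hk
  by_contra hx1
  rw [MulAction.mem_stabilizer_iff] at hk
  have hx' : x • ω₁ = ω₁ := hx
  have h1 : x • (k⁻¹ • ω₂) = k⁻¹ • ω₂ := by
    have : x • (k⁻¹ • ω₂) = k⁻¹ • ((k * x * k⁻¹) • ω₂) := by
      simp only [mul_smul, inv_smul_smul]
    rw [this, hk]
  have h2 : ω₁ = k⁻¹ • ω₂ := huniq x hx1 _ _ hx' h1
  apply hb₂n k
  rw [Lib.H20.mem_conj_smul_iff]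
  change (k⁻¹ * b₂ * k) • ω₁ = ω₁
  rw [mul_smul, mul_smul, h2, smul_inv_smul, hω₂]

/-- Elements of `M` whose order is coprime to `n` lie in `H`, if `n`-th powers of `M` lie in `H`. -/
theorem mem_of_coprime_orderOf {G : Type*} [Group G] {H M : Subgroup G} {n : ℕ}
    (hpow : ∀ x ∈ M, x ^ n ∈ H) {x : G} (hx : x ∈ M) (hc : n.Coprime (orderOf x)) : x ∈ H := by
  obtain ⟨m, hm⟩ := exists_pow_eq_self_of_coprime hc
  rw [← hm]
  exact H.pow_mem (hpow x hx) m

/-- A TI subgroup `H` (with `N_G(H) ≤ M`-type control) which is Hall in `M` is Hall in `G`. -/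
theorem coprime_index_of_ti {G : Type*} [Group G] [Finite G] (H M : Subgroup G) (n : ℕ)
    (hTI : ∀ g x : G, x ∈ H → x ≠ 1 → g * x * g⁻¹ ∈ H → g ∈ M)
    (hcop : (Nat.card H).Coprime n) (hpow : ∀ x ∈ M, x ^ n ∈ H) :
    (Nat.card H).Coprime H.index := by
  classical
  rw [Nat.coprime_iff_gcd_eq_one] 
  by_contra hne
  obtain ⟨p, hp, hpd⟩ := Nat.exists_prime_and_dvd hne
  have hpH : p ∣ Nat.card H := hpd.trans (Nat.gcd_dvd_left _ _)
  have hpI : p ∣ H.index := hpd.trans (Nat.gcd_dvd_right _ _)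
  haveI : Fact p.Prime := ⟨hp⟩
  obtain ⟨h₀, hh₀⟩ := exists_prime_orderOf_dvd_card' p hpH
  have hh₀1 : (h₀ : G) ≠ 1 := by
    intro h
    have : h₀ = 1 := Subtype.ext h
    rw [this, orderOf_one] at hh₀
    exact hp.one_lt.ne hh₀
  have hh₀G : orderOf (h₀ : G) = p := by rw [Subgroup.orderOf_coe, hh₀]
  have hpg : IsPGroup p (Subgroup.zpowers (h₀ : G)) := by
    apply IsPGroup.of_card (n := 1)
    rw [Nat.card_zpowers, hh₀G, pow_one]
  obtain ⟨P, hP⟩ := hpg.exists_le_sylow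
  have hh₀P : (h₀ : G) ∈ (P : Subgroup G) := hP (Subgroup.mem_zpowers _)
  -- `p`-elements of `M` lie in `H`
  have hpn : p.Coprime n := Nat.Coprime.coprime_dvd_left hpH hcop
  have hpel : ∀ x ∈ (P : Subgroup G), x ∈ M → x ∈ H := by
    intro x hxP hxM
    apply mem_of_coprime_orderOf hpow hxM
    obtain ⟨k, hk⟩ := (P.2 ⟨x, hxP⟩)
    have hk' : x ^ p ^ k = 1 := by
      have := congrArg Subtype.val hk
      simpa using this
    have hdvd : orderOf x ∣ p ^ k := orderOf_dvd_of_pow_eq_one hk'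
    exact Nat.Coprime.coprime_dvd_right hdvd (Nat.Coprime.pow_right k hpn.symm)
  -- a central element
  haveI : Nontrivial (P : Subgroup G) := ⟨⟨⟨h₀, hh₀P⟩, 1, fun h => hh₀1 (congrArg Subtype.val h)⟩⟩
  haveI := P.2.center_nontrivial
  obtain ⟨⟨z, hz⟩, hz1⟩ := exists_ne (1 : Subgroup.center (P : Subgroup G))
  have hz1' : (z : G) ≠ 1 := by
    intro h
    apply hz1
    apply Subtype.ext
    apply Subtype.ext
    exact h
  rw [Subgroup.mem_center_iff] at hz
  have hzM : (z : G) ∈ M := by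
    apply hTI (z : G) (h₀ : G) h₀.2 hh₀1
    have h1 := hz ⟨h₀, hh₀P⟩
    have h2 : (h₀ : G) * (z : G) = (z : G) * (h₀ : G) := congrArg Subtype.val h1
    have : (z : G) * (h₀ : G) * (z : G)⁻¹ = (h₀ : G) := by rw [← h2]; group
    rw [this]
    exact h₀.2
  have hzH : (z : G) ∈ H := hpel _ z.2 hzM
  have hPH : (P : Subgroup G) ≤ H := by
    intro x hx
    apply hpel x hx
    apply hTI x (z : G) hzH hz1'
    have h1 := hz ⟨x, hx⟩
    have h2 : x * (z : G) = (z : G) * x := congrArg Subtype.val h1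
    have : x * (z : G) * x⁻¹ = (z : G) := by rw [h2]; group
    rw [this]
    exact hzH
  have := Subgroup.relIndex_mul_index hPH
  exact P.not_dvd_index (this ▸ Dvd.dvd.mul_left hpI _)

/-- From an `H`-invariant `p`-subgroup `R` of the Wielandt kernel `N` which is not contained in
`K₀ = N ∩ M`, build a Frobenius group with complement isomorphic to `H`. -/
theorem frobenius_of_invariant_pgroup {G : Type u} [Group G] [Finite G]
    (H M K₀ N R : Subgroup G) (p : ℕ) [Fact p.Prime]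
    (hHM : H ≤ M) (hW : WielandtHyp M K₀) (hNM : N ⊓ M = K₀) (hNH : N ⊓ H = ⊥) (hHne : H ≠ ⊥)
    (hR : IsPGroup p R) (hRN : R ≤ N) (hHR : ∀ h ∈ H, ∀ r ∈ R, h * r * h⁻¹ ∈ R)
    (hRK : ¬ R ≤ K₀) :
    ∃ (F : Type u) (_ : Group F) (_ : Finite F) (C : Subgroup F),
      Cfsg.IsFrobeniusComplement C ∧ Nonempty (H ≃* C) := by
  classical
  have hK₀N : K₀ ≤ N := hNM ▸ inf_le_left
  have hK₀M : K₀ ≤ M := hW.le
  have hNH1 : ∀ x, x ∈ N → x ∈ H → x = 1 := by
    intro x hxN hxH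
    have : x ∈ N ⊓ H := ⟨hxN, hxH⟩
    rw [hNH] at this
    exact Subgroup.mem_bot.mp this
  have hKH : ∀ x, x ∈ K₀ → x ∈ H → x = 1 := fun x hxK hxH => hNH1 x (hK₀N hxK) hxH
  set R₀ := R ⊓ K₀ with hR₀
  have hR₀lt : R₀ < R := lt_of_le_of_ne inf_le_left (fun h => hRK (h ▸ inf_le_right))
  obtain ⟨u, huR, huN, huR₀⟩ := Lib.H1.exists_mem_normalizer_not_mem' hR hR₀lt
  -- `H` normalises `R₀`
  have hHR₀ : ∀ h ∈ H, ∀ r ∈ R₀, h * r * h⁻¹ ∈ R₀ := fun h hh r hr =>
    ⟨hHR h hh r hr.1, hW.conj_mem h (hHM hh) r hr.2⟩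
  have hHnR₀ : H ≤ Subgroup.normalizer (R₀ : Set G) := by
    intro h hh
    rw [Subgroup.mem_normalizer_iff]
    intro y
    constructor
    · exact hHR₀ h hh y
    · intro hy
      have := hHR₀ h⁻¹ (H.inv_mem hh) _ hy
      have e : h⁻¹ * (h * y * h⁻¹) * h⁻¹⁻¹ = y := by group
      rwa [e] at this
  set X := R ⊓ Subgroup.normalizer (R₀ : Set G) with hX
  have hR₀X : R₀ ≤ X := le_inf inf_le_left Subgroup.le_normalizer
  have huX : u ∈ X := ⟨huR, huN⟩
  have hconjX : ∀ h ∈ H, ∀ x ∈ X, h * x * h⁻¹ ∈ X := by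
    intro h hh x hx
    refine ⟨hHR h hh x hx.1, ?_⟩
    exact Subgroup.mul_mem _ (Subgroup.mul_mem _ (hHnR₀ hh) hx.2) (Subgroup.inv_mem _ (hHnR₀ hh))
  have hHnX : H ≤ Subgroup.normalizer (X : Set G) := by
    intro h hh
    rw [Subgroup.mem_normalizer_iff]
    intro y
    constructor
    · exact hconjX h hh y
    · intro hy
      have := hconjX h⁻¹ (H.inv_mem hh) _ hy
      have e : h⁻¹ * (h * y * h⁻¹) * h⁻¹⁻¹ = y := by group
      rwa [e] at this
  set L := X ⊔ H with hL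
  have hXL : X ≤ L := le_sup_left
  have hHL : H ≤ L := le_sup_right
  have hR₀L : R₀ ≤ L := hR₀X.trans hXL
  have hLn : L ≤ Subgroup.normalizer (R₀ : Set G) := sup_le inf_le_right hHnR₀
  have hdecomp : ∀ l ∈ L, ∃ x ∈ X, ∃ h ∈ H, l = x * h := fun l hl =>
    Lib.H1.mem_sup_of_le_normalizer hHnX hl
  haveI hnorm : (R₀.subgroupOf L).Normal :=
    (Subgroup.normal_subgroupOf_iff_le_normalizer hR₀L).mpr hLn
  let π : L →* L ⧸ R₀.subgroupOf L := QuotientGroup.mk' _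
  have hπ : ∀ a b : L, π a = π b ↔ (a : G)⁻¹ * (b : G) ∈ R₀ := by
    intro a b
    change (QuotientGroup.mk a : L ⧸ R₀.subgroupOf L) = QuotientGroup.mk b ↔ _
    rw [QuotientGroup.eq, Subgroup.mem_subgroupOf]
    simp
  let φ : H →* L ⧸ R₀.subgroupOf L := π.comp (Subgroup.inclusion hHL)
  have hφ : ∀ h : H, φ h = π ⟨h, hHL h.2⟩ := fun h => rfl
  have hφinj : Function.Injective φ := by
    rw [injective_iff_map_eq_one]
    intro h hh
    have h1 : π ⟨h, hHL h.2⟩ = π 1 := by rw [← hφ, hh, map_one]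
    rw [hπ] at h1
    have h2 : ((h : G))⁻¹ ∈ R₀ := by simpa using h1
    have h3 : (h : G) ∈ R₀ := by simpa using R₀.inv_mem h2
    exact Subtype.ext (hNH1 _ (hRN h3.1) h.2)
  -- the key malnormality computation
  have key : ∀ l ∈ L, ∀ h₁ ∈ H, h₁ ≠ 1 → ∀ h₂ ∈ H, (l⁻¹ * h₁ * l)⁻¹ * h₂ ∈ R₀ →
      ∃ h ∈ H, l⁻¹ * h ∈ R₀ := by
    intro l hl h₁ hh₁ hne h₂ hh₂ hr
    obtain ⟨x, hx, h₃, hh₃, rfl⟩ := hdecomp l hl
    have hxM : x ∈ M := by
      by_contra hxM
      have h4 : x⁻¹ * h₁ * x ∈ M := by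
        have e : x⁻¹ * h₁ * x =
            h₃ * (h₂ * (((x * h₃)⁻¹ * h₁ * (x * h₃))⁻¹ * h₂)⁻¹) * h₃⁻¹ := by group
        rw [e]
        exact M.mul_mem (M.mul_mem (hHM hh₃) (M.mul_mem (hHM hh₂) (M.inv_mem (hK₀M hr.2))))
          (M.inv_mem (hHM hh₃))
      have := hW.inter x hxM h₁ (hHM hh₁) h4
      exact hne (hKH h₁ this hh₁)
    have hxR₀ : x ∈ R₀ := ⟨hx.1, by rw [← hNM]; exact ⟨hRN hx.1, hxM⟩⟩
    refine ⟨h₃, hh₃, ?_⟩
    have e : (x * h₃)⁻¹ * h₃ = h₃⁻¹ * x⁻¹ * h₃⁻¹⁻¹ := by group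
    rw [e]
    exact hHR₀ h₃⁻¹ (H.inv_mem hh₃) x⁻¹ (R₀.inv_mem hxR₀)
  refine ⟨L ⧸ R₀.subgroupOf L, inferInstance, inferInstance, φ.range, ⟨?_, ?_, ?_⟩,
    ⟨MonoidHom.ofInjective hφinj⟩⟩
  · -- nontrivial
    intro hbot
    apply hHne
    rw [Subgroup.eq_bot_iff_forall]
    intro h hh
    have h1 : φ ⟨h, hh⟩ ∈ φ.range := ⟨_, rfl⟩
    rw [hbot, Subgroup.mem_bot] at h1
    have h2 : (⟨h, hh⟩ : H) = 1 := hφinj (by rw [h1, map_one])
    exact congrArg Subtype.val h2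
  · -- proper
    intro htop
    have h1 : π ⟨u, hXL huX⟩ ∈ φ.range := by rw [htop]; trivial
    obtain ⟨h, hh⟩ := h1
    rw [hφ, hπ] at hh
    have h2 : (h : G)⁻¹ * u ∈ R₀ := hh
    have h3 : (h : G)⁻¹ ∈ R := by
      have e : (h : G)⁻¹ = ((h : G)⁻¹ * u) * u⁻¹ := by group
      rw [e]
      exact R.mul_mem h2.1 (R.inv_mem huR)
    have h4 : (h : G) ∈ R := by simpa using R.inv_mem h3
    have h5 : (h : G) = 1 := hNH1 _ (hRN h4) h.2
    rw [h5] at h2
    apply huR₀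
    simpa using h2
  · -- malnormal
    intro f hf
    rw [eq_bot_iff]
    rintro z ⟨hz1, hz2⟩
    rw [Subgroup.mem_bot]
    have hz2' : f⁻¹ * z * f ∈ φ.range := (Lib.H20.mem_conj_smul_iff _ f z).mp hz2
    obtain ⟨h₁, rfl⟩ := hz1
    obtain ⟨h₂, hh₂⟩ := hz2'
    obtain ⟨l, rfl⟩ := QuotientGroup.mk'_surjective (R₀.subgroupOf L) f
    by_contra hne
    have hh₁ne : (h₁ : G) ≠ 1 := by
      intro h
      apply hne
      have : h₁ = 1 := Subtype.ext h
      rw [this, map_one]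
    have h3 : π (l⁻¹ * ⟨h₁, hHL h₁.2⟩ * l) = π ⟨h₂, hHL h₂.2⟩ := by
      rw [map_mul, map_mul, map_inv, ← hφ, ← hφ, hh₂]
    rw [hπ] at h3
    obtain ⟨h, hh, hlh⟩ := key l l.2 h₁ h₁.2 hh₁ne h₂ h₂.2 (by simpa using h3)
    apply hf
    refine ⟨⟨h, hh⟩, ?_⟩
    rw [hφ]
    symm
    rw [hπ]
    exact hlh

/-- In the TI–Hall situation with Wielandt kernel `N`, there is an `H`-invariant `p`-subgroup of
`N` not contained in `K₀ = N ∩ M`. -/
theorem exists_invariant_pgroup {G : Type u} [Group G] [Finite G]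
    (H M K₀ N : Subgroup G) (n : ℕ) [hNn : N.Normal]
    (hHM : H ≤ M)
    (hTI : ∀ g x : G, x ∈ H → x ≠ 1 → g * x * g⁻¹ ∈ H → g ∈ M)
    (hcop : (Nat.card H).Coprime n) (hpow : ∀ x ∈ M, x ^ n ∈ H)
    (hW : WielandtHyp M K₀) (hNM : N ⊓ M = K₀) (hNH : N ⊓ H = ⊥)
    (hcard : Nat.card N * Nat.card H = Nat.card G)
    (hout : ∀ x : G, x ∉ N → ∃ y : G, y⁻¹ * x * y ∈ M)
    (hMne : M ≠ ⊤) :
    ∃ (p : ℕ) (_ : Fact p.Prime) (R : Subgroup G), IsPGroup p R ∧ R ≤ N ∧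
      (∀ h ∈ H, ∀ r ∈ R, h * r * h⁻¹ ∈ R) ∧ ¬ R ≤ K₀ := by
  classical
  have hK₀N : K₀ ≤ N := hNM ▸ inf_le_left
  -- coprimality
  have hcopI : (Nat.card H).Coprime H.index := coprime_index_of_ti H M n hTI hcop hpow
  have hidx : H.index = Nat.card N := by
    have h1 := H.card_mul_index
    have hpos : 0 < Nat.card H := Nat.card_pos
    rw [← hcard, mul_comm (Nat.card N)] at h1
    exact Nat.eq_of_mul_eq_mul_left hpos h1
  have hcopN : (Nat.card H).Coprime (Nat.card N) := hidx ▸ hcopI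
  have hNidx : N.index = Nat.card H := by
    have h1 := N.card_mul_index
    have hpos : 0 < Nat.card N := Nat.card_pos
    rw [← hcard] at h1
    exact Nat.eq_of_mul_eq_mul_left hpos h1
  have hcompl : N.IsComplement' H :=
    Subgroup.isComplement'_of_card_mul_and_disjoint hcard (disjoint_iff.mpr hNH)
  have hsup : N ⊔ H = ⊤ := hcompl.sup_eq_top
  have hNK : ¬ N ≤ K₀ := by
    intro h
    apply hMne
    rw [eq_top_iff, ← hsup]
    exact sup_le (h.trans hW.le) hHM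
  have hrel : K₀.relIndex N ≠ 1 := fun h => hNK (Subgroup.relIndex_eq_one.mp h)
  obtain ⟨p, hp, hpd⟩ := Nat.exists_prime_and_dvd hrel
  haveI : Fact p.Prime := ⟨hp⟩
  obtain ⟨P⟩ : Nonempty (Sylow p N) := inferInstance
  set R₁ : Subgroup G := (P : Subgroup N).map N.subtype with hR₁
  have hfrat : Subgroup.normalizer (R₁ : Set G) ⊔ N = ⊤ := Sylow.normalizer_sup_eq_top P
  set G₁ := Subgroup.normalizer (R₁ : Set G) with hG₁
  have hR₁N : R₁ ≤ N := Subgroup.map_subtype_le _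
  have hR₁card : Nat.card R₁ = p ^ (Nat.card N).factorization p := by
    rw [hR₁, Subgroup.card_map_of_injective N.subtype_injective, P.card_eq_multiplicity]
  have hR₁p : IsPGroup p R₁ := P.2.map N.subtype
  -- Schur–Zassenhaus in `G₁`
  have hN₁idx : (N.subgroupOf G₁).index = Nat.card H := by
    change N.relIndex G₁ = _
    rw [← Subgroup.relIndex_sup_left, sup_comm, hfrat, Subgroup.relIndex_top_right, hNidx]
  have hN₁card : Nat.card (N.subgroupOf G₁) ∣ Nat.card N := by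
    rw [← Subgroup.card_map_of_injective G₁.subtype_injective, Subgroup.subgroupOf_map_subtype]
    exact Subgroup.card_dvd_of_le inf_le_left
  have hcop₁ : (Nat.card (N.subgroupOf G₁)).Coprime (N.subgroupOf G₁).index := by
    rw [hN₁idx]
    exact Nat.Coprime.coprime_dvd_left hN₁card hcopN.symm
  obtain ⟨B₁, hB₁⟩ := Subgroup.exists_right_complement'_of_coprime hcop₁
  set B : Subgroup G := B₁.map G₁.subtype with hB
  have hBG₁ : B ≤ G₁ := Subgroup.map_subtype_le _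
  have hBcard : Nat.card B = Nat.card H := by
    rw [hB, Subgroup.card_map_of_injective G₁.subtype_injective, ← hN₁idx]
    exact hB₁.symm.index_eq_card.symm
  have hBN1 : ∀ x ∈ B, x ∈ N → x = 1 := by
    rintro x ⟨x₁, hx₁, rfl⟩ hxN
    have h1 : x₁ ∈ N.subgroupOf G₁ := Subgroup.mem_subgroupOf.mpr hxN
    have h2 := Subgroup.disjoint_def.mp hB₁.disjoint h1 hx₁
    rw [h2]
    rfl
  -- Step C: conjugate `B` into `M`
  have hfix_iff : ∀ (b : B) (a : G), b • (a : G ⧸ M) = (a : G ⧸ M) ↔ a⁻¹ * (b : G) * a ∈ M := by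
    intro b a
    change (((b : G) * a : G) : G ⧸ M) = (a : G ⧸ M) ↔ _
    rw [QuotientGroup.eq]
    constructor
    · intro h
      have := M.inv_mem h
      have e : ((↑b * a)⁻¹ * a)⁻¹ = a⁻¹ * (b : G) * a := by group
      rwa [e] at this
    · intro h
      have := M.inv_mem h
      have e : (a⁻¹ * (b : G) * a)⁻¹ = (↑b * a)⁻¹ * a := by group
      rwa [e] at this
  have hexB : ∀ b : B, b ≠ 1 → ∃ ω : G ⧸ M, b • ω = ω := by
    intro b hb
    have hbN : (b : G) ∉ N := fun h => hb (Subtype.ext (hBN1 _ b.2 h))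
    obtain ⟨y, hy⟩ := hout _ hbN
    exact ⟨(y : G ⧸ M), (hfix_iff b y).mpr hy⟩
  have huniqB : ∀ b : B, b ≠ 1 → ∀ ω ω' : G ⧸ M, b • ω = ω → b • ω' = ω' → ω = ω' := by
    intro b hb ω ω' h1 h2
    obtain ⟨a, rfl⟩ := QuotientGroup.mk_surjective ω
    obtain ⟨a', rfl⟩ := QuotientGroup.mk_surjective ω'
    rw [hfix_iff] at h1 h2
    rw [QuotientGroup.eq]
    by_contra hg
    have h3 : (a⁻¹ * a')⁻¹ * (a⁻¹ * (b : G) * a) * (a⁻¹ * a') ∈ M := by
      have e : (a⁻¹ * a')⁻¹ * (a⁻¹ * (b : G) * a) * (a⁻¹ * a') = a'⁻¹ * (b : G) * a' := by group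
      rw [e]
      exact h2
    have h4 := hW.inter _ hg _ h1 h3
    have h5 : (b : G) ∈ N := by
      have := hNn.conj_mem _ (hK₀N h4) a
      have e : a * (a⁻¹ * (b : G) * a) * a⁻¹ = (b : G) := by group
      rwa [e] at this
    exact hb (Subtype.ext (hBN1 _ b.2 h5))
  obtain ⟨ω, hω⟩ := exists_fixed_of_unique_fixed hexB huniqB
  obtain ⟨a, rfl⟩ := QuotientGroup.mk_surjective ω
  have ha : ∀ b ∈ B, a⁻¹ * b * a ∈ M := fun b hb => (hfix_iff ⟨b, hb⟩ a).mp (hω ⟨b, hb⟩)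
  have haH : ∀ b ∈ B, a⁻¹ * b * a ∈ H := by
    intro b hb
    apply mem_of_coprime_orderOf hpow (ha b hb)
    have h1 : orderOf (a⁻¹ * b * a) = orderOf b := by
      have e : a⁻¹ * b * a = (MulAut.conj a⁻¹).toMonoidHom b := by
        simp [MulAut.conj_apply]
      rw [e]
      exact orderOf_injective _ (MulAut.conj a⁻¹).injective b
    rw [h1]
    have h2 : orderOf b ∣ Nat.card H := by
      rw [← hBcard]
      exact Subgroup.orderOf_dvd_natCard B hb
    exact Nat.Coprime.coprime_dvd_right h2 hcop.symm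
  -- every element of `H` is of this form
  let ψ : B → H := fun b => ⟨a⁻¹ * (b : G) * a, haH b b.2⟩
  have hψinj : Function.Injective ψ := by
    intro b b' h
    have h1 : a⁻¹ * (b : G) * a = a⁻¹ * (b' : G) * a := congrArg Subtype.val h
    exact Subtype.ext (mul_left_cancel (mul_right_cancel h1))
  have hψbij : Function.Bijective ψ := hψinj.bijective_of_nat_card_le hBcard.ge
  have hHform : ∀ h ∈ H, ∃ b ∈ B, a⁻¹ * b * a = h := by
    intro h hh
    obtain ⟨b, hb⟩ := hψbij.2 ⟨h, hh⟩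
    exact ⟨b, b.2, congrArg Subtype.val hb⟩
  -- the conjugate of `R₁`
  set R : Subgroup G := R₁.map (MulAut.conj a⁻¹).toMonoidHom with hR
  have hRmem : ∀ y, y ∈ R ↔ a * y * a⁻¹ ∈ R₁ := by
    intro y
    rw [hR, Lib.H20.mem_map_conj_iff, inv_inv]
  have hRcard : Nat.card R = p ^ (Nat.card N).factorization p := by
    rw [hR, Subgroup.card_map_of_injective (MulAut.conj a⁻¹).injective, hR₁card]
  refine ⟨p, ‹_›, R, hR₁p.map _, ?_, ?_, ?_⟩
  · intro y hy
    rw [hRmem] at hy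
    have := hNn.conj_mem _ (hR₁N hy) a⁻¹
    have e : a⁻¹ * (a * y * a⁻¹) * a⁻¹⁻¹ = y := by group
    rwa [e] at this
  · intro h hh r hr
    obtain ⟨b, hb, rfl⟩ := hHform h hh
    rw [hRmem] at hr ⊢
    have hbn := hBG₁ hb
    rw [hG₁, Subgroup.mem_normalizer_iff] at hbn
    have e : a * (a⁻¹ * b * a * r * (a⁻¹ * b * a)⁻¹) * a⁻¹ = b * (a * r * a⁻¹) * b⁻¹ := by group
    rw [e]
    exact (hbn _).mp hr
  · intro hRK
    have h1 : Nat.card R ∣ Nat.card K₀ := Subgroup.card_dvd_of_le hRK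
    have h2 : Nat.card K₀ * K₀.relIndex N = Nat.card N := by
      have := Subgroup.relIndex_mul_relIndex (⊥ : Subgroup G) K₀ N bot_le hK₀N
      rwa [Subgroup.relIndex_bot_left, Subgroup.relIndex_bot_left] at this
    have h3 : p ^ ((Nat.card N).factorization p + 1) ∣ Nat.card N := by
      have h4 := Nat.mul_dvd_mul h1 hpd
      rw [h2] at h4
      rw [pow_succ, ← hRcard]
      exact h4
    exact Nat.pow_succ_factorization_not_dvd Nat.card_pos.ne' hp h3

end Cfsg.Agent.Lib.H18
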