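import Cfsg.Agent.Lib.H18.PGroupFixed

/-!
# Fixed vectors of small modules for groups with a `p`-subgroup acting freely (helper18)

Main result `fixed_of_free`: `P ≤ H ≤ G`, `P` a `p`-group such that no nonidentity element of `P`
fixes a coset `g H` with `g ∉ H` (e.g. `P` a TI Sylow `p`-subgroup and `H ≥ N_G(P)`), `τ` a complex
representation of `G`, `M0` a `G`-stable subspace with `dim M0 < |P|`.  Then every `H`-fixed vector
of `M0` is `G`-fixed.  Proof: double coset decomposition `∑_g g v = |H| (v + σ u)`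
(`exists_decomp`), a valuation subring `B` of `ℂ` with `p` a nonunit (`exists_valuationSubring`),
the socle of `(B/𝔪)[P]` (`PFixed.exists_conv_eq_one`) giving `σ u ∈ 𝔪 Λ` (`sum_mem_smul`), and
Nakayama's lemma.
-/

set_option autoImplicit false

namespace Cfsg.Agent.Lib.H18.TIInv

open Cfsg.Agent.Lib.H18.PFixed

/-- a valuation subring of `ℂ` in which the prime `p` is not a unit. -/
theorem exists_valuationSubring (p : ℕ) (hp : p.Prime) :
    ∃ B : ValuationSubring ℂ, (p : ℂ) ∈ B.nonunits := by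
  set A : Subring ℂ := (Int.castRingHom ℂ).range with hA
  have hpA : (p : ℂ) ∈ A := ⟨(p : ℤ), by simp⟩
  set I : Ideal ↥A := Ideal.span {(⟨(p : ℂ), hpA⟩ : ↥A)} with hI
  have hne : I ≠ ⊤ := by
    intro h
    rw [Ideal.eq_top_iff_one, hI, Ideal.mem_span_singleton'] at h
    obtain ⟨⟨z, n, rfl⟩, hz⟩ := h
    have h1 := congrArg Subtype.val hz
    simp only [Subring.coe_mul, Subring.coe_one] at h1
    have h2 : ((n * (p : ℤ) : ℤ) : ℂ) = ((1 : ℤ) : ℂ) := by
      push_cast
      simpa using h1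
    have h3 : n * (p : ℤ) = 1 := by exact_mod_cast h2
    have h4 : (p : ℤ) ∣ 1 := ⟨n, by rw [mul_comm]; exact h3.symm⟩
    have h5 : p ∣ 1 := by exact_mod_cast h4
    exact hp.one_lt.ne' (Nat.dvd_one.mp h5)
  obtain ⟨B, -, hB⟩ := Ideal.image_subset_nonunits_valuationSubring I hne
  refine ⟨B, hB ⟨⟨(p : ℂ), hpA⟩, ?_, rfl⟩⟩
  exact Ideal.subset_span rfl

/-- if the translates `τ x u` (`x ∈ P`) of a vector of a `P`-stable `B`-lattice `Λ` are linearly
dependent, then their sum lies in `𝔪 Λ`. -/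
theorem sum_mem_smul (p : ℕ) [hp : Fact p.Prime] (B : ValuationSubring ℂ)
    (hpB : (p : ℂ) ∈ B.nonunits) {P : Type*} [Group P] [Fintype P] (hP : IsPGroup p P)
    {M : Type*} [AddCommGroup M] [Module ℂ M] (τ : Representation ℂ P M) (Λ : Submodule ↥B M)
    (hΛ : ∀ x : P, ∀ m ∈ Λ, τ x m ∈ Λ) (u : M) (hu : u ∈ Λ) (a : P → ℂ) (x1 : P)
    (ha1 : a x1 ≠ 0) (hrel : ∑ x : P, a x • τ x u = 0) :
    ∑ x : P, τ x u ∈ (IsLocalRing.maximalIdeal ↥B) • Λ := by
  classical
  obtain ⟨x0, -, hx0⟩ := Finset.exists_max_image Finset.univ (fun x => B.valuation (a x))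
    ⟨x1, Finset.mem_univ x1⟩
  have hval1 : B.valuation (a x1) ≠ 0 := (Valuation.ne_zero_iff _).mpr ha1
  have hval0 : B.valuation (a x0) ≠ 0 := by
    intro h
    have := hx0 x1 (Finset.mem_univ x1)
    rw [h] at this
    exact hval1 (le_zero_iff.mp this)
  have ha0 : a x0 ≠ 0 := (Valuation.ne_zero_iff _).mp hval0
  have hmem : ∀ x : P, a x / a x0 ∈ B := by
    intro x
    rw [← B.valuation_le_one_iff, map_div₀]
    exact (div_le_one₀ (zero_lt_iff.mpr hval0)).mpr (hx0 x (Finset.mem_univ x))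
  set a' : P → ↥B := fun x => ⟨a x / a x0, hmem x⟩ with ha'
  have ha'0 : a' x0 = 1 := Subtype.ext (div_self ha0)
  have hsm : ∀ (c : ↥B) (m : M), c • m = (c : ℂ) • m := fun _ _ => rfl
  have hrel' : ∑ x : P, a' x • τ x u = 0 := by
    have : ∑ x : P, a' x • τ x u = (a x0)⁻¹ • ∑ x : P, a x • τ x u := by
      rw [Finset.smul_sum]
      refine Finset.sum_congr rfl fun x _ => ?_
      rw [hsm, smul_smul]
      congr 1
      show a x / a x0 = (a x0)⁻¹ * a x
      rw [div_eq_mul_inv, mul_comm]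
    rw [this, hrel, smul_zero]
  obtain ⟨hpmem, hpmax⟩ := ValuationSubring.mem_nonunits_iff_exists_mem_maximalIdeal.mp hpB
  have hpm : ((p : ℕ) : ↥B) ∈ IsLocalRing.maximalIdeal ↥B := by
    have : ((p : ℕ) : ↥B) = ⟨(p : ℂ), hpmem⟩ := by
      apply Subtype.ext
      simp
    rw [this]
    exact hpmax
  have hmax : (IsLocalRing.maximalIdeal ↥B).IsMaximal := IsLocalRing.maximalIdeal.isMaximal _
  have ha'x0 : a' x0 ∉ IsLocalRing.maximalIdeal ↥B := by
    rw [ha'0]
    exact (Ideal.ne_top_iff_one _).mp hmax.ne_top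
  obtain ⟨b, hb⟩ := exists_conv_eq_one (IsLocalRing.maximalIdeal ↥B) p hpm hP a' x0 ha'x0
  set mm : P → ↥B := fun y => (∑ x : P, b x * a' (x⁻¹ * y)) - 1 with hmm
  have hτsm : ∀ (x : P) (c : ↥B) (m : M), τ x (c • m) = c • τ x m := by
    intro x c m
    rw [hsm, hsm, map_smul]
  have h1 : ∑ y : P, (∑ x : P, b x * a' (x⁻¹ * y)) • τ y u = 0 := by
    calc ∑ y : P, (∑ x : P, b x * a' (x⁻¹ * y)) • τ y u
        = ∑ y : P, ∑ x : P, (b x * a' (x⁻¹ * y)) • τ y u := by
          refine Finset.sum_congr rfl fun y _ => ?_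
          rw [Finset.sum_smul]
      _ = ∑ x : P, ∑ y : P, (b x * a' (x⁻¹ * y)) • τ y u := Finset.sum_comm
      _ = ∑ x : P, b x • τ x (∑ z : P, a' z • τ z u) := by
          refine Finset.sum_congr rfl fun x _ => ?_
          rw [map_sum, Finset.smul_sum, ← Equiv.sum_comp (Equiv.mulLeft x)]
          refine Finset.sum_congr rfl fun z _ => ?_
          rw [Equiv.coe_mulLeft, inv_mul_cancel_left, mul_smul, hτsm, map_mul]
          rfl
      _ = 0 := by
          rw [hrel']
          simp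
  have h2 : ∀ y : P, τ y u = (∑ x : P, b x * a' (x⁻¹ * y)) • τ y u - mm y • τ y u := by
    intro y
    rw [← sub_smul, hmm]
    simp
  have key : ∑ y : P, τ y u = - ∑ y : P, mm y • τ y u := by
    rw [Finset.sum_congr rfl (fun y _ => h2 y), Finset.sum_sub_distrib, h1, zero_sub]
  rw [key]
  apply Submodule.neg_mem
  apply Submodule.sum_mem
  intro y _
  exact Submodule.smul_mem_smul (hb y) (hΛ y u hu)

/-- double coset decomposition of `∑ g, τ g v` for an `H`-fixed vector `v`, when `P ≤ H` acts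
freely on the cosets `g H`, `g ∉ H`. -/
theorem exists_decomp {G : Type*} [Group G] [Fintype G] (P H : Subgroup G) (hPH : P ≤ H)
    (hfree : ∀ g : G, g ∉ H → ∀ x ∈ P, g⁻¹ * x * g ∈ H → x = 1)
    {M : Type*} [AddCommGroup M] [Module ℂ M] (τ : Representation ℂ G M) (v : M)
    (hvH : ∀ h ∈ H, τ h v = v) [Fintype P] :
    ∃ T : Finset G, ∑ g : G, τ g v =
      (Nat.card H : ℂ) • (v + ∑ x : P, τ (x : G) (∑ g ∈ T, τ g v)) := by
  classical
  have hstab : ∀ (a : P × H) (g : G), g ∉ H → (a.1 : G) * g * (a.2 : G)⁻¹ ∉ H := by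
    intro a g hg hmem
    apply hg
    have := H.mul_mem (H.mul_mem (H.inv_mem (hPH a.1.2)) hmem) a.2.2
    simpa [mul_assoc] using this
  let _ : MulAction (P × H) {g : G // g ∉ H} :=
    { smul := fun a g => ⟨(a.1 : G) * g * (a.2 : G)⁻¹, hstab a g g.2⟩
      one_smul := by
        intro g
        apply Subtype.ext
        show ((1 : P × H).1 : G) * g * ((1 : P × H).2 : G)⁻¹ = g
        simp
      mul_smul := by
        intro a a' g
        apply Subtype.ext
        show ((a * a').1 : G) * g * ((a * a').2 : G)⁻¹ =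
          (a.1 : G) * ((a'.1 : G) * g * (a'.2 : G)⁻¹) * (a.2 : G)⁻¹
        simp [mul_assoc] }
  have hsmul : ∀ (a : P × H) (g : {g : G // g ∉ H}),
      ((a • g : {g : G // g ∉ H}) : G) = (a.1 : G) * g * (a.2 : G)⁻¹ := fun _ _ => rfl
  have hfree' : ∀ (a : P × H) (g : {g : G // g ∉ H}), a • g = g → a = 1 := by
    intro a g h
    have h1 := congrArg Subtype.val h
    rw [hsmul] at h1
    have h2 : (g : G)⁻¹ * (a.1 : G) * g = a.2 := by
      have : (a.1 : G) * g = g * a.2 := by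
        nth_rewrite 2 [← h1]
        group
      rw [mul_assoc, this]
      group
    have h3 : (a.1 : G) = 1 := hfree g g.2 a.1 a.1.2 (h2 ▸ a.2.2)
    have h4 : (a.2 : G) = 1 := by
      rw [← h2, h3]
      group
    exact Prod.ext (Subtype.ext h3) (Subtype.ext h4)
  set Ω := MulAction.orbitRel.Quotient (P × H) {g : G // g ∉ H} with hΩ
  have : Fintype Ω := Fintype.ofFinite _
  set φ : Ω → {g : G // g ∉ H} := Quotient.out with hφ
  have hφmk : ∀ ω : Ω, (Quotient.mk'' (φ ω) : Ω) = ω := fun ω => Quotient.out_eq' ω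
  set Ψ : Ω × (P × H) → {g : G // g ∉ H} := fun q => q.2 • φ q.1 with hΨ
  have hΨbij : Function.Bijective Ψ := by
    constructor
    · rintro ⟨ω, a⟩ ⟨ω', a'⟩ h
      have h' : a • φ ω = a' • φ ω' := h
      have hω : ω = ω' := by
        rw [← hφmk ω, ← hφmk ω']
        apply Quotient.sound'
        rw [MulAction.orbitRel_apply]
        refine ⟨a⁻¹ * a', ?_⟩
        show (a⁻¹ * a') • φ ω' = φ ω
        rw [mul_smul, ← h', inv_smul_smul]
      subst hω
      have h2 : (a'⁻¹ * a) • φ ω = φ ω := by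
        rw [mul_smul, h', inv_smul_smul]
      have h3 := hfree' _ _ h2
      have h4 : a = a' := by
        have := congrArg (fun t => a' * t) h3
        simpa using this
      rw [h4]
    · intro b
      have h1 : (Quotient.mk'' (φ (Quotient.mk'' b)) : Ω) = Quotient.mk'' b := hφmk _
      have h2 := Quotient.exact' h1
      rw [MulAction.orbitRel_apply] at h2
      obtain ⟨a, ha⟩ := h2
      have ha' : a • b = φ (Quotient.mk'' b) := ha
      refine ⟨(Quotient.mk'' b, a⁻¹), ?_⟩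
      show a⁻¹ • φ (Quotient.mk'' b) = b
      rw [← ha', inv_smul_smul]
  refine ⟨Finset.univ.image (fun ω : Ω => ((φ ω : {g : G // g ∉ H}) : G)), ?_⟩
  have hinj : Function.Injective (fun ω : Ω => ((φ ω : {g : G // g ∉ H}) : G)) := by
    intro ω ω' h
    have h1 : φ ω = φ ω' := Subtype.ext h
    rw [← hφmk ω, ← hφmk ω', h1]
  rw [Finset.sum_image (fun a _ b _ h => hinj h)]
  have hsplit := Fintype.sum_subtype_add_sum_subtype (fun g : G => g ∈ H) (fun g : G => τ g v)
  rw [← hsplit]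
  have hfirst : ∑ g : {g : G // g ∈ H}, τ (g : G) v = (Nat.card H : ℂ) • v := by
    rw [Finset.sum_congr rfl (fun (g : {g : G // g ∈ H}) _ => hvH (g : G) g.2), Finset.sum_const, Finset.card_univ,
      Nat.card_eq_fintype_card]
    rw [← Nat.cast_smul_eq_nsmul ℂ]
  have hsecond : ∑ g : {g : G // g ∉ H}, τ (g : G) v =
      (Nat.card H : ℂ) • ∑ x : P, τ (x : G) (∑ ω : Ω, τ ((φ ω : {g : G // g ∉ H}) : G) v) := by
    rw [← hΨbij.sum_comp (fun g : {g : G // g ∉ H} => τ (g : G) v), Fintype.sum_prod_type]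
    have hinner : ∀ ω : Ω, ∑ a : P × H, τ ((Ψ (ω, a) : {g : G // g ∉ H}) : G) v =
        (Nat.card H : ℂ) • ∑ x : P, τ (x : G) (τ ((φ ω : {g : G // g ∉ H}) : G) v) := by
      intro ω
      rw [Fintype.sum_prod_type, Finset.smul_sum]
      refine Finset.sum_congr rfl fun x _ => ?_
      have : ∀ h : H, τ ((Ψ (ω, (x, h)) : {g : G // g ∉ H}) : G) v =
          τ (x : G) (τ ((φ ω : {g : G // g ∉ H}) : G) v) := by
        intro h
        show τ ((x : G) * (φ ω : G) * (h : G)⁻¹) v = _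
        rw [map_mul, map_mul, Module.End.mul_apply, Module.End.mul_apply,
          hvH _ (H.inv_mem h.2)]
      rw [Finset.sum_congr rfl (fun h _ => this h), Finset.sum_const, Finset.card_univ,
        Nat.card_eq_fintype_card, ← Nat.cast_smul_eq_nsmul ℂ]
    rw [Finset.sum_congr rfl (fun ω _ => hinner ω), ← Finset.smul_sum, Finset.sum_comm]
    congr 1
    refine Finset.sum_congr rfl fun x _ => ?_
    rw [map_sum]
  rw [hfirst, hsecond, smul_add]

/-- the key vanishing statement. -/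
theorem zero_of_sum_zero {G : Type*} [Group G] [Fintype G] (p : ℕ) [hp : Fact p.Prime]
    (P H : Subgroup G) (hP : IsPGroup p P) (hPH : P ≤ H)
    (hfree : ∀ g : G, g ∉ H → ∀ x ∈ P, g⁻¹ * x * g ∈ H → x = 1)
    {M : Type*} [AddCommGroup M] [Module ℂ M] (τ : Representation ℂ G M)
    (M0 : Submodule ℂ M) [FiniteDimensional ℂ M0] (hM0 : ∀ g : G, ∀ m ∈ M0, τ g m ∈ M0)
    (hdim : Module.finrank ℂ M0 < Nat.card P) (v : M) (hv0 : v ∈ M0)
    (hvH : ∀ h ∈ H, τ h v = v) (hsum : ∑ g : G, τ g v = 0) : v = 0 := by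
  classical
  have : Fintype P := Fintype.ofFinite P
  obtain ⟨B, hpB⟩ := exists_valuationSubring p hp.out
  obtain ⟨T, hT⟩ := exists_decomp P H hPH hfree τ v hvH
  set u : M := ∑ g ∈ T, τ g v with hu
  have hHne : (Nat.card H : ℂ) ≠ 0 := by exact_mod_cast (Nat.card_pos (α := H)).ne'
  have hv : v = - ∑ x : P, τ (x : G) u := by
    rw [hsum] at hT
    have := (smul_eq_zero.mp hT.symm).resolve_left hHne
    exact eq_neg_of_add_eq_zero_left this
  set Λ : Submodule ↥B M := Submodule.span ↥B (Set.range (fun g : G => τ g v)) with hΛ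
  have hsm : ∀ (c : ↥B) (m : M), c • m = (c : ℂ) • m := fun _ _ => rfl
  have hτsm : ∀ (g : G) (c : ↥B) (m : M), τ g (c • m) = c • τ g m := by
    intro g c m
    rw [hsm, hsm, map_smul]
  have hΛst : ∀ g : G, ∀ m ∈ Λ, τ g m ∈ Λ := by
    intro g m hm
    induction hm using Submodule.span_induction with
    | mem m hm =>
      obtain ⟨y, rfl⟩ := hm
      apply Submodule.subset_span
      exact ⟨g * y, by simp [map_mul]⟩
    | zero => rw [map_zero]; exact Λ.zero_mem
    | add a b _ _ ha hb => rw [map_add]; exact Λ.add_mem ha hb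
    | smul c m _ hm => rw [hτsm]; exact Λ.smul_mem _ hm
  have huΛ : u ∈ Λ := Submodule.sum_mem _ (fun g _ => Submodule.subset_span ⟨g, rfl⟩)
  have hΛM0 : ∀ m ∈ Λ, m ∈ M0 := by
    intro m hm
    induction hm using Submodule.span_induction with
    | mem m hm =>
      obtain ⟨y, rfl⟩ := hm
      exact hM0 y v hv0
    | zero => exact M0.zero_mem
    | add a b _ _ ha hb => exact M0.add_mem ha hb
    | smul c m _ hm => rw [hsm]; exact M0.smul_mem _ hm
  have hdep : ∃ a : P → ℂ, (∑ x : P, a x • τ (x : G) u = 0) ∧ ∃ x1, a x1 ≠ 0 := by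
    have hu0 : ∀ x : P, τ (x : G) u ∈ M0 := fun x => hM0 _ _ (hΛM0 u huΛ)
    have hnli : ¬ LinearIndependent ℂ (fun x : P => (⟨τ (x : G) u, hu0 x⟩ : M0)) := by
      intro hli
      have := hli.fintype_card_le_finrank
      rw [← Nat.card_eq_fintype_card] at this
      omega
    rw [Fintype.not_linearIndependent_iff] at hnli
    obtain ⟨a, ha, x1, hx1⟩ := hnli
    refine ⟨a, ?_, x1, hx1⟩
    have := congrArg (Subtype.val) ha
    simpa using this
  obtain ⟨a, harel, x1, hx1⟩ := hdep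
  have hmem := sum_mem_smul p B hpB (P := ↥P) hP (τ.comp P.subtype) Λ
    (fun x m hm => hΛst x m hm) u huΛ a x1 hx1 harel
  have hvm : v ∈ (IsLocalRing.maximalIdeal ↥B) • Λ := by
    rw [hv]
    exact Submodule.neg_mem _ hmem
  have hmst : ∀ g : G, ∀ m ∈ (IsLocalRing.maximalIdeal ↥B) • Λ,
      τ g m ∈ (IsLocalRing.maximalIdeal ↥B) • Λ := by
    intro g m hm
    refine Submodule.smul_induction_on hm ?_ ?_
    · intro r hr n hn
      rw [hτsm]
      exact Submodule.smul_mem_smul hr (hΛst g n hn)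
    · intro x y hx hy
      rw [map_add]
      exact Submodule.add_mem _ hx hy
  have hle : Λ ≤ (IsLocalRing.maximalIdeal ↥B) • Λ := by
    rw [hΛ, Submodule.span_le]
    rintro _ ⟨g, rfl⟩
    exact hmst g v hvm
  have hfg : Λ.FG := Submodule.fg_span (Set.finite_range _)
  have hbot := Submodule.eq_bot_of_le_smul_of_le_jacobson_bot _ Λ hfg hle
    (by rw [IsLocalRing.jacobson_eq_maximalIdeal ⊥ bot_ne_top])
  have hvΛ : v ∈ Λ := Submodule.subset_span ⟨1, by simp⟩
  rw [hbot] at hvΛ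
  exact (Submodule.mem_bot _).mp hvΛ

/-- **Invariants of a small module**: `P ≤ H ≤ G`, `P` a `p`-group acting freely on the cosets
`g H` (`g ∉ H`), `M0` a `G`-stable subspace of dimension `< |P|`.  Then every `H`-fixed vector of
`M0` is `G`-fixed. -/
theorem fixed_of_free {G : Type*} [Group G] [Fintype G] (p : ℕ) [hp : Fact p.Prime]
    (P H : Subgroup G) (hP : IsPGroup p P) (hPH : P ≤ H)
    (hfree : ∀ g : G, g ∉ H → ∀ x ∈ P, g⁻¹ * x * g ∈ H → x = 1)
    {M : Type*} [AddCommGroup M] [Module ℂ M] (τ : Representation ℂ G M)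
    (M0 : Submodule ℂ M) [FiniteDimensional ℂ M0] (hM0 : ∀ g : G, ∀ m ∈ M0, τ g m ∈ M0)
    (hdim : Module.finrank ℂ M0 < Nat.card P) (v : M) (hv0 : v ∈ M0)
    (hvH : ∀ h ∈ H, τ h v = v) : ∀ g : G, τ g v = v := by
  classical
  set w : M := ∑ g : G, τ g v with hw
  have hwfix : ∀ g : G, τ g w = w := by
    intro g
    rw [hw, map_sum, ← Equiv.sum_comp (Equiv.mulLeft g) (fun y => τ y v)]
    refine Finset.sum_congr rfl fun y _ => ?_
    rw [Equiv.coe_mulLeft, map_mul]
    rfl
  have hwM0 : w ∈ M0 := Submodule.sum_mem _ (fun g _ => hM0 g v hv0)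
  have hGne : (Nat.card G : ℂ) ≠ 0 := by exact_mod_cast (Nat.card_pos (α := G)).ne'
  set v' : M := (Nat.card G : ℂ) • v - w with hv'
  have hv'0 : v' ∈ M0 := M0.sub_mem (M0.smul_mem _ hv0) hwM0
  have hv'H : ∀ h ∈ H, τ h v' = v' := by
    intro h hh
    rw [hv', map_sub, map_smul, hvH h hh, hwfix]
  have hv'sum : ∑ g : G, τ g v' = 0 := by
    have : ∀ g : G, τ g v' = (Nat.card G : ℂ) • τ g v - w := by
      intro g
      rw [hv', map_sub, map_smul, hwfix]
    rw [Finset.sum_congr rfl (fun g _ => this g), Finset.sum_sub_distrib, ← Finset.smul_sum,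
      Finset.sum_const, Finset.card_univ, ← Nat.card_eq_fintype_card,
      ← Nat.cast_smul_eq_nsmul ℂ, sub_self]
  have hzero := zero_of_sum_zero p P H hP hPH hfree τ M0 hM0 hdim v' hv'0 hv'H hv'sum
  have hvw : v = (Nat.card G : ℂ)⁻¹ • w := by
    have h1 : (Nat.card G : ℂ) • v = w := sub_eq_zero.mp hzero
    rw [← h1, smul_smul, inv_mul_cancel₀ hGne, one_smul]
  intro g
  rw [hvw, map_smul, hwfix]

end Cfsg.Agent.Lib.H18.TIInv
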