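import Cfsg.Agent.Lib.H18.TIInvariants
import Cfsg.Agent.Lib.H19.K2Main
import Cfsg.Agent.Lib.H1.PCore
import Cfsg.Agent.Lib.L0.CharBasic
import Cfsg.Agent.Lib.H23.DegreeDvd

/-!
# Norms of small characters restrict to overgroups of the normalizer of a TI Sylow subgroup
(helper18)

`P` a TI Sylow `p`-subgroup of `G`, `N_G(P) ≤ H`, `χ` a character with `χ(1)² ≤ |P|`.  Then
`⟨χ, χ⟩_G = ⟨χ_H, χ_H⟩_H`.  Proof: both sides are the dimensions of the spaces of invariants of
`G`, resp. `H`, on `End(V)`; writing `End(V) = ℂ ⊕ sl(V)` with `dim sl(V) < |P|`, the `H`-invariants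
of `sl(V)` are `G`-invariant by `TIInv.fixed_of_free`.
-/

set_option autoImplicit false

open scoped Pointwise ComplexConjugate

namespace Cfsg.Agent.Lib.H18.TINorm

open Cfsg Cfsg.Agent.Lib.H18.TIInv

/-- for a TI Sylow `p`-subgroup `P` and `N_G(P) ≤ H`, no nonidentity element of `P` fixes a coset
`g H` with `g ∉ H`. -/
theorem free_of_TI {G : Type*} [Group G] [Finite G] (p : ℕ) [Fact p.Prime] (P : Sylow p G)
    (hTI : ∀ g : G, g ∉ Subgroup.normalizer ((P : Subgroup G) : Set G) →
      (P : Subgroup G) ⊓ (MulAut.conj g • (P : Subgroup G)) = ⊥)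
    (H : Subgroup G) (hH : Subgroup.normalizer ((P : Subgroup G) : Set G) ≤ H) :
    ∀ g : G, g ∉ H → ∀ x ∈ (P : Subgroup G), g⁻¹ * x * g ∈ H → x = 1 := by
  intro g hg x hx hy
  by_contra hx1
  have hPH : (P : Subgroup G) ≤ H := Subgroup.le_normalizer.trans hH
  have hD : IsPGroup p (Subgroup.zpowers (g⁻¹ * x * g)) := by
    have h0 : IsPGroup p (Subgroup.zpowers x) := P.2.to_le (Subgroup.zpowers_le.mpr hx)
    have h1 := h0.map (MulAut.conj g⁻¹).toMonoidHom
    rw [MonoidHom.map_zpowers, MulEquiv.coe_toMonoidHom, MulAut.conj_apply, inv_inv] at h1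
    exact h1
  obtain ⟨c, hc, hcD⟩ := Cfsg.Agent.Lib.H19.K2Main.exists_conj_mem_sylow P hPH
    (Subgroup.zpowers_le.mpr hy) hD
  have h1 : c * (g⁻¹ * x * g) * c⁻¹ ∈ (P : Subgroup G) := hcD _ (Subgroup.mem_zpowers _)
  have h2 : x ∈ MulAut.conj (g * c⁻¹) • (P : Subgroup G) := by
    rw [Cfsg.Agent.Lib.H1.mem_conj_smul_iff]
    convert h1 using 1
    simp [mul_assoc]
  have h3 : g * c⁻¹ ∈ Subgroup.normalizer ((P : Subgroup G) : Set G) := by
    by_contra h
    have h4 := hTI _ h
    have hx' : x ∈ (P : Subgroup G) ⊓ MulAut.conj (g * c⁻¹) • (P : Subgroup G) := ⟨hx, h2⟩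
    rw [h4, Subgroup.mem_bot] at hx'
    exact hx1 hx'
  have h5 : g = (g * c⁻¹) * c := by group
  exact hg (h5 ▸ H.mul_mem (hH h3) hc)

/-- the norm of a character is the dimension of the invariants on `End V`. -/
theorem classInner_self_eq_finrank {G : Type*} [Group G] [Fintype G] {n : ℕ}
    (ρ : Representation ℂ G (Fin n → ℂ)) :
    classInner ρ.character ρ.character
      = (Module.finrank ℂ (Representation.invariants (Representation.linHom ρ ρ)) : ℂ) := by
  have hne : (Nat.card G : ℂ) ≠ 0 := by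
    exact_mod_cast Nat.card_pos.ne'
  let _ : Invertible (Nat.card G : ℂ) := invertibleOfNonzero hne
  rw [← Representation.card_inv_mul_sum_char_eq_finrank]
  unfold classInner
  congr 1
  refine Finset.sum_congr rfl fun g _ => ?_
  rw [Representation.char_linHom, Cfsg.Agent.Lib.L0.char_inv, mul_comm]

/-- the space of trace zero endomorphisms. -/
theorem invariants_eq {G : Type*} [Group G] [Fintype G] (p : ℕ) [Fact p.Prime] (P : Sylow p G)
    (hTI : ∀ g : G, g ∉ Subgroup.normalizer ((P : Subgroup G) : Set G) →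
      (P : Subgroup G) ⊓ (MulAut.conj g • (P : Subgroup G)) = ⊥)
    {n : ℕ} (ρ : Representation ℂ G (Fin n → ℂ)) (hdeg : n ^ 2 ≤ Nat.card ↥(P : Subgroup G))
    (H : Subgroup G) (hH : Subgroup.normalizer ((P : Subgroup G) : Set G) ≤ H)
    (f : (Fin n → ℂ) →ₗ[ℂ] (Fin n → ℂ))
    (hf : ∀ h ∈ H, Representation.linHom ρ ρ h f = f) :
    ∀ g : G, Representation.linHom ρ ρ g f = f := by
  rcases Nat.eq_zero_or_pos n with hn | hn
  · subst hn
    intro g
    exact LinearMap.ext fun x => Subsingleton.elim _ _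
  set V := Fin n → ℂ with hV
  set τ := Representation.linHom ρ ρ with hτ
  have hnC : (n : ℂ) ≠ 0 := by exact_mod_cast hn.ne'
  have hid : ∀ g : G, τ g LinearMap.id = LinearMap.id := by
    intro g
    rw [hτ, Representation.linHom_apply, LinearMap.id_comp]
    change ρ g * ρ g⁻¹ = 1
    rw [← map_mul, mul_inv_cancel, map_one]
  have htr : ∀ (g : G) (m : V →ₗ[ℂ] V), LinearMap.trace ℂ V (τ g m) = LinearMap.trace ℂ V m := by
    intro g m
    rw [hτ, Representation.linHom_apply]
    change LinearMap.trace ℂ V (ρ g * (m * ρ g⁻¹)) = _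
    rw [LinearMap.trace_mul_comm, mul_assoc, ← map_mul, inv_mul_cancel, map_one, mul_one]
  have htrid : LinearMap.trace ℂ V LinearMap.id = (n : ℂ) := by
    have := LinearMap.trace_one ℂ V
    rw [Module.finrank_fin_fun] at this
    exact this
  set M0 : Submodule ℂ (V →ₗ[ℂ] V) := LinearMap.ker (LinearMap.trace ℂ V) with hM0
  have hM0stable : ∀ g : G, ∀ m ∈ M0, τ g m ∈ M0 := by
    intro g m hm
    rw [hM0, LinearMap.mem_ker] at hm ⊢
    rw [htr, hm]
  have hdim : Module.finrank ℂ M0 < Nat.card ↥(P : Subgroup G) := by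
    refine lt_of_lt_of_le ?_ hdeg
    have h1 : Module.finrank ℂ (V →ₗ[ℂ] V) = n ^ 2 := by
      rw [Module.finrank_linearMap, Module.finrank_fin_fun, sq]
    rw [← h1]
    refine Submodule.finrank_lt ?_
    intro htop
    have : (LinearMap.id : V →ₗ[ℂ] V) ∈ M0 := by rw [htop]; trivial
    rw [hM0, LinearMap.mem_ker, htrid] at this
    exact hnC this
  set c : ℂ := LinearMap.trace ℂ V f / n with hc
  set f0 : V →ₗ[ℂ] V := f - c • LinearMap.id with hf0
  have hf0mem : f0 ∈ M0 := by
    rw [hM0, LinearMap.mem_ker, hf0, map_sub, map_smul, htrid, hc, smul_eq_mul,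
      div_mul_cancel₀ _ hnC, sub_self]
  have hf0H : ∀ h ∈ H, τ h f0 = f0 := by
    intro h hh
    rw [hf0, map_sub, map_smul, hid, hf h hh]
  have hfree := free_of_TI p P hTI H hH
  have hPH : (P : Subgroup G) ≤ H := Subgroup.le_normalizer.trans hH
  have key := fixed_of_free p (P : Subgroup G) H P.2 hPH hfree τ M0 hM0stable hdim f0 hf0mem hf0H
  intro g
  have h1 : f = f0 + c • LinearMap.id := by rw [hf0]; abel
  rw [h1, map_add, map_smul, hid, key g]

theorem classInner_restrict {G : Type*} [Group G] [Fintype G] (p : ℕ) [Fact p.Prime]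
    (P : Sylow p G)
    (hTI : ∀ g : G, g ∉ Subgroup.normalizer ((P : Subgroup G) : Set G) →
      (P : Subgroup G) ⊓ (MulAut.conj g • (P : Subgroup G)) = ⊥)
    (χ : G → ℂ) (hχ : IsCharacter G χ)
    (hdeg : charDegree χ ^ 2 ≤ Nat.card ↥(P : Subgroup G)) (H : Subgroup G) [Fintype ↥H]
    (hH : Subgroup.normalizer ((P : Subgroup G) : Set G) ≤ H) :
    classInner χ χ = classInner (fun h : ↥H => χ h) (fun h : ↥H => χ h) := by
  obtain ⟨n, ρ, rfl⟩ := hχ
  have hdeg' : n ^ 2 ≤ Nat.card ↥(P : Subgroup G) := by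
    have h1 : ρ.character 1 = (n : ℂ) := by
      rw [Representation.char_one, Module.finrank_fin_fun]
    rwa [Cfsg.Agent.Lib.H23.charDegree_eq_of_apply_one h1] at hdeg
  set ρH : Representation ℂ ↥H (Fin n → ℂ) := ρ.comp H.subtype with hρH
  have hres : (fun h : ↥H => ρ.character h) = ρH.character := by
    funext h
    rfl
  rw [hres, classInner_self_eq_finrank, classInner_self_eq_finrank]
  have hinv : Representation.invariants (Representation.linHom ρ ρ)
      = Representation.invariants (Representation.linHom ρH ρH) := by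
    ext f
    rw [Representation.mem_invariants, Representation.mem_invariants]
    constructor
    · intro hf h
      exact hf h
    · intro hf g
      exact invariants_eq p P hTI ρ hdeg' H hH f (fun h hh => hf ⟨h, hh⟩) g
  rw [hinv]

end Cfsg.Agent.Lib.H18.TINorm
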