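import Mathlib
import Cfsg.Agent.Lib.H26.TMXDefs

/-!
# S4383 piece ONECLASS (helper26's farm-out): one conjugacy class of maximal subgroups
-/

set_option autoImplicit false
open Pointwise

namespace Cfsg.Agent.Lib.H18.TMX

open Cfsg.Agent.Lib.H26.TMX

universe u
variable {G : Type u} [Group G] [Finite G]

theorem index_conj_smul (g : G) (M : Subgroup G) : (MulAut.conj g • M).index = M.index := by
  have h1 : Nat.card ↥(MulAut.conj g • M) = Nat.card ↥M :=
    Nat.card_congr (Subgroup.equivSMul (MulAut.conj g) M).toEquiv.symm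
  have h2 := (MulAut.conj g • M).card_mul_index
  have h3 := M.card_mul_index
  rw [h1, ← h3] at h2
  exact Nat.eq_of_mul_eq_mul_left Nat.card_pos h2

/-- ONECLASS: a finite group with a single conjugacy class of maximal subgroups is a `p`-group. -/
theorem exists_isPGroup_of_one_class (M : Subgroup G) (hM : IsCoatom M)
    (hall : ∀ K : Subgroup G, IsCoatom K → ∃ g : G, K = MulAut.conj g • M) :
    ∃ p : ℕ, p.Prime ∧ IsPGroup p G := by
  have hidx : M.index ≠ 1 := by
    intro h
    exact hM.1 (Subgroup.index_eq_one.1 h)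
  obtain ⟨p, hp, hpd⟩ := Nat.exists_prime_and_dvd hidx
  haveI : Fact p.Prime := ⟨hp⟩
  refine ⟨p, hp, ?_⟩
  obtain ⟨P⟩ : Nonempty (Sylow p G) := inferInstance
  by_cases hP : (P : Subgroup G) = ⊤
  · have := P.isPGroup'
    rw [hP] at this
    exact IsPGroup.of_equiv this Subgroup.topEquiv
  · exfalso
    obtain ⟨K, hK, hPK⟩ := (eq_top_or_exists_le_coatom (P : Subgroup G)).resolve_left hP
    obtain ⟨g, rfl⟩ := hall K hK
    have h1 : (MulAut.conj g • M).index ∣ (P : Subgroup G).index := Subgroup.index_dvd_of_le hPK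
    rw [index_conj_smul] at h1
    exact P.not_dvd_index (hpd.trans h1)

end Cfsg.Agent.Lib.H18.TMX
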