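import Mathlib
import Cfsg.Agent.Lib.H26.TMXDefs

/-!
# S4383 piece PGRP (helper26's farm-out): a finite `p`-group does not have exactly two maximal subgroups
-/

set_option autoImplicit false
open Pointwise

namespace Cfsg.Agent.Lib.H18.TMX

open Cfsg.Agent.Lib.H26.TMX

universe u
variable {G : Type u} [Group G] [Finite G]

/-- in a cyclic `p`-group `⟨g⟩`, an element `g ^ k` of a proper subgroup has `p ∣ k` -/
theorem dvd_of_zpow_mem (p : ℕ) [hp : Fact p.Prime] (hG : IsPGroup p G) (g : G)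
    (htop : Subgroup.zpowers g = ⊤) (M : Subgroup G) (hM : M ≠ ⊤) (k : ℤ) (hk : g ^ k ∈ M) :
    (p : ℤ) ∣ k := by
  by_contra hpk
  apply hM
  obtain ⟨n, hn⟩ := (IsPGroup.iff_orderOf.1 hG) g
  have hcop : IsCoprime k ((orderOf g : ℕ) : ℤ) := by
    rw [hn]
    push_cast
    apply IsCoprime.pow_right
    rw [isCoprime_comm]
    exact (Nat.prime_iff_prime_int.1 hp.out).coprime_iff_not_dvd.2 hpk
  obtain ⟨u, v, huv⟩ := hcop
  have hg : g ∈ M := by
    have h1 : g = (g ^ k) ^ u := by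
      have h2 : g ^ (u * k + v * ((orderOf g : ℕ) : ℤ)) = g := by rw [huv, zpow_one]
      rw [zpow_add, zpow_mul' g v, zpow_natCast, pow_orderOf_eq_one, one_zpow, mul_one,
        mul_comm, zpow_mul] at h2
      exact h2.symm
    rw [h1]
    exact M.zpow_mem hk u
  rw [eq_top_iff, ← htop, Subgroup.zpowers_le]
  exact hg

/-- PGRP: a finite `p`-group does not have exactly two maximal subgroups. -/
theorem pgroup_false (p : ℕ) [Fact p.Prime] (hG : IsPGroup p G) (M₁ M₂ : Subgroup G)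
    (h1 : IsCoatom M₁) (h2 : IsCoatom M₂) (hne : M₁ ≠ M₂)
    (hall : ∀ M : Subgroup G, IsCoatom M →
      ∃ g : G, M = MulAut.conj g • M₁ ∨ M = MulAut.conj g • M₂) : False := by
  haveI := hG.isNilpotent
  have hnc : NormalizerCondition G := normalizerCondition_of_isNilpotent
  haveI n1 : M₁.Normal := Subgroup.NormalizerCondition.normal_of_coatom M₁ hnc h1
  haveI n2 : M₂.Normal := Subgroup.NormalizerCondition.normal_of_coatom M₂ hnc h2
  have hcoat : ∀ M : Subgroup G, IsCoatom M → M = M₁ ∨ M = M₂ := by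
    intro M hM
    obtain ⟨g, hg | hg⟩ := hall M hM
    · left; rw [hg, Subgroup.Normal.conj_smul_eq_self]
    · right; rw [hg, Subgroup.Normal.conj_smul_eq_self]
  have h12 : ¬ M₁ ≤ M₂ := by
    intro h
    rcases eq_or_lt_of_le h with h | h
    · exact hne h
    · exact h2.1 (h1.2 _ h)
  have h21 : ¬ M₂ ≤ M₁ := by
    intro h
    rcases eq_or_lt_of_le h with h | h
    · exact hne h.symm
    · exact h1.1 (h2.2 _ h)
  obtain ⟨a, ha1, ha2⟩ := SetLike.not_le_iff_exists.1 h12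
  obtain ⟨b, hb2, hb1⟩ := SetLike.not_le_iff_exists.1 h21
  have hg1 : a * b ∉ M₁ := by
    intro h
    apply hb1
    have := M₁.mul_mem (M₁.inv_mem ha1) h
    simpa using this
  have hg2 : a * b ∉ M₂ := by
    intro h
    apply ha2
    have := M₂.mul_mem h (M₂.inv_mem hb2)
    simpa [mul_assoc] using this
  have htop : Subgroup.zpowers (a * b) = ⊤ := by
    by_contra hne'
    obtain ⟨K, hK, hle⟩ := (eq_top_or_exists_le_coatom _).resolve_left hne'
    rcases hcoat K hK with rfl | rfl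
    · exact hg1 (hle (Subgroup.mem_zpowers _))
    · exact hg2 (hle (Subgroup.mem_zpowers _))
  have hamem : a ∈ Subgroup.zpowers (a * b) := by rw [htop]; exact Subgroup.mem_top a
  have hbmem : b ∈ Subgroup.zpowers (a * b) := by rw [htop]; exact Subgroup.mem_top b
  obtain ⟨i, hi⟩ := Subgroup.mem_zpowers_iff.1 hamem
  obtain ⟨j, hj⟩ := Subgroup.mem_zpowers_iff.1 hbmem
  have hpi : (p : ℤ) ∣ i := dvd_of_zpow_mem p hG (a * b) htop M₁ h1.1 i (by rw [hi]; exact ha1)
  have hpj : (p : ℤ) ∣ j := dvd_of_zpow_mem p hG (a * b) htop M₂ h2.1 j (by rw [hj]; exact hb2)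
  have hone : (a * b) ^ (i + j - 1) = 1 := by
    rw [zpow_sub, zpow_add, hi, hj, zpow_one, mul_inv_cancel]
  have hord : ((orderOf (a * b) : ℕ) : ℤ) ∣ i + j - 1 := orderOf_dvd_iff_zpow_eq_one.2 hone
  obtain ⟨n, hn⟩ := (IsPGroup.iff_orderOf.1 hG) (a * b)
  have hn0 : n ≠ 0 := by
    intro h0
    rw [h0, pow_zero, orderOf_eq_one_iff] at hn
    apply hg1
    rw [hn]
    exact M₁.one_mem
  have hpo : (p : ℤ) ∣ ((orderOf (a * b) : ℕ) : ℤ) := by
    rw [hn]
    push_cast
    exact dvd_pow_self _ hn0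
  have h3 : (p : ℤ) ∣ i + j - 1 := hpo.trans hord
  have h4 : (p : ℤ) ∣ 1 := by
    have h5 : (p : ℤ) ∣ i + j - (i + j - 1) := dvd_sub (dvd_add hpi hpj) h3
    have h6 : i + j - (i + j - 1) = 1 := by ring
    rwa [h6] at h5
  have h7 := Int.natCast_dvd_natCast.1 (by exact_mod_cast h4 : ((p : ℕ) : ℤ) ∣ ((1 : ℕ) : ℤ))
  exact (Fact.out : p.Prime).one_lt.ne' (Nat.dvd_one.1 h7)

end Cfsg.Agent.Lib.H18.TMX
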