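import Mathlib
import Cfsg.Agent.Lib.H26.TMXDefs

/-!
# S4383 piece QUOT (helper26's farm-out): coatoms and conjugates in a quotient
-/

set_option autoImplicit false
open Pointwise

namespace Cfsg.Agent.Lib.H18.TMX

open Cfsg.Agent.Lib.H26.TMX

universe u
variable {G : Type u} [Group G] [Finite G]

omit [Finite G] in
theorem comap_map_mk_of_le (N : Subgroup G) [N.Normal] (M : Subgroup G) (hNM : N ≤ M) :
    (M.map (QuotientGroup.mk' N)).comap (QuotientGroup.mk' N) = M := by
  apply Subgroup.comap_map_eq_self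
  rw [QuotientGroup.ker_mk']
  exact hNM

omit [Finite G] in
theorem map_comap_mk (N : Subgroup G) [N.Normal] (K : Subgroup (G ⧸ N)) :
    (K.comap (QuotientGroup.mk' N)).map (QuotientGroup.mk' N) = K :=
  Subgroup.map_comap_eq_self_of_surjective (QuotientGroup.mk'_surjective N) K

omit [Finite G] in
theorem le_comap_mk (N : Subgroup G) [N.Normal] (K : Subgroup (G ⧸ N)) :
    N ≤ K.comap (QuotientGroup.mk' N) := by
  intro x hx
  rw [Subgroup.mem_comap]
  have : QuotientGroup.mk' N x = 1 := by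
    rw [← MonoidHom.mem_ker, QuotientGroup.ker_mk']
    exact hx
  rw [this]
  exact K.one_mem

/-- QUOT1 -/
theorem isCoatom_map_mk (N : Subgroup G) [N.Normal] (M : Subgroup G) (hNM : N ≤ M)
    (hM : IsCoatom M) : IsCoatom (M.map (QuotientGroup.mk' N)) := by
  constructor
  · intro h
    apply hM.1
    rw [← comap_map_mk_of_le N M hNM, h, Subgroup.comap_top]
  · intro L hL
    have h1 : M < L.comap (QuotientGroup.mk' N) := by
      rw [lt_iff_le_and_ne]
      constructor
      · rw [← comap_map_mk_of_le N M hNM]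
        exact Subgroup.comap_mono hL.le
      · intro h
        apply hL.ne
        rw [h, map_comap_mk]
    have h2 := hM.2 _ h1
    rw [← map_comap_mk N L, h2]
    exact Subgroup.map_top_of_surjective _ (QuotientGroup.mk'_surjective N)

/-- QUOT2 -/
theorem isCoatom_comap_mk (N : Subgroup G) [N.Normal] (K : Subgroup (G ⧸ N)) (hK : IsCoatom K) :
    IsCoatom (K.comap (QuotientGroup.mk' N)) := by
  constructor
  · intro h
    apply hK.1
    rw [← map_comap_mk N K, h]
    exact Subgroup.map_top_of_surjective _ (QuotientGroup.mk'_surjective N)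
  · intro L hL
    have hNL : N ≤ L := (le_comap_mk N K).trans hL.le
    have h1 : K < L.map (QuotientGroup.mk' N) := by
      rw [lt_iff_le_and_ne]
      constructor
      · rw [← map_comap_mk N K]
        exact Subgroup.map_mono hL.le
      · intro h
        apply hL.ne
        rw [h, comap_map_mk_of_le N L hNL]
    have h2 := hK.2 _ h1
    rw [← comap_map_mk_of_le N L hNL, h2, Subgroup.comap_top]

/-- QUOT3 -/
theorem map_conj_smul (N : Subgroup G) [N.Normal] (g : G) (M : Subgroup G) :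
    (MulAut.conj g • M).map (QuotientGroup.mk' N) =
      MulAut.conj (QuotientGroup.mk' N g) • M.map (QuotientGroup.mk' N) := by
  ext x
  simp only [Subgroup.mem_map, Subgroup.mem_smul_pointwise_iff_exists, MulAut.smul_def,
    MulAut.conj_apply]
  constructor
  · rintro ⟨y, ⟨m, hm, rfl⟩, rfl⟩
    exact ⟨QuotientGroup.mk' N m, ⟨m, hm, rfl⟩, by simp⟩
  · rintro ⟨y, ⟨m, hm, rfl⟩, rfl⟩
    exact ⟨g * m * g⁻¹, ⟨m, hm, rfl⟩, by simp⟩

omit [Finite G] in
theorem le_conj_smul_iff (N : Subgroup G) [hN : N.Normal] (g : G) (M : Subgroup G) :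
    N ≤ MulAut.conj g • M ↔ N ≤ M := by
  constructor
  · intro h x hx
    have h1 : g * x * g⁻¹ ∈ MulAut.conj g • M := h (hN.conj_mem x hx g)
    rw [Subgroup.mem_pointwise_smul_iff_inv_smul_mem] at h1
    simpa [MulAut.smul_def, MulAut.conj_inv_apply, mul_assoc] using h1
  · intro h x hx
    rw [Subgroup.mem_pointwise_smul_iff_inv_smul_mem]
    have h1 : g⁻¹ * x * g⁻¹⁻¹ ∈ N := hN.conj_mem x hx g⁻¹
    have h2 := h h1
    simpa [MulAut.smul_def, MulAut.conj_inv_apply, mul_assoc] using h2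

theorem map_eq_conj_of_comap_eq (N : Subgroup G) [N.Normal] (K : Subgroup (G ⧸ N)) (g : G)
    (M : Subgroup G) (h : K.comap (QuotientGroup.mk' N) = MulAut.conj g • M) :
    K = MulAut.conj (QuotientGroup.mk' N g) • M.map (QuotientGroup.mk' N) := by
  rw [← map_conj_smul, ← h, map_comap_mk]

/-- QUOT4: two classes pass to `G ⧸ N` when `N` lies in both. -/
theorem quot_two_class (N : Subgroup G) [N.Normal] (M₁ M₂ : Subgroup G) (hN1 : N ≤ M₁) (hN2 : N ≤ M₂)
    (h1 : IsCoatom M₁) (h2 : IsCoatom M₂) (hne : ∀ g : G, M₂ ≠ MulAut.conj g • M₁)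
    (hall : ∀ M : Subgroup G, IsCoatom M →
      ∃ g : G, M = MulAut.conj g • M₁ ∨ M = MulAut.conj g • M₂) :
    IsCoatom (M₁.map (QuotientGroup.mk' N)) ∧ IsCoatom (M₂.map (QuotientGroup.mk' N)) ∧
      (∀ q : G ⧸ N, M₂.map (QuotientGroup.mk' N) ≠ MulAut.conj q • M₁.map (QuotientGroup.mk' N)) ∧
      ∀ K : Subgroup (G ⧸ N), IsCoatom K →
        ∃ q : G ⧸ N, K = MulAut.conj q • M₁.map (QuotientGroup.mk' N) ∨
          K = MulAut.conj q • M₂.map (QuotientGroup.mk' N) := by
  refine ⟨isCoatom_map_mk N M₁ hN1 h1, isCoatom_map_mk N M₂ hN2 h2, ?_, ?_⟩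
  · intro q h
    obtain ⟨g, rfl⟩ := QuotientGroup.mk'_surjective N q
    rw [← map_conj_smul] at h
    apply hne g
    have h3 : N ≤ MulAut.conj g • M₁ := (le_conj_smul_iff N g M₁).2 hN1
    rw [← comap_map_mk_of_le N M₂ hN2, h, comap_map_mk_of_le N _ h3]
  · intro K hK
    obtain ⟨g, hg | hg⟩ := hall _ (isCoatom_comap_mk N K hK)
    · exact ⟨QuotientGroup.mk' N g, Or.inl (map_eq_conj_of_comap_eq N K g M₁ hg)⟩
    · exact ⟨QuotientGroup.mk' N g, Or.inr (map_eq_conj_of_comap_eq N K g M₂ hg)⟩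

/-- QUOT5: one class in `G ⧸ N` when `N ≤ M₁`, `N ≰ M₂`. -/
theorem quot_one_class (N : Subgroup G) [N.Normal] (M₁ M₂ : Subgroup G) (hN1 : N ≤ M₁)
    (hN2 : ¬ N ≤ M₂) (h1 : IsCoatom M₁)
    (hall : ∀ M : Subgroup G, IsCoatom M →
      ∃ g : G, M = MulAut.conj g • M₁ ∨ M = MulAut.conj g • M₂) :
    IsCoatom (M₁.map (QuotientGroup.mk' N)) ∧
      ∀ K : Subgroup (G ⧸ N), IsCoatom K →
        ∃ q : G ⧸ N, K = MulAut.conj q • M₁.map (QuotientGroup.mk' N) := by
  refine ⟨isCoatom_map_mk N M₁ hN1 h1, ?_⟩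
  intro K hK
  obtain ⟨g, hg | hg⟩ := hall _ (isCoatom_comap_mk N K hK)
  · exact ⟨QuotientGroup.mk' N g, map_eq_conj_of_comap_eq N K g M₁ hg⟩
  · exfalso
    apply hN2
    rw [← le_conj_smul_iff N g M₂, ← hg]
    exact le_comap_mk N K

end Cfsg.Agent.Lib.H18.TMX
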