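import Cfsg.Agent.Lib.H7.TTMod
import Cfsg.Agent.Lib.H7.TTSyl4

set_option autoImplicit false
set_option linter.style.haveILetI false
set_option linter.unusedSectionVars false

/-!
3-transposition groups (helper18): Fischer's hypotheses (no solvable normal subgroup, perfect derived
subgroup) imply primitivity of the conjugation action on the class.

* `isSolvable_sup_of_normal`;
* `isSolvable_of_width_one` : a class of 3-transpositions no two of whose members commute generates a
  solvable group;
* `index_component_le_two` : a component has index at most two when `G'' = G'`;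
* `primitive_of_fischer`.
-/

namespace Cfsg.Agent.Lib.H18.TTF

open Cfsg Cfsg.Agent.Lib.H26.ThreeTrans Cfsg.Agent.Lib.H7.TT
open scoped commutatorElement

theorem isSolvable_sup_of_normal {X : Type*} [Group X] (K N : Subgroup X) [hN : N.Normal]
    (hK : Group.IsSolvable K) (hNs : Group.IsSolvable N) : Group.IsSolvable ↥(K ⊔ N) := by
  have e := QuotientGroup.quotientInfEquivProdNormalQuotient K N
  haveI : Group.IsSolvable (↥K ⧸ N.subgroupOf K) := inferInstance
  haveI hq : Group.IsSolvable (↥(K ⊔ N) ⧸ N.subgroupOf (K ⊔ N)) :=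
    solvable_of_surjective (f := e.toMonoidHom) e.surjective
  have e2 : ↥(N.subgroupOf (K ⊔ N)) ≃* ↥N := Subgroup.subgroupOfEquivOfLe le_sup_right
  haveI hk : Group.IsSolvable ↥(N.subgroupOf (K ⊔ N)) :=
    solvable_of_surjective (f := e2.symm.toMonoidHom) e2.symm.surjective
  apply solvable_of_ker_le_range (N.subgroupOf (K ⊔ N)).subtype
    (QuotientGroup.mk' (N.subgroupOf (K ⊔ N)))
  rw [QuotientGroup.ker_mk', Subgroup.range_subtype]

theorem isSolvable_of_eq_top {X : Type*} [Group X] {H : Subgroup X} (hH : Group.IsSolvable H)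
    (h : H = ⊤) : Group.IsSolvable X := by
  subst h
  exact solvable_of_surjective (f := (Subgroup.topEquiv : ↥(⊤ : Subgroup X) ≃* X).toMonoidHom)
    Subgroup.topEquiv.surjective

section width

variable {X : Type*} [Group X] [Finite X] {E : Set X}

/-- A class of 3-transpositions no two of whose distinct members commute generates a solvable group. -/
theorem isSolvable_of_width_one (hE : IsThreeTranspositionClass E)
    (hw1 : ∀ a ∈ E, ∀ b ∈ E, Commute a b → a = b) : Group.IsSolvable X := by
  haveI : Fact (Nat.Prime 3) := ⟨Nat.prime_three⟩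
  haveI : Fact (Nat.Prime 2) := ⟨Nat.prime_two⟩
  obtain ⟨d, hd, hEd⟩ := hE.2.1
  by_cases hE2 : ∃ a ∈ E, ∃ b ∈ E, a ≠ b
  · have hV : ∀ y ∈ E, Commute d y → Veq E d y := by
      intro y hy hc
      rw [← hw1 d hd y hy hc]
      exact Veq.refl hd
    obtain ⟨P, hP⟩ := exists_invariant_sylow_three hE hE2 hd hV
    have htop := sup_eq_top_of_veq hE hE2 hd hV P
    haveI hQn : (pCore 2 X).Normal := Cfsg.Agent.Lib.H1.pCore_normal 2 X
    have hQ2 : IsPGroup 2 (pCore 2 X) := Cfsg.Agent.Lib.H1.pCore_isPGroup 2 X
    haveI : Group.IsNilpotent ↥(pCore 2 X) := hQ2.isNilpotent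
    haveI : Group.IsNilpotent ↥(P : Subgroup X) := P.2.isNilpotent
    have hM : Group.IsSolvable ↥((P : Subgroup X) ⊔ pCore 2 X) :=
      isSolvable_sup_of_normal _ _ inferInstance inferInstance
    have hMn : ((P : Subgroup X) ⊔ pCore 2 X).Normal := by
      rw [← Subgroup.normalizer_eq_top_iff, eq_top_iff, ← htop]
      refine sup_le (sup_le ?_ ?_) ?_
      · rw [Subgroup.zpowers_le]
        apply mem_normalizer_sup hP
        rw [Subgroup.normalizer_eq_top_iff.2 hQn]
        exact Subgroup.mem_top _
      · exact le_trans le_sup_left Subgroup.le_normalizer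
      · exact le_trans le_sup_right Subgroup.le_normalizer
    haveI := hMn
    have hK : Group.IsSolvable ↥(Subgroup.zpowers d) := inferInstance
    have hall := isSolvable_sup_of_normal (Subgroup.zpowers d) ((P : Subgroup X) ⊔ pCore 2 X) hK hM
    apply isSolvable_of_eq_top hall
    rw [← sup_assoc]
    exact htop
  · push Not at hE2
    have hE1 : E = {d} := by
      ext y
      constructor
      · intro hy
        exact (hE2 y hy d hd)
      · intro hy
        rw [Set.mem_singleton_iff] at hy
        rw [hy]; exact hd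
    have htop : Subgroup.zpowers d = ⊤ := by
      rw [← hE.2.2, hE1, Subgroup.zpowers_eq_closure]
    have hK : Group.IsSolvable ↥(Subgroup.zpowers d) := inferInstance
    exact isSolvable_of_eq_top hK htop

end width

section main

variable {G : Type*} [Group G] [Finite G] {D : Set G}

/-- If `G'' = G'`, a component of a group generated by a class of 3-transpositions has index at
most two. -/
theorem index_component_le_two (hperf : ⁅commutator G, commutator G⁆ = commutator G)
    (hD : IsThreeTranspositionClass D) {L : Subgroup G} (hL : IsComponent L) : L.index ≤ 2 := by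
  have hS := hD.1
  have hconj := class_conj hD
  haveI hLn : L.Normal := component_normal hD hL
  by_cases hDL : ∃ d ∈ D, d ∈ L
  · obtain ⟨d, hd, hdL⟩ := hDL
    have htop : L = ⊤ := by
      rw [eq_top_iff, ← hD.2.2, Subgroup.closure_le]
      intro e he
      obtain ⟨g, rfl⟩ := exists_conj_eq hD hd he
      exact hLn.conj_mem d hdL g
    rw [htop, Subgroup.index_top]
    norm_num
  push Not at hDL
  -- the image of `D` in `G ⧸ L`
  set E : Set (G ⧸ L) := (QuotientGroup.mk' L) '' D with hEdef
  have hsurj : Function.Surjective (QuotientGroup.mk' L) := QuotientGroup.mk'_surjective L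
  have hE : IsThreeTranspositionClass E := by
    refine ⟨⟨?_, ?_⟩, ?_, ?_⟩
    · rintro _ ⟨d, hd, rfl⟩
      apply orderOf_eq_prime
      · rw [← map_pow, pow_two, sq_eq_one hS hd, map_one]
      · intro h
        rw [QuotientGroup.mk'_apply, QuotientGroup.eq_one_iff] at h
        exact hDL d hd h
    · rintro _ ⟨a, ha, rfl⟩ _ ⟨b, hb, rfl⟩
      rcases hS.2 a ha b hb with h | h
      · left
        rw [← map_mul, ← map_pow, h, map_one]
      · right
        rw [← map_mul, ← map_pow, h, map_one]
    · obtain ⟨d, hd, hDd⟩ := hD.2.1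
      refine ⟨QuotientGroup.mk' L d, ⟨d, hd, rfl⟩, ?_⟩
      ext y
      rw [mem_conjugatesOf_iff', isConj_iff]
      constructor
      · rintro ⟨a, ha, rfl⟩
        obtain ⟨g, rfl⟩ := exists_conj_eq hD hd ha
        exact ⟨QuotientGroup.mk' L g, by simp⟩
      · rintro ⟨c, rfl⟩
        obtain ⟨g, rfl⟩ := hsurj c
        exact ⟨g * d * g⁻¹, hconj g d hd, by simp⟩
    · rw [hEdef, ← MonoidHom.map_closure, hD.2.2, ← MonoidHom.range_eq_map,
        MonoidHom.range_eq_top]
      exact hsurj
  have hw1 : ∀ a ∈ E, ∀ b ∈ E, Commute a b → a = b := by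
    rintro _ ⟨a, ha, rfl⟩ _ ⟨b, hb, rfl⟩ hc
    have h1 : a * b * a⁻¹ * b⁻¹ ∈ L := by
      rw [← QuotientGroup.eq_one_iff]
      have : ((a * b * a⁻¹ * b⁻¹ : G) : G ⧸ L) =
          QuotientGroup.mk' L a * QuotientGroup.mk' L b * (QuotientGroup.mk' L a)⁻¹ *
            (QuotientGroup.mk' L b)⁻¹ := by simp
      rw [this, hc.eq]
      group
    have h2 := inv_mul_mem_component hD hL ha hb h1
    exact (QuotientGroup.eq.2 h2)
  have hsolv : Group.IsSolvable (G ⧸ L) := isSolvable_of_width_one hE hw1
  -- the derived series of `G` is stationary from the first term on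
  have hder : ∀ n : ℕ, derivedSeries G (n + 1) = commutator G := by
    intro n
    induction n with
    | zero =>
      rw [derivedSeries_succ, derivedSeries_zero, commutator_def]
    | succ n ih =>
      rw [derivedSeries_succ, ih, hperf]
  obtain ⟨n, hn⟩ := hsolv.solvable
  have hn1 : derivedSeries (G ⧸ L) (n + 1) = ⊥ := by
    rw [eq_bot_iff, ← hn]
    exact derivedSeries_antitone (G ⧸ L) (Nat.le_succ n)
  have hmap := map_derivedSeries_eq hsurj (n + 1)
  rw [hder n, hn1] at hmap
  have hle : commutator G ≤ L := by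
    intro x hx
    have : QuotientGroup.mk' L x ∈ (commutator G).map (QuotientGroup.mk' L) := ⟨x, hx, rfl⟩
    rw [hmap, Subgroup.mem_bot, QuotientGroup.mk'_apply, QuotientGroup.eq_one_iff] at this
    exact this
  have h2 := index_commutator_le_two hD
  have hdvd := Subgroup.index_dvd_of_le hle
  have hpos : 0 < (commutator G).index := Nat.pos_of_ne_zero Subgroup.index_ne_zero_of_finite
  exact le_trans (Nat.le_of_dvd hpos hdvd) h2

/-- **Fischer's hypotheses give primitivity.** -/
theorem primitive_of_fischer
    (hsol : ∀ N : Subgroup G, N.Normal → Group.IsSolvable ↥N → N = ⊥)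
    (hperf : ⁅commutator G, commutator G⁆ = commutator G)
    (hD : IsThreeTranspositionClass D) (hD2 : ∃ a ∈ D, ∃ b ∈ D, a ≠ b) :
    IsPrimitiveUnderConj D := by
  haveI : Fact (Nat.Prime 3) := ⟨Nat.prime_three⟩
  haveI : Fact (Nat.Prime 2) := ⟨Nat.prime_two⟩
  have hp : ∀ p : ℕ, [Fact p.Prime] → pCore p G = ⊥ := by
    intro p _
    apply hsol _ (Cfsg.Agent.Lib.H1.pCore_normal p G)
    haveI : Group.IsNilpotent ↥(pCore p G) := (Cfsg.Agent.Lib.H1.pCore_isPGroup p G).isNilpotent
    infer_instance
  have h2 : pCore 2 G ≤ Subgroup.center G := by rw [hp 2]; exact bot_le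
  have h3 : pCore 3 G ≤ Subgroup.center G := by rw [hp 3]; exact bot_le
  have hne := layer_ne_bot_of_le_center hD hD2 h2 h3
  rw [Ne, Cfsg.Agent.Lib.H7.layer_eq_bot_iff] at hne
  push Not at hne
  obtain ⟨L, hL⟩ := hne
  exact primitive_of_index_le_two hD hD2 h2 h3 hL (index_component_le_two hperf hD hL)

end main

end Cfsg.Agent.Lib.H18.TTF
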