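import Cfsg.Agent.Lib.H18.TTFischer1

set_option autoImplicit false
set_option linter.style.haveILetI false
set_option linter.unusedSectionVars false

/-!
3-transposition groups (helper18): in a primitive class, the non-commuting graph on the set `D_d` of
commuting partners of `d` is connected; hence `D_d` is one conjugacy class of `⟨D_d⟩`.

* `Step`, `Comp`;
* `dd_connected` : connectivity;
* `exists_conj_of_path`, `dd_single_class`.
-/

namespace Cfsg.Agent.Lib.H18.TTF

open Cfsg Cfsg.Agent.Lib.H26.ThreeTrans Cfsg.Agent.Lib.H7.TT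

variable {G : Type*} [Group G] {D : Set G}

/-- One step in the non-commuting graph on `D_d`. -/
def Step (D : Set G) (d u v : G) : Prop := u ∈ Dd D d ∧ v ∈ Dd D d ∧ ¬ Commute u v

/-- The connected component of `y` in the non-commuting graph on `D_d`. -/
def Comp (D : Set G) (d y : G) : Set G := {z | Relation.ReflTransGen (Step D d) y z}

theorem step_symm {d u v : G} (h : Step D d u v) : Step D d v u := by
  obtain ⟨hu, hv, hc⟩ := h
  exact ⟨hv, hu, fun h => hc h.symm⟩

theorem path_symm {d y z : G} (h : Relation.ReflTransGen (Step D d) y z) :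
    Relation.ReflTransGen (Step D d) z y := by
  induction h with
  | refl => exact Relation.ReflTransGen.refl
  | tail _ hbc ih => exact Relation.ReflTransGen.head (step_symm hbc) ih

theorem comp_subset {d y : G} (hy : y ∈ Dd D d) : Comp D d y ⊆ Dd D d := by
  intro z hz
  induction hz with
  | refl => exact hy
  | tail _ hbc _ => exact hbc.2.1

theorem step_conj (hconj : ∀ g : G, ∀ d ∈ D, g * d * g⁻¹ ∈ D) (g : G) {d u v : G}
    (h : Step D d u v) : Step D (g * d * g⁻¹) (g * u * g⁻¹) (g * v * g⁻¹) := by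
  obtain ⟨hu, hv, hc⟩ := h
  refine ⟨?_, ?_, ?_⟩
  · rw [mem_Dd_conj hconj]
    have : g⁻¹ * (g * u * g⁻¹) * g = u := by group
    rw [this]; exact hu
  · rw [mem_Dd_conj hconj]
    have : g⁻¹ * (g * v * g⁻¹) * g = v := by group
    rw [this]; exact hv
  · intro h
    exact hc ((Commute.conj_iff g).1 h)

theorem path_conj (hconj : ∀ g : G, ∀ d ∈ D, g * d * g⁻¹ ∈ D) (g : G) {d y z : G}
    (h : Relation.ReflTransGen (Step D d) y z) :
    Relation.ReflTransGen (Step D (g * d * g⁻¹)) (g * y * g⁻¹) (g * z * g⁻¹) :=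
  Relation.ReflTransGen.lift (fun u : G => g * u * g⁻¹) (fun _ _ h => step_conj hconj g h) _ _ h

/-- Along a path in the non-commuting graph of `D_d` the members are conjugate under `⟨D_d⟩`. -/
theorem exists_conj_of_path (hS : IsThreeTranspositionSet D) {d y z : G}
    (h : Relation.ReflTransGen (Step D d) y z) :
    ∃ g ∈ Subgroup.closure (Dd D d), g * y * g⁻¹ = z := by
  induction h with
  | refl => exact ⟨1, Subgroup.one_mem _, by group⟩
  | @tail b c _ hbc ih =>
    obtain ⟨g, hg, hgy⟩ := ih
    obtain ⟨hb, hc, hne⟩ := hbc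
    have hbD : b ∈ D := hb.1
    have hcD : c ∈ D := hc.1
    have hbr := braid hS hbD hcD hne
    have hcinv := inv_eq hS hcD
    have hbinv := inv_eq hS hbD
    refine ⟨(b * c) * g, Subgroup.mul_mem _ (Subgroup.mul_mem _ (Subgroup.subset_closure hb)
      (Subgroup.subset_closure hc)) hg, ?_⟩
    calc b * c * g * y * (b * c * g)⁻¹ = (b * c) * (g * y * g⁻¹) * (b * c)⁻¹ := by group
      _ = (b * c) * b * (b * c)⁻¹ := by rw [hgy]
      _ = (b * c * b) * c⁻¹ * b⁻¹ := by group
      _ = (c * b * c) * c⁻¹ * b⁻¹ := by rw [hbr]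
      _ = c := by group

section fin

variable [Finite G]

/-- **Connectivity of `D_d`.** In a primitive class of 3-transpositions, any two commuting partners
of `d` are joined by a path of non-commuting steps inside `D_d`. -/
theorem dd_connected (hD : IsThreeTranspositionClass D) (hprim : IsPrimitiveUnderConj D)
    {d : G} (hd : d ∈ D) {y z : G} (hy : y ∈ Dd D d) (hz : z ∈ Dd D d) :
    Relation.ReflTransGen (Step D d) y z := by
  classical
  have hS := hD.1
  have hconj := class_conj hD
  have hw : ∃ a ∈ D, ∃ b ∈ D, a ≠ b ∧ Commute a b := ⟨d, hd, y, hy.1, fun h => hy.2.1 h.symm, hy.2.2⟩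
  -- a pair with a component of maximal size
  set S : Set (G × G) := {p | p.1 ∈ D ∧ p.2 ∈ Dd D p.1} with hSdef
  have hSfin : S.Finite := Set.toFinite S
  have hSne : S.Nonempty := ⟨(d, y), hd, hy⟩
  obtain ⟨⟨d₀, y₀⟩, ⟨hd₀, hy₀⟩, hmax⟩ :=
    Set.exists_max_image S (fun p => (Comp D p.1 p.2).ncard) hSfin hSne
  simp only at hd₀ hy₀
  set K : Set G := Comp D d₀ y₀ with hKdef
  have hKsub : K ⊆ Dd D d₀ := comp_subset hy₀
  have hy₀K : y₀ ∈ K := Relation.ReflTransGen.refl
  -- closure of `K` under non-commuting steps inside `D_{d₀}`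
  have hKstep : ∀ k ∈ K, ∀ a ∈ Dd D d₀, ¬ Commute k a → a ∈ K := by
    intro k hk a ha hka
    exact Relation.ReflTransGen.tail hk ⟨hKsub hk, ha, hka⟩
  set Z : Set G := {v | v ∈ D ∧ v ∉ K ∧ ∀ k ∈ K, Commute v k} with hZdef
  -- for `v ∈ Z` the component of `y₀` in `D_v` is again `K`
  have hZK : ∀ v ∈ Z, K ⊆ Dd D v ∧ Comp D v y₀ = K := by
    rintro v ⟨hvD, hvK, hvc⟩
    have hKv : K ⊆ Dd D v := by
      intro k hk
      refine ⟨(hKsub hk).1, ?_, hvc k hk⟩
      rintro rfl
      exact hvK hk
    refine ⟨hKv, ?_⟩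
    have hsub : K ⊆ Comp D v y₀ := by
      intro k hk
      have hk' : Relation.ReflTransGen (Step D d₀) y₀ k := hk
      induction hk' with
      | refl => exact Relation.ReflTransGen.refl
      | @tail b c hab hbc ih =>
        have hbK : b ∈ K := hab
        have hcK : c ∈ K := Relation.ReflTransGen.tail hab hbc
        exact Relation.ReflTransGen.tail (ih hbK) ⟨hKv hbK, hKv hcK, hbc.2.2⟩
    have hle := hmax (v, y₀) ⟨hvD, hKv hy₀K⟩
    simp only at hle
    exact (Set.eq_of_subset_of_ncard_le hsub hle (Set.toFinite _)).symm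
  -- `Z` is a module
  have hZmod : IsModule D Z := by
    intro a ha haZ
    by_cases haK : a ∈ K
    · left
      rintro v ⟨-, -, hvc⟩
      exact (hvc a haK).symm
    · right
      have hex : ∃ k ∈ K, ¬ Commute a k := by
        by_contra hcon
        push Not at hcon
        exact haZ ⟨ha, haK, hcon⟩
      obtain ⟨k₀, hk₀, hak₀⟩ := hex
      intro v hv hav
      obtain ⟨hKv, hcomp⟩ := hZK v hv
      have hav' : a ∈ Dd D v := by
        refine ⟨ha, ?_, hav.symm⟩
        rintro rfl
        exact haZ hv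
      have : a ∈ Comp D v y₀ := by
        have hk₀' : k₀ ∈ Comp D v y₀ := by rw [hcomp]; exact hk₀
        exact Relation.ReflTransGen.tail hk₀' ⟨hKv hk₀, hav', fun h => hak₀ h.symm⟩
      rw [hcomp] at this
      exact haK this
  have hZD : Z ⊆ D := fun v hv => hv.1
  have hd₀Z : d₀ ∈ Z := by
    refine ⟨hd₀, ?_, ?_⟩
    · intro h
      exact (hKsub h).2.1 rfl
    · intro k hk
      exact (hKsub hk).2.2
  have hZsub : Z.Subsingleton := by
    rcases module_trivial hD hprim hw hZD hZmod with h | h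
    · exact h
    · exfalso
      have : y₀ ∈ Z := by rw [h]; exact hy₀.1
      exact this.2.1 hy₀K
  -- hence `D_{d₀} = K`
  have hall : Dd D d₀ ⊆ K := by
    intro a ha
    by_contra haK
    have haZ : a ∈ Z := by
      refine ⟨ha.1, haK, ?_⟩
      intro k hk
      by_contra hnc
      exact haK (hKstep k hk a ha (fun h => hnc h.symm))
    exact ha.2.1 (hZsub haZ hd₀Z)
  -- transfer to `d`
  obtain ⟨g, rfl⟩ := exists_conj_eq hD hd₀ hd
  have hreach : ∀ w ∈ Dd D (g * d₀ * g⁻¹),
      Relation.ReflTransGen (Step D (g * d₀ * g⁻¹)) (g * y₀ * g⁻¹) w := by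
    intro w hw'
    have hw₀ : g⁻¹ * w * g ∈ Dd D d₀ := (mem_Dd_conj hconj g d₀ w).1 hw'
    have hp := path_conj hconj g (hall hw₀)
    have e : g * (g⁻¹ * w * g) * g⁻¹ = w := by group
    rw [e] at hp
    exact hp
  have h1 := hreach y hy
  have h2 := hreach z hz
  exact Relation.ReflTransGen.trans (path_symm h1) h2

/-- **Fischer.** In a primitive class of 3-transpositions, `D_d` is a single conjugacy class of the
subgroup it generates. -/
theorem dd_single_class (hD : IsThreeTranspositionClass D) (hprim : IsPrimitiveUnderConj D)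
    {d : G} (hd : d ∈ D) {y z : G} (hy : y ∈ Dd D d) (hz : z ∈ Dd D d) :
    ∃ g ∈ Subgroup.closure (Dd D d), g * y * g⁻¹ = z :=
  exists_conj_of_path hD.1 (dd_connected hD hprim hd hy hz)

end fin

end Cfsg.Agent.Lib.H18.TTF
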