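import Cfsg.Agent.Lib.H18.TTFischer2

set_option autoImplicit false
set_option linter.style.haveILetI false
set_option linter.unusedSectionVars false

/-!
3-transposition groups (helper18): maximal commuting sets.  If `T` is a conjugation-invariant set of
3-transpositions forming one orbit, and `E ⊆ T` is a commuting set of maximal size, then `E = T ∩ Q` for
every 2-subgroup `Q ⊇ E` (weak closure), and the normaliser of `E` is transitive on `E` (Burnside's
fusion argument).
-/

namespace Cfsg.Agent.Lib.H18.TTF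

open Cfsg Cfsg.Agent.Lib.H26.ThreeTrans Cfsg.Agent.Lib.H7.TT

section

variable {X : Type*} [Group X] {T E : Set X}

/-- Two 3-transpositions lying in a common 2-subgroup commute. -/
theorem commute_of_mem_two_group (hT : IsThreeTranspositionSet T) {Q : Subgroup X}
    (hQ : IsPGroup 2 Q) {a b : X} (ha : a ∈ T) (hb : b ∈ T) (haQ : a ∈ Q) (hbQ : b ∈ Q) :
    Commute a b := by
  have ha2 := sq_eq_one hT ha
  have hb2 := sq_eq_one hT hb
  rcases hT.2 a ha b hb with h | h
  · exact commute_of_sq ha2 hb2 h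
  · obtain ⟨k, hk⟩ := hQ ⟨a * b, Q.mul_mem haQ hbQ⟩
    have hk' : (a * b) ^ 2 ^ k = 1 := by
      have := congrArg Subtype.val hk
      simpa using this
    have h1 : orderOf (a * b) ∣ 3 := orderOf_dvd_of_pow_eq_one h
    have h2 : orderOf (a * b) ∣ 2 ^ k := orderOf_dvd_of_pow_eq_one hk'
    have hcop : Nat.Coprime 3 (2 ^ k) := Nat.Coprime.pow_right k (by norm_num)
    have h3 : orderOf (a * b) = 1 := Nat.eq_one_of_dvd_coprimes hcop h1 h2
    rw [orderOf_eq_one_iff] at h3
    apply commute_of_sq ha2 hb2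
    rw [h3, one_pow]

/-- The subgroup generated by a commuting set is abelian. -/
theorem commute_of_mem_closure (hc : ∀ a ∈ E, ∀ b ∈ E, Commute a b) {x y : X}
    (hx : x ∈ Subgroup.closure E) (hy : y ∈ Subgroup.closure E) : Commute x y := by
  have h1 : Subgroup.closure E ≤ Subgroup.centralizer E := by
    rw [Subgroup.closure_le]
    intro a ha
    rw [SetLike.mem_coe, Subgroup.mem_centralizer_iff]
    intro b hb
    exact (hc b hb a ha).eq
  have h2 : y ∈ Subgroup.centralizer ((Subgroup.closure E : Subgroup X) : Set X) := by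
    rw [Subgroup.centralizer_closure]
    exact h1 hy
  rw [Subgroup.mem_centralizer_iff] at h2
  exact h2 x hx

/-- A commuting set of involutions generates a 2-group. -/
theorem isPGroup_closure_of_commute (hT : IsThreeTranspositionSet T) (hE : E ⊆ T)
    (hc : ∀ a ∈ E, ∀ b ∈ E, Commute a b) : IsPGroup 2 (Subgroup.closure E) := by
  have hsq : ∀ x ∈ Subgroup.closure E, x ^ 2 = 1 := by
    intro x hx
    induction hx using Subgroup.closure_induction with
    | mem a ha => rw [pow_two]; exact sq_eq_one hT (hE ha)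
    | one => exact one_pow 2
    | mul a b ha hb iha ihb =>
      rw [(commute_of_mem_closure hc ha hb).mul_pow, iha, ihb, one_mul]
    | inv a _ iha => rw [inv_pow, iha, inv_one]
  rintro ⟨x, hx⟩
  refine ⟨1, ?_⟩
  apply Subtype.ext
  simpa using hsq x hx

end

section fin

variable {X : Type*} [Group X] [Finite X] {T E : Set X}

/-- **Weak closure.** A commuting set `E` of maximal size equals `T ∩ Q` for every 2-subgroup
`Q ⊇ E`. -/
theorem inter_two_group_eq (hT : IsThreeTranspositionSet T) (hE : E ⊆ T)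
    (hmax : ∀ E' : Set X, E' ⊆ T → (∀ a ∈ E', ∀ b ∈ E', Commute a b) → E'.ncard ≤ E.ncard)
    {Q : Subgroup X} (hQ : IsPGroup 2 Q) (hEQ : E ⊆ (Q : Set X)) : T ∩ (Q : Set X) = E := by
  have h1 : E ⊆ T ∩ (Q : Set X) := fun e he => ⟨hE he, hEQ he⟩
  have h2 : (T ∩ (Q : Set X)).ncard ≤ E.ncard := by
    apply hmax _ Set.inter_subset_left
    rintro a ⟨ha, haQ⟩ b ⟨hb, hbQ⟩
    exact commute_of_mem_two_group hT hQ ha hb haQ hbQ
  exact (Set.eq_of_subset_of_ncard_le h1 h2 (Set.toFinite _)).symm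

/-- An element conjugating `E` into a 2-subgroup containing `E` normalises `E`. -/
theorem mem_normalizer_of_conj_mem (hT : IsThreeTranspositionSet T)
    (hconj : ∀ g : X, ∀ t ∈ T, g * t * g⁻¹ ∈ T) (hE : E ⊆ T)
    (hmax : ∀ E' : Set X, E' ⊆ T → (∀ a ∈ E', ∀ b ∈ E', Commute a b) → E'.ncard ≤ E.ncard)
    {Q : Subgroup X} (hQ : IsPGroup 2 Q) (hEQ : E ⊆ (Q : Set X)) {g : X}
    (hg : ∀ e ∈ E, g * e * g⁻¹ ∈ Q) : g ∈ Subgroup.normalizer E := by
  have hQE := inter_two_group_eq hT hE hmax hQ hEQ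
  have hmap : ∀ e ∈ E, g * e * g⁻¹ ∈ E := by
    intro e he
    rw [← hQE]
    exact ⟨hconj g e (hE he), hg e he⟩
  have himg : (fun e => g * e * g⁻¹) '' E = E := by
    apply Set.eq_of_subset_of_ncard_le
    · rintro _ ⟨e, he, rfl⟩
      exact hmap e he
    · rw [Set.ncard_image_of_injective]
      intro u v huv
      have h1 : g * u * g⁻¹ = g * v * g⁻¹ := huv
      have := congrArg (fun t => g⁻¹ * t * g) h1
      simpa [mul_assoc] using this
    · exact Set.toFinite _
  rw [Subgroup.mem_set_normalizer_iff]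
  intro n
  constructor
  · exact hmap n
  · intro hn
    rw [← himg] at hn
    obtain ⟨e, he, hen⟩ := hn
    have h1 : g * e * g⁻¹ = g * n * g⁻¹ := hen
    have : e = n := by
      have := congrArg (fun t => g⁻¹ * t * g) h1
      simpa [mul_assoc] using this
    rw [← this]; exact he

/-- **Transitivity of the normaliser** on a commuting set of maximal size. -/
theorem exists_normalizer_conj (hT : IsThreeTranspositionSet T)
    (hconj : ∀ g : X, ∀ t ∈ T, g * t * g⁻¹ ∈ T)
    (htrans : ∀ a ∈ T, ∀ b ∈ T, ∃ g : X, g * a * g⁻¹ = b) (hE : E ⊆ T)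
    (hc : ∀ a ∈ E, ∀ b ∈ E, Commute a b)
    (hmax : ∀ E' : Set X, E' ⊆ T → (∀ a ∈ E', ∀ b ∈ E', Commute a b) → E'.ncard ≤ E.ncard)
    {a b : X} (ha : a ∈ E) (hb : b ∈ E) : ∃ g ∈ Subgroup.normalizer E, g * a * g⁻¹ = b := by
  haveI : Fact (Nat.Prime 2) := ⟨Nat.prime_two⟩
  obtain ⟨g₀, hg₀⟩ := htrans a (hE ha) b (hE hb)
  set W : Subgroup X := Subgroup.closure E with hWdef
  have hW2 : IsPGroup 2 W := isPGroup_closure_of_commute hT hE hc
  set C : Subgroup X := Subgroup.centralizer ({b} : Set X) with hCdef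
  have hmemC : ∀ x : X, x ∈ C ↔ Commute x b := by
    intro x
    rw [hCdef, Subgroup.mem_centralizer_iff]
    constructor
    · intro h
      exact (h b rfl).symm
    · intro h y hy
      rw [Set.mem_singleton_iff] at hy
      rw [hy]; exact h.symm.eq
  have hWC : W ≤ C := by
    intro x hx
    rw [hmemC]
    exact commute_of_mem_closure hc hx (Subgroup.subset_closure hb)
  set W₂ : Subgroup X := W.map (MulAut.conj g₀).toMonoidHom with hW₂def
  have hW₂C : W₂ ≤ C := by
    rintro _ ⟨w, hw, rfl⟩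
    rw [hmemC]
    have h1 : Commute w a := commute_of_mem_closure hc hw (Subgroup.subset_closure ha)
    have h2 := (Commute.conj_iff g₀).2 h1
    rw [hg₀] at h2
    simpa [MulAut.conj_apply] using h2
  have hW₂2 : IsPGroup 2 W₂ := hW2.map _
  obtain ⟨P₁, hP₁⟩ := (hW2.comap_subtype (K := C)).exists_le_sylow
  obtain ⟨P₂, hP₂⟩ := (hW₂2.comap_subtype (K := C)).exists_le_sylow
  obtain ⟨c, hcP⟩ := MulAction.exists_smul_eq ↥C P₂ P₁
  set Q : Subgroup X := (P₁ : Subgroup ↥C).map C.subtype with hQdef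
  have hQ2 : IsPGroup 2 Q := P₁.2.map _
  have hEQ : E ⊆ (Q : Set X) := by
    intro e he
    have heW : e ∈ W := Subgroup.subset_closure he
    refine ⟨⟨e, hWC heW⟩, hP₁ ?_, rfl⟩
    exact heW
  have hg : ∀ e ∈ E, ((c : X) * g₀) * e * ((c : X) * g₀)⁻¹ ∈ Q := by
    intro e he
    have heW : e ∈ W := Subgroup.subset_closure he
    have h1 : g₀ * e * g₀⁻¹ ∈ W₂ := ⟨e, heW, by simp [MulAut.conj_apply]⟩
    have h2 : (⟨g₀ * e * g₀⁻¹, hW₂C h1⟩ : ↥C) ∈ (P₂ : Subgroup ↥C) := hP₂ h1
    have h3 : c * ⟨g₀ * e * g₀⁻¹, hW₂C h1⟩ * c⁻¹ ∈ (P₁ : Subgroup ↥C) := by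
      rw [← hcP, Sylow.smul_def, Sylow.pointwise_smul_def]
      have := Subgroup.smul_mem_pointwise_smul _ (MulAut.conj c) _ h2
      simpa [MulAut.conj_apply] using this
    refine ⟨_, h3, ?_⟩
    simp only [Subgroup.subtype_apply, Subgroup.coe_mul, Subgroup.coe_inv]
    group
  refine ⟨(c : X) * g₀, mem_normalizer_of_conj_mem hT hconj hE hmax hQ2 hEQ hg, ?_⟩
  have hcb : Commute (c : X) b := (hmemC _).1 c.2
  calc (c : X) * g₀ * a * ((c : X) * g₀)⁻¹ = (c : X) * (g₀ * a * g₀⁻¹) * (c : X)⁻¹ := by group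
    _ = (c : X) * b * (c : X)⁻¹ := by rw [hg₀]
    _ = b := by rw [hcb.eq]; group

end fin

end Cfsg.Agent.Lib.H18.TTF
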