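import Cfsg.Agent.Lib.H18.TTFischer3

set_option autoImplicit false
set_option linter.style.haveILetI false
set_option linter.unusedSectionVars false

/-!
3-transposition groups (helper18): in a primitive class, the normaliser of a commuting set `E` of
maximal size is doubly transitive on `E` (Fischer).

* `exists_stab_conj` : the stabiliser of `c ∈ E` in `N(E)` is transitive on `E \ {c}`;
* `normalizer_two_transitive`.
-/

namespace Cfsg.Agent.Lib.H18.TTF

open Cfsg Cfsg.Agent.Lib.H26.ThreeTrans Cfsg.Agent.Lib.H7.TT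

variable {G : Type*} [Group G] [Finite G] {D E : Set G}

theorem exists_stab_conj (hD : IsThreeTranspositionClass D) (hprim : IsPrimitiveUnderConj D)
    (hE : E ⊆ D) (hc : ∀ a ∈ E, ∀ b ∈ E, Commute a b)
    (hmax : ∀ E' : Set G, E' ⊆ D → (∀ a ∈ E', ∀ b ∈ E', Commute a b) → E'.ncard ≤ E.ncard)
    {c u v : G} (hcE : c ∈ E) (hu : u ∈ E) (huc : u ≠ c) (hv : v ∈ E) (hvc : v ≠ c) :
    ∃ h ∈ Subgroup.normalizer E, Commute h c ∧ h * u * h⁻¹ = v := by
  classical
  have hS := hD.1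
  have hconj := class_conj hD
  have hcD : c ∈ D := hE hcE
  set H : Subgroup G := Subgroup.closure (Dd D c) with hHdef
  -- `H` centralises `c`
  have hHc : ∀ g ∈ H, Commute g c := by
    intro g hg
    have hle : H ≤ Subgroup.centralizer ({c} : Set G) := by
      rw [hHdef, Subgroup.closure_le]
      intro y hy
      rw [SetLike.mem_coe, Subgroup.mem_centralizer_iff]
      intro z hz
      rw [Set.mem_singleton_iff] at hz
      rw [hz]; exact hy.2.2.eq
    have := hle hg
    rw [Subgroup.mem_centralizer_iff] at this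
    exact (this c rfl).symm
  have hEdd : ∀ e ∈ E, e ≠ c → e ∈ Dd D c := fun e he hec => ⟨hE he, hec, hc c hcE e he⟩
  have hEH : ∀ e ∈ E, e ≠ c → e ∈ H := fun e he hec => Subgroup.subset_closure (hEdd e he hec)
  set T' : Set ↥H := {y | (y : G) ∈ Dd D c} with hT'def
  set E' : Set ↥H := {y | (y : G) ∈ E ∧ (y : G) ≠ c} with hE'def
  have hT' : IsThreeTranspositionSet T' := by
    refine ⟨?_, ?_⟩
    · intro y hy
      rw [← Subgroup.orderOf_coe]
      exact hS.1 _ hy.1
    · intro y hy z hz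
      rcases hS.2 _ hy.1 _ hz.1 with h | h
      · left
        apply Subtype.ext
        simpa using h
      · right
        apply Subtype.ext
        simpa using h
  have hddconj : ∀ g : G, Commute g c → ∀ y ∈ Dd D c, g * y * g⁻¹ ∈ Dd D c := by
    intro g hg y hy
    have e : g * c * g⁻¹ = c := by rw [hg.eq]; group
    refine ⟨hconj g y hy.1, ?_, ?_⟩
    · intro h
      apply hy.2.1
      have h2 : g * y * g⁻¹ = g * c * g⁻¹ := by rw [h, e]
      have := congrArg (fun t => g⁻¹ * t * g) h2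
      simpa [mul_assoc] using this
    · have := (Commute.conj_iff g).2 hy.2.2
      rwa [e] at this
  have hconj' : ∀ g : ↥H, ∀ t ∈ T', g * t * g⁻¹ ∈ T' := by
    intro g t ht
    exact hddconj g (hHc g g.2) t ht
  have htrans' : ∀ a ∈ T', ∀ b ∈ T', ∃ g : ↥H, g * a * g⁻¹ = b := by
    intro a ha b hb
    obtain ⟨g, hg, hgab⟩ := dd_single_class hD hprim hcD ha hb
    exact ⟨⟨g, hg⟩, Subtype.ext hgab⟩
  have hE'T' : E' ⊆ T' := fun y hy => hEdd _ hy.1 hy.2
  have hc' : ∀ a ∈ E', ∀ b ∈ E', Commute a b := by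
    intro a ha b hb
    have := hc _ ha.1 _ hb.1
    exact Subtype.ext this.eq
  have himgE : Subtype.val '' E' = E \ {c} := by
    ext e
    constructor
    · rintro ⟨y, hy, rfl⟩
      exact ⟨hy.1, hy.2⟩
    · rintro ⟨he, hec⟩
      exact ⟨⟨e, hEH e he hec⟩, ⟨he, hec⟩, rfl⟩
  have hcardE' : E'.ncard + 1 = E.ncard := by
    rw [← Set.ncard_image_of_injective E' Subtype.val_injective, himgE]
    exact Set.ncard_diff_singleton_add_one hcE (Set.toFinite _)
  have hmax' : ∀ F' : Set ↥H, F' ⊆ T' → (∀ a ∈ F', ∀ b ∈ F', Commute a b) →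
      F'.ncard ≤ E'.ncard := by
    intro F' hF'T hF'c
    have hFD : insert c (Subtype.val '' F') ⊆ D := by
      rintro x (rfl | ⟨y, hy, rfl⟩)
      · exact hcD
      · exact (hF'T hy).1
    have hFc : ∀ a ∈ insert c (Subtype.val '' F'), ∀ b ∈ insert c (Subtype.val '' F'),
        Commute a b := by
      rintro a (rfl | ⟨y, hy, rfl⟩) b (rfl | ⟨z, hz, rfl⟩)
      · exact Commute.refl _
      · exact (hF'T hz).2.2
      · exact (hF'T hy).2.2.symm
      · have := hF'c y hy z hz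
        exact congrArg Subtype.val this.eq
    have h1 := hmax _ hFD hFc
    have hcnot : c ∉ Subtype.val '' F' := by
      rintro ⟨y, hy, hyc⟩
      exact (hF'T hy).2.1 hyc
    rw [Set.ncard_insert_of_notMem hcnot (Set.toFinite _),
      Set.ncard_image_of_injective _ Subtype.val_injective] at h1
    omega
  obtain ⟨g', hg'N, hg'uv⟩ := exists_normalizer_conj hT' hconj' htrans' hE'T' hc' hmax'
    (a := ⟨u, hEH u hu huc⟩) (b := ⟨v, hEH v hv hvc⟩) ⟨hu, huc⟩ ⟨hv, hvc⟩
  have hkey : ∀ k : ↥H, k ∈ Subgroup.normalizer E' → ∀ n ∈ E, (k : G) * n * (k : G)⁻¹ ∈ E := by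
    intro k hk n hn
    by_cases hnc : n = c
    · have e : (k : G) * c * (k : G)⁻¹ = c := by rw [(hHc k k.2).eq]; group
      rw [hnc, e]; exact hcE
    · have h1 : (⟨n, hEH n hn hnc⟩ : ↥H) ∈ E' := ⟨hn, hnc⟩
      have h2 := (Subgroup.mem_set_normalizer_iff.1 hk _).1 h1
      exact h2.1
  refine ⟨(g' : G), ?_, hHc g' g'.2, congrArg Subtype.val hg'uv⟩
  rw [Subgroup.mem_set_normalizer_iff]
  intro n
  constructor
  · exact hkey g' hg'N n
  · intro hn
    have := hkey g'⁻¹ (Subgroup.inv_mem _ hg'N) _ hn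
    simpa [mul_assoc] using this

/-- **Fischer.** In a primitive class of 3-transpositions the normaliser of a commuting set of
maximal size is doubly transitive on it. -/
theorem normalizer_two_transitive (hD : IsThreeTranspositionClass D)
    (hprim : IsPrimitiveUnderConj D) (hE : E ⊆ D) (hc : ∀ a ∈ E, ∀ b ∈ E, Commute a b)
    (hmax : ∀ E' : Set G, E' ⊆ D → (∀ a ∈ E', ∀ b ∈ E', Commute a b) → E'.ncard ≤ E.ncard)
    {a b c d : G} (ha : a ∈ E) (hb : b ∈ E) (hcE : c ∈ E) (hd : d ∈ E) (hab : a ≠ b)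
    (hcd : c ≠ d) : ∃ g ∈ Subgroup.normalizer E, g * a * g⁻¹ = c ∧ g * b * g⁻¹ = d := by
  have hS := hD.1
  have hconj := class_conj hD
  have htrans : ∀ x ∈ D, ∀ y ∈ D, ∃ g : G, g * x * g⁻¹ = y :=
    fun x hx y hy => exists_conj_eq hD hx hy
  obtain ⟨g₁, hg₁N, hg₁⟩ := exists_normalizer_conj hS hconj htrans hE hc hmax ha hcE
  have hb' : g₁ * b * g₁⁻¹ ∈ E := (Subgroup.mem_set_normalizer_iff.1 hg₁N b).1 hb
  have hb'c : g₁ * b * g₁⁻¹ ≠ c := by
    intro h
    apply hab
    rw [← hg₁] at h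
    have := congrArg (fun t => g₁⁻¹ * t * g₁) h
    simpa [mul_assoc] using this.symm
  obtain ⟨h, hhN, hhc, hh⟩ := exists_stab_conj hD hprim hE hc hmax hcE hb' hb'c hd (Ne.symm hcd)
  refine ⟨h * g₁, Subgroup.mul_mem _ hhN hg₁N, ?_, ?_⟩
  · calc h * g₁ * a * (h * g₁)⁻¹ = h * (g₁ * a * g₁⁻¹) * h⁻¹ := by group
      _ = h * c * h⁻¹ := by rw [hg₁]
      _ = c := by rw [hhc.eq]; group
  · calc h * g₁ * b * (h * g₁)⁻¹ = h * (g₁ * b * g₁⁻¹) * h⁻¹ := by group
      _ = d := hh

end Cfsg.Agent.Lib.H18.TTF
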