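import Mathlib

set_option autoImplicit false

/-!
# S4004 piece AVG (helper18 for helper20): the averaging trick

`G` finite with all element orders in `{1, r, r'}`, `V` a nontrivial normal abelian subgroup of exponent `r`,
`y` of order `r'`, `c` of order `r` normalising `⟨y⟩`: impossible.
-/

namespace Cfsg.Agent.Lib.H18.TV3

open scoped IsMulCommutative

universe u

variable {G : Type u} [Group G]

/-- `(v g)^n = (∏_{i<n} g^i v g^-i) g^n`, the product taken in the commutative group `V`. -/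
theorem avg_pow_mul (V : Subgroup G) [V.Normal] [IsMulCommutative ↥V] (v : ↥V) (g : G) (n : ℕ) :
    ((v : G) * g) ^ n =
      ((∏ i ∈ Finset.range n, (MulAut.conjNormal (g ^ i) v : ↥V) : ↥V) : G) * g ^ n := by
  induction n with
  | zero => simp
  | succ n ih =>
    rw [pow_succ, ih, Finset.prod_range_succ, Subgroup.coe_mul, MulAut.conjNormal_apply, pow_succ]
    group

/-- the norm of `v` under `g` vanishes when `g ^ r = 1`, all orders divide `r r'` and `V` has exponent `r` -/
theorem avg_norm_eq_one {r r' : ℕ} (hcop : Nat.Coprime r r')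
    (hord : ∀ g : G, g ^ (r * r') = 1)
    (V : Subgroup G) [V.Normal] [IsMulCommutative ↥V] (hVr : ∀ a ∈ V, a ^ r = 1)
    (v : ↥V) (g : G) (hg : g ^ r = 1) :
    (∏ i ∈ Finset.range r, (MulAut.conjNormal (g ^ i) v : ↥V) : ↥V) = 1 := by
  set P : ↥V := ∏ i ∈ Finset.range r, (MulAut.conjNormal (g ^ i) v : ↥V) with hP
  have h1 : ((v : G) * g) ^ r = (P : G) := by
    rw [avg_pow_mul V v g r, hg, mul_one]
  have h2 : (P : G) ^ r' = 1 := by
    rw [← h1, ← pow_mul]; exact hord _
  have h3 : (P : G) ^ r = 1 := hVr _ P.2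
  have h4 : orderOf (P : G) ∣ Nat.gcd r r' :=
    Nat.dvd_gcd (orderOf_dvd_of_pow_eq_one h3) (orderOf_dvd_of_pow_eq_one h2)
  rw [hcop, Nat.dvd_one, orderOf_eq_one_iff] at h4
  exact Subtype.ext h4

/-- the trace `∏_t y^t w y^-t` over `ZMod r'` is centralised by `y` -/
theorem avg_trace_comm {r' : ℕ} [NeZero r'] (V : Subgroup G) [V.Normal] [IsMulCommutative ↥V]
    (e : ZMod r' → G) (y : G) (he1 : ∀ t, y * e t = e (1 + t)) (w : ↥V) :
    ((∏ t : ZMod r', (MulAut.conjNormal (e t) w : ↥V) : ↥V) : G) * y =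
      y * ((∏ t : ZMod r', (MulAut.conjNormal (e t) w : ↥V) : ↥V) : G) := by
  set T : ↥V := ∏ t : ZMod r', (MulAut.conjNormal (e t) w : ↥V) with hT
  have h1 : (MulAut.conjNormal y T : ↥V) = T := by
    rw [hT, map_prod]
    have : ∀ t : ZMod r', (MulAut.conjNormal y) ((MulAut.conjNormal (e t)) w) =
        (MulAut.conjNormal (e (1 + t)) w : ↥V) := by
      intro t
      rw [← MulAut.mul_apply, ← map_mul, he1]
    rw [Finset.prod_congr rfl (fun t _ => this t)]
    exact Fintype.prod_equiv (Equiv.addLeft (1 : ZMod r')) _ _ (fun t => rfl)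
  have h2 : y * (T : G) * y⁻¹ = (T : G) := by
    rw [← MulAut.conjNormal_apply, h1]
  calc (T : G) * y = (y * (T : G) * y⁻¹) * y := by rw [h2]
    _ = y * (T : G) := by group

theorem avg {G : Type u} [Group G] [Finite G] {r r' : ℕ} (hr : r.Prime) (hr' : r'.Prime) (hne : r ≠ r')
    (hord : ∀ g : G, orderOf g = 1 ∨ orderOf g = r ∨ orderOf g = r')
    (V : Subgroup G) [V.Normal] (hVc : ∀ a ∈ V, ∀ b ∈ V, a * b = b * a) (hVr : ∀ a ∈ V, a ^ r = 1)
    (hV1 : V ≠ ⊥) (y c : G) (hy : orderOf y = r') (hc : orderOf c = r)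
    (hn : c * y * c⁻¹ ∈ Subgroup.zpowers y) : False := by
  classical
  haveI : Fact r'.Prime := ⟨hr'⟩
  haveI : Fact r.Prime := ⟨hr⟩
  haveI : IsMulCommutative ↥V := ⟨⟨fun a b => Subtype.ext (hVc a a.2 b b.2)⟩⟩
  have hr2 := hr.two_le
  have hr'2 := hr'.two_le
  have hcop : Nat.Coprime r r' := (Nat.coprime_primes hr hr').2 hne
  have hcr : c ^ r = 1 := by rw [← hc]; exact pow_orderOf_eq_one c
  -- every element has order dividing r r'
  have hpow : ∀ g : G, g ^ (r * r') = 1 := by
    intro g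
    apply orderOf_dvd_iff_pow_eq_one.1
    rcases hord g with h | h | h <;> rw [h]
    · exact one_dvd _
    · exact dvd_mul_right _ _
    · exact dvd_mul_left _ _
  -- no commuting pair of orders r, r'
  have hno : ∀ a b : G, Commute a b → orderOf a = r → orderOf b = r' → False := by
    intro a b hab ha hb
    have h := hab.orderOf_mul_eq_mul_orderOf_of_coprime (by rw [ha, hb]; exact hcop)
    rw [ha, hb] at h
    have h4 : r * 2 ≤ r * r' := Nat.mul_le_mul_left r hr'2
    have h5 : 2 * r' ≤ r * r' := Nat.mul_le_mul_right r' hr2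
    rcases hord (a * b) with h1 | h1 | h1 <;> rw [h] at h1 <;> omega
  have hCV : ∀ v ∈ V, v * y = y * v → v = 1 := by
    intro v hv hvy
    by_contra hv1
    exact hno v y hvy (orderOf_eq_prime (hVr v hv) hv1) hy
  have hcy : c * y ≠ y * c := fun h => hno c y h hc hy
  -- the exponential map
  set e : ZMod r' → G := fun t => y ^ t.val with he
  have e_nat : ∀ n : ℕ, e (n : ZMod r') = y ^ n := by
    intro n
    show y ^ ((n : ZMod r').val) = y ^ n
    rw [ZMod.val_natCast, ← hy]
    exact pow_mod_orderOf y n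
  have e_add : ∀ s t : ZMod r', e (s + t) = e s * e t := by
    intro s t
    show y ^ (s + t).val = y ^ s.val * y ^ t.val
    rw [← pow_add, pow_eq_pow_iff_modEq, hy, ZMod.val_add]
    exact Nat.mod_modEq _ _
  have e_zero : e 0 = 1 := by
    show y ^ (0 : ZMod r').val = 1
    rw [ZMod.val_zero, pow_zero]
  have e_one : e 1 = y := by
    have := e_nat 1
    rwa [Nat.cast_one, pow_one] at this
  have e_inj : ∀ s t : ZMod r', e s = e t → s = t := by
    intro s t h
    have h' : y ^ s.val = y ^ t.val := h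
    rw [pow_eq_pow_iff_modEq, hy] at h'
    exact ZMod.val_injective _ (Nat.ModEq.eq_of_lt_of_lt h' (ZMod.val_lt s) (ZMod.val_lt t))
  -- the multiplier
  obtain ⟨n, hnk⟩ : ∃ n : ℕ, y ^ n = c * y * c⁻¹ :=
    (Submonoid.mem_powers_iff _ _).1 (mem_powers_iff_mem_zpowers.2 hn)
  set κ : ZMod r' := (n : ZMod r') with hκ
  have hconj : ∀ t : ZMod r', c * e t * c⁻¹ = e (κ * t) := by
    intro t
    have h2 : κ * t = ((n * t.val : ℕ) : ZMod r') := by
      rw [Nat.cast_mul, ZMod.natCast_zmod_val]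
    rw [h2, e_nat, pow_mul, hnk, conj_pow]
  have hconji : ∀ (i : ℕ) (t : ZMod r'), c ^ i * e t * (c ^ i)⁻¹ = e (κ ^ i * t) := by
    intro i
    induction i with
    | zero => intro t; simp
    | succ i ih =>
      intro t
      have : c ^ (i + 1) * e t * (c ^ (i + 1))⁻¹ = c * (c ^ i * e t * (c ^ i)⁻¹) * c⁻¹ := by
        rw [pow_succ']; group
      rw [this, ih, hconj, pow_succ', mul_assoc]
  have hκr : κ ^ r = 1 := by
    have := hconji r 1
    rw [hcr, one_mul, inv_one, mul_one, mul_one] at this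
    exact (e_inj _ _ this).symm
  have hκ1 : κ ≠ 1 := by
    intro h
    have := hconj 1
    rw [h, one_mul, e_one] at this
    apply hcy
    calc c * y = (c * y * c⁻¹) * c := by group
      _ = y * c := by rw [this]
  -- geometric sums
  set M : ℕ → ZMod r' := fun i => ∑ s ∈ Finset.range i, κ ^ s with hM
  have hMsucc : ∀ i, M (i + 1) = M i + κ ^ i := fun i => Finset.sum_range_succ _ _
  have hMgeom : ∀ i, M i * (κ - 1) = κ ^ i - 1 := fun i => geom_sum_mul κ i
  have hκ1' : κ - 1 ≠ 0 := sub_ne_zero.2 hκ1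
  have hMr : M r = 0 := by
    have := hMgeom r
    rw [hκr, sub_self] at this
    exact (mul_eq_zero.1 this).resolve_right hκ1'
  have hMne : ∀ i, 0 < i → i < r → M i ≠ 0 := by
    intro i hi0 hir hMi
    have h1 := hMgeom i
    rw [hMi, zero_mul] at h1
    have h2 : κ ^ i = 1 := (sub_eq_zero.1 h1.symm)
    have h3 : κ ^ (Nat.gcd i r) = 1 := pow_gcd_eq_one.2 ⟨h2, hκr⟩
    have h4 : Nat.gcd i r = 1 := by
      have := (Nat.coprime_primes hr hr).1
      exact Nat.Coprime.symm ((Nat.Prime.coprime_iff_not_dvd hr).2 (Nat.not_dvd_of_pos_of_lt hi0 hir))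
    rw [h4, pow_one] at h3
    exact hκ1 h3
  -- powers of g_t = e t * c
  have hgpow : ∀ (t : ZMod r') (i : ℕ), (e t * c) ^ i = e (t * M i) * c ^ i := by
    intro t i
    induction i with
    | zero => simp [hM, e_zero]
    | succ i ih =>
      have h1 : e (t * M i) * c ^ i * (e t * c) = e (t * M i) * (c ^ i * e t * (c ^ i)⁻¹) * c ^ (i + 1) := by
        rw [pow_succ]; group
      rw [pow_succ, ih, h1, hconji, ← e_add, hMsucc]
      congr 2
      ring
  have hgr : ∀ t : ZMod r', (e t * c) ^ r = 1 := by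
    intro t
    rw [hgpow, hMr, mul_zero, e_zero, hcr, one_mul]
  -- the norms vanish
  have hnorm : ∀ (v : ↥V) (t : ZMod r'),
      (∏ i ∈ Finset.range r, (MulAut.conjNormal ((e t * c) ^ i) v : ↥V) : ↥V) = 1 :=
    fun v t => avg_norm_eq_one hcop hpow V hVr v (e t * c) (hgr t)
  -- e and y
  have he1 : ∀ t, y * e t = e (1 + t) := by
    intro t; rw [e_add, e_one]
  -- the averaging
  have hkey : ∀ v : ↥V, v ^ r' = 1 := by
    intro v
    have h1 : (∏ t : ZMod r', ∏ i ∈ Finset.range r,
        (MulAut.conjNormal ((e t * c) ^ i) v : ↥V) : ↥V) = 1 :=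
      Finset.prod_eq_one (fun t _ => hnorm v t)
    rw [Finset.prod_comm] at h1
    obtain ⟨m, rfl⟩ : ∃ m, r = m + 1 := ⟨r - 1, by omega⟩
    rw [Finset.prod_range_succ'] at h1
    have hzero : (∏ t : ZMod r', (MulAut.conjNormal ((e t * c) ^ 0) v : ↥V) : ↥V) = v ^ r' := by
      simp only [pow_zero, map_one, MulAut.one_apply, Finset.prod_const, Finset.card_univ, ZMod.card]
    have hpos : ∀ i ∈ Finset.range m,
        (∏ t : ZMod r', (MulAut.conjNormal ((e t * c) ^ (i + 1)) v : ↥V) : ↥V) = 1 := by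
      intro i hi
      have hi' : i + 1 < m + 1 := by have := Finset.mem_range.1 hi; omega
      set w : ↥V := MulAut.conjNormal (c ^ (i + 1)) v with hw
      have h2 : ∀ t : ZMod r', (MulAut.conjNormal ((e t * c) ^ (i + 1)) v : ↥V) =
          (MulAut.conjNormal (e (t * M (i + 1))) w : ↥V) := by
        intro t
        rw [hgpow, map_mul, MulAut.mul_apply]
      rw [Finset.prod_congr rfl (fun t _ => h2 t)]
      have h3 : (∏ t : ZMod r', (MulAut.conjNormal (e (t * M (i + 1))) w : ↥V) : ↥V) =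
          ∏ t : ZMod r', (MulAut.conjNormal (e t) w : ↥V) :=
        Fintype.prod_equiv (Equiv.mulRight₀ (M (i + 1)) (hMne (i + 1) (Nat.succ_pos i) hi')) _ _
          (fun t => rfl)
      rw [h3]
      apply Subtype.ext
      exact hCV _ (Subtype.prop _) (avg_trace_comm V e y he1 w)
    rw [Finset.prod_eq_one hpos, one_mul, hzero] at h1
    exact h1
  -- conclusion
  obtain ⟨v, hv⟩ := (Subgroup.ne_bot_iff_exists_ne_one).1 hV1
  apply hv
  have h1 : (v : G) ^ r' = 1 := by
    have := congrArg (Subtype.val) (hkey v)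
    simpa using this
  have h2 : (v : G) ^ r = 1 := hVr _ v.2
  have h4 : orderOf (v : G) ∣ Nat.gcd r r' :=
    Nat.dvd_gcd (orderOf_dvd_of_pow_eq_one h2) (orderOf_dvd_of_pow_eq_one h1)
  rw [hcop, Nat.dvd_one, orderOf_eq_one_iff] at h4
  exact Subtype.ext h4

end Cfsg.Agent.Lib.H18.TV3
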