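import Mathlib
import Cfsg.Agent.Lib.H14.ThetaDefs

/-!
# S1632 piece LA-b (architect helper14): `qf_cons`, `qf_inv_cons`, exact signatures.
-/

set_option autoImplicit false

namespace Cfsg.Agent.Lib.H18.Theta

open Complex Matrix
open Cfsg.Agent.Lib.H14.Theta

section LA

variable {n : ℕ} (A C : Matrix (Fin (n + 1)) (Fin (n + 1)) ℝ)

theorem lab_pos (hA : IsPD A) : 0 < A 0 0 := by
  have h := hA.2 (Pi.single 0 1) (by
    intro h
    have := congrFun h 0
    simp at this)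
  unfold qfR at h
  simpa [Pi.single_apply, Finset.sum_ite_eq', Finset.sum_ite_eq] using h

theorem lab_symm (hA : IsPD A) (i j : Fin (n + 1)) : A i j = A j i := (hA.1.apply i j).symm

/-- the Schur complement form. -/
theorem lab_qf_schur (hA : IsPD A) (x' : Fin n → ℂ) :
    qf (schurA A) x' = (∑ i, ∑ j, (A i.succ j.succ : ℂ) * x' i * x' j) -
      (∑ j, (A 0 j.succ : ℂ) * x' j) ^ 2 / (A 0 0 : ℂ) := by
  have hs := lab_symm A hA
  calc qf (schurA A) x'
      = ∑ i, ∑ j, ((A i.succ j.succ : ℂ) * x' i * x' j -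
          ((A 0 i.succ : ℂ) * x' i) * ((A 0 j.succ : ℂ) * x' j) / (A 0 0 : ℂ)) := by
        unfold qf schurA
        refine Finset.sum_congr rfl fun i _ => Finset.sum_congr rfl fun j _ => ?_
        rw [hs i.succ 0]
        push_cast
        ring
    _ = (∑ i, ∑ j, (A i.succ j.succ : ℂ) * x' i * x' j) -
          ∑ i, ∑ j, ((A 0 i.succ : ℂ) * x' i) * ((A 0 j.succ : ℂ) * x' j) / (A 0 0 : ℂ) := by
        simp only [Finset.sum_sub_distrib]
    _ = _ := by
        congr 1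
        rw [pow_two, Finset.sum_mul_sum, Finset.sum_div]
        refine Finset.sum_congr rfl fun i _ => ?_
        rw [Finset.sum_div]

/-- **LA5**. -/
theorem qf_cons (hA : IsPD A) (x₀ : ℂ) (x' : Fin n → ℂ) :
    qf A (Fin.cons x₀ x') =
      (A 0 0 : ℂ) * x₀ ^ 2 + 2 * x₀ * (∑ j, (A 0 j.succ : ℂ) * x' j) +
        (qf (schurA A) x' + (∑ j, (A 0 j.succ : ℂ) * x' j) ^ 2 / (A 0 0 : ℂ)) := by
  have hs := lab_symm A hA
  rw [lab_qf_schur A hA, sub_add_cancel]
  unfold qf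
  rw [Fin.sum_univ_succ]
  simp only [Fin.sum_univ_succ, Fin.cons_zero, Fin.cons_succ]
  have h1 : ∑ i : Fin n, ((A i.succ 0 : ℂ) * x' i * x₀ + ∑ j : Fin n, (A i.succ j.succ : ℂ) * x' i * x' j)
      = x₀ * (∑ j, (A 0 j.succ : ℂ) * x' j) + ∑ i : Fin n, ∑ j : Fin n, (A i.succ j.succ : ℂ) * x' i * x' j := by
    rw [Finset.sum_add_distrib, Finset.mul_sum]
    congr 1
    refine Finset.sum_congr rfl fun i _ => ?_
    rw [hs i.succ 0]
    ring
  have h2 : ∑ j : Fin n, (A 0 j.succ : ℂ) * x₀ * x' j = x₀ * (∑ j, (A 0 j.succ : ℂ) * x' j) := by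
    rw [Finset.mul_sum]
    refine Finset.sum_congr rfl fun i _ => ?_
    ring
  rw [h1, h2]
  ring

/-- expansion of `qf M (x - t y)` for symmetric `M`. -/
theorem lab_qf_sub {m : ℕ} (M : Matrix (Fin m) (Fin m) ℝ) (hM : ∀ i j, M i j = M j i)
    (x y : Fin m → ℂ) (t : ℂ) :
    qf M (fun j => x j - t * y j) =
      qf M x - 2 * t * (∑ i, ∑ j, (M i j : ℂ) * y i * x j) + t ^ 2 * qf M y := by
  unfold qf
  have hswap : ∑ i, ∑ j, (M i j : ℂ) * x i * y j = ∑ i, ∑ j, (M i j : ℂ) * y i * x j := by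
    rw [Finset.sum_comm]
    refine Finset.sum_congr rfl fun i _ => Finset.sum_congr rfl fun j _ => ?_
    rw [hM j i]; ring
  calc ∑ i, ∑ j, (M i j : ℂ) * (x i - t * y i) * (x j - t * y j)
      = ∑ i, ∑ j, ((M i j : ℂ) * x i * x j - t * ((M i j : ℂ) * y i * x j)
          - t * ((M i j : ℂ) * x i * y j) + t ^ 2 * ((M i j : ℂ) * y i * y j)) := by
        refine Finset.sum_congr rfl fun i _ => Finset.sum_congr rfl fun j _ => ?_
        ring
    _ = (∑ i, ∑ j, (M i j : ℂ) * x i * x j) - t * (∑ i, ∑ j, (M i j : ℂ) * y i * x j)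
          - t * (∑ i, ∑ j, (M i j : ℂ) * x i * y j)
          + t ^ 2 * ∑ i, ∑ j, (M i j : ℂ) * y i * y j := by
        simp only [Finset.sum_add_distrib, Finset.sum_sub_distrib, Finset.mul_sum]
    _ = _ := by rw [hswap]; ring

/-- raw splitting of the first coordinate for a symmetric matrix. -/
theorem lab_qf_cons_raw (M : Matrix (Fin (n + 1)) (Fin (n + 1)) ℝ) (hs : ∀ i j, M i j = M j i)
    (x₀ : ℂ) (x' : Fin n → ℂ) :
    qf M (Fin.cons x₀ x') =
      (M 0 0 : ℂ) * x₀ ^ 2 + 2 * x₀ * (∑ j, (M 0 j.succ : ℂ) * x' j) +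
        ∑ i : Fin n, ∑ j : Fin n, (M i.succ j.succ : ℂ) * x' i * x' j := by
  unfold qf
  rw [Fin.sum_univ_succ]
  simp only [Fin.sum_univ_succ, Fin.cons_zero, Fin.cons_succ]
  have h1 : ∑ i : Fin n, ((M i.succ 0 : ℂ) * x' i * x₀ + ∑ j : Fin n, (M i.succ j.succ : ℂ) * x' i * x' j)
      = x₀ * (∑ j, (M 0 j.succ : ℂ) * x' j) + ∑ i : Fin n, ∑ j : Fin n, (M i.succ j.succ : ℂ) * x' i * x' j := by
    rw [Finset.sum_add_distrib, Finset.mul_sum]
    congr 1
    refine Finset.sum_congr rfl fun i _ => ?_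
    rw [hs i.succ 0]
    ring
  have h2 : ∑ j : Fin n, (M 0 j.succ : ℂ) * x₀ * x' j = x₀ * (∑ j, (M 0 j.succ : ℂ) * x' j) := by
    rw [Finset.mul_sum]
    refine Finset.sum_congr rfl fun i _ => ?_
    ring
  rw [h1, h2]
  ring

/-- **LA6**. -/
theorem qf_inv_cons (hA : IsPD A) (hAC : A * C = 1) (v₀ : ℂ) (v' : Fin n → ℂ) :
    qf C (Fin.cons v₀ v') =
      v₀ ^ 2 / (A 0 0 : ℂ) + qf (lowerC C) (fun j => v' j - v₀ * (A 0 j.succ : ℂ) / (A 0 0 : ℂ)) := by
  have ha0 : A 0 0 ≠ 0 := (lab_pos A hA).ne'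
  have ha : (A 0 0 : ℂ) ≠ 0 := by exact_mod_cast ha0
  -- `C` is symmetric
  have hCA : C * A = 1 := mul_eq_one_comm.mp hAC
  have hCsymm : Cᵀ = C := by
    have h1 : A * Cᵀ = 1 := by
      have := congrArg Matrix.transpose hCA
      rw [Matrix.transpose_mul, Matrix.transpose_one, hA.1.eq] at this
      exact this
    calc Cᵀ = (C * A) * Cᵀ := by rw [hCA, one_mul]
      _ = C * (A * Cᵀ) := by rw [Matrix.mul_assoc]
      _ = C := by rw [h1, mul_one]
  have hsC : ∀ i j, C i j = C j i := fun i j => by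
    have := congrFun (congrFun hCsymm i) j
    rw [Matrix.transpose_apply] at this
    exact this.symm
  have hsC' : ∀ i j, lowerC C i j = lowerC C j i := fun i j => hsC i.succ j.succ
  -- entries of `A * C = 1`
  have F1 : ∀ j : Fin n, A 0 0 * C 0 j.succ + ∑ k : Fin n, A 0 k.succ * C k.succ j.succ = 0 := by
    intro j
    have := congrFun (congrFun hAC 0) j.succ
    rw [Matrix.mul_apply, Fin.sum_univ_succ, Matrix.one_apply_ne (Fin.succ_ne_zero j).symm] at this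
    exact this
  have F2 : A 0 0 * C 0 0 + ∑ k : Fin n, C 0 k.succ * A 0 k.succ = 1 := by
    have := congrFun (congrFun hAC 0) 0
    rw [Matrix.mul_apply, Fin.sum_univ_succ, Matrix.one_apply_eq] at this
    rw [← this]
    congr 1
    refine Finset.sum_congr rfl fun k _ => ?_
    rw [hsC k.succ 0, mul_comm]
  have F1c : ∀ j : Fin n, ∑ k : Fin n, (A 0 k.succ : ℂ) * (C k.succ j.succ : ℂ) =
      -(A 0 0 : ℂ) * (C 0 j.succ : ℂ) := by
    intro j
    have := F1 j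
    have h : ((A 0 0 * C 0 j.succ + ∑ k : Fin n, A 0 k.succ * C k.succ j.succ : ℝ) : ℂ) = 0 := by
      rw [this]; simp
    push_cast at h
    linear_combination h
  have F2c : (A 0 0 : ℂ) * (C 0 0 : ℂ) + ∑ k : Fin n, (C 0 k.succ : ℂ) * (A 0 k.succ : ℂ) = 1 := by
    have h : ((A 0 0 * C 0 0 + ∑ k : Fin n, C 0 k.succ * A 0 k.succ : ℝ) : ℂ) = 1 := by
      rw [F2]; simp
    push_cast at h
    exact h
  -- the bilinear pairing against `b`
  have G : ∀ w : Fin n → ℂ, ∑ i, ∑ j, (lowerC C i j : ℂ) * (A 0 i.succ : ℂ) * w j =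
      -(A 0 0 : ℂ) * ∑ j, (C 0 j.succ : ℂ) * w j := by
    intro w
    rw [Finset.sum_comm, Finset.mul_sum]
    refine Finset.sum_congr rfl fun j _ => ?_
    have : ∑ i : Fin n, (lowerC C i j : ℂ) * (A 0 i.succ : ℂ) * w j =
        (∑ k : Fin n, (A 0 k.succ : ℂ) * (C k.succ j.succ : ℂ)) * w j := by
      rw [Finset.sum_mul]
      refine Finset.sum_congr rfl fun i _ => ?_
      unfold lowerC
      ring
    rw [this, F1c j]
    ring
  have hfun : (fun j => v' j - v₀ * (A 0 j.succ : ℂ) / (A 0 0 : ℂ)) =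
      (fun j => v' j - (v₀ / (A 0 0 : ℂ)) * (fun j : Fin n => (A 0 j.succ : ℂ)) j) := by
    funext j
    ring
  rw [hfun, lab_qf_sub (lowerC C) hsC' v' (fun j : Fin n => (A 0 j.succ : ℂ)) (v₀ / (A 0 0 : ℂ)),
    lab_qf_cons_raw C hsC, G v']
  have hqb : qf (lowerC C) (fun j : Fin n => (A 0 j.succ : ℂ)) =
      -(A 0 0 : ℂ) * ∑ j : Fin n, (C 0 j.succ : ℂ) * (A 0 j.succ : ℂ) := by
    rw [← G]
    rfl
  rw [hqb]
  have hT : ∑ i : Fin n, ∑ j : Fin n, (C i.succ j.succ : ℂ) * v' i * v' j = qf (lowerC C) v' := rfl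
  rw [hT]
  set S2 := ∑ k : Fin n, (C 0 k.succ : ℂ) * (A 0 k.succ : ℂ) with hS2
  have hC00 : (C 0 0 : ℂ) = (1 - S2) / (A 0 0 : ℂ) := by
    field_simp
    linear_combination F2c
  rw [hC00]
  field_simp
  ring

end LA

end Cfsg.Agent.Lib.H18.Theta
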