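import Mathlib
import Cfsg.Agent.Lib.H18.AltStem3
import Cfsg.Agent.Lib.H18.Car3

/-!
# The triple covers of the alternating groups of degrees 6 and 7, by generators and relations
(helper18)

Generators `z`, `w i` (`i < m`), relations `w i ^ 3 = 1`, `(w i * w j) ^ 2 = z ^ cc i j`
(`i ≠ j`), `z ^ 3 = 1`, `z` central.  The quotient by `z` is the alternating group of degree
`m + 2` (Carmichael), and `z ≠ 1` for `m ≤ 5` by a permutation model on 126 points.
-/

set_option autoImplicit false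

namespace Cfsg.Agent.Lib.H18.TripleCover

open Cfsg.Agent.Lib.H18

/-- The exponents. -/
def cc (i j : ℕ) : ℕ :=
  if (i = 1 ∧ j = 3) ∨ (i = 3 ∧ j = 1) ∨ (i = 2 ∧ j = 4) ∨ (i = 4 ∧ j = 2) then 1
  else if (i = 2 ∧ j = 3) ∨ (i = 3 ∧ j = 2) ∨ (i = 1 ∧ j = 4) ∨ (i = 4 ∧ j = 1) then 2
  else 0

/-- The relators. -/
def rels (m : ℕ) : Set (FreeGroup (Option (Fin m))) :=
  {r | (∃ i : Fin m, r = FreeGroup.of (some i) ^ 3) ∨
    (∃ i j : Fin m, i ≠ j ∧
      r = (FreeGroup.of (some i) * FreeGroup.of (some j)) ^ 2 *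
        (FreeGroup.of none ^ cc i.val j.val)⁻¹) ∨
    r = FreeGroup.of none ^ 3 ∨
    ∃ i : Fin m, r = FreeGroup.of none * FreeGroup.of (some i) * (FreeGroup.of none)⁻¹ *
      (FreeGroup.of (some i))⁻¹}

/-- The covering group. -/
abbrev P (m : ℕ) : Type := PresentedGroup (rels m)

variable {m : ℕ}

/-- The central element. -/
def z : P m := PresentedGroup.of none

/-- The generators. -/
def w (i : Fin m) : P m := PresentedGroup.of (some i)

theorem w_pow (i : Fin m) : w i ^ 3 = 1 := by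
  have := PresentedGroup.one_of_mem (rels := rels m) (x := FreeGroup.of (some i) ^ 3)
    (Or.inl ⟨i, rfl⟩)
  rw [map_pow] at this
  exact this

theorem w_mul_sq (i j : Fin m) (hij : i ≠ j) : (w i * w j) ^ 2 = z ^ cc i.val j.val := by
  have := PresentedGroup.one_of_mem (rels := rels m)
    (x := (FreeGroup.of (some i) * FreeGroup.of (some j)) ^ 2 *
      (FreeGroup.of none ^ cc i.val j.val)⁻¹)
    (Or.inr (Or.inl ⟨i, j, hij, rfl⟩))
  rw [map_mul, map_pow, map_mul, map_inv, map_pow] at this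
  exact mul_inv_eq_one.mp this

theorem z_cube : (z : P m) ^ 3 = 1 := by
  have := PresentedGroup.one_of_mem (rels := rels m) (x := FreeGroup.of none ^ 3)
    (Or.inr (Or.inr (Or.inl rfl)))
  rw [map_pow] at this
  exact this

theorem z_mul_w (i : Fin m) : z * w i = w i * z := by
  have := PresentedGroup.one_of_mem (rels := rels m)
    (x := FreeGroup.of none * FreeGroup.of (some i) * (FreeGroup.of none)⁻¹ *
      (FreeGroup.of (some i))⁻¹)
    (Or.inr (Or.inr (Or.inr ⟨i, rfl⟩)))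
  rw [map_mul, map_mul, map_mul, map_inv, map_inv] at this
  have h2 := mul_inv_eq_one.mp this
  exact mul_inv_eq_iff_eq_mul.mp h2

/-- Homomorphisms out of the covering group. -/
def homOf {G : Type*} [Group G] (zG : G) (wG : Fin m → G) (h1 : ∀ i, wG i ^ 3 = 1)
    (h2 : ∀ i j : Fin m, i ≠ j → (wG i * wG j) ^ 2 = zG ^ cc i.val j.val) (h3 : zG ^ 3 = 1)
    (h4 : ∀ i, zG * wG i = wG i * zG) : P m →* G :=
  PresentedGroup.toGroup (f := fun o : Option (Fin m) => o.elim zG wG) (by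
    rintro r (⟨i, rfl⟩ | ⟨i, j, hij, rfl⟩ | rfl | ⟨i, rfl⟩)
    · rw [map_pow, FreeGroup.lift_apply_of]
      exact h1 i
    · rw [map_mul, map_pow, map_mul, map_inv, map_pow, FreeGroup.lift_apply_of,
        FreeGroup.lift_apply_of, FreeGroup.lift_apply_of]
      exact mul_inv_eq_one.mpr (h2 i j hij)
    · rw [map_pow, FreeGroup.lift_apply_of]
      exact h3
    · rw [map_mul, map_mul, map_mul, map_inv, map_inv, FreeGroup.lift_apply_of,
        FreeGroup.lift_apply_of]
      exact mul_inv_eq_one.mpr (mul_inv_eq_iff_eq_mul.mpr (h4 i)))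

theorem homOf_z {G : Type*} [Group G] (zG : G) (wG : Fin m → G) (h1 : ∀ i, wG i ^ 3 = 1)
    (h2 : ∀ i j : Fin m, i ≠ j → (wG i * wG j) ^ 2 = zG ^ cc i.val j.val) (h3 : zG ^ 3 = 1)
    (h4 : ∀ i, zG * wG i = wG i * zG) : homOf zG wG h1 h2 h3 h4 z = zG := by
  rw [homOf, z, PresentedGroup.toGroup.of]
  rfl

theorem homOf_w {G : Type*} [Group G] (zG : G) (wG : Fin m → G) (h1 : ∀ i, wG i ^ 3 = 1)
    (h2 : ∀ i j : Fin m, i ≠ j → (wG i * wG j) ^ 2 = zG ^ cc i.val j.val) (h3 : zG ^ 3 = 1)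
    (h4 : ∀ i, zG * wG i = wG i * zG) (i : Fin m) : homOf zG wG h1 h2 h3 h4 (w i) = wG i := by
  rw [homOf, w, PresentedGroup.toGroup.of]
  rfl

theorem pt_ne {i j : Fin m} (hij : i ≠ j) :
    AltStem.pt i.val i.isLt ≠ AltStem.pt j.val j.isLt := by
  intro h
  have := congrArg Fin.val h
  simp only [AltStem.pt] at this
  exact hij (Fin.ext (by omega))

/-- The map to the alternating group. -/
noncomputable def φ : P m →* alternatingGroup (Fin (m + 2)) :=
  homOf 1 (fun i => AltStem.VG AltStem.zero_ne_one' (AltStem.pt i.val i.isLt))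
    (fun i => AltStem.VG_pow _ _)
    (fun i j hij => by
      rw [one_pow]
      exact AltStem.VG_mul_sq _ (AltStem.pt_ne_zero _ _) (AltStem.pt_ne_one _ _)
        (AltStem.pt_ne_zero _ _) (AltStem.pt_ne_one _ _) (pt_ne hij))
    (one_pow 3) (fun i => by rw [one_mul, mul_one])

theorem z_comm (g : P m) : g * z = z * g := by
  have : g ∈ Subgroup.centralizer {(z : P m)} := by
    apply PresentedGroup.generated_by
    intro j
    rw [Subgroup.mem_centralizer_iff]
    intro h hh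
    rw [Set.mem_singleton_iff] at hh
    subst hh
    cases j with
    | none => rfl
    | some i => exact z_mul_w i
  rw [Subgroup.mem_centralizer_iff] at this
  exact (this z rfl).symm

theorem z_mem_center : (z : P m) ∈ Subgroup.center (P m) := by
  rw [Subgroup.mem_center_iff]
  exact z_comm

theorem cc_zero_one : cc 0 1 = 0 := by decide
theorem cc_zero_two : cc 0 2 = 0 := by decide
theorem cc_one_two : cc 1 2 = 0 := by decide
theorem cc_zero_three : cc 0 3 = 0 := by decide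
theorem cc_one_three : cc 1 3 = 1 := by decide

theorem z_mem_commutator (hm : 4 ≤ m) : (z : P m) ∈ commutator (P m) := by
  rw [← Abelianization.ker_of, MonoidHom.mem_ker]
  set ab : P m →* Abelianization (P m) := Abelianization.of with hab
  have key : ∀ g : Abelianization (P m), g ^ 2 = 1 → g ^ 3 = 1 → g = 1 := by
    intro g h2 h3
    calc g = g ^ 3 * (g ^ 2)⁻¹ := by group
      _ = 1 := by rw [h2, h3, inv_one, one_mul]
  have hw : ∀ i : Fin m, ab (w i) ^ 3 = 1 := fun i => by rw [← map_pow, w_pow, map_one]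
  have hne : ∀ a b : ℕ, ∀ (ha : a < m) (hb : b < m), a ≠ b → (⟨a, ha⟩ : Fin m) ≠ ⟨b, hb⟩ := by
    intro a b ha hb hab h
    exact hab (congrArg Fin.val h)
  have hpair : ∀ a b : ℕ, ∀ (ha : a < m) (hb : b < m), a ≠ b → cc a b = 0 →
      ab (w ⟨a, ha⟩) * ab (w ⟨b, hb⟩) = 1 := by
    intro a b ha hb hab hc
    apply key
    · rw [← map_mul, ← map_pow, w_mul_sq _ _ (hne a b ha hb hab)]
      change ab (z ^ cc a b) = 1
      rw [hc, pow_zero, map_one]
    · rw [mul_pow, hw, hw, one_mul]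
  have h01 := hpair 0 1 (by omega) (by omega) (by norm_num) cc_zero_one
  have h02 := hpair 0 2 (by omega) (by omega) (by norm_num) cc_zero_two
  have h12 := hpair 1 2 (by omega) (by omega) (by norm_num) cc_one_two
  have h03 := hpair 0 3 (by omega) (by omega) (by norm_num) cc_zero_three
  have e1 := eq_inv_of_mul_eq_one_right h01
  have e2 := eq_inv_of_mul_eq_one_right h02
  have e3 := eq_inv_of_mul_eq_one_right h03
  rw [e1, e2] at h12
  have hsq0 : ab (w ⟨0, by omega⟩) ^ 2 = 1 := by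
    calc ab (w ⟨0, by omega⟩) ^ 2
        = ((ab (w ⟨0, by omega⟩))⁻¹ * (ab (w ⟨0, by omega⟩))⁻¹)⁻¹ := by group
      _ = 1 := by rw [h12, inv_one]
  have hx0 : ab (w ⟨0, by omega⟩) = 1 := key _ hsq0 (hw _)
  rw [hx0, inv_one] at e1 e3
  have h13 : (ab (w ⟨1, by omega⟩) * ab (w ⟨3, by omega⟩)) ^ 2 = ab z := by
    rw [← map_mul, ← map_pow, w_mul_sq _ _ (hne 1 3 (by omega) (by omega) (by norm_num))]
    change ab (z ^ cc 1 3) = ab z
    rw [cc_one_three, pow_one]
  rw [← h13, e1, e3, one_mul, one_pow]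

instance normal_zpowers : (Subgroup.zpowers (z : P m)).Normal := by
  constructor
  intro n hn g
  obtain ⟨k, rfl⟩ := Subgroup.mem_zpowers_iff.mp hn
  have hc : Commute g (z ^ k) := (show Commute g z from z_comm g).zpow_right k
  rw [hc.eq, mul_inv_cancel_right]
  exact hn

/-- The quotient. -/
abbrev Pbar (m : ℕ) : Type := P m ⧸ Subgroup.zpowers (z : P m)

/-- Carmichael's generators of the quotient. -/
noncomputable def a (m : ℕ) : ℕ → Pbar m := fun j =>
  if hj : j < m then QuotientGroup.mk' (Subgroup.zpowers (z : P m)) (w ⟨j, hj⟩) else 1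

theorem a_eq (j : ℕ) (hj : j < m) :
    a m j = QuotientGroup.mk' (Subgroup.zpowers (z : P m)) (w ⟨j, hj⟩) := by
  simp only [a, dif_pos hj]

theorem rel_a : Car3.Rel (a m) m := by
  constructor
  · intro j hj
    rw [a_eq j hj, ← map_mul, ← map_mul, ← pow_three', w_pow, map_one]
  · intro j j' hj hj' hjj
    have hne : (⟨j, hj⟩ : Fin m) ≠ ⟨j', hj'⟩ := by
      intro h
      exact hjj (congrArg Fin.val h)
    rw [a_eq j hj, a_eq j' hj', ← map_mul, ← map_mul, ← pow_two, w_mul_sq _ _ hne]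
    exact (QuotientGroup.eq_one_iff _).mpr (Subgroup.pow_mem _ (Subgroup.mem_zpowers z) _)

theorem gen_a : Subgroup.closure {g | ∃ j, j < m ∧ g = a m j} = ⊤ := by
  rw [eq_top_iff]
  intro g _
  obtain ⟨g, rfl⟩ := QuotientGroup.mk'_surjective (Subgroup.zpowers (z : P m)) g
  have : g ∈ (Subgroup.closure {g | ∃ j, j < m ∧ g = a m j}).comap
      (QuotientGroup.mk' (Subgroup.zpowers (z : P m))) := by
    apply PresentedGroup.generated_by
    intro j
    rw [Subgroup.mem_comap]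
    cases j with
    | none =>
      have : QuotientGroup.mk' (Subgroup.zpowers (z : P m)) (PresentedGroup.of none) = 1 :=
        (QuotientGroup.eq_one_iff _).mpr (Subgroup.mem_zpowers z)
      rw [this]
      exact Subgroup.one_mem _
    | some i =>
      apply Subgroup.subset_closure
      exact ⟨i.val, i.isLt, (a_eq i.val i.isLt).symm ▸ rfl⟩
  exact this

theorem finite_Pbar : Finite (Pbar m) := (Car3.card_bound m (a m) rel_a gen_a).1

theorem card_Pbar : 2 * Nat.card (Pbar m) ≤ (m + 2).factorial :=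
  (Car3.card_bound m (a m) rel_a gen_a).2

theorem finite_P : Finite (P m) := by
  haveI := finite_Pbar (m := m)
  haveI : Finite (Subgroup.zpowers (z : P m)) := by
    apply Nat.finite_of_card_ne_zero
    rw [Nat.card_zpowers]
    have h := orderOf_dvd_of_pow_eq_one (z_cube (m := m))
    exact (Nat.pos_of_dvd_of_pos h (by norm_num)).ne'
  exact Finite.of_equiv _ (Subgroup.groupEquivQuotientProdSubgroup
    (s := Subgroup.zpowers (z : P m))).symm

theorem φ_z : φ (z : P m) = 1 := by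
  rw [φ, homOf_z]

theorem φ_w (i : Fin m) :
    φ (w i) = AltStem.VG AltStem.zero_ne_one' (AltStem.pt i.val i.isLt) := by
  rw [φ, homOf_w]

/-- The induced map on the quotient. -/
noncomputable def φbar : Pbar m →* alternatingGroup (Fin (m + 2)) :=
  QuotientGroup.lift (Subgroup.zpowers (z : P m)) φ (by
    intro x hx
    obtain ⟨k, rfl⟩ := Subgroup.mem_zpowers_iff.mp hx
    rw [MonoidHom.mem_ker, map_zpow, φ_z, one_zpow])

theorem φ_surjective : Function.Surjective (φ : P m →* alternatingGroup (Fin (m + 2))) := by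
  rw [← MonoidHom.range_eq_top, eq_top_iff, ← AltStem.closure_VG AltStem.zero_ne_one',
    Subgroup.closure_le]
  rintro x ⟨i, hi0, hi1, rfl⟩
  obtain ⟨j, hj, rfl⟩ := AltStem.exists_pt i hi0 hi1
  exact ⟨w ⟨j, hj⟩, φ_w _⟩

theorem φbar_surjective : Function.Surjective (φbar : Pbar m →* _) := by
  intro y
  obtain ⟨x, rfl⟩ := φ_surjective y
  exact ⟨QuotientGroup.mk' _ x, rfl⟩

theorem φbar_bijective : Function.Bijective (φbar : Pbar m →* _) := by
  haveI := finite_Pbar (m := m)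
  apply φbar_surjective.bijective_of_nat_card_le
  have h1 := card_Pbar (m := m)
  haveI : Nontrivial (Fin (m + 2)) := ⟨⟨0, 1, AltStem.zero_ne_one'⟩⟩
  have h2 := two_mul_nat_card_alternatingGroup (α := Fin (m + 2))
  rw [Nat.card_perm, Nat.card_fin] at h2
  omega

theorem ker_φ : (φ : P m →* alternatingGroup (Fin (m + 2))).ker = Subgroup.zpowers (z : P m) := by
  apply le_antisymm
  · intro g hg
    rw [MonoidHom.mem_ker] at hg
    have h1 : φbar (QuotientGroup.mk' (Subgroup.zpowers (z : P m)) g) = φbar 1 := by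
      rw [map_one]
      exact hg
    have h2 := φbar_bijective.1 h1
    exact (QuotientGroup.eq_one_iff g).mp h2
  · rw [Subgroup.zpowers_le, MonoidHom.mem_ker]
    exact φ_z

/-! ### The permutation model -/

/-- Table of the permutation number 0. -/
def tbl0 : List ℕ :=
  [0, 2, 14, 4, 37, 5, 6, 9, 12, 29, 52, 30, 50, 69, 1, 32, 23, 84, 11, 72, 15, 16, 17, 21, 27,
   92, 25, 88, 102, 7, 18, 28, 20, 82, 117, 74, 105, 3, 51, 45, 77, 10, 38, 39, 40, 43, 49, 96,
   47, 111, 8, 42, 41, 13, 106, 116, 81, 36, 70, 83, 56, 103, 107, 34, 73, 71, 19, 113, 104, 53,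
   108, 109, 66, 123, 120, 61, 68, 44, 78, 115, 99, 60, 112, 118, 22, 89, 100, 87, 24, 93, 86,
   91, 26, 85, 54, 62, 48, 97, 79, 122, 90, 101, 31, 75, 76, 57, 94, 95, 58, 65, 110, 46, 33,
   125, 114, 98, 124, 63, 59, 119, 35, 121, 80, 64, 55, 67]

/-- Table of the permutation number 1. -/
def tbl1 : List ℕ :=
  [0, 9, 20, 10, 42, 5, 6, 11, 4, 15, 38, 32, 51, 70, 30, 1, 21, 85, 2, 73, 18, 23, 27, 16, 25,
   93, 17, 89, 103, 14, 29, 69, 7, 34, 113, 74, 106, 50, 3, 43, 79, 12, 8, 45, 49, 39, 47, 98,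
   40, 115, 52, 41, 37, 102, 19, 116, 82, 72, 28, 83, 117, 13, 107, 81, 36, 71, 105, 56, 104, 75,
   61, 110, 94, 54, 121, 31, 76, 96, 68, 48, 122, 125, 67, 119, 92, 26, 90, 87, 84, 22, 100, 91,
   88, 24, 57, 95, 111, 62, 46, 80, 86, 101, 108, 58, 78, 123, 64, 97, 53, 109, 65, 77, 60, 33,
   55, 44, 114, 112, 118, 59, 120, 35, 99, 66, 124, 63]

/-- Table of the permutation number 2. -/
def tbl2 : List ℕ :=
  [0, 11, 21, 12, 43, 5, 6, 2, 10, 23, 45, 16, 39, 71, 29, 20, 1, 86, 9, 74, 32, 7, 25, 18, 17,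
   100, 27, 90, 104, 30, 14, 69, 15, 82, 116, 36, 107, 52, 42, 3, 80, 4, 51, 41, 47, 8, 40, 99,
   49, 122, 37, 38, 50, 102, 106, 56, 83, 72, 70, 34, 117, 103, 19, 81, 73, 28, 105, 113, 13, 76,
   78, 68, 95, 97, 62, 75, 31, 111, 58, 98, 46, 124, 114, 55, 88, 93, 24, 87, 92, 85, 26, 91, 84,
   89, 94, 57, 77, 64, 115, 44, 22, 101, 109, 110, 65, 120, 121, 35, 108, 53, 61, 96, 112, 119,
   33, 79, 59, 118, 60, 67, 66, 54, 48, 123, 63, 125]

/-- Table of the permutation number 3. -/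
def tbl3 : List ℕ :=
  [1, 2, 0, 28, 44, 7, 18, 9, 36, 5, 46, 6, 48, 4, 14, 20, 21, 87, 11, 12, 32, 23, 17, 16, 27,
   101, 25, 91, 40, 29, 30, 69, 15, 73, 49, 83, 47, 53, 61, 68, 3, 34, 54, 55, 13, 62, 56, 8, 19,
   41, 66, 67, 60, 102, 103, 104, 10, 72, 82, 71, 117, 113, 116, 81, 70, 74, 105, 106, 107, 77,
   79, 80, 96, 98, 99, 94, 124, 31, 78, 64, 59, 111, 115, 122, 84, 93, 90, 22, 88, 85, 100, 24,
   92, 89, 125, 76, 57, 97, 33, 65, 86, 26, 37, 42, 43, 50, 51, 39, 123, 118, 110, 63, 108, 38,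
   114, 58, 45, 52, 120, 119, 109, 121, 35, 112, 95, 75]

/-- Table of the permutation number 4. -/
def tbl4 : List ℕ :=
  [3, 13, 22, 4, 0, 8, 41, 19, 12, 24, 6, 26, 5, 17, 31, 58, 65, 1, 56, 27, 33, 35, 28, 59, 36,
   18, 34, 7, 2, 57, 63, 69, 64, 70, 11, 71, 9, 37, 42, 43, 87, 10, 51, 45, 40, 39, 49, 91, 47,
   101, 50, 38, 52, 102, 113, 107, 25, 72, 73, 74, 117, 106, 104, 81, 82, 83, 105, 103, 116, 14,
   20, 21, 29, 15, 23, 125, 95, 77, 78, 98, 122, 30, 32, 16, 53, 67, 62, 44, 66, 61, 55, 48, 60,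
   54, 75, 124, 96, 97, 115, 80, 68, 46, 84, 85, 86, 88, 89, 90, 112, 120, 110, 111, 123, 93,
   114, 79, 100, 92, 109, 119, 118, 121, 99, 108, 76, 94]

/-- Table of the permutation number 5. -/
def tbl5 : List ℕ :=
  [5, 7, 9, 8, 12, 6, 0, 18, 41, 11, 4, 2, 10, 19, 29, 32, 21, 27, 1, 56, 15, 23, 24, 16, 26, 17,
   22, 25, 36, 30, 14, 57, 20, 58, 28, 59, 34, 50, 42, 45, 47, 3, 51, 39, 48, 43, 44, 49, 46, 40,
   52, 38, 37, 66, 67, 68, 13, 63, 64, 65, 53, 54, 55, 31, 33, 35, 60, 61, 62, 72, 73, 74, 81,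
   82, 83, 94, 95, 96, 97, 98, 99, 69, 70, 71, 88, 89, 90, 91, 92, 93, 100, 101, 84, 85, 125,
   124, 111, 114, 115, 122, 86, 87, 105, 106, 107, 117, 113, 116, 123, 120, 121, 77, 108, 103,
   78, 79, 104, 102, 109, 110, 118, 119, 80, 112, 76, 75]

/-- The function of a table. -/
def fn (t : List ℕ) (x : Fin 126) : Fin 126 := ⟨t.getD x.val 0 % 126, Nat.mod_lt _ (by norm_num)⟩

theorem fn_cube0 : ∀ x, fn tbl0 (fn tbl0 (fn tbl0 x)) = x := by decide +kernel
theorem fn_cube1 : ∀ x, fn tbl1 (fn tbl1 (fn tbl1 x)) = x := by decide +kernel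
theorem fn_cube2 : ∀ x, fn tbl2 (fn tbl2 (fn tbl2 x)) = x := by decide +kernel
theorem fn_cube3 : ∀ x, fn tbl3 (fn tbl3 (fn tbl3 x)) = x := by decide +kernel
theorem fn_cube4 : ∀ x, fn tbl4 (fn tbl4 (fn tbl4 x)) = x := by decide +kernel
theorem fn_cube5 : ∀ x, fn tbl5 (fn tbl5 (fn tbl5 x)) = x := by decide +kernel

/-- The permutation of a table. -/
def pm (t : List ℕ) (h : ∀ x, fn t (fn t (fn t x)) = x) : Equiv.Perm (Fin 126) :=
  ⟨fn t, fun x => fn t (fn t x), h, h⟩

/-- The images of the generators. -/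
def wp (i : ℕ) : Equiv.Perm (Fin 126) :=
  match i with
  | 0 => pm tbl0 fn_cube0
  | 1 => pm tbl1 fn_cube1
  | 2 => pm tbl2 fn_cube2
  | 3 => pm tbl3 fn_cube3
  | 4 => pm tbl4 fn_cube4
  | _ => 1

/-- The image of the central element. -/
def zp : Equiv.Perm (Fin 126) := pm tbl5 fn_cube5

theorem wp_pow : ∀ i : Fin 5, wp i.val ^ 3 = 1 := by decide +kernel

theorem wp_mul_sq : ∀ i j : Fin 5, i ≠ j → (wp i.val * wp j.val) ^ 2 = zp ^ cc i.val j.val := by
  decide +kernel

theorem zp_cube : zp ^ 3 = 1 := by decide +kernel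

theorem zp_mul_wp : ∀ i : Fin 5, zp * wp i.val = wp i.val * zp := by decide +kernel

theorem zp_ne_one : zp ≠ 1 := by decide +kernel

/-- The map to the permutation model. -/
def ψ (hm : m ≤ 5) : P m →* Equiv.Perm (Fin 126) :=
  homOf zp (fun i => wp i.val)
    (fun i => wp_pow ⟨i.val, by omega⟩)
    (fun i j hij => wp_mul_sq ⟨i.val, by omega⟩ ⟨j.val, by omega⟩
      (fun h => hij (Fin.ext (Fin.mk.inj_iff.mp h))))
    zp_cube (fun i => zp_mul_wp ⟨i.val, by omega⟩)

theorem z_ne_one (hm : m ≤ 5) : (z : P m) ≠ 1 := by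
  intro h
  have := congrArg (ψ hm) h
  rw [ψ, homOf_z, map_one] at this
  exact zp_ne_one this

theorem orderOf_z (hm : m ≤ 5) : orderOf (z : P m) = 3 := by
  haveI : Fact (Nat.Prime 3) := ⟨Nat.prime_three⟩
  exact orderOf_eq_prime z_cube (z_ne_one hm)

theorem card_ker_φ (hm : m ≤ 5) :
    Nat.card (φ : P m →* alternatingGroup (Fin (m + 2))).ker = 3 := by
  rw [ker_φ, Nat.card_zpowers, orderOf_z hm]

/-- **The triple covers of the alternating groups of degrees 6 and 7 are stem extensions.** -/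
theorem isStem_φ (hm : 4 ≤ m) :
    Function.Surjective (φ : P m →* alternatingGroup (Fin (m + 2))) ∧
      (φ : P m →* alternatingGroup (Fin (m + 2))).ker ≤ Subgroup.center (P m) ∧
      (φ : P m →* alternatingGroup (Fin (m + 2))).ker ≤ commutator (P m) := by
  refine ⟨φ_surjective, ?_, ?_⟩
  · rw [ker_φ, Subgroup.zpowers_le]
    exact z_mem_center
  · rw [ker_φ, Subgroup.zpowers_le]
    exact z_mem_commutator hm

end Cfsg.Agent.Lib.H18.TripleCover
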