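import Mathlib
import Cfsg.Agent.Lib.H16.PGroupCenter

set_option autoImplicit false

namespace Cfsg.Agent.Lib.H18.TwoClosed

open MulAction

section core

variable {P : Type*} (Ω : Type*) [Group P] [MulAction P Ω]

/-- pointwise stabilizer of the fixed point set of `z`. -/
def fixKer (z : P) : Subgroup P where
  carrier := {x | ∀ ω : Ω, z • ω = ω → x • ω = ω}
  one_mem' := by intro ω _; simp
  mul_mem' := by
    intro a b ha hb ω hω
    rw [mul_smul, hb ω hω, ha ω hω]
  inv_mem' := by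
    intro a ha ω hω
    have := ha ω hω
    calc a⁻¹ • ω = a⁻¹ • (a • ω) := by rw [this]
      _ = ω := inv_smul_smul a ω

/-- pointwise stabilizer of the moved point set of `z`. -/
def movKer (z : P) : Subgroup P where
  carrier := {x | ∀ ω : Ω, z • ω ≠ ω → x • ω = ω}
  one_mem' := by intro ω _; simp
  mul_mem' := by
    intro a b ha hb ω hω
    rw [mul_smul, hb ω hω, ha ω hω]
  inv_mem' := by
    intro a ha ω hω
    have := ha ω hω
    calc a⁻¹ • ω = a⁻¹ • (a • ω) := by rw [this]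
      _ = ω := inv_smul_smul a ω

variable {Ω}

theorem mem_fixKer {z x : P} : x ∈ fixKer Ω z ↔ ∀ ω : Ω, z • ω = ω → x • ω = ω := Iff.rfl

theorem mem_movKer {z x : P} : x ∈ movKer Ω z ↔ ∀ ω : Ω, z • ω ≠ ω → x • ω = ω := Iff.rfl

theorem fix_smul {z : P} (hz : ∀ y : P, z * y = y * z) (y : P) {ω : Ω} (h : z • ω = ω) :
    z • (y • ω) = y • ω := by
  rw [← mul_smul, hz y, mul_smul, h]

theorem fix_of_fix_smul {z : P} (hz : ∀ y : P, z * y = y * z) (y : P) {ω : Ω}
    (h : z • (y • ω) = y • ω) : z • ω = ω := by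
  have := fix_smul hz y⁻¹ h
  simpa using this

theorem fixKer_normal {z : P} (hz : ∀ y : P, z * y = y * z) : (fixKer Ω z).Normal := by
  constructor
  intro x hx y ω hω
  have h1 : z • (y⁻¹ • ω) = y⁻¹ • ω := fix_smul hz y⁻¹ hω
  have h2 := hx _ h1
  rw [mul_smul, mul_smul, h2, smul_inv_smul]

theorem movKer_normal {z : P} (hz : ∀ y : P, z * y = y * z) : (movKer Ω z).Normal := by
  constructor
  intro x hx y ω hω
  have h1 : z • (y⁻¹ • ω) ≠ y⁻¹ • ω := fun h => hω (fix_of_fix_smul hz y⁻¹ h)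
  have h2 := hx _ h1
  rw [mul_smul, mul_smul, h2, smul_inv_smul]

end core

end Cfsg.Agent.Lib.H18.TwoClosed
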