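import Mathlib
import Cfsg.Agent.Lib.H18.TwoClosedA

set_option autoImplicit false

namespace Cfsg.Agent.Lib.H18.TwoClosed

open MulAction

/-- a nontrivial subgroup of a finite `p`-group contains an element of order `p`. -/
theorem exists_orderOf_eq_of_ne_bot {P : Type*} [Group P] [Finite P] {p : ℕ} [hp : Fact p.Prime]
    (hP : IsPGroup p P) (N : Subgroup P) (hN : N ≠ ⊥) : ∃ y ∈ N, orderOf y = p := by
  have hNp : IsPGroup p N := hP.to_subgroup N
  haveI : Nontrivial N := (Subgroup.nontrivial_iff_ne_bot N).mpr hN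
  obtain ⟨n, hn0, hn⟩ := hNp.nontrivial_iff_card.mp inferInstance
  have hdvd : p ∣ Nat.card N := by rw [hn]; exact dvd_pow_self p hn0.ne'
  obtain ⟨⟨y, hy⟩, hyord⟩ := exists_prime_orderOf_dvd_card' p hdvd
  refine ⟨y, hy, ?_⟩
  rw [← hyord]
  exact (Subgroup.orderOf_mk y hy).symm

section

variable {P Ω : Type*} [Group P] [MulAction P Ω]

/-- the glued permutation: `w` on the fixed points of `z`, `z` elsewhere. -/
noncomputable def glue (z w : P) (hz : ∀ y : P, z * y = y * z) : Equiv.Perm Ω := by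
  classical
  exact
  { toFun := fun ω => if z • ω = ω then w • ω else z • ω
    invFun := fun ω => if z • ω = ω then w⁻¹ • ω else z⁻¹ • ω
    left_inv := by
      intro ω
      by_cases h : z • ω = ω
      · have h2 : z • (w • ω) = w • ω := fix_smul hz w h
        dsimp only
        rw [if_pos h, if_pos h2, inv_smul_smul]
      · have h2 : ¬ z • (z • ω) = z • ω := fun h' => h (fix_of_fix_smul hz z h')
        dsimp only
        rw [if_neg h, if_neg h2, inv_smul_smul]
    right_inv := by
      intro ω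
      by_cases h : z • ω = ω
      · have h2 : z • (w⁻¹ • ω) = w⁻¹ • ω := fix_smul hz w⁻¹ h
        dsimp only
        rw [if_pos h, if_pos h2, smul_inv_smul]
      · have h2 : ¬ z • (z⁻¹ • ω) = z⁻¹ • ω := fun h' => h (fix_of_fix_smul hz z⁻¹ h')
        dsimp only
        rw [if_neg h, if_neg h2, smul_inv_smul] }

theorem glue_apply_fix (z w : P) (hz : ∀ y : P, z * y = y * z) {ω : Ω} (h : z • ω = ω) :
    glue z w hz ω = w • ω := by
  classical
  show (if z • ω = ω then w • ω else z • ω) = w • ω
  rw [if_pos h]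

theorem glue_apply_mov (z w : P) (hz : ∀ y : P, z * y = y * z) {ω : Ω} (h : z • ω ≠ ω) :
    glue z w hz ω = z • ω := by
  classical
  show (if z • ω = ω then w • ω else z • ω) = z • ω
  rw [if_neg h]

theorem glue_pow_fix (z w : P) (hz : ∀ y : P, z * y = y * z) (n : ℕ) {ω : Ω} (h : z • ω = ω) :
    (glue z w hz ^ n) ω = w ^ n • ω := by
  induction n with
  | zero => simp
  | succ k ih =>
    rw [pow_succ', Equiv.Perm.mul_apply, ih]
    have h2 : z • (w ^ k • ω) = w ^ k • ω := fix_smul hz (w ^ k) h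
    rw [glue_apply_fix z w hz h2, ← mul_smul, ← pow_succ']

theorem glue_pow_mov (z w : P) (hz : ∀ y : P, z * y = y * z) (n : ℕ) {ω : Ω} (h : z • ω ≠ ω) :
    (glue z w hz ^ n) ω = z ^ n • ω := by
  induction n with
  | zero => simp
  | succ k ih =>
    rw [pow_succ', Equiv.Perm.mul_apply, ih]
    have h2 : z • (z ^ k • ω) ≠ z ^ k • ω := fun h' => h (fix_of_fix_smul hz (z ^ k) h')
    rw [glue_apply_mov z w hz h2, ← mul_smul, ← pow_succ']

end

end Cfsg.Agent.Lib.H18.TwoClosed
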