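import Mathlib
import Cfsg.Agent.Lib.H18.TwoClosedB

set_option autoImplicit false

namespace Cfsg.Agent.Lib.H18.TwoClosed

open MulAction

section

variable {P Ω : Type*} [Group P] [Finite P] [MulAction P Ω] [FaithfulSMul P Ω] [Finite Ω]

/-- Case `movKer ≠ ⊥`. -/
theorem core_case_mov (p : ℕ) [hp : Fact p.Prime] (hP : IsPGroup p P)
    (z : P) (hzc : ∀ y : P, z * y = y * z) (hzp : z ^ p = 1)
    (α : Ω) (hα : z • α = α)
    (hA : ∀ ω : Ω, z • ω = ω → ∃ x : P, x • α = ω)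
    (hK2 : movKer Ω z ≠ ⊥) :
    ∃ σ : Equiv.Perm Ω, σ ^ p = 1 ∧ (∀ ω, σ ω ≠ ω) ∧
      ∀ a b : Ω, ∃ x : P, σ a = x • a ∧ σ b = x • b := by
  have hp' := hp.out
  haveI := movKer_normal (Ω := Ω) hzc
  obtain ⟨x, hxK2, hx1, hxc⟩ :=
    Cfsg.Agent.Lib.H16.exists_ne_one_mem_center_of_normal' hp' hP (movKer Ω z) hK2
  have hNne : movKer Ω z ⊓ Subgroup.center P ≠ ⊥ := by
    intro h
    have : x ∈ movKer Ω z ⊓ Subgroup.center P := ⟨hxK2, hxc⟩
    rw [h, Subgroup.mem_bot] at this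
    exact hx1 this
  obtain ⟨z2, hz2N, hz2ord⟩ := exists_orderOf_eq_of_ne_bot hP _ hNne
  have hz2K : z2 ∈ movKer Ω z := hz2N.1
  have hz2c : ∀ y : P, z2 * y = y * z2 := fun y => (Subgroup.mem_center_iff.mp hz2N.2 y).symm
  have hz2p : z2 ^ p = 1 := by rw [← hz2ord]; exact pow_orderOf_eq_one z2
  have hz21 : z2 ≠ 1 := by
    intro h
    rw [h, orderOf_one] at hz2ord
    exact hp'.one_lt.ne hz2ord
  -- z2 has no fixed points among the fixed points of z
  have hnf : ∀ ω : Ω, z • ω = ω → z2 • ω ≠ ω := by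
    intro ω1 hω1 hfix
    apply hz21
    apply FaithfulSMul.eq_of_smul_eq_smul (α := Ω)
    intro ω
    rw [one_smul]
    by_cases hω : z • ω = ω
    · obtain ⟨x1, hx1⟩ := hA ω1 hω1
      obtain ⟨x2, hx2⟩ := hA ω hω
      have : ω = (x2 * x1⁻¹) • ω1 := by
        rw [mul_smul, ← hx1, inv_smul_smul, hx2]
      rw [this, ← mul_smul, hz2c, mul_smul, hfix]
    · exact hz2K ω hω
  refine ⟨MulAction.toPermHom P Ω (z * z2), ?_, ?_, ?_⟩
  · rw [← map_pow, (show Commute z z2 from hzc z2).mul_pow, hzp, hz2p, one_mul, map_one]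
  · intro ω
    rw [MulAction.toPermHom_apply, MulAction.toPerm_apply, mul_smul]
    by_cases hω : z • ω = ω
    · rw [fix_smul hzc z2 hω]
      exact hnf ω hω
    · rw [hz2K ω hω]
      exact hω
  · intro a b
    exact ⟨z * z2, rfl, rfl⟩

end

end Cfsg.Agent.Lib.H18.TwoClosed
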