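import Mathlib
import Cfsg.Agent.Lib.H18.TwoClosedC

set_option autoImplicit false

namespace Cfsg.Agent.Lib.H18.TwoClosed

open MulAction

section

variable {P Ω : Type*} [Group P] [Finite P] [MulAction P Ω] [FaithfulSMul P Ω] [Finite Ω]

/-- existence of the element `w`. -/
theorem exists_w (p : ℕ) [hp : Fact p.Prime] (hP : IsPGroup p P)
    (z : P) (hzc : ∀ y : P, z * y = y * z)
    (α β : Ω) (hα : z • α = α) (hβ : z • β ≠ β)
    (hOα : (MulAction.orbit P α).ncard = p ^ 2) (hOβ : (MulAction.orbit P β).ncard = p ^ 2) :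
    ∃ (H : Subgroup P) (w : P), H.Normal ∧ (∀ h ∈ H, ∃ k ∈ fixKer Ω z, h • β = k • β) ∧
      w ∈ H ∧ w ∉ fixKer Ω z ∧ w ^ p ∈ fixKer Ω z ∧
      ∀ y : P, ∃ k ∈ fixKer Ω z, y⁻¹ * w * y = w * k := by
  have hp' := hp.out
  haveI hK1n := fixKer_normal (Ω := Ω) hzc
  have hzK1 : z ∈ fixKer Ω z := fun ω hω => hω
  set K1 := fixKer Ω z with hK1def
  set Pβ := MulAction.stabilizer P β with hPβdef
  set H := K1 ⊔ Pβ with hHdef
  have hK1H : K1 ≤ H := le_sup_left
  have hPβH : Pβ ≤ H := le_sup_right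
  -- Claim 1
  have claim1 : ∀ h ∈ H, ∃ k ∈ K1, h • β = k • β := by
    intro h hh
    have h1 : h ∈ ((K1 ⊔ Pβ : Subgroup P) : Set P) := hh
    rw [Subgroup.normal_mul K1 Pβ] at h1
    obtain ⟨k, hk, u, hu, rfl⟩ := Set.mem_mul.mp h1
    refine ⟨k, hk, ?_⟩
    rw [mul_smul]
    have : u • β = β := MulAction.mem_stabilizer_iff.mp hu
    rw [this]
  -- index computation
  have hidxβ : Pβ.index = p ^ 2 := by
    rw [hPβdef, MulAction.index_stabilizer, hOβ]
  have hmul : Pβ.relIndex H * H.index = p ^ 2 := by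
    rw [Subgroup.relIndex_mul_index hPβH, hidxβ]
  have hrel1 : Pβ.relIndex H ≠ 1 := by
    intro h
    rw [Subgroup.relIndex_eq_one] at h
    have : z ∈ Pβ := h (hK1H hzK1)
    exact hβ (MulAction.mem_stabilizer_iff.mp this)
  have hHdvd : H.index ∣ p ^ 2 := Dvd.intro_left _ hmul
  obtain ⟨k, hk2, hk⟩ := (Nat.dvd_prime_pow hp').mp hHdvd
  have hk1 : k ≤ 1 := by
    by_contra hcon
    have hk2' : k = 2 := by omega
    rw [hk, hk2'] at hmul
    have hpos : 0 < p ^ 2 := pow_pos hp'.pos 2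
    have : Pβ.relIndex H = 1 := by
      have := Nat.eq_of_mul_eq_mul_right hpos (by rw [hmul, one_mul] : Pβ.relIndex H * p ^ 2 = 1 * p ^ 2)
      exact this
    exact hrel1 this
  -- P is a nontrivial p-group
  have hPnt : Nontrivial P := by
    refine ⟨⟨z, 1, ?_⟩⟩
    intro h
    apply hβ
    rw [h, one_smul]
  obtain ⟨n, hn0, hn⟩ := hP.nontrivial_iff_card.mp hPnt
  have hHn : H.Normal := by
    interval_cases k
    · rw [pow_zero] at hk
      rw [Subgroup.index_eq_one.mp hk]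
      infer_instance
    · rw [pow_one] at hk
      apply Subgroup.normal_of_index_eq_minFac_card
      rw [hk, hn, hp'.pow_minFac hn0.ne']
  -- H is not contained in K1
  have hHK1 : ¬ H ≤ K1 := by
    intro hle
    have hK1α : K1 ≤ MulAction.stabilizer P α := by
      intro x hx
      exact MulAction.mem_stabilizer_iff.mpr (hx α hα)
    have h1 : (MulAction.stabilizer P α).index ∣ H.index :=
      Subgroup.index_dvd_of_le (hle.trans hK1α)
    rw [MulAction.index_stabilizer, hOα, hk] at h1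
    have := (Nat.pow_dvd_pow_iff_le_right hp'.one_lt).mp h1
    omega
  -- pass to the quotient
  set π := QuotientGroup.mk' K1 with hπ
  have hπs : Function.Surjective π := QuotientGroup.mk'_surjective K1
  have hQ : IsPGroup p (P ⧸ K1) := hP.to_quotient K1
  haveI hHbn : (H.map π).Normal := Subgroup.Normal.map hHn π hπs
  have hHbne : H.map π ≠ ⊥ := by
    intro h
    rw [Subgroup.map_eq_bot_iff, hπ, QuotientGroup.ker_mk'] at h
    exact hHK1 h
  obtain ⟨xb, hxbH, hxb1, hxbc⟩ :=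
    Cfsg.Agent.Lib.H16.exists_ne_one_mem_center_of_normal' hp' hQ (H.map π) hHbne
  have hNne : H.map π ⊓ Subgroup.center (P ⧸ K1) ≠ ⊥ := by
    intro h
    have : xb ∈ H.map π ⊓ Subgroup.center (P ⧸ K1) := ⟨hxbH, hxbc⟩
    rw [h, Subgroup.mem_bot] at this
    exact hxb1 this
  obtain ⟨wb, hwbN, hwbord⟩ := exists_orderOf_eq_of_ne_bot hQ _ hNne
  obtain ⟨w, hwH, hw⟩ := hwbN.1
  have hwbc : ∀ y : P ⧸ K1, y * wb = wb * y := fun y => Subgroup.mem_center_iff.mp hwbN.2 y
  refine ⟨H, w, hHn, claim1, hwH, ?_, ?_, ?_⟩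
  · intro hwK
    have : wb = 1 := by
      rw [← hw, hπ, QuotientGroup.mk'_apply, QuotientGroup.eq_one_iff]
      exact hwK
    rw [this, orderOf_one] at hwbord
    exact hp'.one_lt.ne hwbord
  · have h1 : wb ^ p = 1 := by rw [← hwbord]; exact pow_orderOf_eq_one wb
    rw [← hw, ← map_pow, hπ, QuotientGroup.mk'_apply, QuotientGroup.eq_one_iff] at h1
    exact h1
  · intro y
    refine ⟨w⁻¹ * (y⁻¹ * w * y), ?_, by group⟩
    have h1 : π (w⁻¹ * (y⁻¹ * w * y)) = 1 := by
      rw [map_mul, map_mul, map_mul, map_inv, map_inv, hw]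
      have := hwbc (π y)
      calc wb⁻¹ * ((π y)⁻¹ * wb * π y) = wb⁻¹ * ((π y)⁻¹ * (wb * π y)) := by group
        _ = wb⁻¹ * ((π y)⁻¹ * (π y * wb)) := by rw [this]
        _ = 1 := by group
    rw [hπ, QuotientGroup.mk'_apply, QuotientGroup.eq_one_iff] at h1
    exact h1

end

end Cfsg.Agent.Lib.H18.TwoClosed
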