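import Mathlib
import Cfsg.Agent.Lib.H18.TwoClosedD

set_option autoImplicit false

namespace Cfsg.Agent.Lib.H18.TwoClosed

open MulAction

section

variable {P Ω : Type*} [Group P] [Finite P] [MulAction P Ω] [FaithfulSMul P Ω] [Finite Ω]

/-- Case `movKer = ⊥`. -/
theorem core_case_main (p : ℕ) [hp : Fact p.Prime] (hP : IsPGroup p P)
    (z : P) (hzc : ∀ y : P, z * y = y * z) (hzp : z ^ p = 1)
    (α β : Ω) (hα : z • α = α) (hβ : z • β ≠ β)
    (hA : ∀ ω : Ω, z • ω = ω → ∃ x : P, x • α = ω)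
    (hB : ∀ ω : Ω, z • ω ≠ ω → ∃ x : P, x • β = ω)
    (hOα : (MulAction.orbit P α).ncard = p ^ 2) (hOβ : (MulAction.orbit P β).ncard = p ^ 2) :
    ∃ σ : Equiv.Perm Ω, σ ^ p = 1 ∧ (∀ ω, σ ω ≠ ω) ∧
      ∀ a b : Ω, ∃ x : P, σ a = x • a ∧ σ b = x • b := by
  haveI hK1n := fixKer_normal (Ω := Ω) hzc
  have hzK1 : z ∈ fixKer Ω z := fun ω hω => hω
  obtain ⟨H, w, hHn, claim1, hwH, hwK, hwp, hwc⟩ := exists_w p hP z hzc α β hα hβ hOα hOβ
  -- Claim 3
  have claim3 : ∀ γ : Ω, z • γ ≠ γ → ∃ k ∈ fixKer Ω z, w⁻¹ • γ = k • γ := by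
    intro γ hγ
    obtain ⟨y, hy⟩ := hB γ hγ
    have hh : y⁻¹ * w⁻¹ * y ∈ H := hHn.conj_mem' w⁻¹ (H.inv_mem hwH) y
    obtain ⟨k0, hk0, hk0β⟩ := claim1 _ hh
    refine ⟨y * k0 * y⁻¹, hK1n.conj_mem k0 hk0 y, ?_⟩
    rw [← hy]
    calc w⁻¹ • y • β = y • (y⁻¹ * w⁻¹ * y) • β := by
          rw [← mul_smul, ← mul_smul]; congr 1; group
      _ = y • k0 • β := by rw [hk0β]
      _ = (y * k0 * y⁻¹) • y • β := by
          rw [← mul_smul, ← mul_smul]; congr 1; group
  -- w has no fixed points among the fixed points of z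
  have hnf : ∀ ω : Ω, z • ω = ω → w • ω ≠ ω := by
    intro ω1 hω1 hfix
    apply hwK
    intro ω hω
    obtain ⟨x1, hx1⟩ := hA ω1 hω1
    obtain ⟨x2, hx2⟩ := hA ω hω
    obtain ⟨y, hy⟩ : ∃ y, y = x2 * x1⁻¹ := ⟨_, rfl⟩
    have hωy : ω = y • ω1 := by
      rw [hy, mul_smul, ← hx1, inv_smul_smul, hx2]
    obtain ⟨k, hk, hkw⟩ := hwc y
    have hkω1 : k • ω1 = ω1 := hk ω1 hω1
    calc w • ω = w • y • ω1 := by rw [hωy]
      _ = y • (y⁻¹ * w * y) • ω1 := by
          rw [← mul_smul, ← mul_smul]; congr 1; group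
      _ = y • (w * k) • ω1 := by rw [hkw]
      _ = y • ω1 := by rw [mul_smul w k, hkω1, hfix]
      _ = ω := hωy.symm
  refine ⟨glue z w hzc, ?_, ?_, ?_⟩
  · ext ω
    rw [Equiv.Perm.one_apply]
    by_cases hω : z • ω = ω
    · rw [glue_pow_fix z w hzc p hω]
      exact hwp ω hω
    · rw [glue_pow_mov z w hzc p hω, hzp, one_smul]
  · intro ω
    by_cases hω : z • ω = ω
    · rw [glue_apply_fix z w hzc hω]
      exact hnf ω hω
    · rw [glue_apply_mov z w hzc hω]
      exact hω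
  · -- the pair property
    have key : ∀ a b : Ω, z • a = a → z • b ≠ b → ∃ x : P, w • a = x • a ∧ z • b = x • b := by
      intro a b ha hb
      obtain ⟨k, hk, hkb⟩ := claim3 b hb
      refine ⟨w * (z * k), ?_, ?_⟩
      · have hzk : (z * k) • a = a := (Subgroup.mul_mem _ hzK1 hk) a ha
        rw [mul_smul, hzk]
      · rw [mul_smul, mul_smul, ← hkb, ← mul_smul z, hzc, mul_smul, smul_inv_smul]
    intro a b
    by_cases ha : z • a = a
    · by_cases hb : z • b = b
      · exact ⟨w, glue_apply_fix z w hzc ha, glue_apply_fix z w hzc hb⟩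
      · obtain ⟨x, hxa, hxb⟩ := key a b ha hb
        exact ⟨x, by rw [glue_apply_fix z w hzc ha, hxa], by rw [glue_apply_mov z w hzc hb, hxb]⟩
    · by_cases hb : z • b = b
      · obtain ⟨x, hxb, hxa⟩ := key b a hb ha
        exact ⟨x, by rw [glue_apply_mov z w hzc ha, hxa], by rw [glue_apply_fix z w hzc hb, hxb]⟩
      · exact ⟨z, glue_apply_mov z w hzc ha, glue_apply_mov z w hzc hb⟩

/-- The core statement for a `p`-group with all orbits of size `p²` on `2p²` points. -/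
theorem core (p : ℕ) [hp : Fact p.Prime] (hP : IsPGroup p P)
    (hO : ∀ ω : Ω, (MulAction.orbit P ω).ncard = p ^ 2) (hΩ : Nat.card Ω = 2 * p ^ 2) :
    ∃ σ : Equiv.Perm Ω, σ ^ p = 1 ∧ (∀ ω, σ ω ≠ ω) ∧
      ∀ a b : Ω, ∃ x : P, σ a = x • a ∧ σ b = x • b := by
  classical
  have hp' := hp.out
  have hpp : 1 < p ^ 2 := Nat.one_lt_pow (by norm_num) hp'.one_lt
  have hΩne : Nonempty Ω := by
    by_contra h
    rw [not_nonempty_iff] at h
    have h0 : Nat.card Ω = 0 := Nat.card_of_isEmpty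
    rw [hΩ] at h0
    have := pow_pos hp'.pos 2
    omega
  obtain ⟨ω0⟩ := hΩne
  -- P is nontrivial
  have hPnt : Nontrivial P := by
    have h1 : 1 < (MulAction.orbit P ω0).ncard := by rw [hO]; exact hpp
    obtain ⟨a, ha, b, hb, hab⟩ := (Set.one_lt_ncard (Set.toFinite _)).mp h1
    obtain ⟨x, rfl⟩ := ha
    obtain ⟨y, rfl⟩ := hb
    exact ⟨⟨x, y, fun h => hab (by rw [h])⟩⟩
  haveI := hP.center_nontrivial
  have hZne : Subgroup.center P ≠ ⊥ := (Subgroup.nontrivial_iff_ne_bot _).mp inferInstance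
  obtain ⟨z, hzZ, hzord⟩ := exists_orderOf_eq_of_ne_bot hP _ hZne
  have hzc : ∀ y : P, z * y = y * z := fun y => (Subgroup.mem_center_iff.mp hzZ y).symm
  have hzp : z ^ p = 1 := by rw [← hzord]; exact pow_orderOf_eq_one z
  have hz1 : z ≠ 1 := by
    intro h
    rw [h, orderOf_one] at hzord
    exact hp'.one_lt.ne hzord
  by_cases hfix : ∃ α : Ω, z • α = α
  · obtain ⟨α, hα⟩ := hfix
    have hex : ∃ β : Ω, z • β ≠ β := by
      by_contra h
      push Not at h
      apply hz1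
      apply FaithfulSMul.eq_of_smul_eq_smul (α := Ω)
      intro a
      rw [h a, one_smul]
    obtain ⟨β, hβ⟩ := hex
    -- the two orbits cover everything
    have hsubA : MulAction.orbit P α ⊆ {ω | z • ω = ω} := by
      rintro _ ⟨x, rfl⟩
      exact fix_smul hzc x hα
    have hsubB : MulAction.orbit P β ⊆ {ω | z • ω ≠ ω} := by
      rintro _ ⟨x, rfl⟩
      exact fun h => hβ (fix_of_fix_smul hzc x h)
    have hdisj : Disjoint (MulAction.orbit P α) (MulAction.orbit P β) := by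
      rw [Set.disjoint_left]
      intro ω h1 h2
      exact hsubB h2 (hsubA h1)
    have hcard : (MulAction.orbit P α ∪ MulAction.orbit P β).ncard = Nat.card Ω := by
      rw [Set.ncard_union_eq hdisj (Set.toFinite _) (Set.toFinite _), hO, hO, hΩ]
      ring
    have huniv : MulAction.orbit P α ∪ MulAction.orbit P β = Set.univ := by
      apply Set.eq_of_subset_of_ncard_le (Set.subset_univ _) _ (Set.toFinite _)
      rw [Set.ncard_univ, hcard]
    have hA : ∀ ω : Ω, z • ω = ω → ∃ x : P, x • α = ω := by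
      intro ω hω
      have : ω ∈ MulAction.orbit P α ∪ MulAction.orbit P β := by rw [huniv]; trivial
      rcases this with h | h
      · exact h
      · exact absurd hω (hsubB h)
    have hB : ∀ ω : Ω, z • ω ≠ ω → ∃ x : P, x • β = ω := by
      intro ω hω
      have : ω ∈ MulAction.orbit P α ∪ MulAction.orbit P β := by rw [huniv]; trivial
      rcases this with h | h
      · exact absurd (hsubA h) hω
      · exact h
    by_cases hK2 : movKer Ω z = ⊥
    · exact core_case_main p hP z hzc hzp α β hα hβ hA hB (hO α) (hO β)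
    · exact core_case_mov p hP z hzc hzp α hα hA hK2
  · push Not at hfix
    refine ⟨MulAction.toPermHom P Ω z, ?_, ?_, ?_⟩
    · rw [← map_pow, hzp, map_one]
    · intro ω
      exact hfix ω
    · intro a b
      exact ⟨z, rfl, rfl⟩

end

end Cfsg.Agent.Lib.H18.TwoClosed
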