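import Mathlib
import Cfsg.Agent.Lib.H18.TwoClosedE

set_option autoImplicit false

namespace Cfsg.Agent.Lib.H18.TwoClosed

open MulAction

/-- Orbits of a Sylow `p`-subgroup of a transitive group have size divisible by the `p`-part of
the degree. -/
theorem sylow_orbit_dvd {G Ω : Type*} [Group G] [Finite G] [MulAction G Ω] [Finite Ω]
    [MulAction.IsPretransitive G Ω] (p : ℕ) [hp : Fact p.Prime] (P : Sylow p G) (ω : Ω) :
    p ^ ((Nat.card Ω).factorization p) ∣ (MulAction.orbit (↥(P : Subgroup G)) ω).ncard := by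
  have hp' := hp.out
  set S := MulAction.stabilizer G ω with hS
  set PS := MulAction.stabilizer (↥(P : Subgroup G)) ω with hPS
  have hGcard : Nat.card Ω * Nat.card S = Nat.card G := by
    have h1 := Subgroup.index_mul_card S
    rw [hS, MulAction.index_stabilizer, MulAction.orbit_eq_univ, Set.ncard_univ] at h1
    exact h1
  have hPcard : (MulAction.orbit (↥(P : Subgroup G)) ω).ncard * Nat.card PS =
      p ^ (Nat.card G).factorization p := by
    have h1 := Subgroup.index_mul_card PS
    rw [hPS, MulAction.index_stabilizer, P.card_eq_multiplicity] at h1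
    exact h1
  -- PS embeds in S
  let f : PS →* S := ((P : Subgroup G).subtype.comp PS.subtype).codRestrict S (by
    intro x
    have hx : (x : ↥(P : Subgroup G)) • ω = ω := MulAction.mem_stabilizer_iff.mp x.2
    rw [Subgroup.smul_def] at hx
    exact MulAction.mem_stabilizer_iff.mpr hx)
  have hf : Function.Injective f := by
    intro x y hxy
    have h1 : ((f x : S) : G) = ((f y : S) : G) := by rw [hxy]
    apply Subtype.ext
    apply Subtype.ext
    exact h1
  have hdvd : Nat.card PS ∣ Nat.card S := Subgroup.card_dvd_of_injective f hf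
  have hPSp : IsPGroup p PS := (P.2.to_subgroup PS)
  obtain ⟨b, hb⟩ := IsPGroup.iff_card.mp hPSp
  have hS0 : Nat.card S ≠ 0 := Nat.card_pos.ne'
  have hΩ0 : Nat.card Ω ≠ 0 := by
    haveI : Nonempty Ω := ⟨ω⟩
    exact Nat.card_pos.ne'
  have hbS : b ≤ (Nat.card S).factorization p := by
    rw [hb] at hdvd
    exact (hp'.pow_dvd_iff_le_factorization hS0).mp hdvd
  have hfac : (Nat.card G).factorization p =
      (Nat.card Ω).factorization p + (Nat.card S).factorization p := by
    rw [← hGcard, Nat.factorization_mul hΩ0 hS0]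
    rfl
  rw [hb, hfac] at hPcard
  set v := (Nat.card Ω).factorization p
  set c := (Nat.card S).factorization p
  have hsplit : p ^ (v + c) = p ^ (v + (c - b)) * p ^ b := by
    rw [← pow_add]
    congr 1
    omega
  rw [hsplit] at hPcard
  have hpos : 0 < p ^ b := pow_pos hp'.pos b
  have := Nat.eq_of_mul_eq_mul_right hpos hPcard
  rw [this]
  exact pow_dvd_pow p (Nat.le_add_right v (c - b))

/-- A faithful transitive finite `p`-group contains a derangement of order `p`. -/
theorem exists_derangement_of_transitive {P Ω : Type*} [Group P] [Finite P] [MulAction P Ω]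
    [FaithfulSMul P Ω] (p : ℕ) [hp : Fact p.Prime] (hP : IsPGroup p P) [Nontrivial P]
    (htr : ∀ a b : Ω, ∃ x : P, x • a = b) :
    ∃ z : P, orderOf z = p ∧ ∀ ω : Ω, z • ω ≠ ω := by
  have hp' := hp.out
  haveI := hP.center_nontrivial
  have hZne : Subgroup.center P ≠ ⊥ := (Subgroup.nontrivial_iff_ne_bot _).mp inferInstance
  obtain ⟨z, hzZ, hzord⟩ := exists_orderOf_eq_of_ne_bot hP _ hZne
  have hzc : ∀ y : P, z * y = y * z := fun y => (Subgroup.mem_center_iff.mp hzZ y).symm
  refine ⟨z, hzord, ?_⟩
  intro α hα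
  have hz1 : z = 1 := by
    apply FaithfulSMul.eq_of_smul_eq_smul (α := Ω)
    intro a
    obtain ⟨x, rfl⟩ := htr α a
    rw [one_smul]
    exact fix_smul hzc x hα
  rw [hz1, orderOf_one] at hzord
  exact hp'.one_lt.ne hzord

end Cfsg.Agent.Lib.H18.TwoClosed
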