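/-
S2524 (route U, tools/blueprints/S2524_U.md), two architecture-independent abstract lemmas.

* **U-FROB** (core of Step 2): `W`, `V` complex `G`-modules, `t : S → G` an additive map from a finite abelian group,
  `l : Γ →* G` normalising `t S` through `act`.  If `w0 ∈ W`, `m0 ∈ V` are eigenvectors of `t S` for the same character
  `ψ0` and the stabiliser of `ψ0` in `Γ` acts on `w0` and on `m0` by the same scalars, then there is a linear map
  `T : W → V` with `T (l g w0) = l g m0` for all `g : Γ`; on `E = span {l g w0}` it commutes with `l Γ` and with `t S`,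
  and it is injective on `E` when `m0 ≠ 0`.
* **U-RIGID** (core of Step 1): if `S` is generated by the `S`-conjugates of `Q''`, `S` normalises `H`, and every
  `H`-linear map `WA → VA` commutes with `Q''`, then every `H`-linear map `WA → VA` commutes with `S`.
-/
import Mathlib

set_option autoImplicit false

namespace Cfsg.Agent.Lib.H18.UFrob

open scoped BigOperators

section proj

variable {G : Type*} [Group G] {S : Type*} [AddCommGroup S] [Fintype S]
  {W : Type*} [AddCommGroup W] [Module ℂ W]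
  (rW : G →* Module.End ℂ W) (t : S → G)

/-- the averaged operator `|S|⁻¹ ∑ ψ(-X) ρ(t X)` -/
noncomputable def pr (ψ : AddChar S ℂ) : Module.End ℂ W :=
  (Fintype.card S : ℂ)⁻¹ • ∑ X : S, ψ (-X) • rW (t X)

theorem pr_apply_of_eigen (ψ ψ' : AddChar S ℂ) (x : W)
    (hx : ∀ X, rW (t X) x = ψ' X • x) :
    pr rW t ψ x = if ψ' = ψ then x else 0 := by
  classical
  have h1 : pr rW t ψ x = ((Fintype.card S : ℂ)⁻¹ * ∑ X : S, (ψ⁻¹ * ψ') X) • x := by
    unfold pr
    rw [LinearMap.smul_apply, LinearMap.sum_apply, mul_smul, Finset.sum_smul]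
    congr 1
    refine Finset.sum_congr rfl fun X _ => ?_
    rw [LinearMap.smul_apply, hx X, smul_smul, AddChar.mul_apply, AddChar.inv_apply]
  rw [h1]
  have hcard : (Fintype.card S : ℂ) ≠ 0 := Nat.cast_ne_zero.2 Fintype.card_ne_zero
  by_cases h : ψ' = ψ
  · rw [if_pos h]
    have h2 : ψ⁻¹ * ψ' = 1 := by rw [h, inv_mul_cancel]
    rw [h2]
    simp only [AddChar.one_apply, Finset.sum_const, Finset.card_univ, nsmul_eq_mul, mul_one]
    rw [inv_mul_cancel₀ hcard, one_smul]
  · rw [if_neg h]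
    have h2 : ψ⁻¹ * ψ' ≠ 0 := by
      rw [← AddChar.one_eq_zero]
      intro h3
      apply h
      exact (inv_mul_eq_one.1 h3).symm
    rw [AddChar.sum_eq_zero_iff_ne_zero.2 h2, mul_zero, zero_smul]

/-- eigenvectors of `t S` for pairwise different characters are linearly independent -/
theorem linearIndependent_of_eigen {ι : Type*} (v : ι → W) (χ : ι → AddChar S ℂ)
    (hχ : Function.Injective χ) (hv : ∀ i, v i ≠ 0)
    (he : ∀ i X, rW (t X) (v i) = χ i X • v i) : LinearIndependent ℂ v := by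
  classical
  rw [linearIndependent_iff']
  intro s a hsum i hi
  have h1 := congrArg (pr rW t (χ i)) hsum
  rw [map_sum, map_zero] at h1
  have h2 : ∀ j ∈ s, pr rW t (χ i) (a j • v j) = if j = i then a i • v i else 0 := by
    intro j _
    rw [map_smul, pr_apply_of_eigen rW t (χ i) (χ j) (v j) (he j)]
    by_cases hji : j = i
    · rw [if_pos hji, if_pos (by rw [hji]), hji]
    · rw [if_neg hji, if_neg (fun h => hji (hχ h)), smul_zero]
  rw [Finset.sum_congr rfl h2, Finset.sum_ite_eq' s i, if_pos hi] at h1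
  rcases smul_eq_zero.1 h1 with h | h
  · exact h
  · exact absurd h (hv i)

end proj

section core

variable {G : Type*} [Group G] {S : Type*} [AddCommGroup S] [Fintype S]
  {W V : Type*} [AddCommGroup W] [Module ℂ W] [AddCommGroup V] [Module ℂ V]
  (rW : G →* Module.End ℂ W) (rV : G →* Module.End ℂ V) (t : S → G)
  {Γ : Type*} [Group Γ] (l : Γ →* G)

theorem rep_inv_apply {U : Type*} [AddCommGroup U] [Module ℂ U] (r : G →* Module.End ℂ U) (g : G)
    (x : U) : r g⁻¹ (r g x) = x := by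
  rw [← Module.End.mul_apply, ← map_mul, inv_mul_cancel, map_one, Module.End.one_apply]

theorem rep_apply_inv {U : Type*} [AddCommGroup U] [Module ℂ U] (r : G →* Module.End ℂ U) (g : G)
    (x : U) : r g (r g⁻¹ x) = x := by
  rw [← Module.End.mul_apply, ← map_mul, mul_inv_cancel, map_one, Module.End.one_apply]

theorem rep_mul_apply {U : Type*} [AddCommGroup U] [Module ℂ U] (r : G →* Module.End ℂ U) (g h : G)
    (x : U) : r (g * h) x = r g (r h x) := by
  rw [map_mul, Module.End.mul_apply]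

theorem rep_ne_zero {U : Type*} [AddCommGroup U] [Module ℂ U] (r : G →* Module.End ℂ U) (g : G)
    {x : U} (hx : x ≠ 0) : r g x ≠ 0 := by
  intro h
  apply hx
  rw [← rep_inv_apply r g x, h, map_zero]

/-- **U-FROB, abstract core**: the translates `l g w0`, `g ∈ Γ`, carry characters `χ g` of `t S`, and translates
with equal characters are proportional, with the same factor on both sides. -/
theorem exists_map_core (χ : Γ → AddChar S ℂ) (w0 : W) (m0 : V)
    (hW : ∀ (g : Γ) X, rW (t X) (rW (l g) w0) = χ g X • rW (l g) w0)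
    (hw0 : w0 ≠ 0)
    (hstab : ∀ g g' : Γ, χ g = χ g' →
      ∃ c : ℂ, rW (l g) w0 = c • rW (l g') w0 ∧ rV (l g) m0 = c • rV (l g') m0) :
    ∃ T : W →ₗ[ℂ] V, ∀ g : Γ, T (rW (l g) w0) = rV (l g) m0 := by
  classical
  -- representatives of the characters
  let R : Type _ := Set.range χ
  have hRex : ∀ ψ : R, ∃ g : Γ, χ g = ψ.1 := fun ψ => ψ.2
  let rep : R → Γ := fun ψ => Classical.choose (hRex ψ)
  have hrep : ∀ ψ : R, χ (rep ψ) = ψ.1 := fun ψ => Classical.choose_spec (hRex ψ)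
  let v : R → W := fun ψ => rW (l (rep ψ)) w0
  let u : R → V := fun ψ => rV (l (rep ψ)) m0
  have hli : LinearIndependent ℂ v := by
    refine linearIndependent_of_eigen rW t v (fun ψ => ψ.1) Subtype.val_injective ?_ ?_
    · intro ψ
      exact rep_ne_zero rW _ hw0
    · intro ψ X
      have := hW (rep ψ) X
      rw [hrep ψ] at this
      exact this
  -- the map on the span of the representatives
  let T0 : Submodule.span ℂ (Set.range v) →ₗ[ℂ] V :=
    (Finsupp.linearCombination ℂ u).comp hli.repr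
  obtain ⟨T, hT⟩ := LinearMap.exists_extend T0
  refine ⟨T, ?_⟩
  intro g
  set ψ : R := ⟨χ g, Set.mem_range_self g⟩ with hψ
  obtain ⟨c, hc1, hc2⟩ := hstab g (rep ψ) (hrep ψ).symm
  have hmem : v ψ ∈ Submodule.span ℂ (Set.range v) := Submodule.subset_span (Set.mem_range_self ψ)
  have h1 : T (v ψ) = u ψ := by
    have h2 : T (v ψ) = T0 ⟨v ψ, hmem⟩ := by
      rw [← hT]
      rfl
    rw [h2]
    show Finsupp.linearCombination ℂ u (hli.repr ⟨v ψ, hmem⟩) = u ψ
    rw [hli.repr_eq_single ψ ⟨v ψ, hmem⟩ rfl, Finsupp.linearCombination_single, one_smul]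
  rw [hc1, hc2, map_smul]
  show c • T (v ψ) = c • u ψ
  rw [h1]

/-- the span of the `Γ`-translates of `w0` -/
def spanL (w0 : W) : Submodule ℂ W :=
  Submodule.span ℂ (Set.range fun g : Γ => rW (l g) w0)

theorem mem_spanL (w0 : W) (g : Γ) : rW (l g) w0 ∈ spanL rW l w0 :=
  Submodule.subset_span (Set.mem_range_self g)

theorem self_mem_spanL (w0 : W) : w0 ∈ spanL rW l w0 := by
  have h := mem_spanL rW l w0 1
  rw [map_one, map_one, Module.End.one_apply] at h
  exact h

theorem spanL_invariant (w0 : W) (h : Γ) {e : W} (he : e ∈ spanL rW l w0) :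
    rW (l h) e ∈ spanL rW l w0 := by
  unfold spanL at he ⊢
  induction he using Submodule.span_induction with
  | mem x hx =>
    obtain ⟨g, rfl⟩ := hx
    have : rW (l h) (rW (l g) w0) = rW (l (h * g)) w0 := by
      rw [map_mul, rep_mul_apply]
    rw [this]
    exact Submodule.subset_span (Set.mem_range_self (h * g))
  | zero => rw [map_zero]; exact Submodule.zero_mem _
  | add x y _ _ hx hy => rw [map_add]; exact Submodule.add_mem _ hx hy
  | smul a x _ hx => rw [map_smul]; exact Submodule.smul_mem _ a hx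

theorem spanL_invariant_t (χ : Γ → AddChar S ℂ) (w0 : W)
    (hW : ∀ (g : Γ) X, rW (t X) (rW (l g) w0) = χ g X • rW (l g) w0) (X : S) {e : W}
    (he : e ∈ spanL rW l w0) : rW (t X) e ∈ spanL rW l w0 := by
  unfold spanL at he ⊢
  induction he using Submodule.span_induction with
  | mem x hx =>
    obtain ⟨g, rfl⟩ := hx
    show rW (t X) (rW (l g) w0) ∈ _
    rw [hW g X]
    exact Submodule.smul_mem _ _ (Submodule.subset_span (Set.mem_range_self g))
  | zero => rw [map_zero]; exact Submodule.zero_mem _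
  | add x y _ _ hx hy => rw [map_add]; exact Submodule.add_mem _ hx hy
  | smul a x _ hx => rw [map_smul]; exact Submodule.smul_mem _ a hx

/-- `T` commutes with `Γ` on the span -/
theorem map_equivariant_L (w0 : W) (m0 : V) (T : W →ₗ[ℂ] V)
    (hT : ∀ g : Γ, T (rW (l g) w0) = rV (l g) m0) (h : Γ) {e : W} (he : e ∈ spanL rW l w0) :
    T (rW (l h) e) = rV (l h) (T e) := by
  unfold spanL at he
  induction he using Submodule.span_induction with
  | mem x hx =>
    obtain ⟨g, rfl⟩ := hx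
    have h1 : rW (l h) (rW (l g) w0) = rW (l (h * g)) w0 := by
      rw [map_mul, rep_mul_apply]
    have h2 : rV (l h) (rV (l g) m0) = rV (l (h * g)) m0 := by
      rw [map_mul, rep_mul_apply]
    show T (rW (l h) (rW (l g) w0)) = rV (l h) (T (rW (l g) w0))
    rw [h1, hT, hT, h2]
  | zero => simp only [map_zero]
  | add x y _ _ hx hy => simp only [map_add, hx, hy]
  | smul a x _ hx => simp only [map_smul, hx]

/-- `T` commutes with `t S` on the span -/
theorem map_equivariant_t (χ : Γ → AddChar S ℂ) (w0 : W) (m0 : V)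
    (hW : ∀ (g : Γ) X, rW (t X) (rW (l g) w0) = χ g X • rW (l g) w0)
    (hV : ∀ (g : Γ) X, rV (t X) (rV (l g) m0) = χ g X • rV (l g) m0)
    (T : W →ₗ[ℂ] V) (hT : ∀ g : Γ, T (rW (l g) w0) = rV (l g) m0) (X : S) {e : W}
    (he : e ∈ spanL rW l w0) : T (rW (t X) e) = rV (t X) (T e) := by
  unfold spanL at he
  induction he using Submodule.span_induction with
  | mem x hx =>
    obtain ⟨g, rfl⟩ := hx
    show T (rW (t X) (rW (l g) w0)) = rV (t X) (T (rW (l g) w0))
    rw [hW g X, map_smul, hT, hV g X]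
  | zero => simp only [map_zero]
  | add x y _ _ hx hy => simp only [map_add, hx, hy]
  | smul a x _ hx => simp only [map_smul, hx]

/-- **U-FROB, abstract form**. -/
theorem exists_map_abstract (χ : Γ → AddChar S ℂ) (w0 : W) (m0 : V)
    (hW : ∀ (g : Γ) X, rW (t X) (rW (l g) w0) = χ g X • rW (l g) w0)
    (hV : ∀ (g : Γ) X, rV (t X) (rV (l g) m0) = χ g X • rV (l g) m0)
    (hw0 : w0 ≠ 0)
    (hstab : ∀ g g' : Γ, χ g = χ g' →
      ∃ c : ℂ, rW (l g) w0 = c • rW (l g') w0 ∧ rV (l g) m0 = c • rV (l g') m0) :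
    ∃ T : W →ₗ[ℂ] V, (∀ g : Γ, T (rW (l g) w0) = rV (l g) m0) ∧
      (∀ h : Γ, ∀ e ∈ spanL rW l w0, T (rW (l h) e) = rV (l h) (T e)) ∧
      (∀ X : S, ∀ e ∈ spanL rW l w0, T (rW (t X) e) = rV (t X) (T e)) ∧
      (m0 ≠ 0 → ∀ e ∈ spanL rW l w0, T e = 0 → e = 0) := by
  obtain ⟨T, hT⟩ := exists_map_core rW rV t l χ w0 m0 hW hw0 hstab
  refine ⟨T, hT, ?_, ?_, ?_⟩
  · intro h e he
    exact map_equivariant_L rW rV l w0 m0 T hT h he
  · intro X e he
    exact map_equivariant_t rW rV t l χ w0 m0 hW hV T hT X he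
  · intro hm0 e he hTe
    have hstab' : ∀ g g' : Γ, χ g = χ g' →
        ∃ c : ℂ, rV (l g) m0 = c • rV (l g') m0 ∧ rW (l g) w0 = c • rW (l g') w0 := by
      intro g g' hgg
      obtain ⟨c, h1, h2⟩ := hstab g g' hgg
      exact ⟨c, h2, h1⟩
    obtain ⟨T', hT'⟩ := exists_map_core rV rW t l χ m0 w0 hV hm0 hstab'
    have hid : ∀ e ∈ spanL rW l w0, T' (T e) = e := by
      intro e he
      unfold spanL at he
      induction he using Submodule.span_induction with
      | mem x hx =>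
        obtain ⟨g, rfl⟩ := hx
        show T' (T (rW (l g) w0)) = rW (l g) w0
        rw [hT, hT']
      | zero => simp only [map_zero]
      | add x y _ _ hx hy => simp only [map_add, hx, hy]
      | smul a x _ hx => simp only [map_smul, hx]
    rw [← hid e he, hTe, map_zero]

/-- **U-FROB** (core of Step 2 of route U): `l : Γ →* G` normalises `t S`, the action being given by `act`. -/
theorem exists_map (act : Γ → (S ≃+ S))
    (hact : ∀ (g : Γ) (X : S), l g * t X * (l g)⁻¹ = t (act g X))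
    (hactmul : ∀ (g h : Γ) (X : S), act (g * h) X = act g (act h X))
    (ψ0 : AddChar S ℂ) (w0 : W) (m0 : V) (hw0 : w0 ≠ 0)
    (hw : ∀ X, rW (t X) w0 = ψ0 X • w0) (hm : ∀ X, rV (t X) m0 = ψ0 X • m0)
    (hstab : ∀ g : Γ, (∀ X, ψ0 (act g X) = ψ0 X) →
      ∃ c : ℂ, rW (l g) w0 = c • w0 ∧ rV (l g) m0 = c • m0) :
    ∃ T : W →ₗ[ℂ] V, (∀ g : Γ, T (rW (l g) w0) = rV (l g) m0) ∧
      (∀ h : Γ, ∀ e ∈ spanL rW l w0, T (rW (l h) e) = rV (l h) (T e)) ∧
      (∀ X : S, ∀ e ∈ spanL rW l w0, T (rW (t X) e) = rV (t X) (T e)) ∧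
      (m0 ≠ 0 → ∀ e ∈ spanL rW l w0, T e = 0 → e = 0) ∧
      (∀ h : Γ, ∀ e ∈ spanL rW l w0, rW (l h) e ∈ spanL rW l w0) ∧
      (∀ X : S, ∀ e ∈ spanL rW l w0, rW (t X) e ∈ spanL rW l w0) := by
  -- the character of the translate `l g w0`
  let χ : Γ → AddChar S ℂ := fun g => ψ0.compAddMonoidHom (act g).symm.toAddMonoidHom
  have hχ : ∀ (g : Γ) X, χ g X = ψ0 ((act g).symm X) := fun g X => rfl
  have hcomm : ∀ (g : Γ) (X : S), t X * l g = l g * t ((act g).symm X) := by
    intro g X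
    have h1 := hact g ((act g).symm X)
    rw [AddEquiv.apply_symm_apply] at h1
    rw [← h1]
    group
  have hW : ∀ (g : Γ) X, rW (t X) (rW (l g) w0) = χ g X • rW (l g) w0 := by
    intro g X
    rw [← rep_mul_apply, hcomm g X, rep_mul_apply, hw, map_smul, hχ]
  have hV : ∀ (g : Γ) X, rV (t X) (rV (l g) m0) = χ g X • rV (l g) m0 := by
    intro g X
    rw [← rep_mul_apply, hcomm g X, rep_mul_apply, hm, map_smul, hχ]
  have hst : ∀ g g' : Γ, χ g = χ g' →
      ∃ c : ℂ, rW (l g) w0 = c • rW (l g') w0 ∧ rV (l g) m0 = c • rV (l g') m0 := by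
    intro g g' hgg
    have hfix : ∀ X, ψ0 (act (g'⁻¹ * g) X) = ψ0 X := by
      intro X
      have h1 : act g X = act g' (act (g'⁻¹ * g) X) := by
        rw [← hactmul, mul_inv_cancel_left]
      have h2 : act (g'⁻¹ * g) X = (act g').symm (act g X) := by
        rw [h1, AddEquiv.symm_apply_apply]
      have h3 := congrArg (fun φ : AddChar S ℂ => φ (act g X)) hgg
      simp only [hχ, AddEquiv.symm_apply_apply] at h3
      rw [h2, ← h3]
    obtain ⟨c, hc1, hc2⟩ := hstab (g'⁻¹ * g) hfix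
    have hgg' : l g = l g' * l (g'⁻¹ * g) := by
      rw [← map_mul, mul_inv_cancel_left]
    refine ⟨c, ?_, ?_⟩
    · rw [hgg', rep_mul_apply, hc1, map_smul]
    · rw [hgg', rep_mul_apply, hc2, map_smul]
  obtain ⟨T, h1, h2, h3, h4⟩ := exists_map_abstract rW rV t l χ w0 m0 hW hV hw0 hst
  refine ⟨T, h1, h2, h3, h4, ?_, ?_⟩
  · intro h e he
    exact spanL_invariant rW l w0 h he
  · intro X e he
    exact spanL_invariant_t rW t l χ w0 hW X he

end core

section rigid

variable {G : Type*} [Group G]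
  {W V : Type*} [AddCommGroup W] [Module ℂ W] [AddCommGroup V] [Module ℂ V]
  (rW : G →* Module.End ℂ W) (rV : G →* Module.End ℂ V)

/-- **U-RIGID** (core of Step 1 of route U). -/
theorem rigid (Sg : Subgroup G) (Qpp : Set G) (Hset : Set G)
    (hgen : ∀ s ∈ Sg, s ∈ Subgroup.closure {x : G | ∃ s' ∈ Sg, ∃ q ∈ Qpp, x = s' * q * s'⁻¹})
    (hQS : Qpp ⊆ Sg)
    (hnorm : ∀ s ∈ Sg, ∀ h ∈ Hset, s * h * s⁻¹ ∈ Hset)
    (WA : Submodule ℂ W) (VA : Submodule ℂ V)
    (hWS : ∀ s ∈ Sg, ∀ w ∈ WA, rW s w ∈ WA) (hVS : ∀ s ∈ Sg, ∀ x ∈ VA, rV s x ∈ VA)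
    (hQ : ∀ φ : W →ₗ[ℂ] V, (∀ w ∈ WA, φ w ∈ VA) →
      (∀ h ∈ Hset, ∀ w ∈ WA, φ (rW h w) = rV h (φ w)) →
      ∀ q ∈ Qpp, ∀ w ∈ WA, φ (rW q w) = rV q (φ w))
    (φ : W →ₗ[ℂ] V) (hφ : ∀ w ∈ WA, φ w ∈ VA)
    (hφH : ∀ h ∈ Hset, ∀ w ∈ WA, φ (rW h w) = rV h (φ w)) :
    ∀ s ∈ Sg, ∀ w ∈ WA, φ (rW s w) = rV s (φ w) := by
  -- the statement for all admissible maps at once
  have key : ∀ s ∈ Sg, ∀ φ : W →ₗ[ℂ] V, (∀ w ∈ WA, φ w ∈ VA) →
      (∀ h ∈ Hset, ∀ w ∈ WA, φ (rW h w) = rV h (φ w)) →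
      ∀ w ∈ WA, φ (rW s w) = rV s (φ w) := by
    intro s hs
    have hs' := hgen s hs
    induction hs' using Subgroup.closure_induction with
    | mem x hx =>
      obtain ⟨s', hs', q, hq, rfl⟩ := hx
      intro φ hφ hφH w hw
      -- the conjugate map
      let φ' : W →ₗ[ℂ] V := (rV s'⁻¹).comp (φ.comp (rW s'))
      have hφ'apply : ∀ x, φ' x = rV s'⁻¹ (φ (rW s' x)) := fun _ => rfl
      have hs'inv : s'⁻¹ ∈ Sg := Sg.inv_mem hs'
      have h1 : ∀ w ∈ WA, φ' w ∈ VA := by
        intro w hw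
        rw [hφ'apply]
        exact hVS _ hs'inv _ (hφ _ (hWS _ hs' _ hw))
      have h2 : ∀ h ∈ Hset, ∀ w ∈ WA, φ' (rW h w) = rV h (φ' w) := by
        intro h hh w hw
        rw [hφ'apply, hφ'apply]
        have h3 : s' * h = (s' * h * s'⁻¹) * s' := by group
        rw [← rep_mul_apply, h3, rep_mul_apply, hφH _ (hnorm s' hs' h hh) _ (hWS _ hs' _ hw),
          ← rep_mul_apply, ← rep_mul_apply]
        congr 1
        group
      have h3 := hQ φ' h1 h2 q hq (rW s'⁻¹ w) (hWS _ hs'inv _ hw)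
      rw [hφ'apply, hφ'apply, rep_apply_inv] at h3
      -- h3 : rV s'⁻¹ (φ (rW s' (rW q (rW s'⁻¹ w)))) = rV q (rV s'⁻¹ (φ w))
      have h4 : rW (s' * q * s'⁻¹) w = rW s' (rW q (rW s'⁻¹ w)) := by
        rw [rep_mul_apply, rep_mul_apply]
      have h5 : rV (s' * q * s'⁻¹) (φ w) = rV s' (rV q (rV s'⁻¹ (φ w))) := by
        rw [rep_mul_apply, rep_mul_apply]
      rw [h4, h5, ← h3, rep_apply_inv]
    | one =>
      intro φ _ _ w _
      rw [map_one, map_one, Module.End.one_apply, Module.End.one_apply]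
    | mul a b ha hb iha ihb =>
      have haS : a ∈ Sg := by
        refine (Subgroup.closure_le Sg).2 ?_ ha
        rintro x ⟨s', hs', q, hq, rfl⟩
        exact Sg.mul_mem (Sg.mul_mem hs' (hQS hq)) (Sg.inv_mem hs')
      have hbS : b ∈ Sg := by
        refine (Subgroup.closure_le Sg).2 ?_ hb
        rintro x ⟨s', hs', q, hq, rfl⟩
        exact Sg.mul_mem (Sg.mul_mem hs' (hQS hq)) (Sg.inv_mem hs')
      intro φ hφ hφH w hw
      rw [rep_mul_apply, rep_mul_apply, iha haS φ hφ hφH _ (hWS _ hbS _ hw), ihb hbS φ hφ hφH w hw]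
    | inv a ha iha =>
      have haS : a ∈ Sg := by
        refine (Subgroup.closure_le Sg).2 ?_ ha
        rintro x ⟨s', hs', q, hq, rfl⟩
        exact Sg.mul_mem (Sg.mul_mem hs' (hQS hq)) (Sg.inv_mem hs')
      intro φ hφ hφH w hw
      have h1 := iha haS φ hφ hφH (rW a⁻¹ w) (hWS _ (Sg.inv_mem haS) _ hw)
      rw [rep_apply_inv] at h1
      rw [h1, rep_inv_apply]
  intro s hs w hw
  exact key s hs φ hφ hφH w hw

end rigid

end Cfsg.Agent.Lib.H18.UFrob
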