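/-
S5796 (SU_5 row, helper18): the row n = 5 from the statement of `umain_strong`, helper15's `urow_cases'`, the statement of
UP3-B5' (SU in no subfield group) and the statement of UP5-C3 (for q = 2 the normaliser of a degree-5 field is not maximal).
-/
import Cfsg.Agent.Lib.H15.UP3Gen

set_option autoImplicit false
set_option maxHeartbeats 1000000

namespace Cfsg.Agent.Lib.H18.UP5

open Cfsg Cfsg.Geo Cfsg.Agent.Lib.Lead.Asch Cfsg.Agent.Lib.H15.UP2 Cfsg.Agent.Lib.H15.UP3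
open scoped MatrixGroups Matrix Kronecker

theorem order_mod_5 {a e : ℕ} (ha : a < 5) (he : Even e) (he0 : 0 < e) (h1 : a ^ e % 5 = 1)
    (hmin : ∀ d : ℕ, 0 < d → d < e → a ^ d % 5 ≠ 1) :
    (e = 2 ∧ a = 4) ∨ (e = 4 ∧ (a = 2 ∨ a = 3)) := by
  have ha0 : a ≠ 0 := by
    rintro rfl
    rw [zero_pow (by omega)] at h1
    simp at h1
  have hle : e ≤ 4 := by
    by_contra hlt
    have h2 := hmin 4 (by omega) (by omega)
    interval_cases a <;> simp_all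
  obtain ⟨j, rfl⟩ := he
  have hj : j = 1 ∨ j = 2 := by omega
  rcases hj with rfl | rfl
  · have h2 := hmin 1 (by omega) (by omega)
    interval_cases a <;> simp_all
  · have h2 := hmin 2 (by omega) (by omega)
    interval_cases a <;> simp_all

/-- The statement of UP5-C3. -/
def C3Stmt (q : ℕ) (F : Type*) [Field F] [Fintype F] : Prop :=
  q = 2 → ∀ K : Subalgebra F (Matrix (Fin 5) (Fin 5) F), IsFieldSubalgebra 5 K →
    IsAdjointClosedFor (hermForm 5 F q) K →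
    ¬ IsMaximalIn (GU 5 F q ⊓ specialLinear (Fin 5) F)
      (subalgebraNormalizer K ⊓ (GU 5 F q ⊓ specialLinear (Fin 5) F))

theorem row5 {F : Type*} [Field F] [Fintype F] (q : ℕ) (hF : Fintype.card F = q ^ 2)
    (hmain : UMainStrong 5 q F) (hB5 : B5Stmt 5 q F) (hC3 : C3Stmt q F)
    (H : Subgroup (Matrix.GeneralLinearGroup (Fin 5) F))
    (hH : Cfsg.Geo.IsMaximalIn (Cfsg.GU 5 F q ⊓ Cfsg.Geo.specialLinear (Fin 5) F) H) :
    (∃ W : Submodule F (Fin 5 → F), W ≠ ⊥ ∧ Cfsg.Geo.IsTotallySingularFor (Cfsg.hermForm 5 F q) W ∧ H = Cfsg.Geo.subspaceStabilizer W ⊓ (Cfsg.GU 5 F q ⊓ Cfsg.Geo.specialLinear (Fin 5) F)) ∨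
    (∃ W : Submodule F (Fin 5 → F), W ≠ ⊥ ∧ Cfsg.Geo.IsNondegenerateOn (Cfsg.hermForm 5 F q) W ∧ 2 * Module.finrank F W < 5 ∧ H = Cfsg.Geo.subspaceStabilizer W ⊓ (Cfsg.GU 5 F q ⊓ Cfsg.Geo.specialLinear (Fin 5) F)) ∨
    (∃ D : Fin 5 → Submodule F (Fin 5 → F), Cfsg.Geo.IsNondegenerateMDecomposition (Cfsg.hermForm 5 F q) 1 D ∧ H = Cfsg.Geo.decompositionStabilizer D ⊓ (Cfsg.GU 5 F q ⊓ Cfsg.Geo.specialLinear (Fin 5) F)) ∨
    (3 ≤ q ∧ ∃ K : Subalgebra F (Matrix (Fin 5) (Fin 5) F), Cfsg.Geo.IsFieldSubalgebra 5 K ∧ Cfsg.Geo.IsAdjointClosedFor (Cfsg.hermForm 5 F q) K ∧ H = Cfsg.Geo.subalgebraNormalizer K ⊓ (Cfsg.GU 5 F q ⊓ Cfsg.Geo.specialLinear (Fin 5) F)) ∨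
    (∃ (F₀ : Subfield F) (r : ℕ) (P : Matrix.GeneralLinearGroup (Fin 5) F), r.Prime ∧ Odd r ∧ Fintype.card F = Nat.card F₀ ^ r ∧ Cfsg.Geo.IsFormRationalStructure (Cfsg.hermForm 5 F q) F₀ 1 P ∧ H = Cfsg.Geo.subfieldSubgroup F₀ P ⊓ (Cfsg.GU 5 F q ⊓ Cfsg.Geo.specialLinear (Fin 5) F)) ∨
    (Odd q ∧ ∃ (F₀ : Subfield F) (P : Matrix.GeneralLinearGroup (Fin 5) F), Fintype.card F = Nat.card F₀ ^ 2 ∧ Cfsg.Geo.IsFormRationalStructure (Cfsg.hermForm 5 F q) F₀ 1 P ∧ H = Cfsg.Geo.subfieldSubgroup F₀ P ⊓ (Cfsg.GU 5 F q ⊓ Cfsg.Geo.specialLinear (Fin 5) F)) ∨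
    (∃ (p : ℕ) (R : Subgroup (Matrix.GeneralLinearGroup (Fin 5) F)), p.Prime ∧ CharP F p ∧ ((q = p ∧ p % 5 = 4) ∨ (q = p ^ 2 ∧ (p % 5 = 2 ∨ p % 5 = 3))) ∧ Cfsg.Geo.IsSymplecticTypeGroup 5 R ∧ Cfsg.Geo.ActsAbsolutelyIrreducibly (Cfsg.Geo.matrixSet R) ∧ R ≤ Cfsg.Geo.similarityGroup (Cfsg.hermForm 5 F q) ∧ Nat.card R = 125 ∧ Nat.card (Subgroup.center R) = 5 ∧ H = Cfsg.Geo.subgroupNormalizer R ⊓ (Cfsg.GU 5 F q ⊓ Cfsg.Geo.specialLinear (Fin 5) F)) ∨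
    Cfsg.Geo.InUnitaryResidualClass H := by
  have hq2 : 2 ≤ q := Cfsg.Agent.Lib.H2.Herm.two_le_q hF
  rcases urow_cases' hF (by norm_num) hB5 hmain H hH with h | h
  swap
  · exact Or.inr (Or.inr (Or.inr (Or.inr (Or.inr (Or.inr (Or.inr h))))))
  rcases h with h | h | h | h | h | h | h | h | h | h | h
  · exact Or.inl h
  · exact Or.inr (Or.inl h)
  · -- C2a
    obtain ⟨t, k, D, htk, ht2, hk2, hD, hHeq⟩ := h
    have htd : t ∣ 5 := Dvd.intro _ htk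
    rcases (Nat.dvd_prime (by norm_num : Nat.Prime 5)).1 htd with rfl | rfl
    · omega
    · have hk : k = 1 := by omega
      subst hk
      exact Or.inr (Or.inr (Or.inl ⟨D, hD, hHeq⟩))
  · -- C2b
    obtain ⟨k, D, h2k, _⟩ := h
    omega
  · -- C3
    obtain ⟨r, K, hr, hodd, hdvd, hK, hadj, hHeq⟩ := h
    rcases (Nat.dvd_prime (by norm_num : Nat.Prime 5)).1 hdvd with rfl | rfl
    · exact absurd hr Nat.not_prime_one
    · by_cases hq : q = 2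
      · exfalso
        apply hC3 hq K hK hadj
        rw [← hHeq]
        exact hH
      · exact Or.inr (Or.inr (Or.inr (Or.inl ⟨by omega, K, hK, hadj, hHeq⟩)))
  · -- C4
    obtain ⟨n₁, n₂, e, P, f₁, f₂, h1, h2, hmul, _⟩ := h
    exfalso
    have hd : n₁ ∣ 5 := Dvd.intro _ hmul
    rcases (Nat.dvd_prime (by norm_num : Nat.Prime 5)).1 hd with rfl | rfl
    · omega
    · have : n₂ = 1 := by omega
      omega
  · exact Or.inr (Or.inr (Or.inr (Or.inr (Or.inl h))))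
  · -- C5b
    obtain ⟨F₀, P, hodd, hcard, hrat, hHeq⟩ := h
    exact Or.inr (Or.inr (Or.inr (Or.inr (Or.inr (Or.inl ⟨hodd, F₀, P, hcard, hrat, hHeq⟩)))))
  · -- C5c
    obtain ⟨F₀, P, ζ, hev, _⟩ := h
    exact absurd hev (by decide)
  · -- C6
    obtain ⟨r, R, p, e, k, j, h1, h2, h3, h4, h5, h6, hnk, hk1, hqj, hej, hHeq⟩ := h
    obtain ⟨rfl, rfl⟩ := (Nat.Prime.pow_eq_iff (by norm_num : Nat.Prime 5)).1 hnk.symm
    rcases h6 with h6 | h6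
    swap
    · omega
    obtain ⟨_, hz, _, hcardR⟩ := h6
    rw [hz] at h5
    obtain ⟨he0, hpow, hmin⟩ := minimalField_mod (by norm_num) h5
    have hp := h5.1
    have hchar := h5.2.1
    have hlt : p % 5 < 5 := Nat.mod_lt _ (by norm_num)
    rcases order_mod_5 hlt ⟨j, by omega⟩ he0 hpow hmin with ⟨he, ha⟩ | ⟨he, ha⟩
    · have hj : j = 1 := by omega
      subst hj
      rw [pow_one] at hqj
      exact Or.inr (Or.inr (Or.inr (Or.inr (Or.inr (Or.inr (Or.inl ⟨p, R, hp, hchar, Or.inl ⟨hqj, ha⟩,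
        h1, h2, h3, by rw [hcardR]; norm_num, hz, hHeq⟩))))))
    · have hj : j = 2 := by omega
      subst hj
      exact Or.inr (Or.inr (Or.inr (Or.inr (Or.inr (Or.inr (Or.inl ⟨p, R, hp, hchar, Or.inr ⟨hqj, ha⟩,
        h1, h2, h3, by rw [hcardR]; norm_num, hz, hHeq⟩))))))
  · -- C7
    obtain ⟨k, t, e, P, f₁, h1, h2, hkt, _⟩ := h
    exfalso
    have h9 : 3 ^ 2 ≤ k ^ t := (Nat.pow_le_pow_left h1 2).trans (Nat.pow_le_pow_right (by omega) h2)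
    omega

end Cfsg.Agent.Lib.H18.UP5
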