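/-
S2524 (route U, tools/blueprints/S2524_U.md), concrete assembly of Steps 1+2, part (a):
`Q`-eigenvectors of a representation of `Sp_2n(F)`, the Levi action on them, the decomposition of a vector
into `Q`-eigenvectors, and the matrix facts about `Y0 a = a E_**`, the `R1`-translates and the torus `T1`.
-/
import Cfsg.Agent.Lib.H8.TZBasic
import Cfsg.Agent.Lib.H11.S2524G1
import Cfsg.Agent.Lib.H18.UFrob

set_option autoImplicit false
set_option linter.unusedSectionVars false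

namespace Cfsg.Agent.Lib.H18.UStep12

open Matrix Module Cfsg.Agent.Lib.H12.LS2 Cfsg.Agent.Lib.H5.LS2 Cfsg.Agent.Lib.H20.Weil
  Cfsg.Agent.Lib.H4 Cfsg.Agent.Lib.H8.TZ
open Cfsg.Agent.Lib.H11.SpU hiding tEl_add tEl_injective lEl_conj_tEl

section eig

variable {F : Type*} [Field F] {n : ℕ} [Fintype (Symm n F)]
  {M : Type*} [AddCommGroup M] [Module ℂ M] [FiniteDimensional ℂ M]
  (χ : AddChar F ℂ) (Φ : Symm n F ≃ AddChar (Symm n F) ℂ)
  (hΦ : ∀ Y X : Symm n F, Φ Y X =
    χ (Matrix.trace ((X : Matrix (Fin n) (Fin n) F) * (Y : Matrix (Fin n) (Fin n) F))))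
  (ρ : Matrix.symplecticGroup (Fin n) F →* Module.End ℂ M)

/-- `v` is a `Q`-eigenvector for the character `Φ Y` -/
def IsEig (Y : Symm n F) (v : M) : Prop := ∀ X : Symm n F, ρ (tEl X) v = Φ Y X • v

theorem isEig_iff_mem_range (Y : Symm n F) (v : M) :
    IsEig Φ ρ Y v ↔ v ∈ LinearMap.range (PY Φ ρ Y) :=
  (mem_range_PY_iff Φ ρ Y v).symm

theorem isEig_zero (Y : Symm n F) : IsEig Φ ρ Y (0 : M) := by
  intro X
  rw [map_zero, smul_zero]

theorem IsEig.smul {Y : Symm n F} {v : M} (h : IsEig Φ ρ Y v) (c : ℂ) : IsEig Φ ρ Y (c • v) := by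
  intro X
  rw [map_smul, h X, smul_comm]

theorem isEig_PY (Y : Symm n F) (w : M) : IsEig Φ ρ Y (PY Φ ρ Y w) :=
  (isEig_iff_mem_range Φ ρ Y _).2 ⟨w, rfl⟩

theorem IsEig.PY_eq {Y : Symm n F} {v : M} (h : IsEig Φ ρ Y v) : PY Φ ρ Y v = v := by
  obtain ⟨u, rfl⟩ := (isEig_iff_mem_range Φ ρ Y v).1 h
  rw [← Module.End.mul_apply, RepChar.proj_mul_proj ρ tEl tEl_add]

theorem IsEig.PY_ne_zero {Y : Symm n F} {v : M} (h : IsEig Φ ρ Y v) (hv : v ≠ 0) :
    PY Φ ρ Y ≠ 0 := by
  intro h0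
  apply hv
  rw [← h.PY_eq, h0, LinearMap.zero_apply]

theorem sum_PY : ∑ Y : Symm n F, PY Φ ρ Y = 1 := by
  classical
  have h := RepChar.sum_proj ρ tEl tEl_add
  rw [← h]
  exact Equiv.sum_comp Φ (fun ψ => RepChar.proj ρ tEl ψ)

theorem sum_PY_apply (w : M) : ∑ Y : Symm n F, PY Φ ρ Y w = w := by
  have h := congrArg (fun f : Module.End ℂ M => f w) (sum_PY Φ ρ)
  simpa [LinearMap.sum_apply] using h

/-- the Levi element `lEl g` maps `Φ Y`-eigenvectors to `Φ (cact g⁻¹ Y)`-eigenvectors -/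
theorem tEl_mul_lEl (g : GL (Fin n) F) (X : Symm n F) :
    (tEl X : Matrix.symplecticGroup (Fin n) F) * lEl g = lEl g * tEl (sact g⁻¹ X) := by
  have h := Cfsg.Agent.Lib.H8.TZ.lEl_conj_tEl g⁻¹ X
  rw [lEl_inv, inv_inv] at h
  rw [← h]
  group

include hΦ in
theorem IsEig.map_lEl {Y : Symm n F} {v : M} (h : IsEig Φ ρ Y v) (g : GL (Fin n) F) :
    IsEig Φ ρ (cact g⁻¹ Y) (ρ (lEl g) v) := by
  intro X
  rw [← UFrob.rep_mul_apply, tEl_mul_lEl, UFrob.rep_mul_apply, h, map_smul,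
    Phi_cact χ Φ hΦ]

include hΦ in
theorem IsEig.map_lEl_inv {Y : Symm n F} {v : M} (h : IsEig Φ ρ Y v) (g : GL (Fin n) F) :
    IsEig Φ ρ (cact g Y) (ρ (lEl g⁻¹) v) := by
  have := h.map_lEl χ Φ hΦ ρ g⁻¹
  rwa [inv_inv] at this

/-- an eigenvector for two characters is zero -/
theorem IsEig.eq_of_ne_zero {Y Y' : Symm n F} {v : M} (h : IsEig Φ ρ Y v) (h' : IsEig Φ ρ Y' v)
    (hv : v ≠ 0) : Y = Y' := by
  apply Φ.injective
  apply DFunLike.ext
  intro X
  have h1 := h X
  rw [h' X] at h1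
  by_contra hne
  apply hv
  have h2 : (Φ Y' X - Φ Y X) • v = 0 := by rw [sub_smul, h1, sub_self]
  rcases smul_eq_zero.1 h2 with h3 | h3
  · exact absurd (sub_eq_zero.1 h3).symm hne
  · exact h3

/-- multiplicity one: two eigenvectors for the same character are proportional -/
theorem IsEig.exists_smul {Y : Symm n F} (hY : finrank ℂ (LinearMap.range (PY Φ ρ Y)) ≤ 1)
    {v v' : M} (h : IsEig Φ ρ Y v) (h' : IsEig Φ ρ Y v') (hv : v ≠ 0) : ∃ c : ℂ, v' = c • v := by
  have hv1 : v ∈ LinearMap.range (PY Φ ρ Y) := (isEig_iff_mem_range Φ ρ Y v).1 h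
  have hv2 : v' ∈ LinearMap.range (PY Φ ρ Y) := (isEig_iff_mem_range Φ ρ Y v').1 h'
  have h3 := (finrank_le_one_iff (K := ℂ) (V := LinearMap.range (PY Φ ρ Y))).1 hY
  obtain ⟨x, hx⟩ := h3
  obtain ⟨c1, hc1⟩ := hx ⟨v, hv1⟩
  obtain ⟨c2, hc2⟩ := hx ⟨v', hv2⟩
  have hc1' : c1 • (x : M) = v := by
    have := congrArg Subtype.val hc1
    simpa using this
  have hc2' : c2 • (x : M) = v' := by
    have := congrArg Subtype.val hc2
    simpa using this
  have hc1ne : c1 ≠ 0 := by
    rintro rfl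
    apply hv
    rw [← hc1', zero_smul]
  refine ⟨c2 * c1⁻¹, ?_⟩
  rw [← hc1', ← hc2', smul_smul, mul_assoc, inv_mul_cancel₀ hc1ne, mul_one]

/-- `PY` commutes with `ρ (tEl X)` -/
theorem PY_comm_tEl (Y X : Symm n F) (w : M) :
    PY Φ ρ Y (ρ (tEl X) w) = ρ (tEl X) (PY Φ ρ Y w) := by
  have h := RepChar.commute_proj ρ tEl (Φ Y) (g := tEl X) (fun X' => by
    rw [← tEl_add, ← tEl_add, add_comm])
  have h2 := congrArg (fun f : Module.End ℂ M => f w) h
  simpa [Module.End.mul_apply] using h2.symm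

end eig


section mat

variable {F : Type*} [Field F] {n m : ℕ}

/-- entries of `gᵀ (a E_kk) g` -/
theorem cact_symE_apply (g : GL (Fin n) F) (k : Fin n) (a : F) (i j : Fin n) :
    ((cact g (symE k a) : Symm n F) : Matrix (Fin n) (Fin n) F) i j = g.1 k i * a * g.1 k j := by
  classical
  rw [cact_val, symE_val, Matrix.mul_apply]
  have h1 : ∀ l, (g.1ᵀ * Matrix.single k k a) i l = if l = k then g.1 k i * a else 0 := by
    intro l
    rw [Matrix.mul_apply]
    simp only [Matrix.transpose_apply, Matrix.single_apply]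
    by_cases hl : l = k
    · subst hl
      simp
    · have : ∀ x, ¬ (k = x ∧ k = l) := fun x hx => hl hx.2.symm
      simp [hl, this]
  simp only [h1, ite_mul, zero_mul, Finset.sum_ite_eq', Finset.mem_univ, if_true]

/-- entries of `g (c E_kk) gᵀ` -/
theorem sact_symE_apply (g : GL (Fin n) F) (k : Fin n) (c : F) (i j : Fin n) :
    ((sact g (symE k c) : Symm n F) : Matrix (Fin n) (Fin n) F) i j = g.1 i k * c * g.1 j k := by
  classical
  rw [sact_val, symE_val, Matrix.mul_apply]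
  have h1 : ∀ l, (g.1 * Matrix.single k k c) i l = if l = k then g.1 i k * c else 0 := by
    intro l
    rw [Matrix.mul_apply]
    simp only [Matrix.single_apply]
    by_cases hl : l = k
    · subst hl
      simp
    · have : ∀ x, ¬ (k = x ∧ k = l) := fun x hx => hl hx.2.symm
      simp [hl, this]
  simp only [h1, ite_mul, zero_mul, Matrix.transpose_apply, Finset.sum_ite_eq', Finset.mem_univ,
    if_true]

/-- the symmetric matrix `a E_**` -/
def Y0 (m : ℕ) (a : F) : Symm (m + 1) F := symE (Fin.last m) a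

theorem Y0_apply (a : F) (i j : Fin (m + 1)) :
    ((Y0 m a : Symm (m + 1) F) : Matrix (Fin (m + 1)) (Fin (m + 1)) F) i j =
      if i = Fin.last m ∧ j = Fin.last m then a else 0 := by
  classical
  show Matrix.single (Fin.last m) (Fin.last m) a i j = _
  rw [Matrix.single_apply]
  by_cases h : i = Fin.last m ∧ j = Fin.last m
  · rw [if_pos h, if_pos ⟨h.1.symm, h.2.symm⟩]
  · rw [if_neg h, if_neg (fun h' => h ⟨h'.1.symm, h'.2.symm⟩)]

theorem Y0_ne_zero {a : F} (ha : a ≠ 0) : Y0 m a ≠ 0 := by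
  intro h
  apply ha
  have h1 := congrArg (fun Y : Symm (m + 1) F =>
    (Y : Matrix (Fin (m + 1)) (Fin (m + 1)) F) (Fin.last m) (Fin.last m)) h
  simpa [Y0_apply] using h1

/-- the `GL`-matrix `1 + e_* uᵀ` of `r1El u` -/
def gR (u : Fin m → F) : GL (Fin (m + 1)) F :=
  glTv (estar m F) (ext0 u) (ext0_dot_estar u)

theorem r1El_eq (u : Fin m → F) : (r1El u : Sp (m + 1) F) = lEl (gR u) := rfl

theorem gR_last_apply (u : Fin m → F) (j : Fin (m + 1)) :
    (gR u).1 (Fin.last m) j = (estar m F + ext0 u) j := by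
  show ((1 : Matrix (Fin (m + 1)) (Fin (m + 1)) F) + vecMulVec (estar m F) (ext0 u)) (Fin.last m) j = _
  rw [Matrix.add_apply, Matrix.vecMulVec_apply, estar_last, one_mul, Pi.add_apply]
  congr 1
  refine Fin.lastCases ?_ (fun j' => ?_) j
  · simp
  · simp [Matrix.one_apply, (Fin.castSucc_ne_last j').symm, estar_castSucc]

theorem gR_inv_last_apply (u : Fin m → F) (j : Fin (m + 1)) :
    ((gR u)⁻¹ : GL (Fin (m + 1)) F).1 (Fin.last m) j = (estar m F - ext0 u) j := by
  show ((1 : Matrix (Fin (m + 1)) (Fin (m + 1)) F) - vecMulVec (estar m F) (ext0 u)) (Fin.last m) j = _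
  rw [Matrix.sub_apply, Matrix.vecMulVec_apply, estar_last, one_mul, Pi.sub_apply]
  congr 1
  refine Fin.lastCases ?_ (fun j' => ?_) j
  · simp
  · simp [Matrix.one_apply, (Fin.castSucc_ne_last j').symm, estar_castSucc]

theorem gR_apply_last (u : Fin m → F) (i : Fin (m + 1)) :
    (gR u).1 i (Fin.last m) = if i = Fin.last m then 1 else 0 := by
  show ((1 : Matrix (Fin (m + 1)) (Fin (m + 1)) F) + vecMulVec (estar m F) (ext0 u)) i (Fin.last m) = _
  rw [Matrix.add_apply, Matrix.vecMulVec_apply, ext0_last, mul_zero, add_zero, Matrix.one_apply]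

/-- the stabiliser of `Y0 a` in `R1` is trivial -/
theorem gR_stab_trivial {a : F} (ha : a ≠ 0) (u : Fin m → F)
    (h : cact (gR u) (Y0 m a) = Y0 m a) : u = 0 := by
  funext i
  have h1 := congrArg (fun Y : Symm (m + 1) F =>
    (Y : Matrix (Fin (m + 1)) (Fin (m + 1)) F) (Fin.castSucc i) (Fin.last m)) h
  simp only [Y0] at h1
  rw [cact_symE_apply, gR_last_apply, gR_last_apply] at h1
  have h2 : ((symE (Fin.last m) a : Symm (m + 1) F) : Matrix (Fin (m + 1)) (Fin (m + 1)) F)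
      (Fin.castSucc i) (Fin.last m) = 0 := by
    have := Y0_apply (m := m) a (Fin.castSucc i) (Fin.last m)
    rw [if_neg (fun h => Fin.castSucc_ne_last i h.1)] at this
    exact this
  rw [h2] at h1
  simp only [Pi.add_apply, estar_castSucc, ext0_castSucc, zero_add, estar_last, ext0_last,
    add_zero, mul_one] at h1
  rcases mul_eq_zero.1 h1 with h3 | h3
  · exact h3
  · exact absurd h3 ha

/-- `R1` is transitive on the rank-one matrices with `Y_** = a` -/
theorem exists_gR_of_rank_one {a : F} (ha : a ≠ 0) (Y : Symm (m + 1) F)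
    (hY : ∃ (c : F) (v : Fin (m + 1) → F), (Y : Matrix (Fin (m + 1)) (Fin (m + 1)) F) = c • vecMulVec v v)
    (hYa : (Y : Matrix (Fin (m + 1)) (Fin (m + 1)) F) (Fin.last m) (Fin.last m) = a) :
    ∃ u : Fin m → F, Y = cact (gR u)⁻¹ (Y0 m a) := by
  obtain ⟨c, v, hcv⟩ := hY
  have ha' : c * (v (Fin.last m) * v (Fin.last m)) = a := by
    rw [← hYa, hcv, Matrix.smul_apply, Matrix.vecMulVec_apply, smul_eq_mul]
  have hvs : v (Fin.last m) ≠ 0 := by
    intro h0
    apply ha
    rw [← ha', h0, mul_zero, mul_zero]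
  refine ⟨fun i => - v (Fin.castSucc i) / v (Fin.last m), ?_⟩
  apply Subtype.ext
  ext i j
  simp only [Y0]
  rw [cact_symE_apply, gR_inv_last_apply, gR_inv_last_apply, hcv, Matrix.smul_apply,
    Matrix.vecMulVec_apply, smul_eq_mul]
  have hkey : ∀ k : Fin (m + 1), (estar m F - ext0 (fun i => - v (Fin.castSucc i) / v (Fin.last m))) k
      = v k / v (Fin.last m) := by
    intro k
    refine Fin.lastCases ?_ (fun k' => ?_) k
    · simp only [Pi.sub_apply, estar_last, ext0_last, sub_zero]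
      rw [div_self hvs]
    · simp only [Pi.sub_apply, estar_castSucc, ext0_castSucc, zero_sub]
      rw [neg_div, neg_neg]
  rw [hkey i, hkey j, ← ha']
  field_simp

/-- `r1El u` commutes with the long root group `U1` -/
theorem sact_gR_symE (u : Fin m → F) (c : F) :
    sact (gR u) (symE (Fin.last m) c) = symE (Fin.last m) c := by
  classical
  apply Subtype.ext
  ext i j
  rw [sact_symE_apply, gR_apply_last, gR_apply_last]
  have h := Y0_apply (m := m) c i j
  simp only [Y0] at h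
  rw [h]
  by_cases hi : i = Fin.last m <;> by_cases hj : j = Fin.last m
  · rw [if_pos hi, if_pos hj, if_pos ⟨hi, hj⟩, one_mul, mul_one]
  · rw [if_pos hi, if_neg hj, if_neg (fun h : i = Fin.last m ∧ j = Fin.last m => hj h.2), mul_zero]
  · rw [if_neg hi, if_neg (fun h : i = Fin.last m ∧ j = Fin.last m => hi h.1), zero_mul, zero_mul]
  · rw [if_neg hi, if_neg (fun h : i = Fin.last m ∧ j = Fin.last m => hi h.1), zero_mul, zero_mul]

theorem r1El_comm_U1 (u : Fin m → F) (c : F) :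
    (r1El u : Sp (m + 1) F) * tEl (symE (Fin.last m) c) = tEl (symE (Fin.last m) c) * r1El u := by
  have h := Cfsg.Agent.Lib.H8.TZ.lEl_conj_tEl (gR u) (symE (Fin.last m) c)
  rw [sact_gR_symE] at h
  rw [r1El_eq]
  exact mul_inv_eq_iff_eq_mul.1 h

/-- the `(*,*)` entry of `gᵀ (a E_**) g` -/
theorem cact_Y0_last (g : GL (Fin (m + 1)) F) (a : F) :
    ((cact g (Y0 m a) : Symm (m + 1) F) : Matrix (Fin (m + 1)) (Fin (m + 1)) F) (Fin.last m) (Fin.last m)
      = g.1 (Fin.last m) (Fin.last m) * a * g.1 (Fin.last m) (Fin.last m) := by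
  simp only [Y0]
  rw [cact_symE_apply]

/-- the `(*,*)` entry of `hᵀ Y h` for `h = diag(1,…,1,τ)` -/
theorem cact_glT1_last (τ : Fˣ) (Y : Symm (m + 1) F) :
    ((cact (glT1 (m := m) τ) Y : Symm (m + 1) F) : Matrix (Fin (m + 1)) (Fin (m + 1)) F)
      (Fin.last m) (Fin.last m)
      = τ.1 * τ.1 * (Y : Matrix (Fin (m + 1)) (Fin (m + 1)) F) (Fin.last m) (Fin.last m) := by
  rw [cact_val, glT1_val, blk_transpose, Matrix.transpose_one, Matrix.mul_apply]
  simp only [Matrix.mul_apply, Fin.sum_univ_castSucc, blk_lc, blk_ll, blk_cl, zero_mul, mul_zero,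
    Finset.sum_const_zero, zero_add, add_zero]
  ring

/-- `diag(g'', 1)` fixes `a E_**` -/
theorem cact_glPP_Y0 (g : GL (Fin m) F) (a : F) : cact (glPP g) (Y0 m a) = Y0 m a := by
  classical
  apply Subtype.ext
  ext i j
  rw [Y0_apply]
  simp only [Y0]
  rw [cact_symE_apply, glPP_val]
  refine Fin.lastCases ?_ (fun i' => ?_) i <;> refine Fin.lastCases ?_ (fun j' => ?_) j
  · rw [if_pos ⟨rfl, rfl⟩, blk_ll, one_mul, mul_one]
  · rw [if_neg (fun h => Fin.castSucc_ne_last j' h.2), blk_lc, mul_zero]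
  · rw [if_neg (fun h => Fin.castSucc_ne_last i' h.1), blk_lc, zero_mul, zero_mul]
  · rw [if_neg (fun h => Fin.castSucc_ne_last i' h.1), blk_lc, zero_mul, zero_mul]

end mat

end Cfsg.Agent.Lib.H18.UStep12
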