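/-
S2524 (route U, tools/blueprints/S2524_U.md), concrete assembly of Steps 1+2, part (b):
construction of the `P`-map `T : W → V` of Theorem U with the properties `hTa`, `hTb` wanted by
`Cfsg.Agent.Lib.H20.UGlue.glue`.

`n = m + 1`, `* = Fin.last m`, `Y0 a = a E_**`.  `E = spanL rW (lHom (m+1)) w0` is the span of the Levi translates of the
`Q`-eigenvector `w0` of `W` (character `Φ (Y0 a)`), `D = Dsp Φ rW` the span of the `Q`-eigenvectors with `Y_** ≠ 0`.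
-/
import Cfsg.Agent.Lib.H18.UStep12a
import Cfsg.Agent.Lib.H11.S2524G1b
import Cfsg.Agent.Lib.H11.S2524G5
import Cfsg.Agent.Lib.H25.S2524R

set_option autoImplicit false
set_option linter.unusedSectionVars false
set_option linter.unusedVariables false

namespace Cfsg.Agent.Lib.H18.UStep12

open Matrix Module Cfsg.Agent.Lib.H12.LS2 Cfsg.Agent.Lib.H5.LS2 Cfsg.Agent.Lib.H20.Weil
  Cfsg.Agent.Lib.H4 Cfsg.Agent.Lib.H8.TZ
open Cfsg.Agent.Lib.H11.SpU hiding tEl_add tEl_injective lEl_conj_tEl lEl_mul lEl_one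
open Cfsg.Agent.Lib.H25.SpR hiding sum_PY_apply

/-! ### the subgroup of elements commuting with a partial map -/

section eqv

variable {G : Type*} [Group G] {W V : Type*} [AddCommGroup W] [Module ℂ W]
  [AddCommGroup V] [Module ℂ V] (rW : G →* Module.End ℂ W) (rV : G →* Module.End ℂ V)

/-- the elements `x` such that `x` and `x⁻¹` preserve `E` and `T` commutes with both on `E` -/
def eqvSub (E : Submodule ℂ W) (T : W →ₗ[ℂ] V) : Subgroup G where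
  carrier := {x | (∀ e ∈ E, rW x e ∈ E ∧ T (rW x e) = rV x (T e)) ∧
    (∀ e ∈ E, rW x⁻¹ e ∈ E ∧ T (rW x⁻¹ e) = rV x⁻¹ (T e))}
  mul_mem' := by
    intro x y hx hy
    obtain ⟨hx1, hx2⟩ := hx
    obtain ⟨hy1, hy2⟩ := hy
    refine ⟨fun e he => ?_, fun e he => ?_⟩
    · have h1 := hy1 e he
      have h2 := hx1 _ h1.1
      rw [UFrob.rep_mul_apply, UFrob.rep_mul_apply]
      exact ⟨h2.1, by rw [h2.2, h1.2]⟩
    · have h1 := hx2 e he
      have h2 := hy2 _ h1.1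
      rw [_root_.mul_inv_rev, UFrob.rep_mul_apply, UFrob.rep_mul_apply]
      exact ⟨h2.1, by rw [h2.2, h1.2]⟩
  one_mem' := by
    refine ⟨fun e he => ?_, fun e he => ?_⟩
    · rw [map_one, map_one, Module.End.one_apply, Module.End.one_apply]
      exact ⟨he, rfl⟩
    · rw [inv_one, map_one, map_one, Module.End.one_apply, Module.End.one_apply]
      exact ⟨he, rfl⟩
  inv_mem' := by
    intro x hx
    obtain ⟨hx1, hx2⟩ := hx
    refine ⟨hx2, ?_⟩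
    intro e he
    rw [inv_inv]
    exact hx1 e he

theorem mem_eqvSub (E : Submodule ℂ W) (T : W →ₗ[ℂ] V) (x : G) :
    x ∈ eqvSub rW rV E T ↔ (∀ e ∈ E, rW x e ∈ E ∧ T (rW x e) = rV x (T e)) ∧
      (∀ e ∈ E, rW x⁻¹ e ∈ E ∧ T (rW x⁻¹ e) = rV x⁻¹ (T e)) := Iff.rfl

end eqv

/-! ### `Q`-eigenvectors and the `U1`-eigenspaces -/

section conc

variable {F : Type*} [Field F] [Fintype F] {m : ℕ} [Fintype (Symm (m + 1) F)]
  {M : Type*} [AddCommGroup M] [Module ℂ M] [FiniteDimensional ℂ M]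
  (χ : AddChar F ℂ) (Φ : Symm (m + 1) F ≃ AddChar (Symm (m + 1) F) ℂ)
  (hΦ : ∀ Y X : Symm (m + 1) F, Φ Y X =
    χ (Matrix.trace ((X : Matrix (Fin (m + 1)) (Fin (m + 1)) F) * (Y : Matrix (Fin (m + 1)) (Fin (m + 1)) F))))
  (ρ : Sp (m + 1) F →* Module.End ℂ M)

include hΦ in
/-- a `Q`-eigenvector for `Y` lies in the `U1`-eigenspace for `Y_**` -/
theorem IsEig.mem_eigU1 {Y : Symm (m + 1) F} {v : M} (h : IsEig Φ ρ Y v) :
    v ∈ eigU1 χ ρ ((Y : Matrix (Fin (m + 1)) (Fin (m + 1)) F) (Fin.last m) (Fin.last m)) := by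
  intro c
  rw [h (symE (Fin.last m) c), Phi_symE χ Φ hΦ]

/-- different characters: the projection kills the eigenvector -/
theorem IsEig.PY_eq_zero {Y Y' : Symm (m + 1) F} {v : M} (h : IsEig Φ ρ Y' v) (hne : Y ≠ Y') :
    PY Φ ρ Y v = 0 := by
  rw [← h.PY_eq Φ ρ, ← Module.End.mul_apply,
    RepChar.proj_mul_proj_of_ne ρ tEl tEl_add (fun h' => hne (Φ.injective h')),
    LinearMap.zero_apply]

theorem Y0_last_last (a : F) :
    ((Y0 m a : Symm (m + 1) F) : Matrix (Fin (m + 1)) (Fin (m + 1)) F) (Fin.last m) (Fin.last m) = a := by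
  rw [Y0_apply, if_pos ⟨rfl, rfl⟩]

include hΦ in
/-- the `R1`-translates of a `Y0 a`-eigenvector -/
theorem IsEig.map_r1El {a : F} {v : M} (h : IsEig Φ ρ (Y0 m a) v) (u : Fin m → F) :
    IsEig Φ ρ (cact (gR u)⁻¹ (Y0 m a)) (ρ (r1El u) v) := by
  rw [r1El_eq]
  exact h.map_lEl χ Φ hΦ ρ (gR u)

theorem r1El_comm_U1' (u : Fin m → F) :
    ∀ k ∈ U1 m F, (r1El u : Sp (m + 1) F) * k = k * r1El u := by
  intro k hk
  obtain ⟨c, rfl⟩ := mem_U1.1 hk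
  exact r1El_comm_U1 u c

theorem tEl_comm_U1' (X : Symm (m + 1) F) :
    ∀ k ∈ U1 m F, (tEl X : Sp (m + 1) F) * k = k * tEl X := by
  intro k hk
  obtain ⟨c, rfl⟩ := mem_U1.1 hk
  rw [← tEl_add, ← tEl_add, add_comm X]

theorem Ss_comm_U1' {s : Sp (m + 1) F} (hs : s ∈ Ss m F) :
    ∀ k ∈ U1 m F, s * k = k * s :=
  fun k hk => Ss_comm_K1 hs (U1_le_K1 hk)

include hΦ in
/-- `W_(a)` is spanned by the `R1`-translates of `w0` -/
theorem eigU1_eq_spanL (hR : R1 Φ ρ)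
    (hw2 : ∀ Y, finrank ℂ (LinearMap.range (PY Φ ρ Y)) ≤ 1)
    {a : F} (ha : a ≠ 0) {v0 : M} (hv0 : v0 ≠ 0) (h0 : IsEig Φ ρ (Y0 m a) v0) :
    eigU1 χ ρ a = UFrob.spanL ρ (r1Hom m F) v0 := by
  apply le_antisymm
  · intro w hw
    rw [← sum_PY_apply Φ ρ w]
    refine Submodule.sum_mem _ (fun Y _ => ?_)
    by_cases hY : PY Φ ρ Y w = 0
    · rw [hY]
      exact Submodule.zero_mem _
    · have hYa := star_eq_of_mem_eigU1 χ Φ hΦ ρ a w hw Y hY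
      have hPY : PY Φ ρ Y ≠ 0 := fun h => hY (by rw [h, LinearMap.zero_apply])
      obtain ⟨u, hu⟩ := exists_gR_of_rank_one ha Y (hR Y hPY) hYa
      have h1 : IsEig Φ ρ Y (ρ (r1El u) v0) := by
        rw [hu]
        exact h0.map_r1El χ Φ hΦ ρ u
      have h2 : ρ (r1El u) v0 ≠ 0 := UFrob.rep_ne_zero ρ _ hv0
      obtain ⟨c, hc⟩ := h1.exists_smul Φ ρ (hw2 Y) (isEig_PY Φ ρ Y w) h2
      rw [hc]
      exact Submodule.smul_mem _ _ (UFrob.mem_spanL ρ (r1Hom m F) v0 (Multiplicative.ofAdd u))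
  · unfold UFrob.spanL
    rw [Submodule.span_le]
    rintro _ ⟨u, rfl⟩
    have h1 : v0 ∈ eigU1 χ ρ a := by
      have := h0.mem_eigU1 χ Φ hΦ ρ
      rwa [Y0_last_last] at this
    exact eigU1_invariant χ ρ a _ (r1El_comm_U1' (Multiplicative.toAdd u)) v0 h1

/-- the span of the `Q`-eigenvectors with `Y_** ≠ 0` -/
def Dsp : Submodule ℂ M :=
  Submodule.span ℂ {v | ∃ Y : Symm (m + 1) F,
    (Y : Matrix (Fin (m + 1)) (Fin (m + 1)) F) (Fin.last m) (Fin.last m) ≠ 0 ∧ IsEig Φ ρ Y v}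

theorem mem_Dsp_of_isEig {Y : Symm (m + 1) F} {v : M}
    (hY : (Y : Matrix (Fin (m + 1)) (Fin (m + 1)) F) (Fin.last m) (Fin.last m) ≠ 0)
    (h : IsEig Φ ρ Y v) : v ∈ Dsp Φ ρ :=
  Submodule.subset_span ⟨Y, hY, h⟩

/-- a vector whose components with `Y_** = 0` vanish lies in `D` -/
theorem mem_Dsp_of_PY (d : M)
    (hd : ∀ Y : Symm (m + 1) F,
      (Y : Matrix (Fin (m + 1)) (Fin (m + 1)) F) (Fin.last m) (Fin.last m) = 0 → PY Φ ρ Y d = 0) :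
    d ∈ Dsp Φ ρ := by
  rw [← sum_PY_apply Φ ρ d]
  refine Submodule.sum_mem _ (fun Y _ => ?_)
  by_cases hY : (Y : Matrix (Fin (m + 1)) (Fin (m + 1)) F) (Fin.last m) (Fin.last m) = 0
  · rw [hd Y hY]
    exact Submodule.zero_mem _
  · exact mem_Dsp_of_isEig Φ ρ hY (isEig_PY Φ ρ Y d)

/-- the components with `Y_** = 0` of a vector of `D` vanish -/
theorem PY_eq_zero_of_mem_Dsp {d : M} (hd : d ∈ Dsp Φ ρ) (Y : Symm (m + 1) F)
    (hY : (Y : Matrix (Fin (m + 1)) (Fin (m + 1)) F) (Fin.last m) (Fin.last m) = 0) :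
    PY Φ ρ Y d = 0 := by
  unfold Dsp at hd
  induction hd using Submodule.span_induction with
  | mem x hx =>
    obtain ⟨Y', hY', hx'⟩ := hx
    refine hx'.PY_eq_zero Φ ρ ?_
    rintro rfl
    exact hY' hY
  | zero => rw [map_zero]
  | add x y _ _ hx hy => rw [map_add, hx, hy, add_zero]
  | smul c x _ hx => rw [map_smul, hx, smul_zero]

end conc

/-! ### Steps 1 and 2 -/

section steps

variable {F : Type*} [Field F] [Fintype F] {m : ℕ} [Fintype (Symm (m + 1) F)]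
  {W : Type*} [AddCommGroup W] [Module ℂ W] [FiniteDimensional ℂ W]
  {V : Type*} [AddCommGroup V] [Module ℂ V] [FiniteDimensional ℂ V]
  (χ : AddChar F ℂ) (Φ : Symm (m + 1) F ≃ AddChar (Symm (m + 1) F) ℂ)
  (hΦ : ∀ Y X : Symm (m + 1) F, Φ Y X =
    χ (Matrix.trace ((X : Matrix (Fin (m + 1)) (Fin (m + 1)) F) * (Y : Matrix (Fin (m + 1)) (Fin (m + 1)) F))))
  (rW : Sp (m + 1) F →* Module.End ℂ W) (rV : Sp (m + 1) F →* Module.End ℂ V)

include hΦ in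
/-- the stabiliser condition: `Φ Y ∘ sact g = Φ Y` means `gᵀ Y g = Y` -/
theorem cact_eq_of_Phi (g : GL (Fin (m + 1)) F) (Y : Symm (m + 1) F)
    (h : ∀ X, Φ Y (sact g X) = Φ Y X) : cact g Y = Y := by
  apply Φ.injective
  apply DFunLike.ext
  intro X
  rw [Phi_cact χ Φ hΦ, h]

theorem gR_add (u v : Fin m → F) : (gR (u + v) : GL (Fin (m + 1)) F) = gR u * gR v :=
  glTv_estar_add u v

/-- the span `E` of the Levi translates of `w0` -/
noncomputable abbrev Esp (w0 : W) : Submodule ℂ W :=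
  UFrob.spanL rW (lHom (m + 1) : GL (Fin (m + 1)) F →* Sp (m + 1) F) w0

include hΦ in
/-- **Step 1**: the map `φ0 : W_(a) → V_(a)`, `R1`-translates of `w0` to those of `m0`, is `S`-linear. -/
theorem exists_phi0 (h2 : (2 : F) ≠ 0) (hW1 : R1 Φ rW) (hV1 : R1 Φ rV)
    (hw2 : ∀ Y, finrank ℂ (LinearMap.range (PY Φ rW Y)) ≤ 1)
    {a : F} (ha : a ≠ 0) {w0 : W} {m0 : V} (hw0 : w0 ≠ 0)
    (hw0Y : IsEig Φ rW (Y0 m a) w0) (hm0Y : IsEig Φ rV (Y0 m a) m0) :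
    ∃ φ : W →ₗ[ℂ] V, φ w0 = m0 ∧
      (∀ u : Fin m → F, φ (rW (r1El u) w0) = rV (r1El u) m0) ∧
      (∀ s ∈ Ss m F, ∀ w ∈ eigU1 χ rW a, φ (rW s w) = rV s (φ w)) := by
  have hWA := eigU1_eq_spanL χ Φ hΦ rW hW1 hw2 ha hw0 hw0Y
  have hactmul : ∀ (u v : Multiplicative (Fin m → F)) (X : Symm (m + 1) F),
      sactEquiv (gR (Multiplicative.toAdd (u * v))) X =
        sactEquiv (gR (Multiplicative.toAdd u)) (sactEquiv (gR (Multiplicative.toAdd v)) X) := by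
    intro u v X
    show sact (gR (Multiplicative.toAdd u + Multiplicative.toAdd v)) X =
      sact (gR (Multiplicative.toAdd u)) (sact (gR (Multiplicative.toAdd v)) X)
    rw [← sact_mul, gR_add]
  have hstab : ∀ u : Multiplicative (Fin m → F),
      (∀ X, Φ (Y0 m a) (sactEquiv (gR (Multiplicative.toAdd u)) X) = Φ (Y0 m a) X) →
      ∃ c : ℂ, rW (r1Hom m F u) w0 = c • w0 ∧ rV (r1Hom m F u) m0 = c • m0 := by
    intro u hu
    have h1 : cact (gR (Multiplicative.toAdd u)) (Y0 m a) = Y0 m a :=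
      cact_eq_of_Phi χ Φ hΦ _ _ hu
    have h3 := gR_stab_trivial ha _ h1
    have h4 : u = 1 := Multiplicative.toAdd.injective (by rw [h3, toAdd_one])
    subst h4
    refine ⟨1, ?_, ?_⟩ <;> rw [map_one, map_one, Module.End.one_apply, one_smul]
  obtain ⟨φ, h1, h2', h3, -, h5, h6⟩ := UFrob.exists_map rW rV tEl (r1Hom m F)
    (fun u => sactEquiv (gR (Multiplicative.toAdd u)))
    (fun u X => Cfsg.Agent.Lib.H8.TZ.lEl_conj_tEl (gR (Multiplicative.toAdd u)) X)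
    hactmul (Φ (Y0 m a)) w0 m0 hw0 hw0Y hm0Y hstab
  have hφ0 : φ w0 = m0 := by
    have := h1 1
    rwa [map_one, map_one, map_one, Module.End.one_apply, Module.End.one_apply] at this
  have hφ1 : ∀ u : Fin m → F, φ (rW (r1El u) w0) = rV (r1El u) m0 :=
    fun u => h1 (Multiplicative.ofAdd u)
  have hm0mem : m0 ∈ eigU1 χ rV a := by
    have := hm0Y.mem_eigU1 χ Φ hΦ rV
    rwa [Y0_last_last] at this
  have hφVA : ∀ w ∈ eigU1 χ rW a, φ w ∈ eigU1 χ rV a := by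
    intro w hw
    rw [hWA] at hw
    unfold UFrob.spanL at hw
    induction hw using Submodule.span_induction with
    | mem x hx =>
      obtain ⟨u, rfl⟩ := hx
      show φ (rW (r1El (Multiplicative.toAdd u)) w0) ∈ _
      rw [hφ1]
      exact eigU1_invariant χ rV a _ (r1El_comm_U1' (Multiplicative.toAdd u)) m0 hm0mem
    | zero => rw [map_zero]; exact Submodule.zero_mem _
    | add x y _ _ hx hy => rw [map_add]; exact Submodule.add_mem _ hx hy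
    | smul c x _ hx => rw [map_smul]; exact Submodule.smul_mem _ c hx
  have hφH : ∀ h ∈ (Hs m F : Set (Sp (m + 1) F)), ∀ w ∈ eigU1 χ rW a,
      φ (rW h w) = rV h (φ w) := by
    intro h hh w hw
    obtain ⟨x, hx, r, hr, rfl⟩ := mem_Hs_iff_mul.1 hh
    obtain ⟨X, -, rfl⟩ := mem_As.1 hx
    obtain ⟨u, rfl⟩ := mem_R1.1 hr
    rw [hWA] at hw
    have h7 : rW (r1El u) w ∈ UFrob.spanL rW (r1Hom m F) w0 := h5 (Multiplicative.ofAdd u) w hw
    have h8 : φ (rW (r1El u) w) = rV (r1El u) (φ w) := h2' (Multiplicative.ofAdd u) w hw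
    rw [UFrob.rep_mul_apply, UFrob.rep_mul_apply, h3 X _ h7, h8]
  have hWS : ∀ s ∈ Ss m F, ∀ w ∈ eigU1 χ rW a, rW s w ∈ eigU1 χ rW a :=
    fun s hs w hw => eigU1_invariant χ rW a s (Ss_comm_U1' hs) w hw
  have hVS : ∀ s ∈ Ss m F, ∀ x ∈ eigU1 χ rV a, rV s x ∈ eigU1 χ rV a :=
    fun s hs w hw => eigU1_invariant χ rV a s (Ss_comm_U1' hs) w hw
  have hS := UFrob.rigid rW rV (Ss m F) (Qpp m F : Set (Sp (m + 1) F)) (Hs m F : Set (Sp (m + 1) F))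
    (fun s hs => (Ss_eq_closure_conj_Qpp (m := m) (F := F)).le hs) Qpp_le_Ss
    (fun s hs h hh => Ss_normalizes_Hs hs hh)
    (eigU1 χ rW a) (eigU1 χ rV a) hWS hVS
    (fun ψ _ hψH => step1_hQ' χ Φ hΦ rV rW h2 hW1 hV1 a ha ψ hψH)
    φ hφVA hφH
  exact ⟨φ, hφ0, hφ1, hS⟩

include hΦ in
/-- every `Q`-eigenvector of `W` with `Y ≠ 0` lies in `E` -/
theorem isEig_mem_Esp (hw2 : ∀ Y, finrank ℂ (LinearMap.range (PY Φ rW Y)) ≤ 1)
    (hw3 : ∀ Y Y' : Symm (m + 1) F, Y ≠ 0 → Y' ≠ 0 → PY Φ rW Y ≠ 0 → PY Φ rW Y' ≠ 0 → Y' ∈ orbS Y)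
    {a : F} (ha : a ≠ 0) {w0 : W} (hw0 : w0 ≠ 0) (hw0Y : IsEig Φ rW (Y0 m a) w0)
    {Y : Symm (m + 1) F} (hY : Y ≠ 0) {v : W} (hv : IsEig Φ rW Y v) : v ∈ Esp rW w0 := by
  by_cases hv0 : v = 0
  · rw [hv0]
    exact Submodule.zero_mem _
  · have h1 : PY Φ rW Y ≠ 0 := hv.PY_ne_zero Φ rW hv0
    have h2 : PY Φ rW (Y0 m a) ≠ 0 := hw0Y.PY_ne_zero Φ rW hw0
    have h3 := hw3 (Y0 m a) Y (Y0_ne_zero ha) hY h2 h1
    obtain ⟨g, rfl⟩ := (mem_orbS _ _).1 h3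
    have h4 : IsEig Φ rW (cact g (Y0 m a)) (rW (lEl g⁻¹) w0) := hw0Y.map_lEl_inv χ Φ hΦ rW g
    have h5 : rW (lEl g⁻¹) w0 ≠ 0 := UFrob.rep_ne_zero rW _ hw0
    obtain ⟨c, hc⟩ := h4.exists_smul Φ rW (hw2 _) hv h5
    rw [hc]
    exact Submodule.smul_mem _ _ (UFrob.mem_spanL rW (lHom (m + 1)) w0 g⁻¹)

include hΦ in
/-- `E` is the kernel of the projection onto the `Q`-fixed vectors -/
theorem mem_Esp_iff (hw2 : ∀ Y, finrank ℂ (LinearMap.range (PY Φ rW Y)) ≤ 1)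
    (hw3 : ∀ Y Y' : Symm (m + 1) F, Y ≠ 0 → Y' ≠ 0 → PY Φ rW Y ≠ 0 → PY Φ rW Y' ≠ 0 → Y' ∈ orbS Y)
    {a : F} (ha : a ≠ 0) {w0 : W} (hw0 : w0 ≠ 0) (hw0Y : IsEig Φ rW (Y0 m a) w0) (e : W) :
    e ∈ Esp rW w0 ↔ PY Φ rW 0 e = 0 := by
  constructor
  · intro he
    unfold Esp UFrob.spanL at he
    induction he using Submodule.span_induction with
    | mem x hx =>
      obtain ⟨g, rfl⟩ := hx
      have h1 : IsEig Φ rW (cact g⁻¹ (Y0 m a)) (rW (lEl g) w0) := hw0Y.map_lEl χ Φ hΦ rW g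
      refine h1.PY_eq_zero Φ rW ?_
      intro h0
      exact Y0_ne_zero ha ((cact_eq_zero_iff _ _).1 h0.symm)
    | zero => rw [map_zero]
    | add x y _ _ hx hy => rw [map_add, hx, hy, add_zero]
    | smul c x _ hx => rw [map_smul, hx, smul_zero]
  · intro he
    rw [← sum_PY_apply Φ rW e]
    refine Submodule.sum_mem _ (fun Y _ => ?_)
    by_cases hY : Y = 0
    · rw [hY, he]
      exact Submodule.zero_mem _
    · exact isEig_mem_Esp χ Φ hΦ rW hw2 hw3 ha hw0 hw0Y hY (isEig_PY Φ rW Y e)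

include hΦ in
/-- `D ≤ E` -/
theorem Dsp_le_Esp (hw2 : ∀ Y, finrank ℂ (LinearMap.range (PY Φ rW Y)) ≤ 1)
    (hw3 : ∀ Y Y' : Symm (m + 1) F, Y ≠ 0 → Y' ≠ 0 → PY Φ rW Y ≠ 0 → PY Φ rW Y' ≠ 0 → Y' ∈ orbS Y)
    {a : F} (ha : a ≠ 0) {w0 : W} (hw0 : w0 ≠ 0) (hw0Y : IsEig Φ rW (Y0 m a) w0) :
    Dsp Φ rW ≤ Esp rW w0 := by
  unfold Dsp
  rw [Submodule.span_le]
  rintro v ⟨Y, hYs, hv⟩
  refine isEig_mem_Esp χ Φ hΦ rW hw2 hw3 ha hw0 hw0Y ?_ hv
  rintro rfl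
  exact hYs (by simp)

include hΦ in
/-- **Steps 1 + 2 of Theorem U**: the `P`-map `T`. -/
theorem exists_T (h2 : (2 : F) ≠ 0) (hW1 : R1 Φ rW) (hV1 : R1 Φ rV)
    (hw2 : ∀ Y, finrank ℂ (LinearMap.range (PY Φ rW Y)) ≤ 1)
    (hw3 : ∀ Y Y' : Symm (m + 1) F, Y ≠ 0 → Y' ≠ 0 → PY Φ rW Y ≠ 0 → PY Φ rW Y' ≠ 0 → Y' ∈ orbS Y)
    {a : F} (ha : a ≠ 0) {w0 : W} {m0 : V} (hw0 : w0 ≠ 0) (hm0 : m0 ≠ 0)
    (hw0Y : IsEig Φ rW (Y0 m a) w0) (hm0Y : IsEig Φ rV (Y0 m a) m0)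
    (η : ℂ) (hwη : rW (m1 m F) w0 = η • w0) (hmη : rV (m1 m F) m0 = η • m0)
    (hrmW : ∀ u : Fin m → F, rW (rmEl u) w0 = w0) (hrmV : ∀ u : Fin m → F, rV (rmEl u) m0 = m0) :
    ∃ T : W →ₗ[ℂ] V,
      (∀ g : GL (Fin (m + 1)) F, T (rW (lEl g) w0) = rV (lEl g) m0) ∧
      (∀ x ∈ Ps (m + 1) F, ∀ e ∈ Esp rW w0, rW x e ∈ Esp rW w0 ∧ T (rW x e) = rV x (T e)) ∧
      (∀ s ∈ Ss m F, ∀ d ∈ Dsp Φ rW, T (rW s d) = rV s (T d)) ∧
      (∀ e ∈ Esp rW w0, T e = 0 → e = 0) := by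
  obtain ⟨φ, hφ0, hφ1, hφS⟩ := exists_phi0 χ Φ hΦ rW rV h2 hW1 hV1 hw2 ha hw0 hw0Y hm0Y
  have hWA := eigU1_eq_spanL χ Φ hΦ rW hW1 hw2 ha hw0 hw0Y
  have hw0mem : w0 ∈ eigU1 χ rW a := by
    have := hw0Y.mem_eigU1 χ Φ hΦ rW
    rwa [Y0_last_last] at this
  have hWS : ∀ s ∈ Ss m F, ∀ w ∈ eigU1 χ rW a, rW s w ∈ eigU1 χ rW a :=
    fun s hs w hw => eigU1_invariant χ rW a s (Ss_comm_U1' hs) w hw
  -- the characters of `GL''` on `w0`, `m0`
  have hpp : ∀ h : GL (Fin m) F, ∃ c : ℂ,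
      rW (lEl (glPP h)) w0 = c • w0 ∧ rV (lEl (glPP h)) m0 = c • m0 := by
    intro h
    have h1 : IsEig Φ rW (Y0 m a) (rW (lEl (glPP h)) w0) := by
      have h3 := hw0Y.map_lEl χ Φ hΦ rW (glPP h)
      have e : (glPP h : GL (Fin (m + 1)) F)⁻¹ = glPP h⁻¹ := (map_inv glPP h).symm
      rwa [e, cact_glPP_Y0] at h3
    obtain ⟨c, hc⟩ := hw0Y.exists_smul Φ rW (hw2 _) h1 hw0
    refine ⟨c, hc, ?_⟩
    have hs : lEl (glPP h) ∈ Ss m F := GLpp_le_Ss (mem_GLpp.2 ⟨h, rfl⟩)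
    have h4 := hφS _ hs w0 hw0mem
    rw [hc, map_smul, hφ0] at h4
    exact h4.symm
  -- the stabiliser of `Y0 a` in `GL_n`
  have hstab : ∀ g : GL (Fin (m + 1)) F,
      (∀ X, Φ (Y0 m a) (sactEquiv g X) = Φ (Y0 m a) X) →
      ∃ c : ℂ, rW ((lHom (m + 1) : GL (Fin (m + 1)) F →* Sp (m + 1) F) g) w0 = c • w0 ∧
        rV ((lHom (m + 1) : GL (Fin (m + 1)) F →* Sp (m + 1) F) g) m0 = c • m0 := by
    intro g hg
    have h1 : cact g (Y0 m a) = Y0 m a := cact_eq_of_Phi χ Φ hΦ g _ hg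
    have h3 : symAct g (symE (Fin.last m) a) = symE (Fin.last m) a := by
      rw [symAct_eq_iff]
      have h4 := congrArg Subtype.val h1
      rw [cact_val] at h4
      exact h4.symm
    obtain ⟨u, h, hh | hh⟩ := lEl_stab_Y0 ha g h3
    · obtain ⟨c, hc1, hc2⟩ := hpp h
      refine ⟨c, ?_, ?_⟩
      · show rW (lEl g) w0 = c • w0
        rw [hh, UFrob.rep_mul_apply, hc1, map_smul, hrmW]
      · show rV (lEl g) m0 = c • m0
        rw [hh, UFrob.rep_mul_apply, hc2, map_smul, hrmV]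
    · obtain ⟨c, hc1, hc2⟩ := hpp h
      refine ⟨c * η, ?_, ?_⟩
      · show rW (lEl g) w0 = (c * η) • w0
        rw [hh, UFrob.rep_mul_apply, hc1, map_smul, UFrob.rep_mul_apply, hrmW, hwη, smul_smul]
      · show rV (lEl g) m0 = (c * η) • m0
        rw [hh, UFrob.rep_mul_apply, hc2, map_smul, UFrob.rep_mul_apply, hrmV, hmη, smul_smul]
  obtain ⟨T, hT1, hT2, hT3, hT4, hT5, hT6⟩ := UFrob.exists_map rW rV tEl
    (lHom (m + 1) : GL (Fin (m + 1)) F →* Sp (m + 1) F)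
    (fun g => sactEquiv g) (fun g X => Cfsg.Agent.Lib.H8.TZ.lEl_conj_tEl g X)
    (fun g h X => sact_mul g h X) (Φ (Y0 m a)) w0 m0 hw0 hw0Y hm0Y hstab
  -- `T = φ` on `W_(a)`
  have hTφ : ∀ w ∈ eigU1 χ rW a, T w = φ w := by
    intro w hw
    rw [hWA] at hw
    unfold UFrob.spanL at hw
    induction hw using Submodule.span_induction with
    | mem x hx =>
      obtain ⟨u, rfl⟩ := hx
      show T (rW (r1El (Multiplicative.toAdd u)) w0) = φ (rW (r1El (Multiplicative.toAdd u)) w0)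
      rw [hφ1, r1El_eq]
      exact hT1 (gR (Multiplicative.toAdd u))
    | zero => rw [map_zero, map_zero]
    | add x y _ _ hx hy => rw [map_add, map_add, hx, hy]
    | smul c x _ hx => rw [map_smul, map_smul, hx]
  have hWAE : ∀ w ∈ eigU1 χ rW a, w ∈ Esp rW w0 := by
    intro w hw
    rw [hWA] at hw
    unfold UFrob.spanL at hw
    unfold Esp UFrob.spanL
    refine Submodule.span_mono ?_ hw
    rintro _ ⟨u, rfl⟩
    exact ⟨gR (Multiplicative.toAdd u), rfl⟩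
  have hTS : ∀ s ∈ Ss m F, ∀ w ∈ eigU1 χ rW a, T (rW s w) = rV s (T w) := by
    intro s hs w hw
    rw [hTφ _ (hWS s hs w hw), hTφ w hw]
    exact hφS s hs w hw
  -- `P`-equivariance on `E`
  have hPs : Ps (m + 1) F ≤ eqvSub rW rV (Esp rW w0) T := by
    show Qs (m + 1) F ⊔ Ls (m + 1) F ≤ _
    apply sup_le
    · intro x hx
      obtain ⟨X, rfl⟩ := mem_Qs.1 hx
      rw [mem_eqvSub]
      refine ⟨fun e he => ⟨hT6 X e he, hT3 X e he⟩, fun e he => ?_⟩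
      rw [tEl_inv]
      exact ⟨hT6 _ e he, hT3 _ e he⟩
    · intro x hx
      obtain ⟨g, rfl⟩ := mem_Ls.1 hx
      rw [mem_eqvSub]
      refine ⟨fun e he => ⟨hT5 g e he, hT2 g e he⟩, fun e he => ?_⟩
      rw [← Cfsg.Agent.Lib.H8.TZ.lEl_inv]
      exact ⟨hT5 _ e he, hT2 _ e he⟩
  refine ⟨T, hT1, fun x hx e he => ((mem_eqvSub rW rV _ T x).1 (hPs hx)).1 e he, ?_, hT4 hm0⟩
  -- (T-b)
  intro s hs d hd
  unfold Dsp at hd
  induction hd using Submodule.span_induction with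
  | mem v hv =>
    obtain ⟨Y, hYs, hvY⟩ := hv
    by_cases hv0 : v = 0
    · rw [hv0, map_zero, map_zero, map_zero]
    · have hY0 : Y ≠ 0 := by
        rintro rfl
        exact hYs (by simp)
      have h1 : PY Φ rW Y ≠ 0 := hvY.PY_ne_zero Φ rW hv0
      have h3 : PY Φ rW (Y0 m a) ≠ 0 := hw0Y.PY_ne_zero Φ rW hw0
      obtain ⟨g, hg⟩ := (mem_orbS _ _).1 (hw3 (Y0 m a) Y (Y0_ne_zero ha) hY0 h3 h1)
      have hYτ : (Y : Matrix (Fin (m + 1)) (Fin (m + 1)) F) (Fin.last m) (Fin.last m) =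
          g.1 (Fin.last m) (Fin.last m) * a * g.1 (Fin.last m) (Fin.last m) := by
        rw [hg]
        exact cact_Y0_last g a
      generalize g.1 (Fin.last m) (Fin.last m) = τ at hYτ
      have hτ0 : τ ≠ 0 := by
        intro h0
        apply hYs
        rw [hYτ, h0, zero_mul, zero_mul]
      have htT1 : lEl (glT1 (m := m) (Units.mk0 τ hτ0)) ∈ T1 m F := mem_T1.2 ⟨_, rfl⟩
      generalize ht : (lEl (glT1 (m := m) (Units.mk0 τ hτ0)) : Sp (m + 1) F) = t at htT1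
      have hv' : IsEig Φ rW (cact (glT1 (m := m) (Units.mk0 τ hτ0))⁻¹ Y) (rW t v) := by
        rw [← ht]
        exact hvY.map_lEl χ Φ hΦ rW _
      have hv'mem : rW t v ∈ eigU1 χ rW a := by
        have h4 := hv'.mem_eigU1 χ Φ hΦ rW
        have h5 : ((cact (glT1 (m := m) (Units.mk0 τ hτ0))⁻¹ Y : Symm (m + 1) F) :
            Matrix (Fin (m + 1)) (Fin (m + 1)) F) (Fin.last m) (Fin.last m) = a := by
          have e : (glT1 (m := m) (Units.mk0 τ hτ0) : GL (Fin (m + 1)) F)⁻¹ =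
              glT1 (Units.mk0 τ hτ0)⁻¹ := (map_inv glT1 _).symm
          rw [e, cact_glT1_last, hYτ]
          simp only [Units.val_inv_eq_inv_val, Units.val_mk0]
          field_simp
        rwa [h5] at h4
      have htinv : t⁻¹ = lEl (glT1 (m := m) (Units.mk0 τ hτ0))⁻¹ := by
        rw [← ht, Cfsg.Agent.Lib.H8.TZ.lEl_inv]
      have hst : s * t⁻¹ = t⁻¹ * s := Ss_comm_T1 hs ((T1 m F).inv_mem htT1)
      have hvt : rW t⁻¹ (rW t v) = v := UFrob.rep_inv_apply rW t v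
      have hL : ∀ e ∈ Esp rW w0, T (rW t⁻¹ e) = rV t⁻¹ (T e) := by
        intro e he
        rw [htinv]
        exact hT2 _ e he
      calc T (rW s v) = T (rW s (rW t⁻¹ (rW t v))) := by rw [hvt]
        _ = T (rW t⁻¹ (rW s (rW t v))) := by
            rw [← UFrob.rep_mul_apply, hst, UFrob.rep_mul_apply]
        _ = rV t⁻¹ (T (rW s (rW t v))) := hL _ (hWAE _ (hWS s hs _ hv'mem))
        _ = rV t⁻¹ (rV s (T (rW t v))) := by rw [hTS s hs _ hv'mem]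
        _ = rV s (rV t⁻¹ (T (rW t v))) := by
            rw [← UFrob.rep_mul_apply, ← hst, UFrob.rep_mul_apply]
        _ = rV s (T (rW t⁻¹ (rW t v))) := by rw [hL _ (hWAE _ hv'mem)]
        _ = rV s (T v) := by rw [hvt]
  | zero => simp only [map_zero]
  | add x y _ _ hx hy => simp only [map_add, hx, hy]
  | smul c x _ hx => simp only [map_smul, hx]

end steps

end Cfsg.Agent.Lib.H18.UStep12
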