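/-
S2524 (route U): **Theorem U** in the shape of helper8's interface stub (tools/pending/S2524/TZU.lean),
assembled from `UStep12.exists_T` (Steps 1 + 2, the `P`-map `T`), helper20's `H20.ThmU.thmU_of_T` (Steps 3, 4, 5),
helper23's `rm_fix` (r3) and helper8's conversions `Y0_last_eq`, `lEl_m1g_last_eq`.
-/
import Cfsg.Agent.Lib.H18.UStep12
import Cfsg.Agent.Lib.H20.ThmU
import Cfsg.Agent.Lib.H23.S2524R3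
import Cfsg.Agent.Lib.H8.TZNormal

set_option autoImplicit false
set_option linter.unusedSectionVars false
set_option linter.unusedVariables false

namespace Cfsg.Agent.Lib.H18.UThm

open Matrix Module Cfsg.Agent.Lib.H12.LS2 Cfsg.Agent.Lib.H5.LS2 Cfsg.Agent.Lib.H20.Weil
  Cfsg.Agent.Lib.H4

variable {F : Type*} [Field F] [Fintype F]

/-- **Theorem U** (uniqueness of the module with given `Q`-support data). -/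
theorem thmU {m : ℕ} (hm : 1 ≤ m) (h2 : (2 : F) ≠ 0) [Fintype (Symm (m + 1) F)]
    (χ : AddChar F ℂ) (Φ : Symm (m + 1) F ≃ AddChar (Symm (m + 1) F) ℂ)
    (hΦ : ∀ Y X : Symm (m + 1) F, Φ Y X =
      χ (Matrix.trace ((X : Matrix (Fin (m + 1)) (Fin (m + 1)) F) * (Y : Matrix (Fin (m + 1)) (Fin (m + 1)) F))))
    {W V : Type*} [AddCommGroup W] [Module ℂ W] [FiniteDimensional ℂ W]
    [AddCommGroup V] [Module ℂ V] [FiniteDimensional ℂ V]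
    (ρW : Matrix.symplecticGroup (Fin (m + 1)) F →* Module.End ℂ W)
    (ρV : Matrix.symplecticGroup (Fin (m + 1)) F →* Module.End ℂ V)
    (hW1 : Cfsg.Agent.Lib.H8.TZ.R1 Φ ρW) (hV1 : Cfsg.Agent.Lib.H8.TZ.R1 Φ ρV)
    (hWirr : ∀ U : Submodule ℂ W, (∀ g, ∀ w ∈ U, ρW g w ∈ U) → U = ⊥ ∨ U = ⊤)
    (hw2 : ∀ Y : Symm (m + 1) F, finrank ℂ (LinearMap.range (Cfsg.Agent.Lib.H8.TZ.PY Φ ρW Y)) ≤ 1)
    (hw3 : ∀ Y Y' : Symm (m + 1) F, Y ≠ 0 → Y' ≠ 0 → Cfsg.Agent.Lib.H8.TZ.PY Φ ρW Y ≠ 0 →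
      Cfsg.Agent.Lib.H8.TZ.PY Φ ρW Y' ≠ 0 → Y' ∈ Cfsg.Agent.Lib.H8.TZ.orbS Y)
    (hv1 : ∀ v : V, (∀ g, ρV g v = v) → v = 0)
    (a : F) (ha : a ≠ 0) (w0 : W) (m0 : V) (hw0 : w0 ≠ 0) (hm0 : m0 ≠ 0)
    (hw0Y : ∀ X, ρW (tEl X) w0 = Φ (Cfsg.Agent.Lib.H8.TZ.Y0 (Fin.last m) a) X • w0)
    (hm0Y : ∀ X, ρV (tEl X) m0 = Φ (Cfsg.Agent.Lib.H8.TZ.Y0 (Fin.last m) a) X • m0)
    (η : ℂ) (hwη : ρW (lEl (Cfsg.Agent.Lib.H8.TZ.m1g (Fin.last m))) w0 = η • w0)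
    (hmη : ρV (lEl (Cfsg.Agent.Lib.H8.TZ.m1g (Fin.last m))) m0 = η • m0) :
    ∃ Θ : W →ₗ[ℂ] V, Θ ≠ 0 ∧ ∀ g, Θ ∘ₗ ρW g = ρV g ∘ₗ Θ := by
  have hχ : χ ≠ 1 := Cfsg.Agent.Lib.H25.SpR.chi_ne_one χ Φ hΦ (Fin.last m)
  have hw0Y' : UStep12.IsEig Φ ρW (UStep12.Y0 m a) w0 := by
    intro X
    have h := hw0Y X
    rwa [Cfsg.Agent.Lib.H8.TZ.Y0_last_eq] at h
  have hm0Y' : UStep12.IsEig Φ ρV (UStep12.Y0 m a) m0 := by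
    intro X
    have h := hm0Y X
    rwa [Cfsg.Agent.Lib.H8.TZ.Y0_last_eq] at h
  have hwη' : ρW (Cfsg.Agent.Lib.H11.SpU.m1 m F) w0 = η • w0 := by
    rw [← Cfsg.Agent.Lib.H8.TZ.lEl_m1g_last_eq]
    exact hwη
  have hmη' : ρV (Cfsg.Agent.Lib.H11.SpU.m1 m F) m0 = η • m0 := by
    rw [← Cfsg.Agent.Lib.H8.TZ.lEl_m1g_last_eq]
    exact hmη
  have hrmW : ∀ u : Fin m → F, ρW (Cfsg.Agent.Lib.H11.SpU.rmEl u) w0 = w0 :=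
    fun u => Cfsg.Agent.Lib.H23.SpR3.rm_fix χ Φ hΦ ρW hχ hW1 a w0 hw0Y u
  have hrmV : ∀ u : Fin m → F, ρV (Cfsg.Agent.Lib.H11.SpU.rmEl u) m0 = m0 :=
    fun u => Cfsg.Agent.Lib.H23.SpR3.rm_fix χ Φ hΦ ρV hχ hV1 a m0 hm0Y u
  obtain ⟨T, hT1, hT2, hT3, hT4⟩ := UStep12.exists_T χ Φ hΦ ρW ρV h2 hW1 hV1 hw2 hw3 ha hw0 hm0
    hw0Y' hm0Y' η hwη' hmη' hrmW hrmV
  have hE : ∀ e : W, e ∈ LinearMap.ker (Cfsg.Agent.Lib.H8.TZ.PY Φ ρW 0) ↔ e ∈ UStep12.Esp ρW w0 := by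
    intro e
    rw [LinearMap.mem_ker]
    exact (UStep12.mem_Esp_iff χ Φ hΦ ρW hw2 hw3 ha hw0 hw0Y' e).symm
  have hw0E : w0 ∈ LinearMap.ker (Cfsg.Agent.Lib.H8.TZ.PY Φ ρW 0) :=
    (hE w0).2 (UFrob.self_mem_spanL ρW _ w0)
  have hE0 : LinearMap.ker (Cfsg.Agent.Lib.H8.TZ.PY Φ ρW 0) ≠ ⊥ := by
    intro h
    rw [h, Submodule.mem_bot] at hw0E
    exact hw0 hw0E
  have hTa : ∀ x ∈ Cfsg.Agent.Lib.H11.SpU.Ps (m + 1) F,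
      ∀ e ∈ LinearMap.ker (Cfsg.Agent.Lib.H8.TZ.PY Φ ρW 0), T (ρW x e) = ρV x (T e) :=
    fun x hx e he => (hT2 x hx e ((hE e).1 he)).2
  have hTb : ∀ s ∈ Cfsg.Agent.Lib.H11.SpU.Ss m F, ∀ d : W,
      Cfsg.Agent.Lib.H20.UConc.pU Φ ρW 0 d = 0 → T (ρW s d) = ρV s (T d) := by
    intro s hs d hd
    refine hT3 s hs d ?_
    have h1 := (Cfsg.Agent.Lib.H20.UConc.mem_ker_pU_zero_iff Φ ρW d).1 hd
    unfold UStep12.Dsp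
    refine Submodule.span_mono ?_ h1
    rintro v ⟨Y, hY, hv⟩
    exact ⟨Y, hY, (UStep12.isEig_iff_mem_range Φ ρW Y v).2 hv⟩
  obtain ⟨Θ, hΘ1, hΘ2⟩ := Cfsg.Agent.Lib.H20.ThmU.thmU_of_T hm χ Φ hΦ ρW ρV hW1 hV1 hWirr hw2 hw3
    hv1 hE0 T hTa hTb
  refine ⟨Θ, ?_, hΘ1⟩
  intro h0
  have h1 := hΘ2 w0 hw0E
  have h3 := hT1 1
  rw [Cfsg.Agent.Lib.H8.TZ.lEl_one, map_one, map_one, Module.End.one_apply, Module.End.one_apply] at h3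
  rw [h0, LinearMap.zero_apply, h3] at h1
  exact hm0 h1.symm

end Cfsg.Agent.Lib.H18.UThm
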