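import Mathlib

/-!
# S2244 piece SEPAR (helper18): the fundamental-root characters of the torus are pairwise not
Galois-conjugate
-/

set_option autoImplicit false

namespace Cfsg.Agent.Lib.H18.Wc

/-- **SEPAR**. -/
theorem separ {F : Type*} [Field F] [Fintype F] (l : ℕ) (A : ℕ → ℕ → ℤ) (e6 : Bool)
    (hdiag : ∀ i < l, A i i = 2)
    (hprod : ∀ i < l, ∀ j < l, i ≠ j → 0 ≤ A i j * A j i ∧ A i j * A j i ≤ 3)
    (hsmall : ∀ n : ℕ, 2 ≤ n → n ≤ 4 → (n = 2 → e6 = true) → ∀ P : ℕ, P < n → ∀ i < l, ∀ j < l, i ≠ j →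
      ∃ m < l, ¬ (n : ℤ) ∣ A m j - (P : ℤ) * A m i)
    (hq2 : Fintype.card F ≠ 2) (hq3 : Fintype.card F = 3 → e6 = true)
    (i j : ℕ) (hi : i < l) (hj : j < l) (hij : i ≠ j) (k : ℕ) :
    ∃ m < l, ∃ g : Fˣ, g ^ (A m j) ≠ (g ^ (A m i)) ^ (ringChar F ^ k) := by
  classical
  have hq1 : 2 ≤ Fintype.card F := Fintype.one_lt_card
  obtain ⟨g, hg⟩ := IsCyclic.exists_generator (α := Fˣ)
  have hord : orderOf g = Fintype.card F - 1 := by
    rw [orderOf_eq_card_of_forall_mem_zpowers hg, Nat.card_units, Nat.card_eq_fintype_card]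
  obtain ⟨n, hn⟩ : ∃ n, n = Fintype.card F - 1 := ⟨_, rfl⟩
  rw [← hn] at hord
  have hn2 : 2 ≤ n := by omega
  obtain ⟨P, hP⟩ : ∃ P, P = ringChar F ^ k := ⟨_, rfl⟩
  rw [← hP]
  by_contra hcon
  push Not at hcon
  have hdvd : ∀ m < l, (n : ℤ) ∣ A m j - (P : ℤ) * A m i := by
    intro m hm
    have h1 := hcon m hm g
    rw [← zpow_natCast, ← zpow_mul, zpow_eq_zpow_iff_modEq, hord] at h1
    have h2 := Int.modEq_iff_dvd.mp h1.symm
    rwa [mul_comm] at h2
  by_cases h5 : 5 ≤ n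
  · have h1 := hdvd i hi
    have h2 := hdvd j hj
    rw [hdiag i hi] at h1
    rw [hdiag j hj] at h2
    have h3 : (n : ℤ) ∣ A i j * A j i - 4 := by
      have h4 : A i j * A j i - 4 = A j i * (A i j - (P : ℤ) * 2) - 2 * (2 - (P : ℤ) * A j i) := by ring
      rw [h4]
      exact dvd_sub (Dvd.dvd.mul_left h1 _) (Dvd.dvd.mul_left h2 _)
    obtain ⟨hp0, hp3⟩ := hprod i hi j hj hij
    have h6 : A i j * A j i - 4 = 0 := by
      apply Int.eq_zero_of_abs_lt_dvd h3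
      rw [abs_lt]
      constructor <;> omega
    omega
  · push Not at h5
    have hn4 : n ≤ 4 := by omega
    have hne : n = 2 → e6 = true := by
      intro h
      apply hq3
      omega
    have hPn : P % n < n := Nat.mod_lt _ (by omega)
    obtain ⟨m, hm, hmd⟩ := hsmall n hn2 hn4 hne (P % n) hPn i hi j hj hij
    apply hmd
    have h1 := hdvd m hm
    have h2 : (P : ℤ) = ((P % n : ℕ) : ℤ) + (n : ℤ) * ((P / n : ℕ) : ℤ) := by
      exact_mod_cast (Nat.mod_add_div P n).symm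
    have h3 : A m j - ((P % n : ℕ) : ℤ) * A m i =
        (A m j - (P : ℤ) * A m i) + (n : ℤ) * (((P / n : ℕ) : ℤ) * A m i) := by
      rw [h2]; ring
    rw [h3]
    exact dvd_add h1 (dvd_mul_right _ _)

end Cfsg.Agent.Lib.H18.Wc
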