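import Mathlib

/-!
# S2244 piece TSEP (helper18): torus separation by a trace idempotent
-/

set_option autoImplicit false

namespace Cfsg.Agent.Lib.H18.Wc

open Finset

/-- the units of a finite field of order `p ^ e` are not killed by `2 (p ^ k - 1)` for `0 < k < e` -/
theorem tsep_no_exp {F : Type*} [Field F] [Fintype F] {p e : ℕ} (hp : 2 ≤ p)
    (hq : Fintype.card F = p ^ e) {k : ℕ} (hk0 : 0 < k) (hke : k < e)
    (h : ∀ y : Fˣ, y ^ (2 * (p ^ k - 1)) = 1) : False := by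
  have h1 : Monoid.exponent Fˣ ∣ 2 * (p ^ k - 1) := Monoid.exponent_dvd_of_forall_pow_eq_one h
  rw [IsCyclic.exponent_eq_card, Nat.card_units, Nat.card_eq_fintype_card, hq] at h1
  have hpk : 2 ≤ p ^ k := by
    calc 2 ≤ p := hp
      _ = p ^ 1 := (pow_one p).symm
      _ ≤ p ^ k := Nat.pow_le_pow_right (by omega) hk0
  have h2 : p ^ e - 1 ≤ 2 * (p ^ k - 1) := Nat.le_of_dvd (by omega) h1
  have h3 : p ^ (k + 1) ≤ p ^ e := Nat.pow_le_pow_right (by omega) hke
  have h4 : p ^ (k + 1) = p ^ k * p := pow_succ p k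
  have h5 : 2 * p ^ k ≤ p ^ k * p := by nlinarith
  omega

/-- **TSEP** (torus separation by a trace idempotent). -/
theorem tsep {F : Type*} [Field F] [Fintype F] {ι : Type*} [DecidableEq ι]
    {Θ : Type*} [CommGroup Θ] [Fintype Θ] (hΘ : ((Fintype.card Θ : ℕ) : F) ≠ 0)
    (χ : ι → Θ →* Fˣ) (A : AddSubgroup (ι → F))
    (hA : ∀ (h : Θ) (v : ι → F), v ∈ A → (fun i => ((χ i h : Fˣ) : F) * v i) ∈ A)
    (β : ι)
    (hsep : ∀ ρ, ρ ≠ β → ∀ k : ℕ, ∃ h : Θ, χ ρ h ≠ χ β h ^ (ringChar F ^ k))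
    (hsq : ∀ y : Fˣ, ∃ h : Θ, χ β h = y ^ 2)
    (v : ι → F) (hv : v ∈ A) (c : F) : Pi.single β (c * v β) ∈ A := by
  classical
  set p := ringChar F with hp
  haveI : CharP F p := ringChar.charP F
  haveI hpp : Fact p.Prime := ⟨CharP.char_is_prime F p⟩
  letI : Algebra (ZMod p) F := ZMod.algebra F p
  set e := Module.finrank (ZMod p) F with he
  have hcardK : Nat.card (ZMod p) = p := Nat.card_zmod p
  have hq : Fintype.card F = p ^ e := by
    rw [← Nat.card_eq_fintype_card, Module.natCard_eq_pow_finrank (K := ZMod p), hcardK]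
  have he0 : 0 < e := Module.finrank_pos
  set N : F := ((Fintype.card Θ : ℕ) : F) with hN
  set c' : F := c / N with hc'
  -- the integer weights
  let n : Θ → ℕ := fun h =>
    (Algebra.trace (ZMod p) F (c' * (((χ β h)⁻¹ : Fˣ) : F))).val
  have hn : ∀ h, ((n h : ℕ) : F) =
      ∑ k ∈ range e, (c' * (((χ β h)⁻¹ : Fˣ) : F)) ^ (p ^ k) := by
    intro h
    have h1 := FiniteField.algebraMap_trace_eq_sum_pow (ZMod p) F (c' * (((χ β h)⁻¹ : Fˣ) : F))
    rw [hcardK] at h1
    rw [← h1]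
    show (((Algebra.trace (ZMod p) F (c' * (((χ β h)⁻¹ : Fˣ) : F))).val : ℕ) : F) = _
    rw [← map_natCast (algebraMap (ZMod p) F), ZMod.natCast_zmod_val]
  -- the element of `A`
  set w : ι → F := ∑ h : Θ, n h • (fun i => ((χ i h : Fˣ) : F) * v i) with hw
  have hwA : w ∈ A := by
    rw [hw]
    refine AddSubgroup.sum_mem _ (fun h _ => ?_)
    exact AddSubgroup.nsmul_mem _ (hA h v hv) _
  -- the characters
  let ψ : ι → ℕ → (Θ →* F) := fun ρ k =>
    { toFun := fun h => ((χ ρ h : Fˣ) : F) * (((χ β h)⁻¹ : Fˣ) : F) ^ (p ^ k)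
      map_one' := by simp
      map_mul' := fun a b => by
        simp only [map_mul, mul_inv, Units.val_mul, mul_pow]
        ring }
  have hψ : ∀ ρ k h, ψ ρ k h = ((χ ρ h : Fˣ) : F) * (((χ β h)⁻¹ : Fˣ) : F) ^ (p ^ k) :=
    fun _ _ _ => rfl
  have hcomp : ∀ ρ, w ρ = (∑ k ∈ range e, c' ^ (p ^ k) * ∑ h : Θ, ψ ρ k h) * v ρ := by
    intro ρ
    rw [hw, Finset.sum_apply]
    simp only [Pi.smul_apply, nsmul_eq_mul, hn, hψ]
    rw [Finset.sum_mul]
    simp only [Finset.sum_mul, Finset.mul_sum]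
    rw [Finset.sum_comm]
    refine Finset.sum_congr rfl (fun k _ => Finset.sum_congr rfl (fun h _ => ?_))
    rw [mul_pow]
    ring
  -- orthogonality
  have hzero : ∀ ρ k, (∃ h, ψ ρ k h ≠ 1) → ∑ h : Θ, ψ ρ k h = 0 := by
    intro ρ k ⟨h, hh⟩
    apply sum_hom_units_eq_zero
    intro h1
    apply hh
    rw [h1]
    rfl
  have hunit : ∀ ρ k h, ψ ρ k h = 1 → χ ρ h = χ β h ^ (p ^ k) := by
    intro ρ k h h1
    rw [hψ] at h1
    have h2 : ((χ ρ h * ((χ β h)⁻¹) ^ (p ^ k) : Fˣ) : F) = 1 := by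
      rw [Units.val_mul, Units.val_pow_eq_pow_val]
      exact h1
    have h3 : χ ρ h * ((χ β h)⁻¹) ^ (p ^ k) = 1 := Units.val_eq_one.mp h2
    rw [inv_pow] at h3
    exact mul_inv_eq_one.mp h3
  -- the components of `w`
  have hw0 : ∀ ρ, ρ ≠ β → w ρ = 0 := by
    intro ρ hρ
    rw [hcomp]
    have : ∑ k ∈ range e, c' ^ (p ^ k) * ∑ h : Θ, ψ ρ k h = 0 := by
      apply Finset.sum_eq_zero
      intro k _
      obtain ⟨h, hh⟩ := hsep ρ hρ k
      rw [hzero ρ k ⟨h, fun h1 => hh (hunit ρ k h h1)⟩, mul_zero]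
    rw [this, zero_mul]
  have hwβ : w β = c * v β := by
    rw [hcomp]
    have : ∑ k ∈ range e, c' ^ (p ^ k) * ∑ h : Θ, ψ β k h = c := by
      rw [Finset.sum_eq_single 0]
      · have h0 : ∀ h : Θ, ψ β 0 h = 1 := by
          intro h
          rw [hψ, pow_zero, pow_one, ← Units.val_mul, mul_inv_cancel, Units.val_one]
        simp only [h0, Finset.sum_const, Finset.card_univ, pow_zero, pow_one, nsmul_eq_mul, mul_one]
        rw [hc', ← hN]
        field_simp
      · intro k hk hk0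
        have hke : k < e := Finset.mem_range.mp hk
        have hex : ∃ h, ψ β k h ≠ 1 := by
          by_contra hcon
          push Not at hcon
          apply tsep_no_exp (F := F) hpp.out.two_le hq (Nat.pos_of_ne_zero hk0) hke
          intro y
          obtain ⟨h, hh⟩ := hsq y
          have h1 := hunit β k h (hcon h)
          rw [hh] at h1
          -- y^2 = (y^2)^(p^k)
          have h2 : y ^ (2 * (p ^ k - 1)) * y ^ 2 = y ^ 2 := by
            rw [← pow_add]
            have hpk : 1 ≤ p ^ k := Nat.one_le_pow _ _ hpp.out.pos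
            have : 2 * (p ^ k - 1) + 2 = 2 * p ^ k := by omega
            rw [this, pow_mul]
            exact h1.symm
          exact mul_right_cancel (b := y ^ 2) (by rw [h2, one_mul])
        rw [hzero β k hex, mul_zero]
      · intro h0
        exact absurd (Finset.mem_range.mpr he0) h0
    rw [this]
  have hfin : Pi.single β (c * v β) = w := by
    funext ρ
    by_cases hρ : ρ = β
    · subst hρ
      rw [Pi.single_eq_same, hwβ]
    · rw [Pi.single_eq_of_ne hρ, hw0 ρ hρ]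
  rw [hfin]
  exact hwA

end Cfsg.Agent.Lib.H18.Wc
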