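import Cfsg.Agent.S0925
import Cfsg.Agent.Lib.H23.BlockOrth
import Cfsg.Agent.Lib.H23.BlockOsima
import Cfsg.Agent.Lib.H23.BlockPrincipal
import Cfsg.Agent.Lib.H24.CharBasic
import Cfsg.Agent.Lib.H24.CharOrth

/-!
# S1951, piece PSI (F3): the class function `Ψ = ∑_{χ ∈ B₀} χ(a) χ`

`B₀` the principal `p`-block, `a` of order `p`.
* `psi_regular`: `Ψ` vanishes at every `p`-regular element (block orthogonality, S0925 (ii));
* `sum_psi`: `∑_g Ψ(g) = |G|` (orthogonality with the trivial character);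
* `psi_norm`: if every `χ ∈ B₀` is constant `= χ(a)` on the `p`-singular elements and the number of
  `p`-singular elements times `t` is `|G|`, then `∑_{χ ∈ B₀} χ(a)² = t`;
* `psi_indicator`: then `Ψ(g) = t` on `p`-singular and `0` on `p`-regular elements;
* `psi_one`: `∑_{χ ∈ B₀} χ(a) χ(1) = 0`.
-/

set_option autoImplicit false

namespace Cfsg.Agent.Lib.H18.ZP

open Cfsg
open scoped ComplexConjugate

variable {G : Type*} [Group G] [Finite G]

theorem isPBlock_principal (M : Ideal AlgInt) : IsPBlock M (principalBlock M G) :=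
  ⟨Cfsg.Agent.Lib.H24.trivialIrr G, rfl⟩

/-- `Ψ` vanishes at the `p`-regular elements. -/
theorem psi_regular (p : ℕ) [Fact p.Prime] (M : Ideal AlgInt) (hM : IsPModular p M) (a : G)
    (ha : orderOf a = p) (g : G) (hg : ¬ p ∣ orderOf g) :
    ∑ᶠ χ ∈ principalBlock M G, (χ : G → ℂ) a * (χ : G → ℂ) g = 0 := by
  have hp : p.Prime := Fact.out
  have h := (Cfsg.Agent.S0925.result (G := G) p M hM).2 a g⁻¹ a 1
    ⟨1, mul_one a, Commute.one_right a, ⟨1, by rw [ha, pow_one]⟩, by
      rw [orderOf_one]; exact hp.one_lt.ne' ∘ Nat.dvd_one.1⟩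
    ⟨g⁻¹, one_mul _, Commute.one_left _, ⟨0, by rw [orderOf_one, pow_zero]⟩, by
      rwa [orderOf_inv]⟩
    (by
      rw [isConj_one_left]
      intro h1
      rw [h1, orderOf_one] at ha
      exact hp.one_lt.ne ha)
    (principalBlock M G) (isPBlock_principal M)
  simpa only [inv_inv] using h

/-- `∑_g Ψ(g) = |G|`. -/
theorem sum_psi [Fintype G] (p : ℕ) (M : Ideal AlgInt) (hM : IsPModular p M) (a : G) :
    ∑ g : G, ∑ᶠ χ ∈ principalBlock M G, (χ : G → ℂ) a * (χ : G → ℂ) g = (Nat.card G : ℂ) := by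
  classical
  haveI := Fintype.ofFinite (IrrCharacter G)
  haveI hPr : M.IsPrime := hM.2.1.isPrime
  simp only [Cfsg.Agent.Lib.H23.finsum_mem_eq_sum_ite]
  rw [Finset.sum_comm]
  have h1 : ∀ χ : IrrCharacter G,
      ∑ g : G, (if χ ∈ principalBlock M G then (χ : G → ℂ) a * (χ : G → ℂ) g else 0) =
        if χ = Cfsg.Agent.Lib.H24.trivialIrr G then (Nat.card G : ℂ) else 0 := by
    intro χ
    have h2 := Cfsg.Agent.Lib.H23.sum_mul_conj_irr χ (Cfsg.Agent.Lib.H24.trivialIrr G)
    simp only [Cfsg.Agent.Lib.H24.trivialIrr_apply, map_one, mul_one] at h2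
    by_cases hχ : χ = Cfsg.Agent.Lib.H24.trivialIrr G
    · rw [if_pos hχ]
      rw [if_pos hχ] at h2
      have hmem : χ ∈ principalBlock M G := by
        rw [hχ]; exact Cfsg.Agent.Lib.H23.trivialIrr_mem_principalBlock
      simp only [if_pos hmem]
      rw [← Finset.mul_sum, h2, hχ, Cfsg.Agent.Lib.H24.trivialIrr_apply, one_mul]
    · rw [if_neg hχ]
      rw [if_neg hχ] at h2
      by_cases hmem : χ ∈ principalBlock M G
      · simp only [if_pos hmem]
        rw [← Finset.mul_sum, h2, mul_zero]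
      · simp only [if_neg hmem, Finset.sum_const_zero]
  rw [Finset.sum_congr rfl fun χ _ => h1 χ]
  simp

/-- The normalisation `∑_{χ ∈ B₀} χ(a)² = t`. -/
theorem psi_norm (p : ℕ) [Fact p.Prime] (M : Ideal AlgInt) (hM : IsPModular p M) (a : G)
    (ha : orderOf a = p) (t : ℕ)
    (hconst : ∀ χ ∈ principalBlock M G, ∀ g : G, p ∣ orderOf g → (χ : G → ℂ) g = (χ : G → ℂ) a)
    (hcount : Nat.card {g : G // p ∣ orderOf g} * t = Nat.card G) :
    ∑ᶠ χ ∈ principalBlock M G, (χ : G → ℂ) a * (χ : G → ℂ) a = (t : ℂ) := by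
  classical
  haveI := Fintype.ofFinite G
  set c : ℂ := ∑ᶠ χ ∈ principalBlock M G, (χ : G → ℂ) a * (χ : G → ℂ) a with hc
  have hval : ∀ g : G, ∑ᶠ χ ∈ principalBlock M G, (χ : G → ℂ) a * (χ : G → ℂ) g =
      if p ∣ orderOf g then c else 0 := by
    intro g
    by_cases hg : p ∣ orderOf g
    · rw [if_pos hg, hc]
      refine finsum_mem_congr rfl fun χ hχ => ?_
      rw [hconst χ hχ g hg]
    · rw [if_neg hg]
      exact psi_regular p M hM a ha g hg
  have hsum := sum_psi p M hM a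
  rw [Finset.sum_congr rfl fun g _ => hval g] at hsum
  rw [← Finset.sum_filter, Finset.sum_const, nsmul_eq_mul] at hsum
  have hcard : (Finset.univ.filter fun g : G => p ∣ orderOf g).card =
      Nat.card {g : G // p ∣ orderOf g} := by
    rw [Nat.card_eq_fintype_card, Fintype.card_subtype]
  rw [hcard, ← hcount] at hsum
  have hN : (Nat.card {g : G // p ∣ orderOf g} : ℂ) ≠ 0 := by
    intro h0
    have h1 : Nat.card {g : G // p ∣ orderOf g} = 0 := by exact_mod_cast h0
    rw [h1, zero_mul] at hcount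
    exact (Nat.card_pos (α := G)).ne hcount
  push_cast at hsum
  exact mul_left_cancel₀ hN hsum

/-- The indicator form. -/
theorem psi_indicator (p : ℕ) [Fact p.Prime] (M : Ideal AlgInt) (hM : IsPModular p M) (a : G)
    (ha : orderOf a = p) (t : ℕ)
    (hconst : ∀ χ ∈ principalBlock M G, ∀ g : G, p ∣ orderOf g → (χ : G → ℂ) g = (χ : G → ℂ) a)
    (hcount : Nat.card {g : G // p ∣ orderOf g} * t = Nat.card G) (g : G)
    [Decidable (p ∣ orderOf g)] :
    ∑ᶠ χ ∈ principalBlock M G, (χ : G → ℂ) a * (χ : G → ℂ) g =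
      if p ∣ orderOf g then (t : ℂ) else 0 := by
  by_cases hg : p ∣ orderOf g
  · rw [if_pos hg, ← psi_norm p M hM a ha t hconst hcount]
    refine finsum_mem_congr rfl fun χ hχ => ?_
    rw [hconst χ hχ g hg]
  · rw [if_neg hg]
    exact psi_regular p M hM a ha g hg

/-- `Ψ(1) = 0`. -/
theorem psi_one (p : ℕ) [Fact p.Prime] (M : Ideal AlgInt) (hM : IsPModular p M) (a : G)
    (ha : orderOf a = p) :
    ∑ᶠ χ ∈ principalBlock M G, (χ : G → ℂ) a * (χ : G → ℂ) 1 = 0 := by
  have hp : p.Prime := Fact.out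
  refine psi_regular p M hM a ha 1 ?_
  rw [orderOf_one]
  exact hp.one_lt.ne' ∘ Nat.dvd_one.1

end Cfsg.Agent.Lib.H18.ZP
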